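import Cfsg.Agent.Lib.Chev.StEquiv
import Cfsg.Agent.Lib.Chev.Presentation.Conj

/-!
Central extensions of Chevalley groups over fields with more than four elements: the commutators of lifts give
elements satisfying the relators (R1), (R2).
-/

set_option autoImplicit false
set_option linter.unusedSectionVars false

namespace Cfsg.Lib.Chev

open Cfsg.Lie
open scoped commutatorElement

variable {D : ChevalleyDatum} {T : Tbl} {F : Type*} [Field F] {E : Type*} [Group E]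

section FieldFacts

variable (hF : ∃ s : Finset F, 4 < s.card)
include hF

theorem exists_avoid (a b c d : F) : ∃ x : F, x ≠ a ∧ x ≠ b ∧ x ≠ c ∧ x ≠ d := by
  classical
  obtain ⟨s, hs⟩ := hF
  by_contra h
  push Not at h
  have h4 : ({a, b, c, d} : Finset F).card ≤ 4 := Finset.card_le_four
  have : s.card ≤ ({a, b, c, d} : Finset F).card := Finset.card_le_card fun x _ => by
    simp only [Finset.mem_insert, Finset.mem_singleton]
    by_cases h1 : x = a; · exact Or.inl h1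
    by_cases h2 : x = b; · exact Or.inr (Or.inl h2)
    by_cases h3 : x = c; · exact Or.inr (Or.inr (Or.inl h3))
    exact Or.inr (Or.inr (Or.inr (h x h1 h2 h3)))
  omega

theorem exists_good_x : ∃ x : F, x ≠ 0 ∧ 1 + x ≠ 0 ∧ x ^ 2 + x + 1 ≠ 0 := by
  by_cases h : ∃ w : F, w ^ 2 + w + 1 = 0
  · obtain ⟨w, hw⟩ := h
    obtain ⟨x, h1, h2, h3, h4⟩ := exists_avoid hF 0 (-1) w (-1 - w)
    refine ⟨x, h1, fun e => h2 (by linear_combination e), fun e => ?_⟩
    have : (x - w) * (x - (-1 - w)) = 0 := by linear_combination e - hw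
    rcases mul_eq_zero.1 this with e' | e'
    · exact h3 (sub_eq_zero.1 e')
    · exact h4 (sub_eq_zero.1 e')
  · push Not at h
    obtain ⟨x, h1, h2, -, -⟩ := exists_avoid hF 0 (-1) 0 0
    exact ⟨x, h1, fun e => h2 (by linear_combination e), h x⟩

theorem exists_pow_ne {e : ℤ} (h1 : e ≠ 0) (h3 : e.natAbs ≤ 3) : ∃ v : F, v ≠ 0 ∧ v ^ e ≠ 1 := by
  have main : ∃ v : F, v ≠ 0 ∧ v ^ 2 ≠ 1 ∧ v ^ 3 ≠ 1 ∨ v ≠ 0 ∧ v ^ 2 ≠ 1 ∧ e.natAbs ≤ 2 ∨
      v ≠ 0 ∧ v ^ 3 ≠ 1 ∧ e.natAbs = 3 := by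
    by_cases h : ∃ w : F, w ^ 2 + w + 1 = 0
    · obtain ⟨w, hw⟩ := h
      rcases Nat.lt_or_ge e.natAbs 3 with h' | h'
      · obtain ⟨v, a1, a2, a3, -⟩ := exists_avoid hF 0 1 (-1) 0
        exact ⟨v, Or.inr (Or.inl ⟨a1, fun e => by rcases sq_eq_one_iff.1 e with e | e <;> contradiction, by omega⟩)⟩
      · obtain ⟨v, a1, a2, a3, a4⟩ := exists_avoid hF 0 1 w (-1 - w)
        refine ⟨v, Or.inr (Or.inr ⟨a1, fun e => ?_, by omega⟩)⟩
        have : (v - 1) * ((v - w) * (v - (-1 - w))) = 0 := by linear_combination e - (v - 1) * hw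
        rcases mul_eq_zero.1 this with e' | e'
        · exact a2 (sub_eq_zero.1 e')
        · rcases mul_eq_zero.1 e' with e'' | e''
          · exact a3 (sub_eq_zero.1 e'')
          · exact a4 (sub_eq_zero.1 e'')
    · push Not at h
      obtain ⟨v, a1, a2, a3, -⟩ := exists_avoid hF 0 1 (-1) 0
      refine ⟨v, Or.inl ⟨a1, fun e => by rcases sq_eq_one_iff.1 e with e | e <;> contradiction, fun e => ?_⟩⟩
      have : (v - 1) * (v ^ 2 + v + 1) = 0 := by linear_combination e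
      exact (mul_ne_zero (sub_ne_zero.2 a2) (h v)) this
  obtain ⟨v, hv⟩ := main
  have hv0 : v ≠ 0 := by rcases hv with ⟨h, -⟩ | ⟨h, -⟩ | ⟨h, -⟩ <;> exact h
  refine ⟨v, hv0, fun hc => ?_⟩
  have hn : v ^ e.natAbs = 1 := by
    rcases Int.natAbs_eq e with he | he <;> rw [he] at hc
    · rwa [zpow_natCast] at hc
    · rwa [zpow_neg, inv_eq_one, zpow_natCast] at hc
  have he0 : e.natAbs ≠ 0 := by omega
  rcases hv with ⟨-, a, b⟩ | ⟨-, a, b⟩ | ⟨-, a, b⟩ <;> interval_cases hk : e.natAbs <;> simp_all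

end FieldFacts

/-- A map to the matrix group with central kernel and with every root element in its image. -/
structure CentExt (C : Cert D T) (F : Type*) [Field F] (E : Type*) [Group E] where
  /-- The map. -/
  p : E →* GL D.Idx F
  central : p.ker ≤ Subgroup.center E
  mem_range : ∀ r t, xg C r t ∈ p.range

namespace CentExt

variable {C : Cert D T} (P : CentExt C F E)

theorem mem_center {z : E} (h : P.p z = 1) : z ∈ Subgroup.center E := P.central h

theorem conj_eq {a a' b : E} (h : P.p a = P.p a') : a * b * a⁻¹ = a' * b * a'⁻¹ := by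
  have hz := Subgroup.mem_center_iff.1 (P.mem_center (show P.p (a'⁻¹ * a) = 1 by
    rw [map_mul, map_inv, h, inv_mul_cancel])) b
  calc a * b * a⁻¹ = a' * ((a'⁻¹ * a) * b) * a⁻¹ := by group
    _ = a' * (b * (a'⁻¹ * a)) * a⁻¹ := by rw [hz]
    _ = _ := by group

theorem comm_eq {a a' b b' : E} (h : P.p a = P.p a') (h' : P.p b = P.p b') : ⁅a, b⁆ = ⁅a', b'⁆ := by
  have e1 : ⁅a, b⁆ = ⁅a', b⁆ := by rw [commutatorElement_def, commutatorElement_def, P.conj_eq h]
  have e2 : ⁅b, a'⁆ = ⁅b', a'⁆ := by rw [commutatorElement_def, commutatorElement_def, P.conj_eq h']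
  rw [e1, ← commutatorElement_inv b a', e2, commutatorElement_inv]

theorem p_conj_comm {g a b : E} : g * ⁅a, b⁆ * g⁻¹ = ⁅g * a * g⁻¹, g * b * g⁻¹⁆ := by
  simp only [commutatorElement_def]; group

theorem range_hg {r : ℕ} (v : F) : hg C r v ∈ P.p.range := by
  simp only [hg, ng]
  exact mul_mem (mul_mem (mul_mem (P.mem_range _ _) (P.mem_range _ _)) (P.mem_range _ _))
    (mul_mem (mul_mem (P.mem_range _ _) (P.mem_range _ _)) (P.mem_range _ _))

/-- An element over `h_r (v)`. -/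
noncomputable def hL (r : ℕ) (v : F) : E := (P.range_hg (r := r) v).choose

theorem p_hL (r : ℕ) (v : F) : P.p (P.hL r v) = hg C r v := (P.range_hg (r := r) v).choose_spec

/-- An element over `x_r (t)`. -/
noncomputable def xL (r : ℕ) (t : F) : E := (P.mem_range r t).choose

theorem p_xL (r : ℕ) (t : F) : P.p (P.xL r t) = xg C r t := (P.mem_range r t).choose_spec

/-- An element acts on a root subgroup through a multiplier. -/
def Act (g : E) (r : ℕ) (c : F) : Prop := ∀ t : F, P.p g * xg C r t * (P.p g)⁻¹ = xg C r (c * t)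

theorem Act.one (r : ℕ) : P.Act 1 r 1 := fun t => by simp

variable {P}

theorem Act.mul {g g' : E} {r : ℕ} {c c' : F} (h : P.Act g r c) (h' : P.Act g' r c') : P.Act (g * g') r (c * c') :=
  fun t => by
    rw [map_mul, show P.p g * P.p g' * xg C r t * (P.p g * P.p g')⁻¹ =
      P.p g * (P.p g' * xg C r t * (P.p g')⁻¹) * (P.p g)⁻¹ by group, h', h, mul_assoc]

theorem Act.inv {g : E} {r : ℕ} {c : F} (hc : c ≠ 0) (h : P.Act g r c) : P.Act g⁻¹ r c⁻¹ := fun t => by
  have := h (c⁻¹ * t)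
  rw [← mul_assoc, mul_inv_cancel₀ hc, one_mul] at this
  rw [map_inv, inv_inv, ← this]; group

theorem Act.pow {g : E} {r : ℕ} {c : F} (h : P.Act g r c) : ∀ n : ℕ, P.Act (g ^ n) r (c ^ n)
  | 0 => by rw [pow_zero, pow_zero]; exact Act.one P r
  | n + 1 => by rw [pow_succ, pow_succ]; exact (h.pow n).mul h

theorem Act.zpow {g : E} {r : ℕ} {c : F} (hc : c ≠ 0) (h : P.Act g r c) : ∀ n : ℤ, P.Act (g ^ n) r (c ^ n)
  | .ofNat n => by simpa using h.pow n
  | .negSucc n => by simpa [zpow_negSucc, inv_pow] using (h.inv hc).pow (n + 1)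

variable (P)

theorem act_coroot {r : ℕ} (hr : r < D.nroots) {v : F} (hv : v ≠ 0) : P.Act (P.hL r v) r (v ^ 2) := fun t => by
  rw [P.p_hL, hg_conj_xg C hr hv]

theorem act_simple {i : ℕ} (hi : i < D.rank) {r : ℕ} (hr : r < D.nroots) {v : F} (hv : v ≠ 0) :
    P.Act (P.hL (T.simp' i) v) r (v ^ T.cartan i r) := fun t => by
  rw [P.p_hL, hg_simple_conj C hi hr hv]

theorem tor_hL {r : ℕ} (hr : r < D.nroots) {v : F} (hv : v ≠ 0) : P.p (P.hL r v) ∈ D.diagonalSubgroup F := by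
  rw [P.p_hL]; exact hg_mem C hr hv

/-- The element of the central extension for a root. -/
noncomputable def X (v : F) (r : ℕ) (t : F) : E := ⁅P.hL r v, P.xL r (t / (v ^ 2 - 1))⁆

variable {v : F} (hv0 : v ≠ 0) (hv : v ^ 2 ≠ 1)
include hv0 hv

theorem p_X {r : ℕ} (hr : r < D.nroots) (t : F) : P.p (P.X v r t) = xg C r t := by
  have hd : v ^ 2 - 1 ≠ 0 := sub_ne_zero.2 hv
  rw [X, commutatorElement_def, map_mul, map_mul, map_mul, map_inv, map_inv, P.p_hL, P.p_xL,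
    hg_conj_xg C hr hv0, xg_inv, xg_add]
  congr 1
  field_simp
  ring

theorem conj_X {r : ℕ} (hr : r < D.nroots) {g : E} (hg : P.p g ∈ D.diagonalSubgroup F) {c : F} (h : P.Act g r c)
    (t : F) : g * P.X v r t * g⁻¹ = P.X v r (c * t) := by
  rw [X, p_conj_comm]
  refine P.comm_eq ?_ ?_
  · rw [map_mul, map_mul, map_inv, diag_comm C hg (P.tor_hL hr hv0), mul_inv_cancel_right]
  · rw [map_mul, map_mul, map_inv, P.p_xL, P.p_xL, h, mul_div_assoc]

theorem B_invariant {r : ℕ} (hr : r < D.nroots) {g : E} (hg : P.p g ∈ D.diagonalSubgroup F) {c : F}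
    (h : P.Act g r c) (t u : F) : ⁅P.X v r (c * t), P.X v r (c * u)⁆ = ⁅P.X v r t, P.X v r u⁆ := by
  rw [← P.conj_X hv0 hv hr hg h, ← P.conj_X hv0 hv hr hg h, ← p_conj_comm]
  have hz : P.p ⁅P.X v r t, P.X v r u⁆ = 1 := by
    rw [commutatorElement_def]; simp only [map_mul, map_inv, P.p_X hv0 hv hr, xg_inv, xg_add]
    rw [show t + u + -t + -u = 0 by ring, xg_zero]
  rw [Subgroup.mem_center_iff.1 (P.mem_center hz) g, mul_inv_cancel_right]

theorem X_commute_of_mult {r : ℕ} (hr : r < D.nroots) {x : F} (hx0 : x ^ 2 + x + 1 ≠ 0)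
    (h1 : ∃ g, P.p g ∈ D.diagonalSubgroup F ∧ P.Act g r x)
    (h2 : ∃ g, P.p g ∈ D.diagonalSubgroup F ∧ P.Act g r (1 + x)) (t u : F) :
    P.X v r t * P.X v r u = P.X v r u * P.X v r t := by
  have hz : ∀ a b, ⁅P.X v r a, P.X v r b⁆ ∈ Subgroup.center E := fun a b => P.mem_center (by
    rw [commutatorElement_def]; simp only [map_mul, map_inv, P.p_X hv0 hv hr, xg_inv, xg_add]
    rw [show a + b + -a + -b = 0 by ring, xg_zero])
  let B : F → F → ↥(Subgroup.center E) := fun a b => ⟨_, hz a b⟩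
  have hadd : ∀ a b c, B a (b + c) = B a b * B a c := fun a b c => Subtype.ext (by
    show ⁅P.X v r a, P.X v r (b + c)⁆ = ⁅P.X v r a, P.X v r b⁆ * ⁅P.X v r a, P.X v r c⁆
    rw [P.comm_eq (a' := P.X v r a) (b' := P.X v r b * P.X v r c) rfl
      (by rw [map_mul, P.p_X hv0 hv hr, P.p_X hv0 hv hr, P.p_X hv0 hv hr, xg_add]),
      show ⁅P.X v r a, P.X v r b * P.X v r c⁆ = ⁅P.X v r a, P.X v r b⁆ *
        (P.X v r b * ⁅P.X v r a, P.X v r c⁆ * (P.X v r b)⁻¹) by simp only [commutatorElement_def]; group,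
      Subgroup.mem_center_iff.1 (hz a c) (P.X v r b), mul_inv_cancel_right])
  have hswap : ∀ a b, B b a = (B a b)⁻¹ := fun a b => Subtype.ext (commutatorElement_inv _ _).symm
  have hadd' : ∀ a b c, B (a + b) c = B a c * B b c := fun a b c => by
    rw [hswap c (a + b), hadd, hswap c a, hswap c b, mul_inv_rev]
    exact Subtype.ext (Subgroup.mem_center_iff.1 ((B c a)⁻¹).2 _)
  obtain ⟨g, hg, hgx⟩ := h1
  obtain ⟨g', hg', hgx'⟩ := h2
  have hB : ∀ a b, B (x * a) (x * b) = B a b := fun a b => Subtype.ext (P.B_invariant hv0 hv hr hg hgx a b)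
  have hB' : ∀ a b, B a (x * b) * B (x * a) b * B a b = 1 := fun a b => by
    have e : B ((1 + x) * a) ((1 + x) * b) = B a b := Subtype.ext (P.B_invariant hv0 hv hr hg' hgx' a b)
    rw [add_mul, add_mul, one_mul, one_mul, hadd', hadd, hadd, hB] at e
    have e' : B a b * (B a (x * b) * B (x * a) b * B a b) = B a b * 1 := by
      rw [mul_one]; simpa [mul_assoc] using e
    exact mul_left_cancel e'
  have key : ∀ b, B t ((x ^ 2 + x + 1) * b) = 1 := fun b => by
    have e := hB' t (x * b)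
    rw [hB] at e
    rw [add_mul, add_mul, one_mul, hadd, hadd, pow_two, mul_assoc x x b]
    rw [← e]; ac_rfl
  have := key (u / (x ^ 2 + x + 1))
  rw [mul_div_cancel₀ _ hx0] at this
  exact commutatorElement_eq_one_iff_mul_comm.1 (congrArg Subtype.val this)

theorem X_commute_of_decomp {k r s : ℕ} (hk : k < D.nroots) (hr : r < D.nroots) (hs : s < D.nroots)
    (K : CommCert D T) {c : ℤ} (hc : (c : F) ≠ 0) (h1 : s ≠ r) (h2 : s ≠ T.neg r) (e : tTerms T r s = [(k, c, 1, 1)])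
    (h3 : r ≠ k ∧ r ≠ T.neg k ∧ tTerms T k r = []) (h4 : s ≠ k ∧ s ≠ T.neg k ∧ tTerms T k s = []) (t u : F) :
    P.X v k t * P.X v k u = P.X v k u * P.X v k t := by
  let A := P.xL r (-(u * (c : F)⁻¹))
  let B := P.xL s 1
  have hfix : ∀ q w, q < D.nroots → (q ≠ k ∧ q ≠ T.neg k ∧ tTerms T k q = []) →
      P.p (P.X v k t * P.xL q w * (P.X v k t)⁻¹) = P.p (P.xL q w) := fun q w hq h => by
    have := comm_xg_terms C K hk hq h.1 h.2.1 t w
    rw [termProd, h.2.2, List.map_nil, List.prod_nil, mul_one] at this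
    rw [map_mul, map_mul, map_inv, P.p_X hv0 hv hk, P.p_xL, ← this, mul_inv_cancel_right]
  have hval : P.p ⁅B⁻¹, A⁻¹⁆ = P.p (P.X v k u) := by
    have := comm_xg_terms C K hr hs h1 h2 (-(u * (c : F)⁻¹)) 1
    rw [termProd, e, List.map_singleton, List.prod_singleton] at this
    rw [commutatorElement_def, inv_inv, inv_inv, P.p_X hv0 hv hk]
    simp only [map_mul, map_inv, A, B, P.p_xL]
    rw [mul_assoc, this]
    have hcu : (c : F) * (- -(u * (c : F)⁻¹)) ^ 1 * (1 : F) ^ 1 = u := by rw [neg_neg]; field_simp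
    rw [hcu]; group
  have hfix' : P.X v k t * ⁅B⁻¹, A⁻¹⁆ * (P.X v k t)⁻¹ = ⁅B⁻¹, A⁻¹⁆ := by
    rw [p_conj_comm]
    refine P.comm_eq ?_ ?_ <;> rw [map_mul, map_mul, map_inv]
    · have h := hfix s 1 hs h4
      rw [map_mul, map_mul, map_inv] at h
      have h5 := congrArg (·⁻¹) h
      simpa [mul_assoc, B] using h5
    · have h := hfix r (-(u * (c : F)⁻¹)) hr h3
      rw [map_mul, map_mul, map_inv] at h
      have h5 := congrArg (·⁻¹) h
      simpa [mul_assoc, A] using h5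
  have hz := Subgroup.mem_center_iff.1 (P.mem_center (show P.p (⁅B⁻¹, A⁻¹⁆⁻¹ * P.X v k u) = 1 by
    rw [map_mul, map_inv, hval, inv_mul_cancel])) (P.X v k t)
  rw [mul_inv_eq_iff_eq_mul] at hfix'
  calc P.X v k t * P.X v k u = P.X v k t * ⁅B⁻¹, A⁻¹⁆ * (⁅B⁻¹, A⁻¹⁆⁻¹ * P.X v k u) := by group
    _ = ⁅B⁻¹, A⁻¹⁆ * (P.X v k t * (⁅B⁻¹, A⁻¹⁆⁻¹ * P.X v k u)) := by rw [hfix', mul_assoc]
    _ = _ := by rw [hz]; group

theorem X_add {r : ℕ} (hr : r < D.nroots) (hcomm : ∀ t u, P.X v r t * P.X v r u = P.X v r u * P.X v r t) (t u : F) :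
    P.X v r t * P.X v r u = P.X v r (t + u) := by
  have hd : v ^ 2 - 1 ≠ 0 := sub_ne_zero.2 hv
  have hdef : ∀ w, P.X v r w = ⁅P.hL r v, P.X v r (w / (v ^ 2 - 1))⁆ := fun w =>
    P.comm_eq rfl (by rw [P.p_xL, P.p_X hv0 hv hr])
  have e1 : P.X v r (t + u) = ⁅P.hL r v, P.X v r (t / (v ^ 2 - 1)) * P.X v r (u / (v ^ 2 - 1))⁆ := by
    rw [hdef (t + u)]
    exact P.comm_eq rfl (by rw [map_mul, P.p_X hv0 hv hr, P.p_X hv0 hv hr, P.p_X hv0 hv hr, xg_add, add_div])
  rw [e1, show ⁅P.hL r v, P.X v r (t / (v ^ 2 - 1)) * P.X v r (u / (v ^ 2 - 1))⁆ =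
    ⁅P.hL r v, P.X v r (t / (v ^ 2 - 1))⁆ * (P.X v r (t / (v ^ 2 - 1)) *
      ⁅P.hL r v, P.X v r (u / (v ^ 2 - 1))⁆ * (P.X v r (t / (v ^ 2 - 1)))⁻¹) by simp only [commutatorElement_def]; group,
    ← hdef, ← hdef, hcomm (t / (v ^ 2 - 1)) u, mul_inv_cancel_right]

end CentExt

end Cfsg.Lib.Chev
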