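import Cfsg.Prelude.Def_KGroupFacts
import Cfsg.Agent.Lib.Chev.StCentral

/-! Central extensions of perfect groups, and the passage from lifted relators to Schur multipliers. -/

set_option autoImplicit false
set_option linter.unusedSectionVars false

namespace Cfsg.Lib.Chev

open Cfsg.Lie
open scoped commutatorElement

section Perfect

variable {X Y Q : Type*} [Group X] [Group Y] [Group Q]

theorem comm_mul_central {a b z w : X} (hz : z ∈ Subgroup.center X) (hw : w ∈ Subgroup.center X) :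
    ⁅a * z, b * w⁆ = ⁅a, b⁆ := by
  have h1 : z * b = b * z := (Subgroup.mem_center_iff.1 hz b).symm
  have h2 : z * w * z⁻¹ = w := by rw [← Subgroup.mem_center_iff.1 hz w, mul_inv_cancel_right]
  have h3 : w * a⁻¹ * w⁻¹ = a⁻¹ := by rw [← Subgroup.mem_center_iff.1 hw a⁻¹, mul_inv_cancel_right]
  rw [commutatorElement_def, commutatorElement_def]
  calc a * z * (b * w) * (a * z)⁻¹ * (b * w)⁻¹ = a * (z * b) * w * z⁻¹ * a⁻¹ * w⁻¹ * b⁻¹ := by group
    _ = a * b * (z * w * z⁻¹) * a⁻¹ * w⁻¹ * b⁻¹ := by rw [h1]; group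
    _ = a * b * (w * a⁻¹ * w⁻¹) * b⁻¹ := by rw [h2]; group
    _ = _ := by rw [h3]

theorem eq_of_central_diff (f g : X →* Y) (h : ∀ x, (f x)⁻¹ * g x ∈ Subgroup.center Y) (hp : commutator X = ⊤) :
    f = g := by
  have hz : ∀ x, ∃ z ∈ Subgroup.center Y, g x = f x * z := fun x => ⟨_, h x, by group⟩
  have hc : commutator X ≤ f.eqLocus g := by
    rw [commutator_eq_closure, Subgroup.closure_le]
    rintro _ ⟨a, b, rfl⟩
    obtain ⟨z, hzc, ha⟩ := hz a
    obtain ⟨w, hwc, hb⟩ := hz b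
    show f ⁅a, b⁆ = g ⁅a, b⁆
    rw [map_commutatorElement, map_commutatorElement, ha, hb, comm_mul_central hzc hwc]
  rw [hp] at hc
  exact MonoidHom.ext fun x => hc (Subgroup.mem_top x)

/-- A central extension of a perfect group: elements over central elements are central. -/
theorem central_of_over_central (π : X →* Q) (hπ : Function.Surjective π) (hk : π.ker ≤ Subgroup.center X)
    (hp : commutator Q = ⊤) {z : X} (hz : π z ∈ Subgroup.center Q) : z ∈ Subgroup.center X := by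
  have hcomm : ∀ e, ⁅z, e⁆ ∈ π.ker := fun e => by
    rw [MonoidHom.mem_ker, map_commutatorElement, commutatorElement_eq_one_iff_mul_comm]
    exact (Subgroup.mem_center_iff.1 hz _).symm
  let φ : X →* X := (MulAut.conj z).toMonoidHom
  have hφ : ∀ e ∈ commutator X, φ e = e := by
    intro e he
    have : commutator X ≤ φ.eqLocus (MonoidHom.id X) := by
      rw [commutator_eq_closure, Subgroup.closure_le]
      rintro _ ⟨a, b, rfl⟩
      show φ ⁅a, b⁆ = ⁅a, b⁆
      rw [map_commutatorElement]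
      have hc : ∀ a, ∃ w ∈ Subgroup.center X, φ a = a * w := fun a => by
        refine ⟨⁅z, a⁆, hk (hcomm a), ?_⟩
        show z * a * z⁻¹ = a * ⁅z, a⁆
        rw [Subgroup.mem_center_iff.1 (hk (hcomm a)) a, commutatorElement_def, inv_mul_cancel_right]
      obtain ⟨w, hw, ha⟩ := hc a
      obtain ⟨w', hw', hb⟩ := hc b
      rw [ha, hb, comm_mul_central hw hw']
    exact this he
  refine Subgroup.mem_center_iff.2 fun e => ?_
  have hmem : π e ∈ (commutator X).map π := by
    have : commutator Q ≤ (commutator X).map π := by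
      rw [commutator_eq_closure, Subgroup.closure_le]
      rintro _ ⟨a, b, rfl⟩
      obtain ⟨a', rfl⟩ := hπ a
      obtain ⟨b', rfl⟩ := hπ b
      exact ⟨⁅a', b'⁆, Subgroup.commutator_mem_commutator (Subgroup.mem_top _) (Subgroup.mem_top _),
        map_commutatorElement _ _ _⟩
    exact this (hp ▸ Subgroup.mem_top _)
  obtain ⟨c, hc, hce⟩ := hmem
  have hk' : c⁻¹ * e ∈ Subgroup.center X := hk (by rw [MonoidHom.mem_ker, map_mul, map_inv, hce, inv_mul_cancel])
  have h1 : φ c = c := hφ c hc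
  have h2 : φ (c⁻¹ * e) = c⁻¹ * e := by
    show z * (c⁻¹ * e) * z⁻¹ = _
    rw [Subgroup.mem_center_iff.1 hk' z, mul_inv_cancel_right]
  have h3 : φ e = e := by
    calc φ e = φ c * φ (c⁻¹ * e) := by rw [← map_mul, mul_inv_cancel_left]
      _ = e := by rw [h1, h2, mul_inv_cancel_left]
  have h4 : z * e * z⁻¹ = e := h3
  exact (mul_inv_eq_iff_eq_mul.1 h4).symm

theorem stem_perfect {σ : X →* Q} (h : Cfsg.IsStemExtension σ) (hp : commutator Q = ⊤) : commutator X = ⊤ := by
  obtain ⟨hs, -, hd⟩ := h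
  refine eq_top_iff.2 fun x _ => ?_
  have : commutator Q ≤ (commutator X).map σ := by
    rw [commutator_eq_closure, Subgroup.closure_le]
    rintro _ ⟨a, b, rfl⟩
    obtain ⟨a', rfl⟩ := hs a
    obtain ⟨b', rfl⟩ := hs b
    exact ⟨⁅a', b'⁆, Subgroup.commutator_mem_commutator (Subgroup.mem_top _) (Subgroup.mem_top _),
      map_commutatorElement _ _ _⟩
  obtain ⟨c, hc, hce⟩ := this (hp ▸ Subgroup.mem_top (σ x))
  have hk : c⁻¹ * x ∈ commutator X := hd (by rw [MonoidHom.mem_ker, map_mul, map_inv, hce, inv_mul_cancel])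
  simpa using mul_mem hc hk

theorem top_of_stem {σ : X →* Q} (h : Cfsg.IsStemExtension σ) (hp : commutator Q = ⊤) {H : Subgroup X}
    (hH : H.map σ = ⊤) : H = ⊤ := by
  have hsup : H ⊔ σ.ker = ⊤ := by
    refine eq_top_iff.2 fun x _ => ?_
    obtain ⟨y, hy, hyx⟩ : σ x ∈ H.map σ := hH ▸ Subgroup.mem_top _
    have : x = y * (y⁻¹ * x) := by group
    rw [this]
    exact Subgroup.mul_mem_sup hy (by rw [MonoidHom.mem_ker, map_mul, map_inv, hyx, inv_mul_cancel])
  refine eq_top_iff.2 ((stem_perfect h hp).ge.trans ?_)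
  rw [commutator_eq_closure, Subgroup.closure_le]
  rintro _ ⟨a, b, rfl⟩
  have hc : ∀ x : X, ∃ y ∈ H, ∃ w ∈ Subgroup.center X, x = y * w := fun x => by
    obtain ⟨y, hy, hyx⟩ : σ x ∈ H.map σ := hH ▸ Subgroup.mem_top _
    exact ⟨y, hy, y⁻¹ * x, h.2.1 (by rw [MonoidHom.mem_ker, map_mul, map_inv, hyx, inv_mul_cancel]), by group⟩
  obtain ⟨a', ha', w, hw, rfl⟩ := hc a
  obtain ⟨b', hb', w', hw', rfl⟩ := hc b
  have e : ⁅a' * w, b' * w'⁆ = ⁅a', b'⁆ := comm_mul_central hw hw'
  rw [SetLike.mem_coe, e, commutatorElement_def]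
  exact mul_mem (mul_mem (mul_mem ha' hb') (inv_mem ha')) (inv_mem hb')

universe u

theorem trivial_multiplier {G : Type u} [Group G] [Finite G]
    (h : ∀ (Γ : Type u) [Group Γ] [Finite Γ] (σ : Γ →* G), Cfsg.IsStemExtension σ → σ.ker = ⊥) :
    Cfsg.HasCyclicSchurMultiplier G 1 := by
  have hid : (MonoidHom.id G).ker = ⊥ := (MonoidHom.ker_eq_bot_iff _).2 fun _ _ e => e
  refine ⟨⟨G, inferInstance, inferInstance, MonoidHom.id G, ⟨fun x => ⟨x, rfl⟩, hid.trans_le bot_le, hid.trans_le bot_le⟩,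
    ⟨?_⟩⟩, fun Γ _ _ σ hσ => ⟨1, fun x => ⟨1, ?_⟩⟩⟩
  · haveI : Subsingleton (Multiplicative (ZMod 1)) := inferInstanceAs (Subsingleton (ZMod 1))
    haveI : Subsingleton ↥(MonoidHom.id G).ker := by rw [hid]; infer_instance
    exact { toFun := fun _ => 1, invFun := fun _ => 1, left_inv := fun _ => Subsingleton.elim _ _,
            right_inv := fun _ => Subsingleton.elim _ _, map_mul' := fun _ _ => Subsingleton.elim _ _ }
  · have hx : (x : Γ) = 1 := Subgroup.mem_bot.1 (h Γ σ hσ ▸ x.2)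
    exact Subtype.ext hx.symm

end Perfect

section Fam

variable {D : ChevalleyDatum} {T : Tbl} {F : Type*} [Field F] {C : Cert D T} {E : Type*} [Group E] (Φ : StAll C F E)

theorem lift_fam {r : ℕ} (hr : r < D.nroots) (t : F) :
    FreeGroup.lift (fun p : Fin D.nroots × F => Φ.X p.1 p.2) (D.stX r t) = Φ.X r t := by
  rw [ChevalleyDatum.stX, dif_pos hr]; exact FreeGroup.lift_apply_of

theorem fam_relsAB : ∀ g ∈ D.steinbergRelsAB F,
    FreeGroup.lift (fun p : Fin D.nroots × F => Φ.X p.1 p.2) g = 1 := by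
  rintro g (⟨r, t₁, t₂, hr, rfl⟩ | ⟨r, s, t, u, hr, hs, h1, h2, rfl⟩)
  · rw [map_mul, map_mul, map_inv, lift_fam Φ hr, lift_fam Φ hr, lift_fam Φ hr, Φ.add r hr, mul_inv_cancel]
  · rw [C.spec.shape.neg_eq r hr] at h2
    rw [map_mul, map_mul, map_mul, map_mul, map_inv, map_inv, map_inv, lift_fam Φ hr, lift_fam Φ hs, hom_stWord,
      ChevalleyDatum.commWord, commTerms_eq C hr hs, List.map_map]
    have : List.map ((fun p : ℕ × F => FreeGroup.lift (fun p : Fin D.nroots × F => Φ.X p.1 p.2) (D.stX p.1 p.2)) ∘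
        fun c : ℕ × ℤ × ℕ × ℕ => (c.1, (c.2.1 : F) * (-t) ^ c.2.2.1 * u ^ c.2.2.2)) (tTerms T r s) =
        (tTerms T r s).map fun c => Φ.X c.1 ((c.2.1 : F) * (-t) ^ c.2.2.1 * u ^ c.2.2.2) :=
      List.map_congr_left fun c hc => lift_fam Φ (tTerms_lt C hr hs c hc).1 _
    rw [this]
    change (Φ.X s u)⁻¹ * (Φ.X r t)⁻¹ * Φ.X s u * Φ.X r t * (termProd T Φ.X r s t u)⁻¹ = 1
    rw [mul_assoc _ (Φ.X s u), Φ.comm r hr s hs h1 h2]
    group

/-- The homomorphism from the group presented by (R1), (R2). -/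
noncomputable def famHom : D.SteinbergCover F →* E := PresentedGroup.toGroup (fam_relsAB Φ)

theorem proj_famHom (K : CommCert D T) :
    Φ.proj.comp (famHom Φ) = presProj C K (rels := D.steinbergRelsAB F) relsAB_subset := by
  refine PresentedGroup.ext fun p => ?_
  show Φ.proj (famHom Φ (PresentedGroup.of p)) = _
  rw [famHom, PresentedGroup.toGroup.of]
  rw [show PresentedGroup.of p = PresentedGroup.mk (D.steinbergRelsAB F) (FreeGroup.of p) from rfl, presProj_mk,
    FreeGroup.lift_apply_of]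
  exact Φ.map _ p.1.2 _

theorem famHom_range : (famHom Φ).range = Φ.gen {r | r < D.nroots} := by
  refine le_antisymm ?_ ?_
  · rw [MonoidHom.range_eq_map, ← PresentedGroup.closure_range_of, MonoidHom.map_closure, Subgroup.closure_le]
    rintro _ ⟨_, ⟨⟨r, t⟩, rfl⟩, rfl⟩
    rw [famHom, PresentedGroup.toGroup.of]
    exact Φ.mem_gen (R := {r | r < D.nroots}) r.2 t
  · refine (Subgroup.closure_le _).2 ?_
    rintro _ ⟨r, hr, t, rfl⟩
    exact ⟨PresentedGroup.of (⟨r, hr⟩, t), PresentedGroup.toGroup.of _⟩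

end Fam

end Cfsg.Lib.Chev
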