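/-!
Computable sparse models of the matrices attached to a Chevalley table, for kernel-checked identities
between words in root elements. A column is a list of terms `c * t ^ a * u ^ b` at given rows; the rows
`0 .. rank-1` are the toral basis vectors, the rows `rank + s` the root vectors.
-/

set_option autoImplicit false

namespace Cfsg.Lib.Chev

/-- A binary tree of numbers, indexed by the binary digits of the index, lowest digit first. -/
inductive BT where
  | leaf (n : Nat)
  | node (a b : BT)

/-- Lookup. -/
def BT.get : BT → Nat → Nat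
  | .leaf n, _ => n
  | .node a b, i => bif Nat.beq (i % 2) 0 then a.get (i / 2) else b.get (i / 2)

/-- The `i`-th slot of width `w`. -/
def slot (n w i : Nat) : Nat := (n >>> (w * i)) % (2 ^ w)

/-- Packed tables of a datum: `chain` has for each root `r` one slot of `12 * K` bits for each root `s`,
consisting of `K` fields `0` or `u + 256 * (M + 4)`; `cart`, `refl`, `eta` are indexed by fundamental roots,
`cor` by roots. -/
structure Tbl where
  rank : Nat
  nroots : Nat
  width : Nat
  simpleP : Nat
  negP : Nat
  chain : BT
  cart : BT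
  cor : BT
  refl : BT
  eta : BT

namespace Tbl

variable (T : Tbl)

def simp' (i : Nat) : Nat := slot T.simpleP 8 i
def neg (r : Nat) : Nat := slot T.negP 8 r
def cartan (i s : Nat) : Int := (slot (T.cart.get i) 4 s : Int) - 8
def coroot (r i : Nat) : Int := (slot (T.cor.get r) 4 i : Int) - 8
def refl' (i s : Nat) : Nat := slot (T.refl.get i) 8 s
def eta' (i s : Nat) : Int := bif Nat.beq (slot (T.eta.get i) 1 s) 1 then -1 else 1

/-- The fields of the chain through `s`: pairs (root, coefficient). -/
def fields (v : Nat) : Nat → List (Nat × Int)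
  | 0 => []
  | k + 1 => bif Nat.beq (v % 4096) 0 then [] else (v % 256, (v % 4096 / 256 : Nat) - (4 : Int)) :: fields (v / 4096) k

/-- The chain entry for `(r, s)`. -/
def entry (r s : Nat) : List (Nat × Int) := fields (slot (T.chain.get r) (12 * T.width) s) T.width

end Tbl

/-- A term `c * t ^ a * u ^ b` in the row `row`. -/
structure Trm where
  row : Nat
  c : Int
  a : Int
  b : Int

/-- A monomial `c * t ^ a * u ^ b`. -/
structure Mono where
  c : Int
  a : Int
  b : Int

def Mono.mul (x y : Mono) : Mono := ⟨x.c * y.c, x.a + y.a, x.b + y.b⟩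

/-- Product of two sums of monomials. -/
def pmul (p q : List Mono) : List Mono := p.flatMap fun x => q.map fun y => x.mul y

/-- Powers of a sum of monomials. -/
def ppow (p : List Mono) : Nat → List Mono
  | 0 => [⟨1, 0, 0⟩]
  | k + 1 => pmul (ppow p k) p

/-- Place a sum of monomials, scaled by an integer, into a row. -/
def place (row : Nat) (z : Int) (p : List Mono) : List Trm := p.map fun x => ⟨row, z * x.c, x.a, x.b⟩

/-- `f c` for each element `c` of a list together with its position. -/
def eachIdx {α β : Type} (f : Nat → α → List β) : Nat → List α → List β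
  | _, [] => []
  | k, x :: l => f k x ++ eachIdx f (k + 1) l

/-- A column of the root element `x_r(p)`. -/
def xCol (T : Tbl) (r : Nat) (p : List Mono) (col : Nat) : List Trm :=
  bif Nat.blt col T.rank then
    ⟨col, 1, 0, 0⟩ :: place (T.rank + r) (-T.cartan col r) p
  else
    let s := col - T.rank
    bif Nat.blt s T.nroots then
      bif Nat.beq s r then [⟨col, 1, 0, 0⟩]
      else bif Nat.beq s (T.neg r) then
        ⟨col, 1, 0, 0⟩ :: ((List.range T.rank).flatMap fun i => place i (T.coroot r i) p) ++
          place (T.rank + r) (-1) (ppow p 2)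
      else ⟨col, 1, 0, 0⟩ :: eachIdx (fun k q => place (T.rank + q.1) q.2 (ppow p (k + 1))) 0 (T.entry r s)
    else []

/-- The sign `c ^ A` for a sign `c`. -/
def sgnPow (c A : Int) : Int := bif Nat.beq (A.natAbs % 2) 0 then 1 else c

/-- A column of `n_i(c * t ^ a * u ^ b)` for a sign `c`, a monomial matrix. -/
def nCol (T : Tbl) (i : Nat) (m : Mono) (col : Nat) : List Trm :=
  bif Nat.blt col T.rank then
    [⟨col, 1, 0, 0⟩, ⟨i, -T.cartan col (T.simp' i), 0, 0⟩]
  else
    let s := col - T.rank
    bif Nat.blt s T.nroots then
      let A := T.cartan i s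
      [⟨T.rank + T.refl' i s, T.eta' i s * sgnPow m.c A, -A * m.a, -A * m.b⟩]
    else []

/-- A column of the diagonal matrix `h_i(c * t ^ a * u ^ b)` for a sign `c`. -/
def dCol (T : Tbl) (i : Nat) (m : Mono) (col : Nat) : List Trm :=
  bif Nat.blt col T.rank then [⟨col, 1, 0, 0⟩]
  else
    let s := col - T.rank
    bif Nat.blt s T.nroots then
      let A := T.cartan i s
      [⟨col, sgnPow m.c A, A * m.a, A * m.b⟩]
    else []

/-- Letters. -/
inductive Ltr where
  | x (r : Nat) (p : List Mono)
  | n (i : Nat) (m : Mono)
  | d (i : Nat) (m : Mono)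

def Ltr.col (T : Tbl) : Ltr → Nat → List Trm
  | .x r p => xCol T r p
  | .n i m => nCol T i m
  | .d i m => dCol T i m

/-- Apply a letter to a vector. -/
def applyLtr (T : Tbl) (L : Ltr) (v : List Trm) : List Trm :=
  v.flatMap fun x => (L.col T x.row).map fun y => ⟨y.row, x.c * y.c, x.a + y.a, x.b + y.b⟩

/-- Add a term, merging equal keys. -/
def insTrm (x : Trm) : List Trm → List Trm
  | [] => [x]
  | y :: l => bif Nat.beq x.row y.row && decide (x.a = y.a) && decide (x.b = y.b) then
      ⟨y.row, x.c + y.c, y.a, y.b⟩ :: l else y :: insTrm x l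

/-- Merge. -/
def norm : List Trm → List Trm
  | [] => []
  | x :: l => insTrm x (norm l)

/-- All coefficients vanish. -/
def allZero (v : List Trm) : Bool := (norm v).all fun x => decide (x.c = 0)

/-- The image of a basis vector under a word. -/
def wordCol (T : Tbl) : List Ltr → Nat → List Trm
  | [], col => [⟨col, 1, 0, 0⟩]
  | L :: w, col => applyLtr T L (wordCol T w col)

/-- The negative of a vector. -/
def negV (v : List Trm) : List Trm := v.map fun x => ⟨x.row, -x.c, x.a, x.b⟩

/-- Two words have the same matrix. -/
def sameWord (T : Tbl) (w₁ w₂ : List Ltr) : Bool :=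
  (List.range (T.rank + T.nroots)).all fun col => allZero (wordCol T w₁ col ++ negV (wordCol T w₂ col))

end Cfsg.Lib.Chev
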