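import Mathlib
import Cfsg.Prelude.Def_ChevStructure
import Cfsg.Agent.Lib.Chev.Sparse

/-!
The meaning of the sparse models: agreement of a packed table with a Chevalley datum, and soundness of
the word comparison `sameWord`.
-/

set_option autoImplicit false

namespace Cfsg.Lib.Chev

open Cfsg.Lie
open scoped Matrix

/-- The packed tables describe the datum. -/
structure Shape (D : ChevalleyDatum) (T : Tbl) : Prop where
  rank_eq : T.rank = D.rank
  nroots_eq : T.nroots = D.nroots
  simple_eq : ∀ i < D.rank, D.simple i = T.simp' i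
  neg_eq : ∀ r < D.nroots, D.neg r = T.neg r
  cartan_eq : ∀ i < D.rank, ∀ s < D.nroots, D.cartan i s = T.cartan i s
  coroot_eq : ∀ r < D.nroots, ∀ i < D.rank, (D.coroot.getD r #[]).getD i 0 = T.coroot r i
  refl_eq : ∀ i < D.rank, ∀ s < D.nroots, D.reflectRoot i s = T.refl' i s
  chain_eq : ∀ r < D.nroots, ∀ s < D.nroots,
    ((D.chain.getD r #[]).toList.filter (fun e => e.1 = s)).map (fun e => (e.1, e.2.toList)) =
      if T.entry r s = [] then [] else [(s, T.entry r s)]

variable {D : ChevalleyDatum} {T : Tbl}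

theorem Shape.chainEntry_eq (S : Shape D T) {r s : ℕ} (hr : r < D.nroots) (hs : s < D.nroots) :
    D.chainEntry r s = T.entry r s := by
  have h := S.chain_eq r hr s hs
  unfold ChevalleyDatum.chainEntry
  generalize (D.chain.getD r #[]).toList = L at h ⊢
  rw [← List.head?_filter]
  rcases hl : L.filter (fun e => decide (e.1 = s)) with _ | ⟨e, l⟩
  · rw [hl] at h ⊢
    split_ifs at h with h'
    · rw [h']; rfl
    · simp at h
  · rw [hl] at h ⊢
    split_ifs at h with h'
    · simp at h
    · simp only [List.map_cons, List.cons.injEq, Prod.mk.injEq] at h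
      exact h.1.2

theorem Shape.chainCoeff_eq (S : Shape D T) {r s : ℕ} (hr : r < D.nroots) (hs : s < D.nroots) (u : ℕ) :
    D.chainCoeff r s u = ((T.entry r s).zipIdx.filter fun q => decide (q.1.1 = u)).map fun q => (q.2 + 1, q.1.2) := by
  have h := S.chain_eq r hr s hs
  unfold ChevalleyDatum.chainCoeff
  generalize (D.chain.getD r #[]).toList = L at h ⊢
  rcases hl : L.filter (fun e => decide (e.1 = s)) with _ | ⟨e, l⟩
  · rw [hl] at h ⊢
    split_ifs at h with h'
    · rw [h']; rfl
    · simp at h
  · rw [hl] at h ⊢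
    split_ifs at h with h'
    · simp at h
    · simp only [List.map_cons, List.cons.injEq, Prod.mk.injEq, List.map_eq_nil_iff] at h
      rw [h.2, List.flatMap_cons, List.flatMap_nil, List.append_nil, h.1.2]

/-- The position of a basis vector. -/
def enc : D.Idx → ℕ
  | Sum.inl i => i.val
  | Sum.inr s => D.rank + s.val

theorem enc_injective : Function.Injective (enc (D := D)) := by
  rintro (⟨i, hi⟩ | ⟨i, hi⟩) (⟨j, hj⟩ | ⟨j, hj⟩) h <;> simp only [enc] at h
  · simp [h]
  · exfalso; omega
  · exfalso; omega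
  · simp [Nat.add_left_cancel h]

theorem enc_lt (j : D.Idx) : enc j < D.rank + D.nroots := by
  rcases j with ⟨i, hi⟩ | ⟨i, hi⟩ <;> simp only [enc] <;> omega

theorem exists_enc {k : ℕ} (hk : k < D.rank + D.nroots) : ∃ j : D.Idx, enc j = k := by
  by_cases h : k < D.rank
  · exact ⟨Sum.inl ⟨k, h⟩, rfl⟩
  · exact ⟨Sum.inr ⟨k - D.rank, by omega⟩, by simp [enc]; omega⟩

variable {F : Type*} [Field F] (t u : F)

/-- The value of a monomial. -/
def Mono.val (x : Mono) : F := (x.c : F) * t ^ x.a * u ^ x.b

/-- The value of a sum of monomials. -/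
def pval (p : List Mono) : F := (p.map (Mono.val t u)).sum

/-- The value of a term. -/
def Trm.val (x : Trm) : F := (x.c : F) * t ^ x.a * u ^ x.b

/-- The vector given by a list of terms. -/
def vec (D : ChevalleyDatum) (v : List Trm) : D.Idx → F :=
  fun j => (v.map fun x => if x.row = enc j then x.val t u else 0).sum

/-- The coefficient of a monomial matrix `n_i(v)`. -/
def nModel (T : Tbl) (D : ChevalleyDatum) (i : ℕ) (v : F) : Matrix D.Idx D.Idx F :=
  Matrix.of fun row col =>
    match col with
    | Sum.inl j =>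
      (match row with
       | Sum.inl i' => (if i' = j then (1 : F) else 0) - (if (i' : ℕ) = i then ((T.cartan j (T.simp' i) : ℤ) : F) else 0)
       | Sum.inr _ => 0)
    | Sum.inr s =>
      (match row with
       | Sum.inl _ => 0
       | Sum.inr w => if (w : ℕ) = T.refl' i s then ((T.eta' i s : ℤ) : F) * v ^ (-T.cartan i s) else 0)

/-- The diagonal matrix `h_i(v)`. -/
def dModel (T : Tbl) (D : ChevalleyDatum) (i : ℕ) (v : F) : Matrix D.Idx D.Idx F :=
  Matrix.diagonal (Sum.elim (fun _ => (1 : F)) fun s => v ^ T.cartan i s)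

/-- The matrix of a letter. -/
def Ltr.mat (T : Tbl) (D : ChevalleyDatum) : Ltr → Matrix D.Idx D.Idx F
  | .x r p => D.x F r (pval t u p)
  | .n i m => nModel T D i (m.val t u)
  | .d i m => dModel T D i (m.val t u)

/-- Admissible letters. -/
def Ltr.ok (D : ChevalleyDatum) : Ltr → Prop
  | .x r _ => r < D.nroots
  | .n i m => i < D.rank ∧ (m.c = 1 ∨ m.c = -1)
  | .d i m => i < D.rank ∧ (m.c = 1 ∨ m.c = -1)

/-- The matrix of a word. -/
def wmat (T : Tbl) (D : ChevalleyDatum) (w : List Ltr) : Matrix D.Idx D.Idx F :=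
  (w.map (Ltr.mat t u T D)).prod

section Algebra

theorem vec_nil : vec t u D [] = 0 := funext fun _ => rfl

theorem vec_append (v w : List Trm) : vec t u D (v ++ w) = vec t u D v + vec t u D w :=
  funext fun j => by simp [vec, List.sum_append]

theorem vec_cons (x : Trm) (v : List Trm) : vec t u D (x :: v) = vec t u D [x] + vec t u D v :=
  vec_append t u [x] v

theorem vec_negV (v : List Trm) : vec t u D (negV v) = -vec t u D v := by
  induction v with
  | nil => simp [negV, vec_nil]
  | cons x v ih =>
    show vec t u D (⟨x.row, -x.c, x.a, x.b⟩ :: negV v) = _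
    rw [vec_cons, ih, vec_cons t u x v, neg_add]
    congr 1
    funext j
    by_cases h : x.row = enc j <;> simp [vec, Trm.val, h]

theorem vec_insTrm (x : Trm) (l : List Trm) : vec t u D (insTrm x l) = vec t u D (x :: l) := by
  induction l with
  | nil => rfl
  | cons y l ih =>
    unfold insTrm
    cases hc : Nat.beq x.row y.row && decide (x.a = y.a) && decide (x.b = y.b)
    · simp only [cond_false]
      rw [vec_cons, ih, vec_cons t u x l, vec_cons t u x (y :: l), vec_cons t u y l]
      abel
    · simp only [cond_true]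
      simp only [Bool.and_eq_true, decide_eq_true_eq, Nat.beq_eq] at hc
      obtain ⟨⟨h1, h2⟩, h3⟩ := hc
      funext j
      by_cases h : y.row = enc j
      · simp [vec, Trm.val, h1, h2, h3, h]
        ring
      · simp [vec, Trm.val, h1, h]

theorem vec_norm (v : List Trm) : vec t u D (norm v) = vec t u D v := by
  induction v with
  | nil => rfl
  | cons x v ih => rw [norm, vec_insTrm, vec_cons, ih, ← vec_cons]

theorem vec_allZero {v : List Trm} (h : allZero v = true) : vec t u D v = 0 := by
  rw [← vec_norm]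
  funext j
  refine List.sum_eq_zero fun z hz => ?_
  obtain ⟨x, hx, rfl⟩ := List.mem_map.1 hz
  have := List.all_eq_true.1 h x hx
  simp only [decide_eq_true_eq] at this
  simp [Trm.val, this]

theorem pval_nil : pval t u [] = (0 : F) := rfl

theorem pval_append (p q : List Mono) : pval t u (p ++ q) = pval t u p + pval t u q := by
  simp [pval, List.sum_append]

theorem pval_single (x : Mono) : pval t u [x] = x.val t u := by simp [pval]

theorem Mono.val_mul (ht : t ≠ 0) (hu : u ≠ 0) (x y : Mono) : (x.mul y).val t u = x.val t u * y.val t u := by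
  simp only [Mono.mul, Mono.val]
  rw [zpow_add₀ ht, zpow_add₀ hu]
  push_cast
  ring

theorem pval_pmul (ht : t ≠ 0) (hu : u ≠ 0) (p q : List Mono) : pval t u (pmul p q) = pval t u p * pval t u q := by
  induction p with
  | nil => simp [pmul, pval]
  | cons x p ih =>
    rw [show pmul (x :: p) q = q.map (fun y => x.mul y) ++ pmul p q from List.flatMap_cons, pval_append, ih]
    have : pval t u (q.map fun y => x.mul y) = x.val t u * pval t u q := by
      simp only [pval, List.map_map]
      rw [← List.sum_map_mul_left]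
      exact congrArg List.sum (List.map_congr_left fun y _ => Mono.val_mul t u ht hu x y)
    rw [this]
    simp [pval]
    ring

theorem pval_ppow (ht : t ≠ 0) (hu : u ≠ 0) (p : List Mono) (k : ℕ) : pval t u (ppow p k) = pval t u p ^ k := by
  induction k with
  | zero => simp [ppow, pval, Mono.val]
  | succ k ih => rw [ppow, pval_pmul t u ht hu, ih, pow_succ]

theorem vec_place (row : ℕ) (z : ℤ) (p : List Mono) :
    vec t u D (place row z p) = fun j => if row = enc j then (z : F) * pval t u p else 0 := by
  funext j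
  induction p with
  | nil => simp [place, vec, pval]
  | cons x p ih =>
    rw [show place row z (x :: p) = ⟨row, z * x.c, x.a, x.b⟩ :: place row z p from rfl, vec_cons]
    simp only [Pi.add_apply, ih]
    by_cases h : row = enc j
    · simp [vec, h, pval, Trm.val, Mono.val]
      ring
    · simp [vec, h]

theorem vec_eachIdx (g : ℕ → ℕ × ℤ → List Trm) (k : ℕ) (l : List (ℕ × ℤ)) (j : D.Idx) :
    vec t u D (eachIdx g k l) j = ((l.zipIdx k).map fun q => vec t u D (g q.2 q.1) j).sum := by
  induction l generalizing k with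
  | nil => simp [eachIdx, vec]
  | cons x l ih => simp [eachIdx, vec_append, ih]

end Algebra

theorem vec_flatMap_range {n : ℕ} (g : ℕ → List Trm) (j : D.Idx) :
    vec t u D ((List.range n).flatMap g) j = ∑ i ∈ Finset.range n, vec t u D (g i) j := by
  induction n with
  | zero => simp [vec]
  | succ n ih => rw [List.range_succ, List.flatMap_append, vec_append, Pi.add_apply, ih, Finset.sum_range_succ]; simp

theorem sum_filter_zipIdx (l : List (ℕ × ℤ)) (k w : ℕ) (g : ℕ → ℤ → F) :
    ((((l.zipIdx k).filter fun q => decide (q.1.1 = w)).map fun q => (q.2 + 1, q.1.2)).map fun km => g km.1 km.2).sum =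
      ((l.zipIdx k).map fun q => if q.1.1 = w then g (q.2 + 1) q.1.2 else 0).sum := by
  induction l generalizing k with
  | nil => simp
  | cons x l ih =>
    by_cases h : x.1 = w <;>
    · simp [h, List.map_map] at ih ⊢
      rw [ih (k + 1)]

theorem xCol_spec (S : Shape D T) (ht : t ≠ 0) (hu : u ≠ 0) {r : ℕ} (hr : r < D.nroots) (p : List Mono)
    (j : D.Idx) (i : D.Idx) : vec t u D (xCol T r p (enc j)) i = D.x F r (pval t u p) i j := by
  rw [ChevalleyDatum.x, dif_pos hr]
  have hn : D.negIdx.getD r 0 = T.neg r := S.neg_eq r hr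
  unfold xCol
  rw [S.rank_eq, S.nroots_eq]
  rcases j with ⟨c, hc⟩ | ⟨s, hs⟩
  · have h1 : Nat.blt c D.rank = true := (by rw [Nat.blt_eq]; exact hc)
    simp only [enc, h1, cond_true, vec_cons t u _ (place _ _ _), Pi.add_apply, vec_place,
      ← S.cartan_eq c hc r hr]
    rcases i with ⟨i', hi'⟩ | ⟨w, hw⟩
    · have h2 : ¬ D.rank + r = i' := by omega
      simp [vec, enc, Trm.val, ChevalleyDatum.xMat, h2, eq_comm]
    · have h2 : ¬ c = D.rank + w := by omega
      simp [vec, enc, Trm.val, ChevalleyDatum.xMat, h2, ChevalleyDatum.cartan, eq_comm, Fin.ext_iff]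
  · have h1 : Nat.blt (D.rank + s) D.rank = false := by
      rw [← Bool.not_eq_true, Nat.blt_eq]; omega
    have h1' : Nat.blt s D.nroots = true := (by rw [Nat.blt_eq]; exact hs)
    simp only [enc, h1, cond_false, Nat.add_sub_cancel_left, h1', cond_true]
    by_cases hsr : s = r
    · subst hsr
      rw [show Nat.beq s s = true from Nat.beq_refl s]
      rcases i with ⟨i', hi'⟩ | ⟨w, hw⟩
      · have h2 : ¬ D.rank + s = i' := by omega
        simp [vec, enc, ChevalleyDatum.xMat, h2]
      · simp [vec, enc, Trm.val, ChevalleyDatum.xMat, eq_comm, Fin.ext_iff]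
    rw [show Nat.beq s r = false by rw [← Bool.not_eq_true, Nat.beq_eq]; exact hsr]
    simp only [cond_false]
    by_cases hsn : s = T.neg r
    · rw [show Nat.beq s (T.neg r) = true by rw [Nat.beq_eq]; exact hsn]
      simp only [cond_true, List.cons_append]
      rw [vec_cons, Pi.add_apply, vec_append, Pi.add_apply, vec_place, vec_flatMap_range]
      simp only [vec_place, pval_ppow t u ht hu]
      rcases i with ⟨i', hi'⟩ | ⟨w, hw⟩
      · rw [Finset.sum_eq_single i' (fun b _ hb => by simp [enc, hb]) (fun h => absurd (Finset.mem_range.2 hi') h)]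
        have h2 : ¬ D.rank + r = i' := by omega
        have h3 : ¬ D.rank + s = i' := by omega
        have h4 : ¬ D.rank + T.neg r = i' := by omega
        simp [vec, enc, ChevalleyDatum.xMat, h2, h4, hn, hsn, ← S.coroot_eq r hr i' hi', Fin.ext_iff]
        intro h5; exact absurd (hsn.trans h5) hsr
      · rw [Finset.sum_eq_zero (fun b hb => if_neg (by simp [enc]; have := Finset.mem_range.1 hb; omega))]
        have hne : ¬ T.neg r = r := fun h => hsr (hsn.trans h)
        subst hsn
        by_cases hw1 : w = T.neg r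
        · simp [vec, enc, Trm.val, ChevalleyDatum.xMat, hn, hw1, hne, Ne.symm hne, Fin.ext_iff]
        · simp [vec, enc, Trm.val, ChevalleyDatum.xMat, hn, hw1, Ne.symm hw1, hne, eq_comm (a := r), Fin.ext_iff]
    · rw [show Nat.beq s (T.neg r) = false by rw [← Bool.not_eq_true, Nat.beq_eq]; exact hsn]
      simp only [cond_false]
      rw [vec_cons, Pi.add_apply, vec_eachIdx]
      simp only [vec_place, pval_ppow t u ht hu]
      rcases i with ⟨i', hi'⟩ | ⟨w, hw⟩
      · have h3 : ¬ D.rank + s = i' := by omega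
        rw [List.sum_eq_zero (fun z hz => by
          obtain ⟨q, -, rfl⟩ := List.mem_map.1 hz
          exact if_neg (by simp [enc]; omega))]
        simp [vec, enc, ChevalleyDatum.xMat, h3, hsr, hn, hsn, Fin.ext_iff]
      · have e := sum_filter_zipIdx (F := F) (T.entry r s) 0 w (fun k M => (M : F) * pval t u p ^ k)
        rw [← S.chainCoeff_eq hr hs w] at e
        simp [vec, enc, Trm.val, ChevalleyDatum.xMat, hsr, hn, hsn, Fin.ext_iff, eq_comm (a := s)]
        rw [e]

theorem sgn_zpow {c : ℤ} (hc : c = 1 ∨ c = -1) (A : ℤ) :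
    ((sgnPow c A : ℤ) : F) = (c : F) ^ A ∧ ((sgnPow c A : ℤ) : F) = (c : F) ^ (-A) := by
  have h : ∀ B : ℤ, B.natAbs = A.natAbs → ((sgnPow c A : ℤ) : F) = (c : F) ^ B := by
    intro B hB
    unfold sgnPow
    rcases hc with rfl | rfl
    · cases Nat.beq (A.natAbs % 2) 0 <;> simp
    · rcases Nat.even_or_odd B.natAbs with h2 | h2
      · rw [show Nat.beq (A.natAbs % 2) 0 = true by rw [Nat.beq_eq, ← hB]; exact Nat.even_iff.1 h2]
        simp [Even.neg_one_zpow (Int.natAbs_even.1 h2)]
      · rw [show Nat.beq (A.natAbs % 2) 0 = false by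
          rw [← Bool.not_eq_true, Nat.beq_eq, ← hB, Nat.odd_iff.1 h2]; decide]
        simp [Odd.neg_one_zpow (Int.natAbs_odd.1 h2)]
  exact ⟨h A rfl, h (-A) (Int.natAbs_neg A)⟩

theorem Mono.val_zpow (m : Mono) (A : ℤ) :
    m.val t u ^ A = (m.c : F) ^ A * t ^ (A * m.a) * u ^ (A * m.b) := by
  rw [Mono.val, mul_zpow, mul_zpow, ← zpow_mul, ← zpow_mul, mul_comm A, mul_comm A]

theorem nCol_spec (S : Shape D T) {i : ℕ} (hi : i < D.rank) {m : Mono} (hm : m.c = 1 ∨ m.c = -1)
    (j : D.Idx) (w : D.Idx) : vec t u D (nCol T i m (enc j)) w = nModel T D i (m.val t u) w j := by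
  unfold nCol
  rw [S.rank_eq, S.nroots_eq]
  rcases j with ⟨c, hc⟩ | ⟨s, hs⟩
  · have h1 : Nat.blt c D.rank = true := (by rw [Nat.blt_eq]; exact hc)
    simp only [enc, h1, cond_true]
    rcases w with ⟨i', hi'⟩ | ⟨w', hw'⟩
    · by_cases h2 : c = i' <;> by_cases h3 : i = i' <;>
        simp [vec, enc, Trm.val, nModel, h2, h3, Ne.symm, Fin.ext_iff, sub_eq_add_neg] <;> omega
    · have h2 : ¬ c = D.rank + w' := by omega
      have h3 : ¬ i = D.rank + w' := by omega
      simp [vec, enc, nModel, h2, h3]
  · have h1 : Nat.blt (D.rank + s) D.rank = false := by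
      rw [← Bool.not_eq_true, Nat.blt_eq]; omega
    have h1' : Nat.blt s D.nroots = true := (by rw [Nat.blt_eq]; exact hs)
    simp only [enc, h1, cond_false, Nat.add_sub_cancel_left, h1', cond_true]
    rcases w with ⟨i', hi'⟩ | ⟨w', hw'⟩
    · have h2 : ¬ D.rank + T.refl' i s = i' := by omega
      simp [vec, enc, nModel, h2]
    · simp only [vec, enc, List.map_cons, List.map_nil, List.sum_cons, List.sum_nil, add_zero, Trm.val, nModel,
        Matrix.of_apply, Nat.add_left_cancel_iff, eq_comm (a := w')]
      split_ifs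
      · rw [Mono.val_zpow, Int.cast_mul, (sgn_zpow (F := F) hm (T.cartan i s)).2]
        ring
      · rfl

theorem dCol_spec (S : Shape D T) {i : ℕ} {m : Mono} (hm : m.c = 1 ∨ m.c = -1)
    (j : D.Idx) (w : D.Idx) : vec t u D (dCol T i m (enc j)) w = dModel T D i (m.val t u) w j := by
  unfold dCol
  rw [S.rank_eq, S.nroots_eq]
  rcases j with ⟨c, hc⟩ | ⟨s, hs⟩
  · have h1 : Nat.blt c D.rank = true := (by rw [Nat.blt_eq]; exact hc)
    simp only [enc, h1, cond_true]
    by_cases h2 : w = Sum.inl ⟨c, hc⟩
    · subst h2; simp [vec, enc, Trm.val, dModel]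
    · have h3 : ¬ c = enc w := fun h => h2 (enc_injective (a₁ := w) (a₂ := Sum.inl ⟨c, hc⟩) h.symm)
      simp [vec, h3, dModel, Matrix.diagonal_apply_ne _ h2]
  · have h1 : Nat.blt (D.rank + s) D.rank = false := by
      rw [← Bool.not_eq_true, Nat.blt_eq]; omega
    have h1' : Nat.blt s D.nroots = true := (by rw [Nat.blt_eq]; exact hs)
    simp only [enc, h1, cond_false, Nat.add_sub_cancel_left, h1', cond_true]
    by_cases h2 : w = Sum.inr ⟨s, hs⟩
    · subst h2
      simp only [vec, enc, List.map_cons, List.map_nil, List.sum_cons, List.sum_nil, add_zero, if_true, Trm.val,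
        dModel, Matrix.diagonal_apply_eq, Sum.elim_inr]
      rw [Mono.val_zpow, (sgn_zpow (F := F) hm (T.cartan i s)).1]
    · have h3 : ¬ D.rank + s = enc w := fun h => h2 (enc_injective (a₁ := w) (a₂ := Sum.inr ⟨s, hs⟩) h.symm)
      simp [vec, h3, dModel, Matrix.diagonal_apply_ne _ h2]

theorem Ltr.col_out (S : Shape D T) (L : Ltr) {k : ℕ} (hk : ¬ k < D.rank + D.nroots) : L.col T k = [] := by
  have h1 : Nat.blt k D.rank = false := by rw [← Bool.not_eq_true, Nat.blt_eq]; omega
  have h2 : Nat.blt (k - D.rank) D.nroots = false := by rw [← Bool.not_eq_true, Nat.blt_eq]; omega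
  cases L <;> simp [Ltr.col, xCol, nCol, dCol, S.rank_eq, S.nroots_eq, h1, h2]

/-- Correct letters. -/
def Rep (T : Tbl) (D : ChevalleyDatum) (L : Ltr) (X : Matrix D.Idx D.Idx F) : Prop :=
  ∀ j i, vec t u D (L.col T (enc j)) i = X i j

theorem rep_mat (S : Shape D T) (ht : t ≠ 0) (hu : u ≠ 0)
    {L : Ltr} (hL : L.ok D) : Rep t u T D L (L.mat t u T D) := by
  cases L with
  | x r p => exact xCol_spec t u S ht hu hL p
  | n i m => exact nCol_spec t u S hL.1 hL.2
  | d i m => exact dCol_spec t u S hL.2

theorem vec_applyLtr (S : Shape D T) (ht : t ≠ 0) (hu : u ≠ 0) {L : Ltr} {X : Matrix D.Idx D.Idx F}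
    (hX : Rep t u T D L X) (v : List Trm) : vec t u D (applyLtr T L v) = X *ᵥ vec t u D v := by
  induction v with
  | nil => simp [applyLtr, vec_nil]
  | cons x v ih =>
    rw [show applyLtr T L (x :: v) =
      ((L.col T x.row).map fun y => ⟨y.row, x.c * y.c, x.a + y.a, x.b + y.b⟩) ++ applyLtr T L v from List.flatMap_cons,
      vec_append, ih, vec_cons t u x v, Matrix.mulVec_add]
    congr 1
    funext i
    have e : ∀ l : List Trm, vec t u D (l.map fun y => (⟨y.row, x.c * y.c, x.a + y.a, x.b + y.b⟩ : Trm)) i =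
        x.val t u * vec t u D l i := by
      intro l
      induction l with
      | nil => simp [vec]
      | cons y l ih =>
        rw [List.map_cons, vec_cons, Pi.add_apply, ih, vec_cons t u y l, Pi.add_apply, mul_add]
        congr 1
        by_cases h : y.row = enc i
        · simp [vec, h, Trm.val, zpow_add₀ ht, zpow_add₀ hu]; ring
        · simp [vec, h]
    rw [e]
    by_cases hk : x.row < D.rank + D.nroots
    · obtain ⟨j, hj⟩ := exists_enc hk
      have hs : vec t u D [x] = Pi.single j (x.val t u) := by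
        funext k
        by_cases hkj : k = j
        · subst hkj; simp [vec, hj]
        · simp [vec, hkj, show ¬ x.row = enc k from fun h => hkj (enc_injective (h.symm.trans hj.symm))]
      rw [hs, ← hj, hX j i, Matrix.mulVec_single]
      simp [mul_comm]
    · have hs : vec t u D [x] = 0 := by
        funext k
        have : ¬ x.row = enc k := fun h => hk (h ▸ enc_lt k)
        simp [vec, this]
      rw [hs, Ltr.col_out S L hk, vec_nil]
      simp

theorem vec_wordCol (S : Shape D T) (ht : t ≠ 0) (hu : u ≠ 0)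
    {w : List Ltr} (hw : ∀ L ∈ w, L.ok D) (j i : D.Idx) :
    vec t u D (wordCol T w (enc j)) i = wmat t u T D w i j := by
  induction w generalizing i with
  | nil =>
    by_cases h : i = j
    · subst h; simp [wordCol, vec, Trm.val, wmat]
    · simp [wordCol, vec, wmat, h, show ¬ enc j = enc i from fun e => h (enc_injective e).symm]
  | cons L w ih =>
    rw [wordCol, vec_applyLtr t u S ht hu (rep_mat t u S ht hu (hw L (List.mem_cons_self ..))),
      show wmat t u T D (L :: w) = L.mat t u T D * wmat t u T D w from by simp [wmat], Matrix.mul_apply]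
    simp only [Matrix.mulVec, dotProduct]
    refine Finset.sum_congr rfl fun k _ => ?_
    rw [ih (fun M hM => hw M (List.mem_cons_of_mem _ hM))]

/-- Soundness of the comparison. -/
theorem wmat_eq_of_sameWord (S : Shape D T) (ht : t ≠ 0) (hu : u ≠ 0)
    {w₁ w₂ : List Ltr}
    (h1 : ∀ L ∈ w₁, L.ok D) (h2 : ∀ L ∈ w₂, L.ok D) (h : sameWord T w₁ w₂ = true) :
    wmat t u T D w₁ = wmat t u T D w₂ := by
  ext i j
  have hj := List.all_eq_true.1 h (enc j) (List.mem_range.2 (by rw [S.rank_eq, S.nroots_eq]; exact enc_lt j))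
  have e := congrFun (vec_allZero t u (D := D) hj) i
  rw [vec_append, vec_negV, Pi.add_apply, Pi.neg_apply, vec_wordCol t u S ht hu h1,
    vec_wordCol t u S ht hu h2, Pi.zero_apply, add_neg_eq_zero] at e
  exact e

end Cfsg.Lib.Chev
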