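import Mathlib
import Cfsg.Agent.Lib.Chev.Eval

/-!
The combinatorial facts about a table that the theory uses, and kernel-friendly checkers for them.
-/

set_option autoImplicit false

namespace Cfsg.Lib.Chev

open Cfsg.Lie

/-- Conjunction over `0, …, n - 1`. -/
noncomputable def allBelow (f : ℕ → Bool) (n : ℕ) : Bool :=
  Nat.rec true (fun k r => Bool.rec false r (f k)) n

theorem allBelow_iff {f : ℕ → Bool} {n : ℕ} : allBelow f n = true ↔ ∀ k < n, f k = true := by
  induction n with
  | zero => simp [allBelow]
  | succ n ih =>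
    show Bool.rec false (allBelow f n) (f n) = true ↔ _
    constructor
    · intro h k hk
      cases hfn : f n
      · rw [hfn] at h; exact absurd h Bool.false_ne_true
      · rw [hfn] at h
        rcases Nat.lt_succ_iff_lt_or_eq.1 hk with h' | rfl
        · exact ih.1 h k h'
        · exact hfn
    · intro h
      rw [h n (Nat.lt_succ_self n)]
      exact ih.2 fun k hk => h k (Nat.lt_succ_of_lt hk)

/-- Conjunction along a list, with positions. -/
noncomputable def allIdx {α : Type} (f : ℕ → α → Bool) (l : List α) (k : ℕ) : Bool :=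
  List.rec (motive := fun _ => ℕ → Bool) (fun _ => true) (fun x _ r k => Bool.rec false (r (k + 1)) (f k x)) l k

theorem allIdx_iff {α : Type} {f : ℕ → α → Bool} (l : List α) (k : ℕ) :
    allIdx f l k = true ↔ ∀ i (h : i < l.length), f (k + i) l[i] = true := by
  induction l generalizing k with
  | nil => simp [allIdx]
  | cons x l ih =>
    show Bool.rec false (allIdx f l (k + 1)) (f k x) = true ↔ _
    constructor
    · intro h
      cases hfx : f k x
      · rw [hfx] at h; exact absurd h Bool.false_ne_true
      · rw [hfx] at h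
        intro i hi
        cases i with
        | zero => simpa using hfx
        | succ i =>
          have := (ih (k + 1)).1 h i (by simpa using hi)
          simpa [add_assoc, add_comm 1] using this
    · intro h
      have h0 : f k x = true := h 0 (Nat.zero_lt_succ _)
      rw [h0]
      refine (ih (k + 1)).2 fun i hi => ?_
      have := h (i + 1) (Nat.succ_lt_succ hi)
      rw [Nat.add_right_comm, Nat.add_assoc]
      exact this

/-- The image of a chain entry under the `i`-th reflection, with signs. -/
def img (T : Tbl) (i : ℕ) (a : ℤ) : List (ℕ × ℤ) → ℤ → List (ℕ × ℤ)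
  | [], _ => []
  | q :: l, b => (T.refl' i q.1, a * b * T.eta' i q.1 * q.2) :: img T i a l (a * b)

/-- The image of the entry of `(r, s)`: the `k`-th coefficient is multiplied by
`η r ^ (k + 1) * η s * η u`. -/
def imgEntry (T : Tbl) (i r s : ℕ) : List (ℕ × ℤ) := img T i (T.eta' i r) (T.entry r s) (T.eta' i s)

/-- A linear functional on the lattice of weights. -/
def fval (T : Tbl) (φ : List ℤ) (r : ℕ) : ℤ := ((List.range T.rank).map fun j => φ.getD j 0 * T.cartan j r).sum

/-- The combinatorial facts used by the theory. -/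
structure Spec (D : ChevalleyDatum) (T : Tbl) : Prop where
  shape : Shape D T
  simp_lt : ∀ i < D.rank, T.simp' i < D.nroots
  neg_lt : ∀ r < D.nroots, T.neg r < D.nroots
  neg_ne : ∀ r < D.nroots, T.neg r ≠ r
  neg_neg : ∀ r < D.nroots, T.neg (T.neg r) = r
  refl_lt : ∀ i < D.rank, ∀ s < D.nroots, T.refl' i s < D.nroots
  refl_refl : ∀ i < D.rank, ∀ s < D.nroots, T.refl' i (T.refl' i s) = s
  refl_neg : ∀ i < D.rank, ∀ s < D.nroots, T.refl' i (T.neg s) = T.neg (T.refl' i s)
  refl_simple : ∀ i < D.rank, T.refl' i (T.simp' i) = T.neg (T.simp' i)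
  eta_neg : ∀ i < D.rank, ∀ s < D.nroots, T.eta' i (T.neg s) = T.eta' i s
  eta_refl : ∀ i < D.rank, ∀ s < D.nroots, T.eta' i (T.refl' i s) * T.eta' i s = sgnPow (-1) (T.cartan i s)
  eta_simple : ∀ i < D.rank, T.eta' i (T.simp' i) = -1
  cart_refl : ∀ i < D.rank, ∀ j < D.rank, ∀ s < D.nroots,
    T.cartan j (T.refl' i s) = T.cartan j s - T.cartan i s * T.cartan j (T.simp' i)
  cart_neg : ∀ j < D.rank, ∀ s < D.nroots, T.cartan j (T.neg s) = -T.cartan j s
  cart_simple : ∀ i < D.rank, T.cartan i (T.simp' i) = 2
  cor_refl : ∀ i < D.rank, ∀ r < D.nroots, ∀ k < D.rank, T.coroot (T.refl' i r) k =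
    T.coroot r k - if k = i then ((List.range D.rank).map fun j => T.coroot r j * T.cartan j (T.simp' i)).sum else 0
  cor_neg : ∀ r < D.nroots, ∀ k < D.rank, T.coroot (T.neg r) k = -T.coroot r k
  cor_simple : ∀ i < D.rank, ∀ k < D.rank, T.coroot (T.simp' i) k = if k = i then 1 else 0
  entry_self : ∀ r < D.nroots, T.entry r r = [] ∧ T.entry r (T.neg r) = []
  entry_mem : ∀ r < D.nroots, ∀ s < D.nroots, ∀ (k : ℕ) (q : ℕ × ℤ), (T.entry r s)[k]? = some q →
    q.1 < D.nroots ∧ ∀ j < D.rank, T.cartan j q.1 = ((k : ℤ) + 1) * T.cartan j r + T.cartan j s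
  entry_refl : ∀ i < D.rank, ∀ r < D.nroots, ∀ s < D.nroots,
    T.entry (T.refl' i r) (T.refl' i s) = imgEntry T i r s

/-- Equality of chain entries. -/
noncomputable def eqEntry (l m : List (ℕ × ℤ)) : Bool :=
  List.rec (motive := fun _ => List (ℕ × ℤ) → Bool)
    (fun m => List.rec true (fun _ _ _ => false) m)
    (fun x _ r m => List.rec false (fun y m' _ => Nat.beq x.1 y.1 && (decide (x.2 = y.2) && r m')) m) l m

theorem eqEntry_iff : ∀ (l m : List (ℕ × ℤ)), eqEntry l m = true → l = m
  | [], [], _ => rfl
  | [], _ :: _, h => absurd h Bool.false_ne_true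
  | _ :: _, [], h => absurd h Bool.false_ne_true
  | x :: l, y :: m, h => by
    change (Nat.beq x.1 y.1 && (decide (x.2 = y.2) && eqEntry l m)) = true at h
    simp only [Bool.and_eq_true, Nat.beq_eq, decide_eq_true_eq] at h
    rw [eqEntry_iff l m h.2.2, show x = y from Prod.ext h.1 h.2.1]

/-- Walking along a sorted chain list. -/
noncomputable def walk (T : Tbl) (r : ℕ) (n : ℕ) (s : ℕ) (l : List (ℕ × Array (ℕ × ℤ))) : Bool :=
  Nat.rec (motive := fun _ => ℕ → List (ℕ × Array (ℕ × ℤ)) → Bool)
    (fun _ l => l.isEmpty)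
    (fun _ rec s l =>
      match l with
      | [] => eqEntry (T.entry r s) [] && rec (s + 1) []
      | e :: l' =>
        bif Nat.beq e.1 s then (eqEntry (T.entry r s) e.2.toList && !e.2.toList.isEmpty) && rec (s + 1) l'
        else eqEntry (T.entry r s) [] && rec (s + 1) (e :: l'))
    n s l

theorem walk_sound (T : Tbl) (r : ℕ) : ∀ (n s : ℕ) (l : List (ℕ × Array (ℕ × ℤ))), walk T r n s l = true →
    (∀ e ∈ l, s ≤ e.1 ∧ e.1 < s + n) ∧
    ∀ s', s ≤ s' → s' < s + n → (l.filter (fun e => e.1 = s')).map (fun e => (e.1, e.2.toList)) =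
      if T.entry r s' = [] then [] else [(s', T.entry r s')] := by
  intro n
  induction n with
  | zero =>
    intro s l h
    have hl : l = [] := List.isEmpty_iff.1 h
    subst hl
    exact ⟨fun e he => absurd he List.not_mem_nil, fun s' h1 h2 => absurd h2 (by omega)⟩
  | succ n ih =>
    intro s l h
    rcases l with _ | ⟨e, l⟩
    · change (eqEntry (T.entry r s) [] && walk T r n (s + 1) []) = true at h
      simp only [Bool.and_eq_true] at h
      obtain ⟨-, h2⟩ := ih _ _ h.2
      refine ⟨fun e he => absurd he List.not_mem_nil, fun s' h3 h4 => ?_⟩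
      rcases eq_or_lt_of_le h3 with rfl | h5
      · simp [eqEntry_iff _ _ h.1]
      · exact h2 s' h5 (by omega)
    · change (bif Nat.beq e.1 s then
          (eqEntry (T.entry r s) e.2.toList && !e.2.toList.isEmpty) && walk T r n (s + 1) l
        else eqEntry (T.entry r s) [] && walk T r n (s + 1) (e :: l)) = true at h
      cases hes : Nat.beq e.1 s
      · rw [hes] at h
        simp only [cond_false, Bool.and_eq_true] at h
        obtain ⟨h1, h2⟩ := ih _ _ h.2
        refine ⟨fun x hx => ⟨by have := h1 x hx; omega, by have := h1 x hx; omega⟩, fun s' h3 h4 => ?_⟩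
        rcases eq_or_lt_of_le h3 with rfl | h5
        · rw [if_pos (eqEntry_iff _ _ h.1), List.map_eq_nil_iff, List.filter_eq_nil_iff]
          intro x hx
          have := h1 x hx
          simp; omega
        · exact h2 s' h5 (by omega)
      · rw [hes] at h
        simp only [cond_true, Bool.and_eq_true, Bool.not_eq_true'] at h
        rw [Nat.beq_eq] at hes
        obtain ⟨h1, h2⟩ := ih _ _ h.2
        refine ⟨fun x hx => ?_, fun s' h3 h4 => ?_⟩
        · rcases List.mem_cons.1 hx with rfl | hx
          · omega
          · have := h1 x hx; omega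
        · rcases eq_or_lt_of_le h3 with rfl | h5
          · have hne : ¬ T.entry r s = [] := by
              rw [eqEntry_iff _ _ h.1.1]
              intro he
              rw [he] at h
              simp at h
            rw [if_neg hne, List.filter_cons, if_pos (by simp [hes])]
            rw [List.filter_eq_nil_iff.2 (fun x hx => by have := h1 x hx; simp; omega)]
            simp [hes, eqEntry_iff _ _ h.1.1]
          · rw [List.filter_cons, if_neg (by simp; omega)]
            exact h2 s' h5 (by omega)

/-- Equality of an integer array with table values. -/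
noncomputable def eqRow (a : Array ℤ) (g : ℕ → ℤ) (n : ℕ) : Bool :=
  Nat.beq a.toList.length n && allIdx (fun k x => decide (x = g k)) a.toList 0

theorem eqRow_sound {a : Array ℤ} {g : ℕ → ℤ} {n : ℕ} (h : eqRow a g n = true) {k : ℕ} (hk : k < n) :
    a.getD k 0 = g k := by
  simp only [eqRow, Bool.and_eq_true, Nat.beq_eq] at h
  have hk' : k < a.toList.length := h.1 ▸ hk
  have := (allIdx_iff _ 0).1 h.2 k hk'
  simp only [Nat.zero_add, decide_eq_true_eq] at this
  rw [← this, Array.getD, dif_pos (by simpa using hk')]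
  simp

theorem getD_eq_toList {α : Type} {a : Array α} {d : α} {k : ℕ} (h : k < a.toList.length) :
    a.getD k d = a.toList[k] := by
  rw [Array.getD, dif_pos (by simpa using h)]
  simp

/-- Check of `Shape`, except for the chain table and the reflections. -/
noncomputable def chkBase (D : ChevalleyDatum) (T : Tbl) : Bool :=
  Nat.beq T.rank D.rank && (Nat.beq T.nroots D.nroots &&
  (allBelow (fun i => Nat.beq (D.simple i) (T.simp' i)) D.rank &&
  (allBelow (fun r => Nat.beq (D.neg r) (T.neg r)) D.nroots &&
  ((Nat.beq D.cartanSR.toList.length D.rank &&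
      allIdx (fun i a => eqRow a (T.cartan i) D.nroots) D.cartanSR.toList 0) &&
  (Nat.beq D.coroot.toList.length D.nroots &&
      allIdx (fun r a => eqRow a (T.coroot r) D.rank) D.coroot.toList 0)))))

/-- Check of the reflections against the datum. -/
noncomputable def chkRefl (D : ChevalleyDatum) (T : Tbl) : Bool :=
  allBelow (fun i => allBelow (fun s => Nat.beq (D.reflectRoot i s) (T.refl' i s)) D.nroots) D.rank

/-- Check of the chain table. -/
noncomputable def chkChain (D : ChevalleyDatum) (T : Tbl) : Bool :=
  Nat.beq D.chain.toList.length D.nroots &&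
    allIdx (fun r a => walk T r D.nroots 0 a.toList) D.chain.toList 0

theorem shape_of_chk {D : ChevalleyDatum} {T : Tbl} (h1 : chkBase D T = true) (h2 : chkRefl D T = true)
    (h3 : chkChain D T = true) : Shape D T := by
  simp only [chkBase, Bool.and_eq_true, Nat.beq_eq, allBelow_iff] at h1
  simp only [chkRefl, allBelow_iff, Nat.beq_eq] at h2
  simp only [chkChain, Bool.and_eq_true, Nat.beq_eq] at h3
  obtain ⟨e1, e2, e3, e4, ⟨e5, e6⟩, e7, e8⟩ := h1
  refine ⟨e1, e2, e3, e4, fun i hi s hs => ?_, fun r hr i hi => ?_, h2, fun r hr s hs => ?_⟩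
  · have hi' : i < D.cartanSR.toList.length := e5 ▸ hi
    have := eqRow_sound ((allIdx_iff _ 0).1 e6 i hi') hs
    simp only [Nat.zero_add] at this
    rw [ChevalleyDatum.cartan, getD_eq_toList hi']
    exact this
  · have hr' : r < D.coroot.toList.length := e7 ▸ hr
    have := eqRow_sound ((allIdx_iff _ 0).1 e8 r hr') hi
    simp only [Nat.zero_add] at this
    rw [getD_eq_toList hr']
    exact this
  · have hr' : r < D.chain.toList.length := h3.1 ▸ hr
    have := (walk_sound T r D.nroots 0 _ (by simpa using (allIdx_iff _ 0).1 h3.2 r hr')).2 s (Nat.zero_le _) (by simpa using hs)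
    rw [getD_eq_toList hr']
    exact this

/-- Facts about the reflections and signs. -/
noncomputable def chkRoots (T : Tbl) : Bool :=
  allBelow (fun i =>
    let p := T.simp' i
    (Nat.blt p T.nroots && (Nat.beq (T.refl' i p) (T.neg p) && (decide (T.eta' i p = -1) &&
      (decide (T.cartan i p = 2) && allBelow (fun k => decide (T.coroot p k = if k = i then 1 else 0)) T.rank)))) &&
    allBelow (fun s =>
      let w := T.refl' i s
      let m := T.neg s
      Nat.blt w T.nroots && (Nat.beq (T.refl' i w) s && (Nat.beq (T.refl' i m) (T.neg w) &&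
      (decide (T.eta' i m = T.eta' i s) && (decide (T.eta' i w * T.eta' i s = sgnPow (-1) (T.cartan i s)) &&
      (allBelow (fun j => decide (T.cartan j w = T.cartan j s - T.cartan i s * T.cartan j p)) T.rank &&
      allBelow (fun k => decide (T.coroot w k = T.coroot s k -
        if k = i then ((List.range T.rank).map fun j => T.coroot s j * T.cartan j p).sum else 0)) T.rank))))))
      T.nroots) T.rank &&
  allBelow (fun r =>
    let m := T.neg r
    Nat.blt m T.nroots && (!Nat.beq m r && (Nat.beq (T.neg m) r &&
    (eqEntry (T.entry r r) [] && (eqEntry (T.entry r m) [] &&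
    (allBelow (fun j => decide (T.cartan j m = -T.cartan j r)) T.rank &&
    allBelow (fun k => decide (T.coroot m k = -T.coroot r k)) T.rank)))))) T.nroots

/-- The weight equation along an entry. -/
noncomputable def chkWt (T : Tbl) (r s : ℕ) (l : List (ℕ × ℤ)) : Bool :=
  allIdx (fun k q => Nat.blt q.1 T.nroots &&
    allBelow (fun j => decide (T.cartan j q.1 = ((k : ℤ) + 1) * T.cartan j r + T.cartan j s)) T.rank) l 0

/-- The weight equations for all entries. -/
noncomputable def chkWeights (D : ChevalleyDatum) (T : Tbl) : Bool :=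
  allIdx (fun r a => allIdx (fun _ e => chkWt T r e.1 (T.entry r e.1)) a.toList 0) D.chain.toList 0

/-- Equivariance of the chain table under one reflection. -/
noncomputable def chkEquiv (D : ChevalleyDatum) (T : Tbl) (i : ℕ) : Bool :=
  allIdx (fun r a => allIdx (fun _ e =>
    eqEntry (T.entry (T.refl' i r) (T.refl' i e.1)) (imgEntry T i r e.1)) a.toList 0) D.chain.toList 0

theorem mem_chain_of_entry {D : ChevalleyDatum} {T : Tbl} (S : Shape D T) (hlen : D.chain.toList.length = D.nroots)
    {r s : ℕ} (hr : r < D.nroots) (hs : s < D.nroots) (hne : T.entry r s ≠ []) :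
    ∃ (h : r < D.chain.toList.length) (k : ℕ) (hk : k < (D.chain.toList[r]).toList.length),
      ((D.chain.toList[r]).toList[k]).1 = s := by
  have h := S.chain_eq r hr s hs
  rw [if_neg hne] at h
  have hr' : r < D.chain.toList.length := hlen ▸ hr
  refine ⟨hr', ?_⟩
  rw [getD_eq_toList hr'] at h
  obtain ⟨e, he, -⟩ := List.mem_map.1 (h ▸ List.mem_singleton_self (s, T.entry r s))
  obtain ⟨he, hes⟩ := List.mem_filter.1 he
  obtain ⟨k, hk, hke⟩ := List.getElem_of_mem he
  refine ⟨k, by simpa using hk, ?_⟩
  simp only [decide_eq_true_eq] at hes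
  rw [← hes, ← hke]

theorem spec_of_chk {D : ChevalleyDatum} {T : Tbl} (h1 : chkBase D T = true) (h2 : chkRefl D T = true)
    (h3 : chkChain D T = true) (h4 : chkRoots T = true) (h5 : chkWeights D T = true)
    (h6 : ∀ i < T.rank, chkEquiv D T i = true) : Spec D T := by
  have S := shape_of_chk h1 h2 h3
  have hlen : D.chain.toList.length = D.nroots := by
    simp only [chkChain, Bool.and_eq_true, Nat.beq_eq] at h3; exact h3.1
  simp only [chkRoots, Bool.and_eq_true, allBelow_iff, Nat.beq_eq, Nat.blt_eq, decide_eq_true_eq,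
    Bool.not_eq_true', S.rank_eq, S.nroots_eq] at h4
  obtain ⟨hI, hR⟩ := h4
  have hrl : ∀ i < D.rank, ∀ s < D.nroots, T.refl' i s < D.nroots := fun i hi s hs => ((hI i hi).2 s hs).1
  have heq : ∀ i < D.rank, ∀ r < D.nroots, ∀ s < D.nroots, T.entry r s ≠ [] →
      T.entry (T.refl' i r) (T.refl' i s) = imgEntry T i r s := by
    intro i hi r hr s hs hne
    obtain ⟨hr', k, hk, hks⟩ := mem_chain_of_entry S hlen hr hs hne
    have := (allIdx_iff _ 0).1 ((allIdx_iff _ 0).1 (h6 i (S.rank_eq ▸ hi)) r hr') k hk
    rw [Nat.zero_add, hks] at this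
    exact eqEntry_iff _ _ this
  exact
    { shape := S
      simp_lt := fun i hi => (hI i hi).1.1
      refl_simple := fun i hi => (hI i hi).1.2.1
      eta_simple := fun i hi => (hI i hi).1.2.2.1
      cart_simple := fun i hi => (hI i hi).1.2.2.2.1
      cor_simple := fun i hi k hk => (hI i hi).1.2.2.2.2 k hk
      refl_lt := hrl
      refl_refl := fun i hi s hs => ((hI i hi).2 s hs).2.1
      refl_neg := fun i hi s hs => ((hI i hi).2 s hs).2.2.1
      eta_neg := fun i hi s hs => ((hI i hi).2 s hs).2.2.2.1
      eta_refl := fun i hi s hs => ((hI i hi).2 s hs).2.2.2.2.1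
      cart_refl := fun i hi j hj s hs => ((hI i hi).2 s hs).2.2.2.2.2.1 j hj
      cor_refl := fun i hi r hr k hk => ((hI i hi).2 r hr).2.2.2.2.2.2 k hk
      neg_lt := fun r hr => (hR r hr).1
      neg_ne := fun r hr e => by
        have := (hR r hr).2.1
        rw [e] at this
        exact absurd ((Nat.beq_refl r).symm.trans this) (Bool.true_eq_false ▸ id)
      neg_neg := fun r hr => (hR r hr).2.2.1
      entry_self := fun r hr => ⟨eqEntry_iff _ _ (hR r hr).2.2.2.1, eqEntry_iff _ _ (hR r hr).2.2.2.2.1⟩
      cart_neg := fun j hj s hs => (hR s hs).2.2.2.2.2.1 j hj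
      cor_neg := fun r hr k hk => (hR r hr).2.2.2.2.2.2 k hk
      entry_mem := fun r hr s hs k q hq => by
        have hne : T.entry r s ≠ [] := fun e => by simp [e] at hq
        obtain ⟨hr', m, hm, hms⟩ := mem_chain_of_entry S hlen hr hs hne
        have := (allIdx_iff _ 0).1 ((allIdx_iff _ 0).1 h5 r hr') m hm
        rw [Nat.zero_add, hms] at this
        obtain ⟨hk, hkq⟩ := List.getElem?_eq_some_iff.1 hq
        have := (allIdx_iff _ 0).1 this k hk
        simp only [hkq, Nat.zero_add, Bool.and_eq_true, Nat.blt_eq, allBelow_iff, decide_eq_true_eq,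
          S.rank_eq, S.nroots_eq] at this
        exact this
      entry_refl := fun i hi r hr s hs => by
        by_cases hne : T.entry r s = []
        · rw [imgEntry, hne]
          by_contra h'
          have e := heq i hi _ (hrl i hi r hr) _ (hrl i hi s hs) h'
          rw [((hI i hi).2 r hr).2.1, ((hI i hi).2 s hs).2.1, hne] at e
          unfold imgEntry at e
          rcases hl : T.entry (T.refl' i r) (T.refl' i s) with _ | ⟨q, l⟩
          · exact h' hl
          · rw [hl] at e; simp [img] at e
        · exact heq i hi r hr s hs hne }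

end Cfsg.Lib.Chev
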