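import Mathlib
import Cfsg.Agent.Lib.Chev.Spec

/-!
Reflection matrices and diagonal matrices normalise the root elements.
-/

set_option autoImplicit false

namespace Cfsg.Lib.Chev

open Cfsg.Lie
open scoped Matrix

variable {D : ChevalleyDatum} {T : Tbl} {F : Type*} [Field F]

theorem eta_cases (T : Tbl) (i s : ℕ) : T.eta' i s = 1 ∨ T.eta' i s = -1 := by
  unfold Tbl.eta'; cases Nat.beq (slot (T.eta.get i) 1 s) 1 <;> simp

theorem eta_sq (T : Tbl) (i s : ℕ) : ((T.eta' i s : ℤ) : F) * (T.eta' i s : ℤ) = 1 := by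
  rcases eta_cases T i s with h | h <;> simp [h]

theorem eta_ne_zero (T : Tbl) (i s : ℕ) : ((T.eta' i s : ℤ) : F) ≠ 0 :=
  left_ne_zero_of_mul (by rw [eta_sq T i s]; exact one_ne_zero)

/-- The coefficient of `e_w` in the image of `e_s` under `x_r(t)`, away from `s = ± r`. -/
def chainVal (l : List (ℕ × ℤ)) (k : ℕ) (t : F) (w : ℕ) : F :=
  ((l.zipIdx k).map fun q => if q.1.1 = w then (q.1.2 : F) * t ^ (q.2 + 1) else 0).sum

section Entries

variable (S : Spec D T) {r : ℕ} (hr : r < D.nroots) (t : F)
include S hr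

theorem x_inl_inl (i' c : Fin D.rank) :
    D.x F r t (Sum.inl i') (Sum.inl c) = if i' = c then 1 else 0 := by
  rw [ChevalleyDatum.x, dif_pos hr]; simp [ChevalleyDatum.xMat]

theorem x_inr_inl (w : Fin D.nroots) (c : Fin D.rank) :
    D.x F r t (Sum.inr w) (Sum.inl c) = if w.val = r then -((T.cartan c r : ℤ) : F) * t else 0 := by
  rw [ChevalleyDatum.x, dif_pos hr, ← S.shape.cartan_eq c c.2 r hr]
  simp [ChevalleyDatum.xMat, Fin.ext_iff, ChevalleyDatum.cartan]

theorem x_inl_inr (i' : Fin D.rank) (s : Fin D.nroots) :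
    D.x F r t (Sum.inl i') (Sum.inr s) = if s.val = T.neg r then ((T.coroot r i' : ℤ) : F) * t else 0 := by
  have hn : D.negIdx.getD r 0 = T.neg r := S.shape.neg_eq r hr
  have hne := S.neg_ne r hr
  rw [ChevalleyDatum.x, dif_pos hr, ← S.shape.coroot_eq r hr i' i'.2]
  simp only [ChevalleyDatum.xMat, Matrix.of_apply, hn, Fin.ext_iff]
  by_cases h : s.val = r
  · rw [if_pos h, if_neg (fun e => hne (e.symm.trans h))]
  · rw [if_neg h]

theorem x_inr_inr (w s : Fin D.nroots) :
    D.x F r t (Sum.inr w) (Sum.inr s) =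
      if s.val = r then (if w.val = r then 1 else 0)
      else if s.val = T.neg r then (if w.val = s.val then 1 else if w.val = r then -(t ^ 2) else 0)
      else (if w.val = s.val then 1 else 0) + chainVal (T.entry r s) 0 t w := by
  have hn : D.negIdx.getD r 0 = T.neg r := S.shape.neg_eq r hr
  rw [ChevalleyDatum.x, dif_pos hr]
  simp only [ChevalleyDatum.xMat, Matrix.of_apply, hn, Fin.ext_iff]
  split_ifs <;>
    first
      | rfl
      | (rw [S.shape.chainCoeff_eq hr s.2 w.val,
          sum_filter_zipIdx (F := F) (T.entry r s) 0 w.val (fun k M => (M : F) * t ^ k)]; rfl)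

end Entries

/-- The character of the root lattice with parameters `a`. -/
def chr (T : Tbl) (D : ChevalleyDatum) (a : ℕ → F) (s : ℕ) : F :=
  ∏ j ∈ Finset.range D.rank, a j ^ T.cartan j s

/-- The diagonal matrix of a character. -/
def scal (T : Tbl) (D : ChevalleyDatum) (a : ℕ → F) : Matrix D.Idx D.Idx F :=
  Matrix.diagonal (Sum.elim (fun _ => (1 : F)) fun s => chr T D a s)

theorem chr_ne_zero (a : ℕ → F) (ha : ∀ j < D.rank, a j ≠ 0) (s : ℕ) : chr T D a s ≠ 0 :=
  Finset.prod_ne_zero_iff.2 fun j hj => zpow_ne_zero _ (ha j (Finset.mem_range.1 hj))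

theorem chr_neg (S : Spec D T) (a : ℕ → F) {r : ℕ} (hr : r < D.nroots) :
    chr T D a (T.neg r) = (chr T D a r)⁻¹ := by
  rw [chr, chr, ← Finset.prod_inv_distrib]
  refine Finset.prod_congr rfl fun j hj => ?_
  rw [S.cart_neg j (Finset.mem_range.1 hj) r hr, zpow_neg]

theorem chr_update {i : ℕ} (hi : i < D.rank) (v : F) (s : ℕ) :
    chr T D (fun j => if j = i then v else 1) s = v ^ T.cartan i s := by
  rw [chr, Finset.prod_eq_single i (fun b _ hb => by simp [hb]) (fun h => absurd (Finset.mem_range.2 hi) h)]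
  simp

theorem dModel_eq_scal {i : ℕ} (hi : i < D.rank) (v : F) :
    dModel T D i v = scal T D (fun j => if j = i then v else 1) := by
  rw [dModel, scal]
  congr 1
  funext j
  rcases j with c | s
  · rfl
  · exact (chr_update hi v s).symm

theorem scal_mul (a b : ℕ → F) : scal T D a * scal T D b = scal T D (fun j => a j * b j) := by
  rw [scal, scal, scal, Matrix.diagonal_mul_diagonal]
  congr 1
  funext j
  rcases j with c | s
  · simp
  · simp [chr, mul_zpow, Finset.prod_mul_distrib]

theorem scal_one : scal T D (fun _ => (1 : F)) = 1 := by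
  rw [scal, ← Matrix.diagonal_one]
  congr 1
  funext j
  rcases j with c | s <;> simp [chr]

theorem scal_inv (a : ℕ → F) (ha : ∀ j < D.rank, a j ≠ 0) :
    scal T D a * scal T D (fun j => (a j)⁻¹) = 1 := by
  rw [scal_mul, ← scal_one (D := D) (T := T) (F := F)]
  simp only [scal, chr]
  congr 1
  funext j
  rcases j with c | s
  · rfl
  · simp only [Sum.elim_inr]
    refine Finset.prod_congr rfl fun j hj => ?_
    rw [mul_inv_cancel₀ (ha j (Finset.mem_range.1 hj))]

/-- Diagonal matrices of characters scale the root elements. -/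
theorem scal_mul_x (S : Spec D T) (a : ℕ → F) (ha : ∀ j < D.rank, a j ≠ 0) {r : ℕ} (hr : r < D.nroots) (t : F) :
    scal T D a * D.x F r t = D.x F r (chr T D a r * t) * scal T D a := by
  have hne := fun s => chr_ne_zero (T := T) a ha s
  ext i j
  rw [scal, Matrix.diagonal_mul, Matrix.mul_diagonal]
  rcases i with i' | w <;> rcases j with c | s <;> simp only [Sum.elim_inl, Sum.elim_inr]
  · simp [x_inl_inl S hr]
  · rw [x_inl_inr S hr, x_inl_inr S hr]
    split_ifs with h
    · rw [h, chr_neg S a hr]
      field_simp [hne r]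
    · simp
  · rw [x_inr_inl S hr, x_inr_inl S hr]
    split_ifs with h
    · rw [h]; ring
    · simp
  · rw [x_inr_inr S hr, x_inr_inr S hr]
    split_ifs with h1 h2 h3 h4 h5 <;> try simp
    · rw [h1, h2]
    · rw [h4]
    · rw [h5, h3, chr_neg S a hr]
      field_simp [hne r]
    all_goals
      have key : ∀ (l : List (ℕ × ℤ)) (k : ℕ),
          (∀ m q, l[m]? = some q → chr T D a q.1 = chr T D a r ^ (k + m + 1) * chr T D a s) →
          chr T D a w * chainVal l k t w = chainVal l k (chr T D a r * t) w * chr T D a s := by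
        intro l
        induction l with
        | nil => intro k _; simp [chainVal]
        | cons q l ih =>
          intro k hl
          have h' := ih (k + 1) fun m q' hq => by
            have := hl (m + 1) q' (by simpa using hq)
            rw [this]; ring_nf
          simp only [chainVal, List.zipIdx_cons, List.map_cons, List.sum_cons, mul_add, add_mul] at h' ⊢
          rw [h']
          congr 1
          split_ifs with hq
          · rw [← hq, hl 0 q (by simp), mul_pow]; ring
          · simp
      have hk := key (T.entry r s) 0 fun m q hq => by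
        obtain ⟨-, hw⟩ := S.entry_mem r hr s s.2 m q hq
        rw [chr, chr, chr, ← Finset.prod_pow, ← Finset.prod_mul_distrib]
        refine Finset.prod_congr rfl fun j hj => ?_
        have h0 := ha j (Finset.mem_range.1 hj)
        rw [hw j (Finset.mem_range.1 hj), zpow_add₀ h0, Nat.zero_add, ← zpow_natCast, ← zpow_mul]
        push_cast
        ring_nf
    · obtain rfl : w = s := Fin.ext (by assumption)
      rw [mul_add, add_mul, hk]
      simp
    · exact hk

/-- The monomial matrix of the `i`-th reflection. -/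
abbrev refM (T : Tbl) (D : ChevalleyDatum) (F : Type*) [Field F] (i : ℕ) : Matrix D.Idx D.Idx F := nModel T D i 1

section Refl

variable (S : Spec D T) {i : ℕ} (hi : i < D.rank)
include S hi

theorem refM_mul_inr (X : Matrix D.Idx D.Idx F) (w : Fin D.nroots) (j : D.Idx) :
    (refM T D F i * X) (Sum.inr w) j =
      ((T.eta' i (T.refl' i w) : ℤ) : F) * X (Sum.inr ⟨T.refl' i w, S.refl_lt i hi w w.2⟩) j := by
  rw [Matrix.mul_apply, Fintype.sum_sum_type]
  have h0 : ∑ c : Fin D.rank, refM T D F i (Sum.inr w) (Sum.inl c) * X (Sum.inl c) j = 0 :=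
    Finset.sum_eq_zero fun c _ => by simp [nModel]
  rw [h0, zero_add, Finset.sum_eq_single (⟨T.refl' i w, S.refl_lt i hi w w.2⟩ : Fin D.nroots)]
  · simp [nModel, S.refl_refl i hi w w.2]
  · intro b _ hb
    have hwb : ¬ w.val = T.refl' i b := fun e => hb (Fin.ext (by
      show b.val = T.refl' i w
      rw [e, S.refl_refl i hi b b.2]))
    simp [nModel, hwb]
  · intro h; exact absurd (Finset.mem_univ _) h

theorem refM_mul_inl (X : Matrix D.Idx D.Idx F) (i' : Fin D.rank) (j : D.Idx) :
    (refM T D F i * X) (Sum.inl i') j = X (Sum.inl i') j -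
      if i'.val = i then ∑ c : Fin D.rank, ((T.cartan c (T.simp' i) : ℤ) : F) * X (Sum.inl c) j else 0 := by
  rw [Matrix.mul_apply, Fintype.sum_sum_type]
  have h0 : ∑ b : Fin D.nroots, refM T D F i (Sum.inl i') (Sum.inr b) * X (Sum.inr b) j = 0 :=
    Finset.sum_eq_zero fun c _ => by simp [nModel]
  rw [h0, add_zero]
  simp only [nModel, Matrix.of_apply, sub_mul, Finset.sum_sub_distrib, ite_mul, one_mul, zero_mul,
    Finset.sum_ite_eq, Finset.mem_univ, if_true]
  congr 1
  split_ifs <;> simp

theorem mul_refM_inl (X : Matrix D.Idx D.Idx F) (a : D.Idx) (c : Fin D.rank) :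
    (X * refM T D F i) a (Sum.inl c) =
      X a (Sum.inl c) - ((T.cartan c (T.simp' i) : ℤ) : F) * X a (Sum.inl ⟨i, hi⟩) := by
  rw [Matrix.mul_apply, Fintype.sum_sum_type]
  have h0 : ∑ b : Fin D.nroots, X a (Sum.inr b) * refM T D F i (Sum.inr b) (Sum.inl c) = 0 :=
    Finset.sum_eq_zero fun c _ => by simp [nModel]
  rw [h0, add_zero]
  simp only [nModel, Matrix.of_apply, mul_sub, Finset.sum_sub_distrib, mul_ite, mul_one, mul_zero,
    Finset.sum_ite_eq', Finset.mem_univ, if_true]
  congr 1
  rw [Finset.sum_eq_single (⟨i, hi⟩ : Fin D.rank)]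
  · simp [mul_comm]
  · intro b _ hb
    exact if_neg fun e => hb (Fin.ext e)
  · intro h; exact absurd (Finset.mem_univ _) h

theorem mul_refM_inr (X : Matrix D.Idx D.Idx F) (a : D.Idx) (s : Fin D.nroots) :
    (X * refM T D F i) a (Sum.inr s) =
      X a (Sum.inr ⟨T.refl' i s, S.refl_lt i hi s s.2⟩) * ((T.eta' i s : ℤ) : F) := by
  rw [Matrix.mul_apply, Fintype.sum_sum_type]
  have h0 : ∑ c : Fin D.rank, X a (Sum.inl c) * refM T D F i (Sum.inl c) (Sum.inr s) = 0 :=
    Finset.sum_eq_zero fun c _ => by simp [nModel]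
  rw [h0, zero_add, Finset.sum_eq_single (⟨T.refl' i s, S.refl_lt i hi s s.2⟩ : Fin D.nroots)]
  · simp [nModel]
  · intro b _ hb
    have : ¬ b.val = T.refl' i s := fun e => hb (Fin.ext e)
    simp [nModel, this]
  · intro h; exact absurd (Finset.mem_univ _) h

theorem refl_eq_iff {a b : ℕ} (ha : a < D.nroots) (hb : b < D.nroots) : T.refl' i a = T.refl' i b ↔ a = b :=
  ⟨fun e => by rw [← S.refl_refl i hi a ha, e, S.refl_refl i hi b hb], congrArg _⟩

theorem refl_eq_iff' {a b : ℕ} (ha : a < D.nroots) (hb : b < D.nroots) : T.refl' i a = b ↔ a = T.refl' i b :=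
  ⟨fun e => by rw [← e, S.refl_refl i hi a ha], fun e => by rw [e, S.refl_refl i hi b hb]⟩

/-- A reflection conjugates root elements to root elements. -/
theorem refM_mul_x {r : ℕ} (hr : r < D.nroots) (t : F) :
    refM T D F i * D.x F r t = D.x F (T.refl' i r) ((T.eta' i r : ℤ) * t) * refM T D F i := by
  have hr' := S.refl_lt i hi r hr
  have hn := S.neg_lt r hr
  have he : ((T.eta' i r : ℤ) : F) * (T.eta' i r : ℤ) = 1 := eta_sq T i r
  have hne : T.neg (T.refl' i r) = T.refl' i (T.neg r) := (S.refl_neg i hi r hr).symm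
  ext a b
  rcases a with i' | w <;> rcases b with c | s
  · rw [refM_mul_inl S hi, mul_refM_inl S hi]
    simp only [x_inl_inl S hr, x_inl_inl S hr', mul_ite, mul_one, mul_zero, Finset.sum_ite_eq', Finset.mem_univ,
      if_true]
    by_cases h : i'.val = i
    · obtain rfl : i' = ⟨i, hi⟩ := Fin.ext h
      simp
    · have h' : ¬ i' = (⟨i, hi⟩ : Fin D.rank) := fun e => h (congrArg Fin.val e)
      simp [h, h']
  · rw [refM_mul_inl S hi, mul_refM_inr S hi]
    simp only [x_inl_inr S hr, x_inl_inr S hr', hne, refl_eq_iff S hi s.2 hn]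
    by_cases hs : s.val = T.neg r
    · simp only [if_pos hs]
      have hcast : ((((List.range D.rank).map fun j => T.coroot r j * T.cartan j (T.simp' i)).sum : ℤ) : F) =
          ∑ x : Fin D.rank, ((T.coroot r x : ℤ) : F) * (T.cartan x (T.simp' i) : ℤ) := by
        have : ∀ n, (((List.range n).map fun j => T.coroot r j * T.cartan j (T.simp' i)).sum : ℤ) =
            ∑ j ∈ Finset.range n, T.coroot r j * T.cartan j (T.simp' i) := by
          intro n; induction n with
          | zero => simp
          | succ n ih => simp [List.range_succ, Finset.sum_range_succ, ih]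
        rw [this, Finset.sum_range]
        push_cast
        rfl
      rw [hs, S.eta_neg i hi r hr, S.cor_refl i hi r hr i' i'.2]
      have e3 : ∑ x : Fin D.rank, ((T.cartan x (T.simp' i) : ℤ) : F) * (((T.coroot r x : ℤ) : F) * t) =
          (∑ x : Fin D.rank, ((T.coroot r x : ℤ) : F) * (T.cartan x (T.simp' i) : ℤ)) * t := by
        rw [Finset.sum_mul]
        exact Finset.sum_congr rfl fun x _ => by ring
      rw [e3]
      by_cases h : i'.val = i
      · simp only [if_pos h]
        push_cast [hcast]
        linear_combination (-((T.coroot r i' : ℤ) : F) * t + (∑ x : Fin D.rank,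
          ((T.coroot r x : ℤ) : F) * (T.cartan x (T.simp' i) : ℤ)) * t) * he
      · simp only [if_neg h, sub_zero]
        linear_combination (-((T.coroot r i' : ℤ) : F) * t) * he
    · simp [if_neg hs]
  · rw [refM_mul_inr S hi, mul_refM_inl S hi]
    simp only [x_inr_inl S hr, x_inr_inl S hr', refl_eq_iff' S hi w.2 hr]
    by_cases hw : w.val = T.refl' i r
    · simp only [if_pos hw]
      rw [hw, S.refl_refl i hi r hr]
      have e1 := S.cart_refl i hi c c.2 r hr
      have e2 := S.cart_refl i hi i hi r hr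
      rw [S.cart_simple i hi] at e2
      rw [e1, e2]
      push_cast
      ring
    · simp [if_neg hw]
  · rw [refM_mul_inr S hi, mul_refM_inr S hi, x_inr_inr S hr, x_inr_inr S hr']
    simp only [hne, refl_eq_iff S hi s.2 hn, refl_eq_iff S hi s.2 hr, refl_eq_iff' S hi w.2 hr,
      refl_eq_iff' S hi w.2 s.2]
    by_cases h1 : s.val = r
    · rw [if_pos h1, if_pos h1]
      split_ifs with h2
      · rw [h2, h1, S.refl_refl i hi r hr, mul_comm]
      · simp
    rw [if_neg h1, if_neg h1]
    by_cases h2 : s.val = T.neg r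
    · rw [if_pos h2, if_pos h2]
      split_ifs with h3 h4
      · rw [h3, S.refl_refl i hi s s.2, mul_comm]
      · rw [h4, S.refl_refl i hi r hr, h2, S.eta_neg i hi r hr, mul_pow]
        linear_combination (((T.eta' i r : ℤ) : F) * t ^ 2) * he
      · simp
    rw [if_neg h2, if_neg h2, S.entry_refl i hi r hr s s.2, imgEntry, mul_add, add_mul]
    have hmem : ∀ q ∈ T.entry r s, q.1 < D.nroots := fun q hq => by
      obtain ⟨k, hk⟩ := List.getElem?_of_mem hq
      exact (S.entry_mem r hr s s.2 k q hk).1
    have key : ∀ (l : List (ℕ × ℤ)) (k : ℕ) (b : ℤ), (∀ q ∈ l, q.1 < D.nroots) →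
        ((b : ℤ) : F) = ((T.eta' i r : ℤ) : F) ^ k * (T.eta' i s : ℤ) →
        ((T.eta' i (T.refl' i w) : ℤ) : F) * chainVal l k t (T.refl' i w) =
          chainVal (img T i (T.eta' i r) l b) k (((T.eta' i r : ℤ) : F) * t) w * (T.eta' i s : ℤ) := by
      intro l
      induction l with
      | nil => intro k b _ _; simp [chainVal, img]
      | cons q l ih =>
        intro k b hm hb
        have h' := ih (k + 1) (T.eta' i r * b) (fun x hx => hm x (List.mem_cons_of_mem _ hx)) (by
          push_cast; rw [hb]; ring)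
        have hq := hm q (List.mem_cons_self ..)
        simp only [chainVal, img, List.zipIdx_cons, List.map_cons, List.sum_cons, mul_add, add_mul] at h' ⊢
        rw [h']
        congr 1
        simp only [refl_eq_iff' S hi hq w.2]
        split_ifs with hqw
        · rw [← hqw]
          push_cast
          rw [hb, mul_pow]
          have e1 : (((T.eta' i r : ℤ) : F) ^ k) * ((T.eta' i r : ℤ) : F) ^ k = 1 := by
            rw [← mul_pow, he, one_pow]
          have e2 : ((T.eta' i s : ℤ) : F) * (T.eta' i s : ℤ) = 1 := eta_sq T i s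
          have e3 : ((T.eta' i r : ℤ) : F) * ((T.eta' i r : ℤ) : F) ^ k * ((T.eta' i s : ℤ) : F) *
              ((((T.eta' i r : ℤ) : F)) ^ (k + 1)) * (T.eta' i s : ℤ) = 1 := by
            rw [pow_succ]
            linear_combination (((T.eta' i r : ℤ) : F) * (T.eta' i r : ℤ) * (T.eta' i s : ℤ) * (T.eta' i s : ℤ)) * e1 +
              ((T.eta' i r : ℤ) : F) * (T.eta' i r : ℤ) * e2 + he
          linear_combination -((q.2 : F) * t ^ (k + 1) * (T.eta' i q.1 : ℤ)) * e3
        · simp
    rw [key _ 0 (T.eta' i s) hmem (by simp)]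
    congr 1
    split_ifs with h3
    · rw [h3, S.refl_refl i hi s s.2, mul_comm]
    · simp

/-- `n_i (v) = h_i (v) n_i (1)`. -/
theorem nModel_eq (v : F) : nModel T D i v = dModel T D i v * refM T D F i := by
  ext a b
  rw [dModel, Matrix.diagonal_mul]
  rcases a with i' | w <;> rcases b with c | s <;> simp [nModel]
  split_ifs with h
  · have e2 := S.cart_refl i hi i hi s s.2
    rw [S.cart_simple i hi] at e2
    rw [h, e2, show T.cartan i ↑s - T.cartan i ↑s * 2 = -T.cartan i ↑s by ring, zpow_neg]
    ring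
  · rfl

/-- The square of a reflection matrix. -/
theorem refM_sq : refM T D F i * refM T D F i = dModel T D i (-1) := by
  ext a b
  rw [dModel]
  rcases a with i' | w
  · rw [refM_mul_inl S hi]
    rcases b with c | s
    · by_cases h : i'.val = i
      · obtain rfl : i' = ⟨i, hi⟩ := Fin.ext h
        have hsum : ∑ x : Fin D.rank, ((T.cartan x (T.simp' i) : ℤ) : F) * refM T D F i (Sum.inl x) (Sum.inl c) =
            ((T.cartan c (T.simp' i) : ℤ) : F) - 2 * (T.cartan c (T.simp' i) : ℤ) := by
          have e : ∀ x : Fin D.rank, ((T.cartan x (T.simp' i) : ℤ) : F) * refM T D F i (Sum.inl x) (Sum.inl c) =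
              (if x = c then ((T.cartan x (T.simp' i) : ℤ) : F) else 0) -
              (if x = (⟨i, hi⟩ : Fin D.rank) then ((T.cartan x (T.simp' i) : ℤ) : F) * (T.cartan c (T.simp' i) : ℤ) else 0) := by
            intro x
            simp [nModel, mul_sub, Fin.ext_iff]
          simp only [e, Finset.sum_sub_distrib, Finset.sum_ite_eq', Finset.mem_univ, if_true, S.cart_simple i hi]
          push_cast
          ring
        simp only [if_true, hsum, Matrix.diagonal_apply]
        simp [nModel, Fin.ext_iff]
        split_ifs <;> ring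
      · simp [nModel, Matrix.diagonal_apply, h, Fin.ext_iff]
    · simp [nModel]
  · rw [refM_mul_inr S hi]
    rcases b with c | s
    · simp [nModel]
    · simp only [nModel, Matrix.of_apply, Matrix.diagonal_apply, refl_eq_iff S hi w.2 s.2, Sum.inr.injEq,
        Fin.ext_iff, Sum.elim_inr, one_zpow, mul_one]
      split_ifs with h
      · rw [h, ← Int.cast_mul, S.eta_refl i hi s s.2, (sgn_zpow (F := F) (Or.inr rfl) _).1]
        simp
      · simp

theorem refM_inv : refM T D F i * (refM T D F i * dModel T D i (-1)) = 1 := by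
  rw [← mul_assoc, refM_sq S hi, dModel_eq_scal hi, scal_mul, ← scal_one (D := D) (T := T) (F := F)]
  congr 1
  funext j
  split_ifs <;> simp

end Refl

end Cfsg.Lib.Chev
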