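import Mathlib
import Cfsg.Agent.Lib.Chev.Model
import Cfsg.Agent.Lib.Linear.ChevBasic

/-!
The elementary relations between root elements, derived from a certified table: additivity, the elements
`n_r (t)` and `h_r (t)`, and their action on root elements.
-/

set_option autoImplicit false

namespace Cfsg.Lib.Chev

open Cfsg.Lie
open scoped Matrix

/-- The check for `n_i (t) = x (t) y (-1/t) x (t)`. -/
def nChk (T : Tbl) (i : ℕ) : Bool :=
  sameWord T [.x (T.simp' i) [⟨1, 1, 0⟩], .x (T.neg (T.simp' i)) [⟨-1, -1, 0⟩], .x (T.simp' i) [⟨1, 1, 0⟩]]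
    [.n i ⟨1, 1, 0⟩]

/-- The check for additivity at a fundamental root. -/
def addChk (T : Tbl) (i : ℕ) : Bool :=
  sameWord T [.x (T.simp' i) [⟨1, 1, 0⟩], .x (T.simp' i) [⟨1, 0, 1⟩]]
    [.x (T.simp' i) [⟨1, 1, 0⟩, ⟨1, 0, 1⟩]]

/-- Positive roots first by index, negative roots after. -/
def key (n r : ℕ) : ℕ := bif Nat.ble n (2 * r) then r else 2 * n - r

/-- Existence below a bound. -/
noncomputable def anyBelow (f : ℕ → Bool) (n : ℕ) : Bool := Nat.rec false (fun k r => Bool.rec r true (f k)) n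

theorem exists_of_anyBelow {f : ℕ → Bool} : ∀ {n : ℕ}, anyBelow f n = true → ∃ k < n, f k = true
  | 0, h => absurd h Bool.false_ne_true
  | n + 1, h => by
    change Bool.rec (anyBelow f n) true (f n) = true at h
    cases hf : f n
    · rw [hf] at h
      obtain ⟨k, hk, hk'⟩ := exists_of_anyBelow h
      exact ⟨k, Nat.lt_succ_of_lt hk, hk'⟩
    · exact ⟨n, Nat.lt_succ_self n, hf⟩

/-- Every root is fundamental or can be moved to a smaller key by a reflection. -/
noncomputable def chkDesc (T : Tbl) : Bool :=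
  allBelow (fun r => anyBelow (fun i => Nat.beq (T.simp' i) r || Nat.blt (key T.nroots (T.refl' i r)) (key T.nroots r))
    T.rank) T.nroots

/-- The index is compatible with negation and with a linear functional. -/
noncomputable def chkOrd (D : ChevalleyDatum) (T : Tbl) (φ : List ℤ) : Bool :=
  allBelow (fun r => Nat.beq (T.neg r) (T.nroots - 1 - r) &&
    ((decide (D.IsPosRoot r) == Nat.ble T.nroots (2 * r)) && ((decide (D.IsNegRoot r) == Nat.blt (2 * r) T.nroots) &&
    (Nat.ble T.nroots (r + 1) || decide (fval T φ r < fval T φ (r + 1)))))) T.nroots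

/-- A certified table. -/
structure Cert (D : ChevalleyDatum) (T : Tbl) : Prop where
  spec : Spec D T
  nOK : ∀ i < D.rank, nChk T i = true
  addOK : ∀ i < D.rank, addChk T i = true
  desc : chkDesc T = true
  ord : ∃ φ, chkOrd D T φ = true

variable {D : ChevalleyDatum} {T : Tbl} {F : Type*} [Field F]

section

variable (C : Cert D T)
include C

theorem Cert.root_induction {P : ℕ → Prop} (h0 : ∀ i < D.rank, P (T.simp' i))
    (h1 : ∀ i < D.rank, ∀ r < D.nroots, P r → P (T.refl' i r)) : ∀ r < D.nroots, P r := by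
  suffices h : ∀ k, ∀ r < D.nroots, key D.nroots r = k → P r from fun r hr => h _ r hr rfl
  intro k
  induction k using Nat.strong_induction_on with
  | _ k ih =>
    intro r hr hk
    have h := allBelow_iff.1 C.desc r (C.spec.shape.nroots_eq ▸ hr)
    obtain ⟨i, hi, h⟩ := exists_of_anyBelow h
    rw [C.spec.shape.rank_eq] at hi
    simp only [Bool.or_eq_true, Nat.beq_eq, Nat.blt_eq, C.spec.shape.nroots_eq] at h
    rcases h with h | h
    · exact h ▸ h0 i hi
    · have := ih _ (hk ▸ h) _ (C.spec.refl_lt i hi r hr) rfl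
      simpa only [C.spec.refl_refl i hi r hr] using h1 i hi _ (C.spec.refl_lt i hi r hr) this

theorem Cert.isPos_iff {r : ℕ} (hr : r < D.nroots) : D.IsPosRoot r ↔ D.nroots ≤ 2 * r := by
  obtain ⟨φ, h⟩ := C.ord
  have := allBelow_iff.1 h r (C.spec.shape.nroots_eq ▸ hr)
  simp only [Bool.and_eq_true, beq_iff_eq, C.spec.shape.nroots_eq] at this
  have h' := this.2.1
  rw [← decide_eq_true_iff (p := D.IsPosRoot r), h', Nat.ble_eq]

theorem Cert.isNeg_iff {r : ℕ} (hr : r < D.nroots) : D.IsNegRoot r ↔ 2 * r < D.nroots := by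
  obtain ⟨φ, h⟩ := C.ord
  have := allBelow_iff.1 h r (C.spec.shape.nroots_eq ▸ hr)
  simp only [Bool.and_eq_true, beq_iff_eq, C.spec.shape.nroots_eq] at this
  have h' := this.2.2.1
  rw [← decide_eq_true_iff (p := D.IsNegRoot r), h', Nat.blt_eq]

theorem Cert.neg_eq {r : ℕ} (hr : r < D.nroots) : T.neg r = D.nroots - 1 - r := by
  obtain ⟨φ, h⟩ := C.ord
  have := allBelow_iff.1 h r (C.spec.shape.nroots_eq ▸ hr)
  simp only [Bool.and_eq_true, Nat.beq_eq, C.spec.shape.nroots_eq] at this
  exact this.1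

end

theorem x_zero' (D : ChevalleyDatum) (r : ℕ) : D.x F r 0 = 1 := Cfsg.Lib.Linear.Chev.x_zero D r

theorem mul_cancel_right_of_inv {M A B N : Matrix D.Idx D.Idx F} (hN : M * N = 1) (h : A * M = B * M) : A = B := by
  have := congrArg (· * N) h
  simpa [mul_assoc, hN] using this

section

variable (C : Cert D T)
include C

theorem x_add {r : ℕ} (hr : r < D.nroots) (t u : F) : D.x F r t * D.x F r u = D.x F r (t + u) := by
  revert t u
  refine C.root_induction (P := fun r => ∀ t u : F, D.x F r t * D.x F r u = D.x F r (t + u)) ?_ ?_ r hr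
  · intro i hi t u
    rcases eq_or_ne t 0 with rfl | ht
    · rw [x_zero', one_mul, zero_add]
    rcases eq_or_ne u 0 with rfl | hu
    · rw [x_zero', mul_one, add_zero]
    have hp := C.spec.simp_lt i hi
    have := wmat_eq_of_sameWord t u C.spec.shape ht hu (w₁ := [.x (T.simp' i) [⟨1, 1, 0⟩], .x (T.simp' i) [⟨1, 0, 1⟩]])
      (w₂ := [.x (T.simp' i) [⟨1, 1, 0⟩, ⟨1, 0, 1⟩]]) (by simp [Ltr.ok, hp]) (by simp [Ltr.ok, hp]) (C.addOK i hi)
    simpa [wmat, Ltr.mat, pval, Mono.val] using this
  · intro i hi r hr h t u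
    have he := eta_sq (F := F) T i r
    refine mul_cancel_right_of_inv (refM_inv (F := F) C.spec hi) ?_
    have et : ∀ x : F, D.x F (T.refl' i r) x * refM T D F i = refM T D F i * D.x F r ((T.eta' i r : ℤ) * x) := by
      intro x
      rw [refM_mul_x C.spec hi hr, ← mul_assoc, he, one_mul]
    rw [mul_assoc, et u, ← mul_assoc, et t, mul_assoc, h, et, mul_add]

theorem x_neg_mul {r : ℕ} (hr : r < D.nroots) (t : F) : D.x F r (-t) * D.x F r t = 1 := by
  rw [x_add C hr, neg_add_cancel, x_zero']

theorem xdet_ne_zero (r : ℕ) (t : F) : (D.x F r t).det ≠ 0 := by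
  by_cases hr : r < D.nroots
  · intro h
    have := congrArg Matrix.det (x_neg_mul C hr t)
    rw [Matrix.det_mul, h, mul_zero, Matrix.det_one] at this
    exact zero_ne_one this
  · rw [ChevalleyDatum.x, dif_neg hr, Matrix.det_one]
    exact one_ne_zero

theorem nMat_simple {i : ℕ} (hi : i < D.rank) {v : F} (hv : v ≠ 0) :
    D.nMat F (D.simple i) v = nModel T D i v := by
  have hp := C.spec.simp_lt i hi
  have := wmat_eq_of_sameWord v 1 C.spec.shape hv one_ne_zero
    (w₁ := [.x (T.simp' i) [⟨1, 1, 0⟩], .x (T.neg (T.simp' i)) [⟨-1, -1, 0⟩], .x (T.simp' i) [⟨1, 1, 0⟩]])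
    (w₂ := [.n i ⟨1, 1, 0⟩]) (by simp [Ltr.ok, hp, C.spec.neg_lt _ hp]) (by simp [Ltr.ok, hi]) (C.nOK i hi)
  rw [C.spec.shape.simple_eq i hi]
  simp only [ChevalleyDatum.nMat, ChevalleyDatum.wordMat, ChevalleyDatum.nWord, C.spec.shape.neg_eq _ hp]
  simpa [wmat, Ltr.mat, pval, Mono.val] using this

theorem nMat_eq_refM {i : ℕ} (hi : i < D.rank) : D.nMat F (D.simple i) 1 = refM T D F i :=
  nMat_simple C hi one_ne_zero

theorem refM_mul_nMat {i : ℕ} (hi : i < D.rank) {r : ℕ} (hr : r < D.nroots) (v : F) :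
    refM T D F i * D.nMat F r v = D.nMat F (T.refl' i r) ((T.eta' i r : ℤ) * v) * refM T D F i := by
  have hn := C.spec.neg_lt r hr
  simp only [ChevalleyDatum.nMat, ChevalleyDatum.wordMat, ChevalleyDatum.nWord, List.map_cons, List.map_nil,
    List.prod_cons, List.prod_nil, mul_one]
  rw [← mul_assoc, refM_mul_x C.spec hi hr, mul_assoc, ← mul_assoc (refM T D F i),
    C.spec.shape.neg_eq r hr, C.spec.shape.neg_eq _ (C.spec.refl_lt i hi r hr),
    refM_mul_x C.spec hi hn, mul_assoc, refM_mul_x C.spec hi hr, C.spec.refl_neg i hi r hr, C.spec.eta_neg i hi r hr]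
  have : ((T.eta' i r : ℤ) : F) * -v⁻¹ = -(((T.eta' i r : ℤ) : F) * v)⁻¹ := by
    rcases eta_cases T i r with h | h <;> simp [h, inv_neg]
  rw [this]
  simp only [mul_assoc]

/-- The diagonal matrix `h_r (z)` as a character. -/
def coDiag (_C : Cert D T) (r : ℕ) (z : F) : Matrix D.Idx D.Idx F := scal T D fun k => z ^ T.coroot r k

theorem coDiag_simple {i : ℕ} (hi : i < D.rank) (z : F) : coDiag C (T.simp' i) z = dModel T D i z := by
  rw [dModel_eq_scal hi, coDiag, scal, scal]
  congr 1
  funext j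
  rcases j with c | s
  · rfl
  · simp only [Sum.elim_inr, chr]
    refine Finset.prod_congr rfl fun k hk => ?_
    rw [C.spec.cor_simple i hi k (Finset.mem_range.1 hk)]
    split_ifs <;> simp

theorem refM_mul_coDiag {i : ℕ} (hi : i < D.rank) {r : ℕ} (hr : r < D.nroots) {z : F} (hz : z ≠ 0) :
    refM T D F i * coDiag C r z = coDiag C (T.refl' i r) z * refM T D F i := by
  ext a b
  rw [coDiag, coDiag, scal, scal, Matrix.mul_diagonal, Matrix.diagonal_mul]
  rcases a with i' | w <;> rcases b with c | s <;> simp [nModel]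
  split_ifs with h
  · rw [h, mul_comm]
    congr 1
    have hz' : ∀ (g : ℕ → ℤ), (∏ k ∈ Finset.range D.rank, z ^ g k) = z ^ (∑ k ∈ Finset.range D.rank, g k) := by
      intro g
      induction D.rank with
      | zero => simp
      | succ n ih => rw [Finset.prod_range_succ, Finset.sum_range_succ, ih, zpow_add₀ hz]
    simp only [chr, ← zpow_mul, hz']
    congr 1
    have hsum : ∀ n, (((List.range n).map fun j => T.coroot r j * T.cartan j (T.simp' i)).sum : ℤ) =
        ∑ j ∈ Finset.range n, T.coroot r j * T.cartan j (T.simp' i) := by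
      intro n; induction n with
      | zero => simp
      | succ n ih => simp [List.range_succ, Finset.sum_range_succ, ih]
    have e : ∀ k ∈ Finset.range D.rank, T.coroot (T.refl' i r) k * T.cartan k (T.refl' i s) =
        (T.coroot r k * T.cartan k s - T.cartan i s * (T.coroot r k * T.cartan k (T.simp' i))) -
        (if k = i then (∑ j ∈ Finset.range D.rank, T.coroot r j * T.cartan j (T.simp' i)) * (-T.cartan i s) else 0) := by
      intro k hk
      have hk' := Finset.mem_range.1 hk
      rw [C.spec.cor_refl i hi r hr k hk', C.spec.cart_refl i hi k hk' s s.2, hsum]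
      split_ifs with h1
      · subst h1
        rw [C.spec.cart_simple k hi]
        ring
      · ring
    rw [Finset.sum_congr rfl e, Finset.sum_sub_distrib, Finset.sum_sub_distrib, ← Finset.mul_sum,
      Finset.sum_ite_eq', if_pos (Finset.mem_range.2 hi)]
    ring
  · rfl

theorem dModel_mul_refM {i : ℕ} (hi : i < D.rank) {w : F} (hw : w ≠ 0) :
    refM T D F i * dModel T D i w = dModel T D i w⁻¹ * refM T D F i := by
  rw [← coDiag_simple C hi, refM_mul_coDiag C hi (C.spec.simp_lt i hi) hw, C.spec.refl_simple i hi,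
    ← coDiag_simple C hi]
  congr 1
  rw [coDiag, coDiag, scal, scal]
  congr 1
  funext j
  rcases j with c | s
  · rfl
  · simp only [Sum.elim_inr, chr]
    refine Finset.prod_congr rfl fun k hk => ?_
    rw [C.spec.cor_neg _ (C.spec.simp_lt i hi) k (Finset.mem_range.1 hk), zpow_neg, inv_zpow, inv_zpow, inv_zpow]

theorem nMat_mul_nMat {r : ℕ} (hr : r < D.nroots) {v w : F} (hv : v ≠ 0) (hw : w ≠ 0) :
    D.nMat F r v * D.nMat F r w = coDiag C r (-v / w) := by
  revert v w
  refine C.root_induction (P := fun r => ∀ {v w : F}, v ≠ 0 → w ≠ 0 →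
    D.nMat F r v * D.nMat F r w = coDiag C r (-v / w)) ?_ ?_ r hr
  · intro i hi v w hv hw
    rw [coDiag_simple C hi, ← C.spec.shape.simple_eq i hi, nMat_simple C hi hv, nMat_simple C hi hw,
      nModel_eq C.spec hi, nModel_eq C.spec hi, mul_assoc, ← mul_assoc (refM T D F i), dModel_mul_refM C hi hw,
      mul_assoc, refM_sq C.spec hi, dModel_eq_scal hi, dModel_eq_scal hi, dModel_eq_scal hi, dModel_eq_scal hi,
      scal_mul, scal_mul]
    congr 1
    funext j
    split_ifs <;> simp [div_eq_mul_inv]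
  · intro i hi r hr h v w hv hw
    have he := eta_sq (F := F) T i r
    have het := eta_ne_zero (F := F) T i r
    refine mul_cancel_right_of_inv (refM_inv (F := F) C.spec hi) ?_
    have e : ∀ x : F, D.nMat F (T.refl' i r) x * refM T D F i =
        refM T D F i * D.nMat F r ((T.eta' i r : ℤ) * x) := by
      intro x
      rw [refM_mul_nMat C hi hr, ← mul_assoc, he, one_mul]
    rw [mul_assoc, e w, ← mul_assoc, e v, mul_assoc, h (mul_ne_zero het hv) (mul_ne_zero het hw),
      refM_mul_coDiag C hi hr (div_ne_zero (neg_ne_zero.2 (mul_ne_zero het hv)) (mul_ne_zero het hw))]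
    congr 2
    field_simp

theorem hMat_eq {r : ℕ} (hr : r < D.nroots) {v : F} (hv : v ≠ 0) : D.hMat F r v = coDiag C r v := by
  have : D.hMat F r v = D.nMat F r v * D.nMat F r (-1) := by
    simp [ChevalleyDatum.hMat, ChevalleyDatum.hWord, ChevalleyDatum.nMat, ChevalleyDatum.wordMat, mul_assoc]
  rw [this, nMat_mul_nMat C hr hv (neg_ne_zero.2 one_ne_zero), neg_div_neg_eq, div_one]

theorem hMat_simple {i : ℕ} (hi : i < D.rank) {v : F} (hv : v ≠ 0) :
    D.hMat F (D.simple i) v = dModel T D i v := by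
  rw [C.spec.shape.simple_eq i hi, hMat_eq C (C.spec.simp_lt i hi) hv, coDiag_simple C hi]

end

end Cfsg.Lib.Chev
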