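import Mathlib
import Cfsg.Agent.Lib.Chev.Basic

/-!
Chevalley's commutator formula: the terms of the formula are equivariant under the reflections, so the
formula follows from finitely many base cases, one for each orbit of the Weyl group on pairs of roots.
-/

set_option autoImplicit false

namespace Cfsg.Lib.Chev

open Cfsg.Lie
open scoped Matrix

/-- The root `i r + s`, read off the table. -/
def tRoot (T : Tbl) (r s i : ℕ) : Option ℕ := ((T.entry r s)[i - 1]?).map Prod.fst

/-- The coefficient of `i r + s`, read off the table. -/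
def tM (T : Tbl) (r s i : ℕ) : ℤ := (((T.entry r s)[i - 1]?).map Prod.snd).getD 0

/-- The terms of the commutator formula, read off the table. -/
def tTerms (T : Tbl) (r s : ℕ) : List (ℕ × ℤ × ℕ × ℕ) :=
  let rs := tRoot T r s 1
  let cands : List (Option ℕ × ℤ × ℕ × ℕ) :=
    [ (tRoot T r s 1, tM T r s 1, 1, 1),
      (tRoot T r s 2, tM T r s 2, 2, 1),
      (tRoot T s r 2, tM T s r 2, 1, 2),
      (tRoot T r s 3, tM T r s 3, 3, 1),
      (tRoot T s r 3, - tM T s r 3, 1, 3),
      ((tRoot T r s 3).bind fun k => tRoot T k s 1, (rs.map fun k => tM T k r 2 / 3).getD 0, 3, 2),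
      ((tRoot T s r 3).bind fun k => tRoot T k r 1, (rs.map fun k => -2 * tM T k s 2 / 3).getD 0, 2, 3) ]
  cands.filterMap fun c => c.1.map fun k => (k, c.2)

/-- The base case of the formula for `(r, s)`. -/
def commChk (T : Tbl) (r s : ℕ) : Bool :=
  sameWord T [.x s [⟨1, 0, 1⟩], .x r [⟨1, 1, 0⟩]]
    ([.x r [⟨1, 1, 0⟩], .x s [⟨1, 0, 1⟩]] ++
      (tTerms T r s).map fun c => .x c.1 [⟨c.2.1 * (-1) ^ c.2.2.1, c.2.2.1, c.2.2.2⟩])

/-- Follow a packed word of reflections. -/
noncomputable def follow (T : Tbl) (fuel : ℕ) (w r s : ℕ) : ℕ × ℕ :=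
  Nat.rec (motive := fun _ => ℕ → ℕ → ℕ → ℕ × ℕ) (fun _ r s => (r, s))
    (fun _ rec w r s => bif Nat.beq w 0 then (r, s) else rec (w / 16) (T.refl' (w % 16 - 1) r) (T.refl' (w % 16 - 1) s))
    fuel w r s

/-- The letters of a packed word are fundamental indices. -/
noncomputable def wordOK (n : ℕ) (fuel : ℕ) (w : ℕ) : Bool :=
  Nat.rec (motive := fun _ => ℕ → Bool) (fun w => Nat.beq w 0)
    (fun _ rec w => bif Nat.beq w 0 then true else (Nat.blt (w % 16 - 1) n && rec (w / 16))) fuel w

/-- The pair is among the base cases. -/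
def isRep (reps : List (ℕ × ℕ)) (q : ℕ × ℕ) : Bool := reps.any fun x => Nat.beq x.1 q.1 && Nat.beq x.2 q.2

/-- The pairs `(p, s)` lead to base cases. -/
noncomputable def chkPaths (T : Tbl) (reps : List (ℕ × ℕ)) (paths : BT) : Bool :=
  allBelow (fun i =>
    let p := T.simp' i
    allBelow (fun s => Nat.beq s p || (Nat.beq s (T.neg p) ||
      (let w := paths.get (i + T.rank * s)
       wordOK T.rank 160 w && isRep reps (follow T 160 w p s)))) T.nroots) T.rank

/-- The divisibility needed for the coefficients with denominators. -/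
noncomputable def chkThree (D : ChevalleyDatum) (T : Tbl) : Bool :=
  Nat.ble T.width 2 || (Nat.beq D.chain.toList.length D.nroots && allIdx (fun a l => allIdx (fun _ e => Nat.ble (T.entry a e.1).length 2 ||
    ((match tRoot T a e.1 1 with | some k => decide (tM T k a 2 % 3 = 0) | none => true) &&
     (match tRoot T e.1 a 1 with | some k => decide (tM T k a 2 % 3 = 0) | none => true))) l.toList 0) D.chain.toList 0)

/-- The certificate for the commutator formula. -/
structure CommCert (D : ChevalleyDatum) (T : Tbl) : Prop where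
  cert : Cert D T
  three : chkThree D T = true
  base : ∃ reps : List (ℕ × ℕ), (∀ q ∈ reps, q.1 < D.nroots ∧ q.2 < D.nroots ∧ commChk T q.1 q.2 = true) ∧
    ∃ paths, chkPaths T reps paths = true

variable {D : ChevalleyDatum} {T : Tbl} {F : Type*} [Field F]

theorem img_getElem? (T : Tbl) (i : ℕ) (a : ℤ) : ∀ (l : List (ℕ × ℤ)) (b : ℤ) (m : ℕ),
    (img T i a l b)[m]? = (l[m]?).map fun q => (T.refl' i q.1, a ^ (m + 1) * b * T.eta' i q.1 * q.2)
  | [], b, m => by simp [img]
  | q :: l, b, 0 => by simp [img]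
  | q :: l, b, m + 1 => by
    simp only [img, List.getElem?_cons_succ, img_getElem? T i a l (a * b) m]
    congr 1
    funext q'
    rw [pow_succ a (m + 1)]
    congr 1
    ring

theorem fm_cons {α β γ : Type} {g : α → Option γ} {h : β → Option γ} {a : α} {b : β} {l : List α} {m : List β}
    (e : g a = h b) (e' : l.filterMap g = m.filterMap h) : (a :: l).filterMap g = (b :: m).filterMap h := by
  rw [List.filterMap_cons, List.filterMap_cons, e, e']

theorem entry_length_le (T : Tbl) (r s : ℕ) : (T.entry r s).length ≤ T.width := by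
  have : ∀ k v, (Tbl.fields v k).length ≤ k := by
    intro k
    induction k with
    | zero => intro v; simp [Tbl.fields]
    | succ k ih =>
      intro v
      rw [Tbl.fields]
      cases Nat.beq (v % 4096) 0
      · simp [ih]
      · simp
  exact this _ _

section

variable (C : Cert D T)
include C

theorem fval_refl_ne {φ : List ℤ} (hφ : chkOrd D T φ = true) {a b : ℕ} (hb : b < D.nroots)
    (hab : a < b) : fval T φ a < fval T φ b := by
  induction b with
  | zero => omega
  | succ b ih =>
    have h := allBelow_iff.1 hφ b (by rw [C.spec.shape.nroots_eq]; omega)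
    simp only [Bool.and_eq_true, Bool.or_eq_true, Nat.ble_eq, decide_eq_true_eq, C.spec.shape.nroots_eq] at h
    have hstep := h.2.2.2.resolve_left (by omega)
    rcases Nat.lt_succ_iff_lt_or_eq.1 hab with h' | rfl
    · exact lt_trans (ih (by omega) h') hstep
    · exact hstep

/-- Roots are determined by their weights. -/
theorem Cert.eq_of_weight {a b : ℕ} (ha : a < D.nroots) (hb : b < D.nroots)
    (h : ∀ j < D.rank, T.cartan j a = T.cartan j b) : a = b := by
  obtain ⟨φ, hφ⟩ := C.ord
  have e : fval T φ a = fval T φ b := by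
    simp only [fval, C.spec.shape.rank_eq]
    exact congrArg List.sum (List.map_congr_left fun j hj => by rw [h j (List.mem_range.1 hj)])
  rcases lt_trichotomy a b with h' | h' | h'
  · exact absurd e (ne_of_lt (fval_refl_ne C hφ hb h'))
  · exact h'
  · exact absurd e.symm (ne_of_lt (fval_refl_ne C hφ ha h'))

theorem tRoot_lt {r s i k : ℕ} (hr : r < D.nroots) (hs : s < D.nroots) (h : tRoot T r s i = some k) :
    k < D.nroots ∧ ∀ j < D.rank, T.cartan j k = ((i - 1 : ℕ) + 1 : ℤ) * T.cartan j r + T.cartan j s := by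
  obtain ⟨q, hq, rfl⟩ := Option.map_eq_some_iff.1 h
  exact C.spec.entry_mem r hr s hs (i - 1) q hq

theorem commTerms_eq {r s : ℕ} (hr : r < D.nroots) (hs : s < D.nroots) : D.commTerms r s = tTerms T r s := by
  have hR : ∀ {a b}, a < D.nroots → b < D.nroots → ∀ i, D.chainRoot a b i = tRoot T a b i := by
    intro a b ha hb i
    rw [ChevalleyDatum.chainRoot, C.spec.shape.chainEntry_eq ha hb]; rfl
  have hM : ∀ {a b}, a < D.nroots → b < D.nroots → ∀ i, D.chainM a b i = tM T a b i := by
    intro a b ha hb i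
    rw [ChevalleyDatum.chainM, C.spec.shape.chainEntry_eq ha hb]; rfl
  have e1 : ((D.chainRoot r s 3).bind fun k => D.chainRoot k s 1) = (tRoot T r s 3).bind fun k => tRoot T k s 1 := by
    rw [hR hr hs]
    rcases hk : tRoot T r s 3 with _ | k
    · rfl
    · exact hR (tRoot_lt C hr hs hk).1 hs 1
  have e2 : ((D.chainRoot s r 3).bind fun k => D.chainRoot k r 1) = (tRoot T s r 3).bind fun k => tRoot T k r 1 := by
    rw [hR hs hr]
    rcases hk : tRoot T s r 3 with _ | k
    · rfl
    · exact hR (tRoot_lt C hs hr hk).1 hr 1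
  have e3 : ((D.chainRoot r s 1).map fun k => D.chainM k r 2 / 3) = (tRoot T r s 1).map fun k => tM T k r 2 / 3 := by
    rw [hR hr hs]
    rcases hk : tRoot T r s 1 with _ | k
    · rfl
    · simp [hM (tRoot_lt C hr hs hk).1 hr]
  have e4 : ((D.chainRoot r s 1).map fun k => -2 * D.chainM k s 2 / 3) =
      (tRoot T r s 1).map fun k => -2 * tM T k s 2 / 3 := by
    rw [hR hr hs]
    rcases hk : tRoot T r s 1 with _ | k
    · rfl
    · simp [hM (tRoot_lt C hr hs hk).1 hs]
  unfold ChevalleyDatum.commTerms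
  simp only []
  rw [e1, e2, e3, e4]
  simp only [hR hr hs, hR hs hr, hM hr hs, hM hs hr]
  rfl

theorem tRoot_refl {i : ℕ} (hi : i < D.rank) {r s : ℕ} (hr : r < D.nroots) (hs : s < D.nroots) (m : ℕ) :
    tRoot T (T.refl' i r) (T.refl' i s) m = (tRoot T r s m).map (T.refl' i) := by
  simp only [tRoot, C.spec.entry_refl i hi r hr s hs, imgEntry, img_getElem?, Option.map_map]
  rfl

theorem tM_refl {i : ℕ} (hi : i < D.rank) {r s : ℕ} (hr : r < D.nroots) (hs : s < D.nroots) (m : ℕ) :
    tM T (T.refl' i r) (T.refl' i s) m = ((tRoot T r s m).map fun u =>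
      T.eta' i r ^ (m - 1 + 1) * T.eta' i s * T.eta' i u * tM T r s m).getD 0 := by
  simp only [tM, tRoot, C.spec.entry_refl i hi r hr s hs, imgEntry, img_getElem?, Option.map_map]
  rcases (T.entry r s)[m - 1]? with _ | q <;> simp

theorem three_dvd (h3 : chkThree D T = true) {r s k : ℕ} (hr : r < D.nroots) (hs : s < D.nroots) :
    (∀ u, tRoot T r s 3 = some u → tRoot T r s 1 = some k → (3 : ℤ) ∣ tM T k r 2) ∧
    (∀ u, tRoot T s r 3 = some u → tRoot T r s 1 = some k → (3 : ℤ) ∣ tM T k s 2) := by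
  have hlen : ∀ {a b u}, tRoot T a b 3 = some u → 3 ≤ (T.entry a b).length := by
    intro a b u h
    obtain ⟨q, hq, -⟩ := Option.map_eq_some_iff.1 h
    exact (List.getElem?_eq_some_iff.1 hq).1
  simp only [chkThree, Bool.or_eq_true, Nat.ble_eq, Bool.and_eq_true, Nat.beq_eq] at h3
  rcases h3 with h3 | h3
  · refine ⟨fun u h _ => ?_, fun u h _ => ?_⟩ <;> have := hlen h <;> have := entry_length_le T r s <;>
      have := entry_length_le T s r <;> omega
  have hD : D.chain.toList.length = D.nroots → ∀ {a b}, a < D.nroots → b < D.nroots → 3 ≤ (T.entry a b).length →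
      (∀ k, tRoot T a b 1 = some k → (3 : ℤ) ∣ tM T k a 2) ∧ (∀ k, tRoot T b a 1 = some k → (3 : ℤ) ∣ tM T k a 2) := by
    intro hlen' a b ha hb hab
    obtain ⟨ha', m, hm, hmb⟩ := mem_chain_of_entry C.spec.shape hlen' ha hb (fun e => by simp [e] at hab)
    have := (allIdx_iff _ 0).1 ((allIdx_iff _ 0).1 h3.2 a ha') m hm
    rw [Nat.zero_add, hmb] at this
    simp only [Bool.or_eq_true, Nat.ble_eq, Bool.and_eq_true] at this
    obtain ⟨h1, h2⟩ := this.resolve_left (by omega)
    constructor <;> intro k hk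
    · rw [hk] at h1; exact Int.dvd_of_emod_eq_zero (of_decide_eq_true h1)
    · rw [hk] at h2; exact Int.dvd_of_emod_eq_zero (of_decide_eq_true h2)
  exact ⟨fun u h hk => (hD h3.1 hr hs (hlen h)).1 k hk, fun u h hk => (hD h3.1 hs hr (hlen h)).2 k hk⟩

theorem tTerms_refl (h3 : chkThree D T = true) {i : ℕ} (hi : i < D.rank) {r s : ℕ} (hr : r < D.nroots) (hs : s < D.nroots) :
    tTerms T (T.refl' i r) (T.refl' i s) = (tTerms T r s).map fun c =>
      (T.refl' i c.1, T.eta' i c.1 * T.eta' i r ^ c.2.2.1 * T.eta' i s ^ c.2.2.2 * c.2.1, c.2.2) := by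
  have hr2 : T.eta' i r * T.eta' i r = 1 := by rcases eta_cases T i r with h | h <;> rw [h] <;> rfl
  have hs2 : T.eta' i s * T.eta' i s = 1 := by rcases eta_cases T i s with h | h <;> rw [h] <;> rfl
  have hbind : ∀ {a b}, a < D.nroots → b < D.nroots →
      ((tRoot T (T.refl' i a) (T.refl' i b) 3).bind fun k => tRoot T k (T.refl' i b) 1) =
        ((tRoot T a b 3).bind fun k => tRoot T k b 1).map (T.refl' i) := by
    intro a b ha hb
    rw [tRoot_refl C hi ha hb]
    rcases hk : tRoot T a b 3 with _ | k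
    · rfl
    · exact tRoot_refl C hi (tRoot_lt C ha hb hk).1 hb 1
  -- the coefficient of `a ^ 3 b ^ 2`
  have h32 : ∀ K, ((tRoot T r s 3).bind fun k => tRoot T k s 1) = some K →
      ((tRoot T (T.refl' i r) (T.refl' i s) 1).map fun k => tM T k (T.refl' i r) 2 / 3).getD 0 =
        T.eta' i K * T.eta' i r ^ 3 * T.eta' i s ^ 2 * ((tRoot T r s 1).map fun k => tM T k r 2 / 3).getD 0 := by
    intro K hK
    obtain ⟨k3, hk3, hK⟩ := Option.bind_eq_some_iff.1 hK
    rw [tRoot_refl C hi hr hs]
    rcases hk : tRoot T r s 1 with _ | k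
    · simp
    obtain ⟨hkn, hkw⟩ := tRoot_lt C hr hs hk
    simp only [Option.map_some, Option.getD_some, tM_refl C hi hkn hr]
    rcases hu : tRoot T k r 2 with _ | u
    · have hM : tM T k r 2 = 0 := by
        simp only [tRoot, Option.map_eq_none_iff] at hu
        simp [tM, hu]
      simp [hM]
    obtain ⟨hun, huw⟩ := tRoot_lt C hkn hr hu
    obtain ⟨hk3n, hk3w⟩ := tRoot_lt C hr hs hk3
    obtain ⟨hKn, hKw⟩ := tRoot_lt C hk3n hs hK
    obtain rfl : u = K := C.eq_of_weight hun hKn fun j hj => by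
      rw [huw j hj, hKw j hj, hk3w j hj, hkw j hj]; push_cast; ring
    simp only [Option.map_some, Option.getD_some]
    have hk2 : T.eta' i k * T.eta' i k = 1 := by rcases eta_cases T i k with h | h <;> rw [h] <;> rfl
    have e : T.eta' i k ^ (2 - 1 + 1) * T.eta' i r * T.eta' i u = T.eta' i u * T.eta' i r ^ 3 * T.eta' i s ^ 2 := by
      linear_combination (T.eta' i r * T.eta' i u) * hk2 - (T.eta' i u * T.eta' i r * T.eta' i s * T.eta' i s) * hr2 -
        (T.eta' i u * T.eta' i r) * hs2
    rw [e, Int.mul_ediv_assoc _ ((three_dvd C h3 hr hs).1 k3 hk3 hk)]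
  have h23 : ∀ K, ((tRoot T s r 3).bind fun k => tRoot T k r 1) = some K →
      ((tRoot T (T.refl' i r) (T.refl' i s) 1).map fun k => -2 * tM T k (T.refl' i s) 2 / 3).getD 0 =
        T.eta' i K * T.eta' i r ^ 2 * T.eta' i s ^ 3 * ((tRoot T r s 1).map fun k => -2 * tM T k s 2 / 3).getD 0 := by
    intro K hK
    obtain ⟨k3, hk3, hK⟩ := Option.bind_eq_some_iff.1 hK
    rw [tRoot_refl C hi hr hs]
    rcases hk : tRoot T r s 1 with _ | k
    · simp
    obtain ⟨hkn, hkw⟩ := tRoot_lt C hr hs hk
    simp only [Option.map_some, Option.getD_some, tM_refl C hi hkn hs]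
    rcases hu : tRoot T k s 2 with _ | u
    · have hM : tM T k s 2 = 0 := by
        simp only [tRoot, Option.map_eq_none_iff] at hu
        simp [tM, hu]
      simp [hM]
    obtain ⟨hun, huw⟩ := tRoot_lt C hkn hs hu
    obtain ⟨hk3n, hk3w⟩ := tRoot_lt C hs hr hk3
    obtain ⟨hKn, hKw⟩ := tRoot_lt C hk3n hr hK
    obtain rfl : u = K := C.eq_of_weight hun hKn fun j hj => by
      rw [huw j hj, hKw j hj, hk3w j hj, hkw j hj]; push_cast; ring
    simp only [Option.map_some, Option.getD_some]
    have hk2 : T.eta' i k * T.eta' i k = 1 := by rcases eta_cases T i k with h | h <;> rw [h] <;> rfl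
    have e : -2 * (T.eta' i k ^ (2 - 1 + 1) * T.eta' i s * T.eta' i u * tM T k s 2) =
        T.eta' i u * T.eta' i r ^ 2 * T.eta' i s ^ 3 * (-2 * tM T k s 2) := by
      linear_combination (-2 * tM T k s 2 * T.eta' i s * T.eta' i u) * hk2 +
        (2 * tM T k s 2 * T.eta' i u * T.eta' i s * T.eta' i s * T.eta' i s) * hr2 +
        (2 * tM T k s 2 * T.eta' i u * T.eta' i s) * hs2
    rw [e, Int.mul_ediv_assoc _ (dvd_mul_of_dvd_right ((three_dvd C h3 hr hs).2 k3 hk3 hk) _)]
  have hM1 : ∀ m K, tRoot T r s m = some K → tM T (T.refl' i r) (T.refl' i s) m =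
      T.eta' i r ^ (m - 1 + 1) * T.eta' i s * T.eta' i K * tM T r s m := fun m K hK => by
    rw [tM_refl C hi hr hs, hK]; rfl
  have hM2 : ∀ m K, tRoot T s r m = some K → tM T (T.refl' i s) (T.refl' i r) m =
      T.eta' i s ^ (m - 1 + 1) * T.eta' i r * T.eta' i K * tM T s r m := fun m K hK => by
    rw [tM_refl C hi hs hr, hK]; rfl
  have h32' := h32; have h23' := h23
  rw [tRoot_refl C hi hr hs] at h32' h23'
  simp only [tTerms]
  rw [hbind hr hs, hbind hs hr, List.map_filterMap]
  simp only [tRoot_refl C hi hr hs, tRoot_refl C hi hs hr]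
  refine fm_cons ?_ (fm_cons ?_ (fm_cons ?_ (fm_cons ?_ (fm_cons ?_ (fm_cons ?_ (fm_cons ?_ rfl))))))
  · rcases a : tRoot T r s 1 with _ | K
    · rfl
    · simp only [Option.map_some, hM1 1 K a]; congr 3; ring
  · rcases a : tRoot T r s 2 with _ | K
    · rfl
    · simp only [Option.map_some, hM1 2 K a]; congr 3; ring
  · rcases a : tRoot T s r 2 with _ | K
    · rfl
    · simp only [Option.map_some, hM2 2 K a]; congr 3; ring
  · rcases a : tRoot T r s 3 with _ | K
    · rfl
    · simp only [Option.map_some, hM1 3 K a]; congr 3; ring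
  · rcases a : tRoot T s r 3 with _ | K
    · rfl
    · simp only [Option.map_some, hM2 3 K a]; congr 3; ring
  · rcases a : (tRoot T r s 3).bind fun k => tRoot T k s 1 with _ | K
    · rfl
    · simp only [Option.map_some, h32' K a]
  · rcases a : (tRoot T s r 3).bind fun k => tRoot T k r 1 with _ | K
    · rfl
    · simp only [Option.map_some, h23' K a]

end

end Cfsg.Lib.Chev
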