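import Mathlib
import Cfsg.Agent.Lib.Chev.Comm

/-!
Chevalley's commutator formula for all pairs of roots.
-/

set_option autoImplicit false

namespace Cfsg.Lib.Chev

open Cfsg.Lie
open scoped Matrix

variable {D : ChevalleyDatum} {T : Tbl} {F : Type*} [Field F]

/-- The formula for one pair of roots. -/
def CommOK (D : ChevalleyDatum) (F : Type*) [Field F] (r s : ℕ) : Prop :=
  ∀ t u : F, D.x F s u * D.x F r t = D.x F r t * D.x F s u * D.wordMat F (D.commWord F r s t u)

theorem wordMat_cons (p : ℕ × F) (w : List (ℕ × F)) : D.wordMat F (p :: w) = D.x F p.1 p.2 * D.wordMat F w := by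
  simp [ChevalleyDatum.wordMat]

theorem wordMat_append (a b : List (ℕ × F)) : D.wordMat F (a ++ b) = D.wordMat F a * D.wordMat F b := by
  simp [ChevalleyDatum.wordMat, List.prod_append]

theorem wordMat_eq_one {w : List (ℕ × F)} (h : ∀ p ∈ w, p.2 = 0) : D.wordMat F w = 1 := by
  induction w with
  | nil => rfl
  | cons p w ih =>
    rw [wordMat_cons, h p (List.mem_cons_self ..), x_zero', one_mul]
    exact ih fun q hq => h q (List.mem_cons_of_mem _ hq)

section

variable (C : Cert D T)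
include C

theorem tTerms_lt {r s : ℕ} (hr : r < D.nroots) (hs : s < D.nroots) :
    ∀ c ∈ tTerms T r s, c.1 < D.nroots ∧ 1 ≤ c.2.2.1 ∧ 1 ≤ c.2.2.2 ∧
      ∀ j < D.rank, T.cartan j c.1 = (c.2.2.1 : ℤ) * T.cartan j r + (c.2.2.2 : ℤ) * T.cartan j s := by
  intro c hc
  simp only [tTerms, List.mem_filterMap, List.mem_cons, List.not_mem_nil, or_false] at hc
  obtain ⟨x, hx, hxc⟩ := hc
  obtain ⟨k, hk, rfl⟩ := Option.map_eq_some_iff.1 hxc
  rcases hx with rfl | rfl | rfl | rfl | rfl | rfl | rfl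
  all_goals simp only at hk
  iterate 2
    obtain ⟨h1, h2⟩ := tRoot_lt C hr hs hk
    exact ⟨h1, by simp, by simp, fun j hj => by rw [h2 j hj]; simp⟩
  · obtain ⟨h1, h2⟩ := tRoot_lt C hs hr hk
    exact ⟨h1, by simp, by simp, fun j hj => by rw [h2 j hj]; simp; ring⟩
  · obtain ⟨h1, h2⟩ := tRoot_lt C hr hs hk
    exact ⟨h1, by simp, by simp, fun j hj => by rw [h2 j hj]; simp⟩
  · obtain ⟨h1, h2⟩ := tRoot_lt C hs hr hk
    exact ⟨h1, by simp, by simp, fun j hj => by rw [h2 j hj]; simp; ring⟩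
  · obtain ⟨k3, hk3, hk⟩ := Option.bind_eq_some_iff.1 hk
    obtain ⟨g1, g2⟩ := tRoot_lt C hr hs hk3
    obtain ⟨h1, h2⟩ := tRoot_lt C g1 hs hk
    exact ⟨h1, by simp, by simp, fun j hj => by rw [h2 j hj, g2 j hj]; simp; ring⟩
  · obtain ⟨k3, hk3, hk⟩ := Option.bind_eq_some_iff.1 hk
    obtain ⟨g1, g2⟩ := tRoot_lt C hs hr hk3
    obtain ⟨h1, h2⟩ := tRoot_lt C g1 hr hk
    exact ⟨h1, by simp, by simp, fun j hj => by rw [h2 j hj, g2 j hj]; simp; ring⟩

theorem commWord_refl (h3 : chkThree D T = true) {i : ℕ} (hi : i < D.rank) {r s : ℕ} (hr : r < D.nroots)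
    (hs : s < D.nroots) (t u : F) :
    refM T D F i * D.wordMat F (D.commWord F r s t u) =
      D.wordMat F (D.commWord F (T.refl' i r) (T.refl' i s) ((T.eta' i r : ℤ) * t) ((T.eta' i s : ℤ) * u)) *
        refM T D F i := by
  rw [ChevalleyDatum.commWord, ChevalleyDatum.commWord, commTerms_eq C hr hs,
    commTerms_eq C (C.spec.refl_lt i hi r hr) (C.spec.refl_lt i hi s hs), tTerms_refl C h3 hi hr hs, List.map_map]
  have key : ∀ l : List (ℕ × ℤ × ℕ × ℕ), (∀ c ∈ l, c.1 < D.nroots) →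
      refM T D F i * D.wordMat F (l.map fun c => (c.1, (c.2.1 : F) * (-t) ^ c.2.2.1 * u ^ c.2.2.2)) =
        D.wordMat F (l.map ((fun c => (c.1, (c.2.1 : F) * (-(((T.eta' i r : ℤ) : F) * t)) ^ c.2.2.1 *
          (((T.eta' i s : ℤ) : F) * u) ^ c.2.2.2)) ∘ fun c => (T.refl' i c.1,
            (T.eta' i c.1 * T.eta' i r ^ c.2.2.1 * T.eta' i s ^ c.2.2.2 * c.2.1 : ℤ), c.2.2))) * refM T D F i := by
    intro l
    induction l with
    | nil => intro _; simp [ChevalleyDatum.wordMat]
    | cons c l ih =>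
      intro hl
      rw [List.map_cons, List.map_cons, wordMat_cons, wordMat_cons, ← mul_assoc,
        refM_mul_x C.spec hi (hl c (List.mem_cons_self ..)), mul_assoc,
        ih (fun d hd => hl d (List.mem_cons_of_mem _ hd)), ← mul_assoc]
      congr 3
      have e : ∀ (x : F) (m : ℕ), x * x = 1 → x ^ m * x ^ m = 1 := fun x m h => by rw [← mul_pow, h, one_pow]
      have er := e _ c.2.2.1 (eta_sq (F := F) T i r)
      have es := e _ c.2.2.2 (eta_sq (F := F) T i s)
      simp only [Function.comp]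
      push_cast
      rw [show -(((T.eta' i r : ℤ) : F) * t) = ((T.eta' i r : ℤ) : F) * -t by ring, mul_pow, mul_pow]
      linear_combination (-((T.eta' i c.1 : ℤ) : F) * (c.2.1 : F) * (-t) ^ c.2.2.1 * u ^ c.2.2.2) *
        ((((T.eta' i s : ℤ) : F) ^ c.2.2.2) * ((T.eta' i s : ℤ) : F) ^ c.2.2.2) * er +
        (-((T.eta' i c.1 : ℤ) : F) * (c.2.1 : F) * (-t) ^ c.2.2.1 * u ^ c.2.2.2) * es
  exact key _ fun c hc => (tTerms_lt C hr hs c hc).1

theorem CommOK.refl (h3 : chkThree D T = true) {i : ℕ} (hi : i < D.rank) {r s : ℕ} (hr : r < D.nroots)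
    (hs : s < D.nroots) (h : CommOK D F r s) : CommOK D F (T.refl' i r) (T.refl' i s) := by
  intro t u
  refine mul_cancel_right_of_inv (refM_inv (F := F) C.spec hi) ?_
  obtain ⟨t', rfl⟩ : ∃ t', t = ((T.eta' i r : ℤ) : F) * t' :=
    ⟨(T.eta' i r : ℤ) * t, by rw [← mul_assoc, eta_sq, one_mul]⟩
  obtain ⟨u', rfl⟩ : ∃ u', u = ((T.eta' i s : ℤ) : F) * u' :=
    ⟨(T.eta' i s : ℤ) * u, by rw [← mul_assoc, eta_sq, one_mul]⟩
  rw [mul_assoc, ← refM_mul_x C.spec hi hr, ← mul_assoc, ← refM_mul_x C.spec hi hs, mul_assoc, h t' u']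
  conv_rhs => rw [mul_assoc, ← commWord_refl C h3 hi hr hs, mul_assoc (D.x F (T.refl' i r) _),
    ← mul_assoc (D.x F (T.refl' i s) _), ← refM_mul_x C.spec hi hs]
  rw [← mul_assoc, ← mul_assoc, refM_mul_x C.spec hi hr]
  simp only [mul_assoc]

end

theorem isRep_mem {reps : List (ℕ × ℕ)} {q : ℕ × ℕ} (h : isRep reps q = true) : q ∈ reps := by
  obtain ⟨x, hx, hx'⟩ := List.any_eq_true.1 h
  simp only [Bool.and_eq_true, Nat.beq_eq] at hx'
  rwa [← show x = q from Prod.ext hx'.1 hx'.2]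

theorem comm_base (C : Cert D T) {r s : ℕ} (hr : r < D.nroots) (hs : s < D.nroots) (h : commChk T r s = true) :
    CommOK D F r s := by
  intro t u
  have hw : D.commWord F r s t u = (tTerms T r s).map fun c => (c.1, (c.2.1 : F) * (-t) ^ c.2.2.1 * u ^ c.2.2.2) := by
    rw [ChevalleyDatum.commWord, commTerms_eq C hr hs]
  rcases eq_or_ne t 0 with rfl | ht
  · rw [x_zero', mul_one, one_mul, wordMat_eq_one, mul_one]
    intro p hp
    rw [hw] at hp
    obtain ⟨c, hc, rfl⟩ := List.mem_map.1 hp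
    obtain ⟨-, h1, -⟩ := tTerms_lt C hr hs c hc
    simp [show c.2.2.1 ≠ 0 by omega]
  rcases eq_or_ne u 0 with rfl | hu
  · rw [x_zero', mul_one, one_mul, wordMat_eq_one, mul_one]
    intro p hp
    rw [hw] at hp
    obtain ⟨c, hc, rfl⟩ := List.mem_map.1 hp
    obtain ⟨-, -, h2, -⟩ := tTerms_lt C hr hs c hc
    simp [show c.2.2.2 ≠ 0 by omega]
  have := wmat_eq_of_sameWord t u C.spec.shape ht hu (w₁ := [.x s [⟨1, 0, 1⟩], .x r [⟨1, 1, 0⟩]])
    (w₂ := [Ltr.x r [⟨1, 1, 0⟩], Ltr.x s [⟨1, 0, 1⟩]] ++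
      (tTerms T r s).map fun c : ℕ × ℤ × ℕ × ℕ => Ltr.x c.1 [⟨c.2.1 * (-1) ^ c.2.2.1, c.2.2.1, c.2.2.2⟩])
    (by simp [Ltr.ok, hr, hs]) (by
      intro L hL
      rcases List.mem_append.1 hL with hL | hL
      · simp at hL; rcases hL with rfl | rfl <;> simp [Ltr.ok, hr, hs]
      · obtain ⟨c, hc, rfl⟩ := List.mem_map.1 hL
        exact (tTerms_lt C hr hs c hc).1) h
  rw [hw]
  simp only [wmat, List.map_append, List.prod_append, List.map_cons, List.map_nil, List.prod_cons, List.prod_nil,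
    mul_one, Ltr.mat, pval, List.sum_cons, List.sum_nil, add_zero, Mono.val, Int.cast_one, one_mul, zpow_zero,
    zpow_one, List.map_map] at this
  rw [this]
  congr 1
  unfold ChevalleyDatum.wordMat
  rw [List.map_map]
  congr 1
  refine List.map_congr_left fun c _ => ?_
  simp only [Function.comp, Ltr.mat, pval, List.map_cons, List.map_nil, List.sum_cons, List.sum_nil, add_zero,
    Mono.val]
  congr 1
  rw [neg_pow, zpow_natCast, zpow_natCast]
  push_cast
  ring

/-- Chevalley's commutator formula. -/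
theorem comm_formula (K : CommCert D T) {r s : ℕ} (hr : r < D.nroots) (hs : s < D.nroots) (h1 : s ≠ r)
    (h2 : s ≠ T.neg r) : CommOK D F r s := by
  have C := K.cert
  revert s
  refine C.root_induction (P := fun r => ∀ {s : ℕ}, s < D.nroots → s ≠ r → s ≠ T.neg r → CommOK D F r s) ?_ ?_ r hr
  · intro i hi s hs h1 h2
    obtain ⟨reps, hreps, paths, hp⟩ := K.base
    simp only [chkPaths, allBelow_iff, Bool.or_eq_true, Bool.and_eq_true, Nat.beq_eq, C.spec.shape.rank_eq,
      C.spec.shape.nroots_eq] at hp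
    obtain ⟨hw, hrep⟩ := ((hp i hi s hs).resolve_left h1).resolve_left h2
    have hr := C.spec.simp_lt i hi
    revert hw hrep
    generalize paths.get (i + D.rank * s) = w
    generalize T.simp' i = r at hr ⊢
    generalize 160 = fuel
    clear hp h1 h2
    induction fuel generalizing w r s with
    | zero =>
      intro _ hrep
      obtain ⟨a, b, hab⟩ := hreps _ (isRep_mem hrep)
      exact comm_base C a b hab
    | succ n ih =>
      intro hw hrep
      change (bif Nat.beq w 0 then true else (Nat.blt (w % 16 - 1) D.rank && wordOK D.rank n (w / 16))) = true at hw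
      change isRep reps (bif Nat.beq w 0 then (r, s) else
        follow T n (w / 16) (T.refl' (w % 16 - 1) r) (T.refl' (w % 16 - 1) s)) = true at hrep
      cases h0 : Nat.beq w 0
      · rw [h0] at hw hrep
        simp only [cond_false, Bool.and_eq_true, Nat.blt_eq] at hw hrep
        have hr' := C.spec.refl_lt _ hw.1 r hr
        have hs' := C.spec.refl_lt _ hw.1 s hs
        have := CommOK.refl C K.three hw.1 hr' hs' (ih hs' (w / 16) (T.refl' (w % 16 - 1) r) hr' hw.2 hrep)
        rwa [C.spec.refl_refl _ hw.1 r hr, C.spec.refl_refl _ hw.1 s hs] at this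
      · rw [h0] at hrep
        obtain ⟨a, b, hab⟩ := hreps _ (isRep_mem hrep)
        exact comm_base C a b hab
  · intro i hi r hr ih s hs h1 h2
    have hs' := C.spec.refl_lt i hi s hs
    have := CommOK.refl C K.three hi hr hs' (ih hs' (fun e => h1 (by rw [← e, C.spec.refl_refl i hi s hs]))
      (fun e => h2 (by rw [← C.spec.refl_refl i hi s hs, e, C.spec.refl_neg i hi r hr])))
    rwa [C.spec.refl_refl i hi s hs] at this

end Cfsg.Lib.Chev
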