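import Mathlib
import Cfsg.Agent.Lib.Chev.CommFormula

/-!
A fundamental reflection permutes the positive roots other than its own root; root coefficients as linear functionals.
-/

set_option autoImplicit false

namespace Cfsg.Lib.Chev

open Cfsg.Lie

/-- The check. -/
noncomputable def chkPos (T : Tbl) : Bool :=
  allBelow (fun i =>
    let p := T.simp' i
    Nat.ble T.nroots (2 * p) &&
      allBelow (fun s => Nat.blt (2 * s) T.nroots || (Nat.beq s p || Nat.ble T.nroots (2 * T.refl' i s))) T.nroots) T.rank

/-- The functionals `Φ` have the signs of the coroot coefficients. -/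
noncomputable def chkCoef (T : Tbl) (Φ : List (List ℤ)) : Bool :=
  allBelow (fun r => allBelow (fun k =>
    (decide (T.coroot r k = 0) == decide (fval T (Φ.getD k []) r = 0)) &&
      (decide (0 ≤ T.coroot r k) == decide (0 ≤ fval T (Φ.getD k []) r))) T.rank) T.nroots

/-- A positive root is fundamental or is lowered by the reflection of one of its constituents. -/
noncomputable def chkDescPos (T : Tbl) : Bool :=
  allBelow (fun r => Nat.blt (2 * r) T.nroots ||
    anyBelow (fun i => !decide (T.coroot r i = 0) && (Nat.beq (T.simp' i) r || Nat.blt (T.refl' i r) r)) T.rank) T.nroots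

/-- The full certificate. -/
structure FullCert (D : ChevalleyDatum) (T : Tbl) : Prop where
  comm : CommCert D T
  pos : chkPos T = true
  coef : ∃ Φ, chkCoef T Φ = true
  descPos : chkDescPos T = true

variable {D : ChevalleyDatum} {T : Tbl} (K : FullCert D T)
include K

theorem FullCert.simple_pos {i : ℕ} (hi : i < D.rank) : D.nroots ≤ 2 * T.simp' i := by
  have h := K.pos
  simp only [chkPos, allBelow_iff, Bool.and_eq_true, Nat.ble_eq, K.comm.cert.spec.shape.rank_eq,
    K.comm.cert.spec.shape.nroots_eq] at h
  exact (h i hi).1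

theorem FullCert.refl_pos {i : ℕ} (hi : i < D.rank) {s : ℕ} (hs : s < D.nroots) (hp : D.nroots ≤ 2 * s)
    (hne : s ≠ T.simp' i) : D.nroots ≤ 2 * T.refl' i s := by
  have h := K.pos
  simp only [chkPos, allBelow_iff, Bool.and_eq_true, Bool.or_eq_true, Nat.ble_eq, Nat.blt_eq, Nat.beq_eq,
    K.comm.cert.spec.shape.rank_eq, K.comm.cert.spec.shape.nroots_eq] at h
  rcases (h i hi).2 s hs with h' | h' | h'
  · omega
  · exact absurd h' hne
  · exact h'

theorem FullCert.neg_pos_iff {s : ℕ} (hs : s < D.nroots) : D.nroots ≤ 2 * T.neg s ↔ 2 * s < D.nroots := by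
  have hn := K.comm.cert.neg_eq hs
  have hne := K.comm.cert.spec.neg_ne s hs
  constructor <;> intro h <;> omega

theorem FullCert.refl_pos_iff {i : ℕ} (hi : i < D.rank) {s : ℕ} (hs : s < D.nroots) (h1 : s ≠ T.simp' i)
    (h2 : s ≠ T.neg (T.simp' i)) : D.nroots ≤ 2 * T.refl' i s ↔ D.nroots ≤ 2 * s := by
  have C := K.comm.cert
  refine ⟨fun h => ?_, fun h => K.refl_pos hi hs h h1⟩
  have hne : T.refl' i s ≠ T.simp' i := fun e => h2 (by rw [← C.spec.refl_refl i hi s hs, e, C.spec.refl_simple i hi])
  have := K.refl_pos hi (C.spec.refl_lt i hi s hs) h hne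
  rwa [C.spec.refl_refl i hi s hs] at this

end Cfsg.Lib.Chev
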