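import Mathlib
import Cfsg.Agent.Lib.Chev.Basic

/-!
The diagonal and monomial subgroups, and the matrices of the reflections in the stated forms.
-/

set_option autoImplicit false

namespace Cfsg.Lib.Chev

open Cfsg.Lie
open scoped Matrix

variable {D : ChevalleyDatum} {T : Tbl} {F : Type*} [Field F]

theorem sgnPow_neg_one (A : ℤ) : sgnPow (-1) A = (-1) ^ A.natAbs := by
  unfold sgnPow
  rw [neg_one_pow_eq_pow_mod_two]
  rcases Nat.mod_two_eq_zero_or_one A.natAbs with h | h <;> rw [h] <;> simp <;> rfl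

/-- The character in the stated product form. -/
def wordH (D : ChevalleyDatum) (c : ℕ → F) : Matrix D.Idx D.Idx F :=
  D.wordMat F ((List.range D.rank).flatMap fun i => D.hWord (D.simple i) (c i))

variable (C : Cert D T)
include C

theorem coDiag_mul {r : ℕ} (z w : F) : coDiag C r z * coDiag C r w = coDiag C r (z * w) := by
  rw [coDiag, coDiag, coDiag, scal_mul]
  simp only [mul_zpow]

theorem nMat_simple_shape {i : ℕ} (hi : i < D.rank) :
    D.nMat F (D.simple i) 1 = Matrix.of (fun (row col : D.Idx) =>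
        Sum.elim
          (fun j' : Fin D.rank => Sum.elim
            (fun j : Fin D.rank => (if j' = j then (1 : F) else 0) - (if (j' : ℕ) = i then ((D.cartan j (D.simple i) : ℤ) : F) else 0))
            (fun _ => (0 : F)) col)
          (fun s' : Fin D.nroots => Sum.elim
            (fun _ => (0 : F))
            (fun s : Fin D.nroots => if (s' : ℕ) = D.reflectRoot i s then ((T.eta' i s : ℤ) : F) else 0) col)
          row) := by
  rw [nMat_eq_refM C hi]
  ext row col
  rcases row with i' | w <;> rcases col with j | s <;> simp only [refM, nModel, Matrix.of_apply, Sum.elim_inl, Sum.elim_inr]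
  · rw [C.spec.shape.cartan_eq j j.2 _ (C.spec.shape.simple_eq i hi ▸ C.spec.simp_lt i hi), C.spec.shape.simple_eq i hi]
  · rw [C.spec.shape.refl_eq i hi s s.2, one_zpow, mul_one]

theorem wordH_eq {c : ℕ → F} (hc : ∀ i < D.rank, c i ≠ 0) :
    wordH D c = scal T D c := by
  have key : ∀ n, n ≤ D.rank →
      D.wordMat F ((List.range n).flatMap fun i => D.hWord (D.simple i) (c i)) =
        scal T D (fun j => if j < n then c j else 1) := by
    intro n hn
    induction n with
    | zero => simp only [List.range_zero, List.flatMap_nil, Nat.not_lt_zero, if_false]; exact (scal_one).symm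
    | succ n ih =>
      have e : ∀ a b : List (ℕ × F), D.wordMat F (a ++ b) = D.wordMat F a * D.wordMat F b := fun a b => by
        simp [ChevalleyDatum.wordMat, List.prod_append]
      rw [List.range_succ, List.flatMap_append, e, ih (by omega), List.flatMap_singleton]
      rw [show D.wordMat F (D.hWord (D.simple n) (c n)) = D.hMat F (D.simple n) (c n) from rfl,
        hMat_simple C (by omega) (hc n (by omega)), dModel_eq_scal (by omega), scal_mul]
      congr 1
      funext j
      rcases lt_trichotomy j n with h | rfl | h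
      · simp [h, h.ne, Nat.lt_succ_of_lt h]
      · simp
      · simp [h.ne', show ¬ j < n by omega, show ¬ j < n + 1 by omega]
  rw [wordH, key D.rank le_rfl]
  simp only [scal, chr]
  congr 1
  funext j
  rcases j with a | s
  · rfl
  · exact Finset.prod_congr rfl fun k hk => by rw [if_pos (Finset.mem_range.1 hk)]

theorem coe_diagonal {g : GL D.Idx F} (hg : g ∈ D.diagonalSubgroup F) :
    ∃ c : ℕ → F, (∀ i < D.rank, c i ≠ 0) ∧ (g : Matrix D.Idx D.Idx F) = scal T D c := by
  induction hg using Subgroup.closure_induction with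
  | mem g hg =>
    obtain ⟨r, t, hr, ht, hg⟩ := hg
    exact ⟨fun k => t ^ T.coroot r k, fun i _ => zpow_ne_zero _ ht, by rw [hg, hMat_eq C hr ht]; rfl⟩
  | one => exact ⟨fun _ => 1, fun _ _ => one_ne_zero, by rw [scal_one]; rfl⟩
  | mul a b _ _ ha hb =>
    obtain ⟨c, hc, hca⟩ := ha
    obtain ⟨d, hd, hdb⟩ := hb
    exact ⟨fun j => c j * d j, fun i hi => mul_ne_zero (hc i hi) (hd i hi), by
      rw [Units.val_mul, hca, hdb, scal_mul]⟩
  | inv a _ ha =>
    obtain ⟨c, hc, hca⟩ := ha
    refine ⟨fun j => (c j)⁻¹, fun i hi => inv_ne_zero (hc i hi), ?_⟩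
    have e : scal T D c * scal T D (fun j => (c j)⁻¹) = 1 := scal_inv c hc
    rw [← hca] at e
    exact (Units.mul_eq_one_iff_inv_eq.1 e)

theorem mem_diagonal_of_scal {g : GL D.Idx F} {c : ℕ → F} (hc : ∀ i < D.rank, c i ≠ 0)
    (hg : (g : Matrix D.Idx D.Idx F) = scal T D c) : g ∈ D.diagonalSubgroup F := by
  have hu : ∀ i < D.rank, ∃ h ∈ D.diagonalSubgroup F,
      ((h : GL D.Idx F) : Matrix D.Idx D.Idx F) = dModel T D i (c i) := by
    intro i hi
    have hu : IsUnit (dModel T D i (c i)) := by
      rw [dModel_eq_scal hi]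
      refine ⟨⟨_, scal T D (fun j => (if j = i then c i else 1)⁻¹), scal_inv _ ?_, ?_⟩, rfl⟩
      · intro j _; split_ifs; exacts [hc i hi, one_ne_zero]
      · rw [scal_mul]
        simp only [mul_comm _⁻¹]
        rw [← scal_mul, scal_inv]
        intro j _; split_ifs; exacts [hc i hi, one_ne_zero]
    obtain ⟨h, hh⟩ := hu
    refine ⟨h, Subgroup.subset_closure ⟨T.simp' i, c i, C.spec.simp_lt i hi, hc i hi, ?_⟩, hh⟩
    rw [hh, hMat_eq C (C.spec.simp_lt i hi) (hc i hi), coDiag_simple C hi]
  have key : ∀ n, n ≤ D.rank → ∃ h ∈ D.diagonalSubgroup F,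
      ((h : GL D.Idx F) : Matrix D.Idx D.Idx F) = scal T D (fun j => if j < n then c j else 1) := by
    intro n hn
    induction n with
    | zero => exact ⟨1, one_mem _, by simp [scal_one]⟩
    | succ n ih =>
      obtain ⟨a, ha, ha'⟩ := ih (by omega)
      obtain ⟨b, hb, hb'⟩ := hu n (by omega)
      refine ⟨a * b, mul_mem ha hb, ?_⟩
      rw [Units.val_mul, ha', hb', dModel_eq_scal (by omega), scal_mul]
      congr 1
      funext j
      rcases lt_trichotomy j n with h | rfl | h
      · simp [h, h.ne, Nat.lt_succ_of_lt h]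
      · simp
      · simp [h.ne', show ¬ j < n by omega, show ¬ j < n + 1 by omega]
  obtain ⟨h, hh, hh'⟩ := key D.rank le_rfl
  have : g = h := Units.ext (by
    rw [hg, hh', scal, scal]
    congr 1
    funext j
    rcases j with a | s
    · rfl
    · simp only [Sum.elim_inr, chr]
      exact Finset.prod_congr rfl fun k hk => by rw [if_pos (Finset.mem_range.1 hk)])
  exact this ▸ hh

theorem scal_mul_comm (c d : ℕ → F) : scal T D c * scal T D d = scal T D d * scal T D c := by
  rw [scal_mul, scal_mul]; simp only [mul_comm]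

theorem nMat_simple_mul_x {i : ℕ} (hi : i < D.rank) {s : ℕ} (hs : s < D.nroots) (t : F) :
    D.nMat F (D.simple i) 1 * D.x F s t =
      D.x F (D.reflectRoot i s) ((T.eta' i s : ℤ) * t) * D.nMat F (D.simple i) 1 := by
  rw [nMat_eq_refM C hi, C.spec.shape.refl_eq i hi s hs, refM_mul_x C.spec hi hs]

theorem hMat_mul_x {i : ℕ} (hi : i < D.rank) {s : ℕ} (hs : s < D.nroots) {c : F} (hc : c ≠ 0) (t : F) :
    D.hMat F (D.simple i) c * D.x F s t = D.x F s (c ^ D.cartan i s * t) * D.hMat F (D.simple i) c := by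
  rw [hMat_simple C hi hc, dModel_eq_scal hi, scal_mul_x C.spec _ (fun j _ => by split_ifs <;> simp [hc]) hs,
    chr_update hi, C.spec.shape.cartan_eq i hi s hs]

theorem nMat_mul_hMat {i j : ℕ} (hi : i < D.rank) (hj : j < D.rank) {t : F} (ht : t ≠ 0) :
    D.nMat F (D.simple i) 1 * D.hMat F (D.simple j) t =
      D.hMat F (D.reflectRoot i (D.simple j)) t * D.nMat F (D.simple i) 1 := by
  have hs := C.spec.simp_lt j hj
  rw [nMat_eq_refM C hi, C.spec.shape.simple_eq j hj, C.spec.shape.refl_eq i hi _ hs, hMat_eq C hs ht,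
    hMat_eq C (C.spec.refl_lt i hi _ hs) ht, refM_mul_coDiag C hi hs ht]

theorem nMat_mul_scal {r : ℕ} (hr : r < D.nroots) {c : ℕ → F} (hc : ∀ i < D.rank, c i ≠ 0) :
    ∃ c' : ℕ → F, (∀ i < D.rank, c' i ≠ 0) ∧ D.nMat F r 1 * scal T D c = scal T D c' * D.nMat F r 1 := by
  have hscal : ∀ a : ℕ → F, (∀ i < D.rank, a i ≠ 0) →
      D.nMat F r 1 * scal T D a = scal T D a * D.nMat F r (chr T D a r)⁻¹ := by
    intro a ha
    have hn := C.spec.neg_lt r hr
    have e : ∀ s < D.nroots, ∀ t : F, D.x F s t * scal T D a = scal T D a * D.x F s ((chr T D a s)⁻¹ * t) := by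
      intro s hs t
      rw [scal_mul_x C.spec a ha hs, ← mul_assoc, mul_inv_cancel₀ (chr_ne_zero a ha s), one_mul]
    simp only [ChevalleyDatum.nMat, ChevalleyDatum.wordMat, ChevalleyDatum.nWord, List.map_cons, List.map_nil,
      List.prod_cons, List.prod_nil, mul_one]
    rw [mul_assoc, mul_assoc, e r hr, ← mul_assoc (D.x F (D.neg r) _), C.spec.shape.neg_eq r hr, e _ hn,
      ← mul_assoc, ← mul_assoc, e r hr, chr_neg C.spec a hr]
    simp only [mul_assoc, mul_one, inv_inv, inv_one]
    congr 3
    ring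
  have hne := inv_ne_zero (chr_ne_zero (T := T) c hc r)
  refine ⟨fun j => c j * ((chr T D c r)⁻¹) ^ T.coroot r j, fun i hi => mul_ne_zero (hc i hi) (zpow_ne_zero _ hne), ?_⟩
  rw [hscal c hc, ← scal_mul, mul_assoc]
  congr 1
  set u := (chr T D c r)⁻¹
  -- `n (u) = h (u) n (1)`
  have h1 : D.nMat F r (-1) * D.nMat F r 1 = 1 := by
    rw [nMat_mul_nMat C hr (neg_ne_zero.2 one_ne_zero) one_ne_zero, neg_neg, div_one, coDiag]
    simp only [one_zpow]
    exact scal_one
  have h2 : D.hMat F r u = D.nMat F r u * D.nMat F r (-1) := by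
    simp [ChevalleyDatum.hMat, ChevalleyDatum.hWord, ChevalleyDatum.nMat, ChevalleyDatum.wordMat]
  show D.nMat F r u = coDiag C r u * D.nMat F r 1
  rw [← hMat_eq C hr hne, h2, mul_assoc, h1, mul_one]

theorem diagonal_normal_monomial :
    ((D.diagonalSubgroup F).subgroupOf (D.monomialSubgroup F)).Normal := by
  have hN : D.monomialSubgroup F ≤ Subgroup.normalizer (D.diagonalSubgroup F : Set (GL D.Idx F)) := by
    refine sup_le Subgroup.le_normalizer ((Subgroup.closure_le _).2 ?_)
    rintro g ⟨r, hr, hg⟩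
    refine Subgroup.mem_normalizer_iff.2 fun h => ⟨fun hh => ?_, fun hh => ?_⟩
    · obtain ⟨c, hc, hhc⟩ := coe_diagonal C hh
      obtain ⟨c', hc', e⟩ := nMat_mul_scal C hr hc
      refine mem_diagonal_of_scal C hc' ?_
      have e' : ((g * h : GL D.Idx F) : Matrix D.Idx D.Idx F) = scal T D c' * (g : Matrix D.Idx D.Idx F) := by
        rw [Units.val_mul, hg, hhc, e]
      rw [Units.val_mul, e', mul_assoc, ← Units.val_mul, mul_inv_cancel, Units.val_one, mul_one]
    · obtain ⟨c, hc, hhc⟩ := coe_diagonal C hh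
      -- `g * g` lies in `H`, so `g⁻¹` acts as `g`
      have hgg : g * g ∈ D.diagonalSubgroup F := by
        refine mem_diagonal_of_scal C (c := fun k => (-1 : F) ^ T.coroot r k)
          (fun i _ => zpow_ne_zero _ (neg_ne_zero.2 one_ne_zero)) ?_
        rw [Units.val_mul, hg, nMat_mul_nMat C hr one_ne_zero one_ne_zero, div_one]
        rfl
      obtain ⟨c', hc', e⟩ := nMat_mul_scal C hr hc
      have e' : g * (g * h * g⁻¹) * g⁻¹ ∈ D.diagonalSubgroup F := by
        refine mem_diagonal_of_scal C hc' ?_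
        rw [Units.val_mul, Units.val_mul, hhc, hg, e, ← hg, mul_assoc, ← Units.val_mul, mul_inv_cancel,
          Units.val_one, mul_one]
      have := mul_mem (mul_mem (inv_mem hgg) e') hgg
      simpa [mul_assoc] using this
  exact Subgroup.normal_subgroupOf_of_le_normalizer hN

end Cfsg.Lib.Chev
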