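import Mathlib
import Cfsg.Agent.Lib.Chev.Diag
import Cfsg.Agent.Lib.Chev.CommFormula

/-!
The root elements, reflections and torus elements as elements of the general linear group.
-/

set_option autoImplicit false

namespace Cfsg.Lib.Chev

open Cfsg.Lie
open scoped Matrix

variable {D : ChevalleyDatum} {T : Tbl} {F : Type*} [Field F] (C : Cert D T)
include C

/-- `x_r (t)` as a unit. -/
noncomputable def xg (r : ℕ) (t : F) : GL D.Idx F :=
  Matrix.GeneralLinearGroup.mkOfDetNeZero (D.x F r t) (xdet_ne_zero C r t)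

theorem coe_xg (r : ℕ) (t : F) : (xg C r t : Matrix D.Idx D.Idx F) = D.x F r t := rfl

theorem xg_out {r : ℕ} (hr : ¬ r < D.nroots) (t : F) : xg C r t = 1 :=
  Units.ext (by rw [coe_xg, ChevalleyDatum.x, dif_neg hr]; rfl)

theorem xg_add (r : ℕ) (t u : F) : xg C r t * xg C r u = xg C r (t + u) := by
  by_cases hr : r < D.nroots
  · exact Units.ext (by rw [Units.val_mul, coe_xg, coe_xg, coe_xg, x_add C hr])
  · rw [xg_out C hr, xg_out C hr, xg_out C hr, one_mul]

theorem xg_zero (r : ℕ) : xg C r (0 : F) = 1 := Units.ext (by rw [coe_xg, x_zero']; rfl)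

theorem xg_inv (r : ℕ) (t : F) : (xg C r t)⁻¹ = xg C r (-t) :=
  inv_eq_of_mul_eq_one_left (by rw [xg_add, neg_add_cancel, xg_zero])

theorem eq_xg {g : GL D.Idx F} {r : ℕ} {t : F} (h : (g : Matrix D.Idx D.Idx F) = D.x F r t) : g = xg C r t :=
  Units.ext h

theorem mem_rootSubgroup {r : ℕ} {g : GL D.Idx F} : g ∈ D.rootSubgroup F r ↔ ∃ t, g = xg C r t := by
  constructor
  · intro h
    induction h using Subgroup.closure_induction with
    | mem g hg => obtain ⟨t, ht⟩ := hg; exact ⟨t, eq_xg C ht⟩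
    | one => exact ⟨0, (xg_zero C r).symm⟩
    | mul a b _ _ ha hb =>
      obtain ⟨t, rfl⟩ := ha; obtain ⟨u, rfl⟩ := hb; exact ⟨t + u, xg_add C r t u⟩
    | inv a _ ha => obtain ⟨t, rfl⟩ := ha; exact ⟨-t, xg_inv C r t⟩
  · rintro ⟨t, rfl⟩; exact Subgroup.subset_closure ⟨t, rfl⟩

/-- `n_r (v)` as a unit. -/
noncomputable def ng (r : ℕ) (v : F) : GL D.Idx F := xg C r v * xg C (D.neg r) (-v⁻¹) * xg C r v

theorem coe_ng (r : ℕ) (v : F) : (ng C r v : Matrix D.Idx D.Idx F) = D.nMat F r v := by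
  simp [ng, coe_xg, ChevalleyDatum.nMat, ChevalleyDatum.wordMat, ChevalleyDatum.nWord, mul_assoc]

/-- `h_r (v)` as a unit. -/
noncomputable def hg (r : ℕ) (v : F) : GL D.Idx F := ng C r v * ng C r (-1)

theorem coe_hg (r : ℕ) (v : F) : (hg C r v : Matrix D.Idx D.Idx F) = D.hMat F r v := by
  simp [hg, coe_ng, ChevalleyDatum.hMat, ChevalleyDatum.hWord, ChevalleyDatum.nMat, ChevalleyDatum.wordMat]

theorem coe_hg_eq {r : ℕ} (hr : r < D.nroots) {v : F} (hv : v ≠ 0) :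
    (hg C r v : Matrix D.Idx D.Idx F) = coDiag C r v := by rw [coe_hg, hMat_eq C hr hv]

theorem ng_inv {r : ℕ} (hr : r < D.nroots) {v : F} (hv : v ≠ 0) : (ng C r v)⁻¹ = ng C r (-v) := by
  refine inv_eq_of_mul_eq_one_right (Units.ext ?_)
  rw [Units.val_mul, coe_ng, coe_ng, nMat_mul_nMat C hr hv (neg_ne_zero.2 hv), neg_div_neg_eq, div_self hv, coDiag]
  simp only [one_zpow]
  exact scal_one

theorem hg_mul {r : ℕ} (hr : r < D.nroots) {v w : F} (hv : v ≠ 0) (hw : w ≠ 0) :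
    hg C r v * hg C r w = hg C r (v * w) :=
  Units.ext (by rw [Units.val_mul, coe_hg_eq C hr hv, coe_hg_eq C hr hw, coe_hg_eq C hr (mul_ne_zero hv hw), coDiag_mul])

theorem ng_eq {r : ℕ} (hr : r < D.nroots) (v : F) : ng C r v = hg C r v * ng C r 1 := by
  rw [hg, mul_assoc, ← ng_inv C hr one_ne_zero, inv_mul_cancel, mul_one]

theorem hg_mem {r : ℕ} (hr : r < D.nroots) {v : F} (hv : v ≠ 0) : hg C r v ∈ D.diagonalSubgroup F :=
  Subgroup.subset_closure ⟨r, v, hr, hv, coe_hg C r v⟩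

theorem xg_mem_group (r : ℕ) (t : F) : xg C r t ∈ D.group F :=
  Cfsg.Lib.Linear.Chev.root_mem_group D r t _ rfl

/-- The reflection `n_i`. -/
noncomputable def nu (i : ℕ) : GL D.Idx F := ng C (T.simp' i) 1

theorem coe_nu {i : ℕ} (hi : i < D.rank) : ((nu C i : GL D.Idx F) : Matrix D.Idx D.Idx F) = refM T D F i := by
  rw [nu, coe_ng, ← C.spec.shape.simple_eq i hi, nMat_eq_refM C hi]

theorem nu_conj_xg {i : ℕ} (hi : i < D.rank) {s : ℕ} (hs : s < D.nroots) (t : F) :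
    nu C i * xg C s t * (nu C i)⁻¹ = xg C (T.refl' i s) ((T.eta' i s : ℤ) * t) := by
  rw [mul_inv_eq_iff_eq_mul]
  exact Units.ext (by rw [Units.val_mul, Units.val_mul, coe_nu C hi, coe_xg, coe_xg, refM_mul_x C.spec hi hs])

theorem nu_conj_ng {i : ℕ} (hi : i < D.rank) {s : ℕ} (hs : s < D.nroots) (v : F) :
    nu C i * ng C s v * (nu C i)⁻¹ = ng C (T.refl' i s) ((T.eta' i s : ℤ) * v) := by
  rw [mul_inv_eq_iff_eq_mul]
  exact Units.ext (by rw [Units.val_mul, Units.val_mul, coe_nu C hi, coe_ng, coe_ng, refM_mul_nMat C hi hs])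

theorem nu_sq {i : ℕ} (hi : i < D.rank) : nu C i * nu C i = hg C (T.simp' i) (-1 : F) := by
  refine Units.ext ?_
  rw [Units.val_mul, coe_nu C hi, refM_sq C.spec hi, coe_hg_eq C (C.spec.simp_lt i hi) (neg_ne_zero.2 one_ne_zero),
    coDiag_simple C hi]

/-- The character attached to an element of the diagonal subgroup. -/
theorem diag_conj_xg {h : GL D.Idx F} (hh : h ∈ D.diagonalSubgroup F) :
    ∃ χ : ℕ → F, ∀ r < D.nroots, χ r ≠ 0 ∧ ∀ t, h * xg C r t * h⁻¹ = xg C r (χ r * t) := by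
  obtain ⟨c, hc, e⟩ := coe_diagonal C hh
  refine ⟨chr T D c, fun r hr => ⟨chr_ne_zero c hc r, fun t => ?_⟩⟩
  rw [mul_inv_eq_iff_eq_mul]
  exact Units.ext (by rw [Units.val_mul, Units.val_mul, e, coe_xg, coe_xg, scal_mul_x C.spec c hc hr])

theorem diag_comm {a b : GL D.Idx F} (ha : a ∈ D.diagonalSubgroup F) (hb : b ∈ D.diagonalSubgroup F) :
    a * b = b * a := by
  obtain ⟨c, -, e⟩ := coe_diagonal C ha
  obtain ⟨d, -, e'⟩ := coe_diagonal C hb
  exact Units.ext (by rw [Units.val_mul, Units.val_mul, e, e', scal_mul_comm C])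

/-- The commutator formula as a product of units. -/
theorem comm_xg (h3 : CommCert D T) {r s : ℕ} (hr : r < D.nroots) (hs : s < D.nroots) (h1 : s ≠ r)
    (h2 : s ≠ T.neg r) (t u : F) : ∃ l : List (ℕ × F),
      (∀ p ∈ l, p.1 < D.nroots ∧ ∃ i j : ℕ, 1 ≤ i ∧ 1 ≤ j ∧
        ∀ k < D.rank, T.cartan k p.1 = (i : ℤ) * T.cartan k r + (j : ℤ) * T.cartan k s) ∧
      xg C s u * xg C r t = xg C r t * xg C s u * (l.map fun p => xg C p.1 p.2).prod := by
  refine ⟨D.commWord F r s t u, fun p hp => ?_, Units.ext ?_⟩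
  · rw [ChevalleyDatum.commWord, commTerms_eq C hr hs] at hp
    obtain ⟨c, hc, rfl⟩ := List.mem_map.1 hp
    obtain ⟨h1, h2, h3, h4⟩ := tTerms_lt C hr hs c hc
    exact ⟨h1, c.2.2.1, c.2.2.2, h2, h3, h4⟩
  · have e : ∀ l : List (ℕ × F),
        (((l.map fun p => xg C p.1 p.2).prod : GL D.Idx F) : Matrix D.Idx D.Idx F) = D.wordMat F l := by
      intro l
      induction l with
      | nil => rfl
      | cons p l ih => rw [List.map_cons, List.prod_cons, Units.val_mul, ih, coe_xg, wordMat_cons]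
    rw [Units.val_mul, Units.val_mul, Units.val_mul, e, coe_xg, coe_xg]
    exact comm_formula h3 hr hs h1 h2 t u

end Cfsg.Lib.Chev
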