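import Mathlib
import Cfsg.Agent.Lib.Chev.Units

/-!
Root elements shift the levels of the basis: unitriangular groups and separation of coordinates.
-/

set_option autoImplicit false

namespace Cfsg.Lib.Chev

open Cfsg.Lie
open scoped Matrix

variable {D : ChevalleyDatum} {T : Tbl} {F : Type*} [Field F]

/-- A linear functional that increases with the index. -/
noncomputable def fun' (C : Cert D T) (r : ℕ) : ℤ := fval T C.ord.choose r

/-- The level of a basis vector. -/
noncomputable def lev (C : Cert D T) : D.Idx → ℤ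
  | Sum.inl _ => 0
  | Sum.inr s => fun' C s

/-- Matrices raising the levels (`σ = 1`) or lowering them (`σ = -1`) by at least `c`. -/
def Shift (C : Cert D T) (σ c : ℤ) (M : Matrix D.Idx D.Idx F) : Prop :=
  ∀ i j, (M - 1) i j ≠ 0 → c ≤ σ * (lev C i - lev C j)

/-- The group of units shifting by at least `c`. -/
def shiftGroup (C : Cert D T) (F : Type*) [Field F] (σ c : ℤ) (hc : 0 ≤ c) : Subgroup (GL D.Idx F) where
  carrier := {g | Shift C σ c (g : Matrix D.Idx D.Idx F) ∧ Shift C σ c ((g⁻¹ : GL D.Idx F) : Matrix D.Idx D.Idx F)}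
  one_mem' := by simp [Shift]
  inv_mem' := fun {g} hg => ⟨hg.2, by simpa using hg.1⟩
  mul_mem' := by
    have key : ∀ A B : Matrix D.Idx D.Idx F, Shift C σ c A → Shift C σ c B → Shift C σ c (A * B) := by
      intro A B hA hB i j hij
      have e : A * B - 1 = (A - 1) * (B - 1) + (A - 1) + (B - 1) := by simp only [sub_mul, mul_sub, mul_one, one_mul]; abel
      rw [e, Matrix.add_apply, Matrix.add_apply] at hij
      by_cases h1 : (A - 1) i j = 0
      · by_cases h2 : (B - 1) i j = 0
        · rw [h1, h2, add_zero, add_zero, Matrix.mul_apply] at hij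
          obtain ⟨m, -, hm⟩ := Finset.exists_ne_zero_of_sum_ne_zero hij
          have := hA i m (left_ne_zero_of_mul hm)
          have := hB m j (right_ne_zero_of_mul hm)
          nlinarith
        · exact hB i j h2
      · exact hA i j h1
    rintro a b ⟨ha, ha'⟩ ⟨hb, hb'⟩
    refine ⟨?_, ?_⟩
    · rw [Units.val_mul]; exact key _ _ ha hb
    · rw [mul_inv_rev, Units.val_mul]; exact key _ _ hb' ha'

variable (C : Cert D T)
include C

theorem fun'_linear {r s k : ℕ} {i j : ℤ}
    (h : ∀ m < D.rank, T.cartan m k = i * T.cartan m r + j * T.cartan m s) :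
    fun' C k = i * fun' C r + j * fun' C s := by
  simp only [fun', fval, C.spec.shape.rank_eq]
  have : ∀ l : List ℕ, (∀ m ∈ l, m < D.rank) → (l.map fun m => C.ord.choose.getD m 0 * T.cartan m k).sum =
      i * (l.map fun m => C.ord.choose.getD m 0 * T.cartan m r).sum +
      j * (l.map fun m => C.ord.choose.getD m 0 * T.cartan m s).sum := by
    intro l
    induction l with
    | nil => simp
    | cons m l ih =>
      intro hl
      simp only [List.map_cons, List.sum_cons, h m (hl m (List.mem_cons_self ..)),
        ih fun x hx => hl x (List.mem_cons_of_mem _ hx)]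
      ring
  exact this _ fun m hm => List.mem_range.1 hm

theorem fun'_lt {a b : ℕ} (hb : b < D.nroots) (hab : a < b) : fun' C a < fun' C b :=
  fval_refl_ne C C.ord.choose_spec hb hab

theorem fun'_lt_iff {a b : ℕ} (ha : a < D.nroots) (hb : b < D.nroots) : fun' C a < fun' C b ↔ a < b := by
  refine ⟨fun h => ?_, fun'_lt C hb⟩
  by_contra hc
  rcases (not_lt.1 hc).lt_or_eq with h' | h'
  · exact absurd h (not_lt.2 (fun'_lt C ha h').le)
  · rw [h'] at h; exact lt_irrefl _ h

theorem fun'_neg {r : ℕ} (hr : r < D.nroots) : fun' C (T.neg r) = -fun' C r := by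
  rw [fun'_linear C (r := r) (s := r) (k := T.neg r) (i := -1) (j := 0)
    fun m hm => by rw [C.spec.cart_neg m hm r hr]; ring]
  ring

theorem nroots_even : 2 * (D.nroots / 2) = D.nroots := by
  by_contra h
  have hr : D.nroots / 2 < D.nroots := by omega
  have := C.spec.neg_ne _ hr
  rw [C.neg_eq hr] at this
  omega

theorem fun'_pos {r : ℕ} (hr : r < D.nroots) (hp : D.nroots ≤ 2 * r) : 0 < fun' C r := by
  have hn := C.neg_eq hr
  have h := fun'_lt C hr (show T.neg r < r by omega)
  rw [fun'_neg C hr] at h
  omega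

theorem fun'_neg' {r : ℕ} (hr : r < D.nroots) (hp : 2 * r < D.nroots) : fun' C r < 0 := by
  have hn := C.neg_eq hr
  have := nroots_even C
  have h := fun'_lt C (C.spec.neg_lt r hr) (show r < T.neg r by omega)
  rw [fun'_neg C hr] at h
  omega

/-- A root element shifts by a positive multiple of its root. -/
theorem shift_x {r : ℕ} (hr : r < D.nroots) (t : F) {σ c : ℤ} (h : c ≤ σ * fun' C r) (hc : 0 ≤ c) :
    Shift C σ c (D.x F r t) := by
  intro i j hij
  rcases i with a | w <;> rcases j with b | s <;> simp only [Matrix.sub_apply, lev] at hij ⊢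
  · exact absurd (by simp [x_inl_inl C.spec hr, Matrix.one_apply]) hij
  · rw [x_inl_inr C.spec hr, Matrix.one_apply_ne (by simp), sub_zero] at hij
    split_ifs at hij with hs
    · rw [hs, fun'_neg C hr]; linarith
    · exact absurd rfl hij
  · rw [x_inr_inl C.spec hr, Matrix.one_apply_ne (by simp), sub_zero] at hij
    split_ifs at hij with hw
    · rw [hw]; linarith
    · exact absurd rfl hij
  · rw [x_inr_inr C.spec hr, Matrix.one_apply] at hij
    simp only [Sum.inr.injEq, Fin.ext_iff] at hij
    split_ifs at hij with h1 h2 h3 h4 h5 h6 h7 h8 <;>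
      first
        | exact absurd (sub_self _) hij
        | (exfalso; omega)
        | skip
    all_goals try simp only [sub_zero, zero_sub, sub_self, ne_eq, not_true, not_false_eq_true] at hij
    all_goals
      first
        | (rw [‹(s : ℕ) = T.neg r›, ‹(w : ℕ) = r›, fun'_neg C hr]; linarith)
        | skip
    all_goals
      have key : chainVal (T.entry r s) 0 t w ≠ 0 := by
        intro e; apply hij; simp [e]
      obtain ⟨x, hx, hxne⟩ := List.exists_mem_ne_zero_of_sum_ne_zero key
      obtain ⟨q, hq, rfl⟩ := List.mem_map.1 hx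
      split_ifs at hxne with hqw
      · obtain ⟨-, hw⟩ := C.spec.entry_mem r hr s s.2 q.2 q.1 (List.mem_zipIdx_iff_getElem?.1 hq)
        rw [← hqw, fun'_linear C (r := r) (s := s) (i := (q.2 : ℤ) + 1) (j := 1) fun m hm => by rw [hw m hm]; ring]
        nlinarith [(Int.natCast_nonneg q.2 : (0 : ℤ) ≤ (q.2 : ℤ))]
      · exact absurd rfl hxne

theorem xg_mem_shift {r : ℕ} (hr : r < D.nroots) (t : F) {σ c : ℤ} (h : c ≤ σ * fun' C r) (hc : 0 ≤ c) :
    xg C r t ∈ shiftGroup C F σ c hc :=
  ⟨shift_x C hr t h hc, by rw [xg_inv]; exact shift_x C hr (-t) h hc⟩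

theorem shift_mono {σ c d : ℤ} (hd : 0 ≤ d) (hdc : d ≤ c) :
    shiftGroup C F σ c (hd.trans hdc) ≤ shiftGroup C F σ d hd :=
  fun _ hg => ⟨fun i j h => hdc.trans (hg.1 i j h), fun i j h => hdc.trans (hg.2 i j h)⟩

/-- Coroots are primitive. -/
theorem coroot_primitive {r : ℕ} (hr : r < D.nroots) {z : F}
    (h : ∀ k < D.rank, ((T.coroot r k : ℤ) : F) * z = 0) : z = 0 := by
  revert h
  refine C.root_induction (P := fun r => (∀ k < D.rank, ((T.coroot r k : ℤ) : F) * z = 0) → z = 0) ?_ ?_ r hr
  · intro i hi h
    simpa [C.spec.cor_simple i hi i hi] using h i hi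
  · intro i hi r hr ih h
    refine ih fun k hk => ?_
    have hr' := C.spec.refl_lt i hi r hr
    have e := C.spec.cor_refl i hi _ hr' k hk
    rw [C.spec.refl_refl i hi r hr] at e
    rw [e]
    split_ifs with hki
    · have : ∀ l : List ℕ, (∀ m ∈ l, m < D.rank) →
          (((l.map fun j => T.coroot (T.refl' i r) j * T.cartan j (T.simp' i)).sum : ℤ) : F) * z = 0 := by
        intro l
        induction l with
        | nil => simp
        | cons m l ih' =>
          intro hl
          simp only [List.map_cons, List.sum_cons]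
          rw [Int.cast_add, Int.cast_mul]
          linear_combination ((T.cartan m (T.simp' i) : ℤ) : F) * h m (hl m (List.mem_cons_self ..)) +
            ih' (fun x hx => hl x (List.mem_cons_of_mem _ hx))
      have h2 := this _ fun m hm => List.mem_range.1 hm
      rw [Int.cast_sub]
      linear_combination h k hk - h2
    · push_cast
      linear_combination h k hk

/-- Separation: a root element is not a product of higher ones. -/
theorem xg_mem_shift_succ {r : ℕ} (hr : r < D.nroots) {σ : ℤ} (hσ : 0 ≤ σ * fun' C r) {t : F}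
    (h : xg C r t ∈ shiftGroup C F σ (σ * fun' C r + 1) (by omega)) : t = 0 := by
  refine coroot_primitive C hr fun k hk => ?_
  by_contra hne
  have hn := C.spec.neg_lt r hr
  have := h.1 (Sum.inl ⟨k, hk⟩) (Sum.inr ⟨T.neg r, hn⟩) (by
    rw [Matrix.sub_apply, coe_xg, x_inl_inr C.spec hr, if_pos rfl, Matrix.one_apply_ne (by simp), sub_zero]
    exact hne)
  simp only [lev, fun'_neg C hr] at this
  linarith

end Cfsg.Lib.Chev
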