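import Mathlib
import Cfsg.Agent.Lib.Chev.Flag

/-!
The unipotent group `U`, its normal form and its relation to the torus.
-/

set_option autoImplicit false

namespace Cfsg.Lib.Chev

open Cfsg.Lie
open scoped Matrix

variable {D : ChevalleyDatum} {T : Tbl} {F : Type*} [Field F] (C : Cert D T)
include C

/-- The subgroup generated by the root elements of index at least `k`. -/
noncomputable def upper (F : Type*) [Field F] (k : ℕ) : Subgroup (GL D.Idx F) :=
  Subgroup.closure {g | ∃ (r : ℕ) (t : F), k ≤ r ∧ r < D.nroots ∧ g = xg C r t}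

theorem xg_mem_upper {k r : ℕ} (hkr : k ≤ r) (t : F) : xg C r t ∈ upper C F k := by
  by_cases hr : r < D.nroots
  · exact Subgroup.subset_closure ⟨r, t, hkr, hr, rfl⟩
  · rw [xg_out C hr]; exact one_mem _

theorem upper_anti {k l : ℕ} (h : k ≤ l) : upper C F l ≤ upper C F k :=
  (Subgroup.closure_le _).2 fun g ⟨r, t, h1, _, e⟩ => e ▸ xg_mem_upper C (h.trans h1) t

theorem upper_top {k : ℕ} (hk : D.nroots ≤ k) : upper C F k = ⊥ :=
  le_bot_iff.1 ((Subgroup.closure_le _).2 fun g ⟨r, t, h1, h2, _⟩ => by omega)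

theorem posUnipotent_eq : D.posUnipotent F = upper C F (D.nroots / 2) := by
  have hev := nroots_even C
  refine le_antisymm ((Subgroup.closure_le _).2 ?_) ((Subgroup.closure_le _).2 ?_)
  · rintro g ⟨r, t, hr, hg⟩
    rw [eq_xg C hg]
    have := (C.isPos_iff hr.1).1 hr
    exact xg_mem_upper C (by omega) t
  · rintro g ⟨r, t, h1, h2, rfl⟩
    exact Subgroup.subset_closure ⟨r, t, (C.isPos_iff h2).2 (by omega), rfl⟩

theorem upper_le_shift {k : ℕ} (hk : D.nroots ≤ 2 * k) {c : ℤ} (hc : 0 ≤ c)
    (h : ∀ r, k ≤ r → r < D.nroots → c ≤ fun' C r) : upper C F k ≤ shiftGroup C F 1 c hc := by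
  refine (Subgroup.closure_le _).2 ?_
  rintro g ⟨r, t, h1, h2, rfl⟩
  exact xg_mem_shift C h2 t (by rw [one_mul]; exact h r h1 h2) hc

/-- Higher root elements are normalised by lower ones. -/
theorem conj_upper (K : CommCert D T) {k r : ℕ} (hk : D.nroots ≤ 2 * k) (hkr : k < r) (hr : r < D.nroots) (t u : F) :
    xg C k t * xg C r u * (xg C k t)⁻¹ ∈ upper C F (k + 1) := by
  have hkn : k < D.nroots := hkr.trans hr
  have h1 : r ≠ k := Nat.ne_of_gt hkr
  have h2 : r ≠ T.neg k := by rw [C.neg_eq hkn]; omega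
  obtain ⟨l, hl, e⟩ := comm_xg C K hkn hr h1 h2 (-t) u
  have hW : (l.map fun p => xg C p.1 p.2).prod ∈ upper C F (k + 1) := by
    refine list_prod_mem fun x hx => ?_
    obtain ⟨p, hp, rfl⟩ := List.mem_map.1 hx
    obtain ⟨hp1, i, j, hi, hj, hw⟩ := hl p hp
    refine xg_mem_upper C ?_ _
    have hf := fun'_linear C hw
    have f1 := fun'_pos C hkn hk
    have f2 := fun'_pos C hr (by omega)
    have : fun' C k < fun' C p.1 := by
      have : (1 : ℤ) ≤ i := by exact_mod_cast hi
      have : (1 : ℤ) ≤ j := by exact_mod_cast hj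
      nlinarith
    have := (fun'_lt_iff C hkn hp1).1 this
    omega
  rw [xg_inv, mul_assoc, e, ← mul_assoc, ← mul_assoc, xg_add, add_neg_cancel, xg_zero, one_mul]
  exact mul_mem (xg_mem_upper C (by omega) u) hW

theorem conj_upper' (K : CommCert D T) {k : ℕ} (hk : D.nroots ≤ 2 * k) (t : F) {g : GL D.Idx F}
    (hg : g ∈ upper C F (k + 1)) : xg C k t * g * (xg C k t)⁻¹ ∈ upper C F (k + 1) := by
  induction hg using Subgroup.closure_induction with
  | mem g hg => obtain ⟨r, u, h1, h2, rfl⟩ := hg; exact conj_upper C K hk (by omega) h2 t u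
  | one => simp
  | mul a b _ _ ha hb =>
    have := mul_mem ha hb
    simpa [mul_assoc] using this
  | inv a _ ha =>
    have := inv_mem ha
    simpa [mul_assoc] using this

theorem upper_step (K : CommCert D T) {k : ℕ} (hk : D.nroots ≤ 2 * k) {g : GL D.Idx F} :
    g ∈ upper C F k ↔ ∃ t, ∃ b ∈ upper C F (k + 1), g = xg C k t * b := by
  constructor
  · intro hg
    induction hg using Subgroup.closure_induction with
    | mem g hg =>
      obtain ⟨r, t, h1, -, rfl⟩ := hg
      rcases h1.eq_or_lt with rfl | h1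
      · exact ⟨t, 1, one_mem _, (mul_one _).symm⟩
      · exact ⟨0, _, xg_mem_upper C h1 t, by rw [xg_zero, one_mul]⟩
    | one => exact ⟨0, 1, one_mem _, by rw [xg_zero, one_mul]⟩
    | mul a b _ _ ha hb =>
      obtain ⟨t, a', ha', rfl⟩ := ha
      obtain ⟨u, b', hb', rfl⟩ := hb
      refine ⟨t + u, xg C k (-u) * a' * (xg C k (-u))⁻¹ * b', mul_mem (conj_upper' C K hk _ ha') hb', ?_⟩
      rw [← xg_add, ← xg_inv]; group
    | inv a _ ha =>
      obtain ⟨t, a', ha', rfl⟩ := ha
      refine ⟨-t, xg C k t * a'⁻¹ * (xg C k t)⁻¹, conj_upper' C K hk _ (inv_mem ha'), ?_⟩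
      rw [← xg_inv]; group
  · rintro ⟨t, b, hb, rfl⟩
    exact mul_mem (xg_mem_upper C le_rfl t) (upper_anti C (Nat.le_succ k) hb)

theorem upper_unique {k : ℕ} (hk : D.nroots ≤ 2 * k) (hkn : k < D.nroots) {t u : F} {a b : GL D.Idx F}
    (ha : a ∈ upper C F (k + 1)) (hb : b ∈ upper C F (k + 1)) (e : xg C k t * a = xg C k u * b) : t = u ∧ a = b := by
  have hx : xg C k (-u + t) ∈ upper C F (k + 1) := by
    rw [← xg_add, ← xg_inv]
    have : (xg C k u)⁻¹ * xg C k t = b * a⁻¹ := by
      rw [eq_mul_inv_iff_mul_eq, mul_assoc, e, inv_mul_cancel_left]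
    rw [this]
    exact mul_mem hb (inv_mem ha)
  have hpos := fun'_pos C hkn hk
  have h := upper_le_shift C (F := F) (k := k + 1) (by omega) (c := 1 * fun' C k + 1) (by omega) (fun r h1 h2 => by
    have := fun'_lt C h2 (show k < r by omega); omega) hx
  have := xg_mem_shift_succ C hkn (σ := 1) (by omega) h
  obtain rfl : t = u := by linear_combination this
  exact ⟨rfl, mul_left_cancel e⟩

/-- The ordered product of root elements with indices `k, …, k + m - 1`. -/
noncomputable def oprod (k m : ℕ) (t : ℕ → F) : GL D.Idx F := ((List.range' k m).map fun r => xg C r (t r)).prod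

theorem oprod_mem (k m : ℕ) (t : ℕ → F) : oprod C k m t ∈ upper C F k := by
  refine list_prod_mem fun x hx => ?_
  obtain ⟨r, hr, rfl⟩ := List.mem_map.1 hx
  exact xg_mem_upper C (List.mem_range'_1.1 hr).1 _

theorem upper_normal_form (K : CommCert D T) (m : ℕ) : ∀ {k : ℕ}, D.nroots ≤ 2 * k → k + m = D.nroots →
    ∀ {g : GL D.Idx F}, g ∈ upper C F k → ∃ t : ℕ → F, g = oprod C k m t := by
  induction m with
  | zero =>
    intro k _ hkm g hg
    rw [upper_top C (by omega), Subgroup.mem_bot] at hg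
    exact ⟨0, by simp [oprod, hg]⟩
  | succ m ih =>
    intro k hk hkm g hg
    obtain ⟨t, b, hb, rfl⟩ := (upper_step C K hk).1 hg
    obtain ⟨f, rfl⟩ := ih (k := k + 1) (by omega) (by omega) hb
    refine ⟨Function.update f k t, ?_⟩
    rw [oprod, oprod, List.range'_succ, List.map_cons, List.prod_cons, Function.update_self]
    congr 2
    refine List.map_congr_left fun r hr => ?_
    rw [Function.update_of_ne (by have := List.mem_range'_1.1 hr; omega)]

theorem oprod_inj (m : ℕ) : ∀ {k : ℕ}, D.nroots ≤ 2 * k → k + m = D.nroots →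
    ∀ {t u : ℕ → F}, oprod C k m t = oprod C k m u → ∀ r, k ≤ r → r < D.nroots → t r = u r := by
  induction m with
  | zero => intro k _ hkm _ _ _ r h1 h2; omega
  | succ m ih =>
    intro k hk hkm t u e r h1 h2
    simp only [oprod, List.range'_succ, List.map_cons, List.prod_cons] at e
    obtain ⟨e1, e2⟩ := upper_unique C hk (by omega) (oprod_mem C (k + 1) m t) (oprod_mem C (k + 1) m u) e
    rcases h1.eq_or_lt with rfl | h1
    · exact e1
    · exact ih (by omega) (by omega) e2 r h1 h2

theorem posRoots_eq : D.posRoots = List.range' (D.nroots / 2) (D.nroots / 2) := by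
  have hev := nroots_even C
  have e : D.posRoots = (List.range D.nroots).filter fun r => decide (D.nroots / 2 ≤ r) := by
    refine List.filter_congr fun r hr => decide_eq_decide.2 ?_
    rw [C.isPos_iff (List.mem_range.1 hr)]
    omega
  rw [e]
  generalize D.nroots / 2 = a at hev
  rw [← hev, List.range_eq_range', two_mul, ← List.range'_append_1, List.filter_append,
    List.filter_eq_nil_iff.2, List.nil_append, zero_add, List.filter_eq_self.2]
  · intro r hr
    have := List.mem_range'_1.1 hr
    simp; omega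
  · intro r hr
    have := List.mem_range'_1.1 hr
    simp; omega

theorem oprod_coe (k m : ℕ) (t : ℕ → F) :
    (oprod C k m t : Matrix D.Idx D.Idx F) = D.wordMat F ((List.range' k m).map fun r => (r, t r)) := by
  induction m generalizing k with
  | zero => simp [oprod, ChevalleyDatum.wordMat]
  | succ m ih =>
    simp only [oprod, List.range'_succ, List.map_cons, List.prod_cons, Units.val_mul, wordMat_cons, coe_xg] at ih ⊢
    rw [ih]

theorem pos_normal_form (K : CommCert D T) {g : GL D.Idx F} (hg : g ∈ D.posUnipotent F) :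
    ∃! t : ℕ → F, (∀ r, ¬ D.IsPosRoot r → t r = 0) ∧
      (g : Matrix D.Idx D.Idx F) = D.wordMat F (D.posRoots.map fun r => (r, t r)) := by
  classical
  have hev := nroots_even C
  rw [posUnipotent_eq C] at hg
  obtain ⟨t, rfl⟩ := upper_normal_form C K (D.nroots / 2) (k := D.nroots / 2) (by omega) (by omega) hg
  refine ⟨fun r => if D.IsPosRoot r then t r else 0, ⟨fun r hr => if_neg hr, ?_⟩, fun u ⟨hu0, hu⟩ => ?_⟩
  · rw [posRoots_eq C, oprod_coe]
    congr 1
    refine List.map_congr_left fun r hr => ?_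
    have := List.mem_range'_1.1 hr
    have hr' : r < D.nroots := by omega
    show (r, t r) = (r, if D.IsPosRoot r then t r else 0)
    rw [if_pos ((C.isPos_iff hr').2 (by omega))]
  · rw [posRoots_eq C, ← oprod_coe C] at hu
    have := oprod_inj C (D.nroots / 2) (k := D.nroots / 2) (by omega) (by omega) (Units.ext hu)
    funext r
    split_ifs with hr
    · have := (C.isPos_iff hr.1).1 hr
      exact (‹∀ r, D.nroots / 2 ≤ r → r < D.nroots → t r = u r› r (by omega) hr.1).symm
    · exact hu0 r hr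

theorem pos_le_shift : D.posUnipotent F ≤ shiftGroup C F 1 1 zero_le_one := by
  rw [posUnipotent_eq C]
  have := nroots_even C
  exact upper_le_shift C (by omega) _ fun r h1 h2 => fun'_pos C h2 (by omega)

theorem neg_le_shift : D.negUnipotent F ≤ shiftGroup C F (-1) 1 zero_le_one := by
  refine (Subgroup.closure_le _).2 ?_
  rintro g ⟨r, t, hr, hg⟩
  rw [eq_xg C hg]
  have := fun'_neg' C hr.1 ((C.isNeg_iff hr.1).1 hr)
  exact xg_mem_shift C hr.1 t (by omega) _

/-- Elements of the torus do not shift. -/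
theorem diag_eq_one {h : GL D.Idx F} (hh : h ∈ D.diagonalSubgroup F) {σ : ℤ}
    (hs : Shift C σ 1 (h : Matrix D.Idx D.Idx F)) : h = 1 := by
  obtain ⟨c, -, e⟩ := coe_diagonal C hh
  rw [e] at hs
  refine Units.ext ?_
  rw [e, Units.val_one]
  ext i j
  by_cases hij : i = j
  · subst hij
    by_contra hne
    have := hs i i (by rw [Matrix.sub_apply]; exact sub_ne_zero.2 hne)
    simp at this
  · rw [Matrix.one_apply_ne hij, scal, Matrix.diagonal_apply_ne _ hij]

theorem pos_inf_diag : D.posUnipotent F ⊓ D.diagonalSubgroup F = ⊥ :=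
  (Subgroup.eq_bot_iff_forall _).2 fun h hh => diag_eq_one C hh.2 (pos_le_shift C hh.1).1

theorem diag_le_normalizer_upper (k : ℕ) :
    D.diagonalSubgroup F ≤ Subgroup.normalizer (upper C F k : Set (GL D.Idx F)) := by
  intro h hh
  have key : ∀ h ∈ D.diagonalSubgroup F, ∀ g ∈ upper C F k, h * g * h⁻¹ ∈ upper C F k := by
    intro h hh g hg
    obtain ⟨χ, hχ⟩ := diag_conj_xg C hh
    induction hg using Subgroup.closure_induction with
    | mem g hg => obtain ⟨r, t, h1, h2, rfl⟩ := hg; rw [(hχ r h2).2]; exact xg_mem_upper C h1 _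
    | one => simp
    | mul a b _ _ ha hb =>
      have := mul_mem ha hb
      simpa [mul_assoc] using this
    | inv a _ ha =>
      have := inv_mem ha
      simpa [mul_assoc] using this
  refine Subgroup.mem_normalizer_iff.2 fun g => ⟨key h hh g, fun hg => ?_⟩
  have := key _ (inv_mem hh) _ hg
  simpa [mul_assoc] using this

theorem diag_le_normalizer : D.diagonalSubgroup F ≤ Subgroup.normalizer (D.posUnipotent F : Set (GL D.Idx F)) := by
  rw [posUnipotent_eq C]; exact diag_le_normalizer_upper C _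

theorem mem_borel {g : GL D.Idx F} :
    g ∈ D.borelSubgroup F ↔ ∃ u ∈ D.posUnipotent F, ∃ h ∈ D.diagonalSubgroup F, g = u * h := by
  constructor
  · intro hg
    rw [ChevalleyDatum.borelSubgroup, ← SetLike.mem_coe,
      Subgroup.coe_mul_of_right_le_normalizer_left _ _ (diag_le_normalizer C)] at hg
    obtain ⟨u, hu, h, hh, rfl⟩ := Set.mem_mul.1 hg
    exact ⟨u, hu, h, hh, rfl⟩
  · rintro ⟨u, hu, h, hh, rfl⟩
    exact mul_mem (Subgroup.mem_sup_left hu) (Subgroup.mem_sup_right hh)

theorem neg_conj_diag : D.diagonalSubgroup F ≤ Subgroup.normalizer (D.negUnipotent F : Set (GL D.Idx F)) := by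
  intro h hh
  have key : ∀ h ∈ D.diagonalSubgroup F, ∀ g ∈ D.negUnipotent F, h * g * h⁻¹ ∈ D.negUnipotent F := by
    intro h hh g hg
    obtain ⟨χ, hχ⟩ := diag_conj_xg C hh
    induction hg using Subgroup.closure_induction with
    | mem g hg =>
      obtain ⟨r, t, hr, e⟩ := hg
      rw [eq_xg C e, (hχ r hr.1).2]
      exact Subgroup.subset_closure ⟨r, _, hr, rfl⟩
    | one => simp
    | mul a b _ _ ha hb =>
      have := mul_mem ha hb
      simpa [mul_assoc] using this
    | inv a _ ha =>
      have := inv_mem ha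
      simpa [mul_assoc] using this
  refine Subgroup.mem_normalizer_iff.2 fun g => ⟨key h hh g, fun hg => ?_⟩
  have := key _ (inv_mem hh) _ hg
  simpa [mul_assoc] using this

/-- Shift matrices of opposite directions with a diagonal factor are trivial. -/
theorem shift_opposite {u v h : GL D.Idx F} (hu : u ∈ shiftGroup C F 1 1 zero_le_one)
    (hv : v ∈ shiftGroup C F (-1) 1 zero_le_one) (hh : h ∈ D.diagonalSubgroup F) (e : u * h = v) :
    u = 1 ∧ v = 1 ∧ h = 1 := by
  obtain ⟨c, -, hc⟩ := coe_diagonal C hh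
  have hm : (u : Matrix D.Idx D.Idx F) * scal T D c = v := by rw [← hc, ← Units.val_mul, e]
  have hentry : ∀ i j, (v : Matrix D.Idx D.Idx F) i j =
      (u : Matrix D.Idx D.Idx F) i j * Sum.elim (fun _ => (1 : F)) (fun s : Fin D.nroots => chr T D c s) j := by
    intro i j; rw [← hm, scal, Matrix.mul_diagonal]
  have hv1 : v = 1 := by
    refine Units.ext ?_
    rw [Units.val_one]
    ext i j
    by_contra hne
    have h1 := hv.1 i j (by rw [Matrix.sub_apply]; exact sub_ne_zero.2 hne)
    have hij : i ≠ j := fun e => by subst e; simp at h1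
    rw [Matrix.one_apply_ne hij] at hne
    rw [hentry] at hne
    have h2 := hu.1 i j (by rw [Matrix.sub_apply, Matrix.one_apply_ne hij, sub_zero]; exact left_ne_zero_of_mul hne)
    omega
  subst hv1
  have hh1 : h = 1 := diag_eq_one C hh (σ := 1) (by
    rw [show h = u⁻¹ by rw [← mul_left_cancel_iff (a := u), e, mul_inv_cancel]]
    exact hu.2)
  subst hh1
  exact ⟨by simpa using e, rfl, rfl⟩

theorem borel_inf_neg : D.borelSubgroup F ⊓ D.negUnipotent F = ⊥ := by
  refine (Subgroup.eq_bot_iff_forall _).2 fun g hg => ?_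
  obtain ⟨u, hu, h, hh, rfl⟩ := (mem_borel C).1 hg.1
  obtain ⟨rfl, -, rfl⟩ := shift_opposite C (pos_le_shift C hu) (neg_le_shift C hg.2) hh rfl
  simp

theorem borel_inf_neg_diag :
    D.borelSubgroup F ⊓ (D.negUnipotent F ⊔ D.diagonalSubgroup F) = D.diagonalSubgroup F := by
  refine le_antisymm (fun g hg => ?_) (le_inf le_sup_right le_sup_right)
  obtain ⟨hgB, hgV⟩ := hg
  obtain ⟨u, hu, h, hh, rfl⟩ := (mem_borel C).1 hgB
  have hgV : u * h ∈ ((D.negUnipotent F ⊔ D.diagonalSubgroup F : Subgroup (GL D.Idx F)) : Set (GL D.Idx F)) := hgV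
  rw [Subgroup.coe_mul_of_right_le_normalizer_left _ _ (neg_conj_diag C)] at hgV
  obtain ⟨v, hv, h', hh', e⟩ := Set.mem_mul.1 hgV
  obtain ⟨rfl, -, -⟩ := shift_opposite C (pos_le_shift C hu) (neg_le_shift C hv) (mul_mem hh (inv_mem hh'))
    (show u * (h * h'⁻¹) = v by rw [← mul_assoc, ← e, mul_inv_cancel_right])
  simpa using hh

end Cfsg.Lib.Chev
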