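import Mathlib
import Cfsg.Agent.Lib.Chev.Positive
import Cfsg.Agent.Lib.Chev.Unipotent

/-!
The monomial subgroup `N`: words in reflections, the root permutation, exchange, and `B ⊓ N = H`.
-/

set_option autoImplicit false

namespace Cfsg.Lib.Chev

open Cfsg.Lie
open scoped Matrix

variable {D : ChevalleyDatum} {T : Tbl} {F : Type*} [Field F]

/-- The permutation of the roots given by a word in fundamental reflections. -/
def wperm (T : Tbl) (w : List ℕ) (s : ℕ) : ℕ := w.foldr T.refl' s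

/-- A word in fundamental reflections. -/
def IsWord (D : ChevalleyDatum) (w : List ℕ) : Prop := ∀ i ∈ w, i < D.rank

theorem IsWord.cons {i : ℕ} {w : List ℕ} (hi : i < D.rank) (hw : IsWord D w) : IsWord D (i :: w) :=
  fun j hj => (List.mem_cons.1 hj).elim (fun e => e ▸ hi) (hw j)

theorem IsWord.append {v w : List ℕ} (hv : IsWord D v) (hw : IsWord D w) : IsWord D (v ++ w) :=
  fun j hj => (List.mem_append.1 hj).elim (hv j) (hw j)

theorem IsWord.reverse {w : List ℕ} (hw : IsWord D w) : IsWord D w.reverse :=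
  fun j hj => hw j (List.mem_reverse.1 hj)

theorem IsWord.tail {i : ℕ} {w : List ℕ} (hw : IsWord D (i :: w)) : i < D.rank ∧ IsWord D w :=
  ⟨hw i (List.mem_cons_self ..), fun j hj => hw j (List.mem_cons_of_mem _ hj)⟩

theorem wperm_append (v w : List ℕ) (s : ℕ) : wperm T (v ++ w) s = wperm T v (wperm T w s) := by
  simp [wperm, List.foldr_append]

variable (C : Cert D T)
include C

theorem wperm_lt {w : List ℕ} (hw : IsWord D w) {s : ℕ} (hs : s < D.nroots) : wperm T w s < D.nroots := by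
  induction w with
  | nil => exact hs
  | cons i w ih => exact C.spec.refl_lt i hw.tail.1 _ (ih hw.tail.2)

theorem wperm_neg {w : List ℕ} (hw : IsWord D w) {s : ℕ} (hs : s < D.nroots) :
    wperm T w (T.neg s) = T.neg (wperm T w s) := by
  induction w with
  | nil => rfl
  | cons i w ih =>
    show T.refl' i (wperm T w (T.neg s)) = T.neg (T.refl' i (wperm T w s))
    rw [ih hw.tail.2, C.spec.refl_neg i hw.tail.1 _ (wperm_lt C hw.tail.2 hs)]

theorem wperm_reverse {w : List ℕ} (hw : IsWord D w) {s : ℕ} (hs : s < D.nroots) :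
    wperm T w.reverse (wperm T w s) = s := by
  induction w with
  | nil => rfl
  | cons i w ih =>
    rw [List.reverse_cons, wperm_append]
    show wperm T w.reverse (T.refl' i (T.refl' i (wperm T w s))) = s
    rw [C.spec.refl_refl i hw.tail.1 _ (wperm_lt C hw.tail.2 hs), ih hw.tail.2]

theorem wperm_inj {w : List ℕ} (hw : IsWord D w) {a b : ℕ} (ha : a < D.nroots) (hb : b < D.nroots)
    (h : wperm T w a = wperm T w b) : a = b := by
  rw [← wperm_reverse C hw ha, h, wperm_reverse C hw hb]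

/-- The product of reflections along a word. -/
noncomputable def wnu (F : Type*) [Field F] (w : List ℕ) : GL D.Idx F := (w.map (nu C)).prod

theorem wnu_cons (i : ℕ) (w : List ℕ) : wnu C F (i :: w) = nu C i * wnu C F w := by simp [wnu]

theorem wnu_append (v w : List ℕ) : wnu C F (v ++ w) = wnu C F v * wnu C F w := by simp [wnu]

theorem nu_mem (i : ℕ) (hi : i < D.rank) : (nu C i : GL D.Idx F) ∈ D.monomialSubgroup F :=
  Subgroup.mem_sup_right (Subgroup.subset_closure ⟨T.simp' i, C.spec.simp_lt i hi, coe_ng C _ _⟩)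

theorem wnu_mem {w : List ℕ} (hw : IsWord D w) : wnu C F w ∈ D.monomialSubgroup F :=
  list_prod_mem fun x hx => by
    obtain ⟨i, hi, rfl⟩ := List.mem_map.1 hx
    exact nu_mem C i (hw i hi)

theorem wnu_conj_xg {w : List ℕ} (hw : IsWord D w) {s : ℕ} (hs : s < D.nroots) :
    ∃ c : F, c * c = 1 ∧ ∀ t, wnu C F w * xg C s t * (wnu C F w)⁻¹ = xg C (wperm T w s) (c * t) := by
  induction w with
  | nil => exact ⟨1, one_mul 1, fun t => by simp [wnu, wperm]⟩
  | cons i w ih =>
    obtain ⟨c, hc, hct⟩ := ih hw.tail.2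
    refine ⟨(T.eta' i (wperm T w s) : ℤ) * c, ?_, fun t => ?_⟩
    · rw [mul_mul_mul_comm, eta_sq, hc, one_mul]
    · rw [wnu_cons, mul_inv_rev, show nu C i * wnu C F w * xg C s t * ((wnu C F w)⁻¹ * (nu C i)⁻¹) =
        nu C i * (wnu C F w * xg C s t * (wnu C F w)⁻¹) * (nu C i)⁻¹ by group, hct,
        nu_conj_xg C hw.tail.1 (wperm_lt C hw.tail.2 hs), mul_assoc]
      rfl

theorem wnu_conj_ng {w : List ℕ} (hw : IsWord D w) {s : ℕ} (hs : s < D.nroots) (v : F) (hv : v ≠ 0) :
    ∃ u : F, u ≠ 0 ∧ wnu C F w * ng C s v * (wnu C F w)⁻¹ = ng C (wperm T w s) u := by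
  induction w with
  | nil => exact ⟨v, hv, by simp [wnu, wperm]⟩
  | cons i w ih =>
    obtain ⟨u, hu, h⟩ := ih hw.tail.2
    refine ⟨(T.eta' i (wperm T w s) : ℤ) * u, mul_ne_zero (eta_ne_zero (F := F) T _ _) hu, ?_⟩
    rw [wnu_cons, mul_inv_rev, show nu C i * wnu C F w * ng C s v * ((wnu C F w)⁻¹ * (nu C i)⁻¹) =
        nu C i * (wnu C F w * ng C s v * (wnu C F w)⁻¹) * (nu C i)⁻¹ by group, h,
      nu_conj_ng C hw.tail.1 (wperm_lt C hw.tail.2 hs)]
    rfl

theorem diag_le_monomial : D.diagonalSubgroup F ≤ D.monomialSubgroup F := le_sup_left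

theorem conj_mem_diag {g h : GL D.Idx F} (hgN : g ∈ D.monomialSubgroup F) (hh : h ∈ D.diagonalSubgroup F) :
    g * h * g⁻¹ ∈ D.diagonalSubgroup F ∧ g⁻¹ * h * g ∈ D.diagonalSubgroup F := by
  have hn := diagonal_normal_monomial C (F := F)
  have key : ∀ x ∈ D.monomialSubgroup F, x * h * x⁻¹ ∈ D.diagonalSubgroup F := fun x hx =>
    hn.conj_mem ⟨h, diag_le_monomial C hh⟩ hh ⟨x, hx⟩
  exact ⟨key g hgN, by simpa using key _ (inv_mem hgN)⟩

theorem mem_monomial {g : GL D.Idx F} :
    g ∈ D.monomialSubgroup F ↔ ∃ w, IsWord D w ∧ ∃ h ∈ D.diagonalSubgroup F, g = wnu C F w * h := by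
  constructor
  swap
  · rintro ⟨w, hw, h, hh, rfl⟩
    exact mul_mem (wnu_mem C hw) (diag_le_monomial C hh)
  intro hgN
  let S : Set (GL D.Idx F) := {g | ∃ w, IsWord D w ∧ ∃ h ∈ D.diagonalSubgroup F, g = wnu C F w * h}
  have hmul : ∀ {a b}, a ∈ S → b ∈ S → a * b ∈ S := by
    rintro _ _ ⟨v, hv, h, hh, rfl⟩ ⟨w, hw, k, hk, rfl⟩
    refine ⟨v ++ w, hv.append hw, (wnu C F w)⁻¹ * h * wnu C F w * k,
      mul_mem (conj_mem_diag C (wnu_mem C hw) hh).2 hk, ?_⟩
    rw [wnu_append]; group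
  have hdiag : ∀ {h}, h ∈ D.diagonalSubgroup F → h ∈ S := fun {h} hh =>
    ⟨[], fun i hi => absurd hi List.not_mem_nil, h, hh, by simp [wnu]⟩
  have hnu : ∀ i < D.rank, nu C i ∈ S := fun i hi =>
    ⟨[i], IsWord.cons hi (fun j hj => absurd hj List.not_mem_nil), 1, one_mem _, by simp [wnu]⟩
  have hnu' : ∀ i < D.rank, (nu C i)⁻¹ ∈ S := fun i hi => by
    have e : ((nu C i)⁻¹ : GL D.Idx F) = nu C i * (hg C (T.simp' i) (-1 : F))⁻¹ := by
      rw [← nu_sq C hi, mul_inv_rev, ← mul_assoc, mul_inv_cancel, one_mul]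
    rw [e]
    exact hmul (hnu i hi) (hdiag (inv_mem (hg_mem C (C.spec.simp_lt i hi) (neg_ne_zero.2 one_ne_zero))))
  have hng : ∀ r < D.nroots, ng C r (1 : F) ∈ S := by
    refine C.root_induction (fun i hi => hnu i hi) fun i hi r hr h => ?_
    have e := nu_conj_ng C hi hr (1 : F)
    rw [mul_one, ng_eq C (C.spec.refl_lt i hi r hr)] at e
    rw [← inv_mul_cancel_left (hg C (T.refl' i r) ((T.eta' i r : ℤ) : F)) (ng C (T.refl' i r) (1 : F)), ← e]
    exact hmul (hdiag (inv_mem (hg_mem C (C.spec.refl_lt i hi r hr) (eta_ne_zero T i r))))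
      (hmul (hmul (hnu i hi) h) (hnu' i hi))
  have hinv : ∀ {g}, g ∈ S → g⁻¹ ∈ S := by
    rintro _ ⟨w, hw, h, hh, rfl⟩
    rw [mul_inv_rev]
    refine hmul (hdiag (inv_mem hh)) ?_
    induction w with
    | nil => simpa [wnu] using hdiag (one_mem _)
    | cons i w ih =>
      rw [wnu_cons, mul_inv_rev]
      exact hmul (ih hw.tail.2) (hnu' i hw.tail.1)
  show g ∈ S
  have hle : D.monomialSubgroup F ≤
      ({ carrier := S, mul_mem' := hmul, one_mem' := hdiag (one_mem _), inv_mem' := hinv } : Subgroup (GL D.Idx F)) := by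
    refine sup_le (fun h hh => hdiag hh) ((Subgroup.closure_le _).2 ?_)
    rintro x ⟨r, hr, hx⟩
    rw [show x = ng C r 1 from Units.ext (hx.trans (coe_ng C r 1).symm)]
    exact hng r hr
  exact hle hgN

/-- The shape of a monomial matrix. -/
def IsMono (σ : ℕ → ℕ) (M : Matrix D.Idx D.Idx F) : Prop :=
  (∀ w j, M (Sum.inr w) (Sum.inl j) = 0) ∧ (∀ j w, M (Sum.inl j) (Sum.inr w) = 0) ∧
    ∀ w s : Fin D.nroots, M (Sum.inr w) (Sum.inr s) ≠ 0 ↔ w.val = σ s

theorem isMono_wnu {w : List ℕ} (hw : IsWord D w) :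
    IsMono (wperm T w) ((wnu C F w : GL D.Idx F) : Matrix D.Idx D.Idx F) := by
  induction w with
  | nil =>
    refine ⟨fun a j => ?_, fun j a => ?_, fun a s => ?_⟩
    · simp [wnu]
    · simp [wnu]
    · simp [wnu, wperm, Matrix.one_apply, Fin.ext_iff]
  | cons i w ih =>
    obtain ⟨h1, h2, h3⟩ := ih hw.tail.2
    have hi := hw.tail.1
    have e : ((wnu C F (i :: w) : GL D.Idx F) : Matrix D.Idx D.Idx F) = refM T D F i * (wnu C F w : GL D.Idx F) := by
      rw [wnu_cons, Units.val_mul, coe_nu C hi]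
    rw [e]
    refine ⟨fun a j => ?_, fun j a => ?_, fun a s => ?_⟩
    · rw [refM_mul_inr C.spec hi, h1, mul_zero]
    · rw [refM_mul_inl C.spec hi, h2]
      simp [h2]
    · rw [refM_mul_inr C.spec hi]
      simp only [mul_ne_zero_iff, eta_ne_zero (F := F), ne_eq, not_false_eq_true, true_and]
      rw [← ne_eq, h3]
      exact refl_eq_iff' C.spec hi a.2 (wperm_lt C hw.tail.2 s.2)

theorem isMono_mul_diag {σ : ℕ → ℕ} {g h : GL D.Idx F} (hgm : IsMono σ (g : Matrix D.Idx D.Idx F))
    (hh : h ∈ D.diagonalSubgroup F) : IsMono σ ((g * h : GL D.Idx F) : Matrix D.Idx D.Idx F) := by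
  obtain ⟨c, hc, e⟩ := coe_diagonal C hh
  obtain ⟨h1, h2, h3⟩ := hgm
  rw [Units.val_mul, e, scal]
  refine ⟨fun a j => ?_, fun j a => ?_, fun a s => ?_⟩ <;> rw [Matrix.mul_diagonal]
  · rw [h1, zero_mul]
  · rw [h2, zero_mul]
  · simp [mul_ne_zero_iff, chr_ne_zero c hc, ← h3]

theorem mono_shift_eq_one {g : GL D.Idx F} {σ : ℕ → ℕ} {z : ℤ} (hgm : IsMono σ (g : Matrix D.Idx D.Idx F))
    (hs : Shift C z 1 (g : Matrix D.Idx D.Idx F)) : g = 1 := by
  have hdiag : ∀ i, (g : Matrix D.Idx D.Idx F) i i = 1 := by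
    intro i
    by_contra hne
    have := hs i i (by rw [Matrix.sub_apply, Matrix.one_apply_eq]; exact sub_ne_zero.2 hne)
    simp at this
  refine Units.ext ?_
  rw [Units.val_one]
  ext i j
  by_cases hij : i = j
  · subst hij; rw [hdiag, Matrix.one_apply_eq]
  rw [Matrix.one_apply_ne hij]
  obtain ⟨h1, h2, h3⟩ := hgm
  rcases i with a | a <;> rcases j with b | b
  · by_contra hne
    have := hs (Sum.inl a) (Sum.inl b) (by rw [Matrix.sub_apply, Matrix.one_apply_ne hij, sub_zero]; exact hne)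
    simp [lev] at this
  · exact h2 a b
  · exact h1 a b
  · by_contra hne
    have e1 := (h3 a b).1 hne
    have e2 := (h3 b b).1 (by rw [hdiag]; exact one_ne_zero)
    exact hij (congrArg Sum.inr (Fin.ext (e1.trans e2.symm)))

theorem pos_inf_monomial : D.posUnipotent F ⊓ D.monomialSubgroup F = ⊥ := by
  refine (Subgroup.eq_bot_iff_forall _).2 fun g ⟨hgU, hgN⟩ => ?_
  obtain ⟨w, hw, h, hh, rfl⟩ := (mem_monomial C).1 hgN
  exact mono_shift_eq_one C (isMono_mul_diag C (isMono_wnu C hw) hh) (pos_le_shift C hgU).1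

theorem borel_inf_monomial : D.borelSubgroup F ⊓ D.monomialSubgroup F = D.diagonalSubgroup F := by
  refine le_antisymm ?_ (le_inf le_sup_right (diag_le_monomial C))
  rintro g ⟨hgB, hgN⟩
  obtain ⟨u, hu, h, hh, rfl⟩ := (mem_borel C).1 hgB
  have : u ∈ D.posUnipotent F ⊓ D.monomialSubgroup F :=
    ⟨hu, by simpa using mul_mem hgN (diag_le_monomial C (inv_mem hh))⟩
  rw [pos_inf_monomial C, Subgroup.mem_bot] at this
  simpa [this] using hh

section Exchange

variable (K : FullCert D T)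
include K

/-- Exchange: if the word makes `p_k` negative then `w s_k` is represented by a word with one letter less. -/
theorem exchange {k : ℕ} (hk : k < D.rank) : ∀ {w : List ℕ}, IsWord D w →
    2 * wperm T w (T.simp' k) < D.nroots →
    ∃ v, IsWord D v ∧ v.length + 1 = w.length ∧ ∃ h ∈ D.diagonalSubgroup F, wnu C F w * nu C k = wnu C F v * h := by
  intro w
  induction w with
  | nil =>
    intro _ h
    have := K.simple_pos hk
    simp only [wperm, List.foldr_nil] at h
    omega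
  | cons i w ih =>
    intro hw h
    have hi := hw.tail.1
    have hsk := C.spec.simp_lt k hk
    have hβ := wperm_lt C hw.tail.2 hsk
    change 2 * T.refl' i (wperm T w (T.simp' k)) < D.nroots at h
    by_cases hpos : D.nroots ≤ 2 * wperm T w (T.simp' k)
    · -- the sign changes at `i`
      have hβp : wperm T w (T.simp' k) = T.simp' i := by
        by_contra hne
        have := K.refl_pos hi hβ hpos hne
        omega
      refine ⟨w, hw.tail.2, rfl, ?_⟩
      obtain ⟨u, hu, hconj⟩ := wnu_conj_ng C hw.tail.2 hsk (1 : F) one_ne_zero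
      rw [hβp, ng_eq C (C.spec.simp_lt i hi) u, mul_inv_eq_iff_eq_mul] at hconj
      change wnu C F w * nu C k = hg C (T.simp' i) u * nu C i * wnu C F w at hconj
      have hh : (nu C i * hg C (T.simp' i) u * (nu C i)⁻¹) * hg C (T.simp' i) (-1 : F) ∈ D.diagonalSubgroup F :=
        mul_mem (conj_mem_diag C (nu_mem C i hi) (hg_mem C (C.spec.simp_lt i hi) hu)).1
          (hg_mem C (C.spec.simp_lt i hi) (neg_ne_zero.2 one_ne_zero))
      refine ⟨(wnu C F w)⁻¹ * ((nu C i * hg C (T.simp' i) u * (nu C i)⁻¹) * hg C (T.simp' i) (-1 : F)) * wnu C F w,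
        (conj_mem_diag C (wnu_mem C hw.tail.2) hh).2, ?_⟩
      rw [wnu_cons, mul_assoc, hconj, ← nu_sq C hi]
      group
    · obtain ⟨v, hv, hlen, d, hd, e⟩ := ih hw.tail.2 (by omega)
      exact ⟨i :: v, hv.cons hi, by simp [hlen], d, hd, by rw [wnu_cons, wnu_cons, mul_assoc, e, mul_assoc]⟩

/-- A word that fixes all fundamental roots represents an element of `H`. -/
theorem word_kernel : ∀ (n : ℕ) {w : List ℕ}, w.length = n → IsWord D w →
    (∀ k < D.rank, D.nroots ≤ 2 * wperm T w (T.simp' k)) → wnu C F w ∈ D.diagonalSubgroup F := by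
  intro n
  induction n using Nat.strong_induction_on with
  | _ n ih =>
    intro w hn hw hpos
    rcases w.eq_nil_or_concat' with rfl | ⟨w', k, rfl⟩
    · simp [wnu]
    have hk : k < D.rank := hw k (by simp)
    have hw' : IsWord D w' := fun j hj => hw j (List.mem_append_left _ hj)
    have hsk := C.spec.simp_lt k hk
    have h := hpos k hk
    rw [wperm_append] at h
    change D.nroots ≤ 2 * wperm T w' (T.refl' k (T.simp' k)) at h
    rw [C.spec.refl_simple k hk, wperm_neg C hw' hsk, K.neg_pos_iff (wperm_lt C hw' hsk)] at h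
    obtain ⟨v, hv, hlen, d, hd, e⟩ := exchange C K (F := F) hk hw' h
    have hw2 : wnu C F (w' ++ [k]) = wnu C F v * d := by rw [wnu_append, ← e]; simp [wnu]
    rw [hw2]
    refine mul_mem (ih v.length (by simp at hn; omega) rfl hv fun j hj => ?_) hd
    -- the permutations agree
    have hsj := C.spec.simp_lt j hj
    obtain ⟨c, hc, hc'⟩ := wnu_conj_xg C (F := F) hw hsj
    obtain ⟨c2, hc2, hc2'⟩ := wnu_conj_xg C (F := F) hv hsj
    obtain ⟨χ, hχ⟩ := diag_conj_xg C hd
    have e1 := hc' 1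
    rw [hw2, mul_inv_rev, show wnu C F v * d * xg C (T.simp' j) (1 : F) * (d⁻¹ * (wnu C F v)⁻¹) =
      wnu C F v * (d * xg C (T.simp' j) (1 : F) * d⁻¹) * (wnu C F v)⁻¹ by group, (hχ _ hsj).2, hc2', mul_one,
      mul_one] at e1
    have hne : c2 * χ (T.simp' j) ≠ 0 := mul_ne_zero (left_ne_zero_of_mul (by rw [hc2]; exact one_ne_zero)) (hχ _ hsj).1
    have hroot : wperm T v (T.simp' j) = wperm T (w' ++ [k]) (T.simp' j) := by
      have ha := wperm_lt C hv hsj
      have hb := wperm_lt C hw hsj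
      by_contra hab
      have e2 := congrArg (fun g : GL D.Idx F => (g : Matrix D.Idx D.Idx F)) e1
      simp only [coe_xg] at e2
      refine hne (coroot_primitive C ha fun m hm => ?_)
      have e3 := congrFun (congrFun e2 (Sum.inl ⟨m, hm⟩)) (Sum.inr ⟨_, C.spec.neg_lt _ ha⟩)
      rw [x_inl_inr C.spec ha, if_pos rfl, x_inl_inr C.spec hb, if_neg fun e => hab (by
        have := congrArg T.neg e
        simpa [C.spec.neg_neg _ ha, C.spec.neg_neg _ hb] using this)] at e3
      exact e3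
    rw [hroot]
    exact hpos j hj

end Exchange

end Cfsg.Lib.Chev
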