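import Mathlib
import Cfsg.Agent.Lib.Chev.Monomial

/-!
Combinatorics of the roots: coefficients, root subsystems, and the longest element.
-/

set_option autoImplicit false

namespace Cfsg.Lib.Chev

open Cfsg.Lie

variable {D : ChevalleyDatum} {T : Tbl}

/-- A function on roots compatible with integral linear relations. -/
def IsLin (D : ChevalleyDatum) (T : Tbl) (f : ℕ → ℤ) : Prop :=
  ∀ (r s q : ℕ) (i j : ℤ), (∀ m < D.rank, T.cartan m q = i * T.cartan m r + j * T.cartan m s) →
    f q = i * f r + j * f s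

section CertFacts

variable (C : Cert D T)
include C

theorem fval_isLin (φ : List ℤ) : IsLin D T (fval T φ) := by
  intro r s q i j h
  simp only [fval, C.spec.shape.rank_eq]
  have : ∀ l : List ℕ, (∀ m ∈ l, m < D.rank) → (l.map fun m => φ.getD m 0 * T.cartan m q).sum =
      i * (l.map fun m => φ.getD m 0 * T.cartan m r).sum + j * (l.map fun m => φ.getD m 0 * T.cartan m s).sum := by
    intro l
    induction l with
    | nil => simp
    | cons m l ih =>
      intro hl
      simp only [List.map_cons, List.sum_cons, h m (hl m (List.mem_cons_self ..)),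
        ih fun x hx => hl x (List.mem_cons_of_mem _ hx)]
      ring
  exact this _ fun m hm => List.mem_range.1 hm

theorem isLin_neg {f : ℕ → ℤ} (hf : IsLin D T f) {r : ℕ} (hr : r < D.nroots) : f (T.neg r) = -f r := by
  rw [hf r r (T.neg r) (-1) 0 fun m hm => by rw [C.spec.cart_neg m hm r hr]; ring]
  ring

theorem isPos_or_isNeg (r : ℕ) : D.nroots ≤ 2 * r ∨ 2 * r < D.nroots := le_or_gt _ _

theorem coroot_nonneg {r : ℕ} (hr : r < D.nroots) (hp : D.nroots ≤ 2 * r) {k : ℕ} (hk : k < D.rank) :
    0 ≤ T.coroot r k := by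
  rw [← C.spec.shape.coroot_eq r hr k hk]
  have h := ((C.isPos_iff hr).2 hp).2
  generalize D.coroot.getD r #[] = a at h ⊢
  by_cases hka : k < a.size
  · rw [Array.getD, dif_pos hka]
    exact h _ (by simp)
  · rw [Array.getD, dif_neg hka]

theorem coroot_nonpos {r : ℕ} (hr : r < D.nroots) (hp : 2 * r < D.nroots) {k : ℕ} (hk : k < D.rank) :
    T.coroot r k ≤ 0 := by
  rw [← C.spec.shape.coroot_eq r hr k hk]
  have h := ((C.isNeg_iff hr).2 hp).2
  generalize D.coroot.getD r #[] = a at h ⊢
  by_cases hka : k < a.size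
  · rw [Array.getD, dif_pos hka]
    exact h _ (by simp)
  · rw [Array.getD, dif_neg hka]

theorem coroot_exists_ne {r : ℕ} (hr : r < D.nroots) : ∃ k < D.rank, T.coroot r k ≠ 0 := by
  by_contra h
  push Not at h
  exact one_ne_zero (coroot_primitive C (F := ℚ) (z := 1) hr fun k hk => by simp [h k hk])

theorem pos_of_coroot_pos {r : ℕ} (hr : r < D.nroots) {k : ℕ} (hk : k < D.rank) (h : 0 < T.coroot r k) :
    D.nroots ≤ 2 * r := by
  by_contra hn
  have := coroot_nonpos C hr (by omega) hk
  omega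

theorem neg_of_coroot_neg {r : ℕ} (hr : r < D.nroots) {k : ℕ} (hk : k < D.rank) (h : T.coroot r k < 0) :
    2 * r < D.nroots := by
  by_contra hn
  have := coroot_nonneg C hr (by omega) hk
  omega

theorem neg_of_forall {r : ℕ} (hr : r < D.nroots) (h : ∀ k < D.rank, T.coroot r k ≤ 0) : 2 * r < D.nroots := by
  obtain ⟨k, hk, hne⟩ := coroot_exists_ne C hr
  exact neg_of_coroot_neg C hr hk (lt_of_le_of_ne (h k hk) hne)

theorem pos_of_forall {r : ℕ} (hr : r < D.nroots) (h : ∀ k < D.rank, 0 ≤ T.coroot r k) : D.nroots ≤ 2 * r := by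
  obtain ⟨k, hk, hne⟩ := coroot_exists_ne C hr
  exact pos_of_coroot_pos C hr hk (lt_of_le_of_ne (h k hk) hne.symm)

/-- Coroots transform linearly under words. -/
theorem coroot_wperm {w : List ℕ} (hw : IsWord D w) {r : ℕ} (hr : r < D.nroots) :
    ∀ m < D.rank, T.coroot (wperm T w r) m =
      ∑ k ∈ Finset.range D.rank, T.coroot r k * T.coroot (wperm T w (T.simp' k)) m := by
  induction w with
  | nil =>
    intro m hm
    rw [Finset.sum_eq_single m]
    · simp [wperm, C.spec.cor_simple m hm m hm]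
    · intro k hk hkm
      simp [wperm, C.spec.cor_simple k (Finset.mem_range.1 hk) m hm, Ne.symm hkm]
    · simp [hm]
  | cons i w ih =>
    intro m hm
    have hi := hw.tail.1
    have hx := wperm_lt C hw.tail.2 hr
    have hL : ∀ x : ℕ, ((List.range D.rank).map fun j => T.coroot x j * T.cartan j (T.simp' i)).sum =
        ∑ j ∈ Finset.range D.rank, T.coroot x j * T.cartan j (T.simp' i) := by
      intro x; rfl
    show T.coroot (T.refl' i (wperm T w r)) m = ∑ k ∈ _, _ * T.coroot (T.refl' i (wperm T w (T.simp' k))) m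
    have hR : ∑ k ∈ Finset.range D.rank, T.coroot r k * T.coroot (T.refl' i (wperm T w (T.simp' k))) m =
        ∑ k ∈ Finset.range D.rank, T.coroot r k * (T.coroot (wperm T w (T.simp' k)) m -
          if m = i then ∑ j ∈ Finset.range D.rank, T.coroot (wperm T w (T.simp' k)) j * T.cartan j (T.simp' i)
          else 0) :=
      Finset.sum_congr rfl fun k hk => by
        rw [C.spec.cor_refl i hi _ (wperm_lt C hw.tail.2 (C.spec.simp_lt k (Finset.mem_range.1 hk))) m hm, hL]
    rw [C.spec.cor_refl i hi _ hx m hm, hL, hR]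
    by_cases hmi : m = i
    · subst hmi
      have hS : ∑ j ∈ Finset.range D.rank, T.coroot (wperm T w r) j * T.cartan j (T.simp' m) =
          ∑ j ∈ Finset.range D.rank, (∑ k ∈ Finset.range D.rank,
            T.coroot r k * T.coroot (wperm T w (T.simp' k)) j) * T.cartan j (T.simp' m) :=
        Finset.sum_congr rfl fun j hj => by rw [ih hw.tail.2 j (Finset.mem_range.1 hj)]
      simp only [if_true, mul_sub, Finset.sum_sub_distrib, Finset.mul_sum, hS, ih hw.tail.2 m hm, Finset.sum_mul]
      congr 1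
      rw [Finset.sum_comm]
      exact Finset.sum_congr rfl fun j _ => Finset.sum_congr rfl fun k _ => by ring
    · simp [hmi, ih hw.tail.2 m hm]

/-- A word making every fundamental root negative makes every positive root negative. -/
theorem all_neg_of_simple {w : List ℕ} (hw : IsWord D w) (h : ∀ k < D.rank, 2 * wperm T w (T.simp' k) < D.nroots)
    {s : ℕ} (hs : s < D.nroots) (hp : D.nroots ≤ 2 * s) : 2 * wperm T w s < D.nroots := by
  refine neg_of_forall C (wperm_lt C hw hs) fun m hm => ?_
  rw [coroot_wperm C hw hs m hm]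
  refine Finset.sum_nonpos fun k hk => ?_
  rw [Finset.mem_range] at hk
  exact mul_nonpos_of_nonneg_of_nonpos (coroot_nonneg C hs hp hk)
    (coroot_nonpos C (wperm_lt C hw (C.spec.simp_lt k hk)) (h k hk) hm)

theorem simp_inj {i j : ℕ} (hi : i < D.rank) (hj : j < D.rank) (h : T.simp' i = T.simp' j) : i = j := by
  by_contra hne
  have h1 := C.spec.cor_simple i hi i hi
  rw [h, C.spec.cor_simple j hj i hi, if_neg hne, if_pos rfl] at h1
  exact zero_ne_one h1

end CertFacts

section FullFacts

variable (C : Cert D T) (K : FullCert D T)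
include C K

theorem refl_simple_pos {i j : ℕ} (hi : i < D.rank) (hj : j < D.rank) (hne : i ≠ j) :
    D.nroots ≤ 2 * T.refl' i (T.simp' j) :=
  K.refl_pos hi (C.spec.simp_lt j hj) (K.simple_pos hj) fun e => hne (simp_inj C hj hi e).symm

/-- There is a word making all positive roots negative. -/
theorem exists_long : ∃ w, IsWord D w ∧ ∀ s < D.nroots, D.nroots ≤ 2 * s → 2 * wperm T w s < D.nroots := by
  suffices h : ∀ (N : ℕ) (w : List ℕ), IsWord D w →
      ((Finset.range D.nroots).filter fun s => D.nroots ≤ 2 * s ∧ D.nroots ≤ 2 * wperm T w s).card = N →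
      ∃ v, IsWord D v ∧ ∀ s < D.nroots, D.nroots ≤ 2 * s → 2 * wperm T v s < D.nroots from
    h _ [] (fun i hi => absurd hi List.not_mem_nil) rfl
  intro N
  induction N using Nat.strong_induction_on with
  | _ N ih =>
    intro w hw hN
    by_cases hk : ∃ k < D.rank, D.nroots ≤ 2 * wperm T w (T.simp' k)
    · obtain ⟨k, hk, hkp⟩ := hk
      have hw' : IsWord D (w ++ [k]) := hw.append (IsWord.cons hk fun j hj => absurd hj List.not_mem_nil)
      refine ih _ ?_ (w ++ [k]) hw' rfl
      have hsk := C.spec.simp_lt k hk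
      subst hN
      have hval : ∀ s, wperm T (w ++ [k]) s = wperm T w (T.refl' k s) := fun s => by rw [wperm_append]; rfl
      refine lt_of_le_of_lt ((le_of_eq (Finset.card_image_of_injOn (f := T.refl' k) ?_).symm).trans
          (Finset.card_le_card (t := ((Finset.range D.nroots).filter
            fun s => D.nroots ≤ 2 * s ∧ D.nroots ≤ 2 * wperm T w s).erase (T.simp' k)) ?_)) ?_
      · intro a ha b hb e
        simp only [Finset.coe_filter, Finset.mem_range, Set.mem_setOf_eq] at ha hb
        rw [← C.spec.refl_refl k hk a ha.1, e, C.spec.refl_refl k hk b hb.1]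
      · intro t ht
        obtain ⟨s, hs, rfl⟩ := Finset.mem_image.1 ht
        simp only [Finset.mem_filter, Finset.mem_range, hval] at hs
        obtain ⟨hsn, hsp, hsw⟩ := hs
        have hne : s ≠ T.simp' k := by
          rintro rfl
          rw [C.spec.refl_simple k hk, wperm_neg C hw hsk, K.neg_pos_iff (wperm_lt C hw hsk)] at hsw
          omega
        refine Finset.mem_erase.2 ⟨fun e => ?_, ?_⟩
        · have := congrArg (T.refl' k) e
          rw [C.spec.refl_refl k hk s hsn, C.spec.refl_simple k hk] at this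
          rw [this, K.neg_pos_iff hsk] at hsp
          have := K.simple_pos hk
          omega
        · simp only [Finset.mem_filter, Finset.mem_range]
          exact ⟨C.spec.refl_lt k hk s hsn, K.refl_pos hk hsn hsp hne, hsw⟩
      · refine Finset.card_erase_lt_of_mem ?_
        simp [hsk, K.simple_pos hk, hkp]
    · push Not at hk
      exact ⟨w, hw, fun s hs hp => all_neg_of_simple C hw hk hs hp⟩

theorem exists_coef : ∃ a : ℕ → ℕ → ℤ, (∀ k, IsLin D T (a k)) ∧ ∀ r < D.nroots, ∀ k < D.rank,
    (T.coroot r k = 0 ↔ a k r = 0) ∧ (0 ≤ T.coroot r k ↔ 0 ≤ a k r) := by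
  obtain ⟨Φ, h⟩ := K.coef
  simp only [chkCoef, allBelow_iff, Bool.and_eq_true, beq_iff_eq, C.spec.shape.rank_eq, C.spec.shape.nroots_eq,
    decide_eq_decide] at h
  exact ⟨fun k => fval T (Φ.getD k []), fun k => fval_isLin C _, h⟩

end FullFacts

section Sub

variable (C : Cert D T) {J : Set ℕ}
include C

theorem inRootSub_iff {r : ℕ} : D.InRootSub J r ↔ r < D.nroots ∧ ∀ k < D.rank, k ∉ J → T.coroot r k = 0 := by
  refine and_congr_right fun hr => forall₂_congr fun k hk => imp_congr_right fun _ => ?_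
  rw [C.spec.shape.coroot_eq r hr k hk]

theorem inRootSub_simple {j : ℕ} (hjr : j < D.rank) (hj : j ∈ J) : D.InRootSub J (T.simp' j) :=
  (inRootSub_iff C).2 ⟨C.spec.simp_lt j hjr, fun k hk hkJ => by
    rw [C.spec.cor_simple j hjr k hk, if_neg]; rintro rfl; exact hkJ hj⟩

theorem inRootSub_neg {r : ℕ} (h : D.InRootSub J r) : D.InRootSub J (T.neg r) :=
  (inRootSub_iff C).2 ⟨C.spec.neg_lt r h.1, fun k hk hkJ => by
    rw [C.spec.cor_neg r h.1 k hk, ((inRootSub_iff C).1 h).2 k hk hkJ, neg_zero]⟩

theorem inRootSub_refl {j r : ℕ} (hjr : j < D.rank) (hj : j ∈ J) (h : D.InRootSub J r) :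
    D.InRootSub J (T.refl' j r) :=
  (inRootSub_iff C).2 ⟨C.spec.refl_lt j hjr r h.1, fun k hk hkJ => by
    rw [C.spec.cor_refl j hjr r h.1 k hk, ((inRootSub_iff C).1 h).2 k hk hkJ, if_neg, sub_zero]
    rintro rfl; exact hkJ hj⟩

theorem pos_refl_outside {j s : ℕ} (hjr : j < D.rank) (hj : j ∈ J) (hs : s < D.nroots) (hn : ¬ D.InRootSub J s) :
    ¬ D.InRootSub J (T.refl' j s) := fun h => hn (by
  have := inRootSub_refl C hjr hj h
  rwa [C.spec.refl_refl j hjr s hs] at this)

variable (K : FullCert D T)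
include K

/-- Linear combinations with a root outside the subsystem. -/
theorem sum_pos {r s q : ℕ} {i j : ℕ} (hq : q < D.nroots) (hj : 1 ≤ j)
    (hw : ∀ m < D.rank, T.cartan m q = (i : ℤ) * T.cartan m r + (j : ℤ) * T.cartan m s)
    (hr : D.InRootSub J r) (hs : s < D.nroots) (hsp : D.nroots ≤ 2 * s) (hsn : ¬ D.InRootSub J s) :
    D.nroots ≤ 2 * q ∧ ¬ D.InRootSub J q := by
  obtain ⟨a, hlin, ha⟩ := exists_coef C K
  rw [inRootSub_iff C] at hsn
  push Not at hsn
  obtain ⟨k, hk, hkJ, hne⟩ := hsn hs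
  have h0 : a k r = 0 := (ha r hr.1 k hk).1.1 (((inRootSub_iff C).1 hr).2 k hk hkJ)
  have h1 : 0 ≤ a k s := (ha s hs k hk).2.1 (coroot_nonneg C hs hsp hk)
  have h2 : a k s ≠ 0 := fun e => hne ((ha s hs k hk).1.2 e)
  have h3 : a k q = (i : ℤ) * a k r + (j : ℤ) * a k s := hlin k r s q i j hw
  rw [h0, mul_zero, zero_add] at h3
  have h4 : 0 < a k q := by
    rw [h3]; exact mul_pos (by exact_mod_cast hj) (lt_of_le_of_ne h1 h2.symm)
  have h5 : T.coroot q k ≠ 0 := fun e => h4.ne' ((ha q hq k hk).1.1 e)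
  have h6 : 0 ≤ T.coroot q k := (ha q hq k hk).2.2 h4.le
  exact ⟨pos_of_coroot_pos C hq hk (lt_of_le_of_ne h6 h5.symm), fun h => h5 (((inRootSub_iff C).1 h).2 k hk hkJ)⟩

/-- Induction inside a root subsystem. -/
theorem sub_induction {P : ℕ → Prop} (h0 : ∀ j ∈ J, j < D.rank → P (T.simp' j))
    (h1 : ∀ j ∈ J, j < D.rank → ∀ r, D.InRootSub J r → P r → P (T.refl' j r)) :
    ∀ r, D.InRootSub J r → P r := by
  have key : ∀ r, D.nroots ≤ 2 * r → D.InRootSub J r → P r ∧ P (T.neg r) := by
    intro r
    induction r using Nat.strong_induction_on with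
    | _ r ih =>
      intro hp hJ
      have h := allBelow_iff.1 K.descPos r (C.spec.shape.nroots_eq ▸ hJ.1)
      rw [Bool.or_eq_true, Nat.blt_eq, C.spec.shape.nroots_eq, C.spec.shape.rank_eq] at h
      rcases h with h | h
      · omega
      obtain ⟨i, hi, h⟩ := exists_of_anyBelow h
      simp only [Bool.and_eq_true, Bool.or_eq_true, Bool.not_eq_true', decide_eq_false_iff_not, Nat.beq_eq,
        Nat.blt_eq] at h
      obtain ⟨hne, h⟩ := h
      have hiJ : i ∈ J := by
        by_contra hiJ; exact hne (((inRootSub_iff C).1 hJ).2 i hi hiJ)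
      by_cases hs : T.simp' i = r
      · subst hs
        refine ⟨h0 i hiJ hi, ?_⟩
        rw [← C.spec.refl_simple i hi]
        exact h1 i hiJ hi _ hJ (h0 i hiJ hi)
      · have hlt := h.resolve_left hs
        obtain ⟨ha, hb⟩ := ih _ hlt (K.refl_pos hi hJ.1 hp (Ne.symm hs)) (inRootSub_refl C hi hiJ hJ)
        have e := h1 i hiJ hi _ (inRootSub_refl C hi hiJ hJ) ha
        have e' := h1 i hiJ hi _ (inRootSub_neg C (inRootSub_refl C hi hiJ hJ)) hb
        rw [C.spec.refl_neg i hi _ (C.spec.refl_lt i hi r hJ.1)] at e'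
        rw [C.spec.refl_refl i hi r hJ.1] at e e'
        exact ⟨e, e'⟩
  intro r hJ
  by_cases hp : D.nroots ≤ 2 * r
  · exact (key r hp hJ).1
  · have := (key (T.neg r) ((K.neg_pos_iff hJ.1).2 (by omega)) (inRootSub_neg C hJ)).2
    rwa [C.spec.neg_neg r hJ.1] at this

theorem inRootSub_singleton {i r : ℕ} (hi : i < D.rank) (h : D.InRootSub {i} r) (hp : D.nroots ≤ 2 * r) :
    r = T.simp' i := by
  by_contra hne
  have := sub_induction C K (J := {i}) (P := fun r => r = T.simp' i ∨ r = T.neg (T.simp' i))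
    (fun j hj _ => by rw [Set.mem_singleton_iff.1 hj]; exact Or.inl rfl)
    (fun j hj _ s _ hs => by
      rw [Set.mem_singleton_iff.1 hj]
      rcases hs with rfl | rfl
      · exact Or.inr (C.spec.refl_simple i hi)
      · exact Or.inl (by rw [C.spec.refl_neg i hi _ (C.spec.simp_lt i hi), C.spec.refl_simple i hi,
          C.spec.neg_neg _ (C.spec.simp_lt i hi)])) r h
  rcases this with rfl | rfl
  · exact hne rfl
  · rw [K.neg_pos_iff (C.spec.simp_lt i hi)] at hp
    have := K.simple_pos hi
    omega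

end Sub

end Cfsg.Lib.Chev
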