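import Mathlib
import Cfsg.Agent.Lib.Chev.Units

/-!
The homomorphism from `SL₂` onto the group generated by a pair of opposite root subgroups.
-/

set_option autoImplicit false

namespace Cfsg.Lib.Chev

open Cfsg.Lie
open scoped Matrix MatrixGroups

/-- The relations of a pair of opposite root groups. -/
structure SLTwoRel (F : Type*) [Field F] (G : Type*) [Group G] where
  x : F → G
  y : F → G
  n : F → G
  h : F → G
  x_add : ∀ a b, x a * x b = x (a + b)
  y_add : ∀ a b, y a * y b = y (a + b)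
  n_eq : ∀ v, v ≠ 0 → n v = x v * y (-v⁻¹) * x v
  h_eq : ∀ v, v ≠ 0 → h v = n v * n (-1)
  n_conj : ∀ a, n 1 * x a * (n 1)⁻¹ = y (-a)
  h_mul : ∀ v w, v ≠ 0 → w ≠ 0 → h v * h w = h (v * w)
  h_conj : ∀ v a, v ≠ 0 → h v * x a * (h v)⁻¹ = x (v ^ 2 * a)

namespace SLTwoRel

variable {F : Type*} [Field F] {G : Type*} [Group G] (R : SLTwoRel F G)

theorem x_zero : R.x 0 = 1 := by
  have := R.x_add 0 0; rw [add_zero] at this; exact mul_eq_left.1 this

theorem y_zero : R.y 0 = 1 := by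
  have := R.y_add 0 0; rw [add_zero] at this; exact mul_eq_left.1 this

theorem x_neg (a : F) : (R.x a)⁻¹ = R.x (-a) := inv_eq_of_mul_eq_one_right (by rw [R.x_add, add_neg_cancel, R.x_zero])

theorem y_neg (a : F) : (R.y a)⁻¹ = R.y (-a) := inv_eq_of_mul_eq_one_right (by rw [R.y_add, add_neg_cancel, R.y_zero])

theorem n_inv {v : F} (hv : v ≠ 0) : (R.n v)⁻¹ = R.n (-v) := by
  rw [R.n_eq v hv, R.n_eq _ (neg_ne_zero.2 hv), mul_inv_rev, mul_inv_rev, R.x_neg, R.y_neg, neg_neg, inv_neg,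
    neg_neg, mul_assoc]

theorem h_one : R.h 1 = 1 := by
  have := R.h_mul 1 1 one_ne_zero one_ne_zero; rw [one_mul] at this; exact mul_eq_left.1 this

theorem h_n_one {v : F} (hv : v ≠ 0) : R.h v * R.n 1 = R.n v := by
  rw [R.h_eq v hv, ← R.n_inv one_ne_zero, inv_mul_cancel_right]

theorem n_one_sq : R.n 1 * R.n 1 = R.h (-1) := by
  have h1 : R.h (-1) * R.h (-1) = 1 := by
    rw [R.h_mul _ _ (neg_ne_zero.2 one_ne_zero) (neg_ne_zero.2 one_ne_zero), neg_mul_neg, one_mul, R.h_one]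
  have h2 : R.h (-1) = (R.n 1 * R.n 1)⁻¹ := by
    rw [R.h_eq _ (neg_ne_zero.2 one_ne_zero), mul_inv_rev, R.n_inv one_ne_zero]
  have h3 : (R.h (-1))⁻¹ = R.h (-1) := inv_eq_of_mul_eq_one_right h1
  have h4 : R.n 1 * R.n 1 = (R.h (-1))⁻¹ := by rw [h2, inv_inv]
  exact h4.trans h3

theorem n_mul_n_one {v : F} (hv : v ≠ 0) : R.n v * R.n 1 = R.h (-v) := by
  rw [← R.h_n_one hv, mul_assoc, R.n_one_sq, R.h_mul v _ hv (neg_ne_zero.2 one_ne_zero), mul_neg_one]

theorem n_conj' (a : F) : (R.n 1)⁻¹ * R.x a * R.n 1 = R.y (-a) := by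
  have e : R.h (-1) * R.x a * (R.h (-1))⁻¹ = R.x a := by
    rw [R.h_conj _ _ (neg_ne_zero.2 one_ne_zero)]; simp
  calc (R.n 1)⁻¹ * R.x a * R.n 1 = (R.n 1)⁻¹ * (R.n 1 * R.n 1 * R.x a * (R.n 1 * R.n 1)⁻¹) * R.n 1 := by
        rw [R.n_one_sq, e]
    _ = R.n 1 * R.x a * (R.n 1)⁻¹ := by group
    _ = R.y (-a) := R.n_conj a

theorem y_eq {z : F} (hz : z ≠ 0) : R.y z = R.x z⁻¹ * R.n (-z⁻¹) * R.x z⁻¹ := by
  rw [R.n_eq _ (neg_ne_zero.2 (inv_ne_zero hz)), inv_neg, neg_neg, inv_inv, ← mul_assoc, ← mul_assoc, R.x_add,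
    add_neg_cancel, R.x_zero, one_mul, mul_assoc, R.x_add, neg_add_cancel, R.x_zero, mul_one]

/-- The map in coordinates. -/
noncomputable def toFun' (g : SL(2, F)) : G := by
  classical
  exact if g.1 1 0 = 0 then R.x (g.1 0 0 * g.1 0 1) * R.h (g.1 0 0)
    else R.x (g.1 0 0 / g.1 1 0) * R.n (-(g.1 1 0)⁻¹) * R.x (g.1 1 1 / g.1 1 0)

/-- The upper unitriangular element. -/
def upr (b : F) : SL(2, F) := ⟨!![1, b; 0, 1], by simp [Matrix.det_fin_two_of]⟩

/-- The lower unitriangular element. -/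
def lwr (b : F) : SL(2, F) := ⟨!![1, 0; b, 1], by simp [Matrix.det_fin_two_of]⟩

/-- The rotation. -/
def rot : SL(2, F) := ⟨!![0, 1; -1, 0], by simp [Matrix.det_fin_two_of]⟩

theorem coe_upr (b : F) : ((upr b : SL(2, F)) : Matrix (Fin 2) (Fin 2) F) = !![1, b; 0, 1] := rfl

theorem coe_rot : ((rot : SL(2, F)) : Matrix (Fin 2) (Fin 2) F) = !![0, 1; -1, 0] := rfl

/-- The diagonal and upper triangular elements. -/
def tri (a b : F) (ha : a ≠ 0) : SL(2, F) := ⟨!![a, b; 0, a⁻¹], by simp [Matrix.det_fin_two_of, ha]⟩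

theorem coe_tri (a b : F) (ha : a ≠ 0) :
    ((tri a b ha : SL(2, F)) : Matrix (Fin 2) (Fin 2) F) = !![a, b; 0, a⁻¹] := rfl

theorem mul_upr (g : SL(2, F)) (b : F) : R.toFun' (g * upr b) = R.toFun' g * R.x b := by
  classical
  have e : (g * upr b).1 = !![g.1 0 0, g.1 0 0 * b + g.1 0 1; g.1 1 0, g.1 1 0 * b + g.1 1 1] := by
    rw [Matrix.SpecialLinearGroup.coe_mul]
    ext i j; fin_cases i <;> fin_cases j <;> simp [upr, Matrix.mul_apply, Fin.sum_univ_two]
  simp only [toFun', e, Matrix.of_apply, Matrix.cons_val', Matrix.cons_val_zero, Matrix.cons_val_one,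
    Matrix.empty_val', Matrix.cons_val_fin_one]
  split_ifs with hc
  · have ha : g.1 0 0 ≠ 0 := fun e => by
      have := g.2; rw [Matrix.det_fin_two, e, hc] at this; simp at this
    rw [mul_assoc, mul_inv_eq_iff_eq_mul.1 (R.h_conj (g.1 0 0) b ha), ← mul_assoc, R.x_add]
    congr 2; ring
  · rw [mul_assoc (R.x _ * R.n _), R.x_add]
    congr 2; field_simp; ring

theorem mul_rot (g : SL(2, F)) : R.toFun' (g * rot) = R.toFun' g * R.n 1 := by
  classical
  have e : (g * rot).1 = !![-g.1 0 1, g.1 0 0; -g.1 1 1, g.1 1 0] := by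
    rw [Matrix.SpecialLinearGroup.coe_mul]
    ext i j; fin_cases i <;> fin_cases j <;> simp [rot, Matrix.mul_apply, Fin.sum_univ_two]
  have hdet : g.1 0 0 * g.1 1 1 - g.1 0 1 * g.1 1 0 = 1 := by rw [← Matrix.det_fin_two]; exact g.2
  simp only [toFun', e, Matrix.of_apply, Matrix.cons_val', Matrix.cons_val_zero, Matrix.cons_val_one,
    Matrix.empty_val', Matrix.cons_val_fin_one]
  generalize g.1 0 0 = a at hdet ⊢
  generalize g.1 0 1 = b at hdet ⊢
  generalize g.1 1 0 = c at hdet ⊢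
  generalize g.1 1 1 = d at hdet ⊢
  by_cases hd : d = 0
  · subst hd
    have hc : c ≠ 0 := fun e => by subst e; simp at hdet
    rw [if_pos (neg_zero), if_neg hc, zero_div, R.x_zero, mul_one, mul_assoc,
      R.n_mul_n_one (neg_ne_zero.2 (inv_ne_zero hc)), neg_neg]
    have hb : -b = c⁻¹ := by field_simp; linear_combination hdet
    rw [hb]; congr 2; ring
  · rw [if_neg (neg_ne_zero.2 hd)]
    split_ifs with hc
    · subst hc
      have ha : a ≠ 0 := fun e => by subst e; simp at hdet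
      have had : a * d = 1 := by linear_combination hdet
      rw [zero_div, R.x_zero, mul_one, mul_assoc, R.h_n_one ha]
      congr 2
      · field_simp; linear_combination (-b) * had
      · field_simp; linear_combination -had
    · have hq : d / c ≠ 0 := div_ne_zero hd hc
      calc R.x (-b / -d) * R.n (-(-d)⁻¹) * R.x (c / -d)
          = R.x (a / c + -(c⁻¹ * c⁻¹ * (c / d))) * R.n (-(-d)⁻¹) * R.x (c / -d) := by
            congr 3
            field_simp
            linear_combination -hdet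
        _ = R.x (a / c) * (R.h c⁻¹ * R.x (-(d / c))⁻¹) * R.n (-(-(d / c))⁻¹) * R.x (-(d / c))⁻¹ := by
            rw [mul_inv_eq_iff_eq_mul.1 (R.h_conj c⁻¹ _ (inv_ne_zero hc)), ← mul_assoc, R.x_add, inv_neg, inv_neg,
              neg_neg, neg_neg, mul_assoc (R.x _) (R.h c⁻¹), ← R.h_n_one (inv_ne_zero hd),
              ← R.h_n_one (inv_ne_zero hq), ← mul_assoc (R.h c⁻¹), R.h_mul _ _ (inv_ne_zero hc) (inv_ne_zero hq)]
            congr 4
            · field_simp
            · field_simp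
            · field_simp
        _ = R.x (a / c) * R.h c⁻¹ * R.y (-(d / c)) := by
            rw [R.y_eq (neg_ne_zero.2 hq)]; simp only [mul_assoc]
        _ = R.x (a / c) * R.n (-c⁻¹) * R.x (d / c) * R.n 1 := by
            rw [← R.n_conj' (d / c)]
            have : R.n (-c⁻¹) = R.h c⁻¹ * (R.n 1)⁻¹ := by
              rw [eq_mul_inv_iff_mul_eq, R.n_mul_n_one (neg_ne_zero.2 (inv_ne_zero hc)), neg_neg]
            rw [this]
            simp only [mul_assoc]

theorem toFun'_one : R.toFun' (1 : SL(2, F)) = 1 := by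
  classical
  simp [toFun', R.x_zero, R.h_one]

theorem toFun'_upr (b : F) : R.toFun' (upr b) = R.x b := by
  simpa [R.toFun'_one] using R.mul_upr 1 b

theorem toFun'_rot : R.toFun' (rot : SL(2, F)) = R.n 1 := by
  simpa [R.toFun'_one] using R.mul_rot 1

theorem toFun'_lwr (b : F) : R.toFun' (lwr b) = R.y b := by
  classical
  by_cases hb : b = 0
  · subst hb; simp [toFun', lwr, R.x_zero, R.h_one, R.y_zero]
  · simp [toFun', lwr, hb, R.y_eq hb]

theorem upper_eq {a b : F} (ha : a ≠ 0) :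
    tri a b ha ∈
      Subgroup.closure (Set.range upr ∪ {rot} : Set SL(2, F)) := by
  have hu : ∀ x : F, upr x ∈ Subgroup.closure (Set.range upr ∪ {rot} : Set SL(2, F)) := fun x =>
    Subgroup.subset_closure (Or.inl ⟨x, rfl⟩)
  have hw : (rot : SL(2, F)) ∈ Subgroup.closure (Set.range upr ∪ {rot} : Set SL(2, F)) :=
    Subgroup.subset_closure (Or.inr rfl)
  have e : tri a b ha =
      upr a * (rot * upr a⁻¹ * rot⁻¹) * upr a * rot⁻¹ * upr (b / a) := by
    refine Subtype.ext ?_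
    ext i j
    fin_cases i <;> fin_cases j <;>
      simp [coe_upr, coe_rot, coe_tri, Matrix.SpecialLinearGroup.coe_inv, Matrix.adjugate_fin_two, Matrix.mul_apply,
        Fin.sum_univ_two] <;> field_simp <;> first | ring1 | simp [ha]
  rw [e]
  exact mul_mem (mul_mem (mul_mem (mul_mem (hu _) (mul_mem (mul_mem hw (hu _)) (inv_mem hw))) (hu _)) (inv_mem hw)) (hu _)

theorem closure_eq_top : Subgroup.closure (Set.range upr ∪ {rot} : Set SL(2, F)) = ⊤ := by
  refine (Subgroup.eq_top_iff' _).2 fun g => ?_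
  have hdet : g.1 0 0 * g.1 1 1 - g.1 0 1 * g.1 1 0 = 1 := by rw [← Matrix.det_fin_two]; exact g.2
  by_cases hc : g.1 1 0 = 0
  · have ha : g.1 0 0 ≠ 0 := fun e => by rw [e, hc] at hdet; simp at hdet
    have e : g = tri (g.1 0 0) (g.1 0 1) ha := by
      refine Subtype.ext ?_
      ext i j
      fin_cases i <;> fin_cases j <;> simp [coe_tri, hc]
      rw [hc] at hdet; field_simp; linear_combination hdet
    rw [e]; exact upper_eq ha
  · have hu : ∀ x : F, upr x ∈ Subgroup.closure (Set.range upr ∪ {rot} : Set SL(2, F)) := fun x =>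
      Subgroup.subset_closure (Or.inl ⟨x, rfl⟩)
    have hw : (rot : SL(2, F)) ∈ Subgroup.closure (Set.range upr ∪ {rot} : Set SL(2, F)) :=
      Subgroup.subset_closure (Or.inr rfl)
    have e : g = upr (g.1 0 0 / g.1 1 0) *
        tri (-(g.1 1 0)⁻¹) 0 (neg_ne_zero.2 (inv_ne_zero hc)) *
        rot * upr (g.1 1 1 / g.1 1 0) := by
      refine Subtype.ext ?_
      ext i j
      fin_cases i <;> fin_cases j <;> simp [coe_upr, coe_rot, coe_tri, Matrix.mul_apply, Fin.sum_univ_two] <;> field_simp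
      linear_combination -hdet
    rw [e]
    exact mul_mem (mul_mem (mul_mem (hu _) (upper_eq (neg_ne_zero.2 (inv_ne_zero hc)))) hw) (hu _)

/-- The homomorphism. -/
noncomputable def hom : SL(2, F) →* G where
  toFun := R.toFun'
  map_one' := R.toFun'_one
  map_mul' g h := by
    have : ∀ h, ∀ g, R.toFun' (g * h) = R.toFun' g * R.toFun' h := by
      intro h
      have hm : h ∈ Subgroup.closure (Set.range upr ∪ {rot} : Set SL(2, F)) := by rw [closure_eq_top]; trivial
      induction hm using Subgroup.closure_induction with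
      | mem h hh =>
        intro g
        rcases hh with ⟨b, rfl⟩ | rfl
        · rw [R.mul_upr, R.toFun'_upr]
        · rw [R.mul_rot, R.toFun'_rot]
      | one => intro g; simp [R.toFun'_one]
      | mul a b _ _ ha hb => intro g; rw [← mul_assoc, hb, ha, hb a, mul_assoc]
      | inv a _ ha =>
        intro g
        have h1 := ha (g * a⁻¹)
        have h2 := ha a⁻¹
        rw [inv_mul_cancel_right] at h1
        rw [inv_mul_cancel, R.toFun'_one] at h2
        rw [eq_inv_of_mul_eq_one_left h2.symm, eq_mul_inv_iff_mul_eq, ← h1]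
    exact this h g

theorem hom_range : R.hom.range = Subgroup.closure (Set.range R.x ∪ Set.range R.y) := by
  refine le_antisymm ?_ ((Subgroup.closure_le _).2 ?_)
  · rw [MonoidHom.range_eq_map, ← closure_eq_top, MonoidHom.map_closure, Subgroup.closure_le]
    rintro _ ⟨g, ⟨b, rfl⟩ | rfl, rfl⟩
    · exact Subgroup.subset_closure (Or.inl ⟨b, (R.toFun'_upr b).symm⟩)
    · show R.toFun' rot ∈ _
      rw [R.toFun'_rot, R.n_eq 1 one_ne_zero]
      exact mul_mem (mul_mem (Subgroup.subset_closure (Or.inl ⟨_, rfl⟩)) (Subgroup.subset_closure (Or.inr ⟨_, rfl⟩)))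
        (Subgroup.subset_closure (Or.inl ⟨_, rfl⟩))
  · rintro _ (⟨b, rfl⟩ | ⟨b, rfl⟩)
    · exact ⟨upr b, R.toFun'_upr b⟩
    · exact ⟨lwr b, R.toFun'_lwr b⟩

end SLTwoRel

variable {D : ChevalleyDatum} {T : Tbl} {F : Type*} [Field F] (C : Cert D T)
include C

theorem ng_conj_xg {r : ℕ} (hr : r < D.nroots) {v : F} (hv : v ≠ 0) (a : F) :
    ng C r v * xg C r a * (ng C r v)⁻¹ = xg C (T.neg r) (-a / v ^ 2) := by
  revert v a
  refine C.root_induction (P := fun r => ∀ {v : F}, v ≠ 0 → ∀ a,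
    ng C r v * xg C r a * (ng C r v)⁻¹ = xg C (T.neg r) (-a / v ^ 2)) ?_ ?_ r hr
  · intro i hi v hv a
    have hp := C.spec.simp_lt i hi
    have e : ng C (T.simp' i) v * xg C (T.simp' i) a * (ng C (T.simp' i) v)⁻¹ =
        hg C (T.simp' i) v * xg C (T.neg (T.simp' i)) (-a) * (hg C (T.simp' i) v)⁻¹ := by
      have h1 := nu_conj_xg C hi hp a
      rw [C.spec.refl_simple i hi, C.spec.eta_simple i hi] at h1
      push_cast at h1
      rw [neg_one_mul] at h1
      rw [← h1, nu, ng_eq C hp v]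
      group
    rw [e, mul_inv_eq_iff_eq_mul]
    refine Units.ext ?_
    rw [Units.val_mul, Units.val_mul, coe_hg_eq C hp hv, coDiag_simple C hi, dModel_eq_scal hi, coe_xg, coe_xg,
      scal_mul_x C.spec _ (fun j _ => by split_ifs <;> simp [hv]) (C.spec.neg_lt _ hp), chr_update hi,
      C.spec.cart_neg i hi _ hp, C.spec.cart_simple i hi]
    congr 2
    rw [zpow_neg, zpow_ofNat]; field_simp
  · intro i hi r hr ih v hv a
    have he := eta_sq (F := F) T i r
    have e1 := nu_conj_ng C hi hr (((T.eta' i r : ℤ) : F) * v)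
    have e2 := nu_conj_xg C hi hr (((T.eta' i r : ℤ) : F) * a)
    rw [← mul_assoc, he, one_mul] at e1 e2
    have e3 := ih (mul_ne_zero (eta_ne_zero (F := F) T i r) hv) (((T.eta' i r : ℤ) : F) * a)
    have e4 := nu_conj_xg C hi (C.spec.neg_lt r hr) (-(((T.eta' i r : ℤ) : F) * a) / (((T.eta' i r : ℤ) : F) * v) ^ 2)
    rw [C.spec.refl_neg i hi r hr, C.spec.eta_neg i hi r hr, ← e3] at e4
    calc ng C (T.refl' i r) v * xg C (T.refl' i r) a * (ng C (T.refl' i r) v)⁻¹
        = nu C i * (ng C r ((T.eta' i r : ℤ) * v) * xg C r ((T.eta' i r : ℤ) * a) *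
            (ng C r ((T.eta' i r : ℤ) * v))⁻¹) * (nu C i)⁻¹ := by rw [← e1, ← e2]; group
      _ = _ := by
        rw [e4]
        congr 1
        rw [mul_pow, sq ((T.eta' i r : ℤ) : F), he, one_mul]
        rw [show ((T.eta' i r : ℤ) : F) * (-(((T.eta' i r : ℤ) : F) * a) / v ^ 2) =
          -((((T.eta' i r : ℤ) : F) * (T.eta' i r : ℤ)) * a) / v ^ 2 by ring, he, one_mul]

theorem hg_conj_xg {r : ℕ} (hr : r < D.nroots) {v : F} (hv : v ≠ 0) (a : F) :
    hg C r v * xg C r a * (hg C r v)⁻¹ = xg C r (v ^ 2 * a) := by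
  have h1 := ng_conj_xg C hr (neg_ne_zero.2 (one_ne_zero (α := F))) a
  have hn := C.spec.neg_lt r hr
  have h2 : ng C r v * xg C (T.neg r) (-a / (-1) ^ 2) * (ng C r v)⁻¹ = xg C r (v ^ 2 * a) := by
    have h3 := ng_conj_xg C hr (neg_ne_zero.2 hv) (v ^ 2 * a)
    rw [← ng_inv C hr hv, inv_inv] at h3
    have e : -(v ^ 2 * a) / (-v) ^ 2 = -a / (-1) ^ 2 := by field_simp
    rw [e] at h3
    rw [← h3]; group
  rw [← h2, ← h1, hg]; group

/-- The relations for the roots `± r`. -/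
noncomputable def rootRel {r : ℕ} (hr : r < D.nroots) : SLTwoRel F (GL D.Idx F) where
  x := xg C r
  y := xg C (T.neg r)
  n := ng C r
  h := hg C r
  x_add := xg_add C r
  y_add := xg_add C (T.neg r)
  n_eq v _ := by rw [ng, C.spec.shape.neg_eq r hr]
  h_eq _ _ := rfl
  n_conj a := by rw [ng_conj_xg C hr one_ne_zero, one_pow, div_one]
  h_mul _ _ := hg_mul C hr
  h_conj v a hv := hg_conj_xg C hr hv a

theorem exists_slTwo_hom {r : ℕ} (hr : r < D.nroots) :
    ∃ φ : SL(2, F) →* GL D.Idx F,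
      φ.range = D.rootSubgroup F r ⊔ D.rootSubgroup F (D.neg r) ∧
      ∀ (g : SL(2, F)) (t : F),
        ((g : Matrix (Fin 2) (Fin 2) F) = !![1, t; 0, 1] → ((φ g : GL D.Idx F) : Matrix D.Idx D.Idx F) = D.x F r t) ∧
        ((g : Matrix (Fin 2) (Fin 2) F) = !![1, 0; t, 1] → ((φ g : GL D.Idx F) : Matrix D.Idx D.Idx F) = D.x F (D.neg r) t) := by
  refine ⟨(rootRel C hr).hom, ?_, fun g t => ⟨fun e => ?_, fun e => ?_⟩⟩
  · rw [SLTwoRel.hom_range, C.spec.shape.neg_eq r hr, Subgroup.closure_union]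
    have hx : ∀ s, Subgroup.closure (Set.range (xg C s) : Set (GL D.Idx F)) = D.rootSubgroup F s := fun s => by
      refine le_antisymm ((Subgroup.closure_le _).2 ?_) ((Subgroup.closure_le _).2 ?_)
      · rintro _ ⟨t, rfl⟩; exact (mem_rootSubgroup C).2 ⟨t, rfl⟩
      · rintro g ⟨t, ht⟩; exact Subgroup.subset_closure ⟨t, (eq_xg C ht).symm⟩
    show Subgroup.closure (Set.range (xg C r)) ⊔ Subgroup.closure (Set.range (xg C (T.neg r))) = _
    rw [hx, hx]
  · rw [show g = SLTwoRel.upr t from Subtype.ext e,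
      show (rootRel C hr).hom (SLTwoRel.upr t) = xg C r t from (rootRel C hr).toFun'_upr t, coe_xg]
  · rw [show g = SLTwoRel.lwr t from Subtype.ext e,
      show (rootRel C hr).hom (SLTwoRel.lwr t) = xg C (T.neg r) t from (rootRel C hr).toFun'_lwr t, coe_xg,
      C.spec.shape.neg_eq r hr]

end Cfsg.Lib.Chev
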