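import Mathlib
import Cfsg.Agent.Lib.Chev.Root
import Cfsg.Agent.Lib.Chev.SLTwo

/-!
Parabolic and Levi subgroups, the double coset relation, and the `(B, N)`-pair conditions.
-/

set_option autoImplicit false

namespace Cfsg.Lib.Chev

open Cfsg.Lie
open scoped Matrix

variable {D : ChevalleyDatum} {T : Tbl} {F : Type*} [Field F]

theorem conj_mem_closure {G : Type*} [Group G] {g : G} {S : Set G} (h : ∀ x ∈ S, g * x * g⁻¹ ∈ Subgroup.closure S)
    {x : G} (hx : x ∈ Subgroup.closure S) : g * x * g⁻¹ ∈ Subgroup.closure S := by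
  induction hx using Subgroup.closure_induction with
  | mem x hx => exact h x hx
  | one => simp
  | mul a b _ _ ha hb => simpa [mul_assoc] using mul_mem ha hb
  | inv a _ ha => simpa [mul_assoc] using inv_mem ha

theorem mem_normalizer_closure {G : Type*} [Group G] {g : G} {S : Set G}
    (h : ∀ x ∈ S, g * x * g⁻¹ ∈ Subgroup.closure S) (h' : ∀ x ∈ S, g⁻¹ * x * g ∈ Subgroup.closure S) :
    g ∈ Subgroup.normalizer (Subgroup.closure S : Set G) :=
  Subgroup.mem_normalizer_iff.2 fun x => ⟨fun hx => conj_mem_closure h hx, fun hx => by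
    have h'' : ∀ x ∈ S, g⁻¹ * x * g⁻¹⁻¹ ∈ Subgroup.closure S := fun x hx => by rw [inv_inv]; exact h' x hx
    simpa [mul_assoc] using conj_mem_closure h'' hx⟩

variable (C : Cert D T)
include C

theorem xg_eq_one {r : ℕ} (hr : r < D.nroots) {t : F} (h : xg C r t = 1) : t = 0 := by
  refine coroot_primitive C hr fun m hm => ?_
  have e := congrArg (fun g : GL D.Idx F => (g : Matrix D.Idx D.Idx F) (Sum.inl ⟨m, hm⟩)
    (Sum.inr ⟨_, C.spec.neg_lt _ hr⟩)) h
  simp only [coe_xg, Units.val_one] at e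
  rwa [x_inl_inr C.spec hr, if_pos rfl, Matrix.one_apply_ne (by simp)] at e

theorem xg_mem_pos {r : ℕ} (hr : r < D.nroots) (hp : D.nroots ≤ 2 * r) (t : F) : xg C r t ∈ D.posUnipotent F :=
  Subgroup.subset_closure ⟨r, t, (C.isPos_iff hr).2 hp, coe_xg C r t⟩

theorem xg_mem_neg {r : ℕ} (hr : r < D.nroots) (hp : 2 * r < D.nroots) (t : F) : xg C r t ∈ D.negUnipotent F :=
  Subgroup.subset_closure ⟨r, t, (C.isNeg_iff hr).2 hp, coe_xg C r t⟩

theorem xg_mem_borel {r : ℕ} (hr : r < D.nroots) (hp : D.nroots ≤ 2 * r) (t : F) : xg C r t ∈ D.borelSubgroup F :=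
  Subgroup.mem_sup_left (xg_mem_pos C hr hp t)

theorem xg_neg_not_borel {r : ℕ} (hr : r < D.nroots) (hp : 2 * r < D.nroots) {t : F}
    (h : xg C r t ∈ D.borelSubgroup F) : t = 0 :=
  xg_eq_one C hr ((Subgroup.eq_bot_iff_forall _).1 (borel_inf_neg C) _ ⟨h, xg_mem_neg C hr hp t⟩)

theorem xg_mem_radical {J : Set ℕ} {r : ℕ} (hr : r < D.nroots) (hp : D.nroots ≤ 2 * r) (hn : ¬ D.InRootSub J r)
    (t : F) : xg C r t ∈ D.unipotentRadical F J :=
  Subgroup.subset_closure ⟨r, t, (C.isPos_iff hr).2 hp, hn, coe_xg C r t⟩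

theorem xg_mem_levi {J : Set ℕ} {r : ℕ} (hr : D.InRootSub J r) (t : F) : xg C r t ∈ D.leviSubgroup F J :=
  Subgroup.mem_sup_right (Subgroup.subset_closure ⟨r, t, hr, coe_xg C r t⟩)

theorem nu_mem_levi {J : Set ℕ} {j : ℕ} (hjr : j < D.rank) (hj : j ∈ J) :
    (nu C j : GL D.Idx F) ∈ D.leviSubgroup F J := by
  have h := inRootSub_simple C hjr hj
  rw [nu, ng, C.spec.shape.neg_eq _ h.1]
  exact mul_mem (mul_mem (xg_mem_levi C h _) (xg_mem_levi C (inRootSub_neg C h) _)) (xg_mem_levi C h _)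

theorem radical_le_pos (J : Set ℕ) : D.unipotentRadical F J ≤ D.posUnipotent F :=
  (Subgroup.closure_le _).2 fun _ ⟨r, t, hr, _, e⟩ => Subgroup.subset_closure ⟨r, t, hr, e⟩

section Lin

variable {f : ℕ → ℤ}

/-- The level for a function on roots. -/
def glev (f : ℕ → ℤ) : D.Idx → ℤ
  | Sum.inl _ => 0
  | Sum.inr s => f s

/-- Matrices raising the `f`-level by at least `c`. -/
def GShift (f : ℕ → ℤ) (c : ℤ) (M : Matrix D.Idx D.Idx F) : Prop :=
  ∀ i j, (M - 1) i j ≠ 0 → c ≤ glev f i - glev f j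

/-- The group of units raising the `f`-level by at least `c`. -/
def gshiftGroup (D : ChevalleyDatum) (F : Type*) [Field F] (f : ℕ → ℤ) (c : ℤ) (hc : 0 ≤ c) :
    Subgroup (GL D.Idx F) where
  carrier := {g | GShift f c (g : Matrix D.Idx D.Idx F) ∧ GShift f c ((g⁻¹ : GL D.Idx F) : Matrix D.Idx D.Idx F)}
  one_mem' := by simp [GShift]
  inv_mem' := fun {g} hg => ⟨hg.2, by simpa using hg.1⟩
  mul_mem' := by
    have key : ∀ A B : Matrix D.Idx D.Idx F, GShift f c A → GShift f c B → GShift f c (A * B) := by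
      intro A B hA hB i j hij
      have e : A * B - 1 = (A - 1) * (B - 1) + (A - 1) + (B - 1) := by
        simp only [sub_mul, mul_sub, mul_one, one_mul]; abel
      rw [e, Matrix.add_apply, Matrix.add_apply] at hij
      by_cases h1 : (A - 1) i j = 0
      · by_cases h2 : (B - 1) i j = 0
        · rw [h1, h2, add_zero, add_zero, Matrix.mul_apply] at hij
          obtain ⟨m, -, hm⟩ := Finset.exists_ne_zero_of_sum_ne_zero hij
          have := hA i m (left_ne_zero_of_mul hm)
          have := hB m j (right_ne_zero_of_mul hm)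
          linarith
        · exact hB i j h2
      · exact hA i j h1
    rintro a b ⟨ha, ha'⟩ ⟨hb, hb'⟩
    refine ⟨?_, ?_⟩
    · rw [Units.val_mul]; exact key _ _ ha hb
    · rw [mul_inv_rev, Units.val_mul]; exact key _ _ hb' ha'

theorem gshift_x (hf : IsLin D T f) {r : ℕ} (hr : r < D.nroots) (t : F) {c : ℤ} (h : c ≤ f r) (hc : 0 ≤ c) :
    GShift f c (D.x F r t) := by
  intro i j hij
  rcases i with a | w <;> rcases j with b | s <;> simp only [Matrix.sub_apply, glev] at hij ⊢
  · exact absurd (by simp [x_inl_inl C.spec hr, Matrix.one_apply]) hij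
  · rw [x_inl_inr C.spec hr, Matrix.one_apply_ne (by simp), sub_zero] at hij
    split_ifs at hij with hs
    · rw [hs, isLin_neg C hf hr]; linarith
    · exact absurd rfl hij
  · rw [x_inr_inl C.spec hr, Matrix.one_apply_ne (by simp), sub_zero] at hij
    split_ifs at hij with hw
    · rw [hw]; linarith
    · exact absurd rfl hij
  · rw [x_inr_inr C.spec hr, Matrix.one_apply] at hij
    simp only [Sum.inr.injEq, Fin.ext_iff] at hij
    split_ifs at hij with h1 h2 h3 h4 h5 h6 h7 h8 <;>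
      first
        | exact absurd (sub_self _) hij
        | (exfalso; omega)
        | skip
    all_goals try simp only [sub_zero, ne_eq] at hij
    all_goals
      first
        | (rw [‹(s : ℕ) = T.neg r›, ‹(w : ℕ) = r›, isLin_neg C hf hr]; linarith)
        | skip
    all_goals
      have key : chainVal (T.entry r s) 0 t w ≠ 0 := by
        intro e; apply hij; simp [e]
      obtain ⟨x, hx, hxne⟩ := List.exists_mem_ne_zero_of_sum_ne_zero key
      obtain ⟨q, hq, rfl⟩ := List.mem_map.1 hx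
      split_ifs at hxne with hqw
      · obtain ⟨-, hw⟩ := C.spec.entry_mem r hr s s.2 q.2 q.1 (List.mem_zipIdx_iff_getElem?.1 hq)
        rw [← hqw, hf r s q.1.1 ((q.2 : ℤ) + 1) 1 fun m hm => by rw [hw m hm]; ring]
        nlinarith [(Int.natCast_nonneg q.2 : (0 : ℤ) ≤ (q.2 : ℤ))]
      · exact absurd rfl hxne

theorem xg_mem_gshift (hf : IsLin D T f) {r : ℕ} (hr : r < D.nroots) (t : F) {c : ℤ} (h : c ≤ f r) (hc : 0 ≤ c) :
    xg C r t ∈ gshiftGroup D F f c hc :=
  ⟨gshift_x C hf hr t h hc, by rw [xg_inv]; exact gshift_x C hf hr (-t) h hc⟩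

theorem diag_mem_gshift {h : GL D.Idx F} (hh : h ∈ D.diagonalSubgroup F) :
    h ∈ gshiftGroup D F f 0 le_rfl := by
  have key : ∀ h ∈ D.diagonalSubgroup F, GShift f 0 (h : Matrix D.Idx D.Idx F) := by
    intro h hh i j hij
    obtain ⟨c, -, e⟩ := coe_diagonal C hh
    by_cases h' : i = j
    · subst h'; simp
    · rw [Matrix.sub_apply, e, scal, Matrix.diagonal_apply_ne _ h', Matrix.one_apply_ne h', sub_zero] at hij
      exact absurd rfl hij
  exact ⟨key h hh, key _ (inv_mem hh)⟩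

end Lin

variable (K : FullCert D T)
include K

theorem xg_conj_radical {J : Set ℕ} {r : ℕ} (hr : D.InRootSub J r) (t : F) {x : GL D.Idx F}
    (hx : x ∈ D.unipotentRadical F J) : xg C r t * x * (xg C r t)⁻¹ ∈ D.unipotentRadical F J := by
  refine conj_mem_closure ?_ hx
  rintro x ⟨s, u, hs, hsn, e⟩
  rw [eq_xg C e]
  have hsp := (C.isPos_iff hs.1).1 hs
  obtain ⟨l, hl, hc⟩ := comm_xg C K.comm hr.1 hs.1 (fun e => hsn (e ▸ hr))
    (fun e => hsn (e ▸ inRootSub_neg C hr)) (-t) u
  have e2 : xg C r t * xg C s u * (xg C r t)⁻¹ = xg C s u * (l.map fun p => xg C p.1 p.2).prod := by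
    rw [xg_inv, mul_assoc, hc, ← mul_assoc, ← mul_assoc, xg_add, add_neg_cancel, xg_zero, one_mul]
  rw [e2]
  refine mul_mem (xg_mem_radical C hs.1 hsp hsn u) (list_prod_mem fun y hy => ?_)
  obtain ⟨p, hp, rfl⟩ := List.mem_map.1 hy
  obtain ⟨hp1, i, j, hi, hj, hw⟩ := hl p hp
  obtain ⟨h1, h2⟩ := sum_pos C K hp1 hj hw hr hs.1 hsp hsn
  exact xg_mem_radical C hp1 h1 h2 _

theorem diag_conj_radical {J : Set ℕ} {h : GL D.Idx F} (hh : h ∈ D.diagonalSubgroup F) {x : GL D.Idx F}
    (hx : x ∈ D.unipotentRadical F J) : h * x * h⁻¹ ∈ D.unipotentRadical F J := by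
  obtain ⟨χ, hχ⟩ := diag_conj_xg C hh
  refine conj_mem_closure ?_ hx
  rintro x ⟨s, u, hs, hsn, e⟩
  rw [eq_xg C e, (hχ s hs.1).2]
  exact xg_mem_radical C hs.1 ((C.isPos_iff hs.1).1 hs) hsn _

theorem levi_le_normalizer (J : Set ℕ) :
    D.leviSubgroup F J ≤ Subgroup.normalizer (D.unipotentRadical F J : Set (GL D.Idx F)) := by
  refine sup_le (fun h hh => ?_) ((Subgroup.closure_le _).2 ?_)
  · refine Subgroup.mem_normalizer_iff.2 fun x => ⟨fun hx => diag_conj_radical C K hh hx, fun hx => ?_⟩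
    simpa [mul_assoc] using diag_conj_radical C K (inv_mem hh) hx
  · rintro g ⟨r, t, hr, e⟩
    rw [eq_xg C e]
    refine Subgroup.mem_normalizer_iff.2 fun x => ⟨fun hx => xg_conj_radical C K hr t hx, fun hx => ?_⟩
    have := xg_conj_radical C K hr (-t) hx
    rw [← xg_inv] at this
    simpa [mul_assoc] using this

theorem parabolic_eq (J : Set ℕ) : D.parabolicSubgroup F J = D.diagonalSubgroup F ⊔ Subgroup.closure
    {g : GL D.Idx F | ∃ (r : ℕ) (t : F), (D.IsPosRoot r ∨ D.InRootSub J r) ∧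
      (g : Matrix D.Idx D.Idx F) = D.x F r t} := by
  refine le_antisymm (sup_le (sup_le ?_ le_sup_left) ((Subgroup.closure_le _).2 ?_))
    (sup_le (le_sup_of_le_left le_sup_right) ((Subgroup.closure_le _).2 ?_))
  · exact le_sup_of_le_right (Subgroup.closure_mono fun g ⟨r, t, hr, e⟩ => ⟨r, t, Or.inl hr, e⟩)
  · rintro g ⟨j, hj, hjr, e⟩
    have hg : g = ng C (T.simp' j) 1 := Units.ext (by rw [e, coe_ng, C.spec.shape.simple_eq j hjr])
    have h := inRootSub_simple C hjr hj
    have hmem : ∀ r, D.InRootSub J r → ∀ t : F, xg C r t ∈ D.diagonalSubgroup F ⊔ Subgroup.closure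
        {g : GL D.Idx F | ∃ (r : ℕ) (t : F), (D.IsPosRoot r ∨ D.InRootSub J r) ∧
          (g : Matrix D.Idx D.Idx F) = D.x F r t} :=
      fun r hr t => Subgroup.mem_sup_right (Subgroup.subset_closure ⟨r, t, Or.inr hr, coe_xg C r t⟩)
    rw [hg, ng, C.spec.shape.neg_eq _ h.1]
    exact mul_mem (mul_mem (hmem _ h _) (hmem _ (inRootSub_neg C h) _)) (hmem _ h _)
  · rintro g ⟨r, t, hr | hr, e⟩
    · exact Subgroup.mem_sup_left (Subgroup.mem_sup_left (Subgroup.subset_closure ⟨r, t, hr, e⟩))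
    · rw [eq_xg C e]
      refine sub_induction C K (P := fun r => ∀ t : F, xg C r t ∈ D.parabolicSubgroup F J) ?_ ?_ r hr t
      · intro j _ hjr t
        exact Subgroup.mem_sup_left (xg_mem_borel C (C.spec.simp_lt j hjr) (K.simple_pos hjr) t)
      · intro j hj hjr s hs ih t
        have hν : (nu C j : GL D.Idx F) ∈ D.parabolicSubgroup F J :=
          Subgroup.mem_sup_right (Subgroup.subset_closure ⟨j, hj, hjr, by
            rw [nu, coe_ng, C.spec.shape.simple_eq j hjr]⟩)
        have e := nu_conj_xg C hjr hs.1 ((T.eta' j s : ℤ) * t : F)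
        rw [← mul_assoc, eta_sq, one_mul] at e
        rw [← e]
        exact mul_mem (mul_mem hν (ih _)) (inv_mem hν)

theorem radical_sup_levi (J : Set ℕ) :
    D.unipotentRadical F J ⊔ D.leviSubgroup F J = D.parabolicSubgroup F J := by
  rw [parabolic_eq C K]
  refine le_antisymm (sup_le (le_sup_of_le_right (Subgroup.closure_mono fun g ⟨r, t, h, _, e⟩ => ⟨r, t, Or.inl h, e⟩))
    (sup_le le_sup_left (le_sup_of_le_right (Subgroup.closure_mono fun g ⟨r, t, h, e⟩ => ⟨r, t, Or.inr h, e⟩))))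
    (sup_le (le_sup_of_le_right le_sup_left) ((Subgroup.closure_le _).2 ?_))
  rintro g ⟨r, t, hr, e⟩
  rw [eq_xg C e]
  by_cases hJ : D.InRootSub J r
  · exact Subgroup.mem_sup_right (xg_mem_levi C hJ t)
  · rcases hr with hr | hr
    · exact Subgroup.mem_sup_left (xg_mem_radical C hr.1 ((C.isPos_iff hr.1).1 hr) hJ t)
    · exact absurd hr hJ

theorem parabolic_le_normalizer (J : Set ℕ) :
    D.parabolicSubgroup F J ≤ Subgroup.normalizer (D.unipotentRadical F J : Set (GL D.Idx F)) := by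
  rw [← radical_sup_levi C K]
  exact sup_le Subgroup.le_normalizer (levi_le_normalizer C K J)

theorem radical_inf_levi (J : Set ℕ) : D.unipotentRadical F J ⊓ D.leviSubgroup F J = ⊥ := by
  classical
  obtain ⟨a, hlin, ha⟩ := exists_coef C K
  let f : ℕ → ℤ := fun s => ∑ k ∈ (Finset.range D.rank).filter (fun k => k ∉ J), a k s
  have hf : IsLin D T f := fun r s q i j h => by
    simp only [f, hlin _ r s q i j h, Finset.sum_add_distrib, Finset.mul_sum]
  have hf' : IsLin D T fun s => -f s := fun r s q i j h => by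
    show -f q = i * -f r + j * -f s
    rw [hf r s q i j h]; ring
  have h0 : ∀ r, D.InRootSub J r → f r = 0 := fun r hr => Finset.sum_eq_zero fun k hk => by
    simp only [Finset.mem_filter, Finset.mem_range] at hk
    exact (ha r hr.1 k hk.1).1.1 (((inRootSub_iff C).1 hr).2 k hk.1 hk.2)
  have h1 : D.unipotentRadical F J ≤ gshiftGroup D F f 1 zero_le_one := by
    refine (Subgroup.closure_le _).2 ?_
    rintro g ⟨r, t, hr, hn, e⟩
    rw [eq_xg C e]
    refine xg_mem_gshift C hf hr.1 t ?_ _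
    have hp := (C.isPos_iff hr.1).1 hr
    rw [inRootSub_iff C] at hn
    push Not at hn
    obtain ⟨k, hk, hkJ, hne⟩ := hn hr.1
    have hk' : k ∈ (Finset.range D.rank).filter (fun k => k ∉ J) := by simp [hk, hkJ]
    have hnn : ∀ m ∈ (Finset.range D.rank).filter (fun k => k ∉ J), 0 ≤ a m r := fun m hm => by
      simp only [Finset.mem_filter, Finset.mem_range] at hm
      exact (ha r hr.1 m hm.1).2.1 (coroot_nonneg C hr.1 hp hm.1)
    have := Finset.single_le_sum hnn hk'
    have : a k r ≠ 0 := fun e => hne ((ha r hr.1 k hk).1.2 e)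
    have := hnn k hk'
    show 1 ≤ f r
    simp only [f]; omega
  have h2 : ∀ (g : ℕ → ℤ), IsLin D T g → (∀ r, D.InRootSub J r → g r = 0) →
      D.leviSubgroup F J ≤ gshiftGroup D F g 0 le_rfl := fun g hg hg0 =>
    sup_le (fun h hh => diag_mem_gshift C hh) ((Subgroup.closure_le _).2 fun x ⟨r, t, hr, e⟩ => by
      rw [eq_xg C e]; exact xg_mem_gshift C hg hr.1 t (hg0 r hr).ge _)
  refine (Subgroup.eq_bot_iff_forall _).2 fun g ⟨hgU, hgL⟩ => Units.ext ?_
  rw [Units.val_one]
  ext i j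
  by_contra hne
  have hne' : ((g : Matrix D.Idx D.Idx F) - 1) i j ≠ 0 := by rw [Matrix.sub_apply]; exact sub_ne_zero.2 hne
  have e1 := (h1 hgU).1 i j hne'
  have e2 := (h2 _ hf' (fun r hr => by simp [h0 r hr]) hgL).1 i j hne'
  rcases i with i | i <;> rcases j with j | j <;> simp only [glev] at e1 e2 <;> omega

theorem radical_singleton {i : ℕ} (hi : i < D.rank) :
    Subgroup.closure {g : GL D.Idx F | ∃ (s : ℕ) (t : F), D.IsPosRoot s ∧ s ≠ D.simple i ∧
      (g : Matrix D.Idx D.Idx F) = D.x F s t} = D.unipotentRadical F {i} := by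
  rw [C.spec.shape.simple_eq i hi]
  refine congrArg _ (Set.ext fun g => exists_congr fun s => exists_congr fun t => and_congr_right fun hs => ?_)
  refine and_congr_left fun _ => ⟨fun h hJ => h (inRootSub_singleton C K hi hJ ((C.isPos_iff hs.1).1 hs)), fun h e => ?_⟩
  exact h (e ▸ inRootSub_simple C hi rfl)

theorem radical_sup_simple {i : ℕ} (hi : i < D.rank) :
    D.unipotentRadical F {i} ⊔ D.rootSubgroup F (T.simp' i) = D.posUnipotent F := by
  refine le_antisymm (sup_le (radical_le_pos C _) ?_) ((Subgroup.closure_le _).2 ?_)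
  · intro g hg
    obtain ⟨t, rfl⟩ := (mem_rootSubgroup C).1 hg
    exact xg_mem_pos C (C.spec.simp_lt i hi) (K.simple_pos hi) t
  · rintro g ⟨r, t, hr, e⟩
    rw [eq_xg C e]
    by_cases hri : r = T.simp' i
    · subst hri
      exact Subgroup.mem_sup_right ((mem_rootSubgroup C).2 ⟨t, rfl⟩)
    · exact Subgroup.mem_sup_left (xg_mem_radical C hr.1 ((C.isPos_iff hr.1).1 hr)
        (fun hJ => hri (inRootSub_singleton C K hi hJ ((C.isPos_iff hr.1).1 hr))) t)

theorem simple_le_normalizer {i : ℕ} (hi : i < D.rank) :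
    D.rootSubgroup F (T.simp' i) ⊔ D.rootSubgroup F (T.neg (T.simp' i)) ≤
      Subgroup.normalizer (D.unipotentRadical F {i} : Set (GL D.Idx F)) := by
  have h := inRootSub_simple C hi (Set.mem_singleton i)
  refine sup_le (fun g hg => ?_) (fun g hg => ?_) <;> obtain ⟨t, rfl⟩ := (mem_rootSubgroup C).1 hg
  · exact levi_le_normalizer C K _ (xg_mem_levi C h t)
  · exact levi_le_normalizer C K _ (xg_mem_levi C (inRootSub_neg C h) t)

theorem pos_decomp {i : ℕ} (hi : i < D.rank) {u : GL D.Idx F} (hu : u ∈ D.posUnipotent F) :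
    ∃ v ∈ D.unipotentRadical F {i}, ∃ t : F, u = v * xg C (T.simp' i) t := by
  rw [← radical_sup_simple C K hi, ← SetLike.mem_coe,
    Subgroup.coe_mul_of_right_le_normalizer_left _ _ (le_sup_left.trans (simple_le_normalizer C K hi))] at hu
  obtain ⟨v, hv, x, hx, rfl⟩ := Set.mem_mul.1 hu
  obtain ⟨t, rfl⟩ := (mem_rootSubgroup C).1 hx
  exact ⟨v, hv, t, rfl⟩

/-- The double coset relation `n_i B n ⊆ B n_i n B ∪ B n B`. -/
theorem nu_mul_borel {i : ℕ} (hi : i < D.rank) {b n : GL D.Idx F} (hb : b ∈ D.borelSubgroup F)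
    (hn : n ∈ D.monomialSubgroup F) : ∃ x ∈ D.borelSubgroup F, ∃ y ∈ D.borelSubgroup F,
      nu C i * b * n = x * (nu C i * n) * y ∨ nu C i * b * n = x * n * y := by
  have hHB : D.diagonalSubgroup F ≤ D.borelSubgroup F := le_sup_right
  obtain ⟨u, hu, h, hh, rfl⟩ := (mem_borel C).1 hb
  obtain ⟨v, hv, t, rfl⟩ := pos_decomp C K hi hu
  obtain ⟨w, hw, d, hd, rfl⟩ := (mem_monomial C).1 hn
  have hp := C.spec.simp_lt i hi
  have hnp := C.spec.neg_lt _ hp
  let σ := wperm T w.reverse (T.simp' i)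
  have hσ : σ < D.nroots := wperm_lt C hw.reverse hp
  have hwσ : wperm T w σ = T.simp' i := by
    have := wperm_reverse C hw.reverse hp
    rwa [List.reverse_reverse] at this
  have hv' : nu C i * v * (nu C i)⁻¹ ∈ D.borelSubgroup F :=
    Subgroup.mem_sup_left (radical_le_pos C _ ((Subgroup.mem_normalizer_iff.1
      (levi_le_normalizer C K _ (nu_mem_levi C hi (Set.mem_singleton i))) v).1 hv))
  have hh' : (wnu C F w)⁻¹ * h * (wnu C F w) ∈ D.borelSubgroup F := hHB (conj_mem_diag C (wnu_mem C hw) hh).2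
  obtain ⟨c, hc, hct⟩ := wnu_conj_xg C (F := F) hw hσ
  have hxW : ∀ a : F, xg C (T.simp' i) a * (wnu C F w) = (wnu C F w) * xg C σ (c * a) := fun a => by
    have := hct (c * a)
    rw [← mul_assoc c, hc, one_mul, hwσ] at this
    rw [← this]; group
  have e0 : nu C i * (v * xg C (T.simp' i) t * h) * ((wnu C F w) * d) =
      (nu C i * v * (nu C i)⁻¹) * (nu C i * xg C (T.simp' i) t * (wnu C F w)) * (((wnu C F w)⁻¹ * h * (wnu C F w)) * d) := by group
  by_cases hcase : t = 0 ∨ D.nroots ≤ 2 * σ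
  · have hx : xg C σ (c * t) ∈ D.borelSubgroup F := by
      rcases hcase with rfl | hpos
      · rw [mul_zero, xg_zero]; exact one_mem _
      · exact xg_mem_borel C hσ hpos _
    refine ⟨_, hv', d⁻¹ * xg C σ (c * t) * (((wnu C F w)⁻¹ * h * (wnu C F w)) * d),
      mul_mem (mul_mem (inv_mem (hHB hd)) hx) (mul_mem hh' (hHB hd)), Or.inl ?_⟩
    rw [e0, mul_assoc (nu C i) (xg C (T.simp' i) t), hxW]
    group
  · push Not at hcase
    obtain ⟨ht, hneg⟩ := hcase
    obtain ⟨c', hc', hct'⟩ := wnu_conj_xg C (F := F) hw (C.spec.neg_lt σ hσ)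
    rw [wperm_neg C hw hσ, hwσ] at hct'
    have hyW : ∀ a : F, xg C (T.neg (T.simp' i)) a * (wnu C F w) = (wnu C F w) * xg C (T.neg σ) (c' * a) := fun a => by
      have := hct' (c' * a)
      rw [← mul_assoc c', hc', one_mul] at this
      rw [← this]; group
    have hne : (-t : F) ≠ 0 := neg_ne_zero.2 ht
    let a : F := (-t)⁻¹
    have ha : a ≠ 0 := inv_ne_zero hne
    have hsx : ∀ b : F, nu C i * xg C (T.simp' i) b = xg C (T.neg (T.simp' i)) (-b) * nu C i := fun b => by
      have := nu_conj_xg C hi hp b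
      rw [C.spec.refl_simple i hi, C.spec.eta_simple i hi] at this
      push_cast at this
      rw [neg_one_mul] at this
      rw [← this]; group
    have hy : xg C (T.neg (T.simp' i)) (-t) =
        xg C (T.simp' i) a * hg C (T.simp' i) (-a) * nu C i * xg C (T.simp' i) a := by
      have := (rootRel C (F := F) hp).y_eq hne
      change xg C (T.neg (T.simp' i)) (-t) = xg C (T.simp' i) a * ng C (T.simp' i) (-a) * xg C (T.simp' i) a at this
      rw [this, ng_eq C hp (-a), nu]
      simp only [mul_assoc]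
    have e1 : nu C i * xg C (T.simp' i) t * (wnu C F w) =
        xg C (T.simp' i) a * hg C (T.simp' i) (-a) * (wnu C F w) *
          (xg C (T.neg σ) (c' * -a) * ((wnu C F w)⁻¹ * hg C (T.simp' i) (-1 : F) * (wnu C F w))) := by
      rw [hsx, hy]
      calc xg C (T.simp' i) a * hg C (T.simp' i) (-a) * nu C i * xg C (T.simp' i) a * nu C i * (wnu C F w)
          = xg C (T.simp' i) a * hg C (T.simp' i) (-a) *
              (xg C (T.neg (T.simp' i)) (-a) * (nu C i * nu C i)) * (wnu C F w) := by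
            rw [mul_assoc (xg C (T.simp' i) a * hg C (T.simp' i) (-a)) (nu C i), hsx]; group
        _ = xg C (T.simp' i) a * hg C (T.simp' i) (-a) * (xg C (T.neg (T.simp' i)) (-a) * (wnu C F w)) *
              ((wnu C F w)⁻¹ * hg C (T.simp' i) (-1 : F) * (wnu C F w)) := by rw [nu_sq C hi]; group
        _ = _ := by rw [hyW]; group
    refine ⟨(nu C i * v * (nu C i)⁻¹) * (xg C (T.simp' i) a * hg C (T.simp' i) (-a)),
      mul_mem hv' (mul_mem (xg_mem_borel C hp (K.simple_pos hi) a) (hHB (hg_mem C hp (neg_ne_zero.2 ha)))),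
      d⁻¹ * (xg C (T.neg σ) (c' * -a) * ((wnu C F w)⁻¹ * hg C (T.simp' i) (-1 : F) * (wnu C F w))) * (((wnu C F w)⁻¹ * h * (wnu C F w)) * d),
      mul_mem (mul_mem (inv_mem (hHB hd)) (mul_mem
        (xg_mem_borel C (C.spec.neg_lt σ hσ) ((K.neg_pos_iff hσ).2 hneg) _)
        (hHB (conj_mem_diag C (wnu_mem C hw) (hg_mem C hp (neg_ne_zero.2 one_ne_zero))).2)))
        (mul_mem hh' (hHB hd)), Or.inr ?_⟩
    rw [e0, e1]
    group

end Cfsg.Lib.Chev
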