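import Mathlib
import Cfsg.Prelude.Def_LieExceptional
import Cfsg.Agent.Lib.Chev.Borel
import Cfsg.Agent.Lib.Linear.BNPair

/-!
The `(B, N)`-pair of a Chevalley group, Bruhat decomposition, and consequences.
-/

set_option autoImplicit false

namespace Cfsg.Lib.Chev

open Cfsg.Lie
open scoped Matrix

variable {D : ChevalleyDatum} {T : Tbl} {F : Type*} [Field F] (C : Cert D T)
include C

theorem ng_mem_group (r : ℕ) (v : F) : ng C r v ∈ D.group F :=
  mul_mem (mul_mem (xg_mem_group C r _) (xg_mem_group C _ _)) (xg_mem_group C r _)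

theorem diag_le_group : D.diagonalSubgroup F ≤ D.group F := by
  refine (Subgroup.closure_le _).2 ?_
  rintro g ⟨r, v, -, -, e⟩
  rw [show g = hg C r v from Units.ext (e.trans (coe_hg C r v).symm), hg]
  exact mul_mem (ng_mem_group C r v) (ng_mem_group C r _)

theorem pos_le_group : D.posUnipotent F ≤ D.group F :=
  (Subgroup.closure_le _).2 fun g ⟨r, t, _, e⟩ => by rw [eq_xg C e]; exact xg_mem_group C r t

theorem borel_le_group : D.borelSubgroup F ≤ D.group F := sup_le (pos_le_group C) (diag_le_group C)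

theorem monomial_le_group : D.monomialSubgroup F ≤ D.group F := by
  refine sup_le (diag_le_group C) ((Subgroup.closure_le _).2 ?_)
  rintro g ⟨r, -, e⟩
  rw [show g = ng C r 1 from Units.ext (e.trans (coe_ng C r 1).symm)]
  exact ng_mem_group C r 1

theorem eq_nu_iff {i : ℕ} (hi : i < D.rank) {g : GL D.Idx F} :
    (g : Matrix D.Idx D.Idx F) = D.nMat F (D.simple i) 1 ↔ g = nu C i := by
  rw [nu, C.spec.shape.simple_eq i hi, ← coe_ng C]
  exact ⟨fun e => Units.ext e, fun e => by rw [e]⟩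

theorem wnu_mem_group {w : List ℕ} (hw : IsWord D w) : wnu C F w ∈ D.group F :=
  monomial_le_group C (wnu_mem C hw)

/-- A torus element commuting with all root elements is trivial. -/
theorem diag_eq_one_of_comm {h : GL D.Idx F} (hh : h ∈ D.diagonalSubgroup F)
    (hcomm : ∀ r < D.nroots, h * xg C r (1 : F) = xg C r 1 * h) : h = 1 := by
  obtain ⟨c, hc, e⟩ := coe_diagonal C hh
  have hchr : ∀ r < D.nroots, chr T D c r = 1 := by
    intro r hr
    have hnr := C.spec.neg_lt r hr
    have hnn := C.spec.neg_neg r hr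
    have hz : chr T D c r - 1 = 0 := coroot_primitive C hnr fun k hk => by
      have e1 := congrArg (fun g : GL D.Idx F => (g : Matrix D.Idx D.Idx F) (Sum.inl ⟨k, hk⟩) (Sum.inr ⟨r, hr⟩))
        (hcomm (T.neg r) hnr)
      simp only [Units.val_mul, e, coe_xg, scal, Matrix.mul_diagonal, Matrix.diagonal_mul, x_inl_inr C.spec hnr, hnn,
        if_true, Sum.elim_inl, Sum.elim_inr, mul_one, one_mul] at e1
      linear_combination -e1
    linear_combination hz
  refine Units.ext ?_
  rw [e, Units.val_one, scal, Matrix.diagonal_eq_one]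
  funext i
  rcases i with i | i
  · rfl
  · exact hchr i i.2

variable (K : FullCert D T)
include K

theorem group_le_borel_sup_monomial : D.group F ≤ D.borelSubgroup F ⊔ D.monomialSubgroup F := by
  refine (Subgroup.closure_le _).2 ?_
  rintro g ⟨r, t, e⟩
  have hg : g = xg C r.1 t := eq_xg C (e.trans (by rw [ChevalleyDatum.x, dif_pos r.2]))
  rw [hg]
  revert t
  intro t _ _
  refine C.root_induction (P := fun r => ∀ t : F, xg C r t ∈ D.borelSubgroup F ⊔ D.monomialSubgroup F) ?_ ?_ r.1 r.2 t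
  · exact fun i hi t => Subgroup.mem_sup_left (xg_mem_borel C (C.spec.simp_lt i hi) (K.simple_pos hi) t)
  · intro i hi s hs ih t
    have e := nu_conj_xg C hi hs ((T.eta' i s : ℤ) * t : F)
    rw [← mul_assoc, eta_sq, one_mul] at e
    rw [← e]
    have := Subgroup.mem_sup_right (S := D.borelSubgroup F) (nu_mem C (F := F) i hi)
    exact mul_mem (mul_mem this (ih _)) (inv_mem this)

theorem nu_inj {i j : ℕ} (hi : i < D.rank) (hj : j < D.rank)
    (h : (nu C i : GL D.Idx F)⁻¹ * nu C j ∈ D.diagonalSubgroup F) : i = j := by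
  by_contra hne
  have hp := C.spec.simp_lt j hj
  obtain ⟨χ, hχ⟩ := diag_conj_xg C h
  have e := (hχ _ hp).2 1
  have e2 : nu C j * xg C (T.simp' j) (1 : F) * (nu C j)⁻¹ =
      nu C i * xg C (T.simp' j) (χ (T.simp' j) * 1) * (nu C i)⁻¹ := by rw [← e]; group
  rw [nu_conj_xg C hj hp, nu_conj_xg C hi hp, C.spec.refl_simple j hj] at e2
  have hneg : 2 * T.neg (T.simp' j) < D.nroots := by
    have := K.simple_pos hj; rw [C.neg_eq hp]; omega
  have hb : xg C (T.neg (T.simp' j)) ((T.eta' j (T.simp' j) : ℤ) * (1 : F)) ∈ D.borelSubgroup F := by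
    rw [e2]; exact xg_mem_borel C (C.spec.refl_lt i hi _ hp) (refl_simple_pos C K hi hj hne) _
  have := xg_neg_not_borel C (C.spec.neg_lt _ hp) hneg hb
  rw [mul_one] at this
  exact eta_ne_zero T j (T.simp' j) this

/-- The `(B, N)`-pair. -/
noncomputable def bnPair (F : Type*) [Field F] : Cfsg.BNPair ↥(D.group F) where
  B := (D.borelSubgroup F).subgroupOf (D.group F)
  N := (D.monomialSubgroup F).subgroupOf (D.group F)
  S := {n : ↥(D.group F) | ∃ i < D.rank, ((n : GL D.Idx F) : Matrix D.Idx D.Idx F) = D.nMat F (D.simple i) 1}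
  sup_eq_top := by
    rw [← Subgroup.subgroupOf_sup (borel_le_group C) (monomial_le_group C), Subgroup.subgroupOf_eq_top]
    exact group_le_borel_sup_monomial C K
  conj_mem := by
    rintro n hn t ⟨htB, htN⟩
    refine Subgroup.mem_sup_right ?_
    have : (t : GL D.Idx F) ∈ D.diagonalSubgroup F := by rw [← borel_inf_monomial C]; exact ⟨htB, htN⟩
    exact (conj_mem_diag C hn this).1
  subset := by
    rintro n ⟨i, hi, e⟩
    show (n : GL D.Idx F) ∈ D.monomialSubgroup F
    rw [(eq_nu_iff C hi).1 e]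
    exact nu_mem C i hi
  sq_mem := by
    rintro n ⟨i, hi, e⟩
    show (n : GL D.Idx F) * n ∈ D.borelSubgroup F
    rw [(eq_nu_iff C hi).1 e, nu_sq C hi]
    exact Subgroup.mem_sup_right (hg_mem C (C.spec.simp_lt i hi) (neg_ne_zero.2 one_ne_zero))
  inj := by
    rintro s ⟨i, hi, e⟩ s' ⟨j, hj, e'⟩ h
    rw [eq_nu_iff C hi] at e
    rw [eq_nu_iff C hj] at e'
    have hB : (nu C i : GL D.Idx F)⁻¹ * nu C j ∈ D.borelSubgroup F := by rw [← e, ← e']; exact h
    obtain rfl := nu_inj C K hi hj (F := F) (by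
      rw [← borel_inf_monomial C]; exact Subgroup.mem_inf.2 ⟨hB, Subgroup.mul_mem _ (Subgroup.inv_mem _ (nu_mem C i hi)) (nu_mem C j hj)⟩)
    exact Subtype.ext (e.trans e'.symm)
  closure_sup := by
    refine le_antisymm (sup_le ((Subgroup.closure_le _).2 ?_) inf_le_right) ?_
    · rintro n ⟨i, hi, e⟩
      show (n : GL D.Idx F) ∈ D.monomialSubgroup F
      rw [(eq_nu_iff C hi).1 e]
      exact nu_mem C i hi
    · intro x hx
      obtain ⟨w, hw, h, hh, e⟩ := (mem_monomial C).1 (show (x : GL D.Idx F) ∈ D.monomialSubgroup F from hx)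
      have hh' : (⟨h, diag_le_group C hh⟩ : ↥(D.group F)) ∈
          (D.borelSubgroup F).subgroupOf (D.group F) ⊓ (D.monomialSubgroup F).subgroupOf (D.group F) :=
        ⟨Subgroup.mem_sup_right (show h ∈ D.diagonalSubgroup F from hh), diag_le_monomial C hh⟩
      have hw' : ∀ {w : List ℕ} (hw : IsWord D w), (⟨wnu C F w, wnu_mem_group C hw⟩ : ↥(D.group F)) ∈
          Subgroup.closure {n : ↥(D.group F) | ∃ i < D.rank,
            ((n : GL D.Idx F) : Matrix D.Idx D.Idx F) = D.nMat F (D.simple i) 1} := by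
        intro w hw
        induction w with
        | nil =>
          rw [show (⟨wnu C F [], wnu_mem_group C hw⟩ : ↥(D.group F)) = 1 from Subtype.ext (by simp [wnu])]
          exact one_mem _
        | cons i w ih =>
          have : (⟨wnu C F (i :: w), wnu_mem_group C hw⟩ : ↥(D.group F)) =
              ⟨nu C i, monomial_le_group C (nu_mem C i hw.tail.1)⟩ * ⟨wnu C F w, wnu_mem_group C hw.tail.2⟩ :=
            Subtype.ext (wnu_cons C i w)
          rw [this]
          exact mul_mem (Subgroup.subset_closure ⟨i, hw.tail.1, (eq_nu_iff C hw.tail.1).2 rfl⟩) (ih hw.tail.2)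
      rw [show x = ⟨wnu C F w, wnu_mem_group C hw⟩ * ⟨h, diag_le_group C hh⟩ from Subtype.ext e]
      exact mul_mem (Subgroup.mem_sup_left (hw' hw)) (Subgroup.mem_sup_right hh')
  mul_mem_union := by
    rintro s ⟨i, hi, e⟩ n hn b hb
    rw [eq_nu_iff C hi] at e
    obtain ⟨x, hx, y, hy, h⟩ := nu_mul_borel C K hi (show (b : GL D.Idx F) ∈ D.borelSubgroup F from hb)
      (show (n : GL D.Idx F) ∈ D.monomialSubgroup F from hn)
    rw [← e] at h
    rcases h with h | h
    · exact Or.inl (DoubleCoset.mem_doubleCoset.2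
        ⟨⟨x, borel_le_group C hx⟩, hx, ⟨y, borel_le_group C hy⟩, hy, Subtype.ext h⟩)
    · exact Or.inr (DoubleCoset.mem_doubleCoset.2
        ⟨⟨x, borel_le_group C hx⟩, hx, ⟨y, borel_le_group C hy⟩, hy, Subtype.ext h⟩)
  conj_ne := by
    rintro s ⟨i, hi, e⟩ h
    rw [eq_nu_iff C hi] at e
    have hp := C.spec.simp_lt i hi
    let x : ↥(D.group F) := ⟨xg C (T.simp' i) 1, xg_mem_group C _ _⟩
    have hx : s * x * s ∈ (D.borelSubgroup F).subgroupOf (D.group F) := by
      rw [← SetLike.mem_coe, ← h]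
      exact ⟨x, xg_mem_borel C hp (K.simple_pos hi) 1, rfl⟩
    have hx' : nu C i * xg C (T.simp' i) (1 : F) * nu C i ∈ D.borelSubgroup F := by
      rw [← e]; exact hx
    have e2 : nu C i * xg C (T.simp' i) (1 : F) * nu C i =
        (nu C i * xg C (T.simp' i) (1 : F) * (nu C i)⁻¹) * (nu C i * nu C i) := by group
    rw [e2, nu_sq C hi, nu_conj_xg C hi hp, C.spec.refl_simple i hi] at hx'
    have hH : hg C (T.simp' i) (-1 : F) ∈ D.borelSubgroup F :=
      Subgroup.mem_sup_right (hg_mem C hp (neg_ne_zero.2 one_ne_zero))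
    rw [Subgroup.mul_mem_cancel_right _ hH] at hx'
    have := xg_neg_not_borel C (C.spec.neg_lt _ hp) (by have := K.simple_pos hi; rw [C.neg_eq hp]; omega) hx'
    rw [mul_one] at this
    exact eta_ne_zero T i (T.simp' i) this

/-- Bruhat decomposition. -/
theorem bruhat {g : GL D.Idx F} (hg' : g ∈ D.group F) :
    ∃ u ∈ D.posUnipotent F, ∃ n ∈ D.monomialSubgroup F, ∃ v ∈ D.posUnipotent F, g = u * n * v := by
  obtain ⟨n, hn, hcell⟩ := Cfsg.Lib.Linear.BN.bruhat (P := bnPair C K F) ⟨g, hg'⟩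
  obtain ⟨b, hb, b', hb', e⟩ := Cfsg.Lib.Linear.BN.mem_cell.1 hcell
  obtain ⟨u, hu, h, hh, eb⟩ := (mem_borel C).1 (show (b : GL D.Idx F) ∈ D.borelSubgroup F from hb)
  obtain ⟨v, hv, k, hk, eb'⟩ := (mem_borel C).1 (show (b' : GL D.Idx F) ∈ D.borelSubgroup F from hb')
  refine ⟨u, hu, h * (n : GL D.Idx F) * k,
    mul_mem (mul_mem (diag_le_monomial C hh) hn) (diag_le_monomial C hk), k⁻¹ * v * k, ?_, ?_⟩
  · have := (Subgroup.mem_normalizer_iff.1 (diag_le_normalizer C (inv_mem hk)) v).1 hv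
    rwa [inv_inv] at this
  · have e' := congrArg (fun z : ↥(D.group F) => (z : GL D.Idx F)) e
    simp only [Subgroup.coe_mul] at e'
    rw [e', eb, eb']
    group

omit K in
/-- An element of `B` conjugate under `N` to an element of `U` has trivial torus part. -/
theorem conj_diag_eq_one {u v h n : GL D.Idx F} (hu : u ∈ D.posUnipotent F) (hv : v ∈ D.posUnipotent F)
    (hh : h ∈ D.diagonalSubgroup F) (hn : n ∈ D.monomialSubgroup F) (e : u * h * n = n * v) : h = 1 := by
  obtain ⟨w, hw, d, hd, rfl⟩ := (mem_monomial C).1 hn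
  obtain ⟨h1, h2, h3⟩ := isMono_mul_diag C (isMono_wnu C (F := F) hw) hd
  obtain ⟨c, hc, eh⟩ := coe_diagonal C hh
  have hdiag : ∀ {u : GL D.Idx F}, u ∈ D.posUnipotent F → ∀ i, (u : Matrix D.Idx D.Idx F) i i = 1 := by
    intro u hu i
    by_contra hne
    have := (pos_le_shift C hu).1 i i (by rw [Matrix.sub_apply, Matrix.one_apply_eq]; exact sub_ne_zero.2 hne)
    simp at this
  generalize hN : ((wnu C F w * d : GL D.Idx F) : Matrix D.Idx D.Idx F) = N at h1 h2 h3
  have e' := congrArg (fun z : GL D.Idx F => (z : Matrix D.Idx D.Idx F)) e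
  simp only [Units.val_mul] at e'
  rw [← Units.val_mul, ← Units.val_mul, hN, Units.val_mul, eh] at e'
  have hchr : ∀ t < D.nroots, chr T D c t = 1 := by
    intro t ht
    let s : Fin D.nroots := ⟨wperm T w.reverse t, wperm_lt C hw.reverse ht⟩
    have hs : wperm T w s = t := by
      have := wperm_reverse C hw.reverse ht
      rwa [List.reverse_reverse] at this
    have e2 := congrFun (congrFun e' (Sum.inr ⟨t, ht⟩)) (Sum.inr s)
    rw [Matrix.mul_apply, Matrix.mul_apply, Finset.sum_eq_single (Sum.inr ⟨t, ht⟩), Finset.sum_eq_single (Sum.inr s)]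
      at e2
    · rw [scal, Matrix.mul_diagonal, hdiag hu, hdiag hv, one_mul, mul_one] at e2
      simp only [Sum.elim_inr] at e2
      exact mul_left_eq_self₀.1 e2 |>.resolve_right ((h3 ⟨t, ht⟩ s).2 hs.symm)
    · rintro (x | x) _ hx
      · rw [h1, zero_mul]
      · have : N (Sum.inr ⟨t, ht⟩) (Sum.inr x) = 0 := by
          by_contra hne
          have hxs := (h3 ⟨t, ht⟩ x).1 hne
          exact hx (congrArg Sum.inr (Fin.ext (wperm_inj C hw x.2 s.2 (hxs.symm.trans hs.symm))))
        rw [this, zero_mul]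
    · simp
    · rintro (x | x) _ hx
      · rw [h2, mul_zero]
      · have : N (Sum.inr x) (Sum.inr s) = 0 := by
          by_contra hne
          exact hx (congrArg Sum.inr (Fin.ext (((h3 x s).1 hne).trans hs)))
        rw [this, mul_zero]
    · simp
  refine Units.ext ?_
  rw [eh, Units.val_one, scal, Matrix.diagonal_eq_one]
  funext i
  rcases i with i | i
  · rfl
  · exact hchr i i.2

theorem diag_conj_monomial {h₁ h₂ g : GL D.Idx F} (h1 : h₁ ∈ D.diagonalSubgroup F) (h2 : h₂ ∈ D.diagonalSubgroup F)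
    (hg' : g ∈ D.group F) (hc : g * h₁ * g⁻¹ = h₂) : ∃ n ∈ D.monomialSubgroup F, n * h₁ * n⁻¹ = h₂ := by
  obtain ⟨u, hu, n, hn, v, hv, rfl⟩ := bruhat C K hg'
  refine ⟨n, hn, ?_⟩
  have hd := (conj_mem_diag C hn h1).1
  generalize hd' : n * h₁ * n⁻¹ = d at hd
  rw [mul_inv_eq_iff_eq_mul] at hc
  have hnd : n * h₁ = d * n := by rw [← hd', inv_mul_cancel_right]
  have hconj : ∀ {k x : GL D.Idx F}, k ∈ D.diagonalSubgroup F → x ∈ D.posUnipotent F →
      k * x * k⁻¹ ∈ D.posUnipotent F := fun hk hx =>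
    (Subgroup.mem_normalizer_iff.1 (diag_le_normalizer C hk) _).1 hx
  have hv' : h₁⁻¹ * v * h₁ * v⁻¹ ∈ D.posUnipotent F := by
    refine mul_mem ?_ (inv_mem hv)
    simpa using hconj (inv_mem h1) hv
  have hu' : d⁻¹ * (u⁻¹ * (h₂ * u * h₂⁻¹)) * d ∈ D.posUnipotent F := by
    simpa using hconj (inv_mem hd) (mul_mem (inv_mem hu) (hconj h2 hu))
  have key : d⁻¹ * (u⁻¹ * (h₂ * u * h₂⁻¹)) * d * (d⁻¹ * h₂) * n = n * (h₁⁻¹ * v * h₁ * v⁻¹) := by
    calc d⁻¹ * (u⁻¹ * (h₂ * u * h₂⁻¹)) * d * (d⁻¹ * h₂) * n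
        = d⁻¹ * u⁻¹ * (h₂ * (u * n * v)) * v⁻¹ := by group
      _ = d⁻¹ * u⁻¹ * (u * n * v * h₁) * v⁻¹ := by rw [hc]
      _ = d⁻¹ * (n * h₁) * (h₁⁻¹ * v * h₁ * v⁻¹) := by group
      _ = _ := by rw [hnd]; group
  exact inv_mul_eq_one.1 (conj_diag_eq_one C hu' hv' (mul_mem (inv_mem hd) h2) hn key)

theorem normalizer_radical (J : Set ℕ) :
    Subgroup.normalizer (D.unipotentRadical F J : Set (GL D.Idx F)) ⊓ D.group F = D.parabolicSubgroup F J := by
  have hPG : D.parabolicSubgroup F J ≤ D.group F := by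
    refine sup_le (borel_le_group C) ((Subgroup.closure_le _).2 ?_)
    rintro g ⟨j, -, hj, e⟩
    rw [(eq_nu_iff C hj).1 e]
    exact monomial_le_group C (nu_mem C j hj)
  refine le_antisymm ?_ (le_inf (parabolic_le_normalizer C K J) hPG)
  let P := bnPair C K F
  let M : Subgroup ↥(D.group F) :=
    (Subgroup.normalizer (D.unipotentRadical F J : Set (GL D.Idx F))).subgroupOf (D.group F)
  have hBM : P.B ≤ M := fun b hb => parabolic_le_normalizer C K J (Subgroup.mem_sup_left hb)
  have hM : M ≤ (D.parabolicSubgroup F J).subgroupOf (D.group F) := by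
    rw [Cfsg.Lib.Linear.BN.eq_parabolic hBM]
    refine sup_le (fun b hb => Subgroup.mem_sup_left hb) ((Subgroup.closure_le _).2 ?_)
    rintro s ⟨⟨i, hi, e⟩, hsM⟩
    show (s : GL D.Idx F) ∈ D.parabolicSubgroup F J
    by_cases hiJ : i ∈ J
    · exact Subgroup.mem_sup_right (Subgroup.subset_closure ⟨i, hiJ, hi, e⟩)
    exfalso
    have hs : (s : GL D.Idx F) ∈ Subgroup.normalizer (D.unipotentRadical F J : Set (GL D.Idx F)) := hsM
    rw [(eq_nu_iff C hi).1 e] at hs
    have hp := C.spec.simp_lt i hi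
    have hnot : ¬ D.InRootSub J (T.simp' i) := fun h => by
      have := ((inRootSub_iff C).1 h).2 i hi hiJ
      rw [C.spec.cor_simple i hi i hi, if_pos rfl] at this
      exact one_ne_zero this
    have hx := (Subgroup.mem_normalizer_iff.1 hs _).1 (xg_mem_radical C hp (K.simple_pos hi) hnot (1 : F))
    rw [nu_conj_xg C hi hp, C.spec.refl_simple i hi] at hx
    have := xg_neg_not_borel C (C.spec.neg_lt _ hp) (by have := K.simple_pos hi; rw [C.neg_eq hp]; omega)
      (Subgroup.mem_sup_left (radical_le_pos C J hx))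
    rw [mul_one] at this
    exact eta_ne_zero T i (T.simp' i) this
  exact fun g hg => hM (show (⟨g, hg.2⟩ : ↥(D.group F)) ∈ M from hg.1)

/-- The longest element exchanges `U` and `V`. -/
theorem exists_opposition : ∃ w, IsWord D w ∧
    (D.posUnipotent F).map (MulAut.conj (wnu C F w)).toMonoidHom = D.negUnipotent F := by
  obtain ⟨w, hw, hneg⟩ := exists_long C K
  refine ⟨w, hw, le_antisymm ?_ ?_⟩
  · rw [ChevalleyDatum.posUnipotent, MonoidHom.map_closure, Subgroup.closure_le]
    rintro _ ⟨g, ⟨r, t, hr, e⟩, rfl⟩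
    obtain ⟨c, -, hct⟩ := wnu_conj_xg C (F := F) hw hr.1
    show wnu C F w * g * (wnu C F w)⁻¹ ∈ _
    rw [eq_xg C e, hct]
    exact xg_mem_neg C (wperm_lt C hw hr.1) (hneg r hr.1 ((C.isPos_iff hr.1).1 hr)) _
  · refine (Subgroup.closure_le _).2 ?_
    rintro g ⟨s, t, hs, e⟩
    have hs' := (C.isNeg_iff hs.1).1 hs
    let r := wperm T w.reverse s
    have hr : r < D.nroots := wperm_lt C hw.reverse hs.1
    have hwr : wperm T w r = s := by
      have := wperm_reverse C hw.reverse hs.1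
      rwa [List.reverse_reverse] at this
    have hrp : D.nroots ≤ 2 * r := by
      by_contra hn
      have := hneg _ (C.spec.neg_lt r hr) ((K.neg_pos_iff hr).2 (by omega))
      rw [wperm_neg C hw hr, hwr, C.neg_eq hs.1] at this
      have := nroots_even C
      omega
    obtain ⟨c, hc, hct⟩ := wnu_conj_xg C (F := F) hw hr
    refine ⟨xg C r (c * t), xg_mem_pos C hr hrp _, ?_⟩
    show wnu C F w * xg C r (c * t) * (wnu C F w)⁻¹ = g
    rw [hct, hwr, ← mul_assoc, hc, one_mul, eq_xg C e]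

theorem borel_core_eq_bot : ((D.borelSubgroup F).subgroupOf (D.group F)).normalCore = ⊥ := by
  obtain ⟨w, hw, hmap⟩ := exists_opposition C K (F := F)
  have hH : ∀ g : ↥(D.group F), g ∈ ((D.borelSubgroup F).subgroupOf (D.group F)).normalCore →
      (g : GL D.Idx F) ∈ D.diagonalSubgroup F := by
    intro g hgc
    have h1 : (g : GL D.Idx F) ∈ D.borelSubgroup F :=
      (Subgroup.normalCore_le ((D.borelSubgroup F).subgroupOf (D.group F))) hgc
    let W : ↥(D.group F) := ⟨wnu C F w, wnu_mem_group C hw⟩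
    have h2 : (wnu C F w)⁻¹ * (g : GL D.Idx F) * wnu C F w ∈ D.borelSubgroup F := by
      have h := hgc W⁻¹
      rw [inv_inv] at h
      exact h
    obtain ⟨u, hu, h, hh, e⟩ := (mem_borel C).1 h2
    rw [← borel_inf_neg_diag C]
    refine ⟨h1, ?_⟩
    rw [show (g : GL D.Idx F) = (wnu C F w * u * (wnu C F w)⁻¹) * (wnu C F w * h * (wnu C F w)⁻¹) by
      rw [show u = (wnu C F w)⁻¹ * (g : GL D.Idx F) * wnu C F w * h⁻¹ by rw [e, mul_inv_cancel_right]]; group]
    exact mul_mem (Subgroup.mem_sup_left (hmap ▸ Subgroup.mem_map_of_mem _ hu))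
      (Subgroup.mem_sup_right (conj_mem_diag C (wnu_mem C hw) hh).1)
  refine (Subgroup.eq_bot_iff_forall _).2 fun g hgc => Subtype.ext ?_
  have hh := hH g hgc
  refine diag_eq_one_of_comm C hh fun r hr => ?_
  obtain ⟨χ, hχ⟩ := diag_conj_xg C hh
  let x : ↥(D.group F) := ⟨xg C r 1, xg_mem_group C r 1⟩
  have hk := hH (g * (x * g⁻¹ * x⁻¹)) (mul_mem hgc ((Subgroup.normalCore_normal _).conj_mem _ (inv_mem hgc) x))
  have e : (g : GL D.Idx F) * (xg C r 1 * (g : GL D.Idx F)⁻¹ * (xg C r 1)⁻¹) = xg C r (χ r + -1) := by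
    rw [← xg_add, ← xg_inv, ← mul_one (χ r), ← (hχ r hr).2]; group
  have hk' : xg C r (χ r + -1) ∈ D.diagonalSubgroup F := by rw [← e]; exact hk
  have hz : χ r + -1 = 0 := by
    by_cases hp : D.nroots ≤ 2 * r
    · exact xg_eq_one C hr ((Subgroup.eq_bot_iff_forall _).1 (pos_inf_diag C) _ ⟨xg_mem_pos C hr hp _, hk'⟩)
    · exact xg_neg_not_borel C hr (by omega) (Subgroup.mem_sup_right hk')
  have := (hχ r hr).2 1
  rw [show χ r * 1 = 1 by linear_combination hz, mul_inv_eq_iff_eq_mul] at this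
  exact this

end Cfsg.Lib.Chev
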