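import Mathlib
import Cfsg.Agent.Lib.Chev.BN

/-!
The Bruhat normal form.
-/

set_option autoImplicit false

namespace Cfsg.Lib.Chev

open Cfsg.Lie
open scoped Matrix

variable {D : ChevalleyDatum} {T : Tbl} {F : Type*} [Field F] (C : Cert D T)
include C

theorem xg_index {a b : ℕ} (ha : a < D.nroots) (hb : b < D.nroots) {t u : F} (ht : t ≠ 0)
    (h : xg C a t = xg C b u) : a = b := by
  by_contra hab
  refine ht (coroot_primitive C ha fun m hm => ?_)
  have e := congrArg (fun g : GL D.Idx F => (g : Matrix D.Idx D.Idx F) (Sum.inl ⟨m, hm⟩)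
    (Sum.inr ⟨_, C.spec.neg_lt _ ha⟩)) h
  simp only [coe_xg] at e
  rwa [x_inl_inr C.spec ha, if_pos rfl, x_inl_inr C.spec hb, if_neg fun e' => hab (by
    have := congrArg T.neg e'
    simpa [C.spec.neg_neg _ ha, C.spec.neg_neg _ hb] using this)] at e

theorem wnu_reverse_mul {w : List ℕ} (hw : IsWord D w) :
    wnu C F w.reverse * wnu C F w ∈ D.diagonalSubgroup F := by
  induction w with
  | nil => simp [wnu]
  | cons i w ih =>
    have e : wnu C F (i :: w).reverse * wnu C F (i :: w) =
        (wnu C F w.reverse * wnu C F w) * ((wnu C F w)⁻¹ * (nu C i * nu C i) * wnu C F w) := by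
      simp only [List.reverse_cons, wnu_append, wnu_cons, show wnu C F ([] : List ℕ) = 1 from List.prod_nil, mul_one]
      group
    rw [e, nu_sq C hw.tail.1]
    exact mul_mem (ih hw.tail.2) (conj_mem_diag C (wnu_mem C hw.tail.2)
      (hg_mem C (C.spec.simp_lt i hw.tail.1) (neg_ne_zero.2 one_ne_zero))).2

/-- The class of a word modulo the torus determines its permutation. -/
theorem perm_of_same {v w : List ℕ} (hv : IsWord D v) (hw : IsWord D w)
    (h : (wnu C F v)⁻¹ * wnu C F w ∈ D.diagonalSubgroup F) {s : ℕ} (hs : s < D.nroots) :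
    wperm T v s = wperm T w s := by
  obtain ⟨χ, hχ⟩ := diag_conj_xg C h
  obtain ⟨c, hc, hct⟩ := wnu_conj_xg C (F := F) hv hs
  obtain ⟨c', hc', hct'⟩ := wnu_conj_xg C (F := F) hw hs
  have e : wnu C F w * xg C s (1 : F) * (wnu C F w)⁻¹ =
      wnu C F v * ((wnu C F v)⁻¹ * wnu C F w * xg C s 1 * ((wnu C F v)⁻¹ * wnu C F w)⁻¹) * (wnu C F v)⁻¹ := by group
  rw [hct', (hχ s hs).2, hct, mul_one] at e
  exact (xg_index C (wperm_lt C hw hs) (wperm_lt C hv hs) (left_ne_zero_of_mul (by rw [hc']; exact one_ne_zero)) e).symm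

variable (K : FullCert D T)
include K

/-- Words with the same images of the fundamental roots agree modulo the torus. -/
theorem same_of_perm {v w : List ℕ} (hv : IsWord D v) (hw : IsWord D w)
    (h : ∀ k < D.rank, wperm T v (T.simp' k) = wperm T w (T.simp' k)) :
    (wnu C F v)⁻¹ * wnu C F w ∈ D.diagonalSubgroup F := by
  have hu : wnu C F (v.reverse ++ w) ∈ D.diagonalSubgroup F :=
    word_kernel C K _ rfl (hv.reverse.append hw) fun k hk => by
      rw [wperm_append, ← h k hk, wperm_reverse C hv (C.spec.simp_lt k hk)]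
      exact K.simple_pos hk
  rw [wnu_append] at hu
  have : (wnu C F v)⁻¹ * wnu C F w =
      (wnu C F v.reverse * wnu C F v)⁻¹ * (wnu C F v.reverse * wnu C F w) := by group
  rw [this]
  exact mul_mem (inv_mem (wnu_reverse_mul C hv)) hu

/-- The roots of index at least `k` whose sign is changed or kept by a word. -/
noncomputable def signPart (_C : Cert D T) (_K : FullCert D T) (F : Type*) [Field F] (w : List ℕ) (neg : Bool)
    (k : ℕ) : Subgroup (GL D.Idx F) :=
  Subgroup.closure {g | ∃ (r : ℕ) (t : F), k ≤ r ∧ r < D.nroots ∧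
    decide (2 * wperm T w r < D.nroots) = neg ∧ g = xg _C r t}

theorem xg_mem_signPart {w : List ℕ} {neg : Bool} {k r : ℕ} (h1 : k ≤ r) (h2 : r < D.nroots)
    (h3 : decide (2 * wperm T w r < D.nroots) = neg) (t : F) : xg C r t ∈ signPart C K F w neg k :=
  Subgroup.subset_closure ⟨r, t, h1, h2, h3, rfl⟩

theorem signPart_le_upper (w : List ℕ) (neg : Bool) (k : ℕ) : signPart C K F w neg k ≤ upper C F k :=
  (Subgroup.closure_le _).2 fun _ ⟨_, t, h1, _, _, e⟩ => e ▸ xg_mem_upper C h1 t

theorem signPart_anti (w : List ℕ) (neg : Bool) {k l : ℕ} (h : k ≤ l) :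
    signPart C K F w neg l ≤ signPart C K F w neg k :=
  (Subgroup.closure_le _).2 fun _ ⟨_, t, h1, h2, h3, e⟩ => e ▸ xg_mem_signPart C K (h.trans h1) h2 h3 t

theorem signPart_conj {w : List ℕ} (hw : IsWord D w) {k : ℕ} {g : GL D.Idx F} :
    (g ∈ signPart C K F w true k → wnu C F w * g * (wnu C F w)⁻¹ ∈ D.negUnipotent F) ∧
      (g ∈ signPart C K F w false k → wnu C F w * g * (wnu C F w)⁻¹ ∈ D.posUnipotent F) := by
  constructor <;> intro hg <;>
  · induction hg using Subgroup.closure_induction with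
    | mem x hx =>
      obtain ⟨r, t, -, h2, h3, rfl⟩ := hx
      obtain ⟨c, -, hct⟩ := wnu_conj_xg C (F := F) hw h2
      rw [hct]
      first
        | exact xg_mem_neg C (wperm_lt C hw h2) (of_decide_eq_true h3) _
        | exact xg_mem_pos C (wperm_lt C hw h2) (by have := of_decide_eq_false h3; omega) _
    | one => simp
    | mul a b _ _ ha hb => simpa [mul_assoc] using mul_mem ha hb
    | inv a _ ha => simpa [mul_assoc] using inv_mem ha

theorem upper_split (w : List ℕ) (m : ℕ) : ∀ {k : ℕ}, D.nroots ≤ 2 * k → k + m = D.nroots →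
    ∀ {g : GL D.Idx F}, g ∈ upper C F k →
      ∃ a ∈ signPart C K F w false k, ∃ c ∈ signPart C K F w true k, g = a * c := by
  induction m with
  | zero =>
    intro k _ hkm g hg
    rw [upper_top C (by omega), Subgroup.mem_bot] at hg
    exact ⟨1, one_mem _, 1, one_mem _, by rw [hg, one_mul]⟩
  | succ m ih =>
    intro k hk hkm g hg
    obtain ⟨t, b, hb, rfl⟩ := (upper_step C K.comm hk).1 hg
    obtain ⟨a, ha, c, hc, rfl⟩ := ih (k := k + 1) (by omega) (by omega) hb
    by_cases hneg : 2 * wperm T w k < D.nroots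
    · have hx := conj_upper' C K.comm hk t (signPart_le_upper C K w false (k + 1) ha)
      obtain ⟨a', ha', c', hc', e⟩ := ih (k := k + 1) (by omega) (by omega) hx
      refine ⟨a', signPart_anti C K w false (Nat.le_succ k) ha', c' * xg C k t * c,
        mul_mem (mul_mem (signPart_anti C K w true (Nat.le_succ k) hc')
          (xg_mem_signPart C K le_rfl (by omega) (by simp [hneg]) t))
          (signPart_anti C K w true (Nat.le_succ k) hc), ?_⟩
      rw [← mul_assoc a', ← mul_assoc a', ← e]
      group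
    · exact ⟨xg C k t * a, mul_mem (xg_mem_signPart C K le_rfl (by omega) (by simp [hneg]) t)
        (signPart_anti C K w false (Nat.le_succ k) ha), c, signPart_anti C K w true (Nat.le_succ k) hc,
        by rw [mul_assoc]⟩

theorem signPart_inter {w : List ℕ} (hw : IsWord D w) {k : ℕ} {g : GL D.Idx F}
    (h1 : g ∈ signPart C K F w false k) (h2 : wnu C F w * g * (wnu C F w)⁻¹ ∈ D.negUnipotent F) : g = 1 := by
  have := (Subgroup.eq_bot_iff_forall _).1 (borel_inf_neg C) _
    ⟨Subgroup.mem_sup_left ((signPart_conj C K hw).2 h1), h2⟩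
  simpa using this

/-- The negative part is the part of `upper` that a word moves into `V`. -/
theorem mem_signPart_true {w : List ℕ} (hw : IsWord D w) {k : ℕ} (hk : D.nroots ≤ 2 * k) (hkn : k ≤ D.nroots)
    {g : GL D.Idx F} : g ∈ signPart C K F w true k ↔
      g ∈ upper C F k ∧ wnu C F w * g * (wnu C F w)⁻¹ ∈ D.negUnipotent F := by
  refine ⟨fun h => ⟨signPart_le_upper C K w true k h, (signPart_conj C K hw).1 h⟩, fun ⟨h1, h2⟩ => ?_⟩
  obtain ⟨a, ha, c, hc, rfl⟩ := upper_split C K w (D.nroots - k) hk (by omega) h1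
  have : a = 1 := signPart_inter C K hw ha (by
    have h3 := mul_mem h2 (inv_mem ((signPart_conj C K hw).1 hc))
    simpa [mul_assoc] using h3)
  rw [this, one_mul]; exact hc

theorem card_signPart [Finite F] {w : List ℕ} (hw : IsWord D w) (m : ℕ) : ∀ {k : ℕ}, D.nroots ≤ 2 * k →
    k + m = D.nroots → Nat.card ↥(signPart C K F w true k) =
      Nat.card F ^ ((List.range' k m).filter fun r => decide (2 * wperm T w r < D.nroots)).length := by
  induction m with
  | zero =>
    intro k _ hkm
    have : signPart C K F w true k = ⊥ := le_bot_iff.1 ((signPart_le_upper C K w true k).trans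
      (upper_top C (by omega)).le)
    simp [this]
  | succ m ih =>
    intro k hk hkm
    have ih' := ih (k := k + 1) (by omega) (by omega)
    rw [List.range'_succ]
    by_cases hneg : 2 * wperm T w k < D.nroots
    · rw [List.filter_cons_of_pos (by simp [hneg]), List.length_cons, pow_succ, ← ih', ← Nat.card_prod]
      refine (Nat.card_eq_of_bijective (fun p : ↥(signPart C K F w true (k + 1)) × F =>
        (⟨xg C k p.2 * (p.1 : GL D.Idx F), mul_mem (xg_mem_signPart C K le_rfl (by omega) (by simp [hneg]) _)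
          (signPart_anti C K w true (Nat.le_succ k) p.1.2)⟩ : ↥(signPart C K F w true k))) ⟨?_, ?_⟩).symm
      · rintro ⟨a, t⟩ ⟨b, u⟩ e
        obtain ⟨h1, h2⟩ := upper_unique C hk (by omega) (signPart_le_upper C K w true (k + 1) a.2)
          (signPart_le_upper C K w true (k + 1) b.2) (congrArg Subtype.val e)
        exact Prod.ext (Subtype.ext h2) h1
      · intro g
        obtain ⟨h1, h2⟩ := (mem_signPart_true C K hw hk (by omega)).1 g.2
        obtain ⟨t, b, hb, e⟩ := (upper_step C K.comm hk).1 h1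
        have hb' : b ∈ signPart C K F w true (k + 1) := (mem_signPart_true C K hw (by omega) (by omega)).2
          ⟨hb, by
            have h3 := (signPart_conj C K hw (k := k)).1
              (mul_mem (xg_mem_signPart C K le_rfl (by omega) (by simp [hneg]) (-t)) g.2)
            rw [e, ← mul_assoc (xg C k (-t)), xg_add, neg_add_cancel, xg_zero, one_mul] at h3
            exact h3⟩
        exact ⟨(⟨b, hb'⟩, t), Subtype.ext e.symm⟩
    · rw [List.filter_cons_of_neg (by simp [hneg]), ← ih']
      refine congrArg (fun S : Subgroup (GL D.Idx F) => Nat.card ↥S)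
        (le_antisymm (fun g hg => ?_) (signPart_anti C K w true (Nat.le_succ k)))
      obtain ⟨h1, h2⟩ := (mem_signPart_true C K hw hk (by omega)).1 hg
      obtain ⟨t, b, hb, rfl⟩ := (upper_step C K.comm hk).1 h1
      obtain ⟨a, ha, c, hc, rfl⟩ := upper_split C K w m (k := k + 1) (by omega) (by omega) hb
      have hxa : xg C k t * a = 1 := signPart_inter C K hw (k := k)
        (mul_mem (xg_mem_signPart C K le_rfl (by omega) (by simp [hneg]) t)
          (signPart_anti C K w false (Nat.le_succ k) ha)) (by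
        have h3 := mul_mem h2 (inv_mem ((signPart_conj C K hw).1 hc))
        simpa [mul_assoc] using h3)
      rw [← mul_assoc, hxa, one_mul]
      exact hc

/-- Bruhat normal form. -/
theorem bruhat_normal {g : GL D.Idx F} (hg' : g ∈ D.group F) :
    ∃ w, IsWord D w ∧ ∃ b ∈ D.borelSubgroup F, ∃ c ∈ signPart C K F w true (D.nroots / 2),
      g = b * wnu C F w * c := by
  obtain ⟨u, hu, n, hn, v, hv, rfl⟩ := bruhat C K hg'
  obtain ⟨w, hw, d, hd, rfl⟩ := (mem_monomial C).1 hn
  refine ⟨w, hw, ?_⟩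
  have hd' : wnu C F w * d * (wnu C F w)⁻¹ ∈ D.borelSubgroup F :=
    Subgroup.mem_sup_right (conj_mem_diag C (wnu_mem C hw) hd).1
  have hev := nroots_even C
  rw [posUnipotent_eq C] at hv
  obtain ⟨a, ha, c, hc, rfl⟩ := upper_split C K w (D.nroots / 2) (k := D.nroots / 2) (by omega) (by omega) hv
  refine ⟨u * (wnu C F w * d * (wnu C F w)⁻¹) * (wnu C F w * a * (wnu C F w)⁻¹),
    mul_mem (mul_mem (Subgroup.mem_sup_left hu) hd') (Subgroup.mem_sup_left ((signPart_conj C K hw).2 ha)),
    c, hc, by group⟩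

omit K in
theorem cell_unique {b b' n u u' : GL D.Idx F} (hb : b ∈ D.borelSubgroup F) (hb' : b' ∈ D.borelSubgroup F)
    (h : n * (u' * u⁻¹) * n⁻¹ ∈ D.negUnipotent F) (e : b * n * u = b' * n * u') : b = b' ∧ u = u' := by
  have e1 : b'⁻¹ * b = n * (u' * u⁻¹) * n⁻¹ := by
    calc b'⁻¹ * b = b'⁻¹ * (b * n * u) * u⁻¹ * n⁻¹ := by group
      _ = _ := by rw [e]; group
  have h1 : b'⁻¹ * b = 1 := (Subgroup.eq_bot_iff_forall _).1 (borel_inf_neg C) _
    ⟨Subgroup.mul_mem _ (Subgroup.inv_mem _ hb') hb, e1 ▸ h⟩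
  obtain rfl : b = b' := (inv_mul_eq_one.1 h1).symm
  exact ⟨rfl, mul_left_cancel e⟩

theorem cells_disjoint {b b' n n' u u' : GL D.Idx F} (hb : b ∈ D.borelSubgroup F) (hb' : b' ∈ D.borelSubgroup F)
    (hn : n ∈ D.monomialSubgroup F) (hn' : n' ∈ D.monomialSubgroup F) (hu : u ∈ D.borelSubgroup F)
    (hu' : u' ∈ D.borelSubgroup F) (e : b * n * u = b' * n' * u') : n⁻¹ * n' ∈ D.diagonalSubgroup F := by
  let P := bnPair C K F
  let mk : ∀ x, x ∈ D.group F → ↥(D.group F) := fun x hx => ⟨x, hx⟩
  have hmem : mk _ (mul_mem (mul_mem (borel_le_group C hb) (monomial_le_group C hn)) (borel_le_group C hu)) ∈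
      Cfsg.Lib.Linear.BN.cell P (mk n (monomial_le_group C hn)) :=
    Cfsg.Lib.Linear.BN.mem_cell.2 ⟨mk b (borel_le_group C hb), hb, mk u (borel_le_group C hu), hu, Subtype.ext rfl⟩
  have hmem' : mk _ (mul_mem (mul_mem (borel_le_group C hb) (monomial_le_group C hn)) (borel_le_group C hu)) ∈
      Cfsg.Lib.Linear.BN.cell P (mk n' (monomial_le_group C hn')) :=
    Cfsg.Lib.Linear.BN.mem_cell.2 ⟨mk b' (borel_le_group C hb'), hb', mk u' (borel_le_group C hu'), hu', Subtype.ext e⟩
  have := Cfsg.Lib.Linear.BN.same_of_cell_eq (P := P) (n := mk n (monomial_le_group C hn))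
    (n' := mk n' (monomial_le_group C hn')) hn hn'
    ((Cfsg.Lib.Linear.BN.cell_eq_of_mem hmem).symm.trans (Cfsg.Lib.Linear.BN.cell_eq_of_mem hmem'))
  rw [← borel_inf_monomial C]
  exact this

theorem signPart_le_borel (w : List ℕ) (neg : Bool) :
    signPart C K F w neg (D.nroots / 2) ≤ D.borelSubgroup F :=
  le_sup_of_le_left ((signPart_le_upper C K w neg _).trans (posUnipotent_eq C).ge)

end Cfsg.Lib.Chev
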