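import Mathlib
import Cfsg.Agent.Lib.Chev.NormalForm

/-!
The Weyl group as words modulo permutations of the roots: coset representatives along a chain of
parabolic subgroups, completeness, irredundancy and the length generating function.
-/

set_option autoImplicit false

namespace Cfsg.Lib.Chev

open Cfsg.Lie

/-- A coset representative: parent, word, images of the fundamental roots. -/
abbrev WRep : Type := ℕ × List ℕ × List ℕ

/-- A level of the chain: representatives and the table of left multiplication. -/
abbrev WLevel : Type := List WRep × List (List ℕ)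

/-- List access. -/
noncomputable def nth {α : Type} (d : α) (l : List α) : ℕ → α :=
  List.rec (motive := fun _ => ℕ → α) (fun _ => d) (fun x _ r k => Nat.rec x (fun j _ => r j) k) l

theorem nth_eq {α : Type} (d : α) : ∀ (l : List α) (k : ℕ), nth d l k = l.getD k d
  | [], k => by simp [nth]
  | x :: l, 0 => rfl
  | x :: l, k + 1 => by
    show nth d l k = _
    rw [nth_eq d l k]; simp

/-- Equality of lists of numbers. -/
noncomputable def eqNats (l m : List ℕ) : Bool :=
  List.rec (motive := fun _ => List ℕ → Bool)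
    (fun m => List.rec true (fun _ _ _ => false) m)
    (fun x _ r m => List.rec false (fun y m' _ => Nat.beq x y && r m') m) l m

theorem eqNats_iff : ∀ (l m : List ℕ), eqNats l m = true → l = m
  | [], [], _ => rfl
  | [], _ :: _, h => absurd h Bool.false_ne_true
  | _ :: _, [], h => absurd h Bool.false_ne_true
  | x :: l, y :: m, h => by
    change (Nat.beq x y && eqNats l m) = true at h
    simp only [Bool.and_eq_true, Nat.beq_eq] at h
    rw [eqNats_iff l m h.2, h.1]

/-- The representative with index `a`. -/
noncomputable def getRep (L : WLevel) (a : ℕ) : WRep := nth (0, [], []) L.1 a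

theorem getRep_eq {L : WLevel} {a : ℕ} (ha : a < L.1.length) : getRep L a = L.1[a] := by
  rw [getRep, nth_eq, List.getD_eq_getElem _ _ ha]

/-- The check of one representative. -/
noncomputable def chkRep (T : Tbl) (L : WLevel) (m a : ℕ) : Bool :=
  let R := getRep L a
  let P := getRep L R.1
  allBelow (fun k => Nat.blt k m |> fun b => !b || Nat.ble T.nroots (2 * nth 0 R.2.2 k)) T.rank &&
    (bif Nat.beq a 0 then eqNats R.2.1 [] && allBelow (fun k => Nat.beq (nth 0 R.2.2 k) (T.simp' k)) T.rank
    else List.rec (motive := fun _ => Bool) false (fun i w _ => Nat.ble i m && (Nat.blt R.1 a && (eqNats w P.2.1 &&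
      (allBelow (fun k => Nat.beq (nth 0 R.2.2 k) (T.refl' i (nth 0 P.2.2 k))) T.rank &&
        Nat.ble T.nroots (2 * wperm T w.reverse (T.simp' i)))))) R.2.1)

/-- The check of the multiplication table. -/
noncomputable def chkNext (T : Tbl) (L : WLevel) (m a : ℕ) : Bool :=
  let R := getRep L a
  let row := nth [] L.2 a
  allBelow (fun j =>
    let c := nth 0 row j
    bif Nat.blt c L.1.length then allBelow (fun k => Nat.beq (T.refl' j (nth 0 R.2.2 k)) (nth 0 (getRep L c).2.2 k)) T.rank
    else Nat.blt (c - L.1.length) m && Nat.beq (nth 0 R.2.2 (c - L.1.length)) (T.simp' j)) (m + 1)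

/-- Distinct representatives have distinct images. -/
noncomputable def chkDistinct (T : Tbl) (L : WLevel) : Bool :=
  let key := L.1.map fun R => ((List.range T.rank).map fun k => nth 0 R.2.2 k).foldl (fun z x => z * 256 + x) 0
  allBelow (fun a => allBelow (fun b => !Nat.beq (nth 0 key a) (nth 0 key b)) a) L.1.length

/-- The check of a level. -/
noncomputable def chkLevel (T : Tbl) (L : WLevel) (m : ℕ) : Bool :=
  (Nat.blt 0 L.1.length && chkDistinct T L) && allBelow (fun a => chkRep T L m a && chkNext T L m a) L.1.length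

/-- The check of a chain. -/
noncomputable def chkWeyl (T : Tbl) (Ls : List WLevel) : Bool :=
  allBelow (fun m => chkLevel T (nth ([], []) Ls m) m) T.rank

/-- All words produced by a chain. -/
def allW (L : ℕ → WLevel) : ℕ → List (List ℕ)
  | 0 => [[]]
  | m + 1 => ((L m).1.map fun R => R.2.1).flatMap fun d => (allW L m).map (d ++ ·)

/-- The words in the first `m` reflections. -/
def Below (m : ℕ) (w : List ℕ) : Prop := ∀ i ∈ w, i < m

variable {D : ChevalleyDatum} {T : Tbl}

/-- Two words act in the same way. -/
def SamePerm (D : ChevalleyDatum) (T : Tbl) (v w : List ℕ) : Prop := ∀ s < D.nroots, wperm T v s = wperm T w s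

theorem SamePerm.rfl' {w : List ℕ} : SamePerm D T w w := fun _ _ => rfl

theorem SamePerm.symm {v w : List ℕ} (h : SamePerm D T v w) : SamePerm D T w v := fun s hs => (h s hs).symm

theorem SamePerm.trans {u v w : List ℕ} (h : SamePerm D T u v) (h' : SamePerm D T v w) : SamePerm D T u w :=
  fun s hs => (h s hs).trans (h' s hs)

/-- The positive roots made negative. -/
noncomputable def negSet (D : ChevalleyDatum) (T : Tbl) (w : List ℕ) : Finset ℕ :=
  (Finset.range D.nroots).filter fun s => D.nroots ≤ 2 * s ∧ 2 * wperm T w s < D.nroots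

theorem mem_negSet {w : List ℕ} {s : ℕ} :
    s ∈ negSet D T w ↔ s < D.nroots ∧ D.nroots ≤ 2 * s ∧ 2 * wperm T w s < D.nroots := by simp [negSet]

theorem negSet_congr {v w : List ℕ} (h : SamePerm D T v w) : negSet D T v = negSet D T w :=
  Finset.filter_congr fun s hs => by rw [h s (Finset.mem_range.1 hs)]

theorem Below.isWord {m : ℕ} (hm : m ≤ D.rank) {w : List ℕ} (h : Below m w) : IsWord D w :=
  fun i hi => (h i hi).trans_le hm

theorem Below.mono {m m' : ℕ} (hm : m ≤ m') {w : List ℕ} (h : Below m w) : Below m' w :=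
  fun i hi => (h i hi).trans_le hm

theorem Below.append {m : ℕ} {v w : List ℕ} (hv : Below m v) (hw : Below m w) : Below m (v ++ w) :=
  fun i hi => (List.mem_append.1 hi).elim (hv i) (hw i)

theorem SamePerm.append_left (C : Cert D T) {u v w : List ℕ} (hv : IsWord D v) (h : SamePerm D T v w) :
    SamePerm D T (u ++ v) (u ++ w) := fun s hs => by
  rw [wperm_append, wperm_append, h s hs]

theorem SamePerm.append_right (C : Cert D T) {u v w : List ℕ} (hu : IsWord D u) (h : SamePerm D T v w) :
    SamePerm D T (v ++ u) (w ++ u) := fun s hs => by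
  rw [wperm_append, wperm_append, h _ (wperm_lt C hu hs)]

variable (C : Cert D T) (K : FullCert D T)
include C K

theorem samePerm_of_simple {v w : List ℕ} (hv : IsWord D v) (hw : IsWord D w)
    (h : ∀ k < D.rank, wperm T v (T.simp' k) = wperm T w (T.simp' k)) : SamePerm D T v w :=
  fun _ hs => perm_of_same C (F := ℚ) hv hw (same_of_perm C K hv hw h) hs

/-- A reflection conjugate. -/
theorem samePerm_conj {d : List ℕ} {i j : ℕ} (hd : IsWord D d) (hi : i < D.rank) (hj : j < D.rank)
    (h : wperm T d (T.simp' i) = T.simp' j) : SamePerm D T (j :: d) (d ++ [i]) := by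
  have hdi : IsWord D (d ++ [i]) := hd.append (IsWord.cons hi fun k hk => absurd hk List.not_mem_nil)
  intro s hs
  refine (perm_of_same C (F := ℚ) hdi (hd.cons hj) ?_ hs).symm
  obtain ⟨u, hu, e⟩ := wnu_conj_ng C (F := ℚ) hd (C.spec.simp_lt i hi) 1 one_ne_zero
  rw [h, ng_eq C (C.spec.simp_lt j hj)] at e
  change wnu C ℚ d * nu C i * (wnu C ℚ d)⁻¹ = hg C (T.simp' j) u * nu C j at e
  have e2 : wnu C ℚ (j :: d) = (hg C (T.simp' j) u)⁻¹ * wnu C ℚ (d ++ [i]) := by
    rw [wnu_cons, wnu_append, show wnu C ℚ [i] = nu C i by simp [wnu],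
      show wnu C ℚ d * nu C i = (wnu C ℚ d * nu C i * (wnu C ℚ d)⁻¹) * wnu C ℚ d by group, e]
    group
  rw [e2, ← mul_assoc]
  exact (conj_mem_diag C (wnu_mem C hdi) (inv_mem (hg_mem C (C.spec.simp_lt j hj) hu))).2

theorem negSet_cons {i : ℕ} {w : List ℕ} (hw : IsWord D (i :: w))
    (h : D.nroots ≤ 2 * wperm T w.reverse (T.simp' i)) :
    (negSet D T (i :: w)).card = (negSet D T w).card + 1 := by
  have hi := hw.tail.1
  have hp := C.spec.simp_lt i hi
  have hwr : wperm T w (wperm T w.reverse (T.simp' i)) = T.simp' i := by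
    have := wperm_reverse C hw.tail.2.reverse hp
    rwa [List.reverse_reverse] at this
  have hne : wperm T w.reverse (T.simp' i) ∉ negSet D T w := by
    rw [mem_negSet, hwr]
    have := K.simple_pos hi
    omega
  rw [← Finset.card_insert_of_notMem hne]
  congr 1
  ext s
  rw [Finset.mem_insert, mem_negSet, mem_negSet]
  show (s < D.nroots ∧ D.nroots ≤ 2 * s ∧ 2 * T.refl' i (wperm T w s) < D.nroots) ↔ _
  constructor
  · rintro ⟨hs, hsp, hneg⟩
    by_cases hneg' : 2 * wperm T w s < D.nroots
    · exact Or.inr ⟨hs, hsp, hneg'⟩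
    · refine Or.inl ?_
      have hws : wperm T w s = T.simp' i := by
        by_contra hne'
        have := K.refl_pos hi (wperm_lt C hw.tail.2 hs) (by omega) hne'
        omega
      exact wperm_inj C hw.tail.2 hs (wperm_lt C hw.tail.2.reverse hp) (hws.trans hwr.symm)
  · rintro (rfl | ⟨hs, hsp, hneg⟩)
    · refine ⟨wperm_lt C hw.tail.2.reverse hp, h, ?_⟩
      rw [hwr, C.spec.refl_simple i hi, C.neg_eq hp]
      have := K.simple_pos hi
      omega
    · refine ⟨hs, hsp, ?_⟩
      have hws := wperm_lt C hw.tail.2 hs
      have h2 : wperm T w s ≠ T.neg (T.simp' i) := by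
        intro e
        rw [← hwr, ← wperm_neg C hw.tail.2 (wperm_lt C hw.tail.2.reverse hp)] at e
        have e' := wperm_inj C hw.tail.2 hs (C.spec.neg_lt _ (wperm_lt C hw.tail.2.reverse hp)) e
        rw [e', K.neg_pos_iff (wperm_lt C hw.tail.2.reverse hp)] at hsp
        omega
      have h1 : wperm T w s ≠ T.simp' i := fun e => by
        have := K.simple_pos hi; omega
      have := (K.refl_pos_iff hi hws h1 h2).not
      omega

omit K in
theorem below_inRootSub {m : ℕ} (hm : m ≤ D.rank) {u : List ℕ} (hu : Below m u) {s : ℕ}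
    (hs : D.InRootSub {k | k < m} s) : D.InRootSub {k | k < m} (wperm T u s) := by
  induction u with
  | nil => exact hs
  | cons i u ih =>
    exact inRootSub_refl C ((hu i (List.mem_cons_self ..)).trans_le hm) (hu i (List.mem_cons_self ..))
      (ih fun j hj => hu j (List.mem_cons_of_mem _ hj))

theorem below_outside {m : ℕ} (hm : m ≤ D.rank) {u : List ℕ} (hu : Below m u) {s : ℕ} (hs : s < D.nroots)
    (hn : ¬ D.InRootSub {k | k < m} s) :
    ¬ D.InRootSub {k | k < m} (wperm T u s) ∧ (D.nroots ≤ 2 * s → D.nroots ≤ 2 * wperm T u s) := by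
  induction u with
  | nil => exact ⟨hn, id⟩
  | cons i u ih =>
    have hi : i < m := hu i (List.mem_cons_self ..)
    have hir := hi.trans_le hm
    have hu' : Below m u := fun j hj => hu j (List.mem_cons_of_mem _ hj)
    obtain ⟨h1, h2⟩ := ih hu'
    have hws := wperm_lt C (hu'.isWord hm) hs
    exact ⟨pos_refl_outside C hir hi hws h1, fun hp => K.refl_pos hir hws (h2 hp) fun e =>
      h1 (by rw [show wperm T u s = T.simp' i from e]; exact inRootSub_simple C hir hi)⟩

/-- Additivity of lengths. -/
theorem negSet_append {m : ℕ} (hm : m ≤ D.rank) {d u : List ℕ} (hd : IsWord D d) (hu : Below m u)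
    (hpos : ∀ k < m, D.nroots ≤ 2 * wperm T d (T.simp' k)) :
    (negSet D T (d ++ u)).card = (negSet D T d).card + (negSet D T u).card := by
  classical
  have huw := hu.isWord hm
  have hJpos : ∀ s, D.InRootSub {k | k < m} s → D.nroots ≤ 2 * s → D.nroots ≤ 2 * wperm T d s := by
    intro s hs hp
    refine pos_of_forall C (wperm_lt C hd hs.1) fun q hq => ?_
    rw [coroot_wperm C hd hs.1 q hq]
    refine Finset.sum_nonneg fun k hk => ?_
    rw [Finset.mem_range] at hk
    by_cases hkm : k < m
    · exact mul_nonneg (coroot_nonneg C hs.1 hp hk)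
        (coroot_nonneg C (wperm_lt C hd (C.spec.simp_lt k hk)) (hpos k hkm) hq)
    · rw [((inRootSub_iff C).1 hs).2 k hk hkm, zero_mul]
  have hJneg : ∀ s, D.InRootSub {k | k < m} s →
      (2 * wperm T d s < D.nroots ↔ 2 * s < D.nroots) := by
    intro s hs
    refine ⟨fun h => ?_, fun h => ?_⟩
    · by_contra hn
      have := hJpos s hs (by omega); omega
    · have h' := hJpos _ (inRootSub_neg C hs) ((K.neg_pos_iff hs.1).2 h)
      rw [wperm_neg C hd hs.1, K.neg_pos_iff (wperm_lt C hd hs.1)] at h'
      exact h'
  have hdec : negSet D T (d ++ u) = negSet D T u ∪ (negSet D T d).image (wperm T u.reverse) := by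
    ext s
    rw [Finset.mem_union, Finset.mem_image, mem_negSet, mem_negSet, wperm_append]
    constructor
    · rintro ⟨hs, hsp, hneg⟩
      by_cases hJ : D.InRootSub {k | k < m} s
      · exact Or.inl ⟨hs, hsp, (hJneg _ (below_inRootSub C hm hu hJ)).1 hneg⟩
      · exact Or.inr ⟨wperm T u s, mem_negSet.2 ⟨wperm_lt C huw hs, (below_outside C K hm hu hs hJ).2 hsp, hneg⟩,
          wperm_reverse C huw hs⟩
    · rintro (⟨hs, hsp, hneg⟩ | ⟨t, ht, rfl⟩)
      · have hJ : D.InRootSub {k | k < m} s := by
          by_contra hJ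
          have := (below_outside C K hm hu hs hJ).2 hsp
          omega
        exact ⟨hs, hsp, (hJneg _ (below_inRootSub C hm hu hJ)).2 hneg⟩
      · obtain ⟨ht1, ht2, ht3⟩ := mem_negSet.1 ht
        have hnJ : ¬ D.InRootSub {k | k < m} t := fun h => by
          have := (hJneg t h).1 ht3; omega
        have hu' : Below m u.reverse := fun i hi => hu i (List.mem_reverse.1 hi)
        refine ⟨wperm_lt C huw.reverse ht1, (below_outside C K hm hu' ht1 hnJ).2 ht2, ?_⟩
        have := wperm_reverse C huw.reverse ht1
        rw [List.reverse_reverse] at this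
        rwa [this]
  rw [hdec, Finset.card_union_of_disjoint, Finset.card_image_of_injOn, add_comm]
  · intro a ha b hb e
    exact wperm_inj C huw.reverse (mem_negSet.1 ha).1 (mem_negSet.1 hb).1 e
  · rw [Finset.disjoint_left]
    intro s hs hs'
    obtain ⟨t, ht, rfl⟩ := Finset.mem_image.1 hs'
    obtain ⟨ht1, ht2, ht3⟩ := mem_negSet.1 ht
    have hh := (mem_negSet.1 hs).2.2
    have := wperm_reverse C huw.reverse ht1
    rw [List.reverse_reverse] at this
    rw [this] at hh
    omega

section Chain

variable {Ls : List WLevel} (hW : chkWeyl T Ls = true)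
include hW

theorem rep_spec {m : ℕ} (hm : m < D.rank) : ∀ a < (nth ([], []) Ls m).1.length,
    Below (m + 1) (getRep (nth ([], []) Ls m) a).2.1 ∧
    (∀ k < D.rank, nth 0 (getRep (nth ([], []) Ls m) a).2.2 k = wperm T (getRep (nth ([], []) Ls m) a).2.1 (T.simp' k)) ∧
    (negSet D T (getRep (nth ([], []) Ls m) a).2.1).card = (getRep (nth ([], []) Ls m) a).2.1.length ∧
    ∀ k < m, D.nroots ≤ 2 * wperm T (getRep (nth ([], []) Ls m) a).2.1 (T.simp' k) := by
  have h := allBelow_iff.1 hW m (C.spec.shape.rank_eq ▸ hm)
  simp only [chkLevel, Bool.and_eq_true, allBelow_iff] at h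
  generalize nth ([], []) Ls m = L at h
  intro a
  induction a using Nat.strong_induction_on with
  | _ a ih =>
    intro ha
    have hr := (h.2 a ha).1
    simp only [chkRep, Bool.and_eq_true, allBelow_iff, C.spec.shape.rank_eq, Bool.or_eq_true,
      Bool.not_eq_true', Nat.ble_eq, C.spec.shape.nroots_eq] at hr
    obtain ⟨hpos, hr⟩ := hr
    suffices h3 : Below (m + 1) (getRep L a).2.1 ∧
        (∀ k < D.rank, nth 0 (getRep L a).2.2 k = wperm T (getRep L a).2.1 (T.simp' k)) ∧
        (negSet D T (getRep L a).2.1).card = (getRep L a).2.1.length by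
      refine ⟨h3.1, h3.2.1, h3.2.2, fun k hk => ?_⟩
      rw [← h3.2.1 k (hk.trans hm)]
      refine (hpos k (hk.trans hm)).resolve_left fun e => ?_
      have hb : Nat.blt k m = true := by rw [Nat.blt_eq]; exact hk
      rw [hb] at e
      exact Bool.noConfusion e
    by_cases ha0 : a = 0
    · subst ha0
      simp only [Nat.beq_refl, cond_true, Bool.and_eq_true, allBelow_iff, Nat.beq_eq] at hr
      obtain ⟨h1, h2⟩ := hr
      rw [eqNats_iff _ _ h1]
      refine ⟨fun i hi => absurd hi List.not_mem_nil, fun k hk => h2 k hk, ?_⟩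
      rw [List.length_nil, Finset.card_eq_zero, Finset.eq_empty_iff_forall_notMem]
      intro s hs
      have := mem_negSet.1 hs
      simp only [wperm, List.foldr_nil] at this
      omega
    · rw [show Nat.beq a 0 = false by
        cases hb : Nat.beq a 0
        · rfl
        · exact absurd (Nat.beq_eq ▸ hb) ha0] at hr
      simp only [cond_false] at hr
      cases hwd : (getRep L a).2.1 with
      | nil => rw [hwd] at hr; exact absurd hr Bool.false_ne_true
      | cons i w =>
        rw [hwd] at hr
        simp only [Bool.and_eq_true, Nat.ble_eq, Nat.blt_eq, allBelow_iff, Nat.beq_eq] at hr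
        obtain ⟨hi, hlt, hw, himg, hp⟩ := hr
        have hir : i < D.rank := by omega
        obtain ⟨hb, hi2, hc, -⟩ := ih _ hlt (hlt.trans ha)
        rw [← eqNats_iff _ _ hw] at hb hi2 hc
        have hbw : Below (m + 1) (i :: w) := fun j hj => (List.mem_cons.1 hj).elim (fun e => by omega) (hb j)
        refine ⟨hbw, fun k hk => ?_, ?_⟩
        · rw [himg k hk, hi2 k hk]; rfl
        · rw [negSet_cons C K (hbw.isWord hm) hp, hc]; rfl

theorem allW_below : ∀ m ≤ D.rank, ∀ u ∈ allW (nth ([], []) Ls) m, Below m u := by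
  intro m
  induction m with
  | zero => intro _ u hu; simp only [allW, List.mem_singleton] at hu; subst hu; exact fun i hi => absurd hi List.not_mem_nil
  | succ m ih =>
    intro hm u hu
    simp only [allW, List.mem_flatMap, List.mem_map] at hu
    obtain ⟨d, ⟨R, hR, rfl⟩, v, hv, rfl⟩ := hu
    obtain ⟨a, ha, rfl⟩ := List.getElem_of_mem hR
    refine Below.append ?_ ((ih (by omega) v hv).mono (Nat.le_succ m))
    have := (rep_spec C K hW (by omega) a ha).1
    rwa [getRep_eq ha] at this

theorem mem_allW_succ {m : ℕ} {u : List ℕ} :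
    u ∈ allW (nth ([], []) Ls) (m + 1) ↔ ∃ a < (nth ([], []) Ls m).1.length,
      ∃ v ∈ allW (nth ([], []) Ls) m, u = (getRep (nth ([], []) Ls m) a).2.1 ++ v := by
  simp only [allW, List.mem_flatMap, List.mem_map]
  constructor
  · rintro ⟨d, ⟨R, hR, rfl⟩, v, hv, rfl⟩
    obtain ⟨a, ha, rfl⟩ := List.getElem_of_mem hR
    exact ⟨a, ha, v, hv, by rw [getRep_eq ha]⟩
  · rintro ⟨a, ha, v, hv, rfl⟩
    exact ⟨_, ⟨_, List.getElem_mem ha, rfl⟩, v, hv, by rw [getRep_eq ha]⟩

/-- Completeness. -/
theorem allW_complete : ∀ m ≤ D.rank, ∀ w, Below m w → ∃ u ∈ allW (nth ([], []) Ls) m, SamePerm D T u w := by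
  intro m
  induction m with
  | zero =>
    intro _ w hw
    rcases w with _ | ⟨i, w⟩
    · exact ⟨[], by simp [allW], SamePerm.rfl'⟩
    · exact absurd (hw i (List.mem_cons_self ..)) (Nat.not_lt_zero i)
  | succ m ih =>
    intro hm w hw
    have hm' : m < D.rank := hm
    have h := allBelow_iff.1 hW m (C.spec.shape.rank_eq ▸ hm')
    simp only [chkLevel, Bool.and_eq_true, allBelow_iff, Nat.blt_eq] at h
    obtain ⟨⟨hpos, -⟩, hnext⟩ := h
    induction w with
    | nil =>
      obtain ⟨v, hv, hv'⟩ := ih hm'.le [] (fun i hi => absurd hi List.not_mem_nil)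
      refine ⟨_, (mem_allW_succ C K hW).2 ⟨0, hpos, v, hv, rfl⟩, ?_⟩
      have h0 := (hnext 0 hpos).1
      simp only [chkRep, Bool.and_eq_true, Nat.beq_refl, cond_true] at h0
      rw [eqNats_iff _ _ h0.2.1]
      exact hv'
    | cons j w ihw =>
      have hj : j < m + 1 := hw j (List.mem_cons_self ..)
      have hjr : j < D.rank := by omega
      obtain ⟨u, hu, hu'⟩ := ihw fun i hi => hw i (List.mem_cons_of_mem _ hi)
      obtain ⟨a, ha, v, hv, rfl⟩ := (mem_allW_succ C K hW).1 hu
      obtain ⟨hb, himg, -, -⟩ := rep_spec C K hW hm' a ha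
      have hn := (hnext a ha).2
      simp only [chkNext, allBelow_iff] at hn
      have hn := hn j hj
      have hdw := hb.isWord hm
      have hvb := allW_below C K hW m hm'.le v hv
      have hstep : ∀ {x y : List ℕ}, IsWord D x → SamePerm D T (j :: (getRep (nth ([], []) Ls m) a).2.1) x →
          SamePerm D T (x ++ v) y → SamePerm D T y (j :: w) := by
        intro x y _ h1 h2
        refine h2.symm.trans ((SamePerm.append_right C (hvb.isWord hm'.le) h1.symm).trans fun s hs => ?_)
        show T.refl' j (wperm T ((getRep (nth ([], []) Ls m) a).2.1 ++ v) s) = T.refl' j (wperm T w s)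
        rw [hu' s hs]
      cases hc : Nat.blt (nth 0 (nth [] (nth ([], []) Ls m).2 a) j) (nth ([], []) Ls m).1.length
      · rw [hc] at hn
        simp only [cond_false, Bool.and_eq_true, Nat.blt_eq, Nat.beq_eq] at hn
        generalize nth 0 (nth [] (nth ([], []) Ls m).2 a) j - (nth ([], []) Ls m).1.length = i at hn
        obtain ⟨hi, e⟩ := hn
        rw [himg i (hi.trans hm')] at e
        have hiv : Below m (i :: v) := fun k hk => (List.mem_cons.1 hk).elim (fun e => e ▸ hi) (hvb k)
        obtain ⟨v', hv', hv''⟩ := ih hm'.le (i :: v) hiv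
        refine ⟨_, (mem_allW_succ C K hW).2 ⟨a, ha, v', hv', rfl⟩, ?_⟩
        refine hstep (hdw.append (IsWord.cons (hi.trans hm') fun k hk => absurd hk List.not_mem_nil))
          (samePerm_conj C K hdw (hi.trans hm') hjr e) ?_
        rw [List.append_assoc]
        exact SamePerm.append_left C (hiv.isWord hm'.le) hv''.symm
      · rw [hc] at hn
        simp only [cond_true, allBelow_iff, Nat.beq_eq, C.spec.shape.rank_eq] at hn
        rw [Nat.blt_eq] at hc
        obtain ⟨hb', himg', -, -⟩ := rep_spec C K hW hm' _ hc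
        refine ⟨_, (mem_allW_succ C K hW).2 ⟨_, hc, v, hv, rfl⟩, hstep (hb'.isWord hm) ?_ SamePerm.rfl'⟩
        refine samePerm_of_simple C K (hdw.cons hjr) (hb'.isWord hm) fun k hk => ?_
        have := hn k hk
        rw [himg k hk, himg' k hk] at this
        exact this

/-- Irredundancy. -/
theorem allW_pairwise : ∀ m ≤ D.rank, (allW (nth ([], []) Ls) m).Pairwise fun u v => ¬ SamePerm D T u v := by
  intro m
  induction m with
  | zero => intro _; simp [allW]
  | succ m ih =>
    intro hm
    have hm' : m < D.rank := hm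
    have h := allBelow_iff.1 hW m (C.spec.shape.rank_eq ▸ hm')
    simp only [chkLevel, Bool.and_eq_true, chkDistinct, allBelow_iff, Bool.not_eq_true'] at h
    obtain ⟨⟨-, hdist⟩, -⟩ := h
    rw [allW, List.pairwise_flatMap]
    refine ⟨fun d hd => ?_, ?_⟩
    · obtain ⟨R, hR, rfl⟩ := List.mem_map.1 hd
      obtain ⟨a, ha, rfl⟩ := List.getElem_of_mem hR
      have hb := (rep_spec C K hW hm' a ha).1
      rw [getRep_eq ha] at hb
      rw [List.pairwise_map]
      refine (ih hm'.le).imp_of_mem fun {u v} hu hv hne heq => hne fun s hs => ?_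
      have := heq s hs
      rw [wperm_append, wperm_append] at this
      exact wperm_inj C (hb.isWord hm) (wperm_lt C ((allW_below C K hW m hm'.le u hu).isWord hm'.le) hs)
        (wperm_lt C ((allW_below C K hW m hm'.le v hv).isWord hm'.le) hs) this
    · rw [List.pairwise_map, List.pairwise_iff_getElem]
      intro a b ha hb hab x hx y hy
      obtain ⟨u, hu, rfl⟩ := List.mem_map.1 hx
      obtain ⟨v, hv, rfl⟩ := List.mem_map.1 hy
      intro heq
      obtain ⟨hda, hia, -, hpa⟩ := rep_spec C K hW hm' a ha
      obtain ⟨hdb, hib, -, hpb⟩ := rep_spec C K hW hm' b hb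
      simp only [getRep_eq ha] at hda hia hpa
      simp only [getRep_eq hb] at hdb hib hpb
      have hub := allW_below C K hW m hm'.le u hu
      have hvb := allW_below C K hW m hm'.le v hv
      generalize hA : ((nth ([], []) Ls m).1[a]).2.1 = da at hda hia hpa heq
      generalize hB : ((nth ([], []) Ls m).1[b]).2.1 = db at hdb hib hpb heq
      have hrev : ∀ {w : List ℕ}, Below m w → Below m w.reverse := fun hw i hi => hw i (List.mem_reverse.1 hi)
      have key : ∀ {x y : List ℕ} {u v : List ℕ}, IsWord D x → IsWord D y → Below m u → Below m v →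
          (∀ k < m, D.nroots ≤ 2 * wperm T x (T.simp' k)) → SamePerm D T (x ++ u) (y ++ v) →
          SamePerm D T y (x ++ (u ++ v.reverse)) := by
        intro x y u v _ hy _ hv _ e s hs
        have h1 := e _ (wperm_lt C ((hrev hv).isWord hm'.le) hs)
        have h2 := wperm_reverse C ((hrev hv).isWord hm'.le) hs
        rw [List.reverse_reverse] at h2
        rw [wperm_append, wperm_append] at h1
        rw [wperm_append, wperm_append, h1, h2]
      have e1 := key (hda.isWord hm) (hdb.isWord hm) hub hvb hpa heq
      have e2 := key (hdb.isWord hm) (hda.isWord hm) hvb hub hpb heq.symm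
      have c1 := negSet_append C K hm'.le (hda.isWord hm) (hub.append (hrev hvb)) hpa
      have c2 := negSet_append C K hm'.le (hdb.isWord hm) (hvb.append (hrev hub)) hpb
      rw [← negSet_congr e1] at c1
      rw [← negSet_congr e2] at c2
      have h0 : negSet D T (u ++ v.reverse) = ∅ := Finset.card_eq_zero.1 (by omega)
      have huv := (hub.append (hrev hvb)).isWord hm'.le
      have hfix : SamePerm D T (u ++ v.reverse) [] := fun s hs => by
        refine perm_of_same C (F := ℚ) huv (fun i hi => absurd hi List.not_mem_nil) ?_ hs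
        rw [show wnu C ℚ ([] : List ℕ) = 1 from List.prod_nil, mul_one]
        refine inv_mem (word_kernel C K _ rfl huv fun k hk => ?_)
        by_contra hn
        have hmem : T.simp' k ∈ negSet D T (u ++ v.reverse) :=
          mem_negSet.2 ⟨C.spec.simp_lt k hk, K.simple_pos hk, by omega⟩
        rw [h0] at hmem
        exact absurd hmem (Finset.notMem_empty _)
      have hkeys : ∀ k < T.rank, nth 0 ((nth ([], []) Ls m).1[a]).2.2 k = nth 0 ((nth ([], []) Ls m).1[b]).2.2 k := by
        intro k hk
        rw [C.spec.shape.rank_eq] at hk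
        rw [hia k hk, hib k hk, e1 _ (C.spec.simp_lt k hk), wperm_append, hfix _ (C.spec.simp_lt k hk)]
        rfl
      have hd := hdist b hb a hab
      rw [nth_eq (0 : ℕ), nth_eq (0 : ℕ), List.getD_eq_getElem _ _ (by simpa using hb), List.getD_eq_getElem _ _ (by simpa using ha),
        List.getElem_map, List.getElem_map,
        List.map_congr_left (fun k hk => hkeys k (List.mem_range.1 hk))] at hd
      exact absurd ((Nat.beq_refl _).symm.trans hd) (by decide)

/-- The length generating function factors along the chain. -/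
theorem allW_sum (q : ℕ) : ∀ m ≤ D.rank,
    ((allW (nth ([], []) Ls) m).map fun u => q ^ (negSet D T u).card).sum =
      ∏ j ∈ Finset.range m, (((nth ([], []) Ls j).1.map fun R => R.2.1.length).map fun e => q ^ e).sum := by
  intro m
  induction m with
  | zero =>
    intro _
    have : negSet D T [] = ∅ := Finset.eq_empty_iff_forall_notMem.2 fun s hs => by
      have := mem_negSet.1 hs
      simp only [wperm, List.foldr_nil] at this
      omega
    simp [allW, this]
  | succ m ih =>
    intro hm
    have hm' : m < D.rank := hm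
    rw [Finset.prod_range_succ, ← ih hm'.le, allW, List.flatMap_def, List.map_flatten, List.sum_flatten,
      List.map_map, List.map_map, List.map_map, List.map_map, ← List.sum_map_mul_left]
    refine congrArg List.sum (List.map_congr_left fun R hR => ?_)
    obtain ⟨a, ha, rfl⟩ := List.getElem_of_mem hR
    obtain ⟨hb, -, hc, hp⟩ := rep_spec C K hW hm' a ha
    simp only [getRep_eq ha] at hb hc hp
    simp only [Function.comp_apply, List.map_map, List.sum_map_mul_right, ← hc]
    rw [← List.sum_map_mul_right]
    refine congrArg List.sum (List.map_congr_left fun v hv => ?_)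
    simp only [Function.comp_apply]
    rw [negSet_append C K hm'.le (hb.isWord hm) (allW_below C K hW m hm'.le v hv) hp, pow_add, mul_comm]

end Chain

end Cfsg.Lib.Chev
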