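import Mathlib
import Cfsg.Agent.Lib.Chev.BN
import Cfsg.Agent.Lib.Chev.NormalForm
import Cfsg.Agent.Lib.Chev.Weyl

/-!
The exceptional symmetries (characteristic 2 for B2 and F4, characteristic 3 for G2). In that characteristic
the short root vectors span an invariant subspace; the action there and the action on the quotient are
exchanged by the symmetry.
-/

set_option autoImplicit false
set_option linter.unusedSimpArgs false

namespace Cfsg.Lib.Chev

open Cfsg.Lie
open scoped Matrix

/-- An exceptional symmetry: the prime, the permutation of the positions of the basis, the long positions. -/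
structure ESym where
  p : ℕ
  phi : List ℕ
  lng : List Bool

/-- The image of a position. -/
noncomputable def ESym.pos (S : ESym) (a : ℕ) : ℕ := nth 0 S.phi a
/-- A position is long. -/
noncomputable def ESym.isL (S : ESym) (a : ℕ) : Bool := nth false S.lng a
/-- The image of a root. -/
noncomputable def ESym.root (S : ESym) (T : Tbl) (r : ℕ) : ℕ := S.pos (T.rank + r) - T.rank
/-- The exponent at a root. -/
noncomputable def ESym.lam (S : ESym) (T : Tbl) (r : ℕ) : ℕ := bif S.isL (T.rank + r) then 1 else S.p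

/-- An entry of a root element as a list of pairs (degree, coefficient). -/
noncomputable def xPoly (T : Tbl) (r a b : ℕ) : List (ℕ × ℤ) :=
  bif Nat.blt b T.rank then
    bif Nat.blt a T.rank then (bif Nat.beq a b then [(0, 1)] else [])
    else (bif Nat.beq (a - T.rank) r then [(1, -T.cartan b r)] else [])
  else
    bif Nat.blt a T.rank then (bif Nat.beq (b - T.rank) (T.neg r) then [(1, T.coroot r a)] else [])
    else
      bif Nat.beq (b - T.rank) r then (bif Nat.beq (a - T.rank) r then [(0, 1)] else [])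
      else bif Nat.beq (b - T.rank) (T.neg r) then
        (bif Nat.beq (a - T.rank) (b - T.rank) then [(0, 1)] else bif Nat.beq (a - T.rank) r then [(2, -1)] else [])
      else (bif Nat.beq (a - T.rank) (b - T.rank) then [(0, 1)] else []) ++
        ((T.entry r (b - T.rank)).zipIdx.filter fun q => Nat.beq q.1.1 (a - T.rank)).map fun q => (q.2 + 1, q.1.2)

/-- The value of such a list. -/
def polyVal {F : Type*} [Field F] (l : List (ℕ × ℤ)) (t : F) : F := (l.map fun q => (q.2 : F) * t ^ q.1).sum

/-- The coefficient of a degree. -/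
def coefAt (l : List (ℕ × ℤ)) (k : ℕ) : ℤ := (l.map fun q => bif Nat.beq q.1 k then q.2 else 0).sum

/-- Equality modulo `p`, degrees below 16. -/
noncomputable def eqPoly (p : ℕ) (l m : List (ℕ × ℤ)) : Bool :=
  l.all (fun q => Nat.blt q.1 16) && (m.all (fun q => Nat.blt q.1 16) &&
    allBelow (fun k => decide ((coefAt l k - coefAt m k) % (p : ℤ) = 0)) 16)

/-- The check of an exceptional symmetry. -/
noncomputable def chkESym (T : Tbl) (S : ESym) : Bool :=
  Nat.blt 1 S.p &&
  allBelow (fun a => Nat.blt (S.pos a) (T.rank + T.nroots) && (Nat.beq (S.pos (S.pos a)) a &&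
    ((S.isL (S.pos a) == !S.isL a) && (Nat.blt a T.rank == Nat.blt (S.pos a) T.rank)))) (T.rank + T.nroots) &&
  allBelow (fun i => Nat.beq (S.root T (T.simp' i)) (T.simp' (S.pos i)) &&
    (S.isL (T.rank + T.simp' i) == S.isL i)) T.rank &&
  allBelow (fun r => Nat.beq (S.root T (T.neg r)) (T.neg (S.root T r)) &&
    ((S.isL (T.rank + T.neg r) == S.isL (T.rank + r)) &&
    ((Nat.ble T.nroots (2 * S.root T r) == Nat.ble T.nroots (2 * r)) &&
    allBelow (fun s => Nat.beq r s || (List.range T.rank).any fun j => !decide (T.cartan j r = T.cartan j s))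
      T.nroots))) T.nroots &&
  allBelow (fun i => allBelow (fun r => Nat.beq (S.root T (T.refl' i r)) (T.refl' (S.pos i) (S.root T r)))
    T.nroots) T.rank

/-- The check of the invariance. -/
noncomputable def chkESymBlock (T : Tbl) (S : ESym) : Bool :=
  allBelow (fun r => allBelow (fun a => !S.isL a || allBelow (fun b => S.isL b || eqPoly S.p (xPoly T r a b) [])
    (T.rank + T.nroots)) (T.rank + T.nroots)) T.nroots

/-- The check of the exchange of the two actions. -/
noncomputable def chkESymSwap (T : Tbl) (S : ESym) : Bool :=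
  allBelow (fun r => allBelow (fun a => !S.isL a || allBelow (fun b => !S.isL b ||
      eqPoly S.p ((xPoly T (S.root T r) (S.pos a) (S.pos b)).map fun q => (q.1 * S.lam T r, q.2)) (xPoly T r a b))
    (T.rank + T.nroots)) (T.rank + T.nroots)) T.nroots

/-- The check that the short roots generate the root lattice. -/
noncomputable def chkESymSpan (T : Tbl) (S : ESym) (cert : List (List (ℕ × ℤ))) : Bool :=
  allBelow (fun i => !S.isL i ||
    ((nth [] cert i).all (fun q => Nat.blt q.1 T.nroots && !S.isL (T.rank + q.1)) &&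
    allBelow (fun j => decide (T.cartan j (T.simp' i) = ((nth [] cert i).map fun q => q.2 * T.cartan j q.1).sum))
      T.rank)) T.rank

/-- The facts expressed by the checks. -/
structure ESymOK (D : ChevalleyDatum) (T : Tbl) (S : ESym) : Prop where
  one_lt : 1 < S.p
  pos_lt : ∀ a < D.rank + D.nroots, S.pos a < D.rank + D.nroots
  pos_pos : ∀ a < D.rank + D.nroots, S.pos (S.pos a) = a
  pos_long : ∀ a < D.rank + D.nroots, S.isL (S.pos a) = !S.isL a
  pos_rank : ∀ a < D.rank + D.nroots, (a < D.rank ↔ S.pos a < D.rank)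
  root_simple : ∀ i < D.rank, S.root T (T.simp' i) = T.simp' (S.pos i)
  long_simple : ∀ i < D.rank, S.isL (D.rank + T.simp' i) = S.isL i
  root_neg : ∀ r < D.nroots, S.root T (T.neg r) = T.neg (S.root T r)
  long_neg : ∀ r < D.nroots, S.isL (D.rank + T.neg r) = S.isL (D.rank + r)
  root_pos : ∀ r < D.nroots, (D.nroots ≤ 2 * S.root T r ↔ D.nroots ≤ 2 * r)
  cart_inj : ∀ r < D.nroots, ∀ s < D.nroots, (∀ j < D.rank, T.cartan j r = T.cartan j s) → r = s
  root_refl : ∀ i < D.rank, ∀ r < D.nroots, S.root T (T.refl' i r) = T.refl' (S.pos i) (S.root T r)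
  block : ∀ r < D.nroots, ∀ a < D.rank + D.nroots, ∀ b < D.rank + D.nroots, S.isL a = true → S.isL b = false →
    eqPoly S.p (xPoly T r a b) [] = true
  swap : ∀ r < D.nroots, ∀ a < D.rank + D.nroots, ∀ b < D.rank + D.nroots, S.isL a = true → S.isL b = true →
    eqPoly S.p ((xPoly T (S.root T r) (S.pos a) (S.pos b)).map fun q => (q.1 * S.lam T r, q.2)) (xPoly T r a b) = true
  span : ∀ i < D.rank, S.isL i = true → ∃ l : List (ℕ × ℤ),
    (∀ q ∈ l, q.1 < D.nroots ∧ S.isL (D.rank + q.1) = false) ∧
    ∀ j < D.rank, T.cartan j (T.simp' i) = (l.map fun q => q.2 * T.cartan j q.1).sum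

theorem eSymOK_of_chk {D : ChevalleyDatum} {T : Tbl} (H : Shape D T) {S : ESym} {cert : List (List (ℕ × ℤ))}
    (h : chkESym T S = true) (hb : chkESymBlock T S = true) (hs : chkESymSwap T S = true)
    (hc : chkESymSpan T S cert = true) : ESymOK D T S := by
  simp only [chkESym, Bool.and_eq_true, Bool.or_eq_true, allBelow_iff, Nat.blt_eq, Nat.beq_eq, beq_iff_eq,
    H.rank_eq, H.nroots_eq, List.any_eq_true, List.mem_range, Bool.not_eq_true', decide_eq_false_iff_not] at h
  obtain ⟨⟨⟨⟨h0, h1⟩, h2⟩, h3⟩, h4⟩ := h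
  simp only [chkESymBlock, chkESymSwap, Bool.or_eq_true, allBelow_iff, H.rank_eq, H.nroots_eq,
    Bool.not_eq_true'] at hb hs
  simp only [chkESymSpan, Bool.and_eq_true, Bool.or_eq_true, allBelow_iff, H.rank_eq, H.nroots_eq,
    Bool.not_eq_true', List.all_eq_true, Nat.blt_eq, decide_eq_true_eq] at hc
  exact
    { one_lt := h0
      pos_lt := fun a ha => (h1 a ha).1
      pos_pos := fun a ha => (h1 a ha).2.1
      pos_long := fun a ha => (h1 a ha).2.2.1
      pos_rank := fun a ha => by
        have := Bool.eq_iff_iff.1 (h1 a ha).2.2.2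
        simpa [Nat.blt_eq] using this
      root_simple := fun i hi => (h2 i hi).1
      long_simple := fun i hi => (h2 i hi).2
      root_neg := fun r hr => (h3 r hr).1
      long_neg := fun r hr => (h3 r hr).2.1
      root_pos := fun r hr => by
        have := Bool.eq_iff_iff.1 (h3 r hr).2.2.1
        simpa [Nat.ble_eq] using this
      cart_inj := fun r hr s hs he => by
        rcases (h3 r hr).2.2.2 s hs with e | ⟨j, hj, hne⟩
        · exact e
        · exact absurd (he j hj) hne
      root_refl := h4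
      block := fun r hr a ha b hbb la lb =>
        ((((hb r hr a ha).resolve_left (by simp [la])) b hbb).resolve_left (by simp [lb]))
      swap := fun r hr a ha b hbb la lb =>
        ((((hs r hr a ha).resolve_left (by simp [la])) b hbb).resolve_left (by simp [lb]))
      span := fun i hi li => by
        obtain ⟨c1, c2⟩ := (hc i hi).resolve_left (by simp [li])
        exact ⟨_, fun q hq => c1 q hq, c2⟩ }

section Poly

variable {F : Type*} [Field F]

theorem polyVal_eq_sum (l : List (ℕ × ℤ)) (hl : ∀ q ∈ l, q.1 < 16) (t : F) :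
    polyVal l t = ∑ k ∈ Finset.range 16, (coefAt l k : F) * t ^ k := by
  induction l with
  | nil => simp [polyVal, coefAt]
  | cons q l ih =>
    have e : polyVal (q :: l) t = (q.2 : F) * t ^ q.1 + polyVal l t := by simp [polyVal]
    rw [e, ih fun x hx => hl x (List.mem_cons_of_mem _ hx)]
    have e2 : ∀ k, (coefAt (q :: l) k : F) * t ^ k =
        (if q.1 = k then (q.2 : F) * t ^ k else 0) + (coefAt l k : F) * t ^ k := by
      intro k
      by_cases hk : q.1 = k
      · simp [coefAt, hk, add_mul]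
      · have : Nat.beq q.1 k = false := by rw [← Bool.not_eq_true, Nat.beq_eq]; exact hk
        simp [coefAt, this, hk]
    simp only [e2, Finset.sum_add_distrib]
    rw [Finset.sum_ite_eq (Finset.range 16) q.1, if_pos (Finset.mem_range.2 (hl q (List.mem_cons_self ..)))]

theorem polyVal_congr {p : ℕ} [CharP F p] {l m : List (ℕ × ℤ)} (h : eqPoly p l m = true) (t : F) :
    polyVal l t = polyVal m t := by
  simp only [eqPoly, Bool.and_eq_true, List.all_eq_true, Nat.blt_eq, allBelow_iff, decide_eq_true_eq] at h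
  obtain ⟨h1, h2, h3⟩ := h
  rw [polyVal_eq_sum l h1, polyVal_eq_sum m h2]
  refine Finset.sum_congr rfl fun k hk => ?_
  congr 1
  have := (CharP.intCast_eq_zero_iff F p (coefAt l k - coefAt m k)).2
    (Int.dvd_of_emod_eq_zero (h3 k (Finset.mem_range.1 hk)))
  rwa [Int.cast_sub, sub_eq_zero] at this

variable {D : ChevalleyDatum} {T : Tbl}

theorem x_eq_polyVal (H : Spec D T) {r : ℕ} (hr : r < D.nroots) (t : F) (i j : D.Idx) :
    D.x F r t i j = polyVal (xPoly T r (enc i) (enc j)) t := by
  have hR := H.shape.rank_eq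
  have ht : ∀ {a b : ℕ}, a = b → Nat.beq a b = true := fun h => by rw [h]; exact Nat.beq_refl _
  have hf : ∀ {a b : ℕ}, a ≠ b → Nat.beq a b = false := fun h => by
    rw [← Bool.not_eq_true, Nat.beq_eq]; exact h
  have hlt : ∀ {a : ℕ}, a < D.rank → Nat.blt a D.rank = true := fun h => by rw [Nat.blt_eq]; exact h
  have hnlt : ∀ {a : ℕ}, Nat.blt (D.rank + a) D.rank = false := fun {a} => by
    rw [← Bool.not_eq_true, Nat.blt_eq]; omega
  unfold xPoly
  rw [hR]
  rcases i with i' | w <;> rcases j with c | s <;> simp only [enc, hlt (Fin.is_lt _), hnlt, cond_true, cond_false,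
    Nat.add_sub_cancel_left]
  · rw [x_inl_inl H hr]
    by_cases h : i' = c
    · simp [ht (congrArg Fin.val h), h, polyVal]
    · simp [hf (fun e => h (Fin.ext e)), h, polyVal]
  · rw [x_inl_inr H hr]
    by_cases h : s.val = T.neg r
    · simp [ht h, h, polyVal]
    · simp [hf h, h, polyVal]
  · rw [x_inr_inl H hr]
    by_cases h : w.val = r
    · simp [ht h, h, polyVal]
    · simp [hf h, h, polyVal]
  · rw [x_inr_inr H hr]
    by_cases h1 : s.val = r
    · by_cases h2 : w.val = r
      · simp [ht h1, ht h2, h1, h2, polyVal]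
      · simp [ht h1, hf h2, h1, h2, polyVal]
    by_cases h2 : s.val = T.neg r
    · by_cases h3 : w.val = s.val
      · simp [hf (h2 ▸ h1 : T.neg r ≠ r), ht h2, ht h3, h1, h2, h3, polyVal, H.neg_ne r hr]
      · by_cases h4 : w.val = r
        · simp [hf (h2 ▸ h1 : T.neg r ≠ r), ht h2, hf (h2 ▸ h3 : (w : ℕ) ≠ T.neg r), ht h4, hf (H.neg_ne r hr).symm, h1, h2, h4, polyVal, H.neg_ne r hr, (H.neg_ne r hr).symm]
        · simp [hf (h2 ▸ h1 : T.neg r ≠ r), ht h2, hf (h2 ▸ h3 : (w : ℕ) ≠ T.neg r), hf h4, h1, h2, h4, polyVal, H.neg_ne r hr, show ¬ (w : ℕ) = T.neg r from h2 ▸ h3]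
    rw [if_neg h1, if_neg h2, hf h1, hf h2, cond_false, cond_false, polyVal, List.map_append, List.sum_append]
    congr 1
    · by_cases h3 : w.val = s.val
      · simp [ht h3, h3]
      · simp [hf h3, h3]
    · rw [chainVal, show (fun q : (ℕ × ℤ) × ℕ => Nat.beq q.1.1 w.val) = fun q => decide (q.1.1 = w.val) from
        funext fun q => by by_cases e : q.1.1 = w.val <;> simp [e, ht, hf],
        sum_filter_zipIdx (F := F) (T.entry r s.val) 0 w.val fun k M => (M : F) * t ^ k]

end Poly

section Map

variable {D : ChevalleyDatum} {T : Tbl} {S : ESym} (hS : ESymOK D T S) (C : Cert D T)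
  {F : Type*} [Field F]

/-- The short indices of the basis. -/
abbrev ShortIdx (D : ChevalleyDatum) (S : ESym) : Type := {i : D.Idx // S.isL (enc i) = false}

/-- The subgroup respecting the subspace of short vectors. -/
noncomputable def blockGroup (D : ChevalleyDatum) (S : ESym) (F : Type*) [Field F] : Subgroup (GL D.Idx F) where
  carrier := {g | (∀ i j, S.isL (enc i) = true → S.isL (enc j) = false → (g : Matrix D.Idx D.Idx F) i j = 0) ∧
    ∀ i j, S.isL (enc i) = true → S.isL (enc j) = false → ((g⁻¹ : GL D.Idx F) : Matrix D.Idx D.Idx F) i j = 0}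
  one_mem' := by
    constructor <;> intro i j hi hj <;>
      simp only [inv_one, Units.val_one] <;>
      exact Matrix.one_apply_ne fun e => by rw [e, hj] at hi; exact Bool.noConfusion hi
  mul_mem' {a b} ha hb := by
    have key : ∀ A B : Matrix D.Idx D.Idx F,
        (∀ i j, S.isL (enc i) = true → S.isL (enc j) = false → A i j = 0) →
        (∀ i j, S.isL (enc i) = true → S.isL (enc j) = false → B i j = 0) →
        ∀ i j, S.isL (enc i) = true → S.isL (enc j) = false → (A * B) i j = 0 := fun A B hA hB i j hi hj => by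
      rw [Matrix.mul_apply]
      refine Finset.sum_eq_zero fun k _ => ?_
      cases hk : S.isL (enc k)
      · rw [hA i k hi hk, zero_mul]
      · rw [hB k j hk hj, mul_zero]
    refine ⟨fun i j hi hj => ?_, fun i j hi hj => ?_⟩
    · rw [Units.val_mul]; exact key _ _ ha.1 hb.1 i j hi hj
    · rw [mul_inv_rev, Units.val_mul]; exact key _ _ hb.2 ha.2 i j hi hj
  inv_mem' {a} ha := ⟨ha.2, by rw [inv_inv]; exact ha.1⟩

include hS

theorem ESymOK.root_lt {r : ℕ} (hr : r < D.nroots) (H : Shape D T) :
    D.rank + S.root T r = S.pos (D.rank + r) ∧ S.root T r < D.nroots := by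
  have h1 := hS.pos_lt (D.rank + r) (by omega)
  have h2 : ¬ S.pos (D.rank + r) < D.rank := fun h => by
    have := (hS.pos_rank (D.rank + r) (by omega)).2 h
    omega
  unfold ESym.root
  rw [H.rank_eq]
  omega

theorem ESymOK.root_root {r : ℕ} (hr : r < D.nroots) (H : Shape D T) : S.root T (S.root T r) = r := by
  obtain ⟨e1, h1⟩ := hS.root_lt hr H
  obtain ⟨e2, -⟩ := hS.root_lt h1 H
  rw [e1, hS.pos_pos _ (by omega)] at e2
  omega

theorem ESymOK.lam_mul {r : ℕ} (hr : r < D.nroots) (H : Shape D T) : S.lam T r * S.lam T (S.root T r) = S.p := by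
  obtain ⟨e1, -⟩ := hS.root_lt hr H
  unfold ESym.lam
  rw [H.rank_eq, e1, hS.pos_long _ (by omega)]
  cases S.isL (D.rank + r) <;> simp

/-- The permutation of the basis. -/
noncomputable def ESymOK.perm (i : D.Idx) : D.Idx :=
  (exists_enc (D := D) (hS.pos_lt (enc i) (enc_lt i))).choose

theorem ESymOK.enc_perm (i : D.Idx) : enc (hS.perm i) = S.pos (enc i) :=
  (exists_enc (D := D) (hS.pos_lt (enc i) (enc_lt i))).choose_spec

theorem ESymOK.long_perm (i : D.Idx) : S.isL (enc (hS.perm i)) = !S.isL (enc i) := by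
  rw [hS.enc_perm]; exact hS.pos_long _ (enc_lt i)

theorem ESymOK.perm_perm (i : D.Idx) : hS.perm (hS.perm i) = i :=
  enc_injective (by rw [hS.enc_perm, hS.enc_perm, hS.pos_pos _ (enc_lt i)])

include C

variable [CharP F S.p]

theorem ESymOK.xg_block (r : ℕ) (t : F) : xg C r t ∈ blockGroup D S F := by
  by_cases hr : r < D.nroots
  swap
  · rw [xg_out C hr]; exact one_mem _
  have key : ∀ t : F, ∀ i j, S.isL (enc i) = true → S.isL (enc j) = false →
      ((xg C r t : GL D.Idx F) : Matrix D.Idx D.Idx F) i j = 0 := fun t i j hi hj => by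
    rw [coe_xg, x_eq_polyVal C.spec hr,
      polyVal_congr (F := F) (hS.block r hr _ (enc_lt i) _ (enc_lt j) hi hj)]
    rfl
  refine ⟨key t, ?_⟩
  rw [xg_inv]
  exact key _

theorem ESymOK.group_le_block : D.group F ≤ blockGroup D S F := by
  refine (Subgroup.closure_le _).2 ?_
  rintro g ⟨r, t, e⟩
  rw [show g = xg C r.1 t from eq_xg C (e.trans (by rw [ChevalleyDatum.x, dif_pos r.2]))]
  exact hS.xg_block C _ _

/-- The action on the short vectors. -/
noncomputable def ESymOK.shortHom : ↥(D.group F) →* Matrix (ShortIdx D S) (ShortIdx D S) F where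
  toFun g := Matrix.of fun i j => ((g : GL D.Idx F) : Matrix D.Idx D.Idx F) i.1 j.1
  map_one' := by ext i j; simp [Matrix.one_apply, Subtype.ext_iff]
  map_mul' g h := by
    ext i j
    simp only [Matrix.of_apply, Matrix.mul_apply, Subgroup.coe_mul, Units.val_mul]
    rw [← Finset.sum_filter_add_sum_filter_not Finset.univ (fun k : D.Idx => S.isL (enc k) = false),
      Finset.sum_subtype (p := fun k : D.Idx => S.isL (enc k) = false) (Finset.univ.filter fun k : D.Idx => S.isL (enc k) = false)
        (fun k => by simp), add_eq_left]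
    refine Finset.sum_eq_zero fun k hk => ?_
    rw [(hS.group_le_block C h.2).1 k j.1 (by simpa using (Finset.mem_filter.1 hk).2) j.2, mul_zero]

/-- The action on the long vectors, moved to the short ones. -/
noncomputable def ESymOK.longHom : ↥(D.group F) →* Matrix (ShortIdx D S) (ShortIdx D S) F where
  toFun g := Matrix.of fun i j => ((g : GL D.Idx F) : Matrix D.Idx D.Idx F) (hS.perm i.1) (hS.perm j.1)
  map_one' := by
    ext i j
    rw [Matrix.of_apply, OneMemClass.coe_one, Units.val_one]
    by_cases h : i = j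
    · subst h; simp
    · rw [Matrix.one_apply_ne, Matrix.one_apply_ne h]
      intro e
      exact h (Subtype.ext (by rw [← hS.perm_perm i.1, e, hS.perm_perm]))
  map_mul' g h := by
    ext i j
    simp only [Matrix.of_apply, Matrix.mul_apply, Subgroup.coe_mul, Units.val_mul]
    have hlong : ∀ k : ShortIdx D S, S.isL (enc (hS.perm k.1)) = true := fun k => by rw [hS.long_perm, k.2]; rfl
    rw [← Finset.sum_filter_add_sum_filter_not Finset.univ (fun k : D.Idx => S.isL (enc k) = true)]
    have h0 : ∑ k ∈ Finset.univ.filter (fun k : D.Idx => ¬ S.isL (enc k) = true),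
        ((g : GL D.Idx F) : Matrix D.Idx D.Idx F) (hS.perm i.1) k *
          ((h : GL D.Idx F) : Matrix D.Idx D.Idx F) k (hS.perm j.1) = 0 :=
      Finset.sum_eq_zero fun k hk => by
        rw [(hS.group_le_block C g.2).1 _ k (hlong i) (by simpa using (Finset.mem_filter.1 hk).2), zero_mul]
    rw [h0, add_zero]
    refine Finset.sum_bij' (fun k hk => (⟨hS.perm k, by rw [hS.long_perm, (Finset.mem_filter.1 hk).2]; rfl⟩ : ShortIdx D S))
      (fun k _ => hS.perm k.1) (fun _ _ => Finset.mem_univ _)
      (fun k _ => Finset.mem_filter.2 ⟨Finset.mem_univ _, hlong k⟩)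
      (fun k _ => hS.perm_perm k) (fun k _ => Subtype.ext (hS.perm_perm k.1)) fun k _ => ?_
    rw [hS.perm_perm]

theorem ESymOK.long_eq_short {r : ℕ} (hr : r < D.nroots) (t : F) :
    hS.longHom C ⟨xg C r t, xg_mem_group C r t⟩ =
      hS.shortHom C ⟨xg C (S.root T r) (t ^ S.lam T r), xg_mem_group C _ _⟩ := by
  ext i j
  show ((xg C r t : GL D.Idx F) : Matrix D.Idx D.Idx F) (hS.perm i.1) (hS.perm j.1) =
    ((xg C (S.root T r) (t ^ S.lam T r) : GL D.Idx F) : Matrix D.Idx D.Idx F) i.1 j.1
  obtain ⟨-, hr'⟩ := hS.root_lt hr C.spec.shape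
  rw [coe_xg, coe_xg, x_eq_polyVal C.spec hr, x_eq_polyVal C.spec hr']
  have h := hS.swap r hr _ (enc_lt (hS.perm i.1)) _ (enc_lt (hS.perm j.1))
    (by rw [hS.long_perm, i.2]; rfl) (by rw [hS.long_perm, j.2]; rfl)
  rw [← polyVal_congr (F := F) h, ← hS.enc_perm, ← hS.enc_perm, hS.perm_perm, hS.perm_perm]
  simp only [polyVal, List.map_map, Function.comp_def, pow_mul', mul_comm]

omit [CharP F S.p] in
/-- A word fixing the short roots is in `H`. -/
theorem ESymOK.word_mem_diag (K : FullCert D T) {w : List ℕ} (hw : IsWord D w)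
    (hfix : ∀ s < D.nroots, S.isL (D.rank + s) = false → wperm T w s = s) : wnu C F w ∈ D.diagonalSubgroup F := by
  refine word_kernel C K _ rfl hw fun k hk => ?_
  suffices h : wperm T w (T.simp' k) = T.simp' k by rw [h]; exact K.simple_pos hk
  have hlin : ∀ (v : List ℕ), IsWord D v → ∀ (r : ℕ), r < D.nroots → ∀ (l : List (ℕ × ℤ)), (∀ q ∈ l, q.1 < D.nroots) →
      (∀ j < D.rank, T.cartan j r = (l.map fun q => q.2 * T.cartan j q.1).sum) →
      ∀ j < D.rank, T.cartan j (wperm T v r) = (l.map fun q => q.2 * T.cartan j (wperm T v q.1)).sum := by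
    intro v
    induction v with
    | nil => intro _ r _ l _ h j hj; exact h j hj
    | cons i v ih =>
      intro hv r hr l hl h j hj
      have hi := hv.tail.1
      have hv' := hv.tail.2
      show T.cartan j (T.refl' i (wperm T v r)) = _
      rw [C.spec.cart_refl i hi j hj _ (wperm_lt C hv' hr), ih hv' r hr l hl h j hj, ih hv' r hr l hl h i hi]
      clear h ih
      induction l with
      | nil => simp
      | cons q l ihl =>
        simp only [List.map_cons, List.sum_cons]
        rw [← ihl fun x hx => hl x (List.mem_cons_of_mem _ hx)]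
        rw [show wperm T (i :: v) q.1 = T.refl' i (wperm T v q.1) from rfl,
          C.spec.cart_refl i hi j hj _ (wperm_lt C hv' (hl q (List.mem_cons_self ..)))]
        ring
  have hk' := C.spec.simp_lt k hk
  cases hL : S.isL k
  · exact hfix _ hk' (by rw [hS.long_simple k hk]; exact hL)
  · obtain ⟨l, hl, hc⟩ := hS.span k hk hL
    refine hS.cart_inj _ (wperm_lt C hw hk') _ hk' fun j hj => ?_
    rw [hlin w hw _ hk' l (fun q hq => (hl q hq).1) hc j hj, hc j hj]
    refine congrArg List.sum (List.map_congr_left fun q hq => ?_)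
    rw [hfix _ (hl q hq).1 (hl q hq).2]

/-- The action on the short vectors is faithful. -/
theorem ESymOK.shortHom_injective (K : FullCert D T) : Function.Injective (hS.shortHom C (F := F)) := by
  rw [injective_iff_map_eq_one]
  intro g hg
  suffices h : MonoidHom.ker (hS.shortHom C (F := F)) ≤ (D.borelSubgroup F).subgroupOf (D.group F) by
    have h2 := Subgroup.normal_le_normalCore.2 h
    rw [borel_core_eq_bot C K] at h2
    exact (Subgroup.eq_bot_iff_forall _).1 (le_bot_iff.1 h2) g hg
  intro x hx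
  rw [MonoidHom.mem_ker] at hx
  obtain ⟨w, hw, b, hb, c, hc, e⟩ := bruhat_normal C K x.2
  have hcB := signPart_le_borel C K w true hc
  rw [Subgroup.mem_subgroupOf, e]
  refine mul_mem (mul_mem hb (Subgroup.mem_sup_right (hS.word_mem_diag C K hw fun s hs hls => ?_))) hcB
  -- the monomial part agrees with an element of `B` on the short vectors
  let W : ↥(D.group F) := ⟨wnu C F w, wnu_mem_group C hw⟩
  let y : ↥(D.group F) := ⟨b⁻¹ * c⁻¹, mul_mem (borel_le_group C (inv_mem hb)) (borel_le_group C (inv_mem hcB))⟩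
  have h1 : hS.shortHom C W = hS.shortHom C y := by
    have e' : W = (⟨b⁻¹, borel_le_group C (inv_mem hb)⟩ : ↥(D.group F)) * x * ⟨c⁻¹, borel_le_group C (inv_mem hcB)⟩ :=
      Subtype.ext (by show wnu C F w = b⁻¹ * (x : GL D.Idx F) * c⁻¹; rw [e]; group)
    have e'' : y = (⟨b⁻¹, borel_le_group C (inv_mem hb)⟩ : ↥(D.group F)) * ⟨c⁻¹, borel_le_group C (inv_mem hcB)⟩ := rfl
    rw [e', e'', map_mul, map_mul, hx, mul_one, map_mul]
  let i : ShortIdx D S := ⟨Sum.inr ⟨s, hs⟩, hls⟩
  have h2 : ((wnu C F w : GL D.Idx F) : Matrix D.Idx D.Idx F) i.1 i.1 =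
      ((b⁻¹ * c⁻¹ : GL D.Idx F) : Matrix D.Idx D.Idx F) i.1 i.1 := congrFun (congrFun h1 i) i
  obtain ⟨u, hu, d, hd, ey⟩ := (mem_borel C).1 (mul_mem (inv_mem hb) (inv_mem hcB) : b⁻¹ * c⁻¹ ∈ D.borelSubgroup F)
  obtain ⟨a, ha, ed⟩ := coe_diagonal C hd
  have hne : ((b⁻¹ * c⁻¹ : GL D.Idx F) : Matrix D.Idx D.Idx F) i.1 i.1 ≠ 0 := by
    rw [ey, Units.val_mul, ed, scal, Matrix.mul_diagonal]
    refine mul_ne_zero (fun h0 => ?_) (chr_ne_zero a ha s)
    have := (pos_le_shift C hu).1 i.1 i.1 (by rw [Matrix.sub_apply, h0, Matrix.one_apply_eq]; simp)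
    simp at this
  exact (((isMono_wnu C hw).2.2 ⟨s, hs⟩ ⟨s, hs⟩).1 (h2 ▸ hne)).symm

theorem ESymOK.exists_image {g : GL D.Idx F} (hg : g ∈ D.group F) :
    ∃ h : ↥(D.group F), hS.shortHom C h = hS.longHom C ⟨g, hg⟩ := by
  suffices h : (⊤ : Subgroup ↥(D.group F)) ≤
      { carrier := {g | ∃ h, hS.shortHom C h = hS.longHom C g}
        one_mem' := ⟨1, by rw [map_one, map_one]⟩
        mul_mem' := fun {a b} ha hb => by
          obtain ⟨x, hx⟩ := ha
          obtain ⟨y, hy⟩ := hb
          exact ⟨x * y, by rw [map_mul, map_mul, hx, hy]⟩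
        inv_mem' := fun {a} ha => by
          obtain ⟨x, hx⟩ := ha
          refine ⟨x⁻¹, ?_⟩
          have e1 : hS.shortHom C x⁻¹ * hS.shortHom C x = 1 := by rw [← map_mul, inv_mul_cancel, map_one]
          calc hS.shortHom C x⁻¹ = hS.shortHom C x⁻¹ * (hS.longHom C a * hS.longHom C a⁻¹) := by
                rw [← map_mul, mul_inv_cancel, map_one, mul_one]
            _ = _ := by rw [← mul_assoc, ← hx, e1, one_mul] } from h (Subgroup.mem_top _)
  rintro ⟨g, hg⟩ -
  induction hg using Subgroup.closure_induction with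
  | mem x hx =>
    obtain ⟨r, t, e⟩ := hx
    have e' : x = xg C r.1 t := eq_xg C (e.trans (by rw [ChevalleyDatum.x, dif_pos r.2]))
    subst e'
    exact ⟨⟨_, xg_mem_group C _ _⟩, (hS.long_eq_short C r.2 t).symm⟩
  | one => exact one_mem _
  | mul a b ha hb iha ihb =>
    have := Subgroup.mul_mem _ iha ihb
    exact this
  | inv a ha iha =>
    have := Subgroup.inv_mem _ iha
    exact this

end Map

section Sigma

variable {D : ChevalleyDatum} {T : Tbl} {S : ESym} (hS : ESymOK D T S) (C : Cert D T) (K : FullCert D T)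
  {F : Type*} [Field F] [CharP F S.p]
include hS C K

/-- The exceptional endomorphism of the group. -/
noncomputable def ESymOK.endo : ↥(D.group F) →* ↥(D.group F) :=
  MonoidHom.mk' (fun g => (hS.exists_image C g.2).choose) fun a b => hS.shortHom_injective C K (by
    rw [(hS.exists_image C (a * b).2).choose_spec, map_mul (hS.shortHom C), (hS.exists_image C a.2).choose_spec,
      (hS.exists_image C b.2).choose_spec, ← map_mul])

theorem ESymOK.endo_spec (g : ↥(D.group F)) : hS.shortHom C (hS.endo C K g) = hS.longHom C g :=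
  (hS.exists_image C g.2).choose_spec

theorem ESymOK.endo_xg {r : ℕ} (hr : r < D.nroots) (t : F) :
    hS.endo C K ⟨xg C r t, xg_mem_group C r t⟩ = ⟨xg C (S.root T r) (t ^ S.lam T r), xg_mem_group C _ _⟩ :=
  hS.shortHom_injective C K (by rw [hS.endo_spec, hS.long_eq_short C hr])

theorem ESymOK.endo_endo [Fact S.p.Prime] (g : ↥(D.group F)) :
    ((hS.endo C K (hS.endo C K g) : GL D.Idx F)) =
      Matrix.GeneralLinearGroup.map (frobenius F S.p) (g : GL D.Idx F) := by
  obtain ⟨g, hg⟩ := g
  induction hg using Subgroup.closure_induction with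
  | mem x hx =>
    obtain ⟨r, t, e⟩ := hx
    have e' : x = xg C r.1 t := eq_xg C (e.trans (by rw [ChevalleyDatum.x, dif_pos r.2]))
    subst e'
    obtain ⟨-, hr'⟩ := hS.root_lt r.2 C.spec.shape
    rw [hS.endo_xg C K r.2, hS.endo_xg C K hr', hS.root_root r.2 C.spec.shape, ← pow_mul,
      hS.lam_mul r.2 C.spec.shape]
    refine Units.ext ?_
    show _ = ((xg C r.1 t : GL D.Idx F) : Matrix D.Idx D.Idx F).map (frobenius F S.p)
    rw [coe_xg, coe_xg, Cfsg.Lib.Linear.Chev.xMat_map, frobenius_def]
  | one => rw [show (⟨1, _⟩ : ↥(D.group F)) = 1 from rfl, map_one, map_one, OneMemClass.coe_one, map_one]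
  | mul a b ha hb iha ihb =>
    rw [show (⟨a * b, _⟩ : ↥(D.group F)) = ⟨a, ha⟩ * ⟨b, hb⟩ from rfl, map_mul, map_mul, Subgroup.coe_mul, iha, ihb,
      Subgroup.coe_mul, map_mul]
  | inv a ha iha =>
    rw [show (⟨a⁻¹, _⟩ : ↥(D.group F)) = ⟨a, ha⟩⁻¹ from rfl, map_inv, map_inv, Subgroup.coe_inv, iha,
      Subgroup.coe_inv, map_inv]

/-- Over a perfect field the endomorphism is an automorphism. -/
theorem ESymOK.exists_aut [Fact S.p.Prime] (hperf : ∀ x : F, ∃ y : F, y ^ S.p = x) :
    ∃ α : ↥(D.group F) ≃* ↥(D.group F), ∀ (g : ↥(D.group F)) (r : ℕ) (t : F), r < D.nroots →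
      ((g : GL D.Idx F) : Matrix D.Idx D.Idx F) = D.x F r t →
      ((α g : GL D.Idx F) : Matrix D.Idx D.Idx F) = D.x F (S.root T r) (t ^ S.lam T r) := by
  have hinj : Function.Injective (hS.endo C K (F := F)) := by
    intro a b h
    have h2 : ((hS.endo C K (hS.endo C K a) : GL D.Idx F)) = hS.endo C K (hS.endo C K b) := by rw [h]
    rw [hS.endo_endo, hS.endo_endo] at h2
    exact Subtype.ext (Units.ext (Matrix.map_injective (frobenius_inj F S.p)
      (congrArg (fun x : GL D.Idx F => (x : Matrix D.Idx D.Idx F)) h2)))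
  have hsurj : Function.Surjective (hS.endo C K (F := F)) := by
    suffices h : (⊤ : Subgroup ↥(D.group F)) ≤ (hS.endo C K (F := F)).range from fun g => h (Subgroup.mem_top g)
    rintro ⟨g, hg⟩ -
    induction hg using Subgroup.closure_induction with
    | mem x hx =>
      obtain ⟨r, t, e⟩ := hx
      have e' : x = xg C r.1 t := eq_xg C (e.trans (by rw [ChevalleyDatum.x, dif_pos r.2]))
      subst e'
      obtain ⟨y, rfl⟩ := hperf t
      obtain ⟨-, hr'⟩ := hS.root_lt r.2 C.spec.shape
      refine ⟨⟨xg C (S.root T r.1) (y ^ S.lam T r.1), xg_mem_group C _ _⟩, ?_⟩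
      rw [hS.endo_xg C K hr']
      refine Subtype.ext ?_
      show xg C (S.root T (S.root T r.1)) ((y ^ S.lam T r.1) ^ S.lam T (S.root T r.1)) = _
      rw [hS.root_root r.2 C.spec.shape, ← pow_mul, hS.lam_mul r.2 C.spec.shape]
    | one => exact one_mem _
    | mul a b ha hb iha ihb =>
      have := Subgroup.mul_mem _ iha ihb
      exact this
    | inv a ha iha =>
      have := Subgroup.inv_mem _ iha
      exact this
  refine ⟨MulEquiv.ofBijective (hS.endo C K) ⟨hinj, hsurj⟩, fun g r t hr e => ?_⟩
  obtain rfl : g = ⟨xg C r t, xg_mem_group C r t⟩ := Subtype.ext (eq_xg C e)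
  show (((hS.endo C K ⟨xg C r t, xg_mem_group C r t⟩ : ↥(D.group F)) : GL D.Idx F) : Matrix D.Idx D.Idx F) = _
  rw [hS.endo_xg C K hr, coe_xg]

end Sigma

end Cfsg.Lib.Chev
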