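import Mathlib
import Cfsg.Agent.Lib.Chev.Units

/-!
Symmetries of the tables act on the group by signed permutations of the basis.
-/

set_option autoImplicit false

namespace Cfsg.Lib.Chev

open Cfsg.Lie
open scoped Matrix

/-- A signed symmetry of a table: node permutation and inverse, root permutation and inverse, signs. -/
structure Sym where
  p : List ℕ
  pI : List ℕ
  r : List ℕ
  rI : List ℕ
  sgn : List ℤ

/-- The image of a node. -/
def Sym.node (S : Sym) (i : ℕ) : ℕ := S.p.getD i 0
/-- The image of a root. -/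
def Sym.root (S : Sym) (i : ℕ) : ℕ := S.r.getD i 0
/-- The sign of a root. -/
def Sym.eps (S : Sym) (i : ℕ) : ℤ := S.sgn.getD i 0

/-- The image of a chain entry under a symmetry. -/
def symImg (S : Sym) (a : ℤ) : List (ℕ × ℤ) → ℤ → List (ℕ × ℤ)
  | [], _ => []
  | q :: l, b => (S.root q.1, a * b * S.eps q.1 * q.2) :: symImg S a l (a * b)

/-- The check of a symmetry. -/
noncomputable def chkSym (T : Tbl) (S : Sym) : Bool :=
  allBelow (fun i => Nat.blt (S.node i) T.rank && (Nat.blt (S.pI.getD i 0) T.rank &&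
    (Nat.beq (S.pI.getD (S.node i) 0) i && (Nat.beq (S.node (S.pI.getD i 0)) i &&
    (Nat.beq (S.root (T.simp' i)) (T.simp' (S.node i)) && decide (S.eps (T.simp' i) = 1)))))) T.rank &&
  allBelow (fun r => Nat.blt (S.root r) T.nroots && (Nat.blt (S.rI.getD r 0) T.nroots &&
    (Nat.beq (S.rI.getD (S.root r) 0) r && (Nat.beq (S.root (S.rI.getD r 0)) r &&
    (Nat.beq (S.root (T.neg r)) (T.neg (S.root r)) && (decide (S.eps (T.neg r) = S.eps r) &&
    ((decide (S.eps r = 1) || decide (S.eps r = -1)) &&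
    (allBelow (fun j => decide (T.cartan (S.node j) (S.root r) = T.cartan j r)) T.rank &&
    (allBelow (fun k => decide (T.coroot (S.root r) (S.node k) = T.coroot r k)) T.rank &&
    allBelow (fun s => eqEntry (T.entry (S.root r) (S.root s)) (symImg S (S.eps r) (T.entry r s) (S.eps s)))
      T.nroots))))))))) T.nroots

variable {D : ChevalleyDatum} {T : Tbl}

/-- The facts expressed by the check. -/
structure SymOK (D : ChevalleyDatum) (T : Tbl) (S : Sym) : Prop where
  node_lt : ∀ i < D.rank, S.node i < D.rank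
  node_lt' : ∀ i < D.rank, S.pI.getD i 0 < D.rank
  node_inv : ∀ i < D.rank, S.pI.getD (S.node i) 0 = i
  node_inv' : ∀ i < D.rank, S.node (S.pI.getD i 0) = i
  simple : ∀ i < D.rank, S.root (T.simp' i) = T.simp' (S.node i)
  eps_simple : ∀ i < D.rank, S.eps (T.simp' i) = 1
  root_lt : ∀ r < D.nroots, S.root r < D.nroots
  root_lt' : ∀ r < D.nroots, S.rI.getD r 0 < D.nroots
  root_inv : ∀ r < D.nroots, S.rI.getD (S.root r) 0 = r
  root_inv' : ∀ r < D.nroots, S.root (S.rI.getD r 0) = r
  root_neg : ∀ r < D.nroots, S.root (T.neg r) = T.neg (S.root r)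
  eps_neg : ∀ r < D.nroots, S.eps (T.neg r) = S.eps r
  eps_cases : ∀ r < D.nroots, S.eps r = 1 ∨ S.eps r = -1
  cart : ∀ r < D.nroots, ∀ j < D.rank, T.cartan (S.node j) (S.root r) = T.cartan j r
  cor : ∀ r < D.nroots, ∀ k < D.rank, T.coroot (S.root r) (S.node k) = T.coroot r k
  entry : ∀ r < D.nroots, ∀ s < D.nroots,
    T.entry (S.root r) (S.root s) = symImg S (S.eps r) (T.entry r s) (S.eps s)

theorem symOK_of_chk (H : Shape D T) {S : Sym} (h : chkSym T S = true) : SymOK D T S := by
  simp only [chkSym, Bool.and_eq_true, Bool.or_eq_true, allBelow_iff, Nat.blt_eq, Nat.beq_eq, decide_eq_true_eq,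
    H.rank_eq, H.nroots_eq] at h
  obtain ⟨h1, h2⟩ := h
  exact
    { node_lt := fun i hi => (h1 i hi).1
      node_lt' := fun i hi => (h1 i hi).2.1
      node_inv := fun i hi => (h1 i hi).2.2.1
      node_inv' := fun i hi => (h1 i hi).2.2.2.1
      simple := fun i hi => (h1 i hi).2.2.2.2.1
      eps_simple := fun i hi => (h1 i hi).2.2.2.2.2
      root_lt := fun r hr => (h2 r hr).1
      root_lt' := fun r hr => (h2 r hr).2.1
      root_inv := fun r hr => (h2 r hr).2.2.1
      root_inv' := fun r hr => (h2 r hr).2.2.2.1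
      root_neg := fun r hr => (h2 r hr).2.2.2.2.1
      eps_neg := fun r hr => (h2 r hr).2.2.2.2.2.1
      eps_cases := fun r hr => (h2 r hr).2.2.2.2.2.2.1
      cart := fun r hr => (h2 r hr).2.2.2.2.2.2.2.1
      cor := fun r hr => (h2 r hr).2.2.2.2.2.2.2.2.1
      entry := fun r hr s hs => eqEntry_iff _ _ ((h2 r hr).2.2.2.2.2.2.2.2.2 s hs) }

variable {S : Sym} (h : SymOK D T S)
include h

/-- The permutation of the basis. -/
def SymOK.idxEquiv : D.Idx ≃ D.Idx :=
  Equiv.sumCongr
    ⟨fun i => ⟨S.node i, h.node_lt i i.2⟩, fun i => ⟨_, h.node_lt' i i.2⟩, fun i => Fin.ext (h.node_inv i i.2),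
      fun i => Fin.ext (h.node_inv' i i.2)⟩
    ⟨fun r => ⟨S.root r, h.root_lt r r.2⟩, fun r => ⟨_, h.root_lt' r r.2⟩, fun r => Fin.ext (h.root_inv r r.2),
      fun r => Fin.ext (h.root_inv' r r.2)⟩

variable {F : Type*} [Field F]

omit h in
/-- The signs of the basis vectors. -/
def symSign (D : ChevalleyDatum) (S : Sym) (F : Type*) [Field F] : D.Idx → F :=
  Sum.elim (fun _ => 1) fun r => (S.eps r : ℤ)

theorem SymOK.eps_sq {r : ℕ} (hr : r < D.nroots) : ((S.eps r : ℤ) : F) * (S.eps r : ℤ) = 1 := by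
  rcases h.eps_cases r hr with e | e <;> rw [e] <;> simp

theorem SymOK.sign_sq (a : D.Idx) : symSign D S F a * symSign D S F a = 1 := by
  rcases a with i | r
  · simp [symSign]
  · exact h.eps_sq r.2

/-- The signed permutation of matrices. -/
noncomputable def SymOK.matHom : Matrix D.Idx D.Idx F →* Matrix D.Idx D.Idx F where
  toFun M := Matrix.of fun a b => symSign D S F (h.idxEquiv.symm a) * M (h.idxEquiv.symm a) (h.idxEquiv.symm b) *
    symSign D S F (h.idxEquiv.symm b)
  map_one' := by
    ext a b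
    by_cases hab : a = b
    · subst hab; simp [h.sign_sq]
    · simp [Matrix.one_apply_ne hab, Matrix.one_apply_ne (h.idxEquiv.symm.injective.ne hab)]
  map_mul' M N := by
    ext a b
    simp only [Matrix.of_apply, Matrix.mul_apply, Finset.mul_sum, Finset.sum_mul]
    rw [← Equiv.sum_comp h.idxEquiv.symm]
    refine Finset.sum_congr rfl fun c _ => ?_
    have := h.sign_sq (F := F) (h.idxEquiv.symm c)
    linear_combination -(symSign D S F (h.idxEquiv.symm a) * M (h.idxEquiv.symm a) (h.idxEquiv.symm c) *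
      N (h.idxEquiv.symm c) (h.idxEquiv.symm b) * symSign D S F (h.idxEquiv.symm b)) * this

theorem SymOK.matHom_x (H : Spec D T) {r : ℕ} (hr : r < D.nroots) (t : F) :
    h.matHom (D.x F r t) = D.x F (S.root r) ((S.eps r : ℤ) * t) := by
  have hr' := h.root_lt r hr
  ext a b
  obtain ⟨a, rfl⟩ := h.idxEquiv.surjective a
  obtain ⟨b, rfl⟩ := h.idxEquiv.surjective b
  show symSign D S F _ * D.x F r t _ _ * symSign D S F _ = _
  simp only [Equiv.symm_apply_apply]
  have he := h.eps_sq (F := F) hr
  have hrootinj : ∀ {x y : ℕ}, x < D.nroots → y < D.nroots → (S.root x = S.root y ↔ x = y) := fun hx hy =>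
    ⟨fun e => by rw [← h.root_inv _ hx, e, h.root_inv _ hy], congrArg _⟩
  have hnodeinj : ∀ {x y : ℕ}, x < D.rank → y < D.rank → (S.node x = S.node y ↔ x = y) := fun hx hy =>
    ⟨fun e => by rw [← h.node_inv _ hx, e, h.node_inv _ hy], congrArg _⟩
  have hn := H.neg_lt r hr
  rcases a with i' | w <;> rcases b with c | s <;>
    simp only [SymOK.idxEquiv, Equiv.sumCongr_apply, Sum.map_inl, Sum.map_inr, Equiv.coe_fn_mk, symSign,
      Sum.elim_inl, Sum.elim_inr]
  · simp [x_inl_inl H hr, x_inl_inl H hr', Fin.ext_iff, hnodeinj i'.2 c.2]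
  · rw [x_inl_inr H hr, x_inl_inr H hr']
    simp only [← h.root_neg r hr, hrootinj s.2 hn]
    by_cases hs : s.val = T.neg r
    · simp only [if_pos hs, h.cor r hr i' i'.2]
      rw [hs, h.eps_neg r hr]
      ring
    · simp [if_neg hs]
  · rw [x_inr_inl H hr, x_inr_inl H hr']
    simp only [hrootinj w.2 hr]
    by_cases hw : w.val = r
    · simp only [if_pos hw, h.cart r hr c c.2]
      rw [hw]; ring
    · simp [if_neg hw]
  · rw [x_inr_inr H hr, x_inr_inr H hr']
    simp only [← h.root_neg r hr, hrootinj s.2 hn, hrootinj s.2 hr, hrootinj w.2 hr, hrootinj w.2 s.2]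
    by_cases h1 : s.val = r
    · rw [if_pos h1, if_pos h1]
      split_ifs with h2
      · rw [h2, h1, mul_one]; exact he
      · simp
    rw [if_neg h1, if_neg h1]
    by_cases h2 : s.val = T.neg r
    · rw [if_pos h2, if_pos h2]
      split_ifs with h3 h4
      · rw [h3, mul_one]; exact h.eps_sq s.2
      · rw [h4, h2, h.eps_neg r hr, mul_pow]
        ring
      · simp
    rw [if_neg h2, if_neg h2, h.entry r hr s s.2, mul_add, add_mul]
    have hmem : ∀ q ∈ T.entry r s, q.1 < D.nroots := fun q hq => by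
      obtain ⟨k, hk⟩ := List.getElem?_of_mem hq
      exact (H.entry_mem r hr s s.2 k q hk).1
    have key : ∀ (l : List (ℕ × ℤ)) (k : ℕ) (b : ℤ), (∀ q ∈ l, q.1 < D.nroots) →
        ((b : ℤ) : F) = ((S.eps r : ℤ) : F) ^ k * (S.eps s : ℤ) →
        ((S.eps w : ℤ) : F) * chainVal l k t w * (S.eps s : ℤ) =
          chainVal (symImg S (S.eps r) l b) k (((S.eps r : ℤ) : F) * t) (S.root w) := by
      intro l
      induction l with
      | nil => intro k b _ _; simp [chainVal, symImg]
      | cons q l ih =>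
        intro k b hm hb
        have h' := ih (k + 1) (S.eps r * b) (fun x hx => hm x (List.mem_cons_of_mem _ hx)) (by
          push_cast; rw [hb]; ring)
        have hq := hm q (List.mem_cons_self ..)
        simp only [chainVal, symImg, List.zipIdx_cons, List.map_cons, List.sum_cons, mul_add, add_mul] at h' ⊢
        rw [h']
        congr 1
        simp only [hrootinj hq w.2]
        split_ifs with hqw
        · rw [← hqw]
          push_cast
          rw [hb, mul_pow]
          have e1 : (((S.eps r : ℤ) : F) * ((S.eps r : ℤ) : F) ^ k) * ((S.eps r : ℤ) : F) ^ (k + 1) = 1 := by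
            rw [← pow_succ', ← mul_pow, he, one_pow]
          linear_combination -((S.eps q.1 : ℤ) * (q.2 : F) * t ^ (k + 1) * (S.eps s : ℤ)) * e1
        · simp
    rw [key _ 0 (S.eps s) hmem (by simp)]
    congr 1
    split_ifs with h3
    · rw [h3, mul_one]; exact h.eps_sq s.2
    · simp

/-- The automorphism of the general linear group. -/
noncomputable def SymOK.glHom : GL D.Idx F →* GL D.Idx F := Units.map h.matHom

theorem SymOK.glHom_xg (C : Cert D T) {r : ℕ} (hr : r < D.nroots) (t : F) :
    h.glHom (xg C r t) = xg C (S.root r) ((S.eps r : ℤ) * t) :=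
  Units.ext (h.matHom_x C.spec hr t)

theorem SymOK.glHom_injective : Function.Injective (h.glHom : GL D.Idx F →* GL D.Idx F) := by
  intro x y e
  refine Units.ext (Matrix.ext fun a b => ?_)
  have := congrArg (fun g : GL D.Idx F => (g : Matrix D.Idx D.Idx F) (h.idxEquiv a) (h.idxEquiv b)) e
  change symSign D S F _ * _ * symSign D S F _ = symSign D S F _ * _ * symSign D S F _ at this
  simp only [Equiv.symm_apply_apply] at this
  have h1 := h.sign_sq (F := F) a
  have h2 := h.sign_sq (F := F) b
  exact mul_left_cancel₀ (left_ne_zero_of_mul (h1.trans_ne one_ne_zero))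
    (mul_right_cancel₀ (left_ne_zero_of_mul (h2.trans_ne one_ne_zero)) this)

/-- The automorphism of the Chevalley group. -/
theorem SymOK.exists_groupAut (C : Cert D T) :
    ∃ α : ↥(D.group F) ≃* ↥(D.group F), ∀ g, (α g : GL D.Idx F) = h.glHom (g : GL D.Idx F) := by
  have hmap : (D.group F).map h.glHom = D.group F := by
    rw [ChevalleyDatum.group, MonoidHom.map_closure]
    congr 1
    ext g
    constructor
    · rintro ⟨x, ⟨r, t, e⟩, rfl⟩
      refine ⟨⟨S.root r, h.root_lt r r.2⟩, (S.eps r : ℤ) * t, ?_⟩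
      have := congrArg Units.val (h.glHom_xg C r.2 t (F := F))
      rw [show x = xg C r.1 t from eq_xg C (e.trans (by rw [ChevalleyDatum.x, dif_pos r.2])), this, coe_xg,
        ChevalleyDatum.x, dif_pos (h.root_lt r r.2)]
    · rintro ⟨r, t, e⟩
      have hr' := h.root_lt' r r.2
      refine ⟨xg C (S.rI.getD r 0) ((S.eps (S.rI.getD r 0) : ℤ) * t), ⟨⟨_, hr'⟩, _, by
        rw [coe_xg, ChevalleyDatum.x, dif_pos hr']⟩, ?_⟩
      rw [h.glHom_xg C hr', ← mul_assoc, h.eps_sq hr', one_mul, h.root_inv' r r.2]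
      exact (eq_xg C (e.trans (by rw [ChevalleyDatum.x, dif_pos r.2]))).symm
  exact ⟨((D.group F).equivMapOfInjective h.glHom h.glHom_injective).trans (MulEquiv.subgroupCongr hmap), fun g => rfl⟩

end Cfsg.Lib.Chev
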