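import Mathlib
import Cfsg.Agent.Lib.Chev.Monomial

/-!
The order of the torus.
-/

set_option autoImplicit false

namespace Cfsg.Lib.Chev

open Cfsg.Lie
open scoped Matrix

section Pow

variable {n : ℕ} {G : Type*} [CommGroup G]

/-- The map given by an integer matrix. -/
def powHom (M : Matrix (Fin n) (Fin n) ℤ) : (Fin n → G) →* (Fin n → G) where
  toFun c k := ∏ j, c j ^ M k j
  map_one' := funext fun k => by simp
  map_mul' a b := funext fun k => by simp [mul_zpow, Finset.prod_mul_distrib]

theorem powHom_mul (M N : Matrix (Fin n) (Fin n) ℤ) :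
    (powHom (M * N) : (Fin n → G) →* (Fin n → G)) = (powHom M).comp (powHom N) := by
  refine MonoidHom.ext fun c => funext fun k => ?_
  show ∏ j, c j ^ (M * N) k j = ∏ i, (∏ j, c j ^ N i j) ^ M k i
  simp only [← Finset.prod_zpow, ← zpow_mul, Matrix.mul_apply]
  rw [Finset.prod_comm]
  refine Finset.prod_congr rfl fun j _ => ?_
  induction (Finset.univ : Finset (Fin n)) using Finset.induction with
  | empty => simp
  | insert a s ha ih => rw [Finset.sum_insert ha, Finset.prod_insert ha, zpow_add, ih, mul_comm (M k a)]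

theorem powHom_one : (powHom (1 : Matrix (Fin n) (Fin n) ℤ) : (Fin n → G) →* (Fin n → G)) = MonoidHom.id _ := by
  refine MonoidHom.ext fun c => funext fun k => ?_
  show ∏ j, c j ^ (1 : Matrix (Fin n) (Fin n) ℤ) k j = c k
  rw [Finset.prod_eq_single k (fun b _ hb => by simp [Matrix.one_apply_ne hb.symm]) (by simp)]
  simp

theorem powHom_diagonal (d : Fin n → ℕ) (c : Fin n → G) (k : Fin n) :
    powHom (Matrix.diagonal fun k => (d k : ℤ)) c k = c k ^ d k := by
  show ∏ j, c j ^ (Matrix.diagonal fun k => (d k : ℤ)) k j = c k ^ d k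
  rw [Finset.prod_eq_single k (fun b _ hb => by simp [Matrix.diagonal_apply_ne _ hb.symm]) (by simp)]
  simp

theorem card_ker_powHom [Finite G] [IsCyclic G] {A P P' Q Q' : Matrix (Fin n) (Fin n) ℤ} {d : Fin n → ℕ}
    (h : P * A * Q = Matrix.diagonal fun k => (d k : ℤ)) (hP : P' * P = 1) (hQ : Q * Q' = 1) (hQ' : Q' * Q = 1) :
    Nat.card ↥(powHom A : (Fin n → G) →* (Fin n → G)).ker = ∏ k, (Nat.card G).gcd (d k) := by
  classical
  have hPinj : ∀ x : Fin n → G, powHom P x = 1 → x = 1 := fun x hx => by
    have e : powHom (P' * P) x = x := by rw [hP, powHom_one]; rfl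
    rw [powHom_mul, MonoidHom.comp_apply, hx, map_one] at e
    exact e.symm
  have hQQ' : ∀ x : Fin n → G, powHom Q (powHom Q' x) = x := fun x => by
    have e : powHom (Q * Q') x = x := by rw [hQ, powHom_one]; rfl
    rwa [powHom_mul, MonoidHom.comp_apply] at e
  have hQ'Q : ∀ x : Fin n → G, powHom Q' (powHom Q x) = x := fun x => by
    have e : powHom (Q' * Q) x = x := by rw [hQ', powHom_one]; rfl
    rwa [powHom_mul, MonoidHom.comp_apply] at e
  have hcard : Nat.card ↥(powHom A : (Fin n → G) →* (Fin n → G)).ker =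
      Nat.card {c : Fin n → G // ∀ k, c k ^ d k = 1} := by
    refine (Nat.card_eq_of_bijective (fun c : {c : Fin n → G // ∀ k, c k ^ d k = 1} =>
      (⟨powHom Q c.1, ?_⟩ : ↥(powHom A : (Fin n → G) →* (Fin n → G)).ker)) ⟨?_, ?_⟩).symm
    · refine hPinj _ ?_
      rw [← MonoidHom.comp_apply, ← MonoidHom.comp_apply, ← powHom_mul, ← powHom_mul, h]
      exact funext fun k => (powHom_diagonal d c.1 k).trans (c.2 k)
    · intro a b e
      have := congrArg (fun z => powHom Q' (z : ↥(powHom A : (Fin n → G) →* (Fin n → G)).ker).1) e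
      simp only [hQ'Q] at this
      exact Subtype.ext this
    · intro x
      refine ⟨⟨powHom Q' x.1, fun k => ?_⟩, Subtype.ext (hQQ' x.1)⟩
      rw [← powHom_diagonal d, ← h, powHom_mul, powHom_mul, MonoidHom.comp_apply, MonoidHom.comp_apply, hQQ',
        MonoidHom.mem_ker.1 x.2, map_one]
      rfl
  rw [hcard, Nat.card_congr (Equiv.subtypePiEquivPi (p := fun (k : Fin n) (a : G) => a ^ d k = 1)), Nat.card_pi]
  refine Finset.prod_congr rfl fun k _ => ?_
  rw [← IsCyclic.card_powMonoidHom_ker (G := G) (d k)]
  exact Nat.card_congr (Equiv.subtypeEquivRight fun a => by simp [MonoidHom.mem_ker])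

end Pow

variable {D : ChevalleyDatum} {T : Tbl} {F : Type*} [Field F]

/-- The matrix of Cartan integers on the fundamental roots. -/
def cartanMat (D : ChevalleyDatum) (T : Tbl) : Matrix (Fin D.rank) (Fin D.rank) ℤ :=
  Matrix.of fun k j => T.cartan j (T.simp' k)

/-- Parameters as a function. -/
def extend' (c : Fin D.rank → Fˣ) (j : ℕ) : F := if h : j < D.rank then (c ⟨j, h⟩ : F) else 1

theorem extend'_ne (c : Fin D.rank → Fˣ) (j : ℕ) : extend' c j ≠ 0 := by
  unfold extend'; split_ifs <;> simp

/-- The torus as an image of parameters. -/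
noncomputable def torusHom (D : ChevalleyDatum) (T : Tbl) (F : Type*) [Field F] :
    (Fin D.rank → Fˣ) →* GL D.Idx F :=
  MonoidHom.toHomUnits
    { toFun := fun c => scal T D (extend' c)
      map_one' := by
        rw [← scal_one]; congr 1; funext j; simp [extend']
      map_mul' := fun a b => by
        rw [scal_mul]; congr 1; funext j; unfold extend'; split_ifs <;> simp }

theorem coe_torusHom (c : Fin D.rank → Fˣ) :
    ((torusHom D T F c : GL D.Idx F) : Matrix D.Idx D.Idx F) = scal T D (extend' c) := rfl

variable (C : Cert D T)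
include C

theorem torusHom_range : (torusHom D T F).range = D.diagonalSubgroup F := by
  refine le_antisymm ?_ fun g hg => ?_
  · rintro _ ⟨c, rfl⟩
    exact mem_diagonal_of_scal C (fun i _ => extend'_ne c i) (coe_torusHom c)
  · obtain ⟨c, hc, e⟩ := coe_diagonal C hg
    refine ⟨fun i => Units.mk0 (c i) (hc i i.2), Units.ext ?_⟩
    rw [coe_torusHom, e, scal, scal]
    congr 1
    funext j
    rcases j with a | s
    · rfl
    · simp only [Sum.elim_inr, chr]
      exact Finset.prod_congr rfl fun k hk => by simp [extend', Finset.mem_range.1 hk]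

theorem torusHom_ker : (torusHom D T F).ker = (powHom (cartanMat D T) : (Fin D.rank → Fˣ) →* _).ker := by
  ext c
  have hc : ∀ j < D.rank, extend' c j ≠ 0 := fun j _ => extend'_ne c j
  have hval : ∀ k : Fin D.rank, chr T D (extend' c) (T.simp' k) = ((powHom (cartanMat D T) c k : Fˣ) : F) := by
    intro k
    show _ = ((∏ j, c j ^ cartanMat D T k j : Fˣ) : F)
    rw [Units.coe_prod, chr, ← Fin.prod_univ_eq_prod_range (fun j => extend' c j ^ T.cartan j (T.simp' k)) D.rank]
    exact Finset.prod_congr rfl fun j _ => by simp [extend', cartanMat, Units.val_zpow_eq_zpow_val]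
  rw [MonoidHom.mem_ker, MonoidHom.mem_ker]
  constructor
  · intro h
    refine funext fun k => Units.ext ?_
    rw [← hval]
    have := congrFun (congrFun (congrArg (fun g : GL D.Idx F => (g : Matrix D.Idx D.Idx F)) h)
      (Sum.inr ⟨_, C.spec.simp_lt k k.2⟩)) (Sum.inr ⟨_, C.spec.simp_lt k k.2⟩)
    simpa [coe_torusHom, scal] using this
  · intro h
    have hs : ∀ s < D.nroots, chr T D (extend' c) s = 1 := by
      refine C.root_induction (fun i hi => ?_) fun i hi r hr ih => ?_
      · have h' := hval ⟨i, hi⟩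
        rw [h] at h'
        simpa using h'
      · have hone : chr T D (extend' c) (T.simp' i) = 1 := by
          have h' := hval ⟨i, hi⟩
          rw [h] at h'
          simpa using h'
        have : chr T D (extend' c) (T.refl' i r) =
            chr T D (extend' c) r * (chr T D (extend' c) (T.simp' i) ^ T.cartan i r)⁻¹ := by
          simp only [chr, ← Finset.prod_zpow, ← Finset.prod_inv_distrib, ← Finset.prod_mul_distrib]
          refine Finset.prod_congr rfl fun j hj => ?_
          rw [Finset.mem_range] at hj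
          rw [C.spec.cart_refl i hi j hj r hr, zpow_sub₀ (hc j hj), ← zpow_mul, mul_comm (T.cartan i r), div_eq_mul_inv]
        rw [this, ih, hone]; simp
    refine Units.ext ?_
    rw [coe_torusHom, Units.val_one, scal, Matrix.diagonal_eq_one]
    funext j
    rcases j with a | s
    · rfl
    · exact hs s s.2

theorem card_diagonal [Finite F] {P P' Q Q' : Matrix (Fin D.rank) (Fin D.rank) ℤ} {d : Fin D.rank → ℕ}
    (h : P * cartanMat D T * Q = Matrix.diagonal fun k => (d k : ℤ)) (hP : P' * P = 1) (hQ : Q * Q' = 1)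
    (hQ' : Q' * Q = 1) :
    (∏ k, (Nat.card F - 1).gcd (d k)) * Nat.card ↥(D.diagonalSubgroup F) = (Nat.card F - 1) ^ D.rank := by
  classical
  haveI := Fintype.ofFinite F
  have hU : Nat.card Fˣ = Nat.card F - 1 := Nat.card_units F
  have hk : Nat.card ↥(torusHom D T F).ker = ∏ k, (Nat.card F - 1).gcd (d k) := by
    rw [torusHom_ker C, card_ker_powHom (G := Fˣ) h hP hQ hQ', hU]
  have := Subgroup.card_mul_index (torusHom D T F).ker
  rw [Subgroup.index_ker, torusHom_range C, hk, Nat.card_pi] at this
  rw [this, Finset.prod_const, hU]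
  simp

end Cfsg.Lib.Chev
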