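import Mathlib
import Cfsg.Agent.Lib.Chev.Unipotent

/-!
`B` is solvable.
-/

set_option autoImplicit false

namespace Cfsg.Lib.Chev

open Cfsg.Lie
open scoped commutatorElement

variable {D : ChevalleyDatum} {T : Tbl} {F : Type*} [Field F] (C : Cert D T)
include C

theorem commutator_borel_le : ⁅D.borelSubgroup F, D.borelSubgroup F⁆ ≤ D.posUnipotent F := by
  refine Subgroup.commutator_le.2 fun a ha b hb => ?_
  obtain ⟨u, hu, h, hh, rfl⟩ := (mem_borel C).1 ha
  obtain ⟨v, hv, k, hk, rfl⟩ := (mem_borel C).1 hb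
  have N : ∀ {h x : GL D.Idx F}, h ∈ D.diagonalSubgroup F → x ∈ D.posUnipotent F → h * x * h⁻¹ ∈ D.posUnipotent F :=
    fun hh hx => (Subgroup.mem_normalizer_iff.1 (diag_le_normalizer C hh) _).1 hx
  have hc := diag_comm C hh hk
  have e : ⁅u * h, v * k⁆ = u * (h * v * h⁻¹) * (k * u⁻¹ * k⁻¹) * v⁻¹ := by
    rw [commutatorElement_def]
    calc u * h * (v * k) * (u * h)⁻¹ * (v * k)⁻¹
        = u * h * v * (k * h⁻¹) * u⁻¹ * k⁻¹ * v⁻¹ := by group
      _ = u * h * v * (h⁻¹ * k) * u⁻¹ * k⁻¹ * v⁻¹ := by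
        rw [show k * h⁻¹ = h⁻¹ * k from diag_comm C hk (inv_mem hh)]
      _ = _ := by group
  rw [e]
  exact mul_mem (mul_mem (mul_mem hu (N hh hv)) (N hk (inv_mem hu))) (inv_mem hv)

theorem commutator_upper_le (K : CommCert D T) {k : ℕ} (hk : D.nroots ≤ 2 * k) :
    ⁅upper C F k, upper C F k⁆ ≤ upper C F (k + 1) := by
  refine Subgroup.commutator_le.2 fun a ha b hb => ?_
  obtain ⟨t, a', ha', rfl⟩ := (upper_step C K hk).1 ha
  obtain ⟨u, b', hb', rfl⟩ := (upper_step C K hk).1 hb
  have N : ∀ (s : F) {x : GL D.Idx F}, x ∈ upper C F (k + 1) →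
      xg C k s * x * (xg C k s)⁻¹ ∈ upper C F (k + 1) := fun s x hx => conj_upper' C K hk s hx
  have hc : xg C k t * xg C k u = xg C k u * xg C k t := by rw [xg_add, xg_add, add_comm]
  have e : ⁅xg C k t * a', xg C k u * b'⁆ =
      (xg C k t * a' * (xg C k t)⁻¹) * (xg C k (t + u) * (b' * a'⁻¹) * (xg C k (t + u))⁻¹) *
        (xg C k u * b'⁻¹ * (xg C k u)⁻¹) := by
    rw [commutatorElement_def, ← xg_add]
    calc xg C k t * a' * (xg C k u * b') * (xg C k t * a')⁻¹ * (xg C k u * b')⁻¹
        = (xg C k t * a' * (xg C k t)⁻¹) * ((xg C k t * xg C k u) * (b' * a'⁻¹) *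
            ((xg C k t)⁻¹ * (xg C k u)⁻¹)) * (xg C k u * b'⁻¹ * (xg C k u)⁻¹) := by group
      _ = _ := by
        rw [show (xg C k t)⁻¹ * (xg C k u)⁻¹ = (xg C k t * xg C k u)⁻¹ by rw [hc, mul_inv_rev]]
  rw [e]
  exact mul_mem (mul_mem (N t ha') (N _ (mul_mem hb' (inv_mem ha')))) (N u (inv_mem hb'))

theorem borel_isSolvable (K : CommCert D T) : Group.IsSolvable ↥(D.borelSubgroup F) := by
  have key : ∀ m, (derivedSeries ↥(D.borelSubgroup F) (m + 1)).map (D.borelSubgroup F).subtype ≤
      upper C F (D.nroots / 2 + m) := by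
    intro m
    induction m with
    | zero =>
      show _ ≤ upper C F (D.nroots / 2)
      rw [← posUnipotent_eq C]
      calc (derivedSeries ↥(D.borelSubgroup F) (0 + 1)).map (D.borelSubgroup F).subtype
          = ⁅(⊤ : Subgroup ↥(D.borelSubgroup F)).map (D.borelSubgroup F).subtype,
              (⊤ : Subgroup ↥(D.borelSubgroup F)).map (D.borelSubgroup F).subtype⁆ := by
            rw [← Subgroup.map_commutator, derivedSeries_succ, derivedSeries_zero]
        _ ≤ D.posUnipotent F := by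
            rw [← MonoidHom.range_eq_map, Subgroup.range_subtype]; exact commutator_borel_le C
    | succ m ih =>
      rw [derivedSeries_succ, Subgroup.map_commutator]
      have := nroots_even C
      exact (Subgroup.commutator_mono ih ih).trans
        ((commutator_upper_le C K (by omega)).trans (upper_anti C (by omega)))
  refine ⟨D.nroots / 2 + 1, ?_⟩
  have h := key (D.nroots / 2)
  have := nroots_even C
  rw [upper_top C (by omega), le_bot_iff] at h
  exact (Subgroup.map_eq_bot_iff_of_injective _ Subtype.coe_injective).1 h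

end Cfsg.Lib.Chev
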