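import Mathlib
import Cfsg.Agent.Lib.Chev.NormalForm

/-!
Products of root elements along arbitrary lists of positive roots.
-/

set_option autoImplicit false

namespace Cfsg.Lib.Chev

open Cfsg.Lie

variable {D : ChevalleyDatum} {T : Tbl} {F : Type*} [Field F] (C : Cert D T)
include C

/-- The product of root elements along a list. -/
noncomputable def lprod (l : List ℕ) (t : ℕ → F) : GL D.Idx F := (l.map fun r => xg C r (t r)).prod

theorem lprod_nil (t : ℕ → F) : lprod C [] t = 1 := rfl

theorem lprod_cons (r : ℕ) (l : List ℕ) (t : ℕ → F) : lprod C (r :: l) t = xg C r (t r) * lprod C l t := by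
  simp [lprod]

theorem lprod_append (l m : List ℕ) (t : ℕ → F) : lprod C (l ++ m) t = lprod C l t * lprod C m t := by
  simp [lprod]

theorem lprod_congr {l : List ℕ} {t u : ℕ → F} (h : ∀ r ∈ l, t r = u r) : lprod C l t = lprod C l u := by
  simp only [lprod]; congr 1
  exact List.map_congr_left fun r hr => by rw [h r hr]

theorem lprod_zero (l : List ℕ) : lprod C l (fun _ => (0 : F)) = 1 := by
  induction l with
  | nil => rfl
  | cons r l ih => rw [lprod_cons, ih, xg_zero, mul_one]

theorem lprod_mem_upper {k : ℕ} {l : List ℕ} (hl : ∀ r ∈ l, k ≤ r) (t : ℕ → F) : lprod C l t ∈ upper C F k :=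
  list_prod_mem fun x hx => by
    obtain ⟨r, hr, rfl⟩ := List.mem_map.1 hx
    exact xg_mem_upper C (hl r hr) _

theorem lprod_mem_pos {l : List ℕ} (hl : ∀ r ∈ l, D.nroots / 2 ≤ r) (t : ℕ → F) :
    lprod C l t ∈ D.posUnipotent F := posUnipotent_eq C (F := F) ▸ lprod_mem_upper C hl t

variable (K : CommCert D T)
include K

theorem comm_mem_upper {r s : ℕ} (hr : D.nroots ≤ 2 * r) (hrn : r < D.nroots) (hs : D.nroots ≤ 2 * s)
    (hsn : s < D.nroots) (hne : r ≠ s) (t u : F) :
    (xg C r t)⁻¹ * (xg C s u)⁻¹ * xg C r t * xg C s u ∈ upper C F (s + 1) := by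
  have h2 : r ≠ T.neg s := by rw [C.neg_eq hsn]; omega
  obtain ⟨l, hl, e⟩ := comm_xg C K hsn hrn hne h2 u t
  have hW : (l.map fun p => xg C p.1 p.2).prod ∈ upper C F (s + 1) := by
    refine list_prod_mem fun x hx => ?_
    obtain ⟨p, hp, rfl⟩ := List.mem_map.1 hx
    obtain ⟨hp1, i, j, hi, hj, hw⟩ := hl p hp
    refine xg_mem_upper C ?_ _
    have hf := fun'_linear C hw
    have f1 := fun'_pos C hrn hr
    have f2 := fun'_pos C hsn hs
    have : fun' C s < fun' C p.1 := by
      have : (1 : ℤ) ≤ i := by exact_mod_cast hi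
      have : (1 : ℤ) ≤ j := by exact_mod_cast hj
      nlinarith
    have := (fun'_lt_iff C hsn hp1).1 this
    omega
  rw [show (xg C r t)⁻¹ * (xg C s u)⁻¹ * xg C r t * xg C s u =
    (xg C s u * xg C r t)⁻¹ * (xg C r t * xg C s u) by group, e, inv_mul_cancel_left]
  exact hW

/-- Positive elements act trivially on the root group of index `k` modulo the later ones. -/
theorem upper_central {k : ℕ} (hk : D.nroots ≤ 2 * k) (hkn : k < D.nroots) {a : GL D.Idx F}
    (ha : a ∈ D.posUnipotent F) :
    (∀ g ∈ upper C F (k + 1), a⁻¹ * g * a ∈ upper C F (k + 1)) ∧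
      ∀ d : F, (xg C k d)⁻¹ * a⁻¹ * xg C k d * a ∈ upper C F (k + 1) := by
  have gen : ∀ r, D.nroots ≤ 2 * r → r < D.nroots → ∀ t : F, ∀ g ∈ upper C F (k + 1),
      (xg C r t)⁻¹ * g * xg C r t ∈ upper C F (k + 1) := by
    intro r hr hrn t g hg
    induction hg using Subgroup.closure_induction with
    | mem g hg =>
      obtain ⟨s, u, h1, h2, rfl⟩ := hg
      by_cases hrs : r = s
      · subst hrs
        rw [xg_inv, xg_add, xg_add]
        exact xg_mem_upper C h1 _
      · have hx := comm_mem_upper C K (F := F) (by omega : D.nroots ≤ 2 * s) h2 hr hrn (Ne.symm hrs) u t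
        have hy := comm_mem_upper C K (F := F) hr hrn (by omega : D.nroots ≤ 2 * s) h2 hrs t (-u)
        rw [← xg_inv, inv_inv] at hy
        have hz := mul_mem (upper_anti C (F := F) (show k + 1 ≤ s + 1 by omega) hy)
          (xg_mem_upper C (F := F) h1 u)
        simpa [mul_assoc] using hz
    | one => simp
    | mul a b _ _ ha hb =>
      have := mul_mem ha hb
      simpa [mul_assoc] using this
    | inv a _ ha =>
      have := inv_mem ha
      simpa [mul_assoc] using this
  have hev := nroots_even C
  rw [posUnipotent_eq C, upper] at ha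
  induction ha using Subgroup.closure_induction'' with
  | mem a ha =>
    obtain ⟨r, t, h1, h2, rfl⟩ := ha
    refine ⟨gen r (by omega) h2 t, fun d => ?_⟩
    by_cases hrk : r = k
    · subst hrk
      rw [xg_inv, xg_inv, xg_add, xg_add, xg_add]
      rw [show -d + -t + d + t = 0 by ring, xg_zero]
      exact one_mem _
    · have hx := inv_mem (comm_mem_upper C K (F := F) (by omega : D.nroots ≤ 2 * r) h2 hk hkn hrk t d)
      simpa [mul_assoc] using hx
  | inv_mem a ha =>
    obtain ⟨r, t, h1, h2, rfl⟩ := ha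
    rw [xg_inv]
    refine ⟨gen r (by omega) h2 _, fun d => ?_⟩
    by_cases hrk : r = k
    · subst hrk
      rw [xg_inv, xg_inv, xg_add, xg_add, xg_add]
      rw [show -d + - -t + d + -t = 0 by ring, xg_zero]
      exact one_mem _
    · have hx := inv_mem (comm_mem_upper C K (F := F) (by omega : D.nroots ≤ 2 * r) h2 hk hkn hrk (-t) d)
      simpa [mul_assoc] using hx
  | one => simp
  | mul a b hx hy ha hb =>
    refine ⟨fun g hg => ?_, fun d => ?_⟩
    · have := hb.1 _ (ha.1 g hg)
      simpa [mul_assoc] using this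
    · have := mul_mem (hb.2 d) (hb.1 _ (ha.2 d))
      simpa [mul_assoc] using this

theorem lprod_agree {k : ℕ} (hk : D.nroots ≤ 2 * k) (hkn : k < D.nroots) {t u : ℕ → F} :
    ∀ {l : List ℕ}, l.Nodup → (∀ r ∈ l, D.nroots / 2 ≤ r ∧ r < D.nroots) → (∀ r ∈ l, r < k → t r = u r) →
      (xg C k (if k ∈ l then u k - t k else 0))⁻¹ * ((lprod C l t)⁻¹ * lprod C l u) ∈ upper C F (k + 1) := by
  intro l
  induction l with
  | nil => simp [lprod_nil, xg_zero]
  | cons r l ih =>
    intro hnd hl hag
    have hr := hl r (List.mem_cons_self ..)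
    have ih' := ih (List.nodup_cons.1 hnd).2 (fun x hx => hl x (List.mem_cons_of_mem _ hx))
      (fun x hx => hag x (List.mem_cons_of_mem _ hx))
    have hA : lprod C l t ∈ D.posUnipotent F := lprod_mem_pos C (fun x hx => (hl x (List.mem_cons_of_mem _ hx)).1) t
    have hcen := upper_central C K hk hkn hA
    have e : (lprod C (r :: l) t)⁻¹ * lprod C (r :: l) u =
        (lprod C l t)⁻¹ * xg C r (u r - t r) * lprod C l t * ((lprod C l t)⁻¹ * lprod C l u) := by
      rw [lprod_cons, lprod_cons, sub_eq_neg_add, ← xg_add, ← xg_inv]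
      group
    rw [e]
    rcases lt_trichotomy r k with hrk | rfl | hrk
    · rw [hag r (List.mem_cons_self ..) hrk, sub_self, xg_zero]
      simp only [List.mem_cons, hrk.ne', false_or, mul_one, inv_mul_cancel, one_mul]
      exact ih'
    · rw [if_pos (List.mem_cons_self ..)]
      rw [if_neg (List.nodup_cons.1 hnd).1, xg_zero, inv_one, one_mul] at ih'
      have := mul_mem (hcen.2 (u r - t r)) ih'
      simpa [mul_assoc] using this
    · simp only [List.mem_cons, hrk.ne, false_or]
      have hx := hcen.1 _ (xg_mem_upper C (F := F) (show k + 1 ≤ r by omega) (u r - t r))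
      have hy : ∀ d : F, ∀ g ∈ upper C F (k + 1), (xg C k d)⁻¹ * g * xg C k d ∈ upper C F (k + 1) := fun d g hg =>
        (upper_central C K hk hkn (by rw [posUnipotent_eq C]; exact xg_mem_upper C (by omega : D.nroots / 2 ≤ k) d)).1 g hg
      have := mul_mem (hy (if k ∈ l then u k - t k else 0) _ hx) ih'
      simpa [mul_assoc] using this

/-- Products along a list without repetitions determine the parameters. -/
theorem lprod_inj {l : List ℕ} (hnd : l.Nodup) (hl : ∀ r ∈ l, D.nroots / 2 ≤ r ∧ r < D.nroots) {t u : ℕ → F}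
    (e : lprod C l t = lprod C l u) : ∀ r ∈ l, t r = u r := by
  intro r
  induction r using Nat.strong_induction_on with
  | _ r ih =>
    intro hr
    have hev := nroots_even C
    have h := lprod_agree C K (k := r) (t := t) (u := u) (by have := hl r hr; omega) (hl r hr).2 hnd hl
      (fun x hx hxr => ih x hxr hx)
    rw [if_pos hr, e, inv_mul_cancel, mul_one] at h
    have := upper_unique C (F := F) (k := r) (by have := hl r hr; omega) (hl r hr).2 (t := u r - t r) (u := 0)
      (one_mem _) (inv_mem h) (by rw [xg_zero, one_mul, mul_one, inv_inv])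
    exact (sub_eq_zero.1 this.1).symm

/-- The elements given by parameters on a list. -/
def Pset (l : List ℕ) : Set (GL D.Idx F) := {g | ∃ t, g = lprod C l t}

end Cfsg.Lib.Chev
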