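import Mathlib
import Cfsg.Agent.Lib.Chev.Weyl

/-!
The order of a Chevalley group over a finite field.
-/

set_option autoImplicit false

namespace Cfsg.Lib.Chev

open Cfsg.Lie

variable {D : ChevalleyDatum} {T : Tbl} {F : Type*} [Field F] (C : Cert D T) (K : FullCert D T)
include C K

theorem signPart_congr {v w : List ℕ} (h : SamePerm D T v w) (b : Bool) (k : ℕ) :
    signPart C K F v b k = signPart C K F w b k := by
  refine congrArg Subgroup.closure (Set.ext fun g => exists_congr fun r => exists_congr fun t => ?_)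
  refine and_congr_right fun _ => and_congr_right fun hr => ?_
  rw [h r hr]

omit K in
theorem filter_length_eq (w : List ℕ) :
    ((List.range' (D.nroots / 2) (D.nroots / 2)).filter fun r => decide (2 * wperm T w r < D.nroots)).length =
      (negSet D T w).card := by
  classical
  have hev := nroots_even C
  rw [← List.toFinset_card_of_nodup (List.Nodup.filter _ List.nodup_range')]
  congr 1
  ext s
  simp only [List.toFinset_filter, Finset.mem_filter, List.mem_toFinset, List.mem_range'_1, decide_eq_true_eq,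
    mem_negSet]
  constructor
  · rintro ⟨⟨h1, h2⟩, h3⟩; exact ⟨by omega, by omega, h3⟩
  · rintro ⟨h1, h2, h3⟩; exact ⟨⟨by omega, by omega⟩, h3⟩

theorem card_pos [Finite F] : Nat.card ↥(D.posUnipotent F) = Nat.card F ^ (D.nroots / 2) := by
  obtain ⟨w, hw, hneg⟩ := exists_long C K
  have hev := nroots_even C
  have e : D.posUnipotent F = signPart C K F w true (D.nroots / 2) := by
    refine le_antisymm ((Subgroup.closure_le _).2 ?_) ((signPart_le_upper C K w true _).trans (posUnipotent_eq C).ge)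
    rintro g ⟨r, t, hr, e⟩
    have hp := (C.isPos_iff hr.1).1 hr
    rw [eq_xg C e]
    exact xg_mem_signPart C K (by omega) hr.1 (by simpa using hneg r hr.1 hp) t
  rw [e, card_signPart C K hw (D.nroots / 2) (by omega) (by omega)]
  congr 1
  rw [List.filter_eq_self.2 fun r hr => by
    have := List.mem_range'_1.1 hr
    simpa using hneg r (by omega) (by omega)]
  simp

omit K in
theorem card_borel : Nat.card ↥(D.borelSubgroup F) =
    Nat.card ↥(D.posUnipotent F) * Nat.card ↥(D.diagonalSubgroup F) := by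
  rw [← Nat.card_prod]
  refine (Nat.card_eq_of_bijective (fun p : ↥(D.posUnipotent F) × ↥(D.diagonalSubgroup F) =>
    (⟨(p.1 : GL D.Idx F) * p.2, (mem_borel C).2 ⟨_, p.1.2, _, p.2.2, rfl⟩⟩ : ↥(D.borelSubgroup F))) ⟨?_, ?_⟩).symm
  · rintro ⟨u, h⟩ ⟨v, k⟩ e
    have e' := congrArg Subtype.val e
    simp only at e'
    have hd : (v : GL D.Idx F)⁻¹ * u = k * (h : GL D.Idx F)⁻¹ := by
      calc (v : GL D.Idx F)⁻¹ * u = (v : GL D.Idx F)⁻¹ * ((u : GL D.Idx F) * h) * (h : GL D.Idx F)⁻¹ := by group
        _ = _ := by rw [e']; group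
    have h1 : (v : GL D.Idx F)⁻¹ * u = 1 := (Subgroup.eq_bot_iff_forall _).1 (pos_inf_diag C) _
      ⟨Subgroup.mul_mem _ (Subgroup.inv_mem _ v.2) u.2, hd ▸ Subgroup.mul_mem _ k.2 (Subgroup.inv_mem _ h.2)⟩
    obtain rfl : v = u := Subtype.ext (inv_mul_eq_one.1 h1)
    exact Prod.ext rfl (Subtype.ext (mul_left_cancel e'))
  · intro g
    obtain ⟨u, hu, h, hh, e⟩ := (mem_borel C).1 g.2
    exact ⟨(⟨u, hu⟩, ⟨h, hh⟩), Subtype.ext e.symm⟩

theorem card_group [Finite F] {Ls : List WLevel} (hW : chkWeyl T Ls = true) :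
    Nat.card ↥(D.group F) = Nat.card F ^ (D.nroots / 2) * Nat.card ↥(D.diagonalSubgroup F) *
      ∏ j ∈ Finset.range D.rank,
        (((nth ([], []) Ls j).1.map fun R => R.2.1.length).map fun e => Nat.card F ^ e).sum := by
  classical
  haveI : Finite (GL D.Idx F) := inferInstance
  have hev := nroots_even C
  rw [← card_pos C K, ← card_borel C, ← allW_sum C K hW _ _ le_rfl]
  let W := allW (nth ([], []) Ls) D.rank
  have hWw : ∀ a : Fin W.length, IsWord D W[a] := fun a =>
    (allW_below C K hW _ le_rfl _ (List.getElem_mem a.2)).isWord le_rfl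
  let f : (Σ a : Fin W.length, ↥(D.borelSubgroup F) × ↥(signPart C K F W[a] true (D.nroots / 2))) → ↥(D.group F) :=
    fun p => ⟨(p.2.1 : GL D.Idx F) * wnu C F W[p.1] * p.2.2,
      mul_mem (mul_mem (borel_le_group C p.2.1.2) (wnu_mem_group C (hWw p.1)))
        (borel_le_group C (signPart_le_borel C K _ _ p.2.2.2))⟩
  have hf : Function.Bijective f := by
    refine ⟨?_, ?_⟩
    · rintro ⟨a, b, u⟩ ⟨a', b', u'⟩ e
      have e' : (b : GL D.Idx F) * wnu C F W[a] * u = b' * wnu C F W[a'] * u' := congrArg Subtype.val e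
      have hsame := cells_disjoint C K b.2 b'.2 (wnu_mem C (hWw a)) (wnu_mem C (hWw a'))
        (signPart_le_borel C K _ _ u.2) (signPart_le_borel C K _ _ u'.2) e'
      have hperm : SamePerm D T W[a] W[a'] := fun s hs => perm_of_same C (hWw a) (hWw a') hsame hs
      obtain rfl : a = a' := by
        by_contra hne
        have hpw := List.pairwise_iff_getElem.1 (allW_pairwise C K hW _ le_rfl)
        rcases Nat.lt_or_gt_of_ne (fun h => hne (Fin.ext h)) with hlt | hlt
        · exact hpw _ _ a.2 a'.2 hlt hperm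
        · exact hpw _ _ a'.2 a.2 hlt hperm.symm
      obtain ⟨h1, h2⟩ := cell_unique C b.2 b'.2
        ((signPart_conj C K (hWw a) (k := D.nroots / 2)).1 (mul_mem u'.2 (inv_mem u.2))) e'
      rw [Subtype.ext h1, Subtype.ext h2]
    · intro g
      obtain ⟨w, hw, b, hb, c, hc, e⟩ := bruhat_normal C K g.2
      obtain ⟨v, hv, hperm⟩ := allW_complete C K hW _ le_rfl w hw
      obtain ⟨a, ha, rfl⟩ := List.getElem_of_mem hv
      have hvw : IsWord D W[a] := hWw ⟨a, ha⟩
      have hd : (wnu C F W[a])⁻¹ * wnu C F w ∈ D.diagonalSubgroup F :=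
        same_of_perm C K hvw hw fun k hk => hperm _ (C.spec.simp_lt k hk)
      have hd' : wnu C F W[a] * ((wnu C F W[a])⁻¹ * wnu C F w) * (wnu C F W[a])⁻¹ ∈ D.borelSubgroup F :=
        Subgroup.mem_sup_right (conj_mem_diag C (wnu_mem C hvw) hd).1
      refine ⟨⟨⟨a, ha⟩, ⟨_, mul_mem hb hd'⟩, ⟨c, (signPart_congr C K hperm true _).ge hc⟩⟩, Subtype.ext ?_⟩
      show b * (wnu C F W[a] * ((wnu C F W[a])⁻¹ * wnu C F w) * (wnu C F W[a])⁻¹) * wnu C F W[a] * c = _
      rw [e]; group
  rw [← Nat.card_eq_of_bijective f hf, Nat.card_sigma, ← List.sum_map_mul_left]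
  have hterm : ∀ a : Fin W.length,
      Nat.card (↥(D.borelSubgroup F) × ↥(signPart C K F W[a] true (D.nroots / 2))) =
        Nat.card ↥(D.borelSubgroup F) * Nat.card F ^ (negSet D T W[a]).card := fun a => by
    rw [Nat.card_prod, card_signPart C K (hWw a) (D.nroots / 2) (by omega) (by omega), filter_length_eq C]
  rw [Finset.sum_congr rfl fun a _ => hterm a, ← List.sum_ofFn]
  exact congrArg List.sum
    (List.ofFn_getElem_eq_map W fun u => Nat.card ↥(D.borelSubgroup F) * Nat.card F ^ (negSet D T u).card)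

end Cfsg.Lib.Chev
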