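import Mathlib
import Cfsg.Agent.Lib.Chev.Card
import Cfsg.Agent.Lib.Chev.Torus

/-!
`B` is the normaliser of `U`, and `U` is a Sylow subgroup in the defining characteristic.
-/

set_option autoImplicit false

namespace Cfsg.Lib.Chev

open Cfsg.Lie

variable {D : ChevalleyDatum} {T : Tbl} {F : Type*} [Field F] (C : Cert D T)
include C

theorem not_inRootSub_empty {r : ℕ} : ¬ D.InRootSub (∅ : Set ℕ) r := fun h => by
  obtain ⟨k, hk, hne⟩ := coroot_exists_ne C h.1
  exact hne (((inRootSub_iff C).1 h).2 k hk (Set.notMem_empty k))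

theorem radical_empty : D.unipotentRadical F (∅ : Set ℕ) = D.posUnipotent F :=
  congrArg Subgroup.closure (Set.ext fun _ => exists_congr fun _ => exists_congr fun _ =>
    ⟨fun h => ⟨h.1, h.2.2⟩, fun h => ⟨h.1, not_inRootSub_empty C, h.2⟩⟩)

omit C in
theorem parabolic_empty : D.parabolicSubgroup F (∅ : Set ℕ) = D.borelSubgroup F := by
  rw [ChevalleyDatum.parabolicSubgroup]
  simp

theorem normalizer_pos (K : FullCert D T) :
    Subgroup.normalizer (D.posUnipotent F : Set (GL D.Idx F)) ⊓ D.group F = D.borelSubgroup F := by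
  rw [← radical_empty C, normalizer_radical C K, parabolic_empty]

theorem card_diagonal_dvd [Finite F] :
    Nat.card ↥(D.diagonalSubgroup F) ∣ (Nat.card F - 1) ^ D.rank := by
  classical
  have := Fintype.ofFinite F
  rw [← torusHom_range C]
  refine (Subgroup.card_range_dvd (torusHom D T F)).trans ?_
  rw [Nat.card_pi, Finset.prod_const, Nat.card_units]
  simp

theorem exists_sylow [Finite F] (K : FullCert D T) (p : ℕ) [Fact p.Prime] [CharP F p] :
    ∃ P : Sylow p ↥(D.group F), (P : Subgroup ↥(D.group F)) = (D.posUnipotent F).subgroupOf (D.group F) := by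
  classical
  have := Fintype.ofFinite F
  have hp : p.Prime := Fact.out
  obtain ⟨a, hp', hq⟩ := FiniteField.card F p
  rw [← Nat.card_eq_fintype_card] at hq
  let U := (D.posUnipotent F).subgroupOf (D.group F)
  have hU : IsPGroup p ↥U := IsPGroup.of_card (n := (a : ℕ) * (D.nroots / 2)) (by
    rw [Nat.card_congr (Subgroup.subgroupOfEquivOfLe (pos_le_group C)).toEquiv, card_pos C K, hq, ← pow_mul])
  obtain ⟨P, hUP⟩ := hU.exists_le_sylow
  refine ⟨P, le_antisymm ?_ hUP⟩
  by_contra hnle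
  obtain ⟨m, hm⟩ := IsPGroup.iff_card.1 P.isPGroup'
  have hnil : Group.IsNilpotent ↥(P : Subgroup ↥(D.group F)) := P.isPGroup'.isNilpotent
  have hne : U.subgroupOf (P : Subgroup ↥(D.group F)) ≠ ⊤ := fun e => hnle (Subgroup.subgroupOf_eq_top.1 e)
  obtain ⟨x, hxN, hxU⟩ := SetLike.exists_of_lt
    (Group.normalizerCondition_of_isNilpotent (U.subgroupOf (P : Subgroup ↥(D.group F))) hne.lt_top)
  have hxN' : (x : ↥(D.group F)) ∈ Subgroup.normalizer (U : Set ↥(D.group F)) := by
    refine Subgroup.mem_normalizer_iff.2 fun y => ⟨fun hy => ?_, fun hy => ?_⟩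
    · exact (Subgroup.mem_normalizer_iff.1 hxN ⟨y, hUP hy⟩).1 hy
    · have hy' : y ∈ (P : Subgroup ↥(D.group F)) := by
        have := mul_mem (mul_mem (inv_mem x.2) (hUP hy)) x.2
        simpa [mul_assoc] using this
      exact (Subgroup.mem_normalizer_iff.1 hxN ⟨y, hy'⟩).2 hy
  have hxB : ((x : ↥(D.group F)) : GL D.Idx F) ∈ D.borelSubgroup F := by
    rw [← normalizer_pos C K]
    refine Subgroup.mem_inf.2 ⟨Subgroup.mem_normalizer_iff.2 fun y => ⟨fun hy => ?_, fun hy => ?_⟩, (x : ↥(D.group F)).2⟩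
    · exact (Subgroup.mem_normalizer_iff.1 hxN' ⟨y, pos_le_group C hy⟩).1 hy
    · have hy' : y ∈ D.group F := by
        have := mul_mem (mul_mem (inv_mem (x : ↥(D.group F)).2) (pos_le_group C hy)) (x : ↥(D.group F)).2
        simpa [mul_assoc] using this
      exact (Subgroup.mem_normalizer_iff.1 hxN' ⟨y, hy'⟩).2 hy
  let M : Subgroup ↥(D.group F) := U ⊔ Subgroup.closure {(x : ↥(D.group F))}
  have hMP : M ≤ (P : Subgroup ↥(D.group F)) := sup_le hUP (by simpa using x.2)
  have hMB : M ≤ (D.borelSubgroup F).subgroupOf (D.group F) :=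
    sup_le (fun y hy => Subgroup.mem_sup_left hy) (by simpa [Subgroup.mem_subgroupOf] using hxB)
  obtain ⟨k, hk⟩ := IsPGroup.iff_card.1 (P.isPGroup'.to_le hMP)
  have hdvd : p ^ k ∣ Nat.card F ^ (D.nroots / 2) * Nat.card ↥(D.diagonalSubgroup F) := by
    rw [← hk, ← card_pos C K, ← card_borel C,
      ← Nat.card_congr (Subgroup.subgroupOfEquivOfLe (borel_le_group C (F := F))).toEquiv]
    exact Subgroup.card_dvd_of_le hMB
  have hq1 : ¬ p ∣ Nat.card F - 1 := by
    intro h
    have hpq : p ∣ Nat.card F := hq ▸ dvd_pow_self p a.ne_zero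
    have h1 : 1 ≤ Nat.card F := Nat.card_pos
    have : p ∣ Nat.card F - (Nat.card F - 1) := Nat.dvd_sub hpq h
    rw [show Nat.card F - (Nat.card F - 1) = 1 by omega] at this
    exact hp.not_dvd_one this
  have hcop : Nat.Coprime (p ^ k) (Nat.card ↥(D.diagonalSubgroup F)) :=
    Nat.Coprime.coprime_dvd_right (card_diagonal_dvd C)
      (Nat.Coprime.pow k _ ((Nat.Prime.coprime_iff_not_dvd hp).2 hq1))
  have hle : Nat.card ↥M ≤ Nat.card ↥U := by
    rw [hk, Nat.card_congr (Subgroup.subgroupOfEquivOfLe (pos_le_group C (F := F))).toEquiv, card_pos C K]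
    exact Nat.le_of_dvd (pow_pos Nat.card_pos _) (hcop.dvd_of_dvd_mul_right hdvd)
  have : U = M := Subgroup.eq_of_le_of_card_ge le_sup_left hle
  exact hxU (show (x : ↥(D.group F)) ∈ U by rw [this]; exact Subgroup.mem_sup_right (Subgroup.subset_closure rfl))

end Cfsg.Lib.Chev
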