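import Mathlib
import Cfsg.Agent.Lib.Chev.Weyl
import Cfsg.Agent.Lib.Chev.Sylow

/-!
The combinatorics of a twisted root system: the elements of the Weyl group commuting with a
symmetry, listed by a certificate, and the classes of positive roots.
-/

set_option autoImplicit false

namespace Cfsg.Lib.Chev

open Cfsg.Lie

/-- An element of the fixed Weyl group: parent, last orbit, orbit word, images of the fundamental
roots, table of left multiplication, length. -/
structure TwElt where
  par : ℕ
  last : ℕ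
  ow : List ℕ
  img : List ℕ
  nxt : List ℕ
  len : ℕ

/-- The data of a twisted root system. -/
structure TwData where
  root : ℕ → ℕ
  node : ℕ → ℕ
  orbs : List (List ℕ)
  lws : List (List ℕ)
  bases : List (List ℕ)
  elts : List TwElt
  classes : List (ℕ × ℕ)

/-- The nodes of an orbit. -/
noncomputable def TwData.orb (τ : TwData) (J : ℕ) : List ℕ := nth [] τ.orbs J
/-- The word of the longest element of an orbit. -/
noncomputable def TwData.lw (τ : TwData) (J : ℕ) : List ℕ := nth [] τ.lws J
/-- The positive roots of an orbit. -/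
noncomputable def TwData.base (τ : TwData) (J : ℕ) : List ℕ := nth [] τ.bases J
/-- The number of orbits. -/
def TwData.norb (τ : TwData) : ℕ := τ.orbs.length
/-- The element with index `e`. -/
noncomputable def TwData.elt (τ : TwData) (e : ℕ) : TwElt := nth ⟨0, 0, [], [], [], 0⟩ τ.elts e
/-- The word of an orbit word. -/
noncomputable def TwData.oword (τ : TwData) (l : List ℕ) : List ℕ := l.flatMap τ.lw
/-- The word of the element with index `e`. -/
noncomputable def TwData.eword (τ : TwData) (e : ℕ) : List ℕ := τ.oword (τ.elt e).ow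
/-- The roots of the class `c`. -/
noncomputable def TwData.cls (τ : TwData) (T : Tbl) (c : ℕ × ℕ) : List ℕ :=
  (τ.base c.1).map (wperm T (τ.eword c.2))

/-- The check of the symmetry and the orbits. -/
noncomputable def chkTwBase (T : Tbl) (τ : TwData) : Bool :=
  allBelow (fun i => Nat.blt (τ.node i) T.rank && (Nat.beq (τ.root (T.simp' i)) (T.simp' (τ.node i)) &&
    ((List.range τ.norb).any fun J => (τ.orb J).any (Nat.beq i)))) T.rank &&
  allBelow (fun r => Nat.blt (τ.root r) T.nroots && ((Nat.ble T.nroots (2 * r) == Nat.ble T.nroots (2 * τ.root r)) &&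
    ((List.range T.nroots).all (fun s => !Nat.beq (τ.root r) (τ.root s) || Nat.beq r s) &&
    allBelow (fun i => Nat.beq (τ.root (T.refl' i r)) (T.refl' (τ.node i) (τ.root r))) T.rank))) T.nroots &&
  allBelow (fun J => !(τ.orb J).isEmpty && ((τ.orb J).all (fun i => Nat.blt i T.rank && ((τ.orb J).any (Nat.beq (τ.node i)) &&
      (τ.orb J).all fun j => (List.range T.rank).any fun m => Nat.beq (τ.node^[m] i) j)) &&
    ((τ.lw J).all (fun i => Nat.blt i T.rank) && (((τ.base J).all fun r => Nat.blt r T.nroots) && (decide (τ.base J).Nodup &&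
    allBelow (fun r => Nat.beq (wperm T (τ.lw J) (τ.root r)) (τ.root (wperm T (τ.lw J) r)) &&
      (Nat.beq (wperm T (τ.lw J) (wperm T (τ.lw J) r)) r &&
      (((τ.base J).any (Nat.beq r) == (Nat.ble T.nroots (2 * r) && Nat.blt (2 * wperm T (τ.lw J) r) T.nroots)) &&
      (((τ.base J).any (Nat.beq r) == (Nat.ble T.nroots (2 * r) &&
        allBelow (fun k => (τ.orb J).any (Nat.beq k) || decide (T.coroot r k = 0)) T.rank)) &&
      (!(τ.base J).any (Nat.beq r) || ((τ.base J).any (Nat.beq (T.neg (wperm T (τ.lw J) r)))))))))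
      T.nroots))))) τ.norb

/-- The check of one element. -/
noncomputable def chkTwElt (T : Tbl) (τ : TwData) (e : ℕ) : Bool :=
  let E := τ.elt e
  let P := τ.elt E.par
  (bif Nat.beq e 0 then eqNats E.ow [] && (Nat.beq E.len 0 &&
      allBelow (fun k => Nat.beq (nth 0 E.img k) (T.simp' k)) T.rank)
    else Nat.blt E.par e && (Nat.blt E.last τ.norb && (eqNats E.ow (E.last :: P.ow) &&
      (Nat.beq E.len (P.len + (τ.base E.last).length) &&
      (allBelow (fun k => Nat.beq (nth 0 E.img k) (wperm T (τ.lw E.last) (nth 0 P.img k))) T.rank &&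
      Nat.ble T.nroots (2 * wperm T (τ.oword P.ow).reverse (T.simp' (nth 0 (τ.orb E.last) 0)))))))) &&
  allBelow (fun J => Nat.blt (nth 0 E.nxt J) τ.elts.length &&
    allBelow (fun k => Nat.beq (wperm T (τ.lw J) (nth 0 E.img k)) (nth 0 (τ.elt (nth 0 E.nxt J)).img k)) T.rank) τ.norb

/-- The key of an element. -/
noncomputable def twKey (T : Tbl) (E : TwElt) : ℕ :=
  ((List.range T.rank).map fun k => nth 0 E.img k).foldl (fun z x => z * 256 + x) 0

/-- No number occurs twice. -/
noncomputable def neKeys (l : List ℕ) : Bool :=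
  List.rec (motive := fun _ => Bool) true (fun x m r =>
    List.rec (motive := fun _ => Bool) true (fun y _ a => bif Nat.beq x y then false else a) m && r) l

theorem neKeys_iff : ∀ l : List ℕ, neKeys l = true → l.Pairwise (· ≠ ·)
  | [], _ => List.Pairwise.nil
  | x :: m, h => by
    change ((List.rec (motive := fun _ => Bool) true (fun y _ a => bif Nat.beq x y then false else a) m) &&
      neKeys m) = true at h
    rw [Bool.and_eq_true] at h
    refine List.pairwise_cons.2 ⟨?_, neKeys_iff m h.2⟩
    have h1 := h.1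
    clear h
    induction m with
    | nil => simp
    | cons y m ih =>
      intro a ha
      cases hxy : Nat.beq x y
      · change (bif Nat.beq x y then false else _) = true at h1
        rw [hxy, cond_false] at h1
        rcases List.mem_cons.1 ha with rfl | ha
        · intro e; rw [e, Nat.beq_refl] at hxy; exact Bool.noConfusion hxy
        · exact ih h1 a ha
      · change (bif Nat.beq x y then false else _) = true at h1
        rw [hxy, cond_true] at h1
        exact Bool.noConfusion h1

/-- The check of the elements. -/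
noncomputable def chkTwElts (T : Tbl) (τ : TwData) : Bool :=
  Nat.blt 0 τ.elts.length && (allBelow (chkTwElt T τ) τ.elts.length &&
    neKeys (τ.elts.map (twKey T)))

/-- The check of the classes. -/
noncomputable def chkTwClasses (T : Tbl) (τ : TwData) : Bool :=
  (τ.classes.all fun c => Nat.blt c.1 τ.norb && Nat.blt c.2 τ.elts.length) &&
    (decide (τ.classes.flatMap (τ.cls T)).Nodup &&
    ((τ.classes.flatMap (τ.cls T)).all (fun r => Nat.blt r T.nroots && Nat.ble T.nroots (2 * r)) &&
    Nat.beq (2 * (τ.classes.flatMap (τ.cls T)).length) T.nroots))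

variable {D : ChevalleyDatum} {T : Tbl}

/-- A word commutes with the symmetry. -/
def TwInv (D : ChevalleyDatum) (T : Tbl) (τ : TwData) (w : List ℕ) : Prop :=
  ∀ r < D.nroots, wperm T w (τ.root r) = τ.root (wperm T w r)

/-- The facts expressed by the checks. -/
structure TwComb (D : ChevalleyDatum) (T : Tbl) (τ : TwData) : Prop where
  node_lt : ∀ i < D.rank, τ.node i < D.rank
  root_simple : ∀ i < D.rank, τ.root (T.simp' i) = T.simp' (τ.node i)
  orb_cover : ∀ i < D.rank, ∃ J < τ.norb, i ∈ τ.orb J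
  root_lt : ∀ r < D.nroots, τ.root r < D.nroots
  root_pos : ∀ r < D.nroots, D.nroots ≤ 2 * r ↔ D.nroots ≤ 2 * τ.root r
  root_inj : ∀ r < D.nroots, ∀ s < D.nroots, τ.root r = τ.root s → r = s
  root_refl : ∀ i < D.rank, ∀ r < D.nroots, τ.root (T.refl' i r) = T.refl' (τ.node i) (τ.root r)
  orb_ne : ∀ J < τ.norb, τ.orb J ≠ []
  orb_lt : ∀ J < τ.norb, ∀ i ∈ τ.orb J, i < D.rank
  orb_node : ∀ J < τ.norb, ∀ i ∈ τ.orb J, τ.node i ∈ τ.orb J
  orb_trans : ∀ J < τ.norb, ∀ i ∈ τ.orb J, ∀ j ∈ τ.orb J, ∃ m, τ.node^[m] i = j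
  lw_word : ∀ J < τ.norb, IsWord D (τ.lw J)
  base_lt : ∀ J < τ.norb, ∀ r ∈ τ.base J, r < D.nroots
  base_nodup : ∀ J < τ.norb, (τ.base J).Nodup
  lw_inv : ∀ J < τ.norb, TwInv D T τ (τ.lw J)
  lw_sq : ∀ J < τ.norb, ∀ r < D.nroots, wperm T (τ.lw J) (wperm T (τ.lw J) r) = r
  base_neg : ∀ J < τ.norb, ∀ r < D.nroots,
    r ∈ τ.base J ↔ (D.nroots ≤ 2 * r ∧ 2 * wperm T (τ.lw J) r < D.nroots)
  base_sub : ∀ J < τ.norb, ∀ r < D.nroots,
    r ∈ τ.base J ↔ (D.nroots ≤ 2 * r ∧ D.InRootSub {k | k ∈ τ.orb J} r)
  base_opp : ∀ J < τ.norb, ∀ r < D.nroots, r ∈ τ.base J → T.neg (wperm T (τ.lw J) r) ∈ τ.base J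
  elts_ne : 0 < τ.elts.length
  elt_zero : (τ.elt 0).ow = [] ∧ (τ.elt 0).len = 0 ∧ ∀ k < D.rank, nth 0 (τ.elt 0).img k = T.simp' k
  elt_step : ∀ e < τ.elts.length, e ≠ 0 → (τ.elt e).par < e ∧ (τ.elt e).last < τ.norb ∧
    (τ.elt e).ow = (τ.elt e).last :: (τ.elt (τ.elt e).par).ow ∧
    (τ.elt e).len = (τ.elt (τ.elt e).par).len + (τ.base (τ.elt e).last).length ∧
    (∀ k < D.rank, nth 0 (τ.elt e).img k = wperm T (τ.lw (τ.elt e).last) (nth 0 (τ.elt (τ.elt e).par).img k)) ∧
    D.nroots ≤ 2 * wperm T (τ.eword (τ.elt e).par).reverse (T.simp' (nth 0 (τ.orb (τ.elt e).last) 0))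
  elt_next : ∀ e < τ.elts.length, ∀ J < τ.norb, nth 0 (τ.elt e).nxt J < τ.elts.length ∧
    ∀ k < D.rank, wperm T (τ.lw J) (nth 0 (τ.elt e).img k) = nth 0 (τ.elt (nth 0 (τ.elt e).nxt J)).img k
  elt_key : (τ.elts.map (twKey T)).Pairwise (· ≠ ·)
  class_lt : ∀ c ∈ τ.classes, c.1 < τ.norb ∧ c.2 < τ.elts.length
  class_nodup : (τ.classes.flatMap (τ.cls T)).Nodup
  class_pos : ∀ r ∈ τ.classes.flatMap (τ.cls T), r < D.nroots ∧ D.nroots ≤ 2 * r
  class_card : 2 * (τ.classes.flatMap (τ.cls T)).length = D.nroots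

private theorem any_beq {l : List ℕ} {r : ℕ} : (l.any (Nat.beq r)) = true ↔ r ∈ l := by
  simp [List.any_eq_true]

theorem twComb_of_chk (C : Cert D T) {τ : TwData} (h1 : chkTwBase T τ = true)
    (h2 : chkTwElts T τ = true) (h3 : chkTwClasses T τ = true) : TwComb D T τ := by
  have H := C.spec.shape
  simp only [chkTwBase, Bool.and_eq_true, allBelow_iff, Nat.blt_eq, Nat.beq_eq, H.rank_eq, H.nroots_eq,
    List.all_eq_true, decide_eq_true_eq, beq_iff_eq, Bool.not_eq_true'] at h1
  simp only [chkTwElts, Bool.and_eq_true, allBelow_iff, Nat.blt_eq, decide_eq_true_eq] at h2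
  simp only [chkTwClasses, Bool.and_eq_true, Nat.blt_eq, Nat.beq_eq, List.all_eq_true, decide_eq_true_eq,
    Nat.ble_eq, H.nroots_eq] at h3
  obtain ⟨⟨hA, hB⟩, hC⟩ := h1
  obtain ⟨hne, hE, hkey⟩ := h2
  obtain ⟨hcl, hnd, hp, hlen⟩ := h3
  have hE' : ∀ e < τ.elts.length, _ := hE
  simp only [chkTwElt, Bool.and_eq_true, allBelow_iff, Nat.blt_eq, Nat.beq_eq, H.rank_eq, H.nroots_eq] at hE'
  exact
    { node_lt := fun i hi => (hA i hi).1
      root_simple := fun i hi => (hA i hi).2.1
      orb_cover := fun i hi => by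
        obtain ⟨J, hJ, h⟩ := List.any_eq_true.1 (hA i hi).2.2
        exact ⟨J, List.mem_range.1 hJ, any_beq.1 h⟩
      root_lt := fun r hr => (hB r hr).1
      root_pos := fun r hr => by
        have := (hB r hr).2.1
        rw [Bool.eq_iff_iff, Nat.ble_eq, Nat.ble_eq] at this
        exact this
      root_inj := fun r hr s hs e => by
        have := (hB r hr).2.2.1 s (List.mem_range.2 (H.nroots_eq ▸ hs))
        rcases Bool.or_eq_true _ _ |>.mp this with h' | h'
        · rw [Bool.not_eq_true'] at h'; rw [e, Nat.beq_refl] at h'; exact Bool.noConfusion h'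
        · exact Nat.eq_of_beq_eq_true h'
      root_refl := fun i hi r hr => (hB r hr).2.2.2 i hi
      orb_ne := fun J hJ e => by have := (hC J hJ).1; rw [e] at this; simp at this
      orb_lt := fun J hJ i hi => ((hC J hJ).2.1 i hi).1
      orb_node := fun J hJ i hi => any_beq.1 ((hC J hJ).2.1 i hi).2.1
      orb_trans := fun J hJ i hi j hj => by
        obtain ⟨m, -, hm⟩ := List.any_eq_true.1 (((hC J hJ).2.1 i hi).2.2 j hj)
        exact ⟨m, by simpa using hm⟩
      lw_word := fun J hJ i hi => (hC J hJ).2.2.1 i hi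
      base_lt := fun J hJ r hr => (hC J hJ).2.2.2.1 r hr
      base_nodup := fun J hJ => (hC J hJ).2.2.2.2.1
      lw_inv := fun J hJ r hr => ((hC J hJ).2.2.2.2.2 r hr).1
      lw_sq := fun J hJ r hr => ((hC J hJ).2.2.2.2.2 r hr).2.1
      base_neg := fun J hJ r hr => by
        have := ((hC J hJ).2.2.2.2.2 r hr).2.2.1
        rw [Bool.eq_iff_iff, any_beq, Bool.and_eq_true, Nat.ble_eq, Nat.blt_eq] at this
        exact this
      base_sub := fun J hJ r hr => by
        have := ((hC J hJ).2.2.2.2.2 r hr).2.2.2.1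
        rw [Bool.eq_iff_iff, any_beq, Bool.and_eq_true, Nat.ble_eq, allBelow_iff] at this
        rw [this, inRootSub_iff C]
        simp only [Bool.or_eq_true, any_beq, decide_eq_true_eq, Set.mem_setOf_eq, hr, true_and, or_iff_not_imp_left]
      base_opp := fun J hJ r hr hb => by
        have := ((hC J hJ).2.2.2.2.2 r hr).2.2.2.2
        rw [Bool.or_eq_true, Bool.not_eq_true', any_beq] at this
        rcases this with h | h
        · rw [any_beq.2 hb] at h; exact Bool.noConfusion h
        · exact h
      elts_ne := hne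
      elt_zero := by
        have := (hE' 0 hne).1
        simp only [Nat.beq_refl, cond_true, Bool.and_eq_true, allBelow_iff, Nat.beq_eq, H.rank_eq] at this
        exact ⟨eqNats_iff _ _ this.1, this.2.1, this.2.2⟩
      elt_step := fun e he h0 => by
        have := (hE' e he).1
        rw [show Nat.beq e 0 = false by cases e with | zero => exact absurd rfl h0 | succ n => rfl, cond_false] at this
        simp only [Bool.and_eq_true, allBelow_iff, Nat.beq_eq, Nat.blt_eq, Nat.ble_eq, H.rank_eq, H.nroots_eq] at this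
        exact ⟨this.1, this.2.1, eqNats_iff _ _ this.2.2.1, this.2.2.2.1, this.2.2.2.2.1, this.2.2.2.2.2⟩
      elt_next := fun e he J hJ => (hE' e he).2 J hJ
      elt_key := neKeys_iff _ hkey
      class_lt := fun c hc => by simpa using hcl c hc
      class_nodup := hnd
      class_pos := fun r hr => by simpa using hp r hr
      class_card := hlen }

variable {τ : TwData} (C : Cert D T) (K : FullCert D T) (h : TwComb D T τ)
include C h

omit C in
theorem TwComb.node_iterate_lt {i : ℕ} (hi : i < D.rank) : ∀ m, τ.node^[m] i < D.rank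
  | 0 => hi
  | m + 1 => by rw [Function.iterate_succ_apply']; exact h.node_lt _ (TwComb.node_iterate_lt hi m)

omit C in
theorem TwComb.root_iterate {i : ℕ} (hi : i < D.rank) : ∀ m, τ.root^[m] (T.simp' i) = T.simp' (τ.node^[m] i)
  | 0 => rfl
  | m + 1 => by
    rw [Function.iterate_succ_apply', Function.iterate_succ_apply', TwComb.root_iterate hi m,
      h.root_simple _ (h.node_iterate_lt hi m)]

theorem TwComb.root_wperm {w : List ℕ} (hw : IsWord D w) {r : ℕ} (hr : r < D.nroots) :
    τ.root (wperm T w r) = wperm T (w.map τ.node) (τ.root r) := by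
  induction w with
  | nil => rfl
  | cons i w ih =>
    show τ.root (T.refl' i (wperm T w r)) = T.refl' (τ.node i) (wperm T (w.map τ.node) (τ.root r))
    rw [h.root_refl i hw.tail.1 _ (wperm_lt C hw.tail.2 hr), ih hw.tail.2]

omit C in
theorem TwComb.map_node_word {w : List ℕ} (hw : IsWord D w) : IsWord D (w.map τ.node) := fun j hj => by
  obtain ⟨i, hi, rfl⟩ := List.mem_map.1 hj
  exact h.node_lt i (hw i hi)

theorem TwComb.inv_of_same {w : List ℕ} (hw : IsWord D w) (hs : SamePerm D T (w.map τ.node) w) :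
    TwInv D T τ w := fun r hr => by
  rw [h.root_wperm C hw hr]
  exact (hs _ (h.root_lt r hr)).symm

omit C h in
theorem TwInv.congr {v w : List ℕ} (ht : ∀ r < D.nroots, τ.root r < D.nroots) (e : SamePerm D T v w)
    (hv : TwInv D T τ v) : TwInv D T τ w :=
  fun r hr => by rw [← e _ (ht r hr), hv r hr, e r hr]

theorem TwInv.append {v w : List ℕ} (hw' : IsWord D w) (hv : TwInv D T τ v) (hw : TwInv D T τ w) :
    TwInv D T τ (v ++ w) := fun r hr => by
  rw [wperm_append, wperm_append, hw r hr, hv _ (wperm_lt C hw' hr)]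

theorem TwInv.reverse {w : List ℕ} (hw' : IsWord D w) (hw : TwInv D T τ w) : TwInv D T τ w.reverse := fun r hr => by
  have hr' := wperm_lt C hw'.reverse hr
  have e : wperm T w (wperm T w.reverse r) = r := by
    have := wperm_reverse C hw'.reverse hr
    rwa [List.reverse_reverse] at this
  conv_lhs => rw [← e, ← hw _ hr']
  rw [wperm_reverse C hw' (h.root_lt _ hr')]

theorem TwComb.oword_spec {l : List ℕ} (hl : ∀ J ∈ l, J < τ.norb) :
    IsWord D (τ.oword l) ∧ TwInv D T τ (τ.oword l) := by
  induction l with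
  | nil => exact ⟨fun i hi => absurd hi List.not_mem_nil, fun r _ => rfl⟩
  | cons J l ih =>
    obtain ⟨h1, h2⟩ := ih fun x hx => hl x (List.mem_cons_of_mem _ hx)
    have hJ := hl J (List.mem_cons_self ..)
    have e : τ.oword (J :: l) = τ.lw J ++ τ.oword l := by simp [TwData.oword]
    rw [e]
    exact ⟨(h.lw_word J hJ).append h1, TwInv.append C h h1 (h.lw_inv J hJ) h2⟩

theorem TwComb.elt_spec : ∀ e < τ.elts.length, (∀ J ∈ (τ.elt e).ow, J < τ.norb) ∧
    ∀ k < D.rank, wperm T (τ.eword e) (T.simp' k) = nth 0 (τ.elt e).img k := by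
  intro e
  induction e using Nat.strong_induction_on with
  | _ e ih =>
    intro he
    by_cases h0 : e = 0
    · subst h0
      refine ⟨by simp [h.elt_zero.1], fun k hk => ?_⟩
      rw [h.elt_zero.2.2 k hk, TwData.eword, h.elt_zero.1]
      rfl
    · obtain ⟨h1, h2, h3, -, h5, -⟩ := h.elt_step e he h0
      obtain ⟨i1, i2⟩ := ih _ h1 (h1.trans he)
      refine ⟨fun J hJ => ?_, fun k hk => ?_⟩
      · rw [h3] at hJ
        rcases List.mem_cons.1 hJ with rfl | hJ
        · exact h2
        · exact i1 J hJ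
      · rw [TwData.eword, h3, h5 k hk, ← i2 k hk]
        simp [TwData.eword, TwData.oword, wperm_append]

theorem TwComb.eword_word {e : ℕ} (he : e < τ.elts.length) : IsWord D (τ.eword e) :=
  (h.oword_spec C (h.elt_spec C e he).1).1

theorem TwComb.eword_inv {e : ℕ} (he : e < τ.elts.length) : TwInv D T τ (τ.eword e) :=
  (h.oword_spec C (h.elt_spec C e he).1).2

theorem TwComb.eword_pairwise {a b : ℕ} (ha : a < τ.elts.length) (hb : b < τ.elts.length)
    (e : SamePerm D T (τ.eword a) (τ.eword b)) : a = b := by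
  by_contra hab
  have hk : twKey T (τ.elt a) = twKey T (τ.elt b) := by
    unfold twKey
    congr 1
    refine List.map_congr_left fun k hk => ?_
    have hk' : k < D.rank := C.spec.shape.rank_eq ▸ List.mem_range.1 hk
    rw [← (h.elt_spec C a ha).2 k hk', ← (h.elt_spec C b hb).2 k hk', e _ (C.spec.simp_lt k hk')]
  have hp := List.pairwise_iff_getElem.1 h.elt_key
  have ea : ∀ x (hx : x < τ.elts.length), τ.elt x = τ.elts[x] := fun x hx => by
    rw [TwData.elt, nth_eq, List.getD_eq_getElem _ _ hx]
  rw [ea a ha, ea b hb] at hk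
  rcases lt_or_gt_of_ne hab with hlt | hlt
  · exact hp a b (by simpa using ha) (by simpa using hb) hlt (by simpa using hk)
  · exact hp b a (by simpa using hb) (by simpa using ha) hlt (by simpa using hk.symm)

include K

omit K h in
/-- Signs spread from the fundamental roots of a set of nodes. -/
theorem sub_sign {w : List ℕ} (hw : IsWord D w) {J : Set ℕ} {r : ℕ} (hr : D.InRootSub J r)
    (hp : D.nroots ≤ 2 * r) :
    ((∀ j ∈ J, j < D.rank → D.nroots ≤ 2 * wperm T w (T.simp' j)) → D.nroots ≤ 2 * wperm T w r) ∧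
    ((∀ j ∈ J, j < D.rank → 2 * wperm T w (T.simp' j) < D.nroots) → 2 * wperm T w r < D.nroots) := by
  obtain ⟨hrn, hz⟩ := (inRootSub_iff C).1 hr
  have hwr := wperm_lt C hw hrn
  refine ⟨fun h => pos_of_forall C hwr fun m hm => ?_, fun h => neg_of_forall C hwr fun m hm => ?_⟩
  all_goals rw [coroot_wperm C hw hrn m hm]
  · refine Finset.sum_nonneg fun k hk => ?_
    rw [Finset.mem_range] at hk
    by_cases hkJ : k ∈ J
    · exact mul_nonneg (coroot_nonneg C hrn hp hk)
        (coroot_nonneg C (wperm_lt C hw (C.spec.simp_lt k hk)) (h k hkJ hk) hm)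
    · simp [hz k hk hkJ]
  · refine Finset.sum_nonpos fun k hk => ?_
    rw [Finset.mem_range] at hk
    by_cases hkJ : k ∈ J
    · exact mul_nonpos_iff.2 (Or.inl ⟨coroot_nonneg C hrn hp hk,
        coroot_nonpos C (wperm_lt C hw (C.spec.simp_lt k hk)) (h k hkJ hk) hm⟩)
    · simp [hz k hk hkJ]

/-- An invariant word has a constant sign on every orbit. -/
theorem TwComb.orb_sign {w : List ℕ} (hw : IsWord D w) (hi : TwInv D T τ w) {J : ℕ} (hJ : J < τ.norb)
    {i : ℕ} (hiJ : i ∈ τ.orb J) {r : ℕ} (hr : r ∈ τ.base J) (hrn : r < D.nroots) :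
    (D.nroots ≤ 2 * wperm T w (T.simp' i) ↔ D.nroots ≤ 2 * wperm T w r) := by
  obtain ⟨hp, hsub⟩ := (h.base_sub J hJ r hrn).1 hr
  have hi' := h.orb_lt J hJ i hiJ
  have hall : ∀ j ∈ τ.orb J, (D.nroots ≤ 2 * wperm T w (T.simp' i) ↔ D.nroots ≤ 2 * wperm T w (T.simp' j)) := by
    intro j hj
    obtain ⟨m, rfl⟩ := h.orb_trans J hJ i hiJ j hj
    rw [← h.root_iterate hi']
    clear hj
    induction m with
    | zero => rfl
    | succ m ih =>
      have hlt : τ.root^[m] (T.simp' i) < D.nroots := by
        rw [h.root_iterate hi']; exact C.spec.simp_lt _ (h.node_iterate_lt hi' m)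
      rw [Function.iterate_succ_apply', hi _ hlt, ← h.root_pos _ (wperm_lt C hw hlt)]
      exact ih
  obtain ⟨s1, s2⟩ := sub_sign C hw hsub hp
  constructor
  · exact fun hpos => s1 fun j hj _ => (hall j hj).1 hpos
  · intro hpos
    by_contra hneg
    exact absurd hpos (not_le.2 (s2 fun j hj _ => not_le.1 fun hc => hneg ((hall j hj).2 hc)))

omit h in
theorem samePerm_nil_of_negSet {w : List ℕ} (hw : IsWord D w) (he : negSet D T w = ∅) : SamePerm D T w [] := by
  have hev := nroots_even C
  have key : ∀ {v : List ℕ}, IsWord D v → (∀ s < D.nroots, D.nroots ≤ 2 * s → D.nroots ≤ 2 * wperm T v s) →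
      ∀ x ∈ D.posUnipotent ℚ, wnu C ℚ v * x * (wnu C ℚ v)⁻¹ ∈ D.posUnipotent ℚ := by
    intro v hv hpos x hx
    induction hx using Subgroup.closure_induction with
    | mem x hx =>
      obtain ⟨r, t, hr, e⟩ := hx
      obtain ⟨c, -, hc⟩ := wnu_conj_xg (F := ℚ) C hv hr.1
      rw [eq_xg C e, hc]
      exact xg_mem_pos C (wperm_lt C hv hr.1) (hpos r hr.1 ((C.isPos_iff hr.1).1 hr)) _
    | one => simp
    | mul a b _ _ ha hb =>
      have := mul_mem ha hb
      simpa [mul_assoc] using this
    | inv a _ ha =>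
      have := inv_mem ha
      simpa [mul_assoc] using this
  have hpos : ∀ s < D.nroots, D.nroots ≤ 2 * s → D.nroots ≤ 2 * wperm T w s := fun s hs hp => by
    by_contra hc
    exact (Finset.eq_empty_iff_forall_notMem.1 he s) (mem_negSet.2 ⟨hs, hp, not_le.1 hc⟩)
  have hpos' : ∀ s < D.nroots, D.nroots ≤ 2 * s → D.nroots ≤ 2 * wperm T w.reverse s := fun s hs hp => by
    by_contra hc
    have hlt := wperm_lt C hw.reverse hs
    have hn := C.spec.neg_lt _ hlt
    have e : wperm T w (T.neg (wperm T w.reverse s)) = T.neg s := by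
      rw [wperm_neg C hw hlt]
      have := wperm_reverse C hw.reverse hs
      rw [List.reverse_reverse] at this
      rw [this]
    have := hpos _ hn (by rw [C.neg_eq hlt]; omega)
    rw [e, C.neg_eq hs] at this
    omega
  have hr := wnu_reverse_mul (F := ℚ) C hw
  have hN : wnu C ℚ w ∈ Subgroup.normalizer (D.unipotentRadical ℚ (∅ : Set ℕ) : Set (GL D.Idx ℚ)) := by
    rw [radical_empty C]
    refine Subgroup.mem_normalizer_iff.2 fun x => ⟨key hw hpos x, fun hx => ?_⟩
    have h1 := key hw.reverse hpos' _ hx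
    have h2 : (wnu C ℚ w.reverse * wnu C ℚ w) * x * (wnu C ℚ w.reverse * wnu C ℚ w)⁻¹ ∈ D.posUnipotent ℚ := by
      rw [mul_inv_rev]
      simpa [mul_assoc] using h1
    exact (Subgroup.mem_normalizer_iff.1 (diag_le_normalizer C hr) x).2 h2
  have hB : wnu C ℚ w ∈ D.borelSubgroup ℚ := by
    rw [← parabolic_empty (D := D), ← normalizer_radical C K]
    exact Subgroup.mem_inf.2 ⟨hN, wnu_mem_group C hw⟩
  have hH : wnu C ℚ w ∈ D.diagonalSubgroup ℚ := by
    rw [← borel_inf_monomial C]
    exact Subgroup.mem_inf.2 ⟨hB, wnu_mem C hw⟩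
  intro s hs
  exact (perm_of_same C (fun i hi => absurd hi List.not_mem_nil) hw
    (by simpa [wnu] using hH) hs).symm

omit h in
theorem long_unique {v w : List ℕ} (hv : IsWord D v) (hw : IsWord D w)
    (h1 : ∀ s < D.nroots, D.nroots ≤ 2 * s → 2 * wperm T v s < D.nroots)
    (h2 : ∀ s < D.nroots, D.nroots ≤ 2 * s → 2 * wperm T w s < D.nroots) : SamePerm D T v w := by
  have hev := nroots_even C
  have hid : SamePerm D T (w.reverse ++ v) [] := by
    refine samePerm_nil_of_negSet C K (hw.reverse.append hv) (Finset.eq_empty_iff_forall_notMem.2 fun s hs => ?_)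
    obtain ⟨hsn, hsp, hl⟩ := mem_negSet.1 hs
    rw [wperm_append] at hl
    have hy := wperm_lt C hv hsn
    have hx := wperm_lt C hw.reverse hy
    have hn := C.spec.neg_lt _ hx
    have := h2 _ hn (by rw [C.neg_eq hx]; omega)
    rw [wperm_neg C hw hx] at this
    have e : wperm T w (wperm T w.reverse (wperm T v s)) = wperm T v s := by
      have := wperm_reverse C hw.reverse hy
      rwa [List.reverse_reverse] at this
    rw [e, C.neg_eq hy] at this
    have := h1 s hsn hsp
    omega
  intro s hs
  have h3 := hid s hs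
  rw [wperm_append] at h3
  have h4 := wperm_reverse C hw.reverse (wperm_lt C hv hs)
  rw [List.reverse_reverse, h3] at h4
  exact h4.symm

theorem TwComb.lw_negSet {J : ℕ} (hJ : J < τ.norb) {w : List ℕ} (hw : IsWord D w)
    (hneg : ∀ r ∈ τ.base J, r < D.nroots → 2 * wperm T w.reverse r < D.nroots) :
    (negSet D T (τ.lw J ++ w)).card + (τ.base J).length = (negSet D T w).card := by
  have hlen := h.base_lt J hJ
  have hev := nroots_even C
  have hlt : ∀ r ∈ τ.base J, ∀ hr : r < D.nroots, T.neg (wperm T w.reverse r) ∈ negSet D T w ∧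
      T.neg (wperm T w.reverse r) ∉ negSet D T (τ.lw J ++ w) := by
    intro r hrb hr
    have h' := wperm_lt C hw.reverse hr
    have e : wperm T w (T.neg (wperm T w.reverse r)) = T.neg r := by
      rw [wperm_neg C hw h']
      have := wperm_reverse C hw.reverse hr
      rw [List.reverse_reverse] at this
      rw [this]
    obtain ⟨hp, hl⟩ := (h.base_neg J hJ r hr).1 hrb
    refine ⟨mem_negSet.2 ⟨C.spec.neg_lt _ h', by have := hneg r hrb hr; rw [C.neg_eq h']; omega,
      by rw [e, C.neg_eq hr]; omega⟩, fun hc => ?_⟩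
    have := (mem_negSet.1 hc).2.2
    rw [wperm_append, e, wperm_neg C (h.lw_word J hJ) hr, C.neg_eq (wperm_lt C (h.lw_word J hJ) hr)] at this
    omega
  classical
  have hd : Disjoint (negSet D T (τ.lw J ++ w)) ((τ.base J).toFinset.image fun r => T.neg (wperm T w.reverse r)) := by
    refine Finset.disjoint_right.2 fun x hx => ?_
    obtain ⟨r, hr, rfl⟩ := Finset.mem_image.1 hx
    rw [List.mem_toFinset] at hr
    exact (hlt r hr (hlen r hr)).2
  have hu : negSet D T (τ.lw J ++ w) ∪ ((τ.base J).toFinset.image fun r => T.neg (wperm T w.reverse r)) =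
      negSet D T w := by
    ext x
    constructor
    · intro hx
      rcases Finset.mem_union.1 hx with hx | hx
      · obtain ⟨hxn, hxp, hxl⟩ := mem_negSet.1 hx
        refine mem_negSet.2 ⟨hxn, hxp, ?_⟩
        by_contra hc
        have hwx := wperm_lt C hw hxn
        rw [wperm_append] at hxl
        have hb := (h.base_neg J hJ _ hwx).2 ⟨not_lt.1 hc, hxl⟩
        have := hneg _ hb hwx
        rw [wperm_reverse C hw hxn] at this
        omega
      · obtain ⟨r, hr, rfl⟩ := Finset.mem_image.1 hx
        rw [List.mem_toFinset] at hr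
        exact (hlt r hr (hlen r hr)).1
    · intro hx
      obtain ⟨hxn, hxp, hxl⟩ := mem_negSet.1 hx
      by_cases hmem : x ∈ negSet D T (τ.lw J ++ w)
      · exact Finset.mem_union_left _ hmem
      refine Finset.mem_union_right _ (Finset.mem_image.2 ⟨T.neg (wperm T w x), ?_, ?_⟩)
      · rw [List.mem_toFinset]
        have hwx := wperm_lt C hw hxn
        have hn := C.spec.neg_lt _ hwx
        refine (h.base_neg J hJ _ hn).2 ⟨by rw [C.neg_eq hwx]; omega, ?_⟩
        rw [wperm_neg C (h.lw_word J hJ) hwx, C.neg_eq (wperm_lt C (h.lw_word J hJ) hwx)]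
        have hy : ¬ 2 * wperm T (τ.lw J) (wperm T w x) < D.nroots := fun hc => hmem (mem_negSet.2
          ⟨hxn, hxp, by rw [wperm_append]; exact hc⟩)
        omega
      · rw [← wperm_neg C hw hxn, wperm_reverse C hw (C.spec.neg_lt _ hxn), C.spec.neg_neg _ hxn]
  rw [← hu, Finset.card_union_of_disjoint hd, Finset.card_image_of_injOn, List.toFinset_card_of_nodup
    (h.base_nodup J hJ)]
  intro a ha b hb e
  rw [Finset.mem_coe, List.mem_toFinset] at ha hb
  have ha' := hlen a ha
  have hb' := hlen b hb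
  have e' := congrArg T.neg e
  simp only [C.spec.neg_neg _ (wperm_lt C hw.reverse ha'), C.spec.neg_neg _ (wperm_lt C hw.reverse hb')] at e'
  exact wperm_inj C hw.reverse ha' hb' e'

omit K h in
theorem samePerm_lw_lw {τ : TwData} (h : TwComb D T τ) {J : ℕ} (hJ : J < τ.norb) {w : List ℕ} (hw : IsWord D w) :
    SamePerm D T (τ.lw J ++ (τ.lw J ++ w)) w := fun s hs => by
  rw [wperm_append, wperm_append, h.lw_sq J hJ _ (wperm_lt C hw hs)]

theorem TwComb.elt_len : ∀ e < τ.elts.length, (negSet D T (τ.eword e)).card = (τ.elt e).len := by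
  intro e
  induction e using Nat.strong_induction_on with
  | _ e ih =>
    intro he
    by_cases h0 : e = 0
    · subst h0
      rw [h.elt_zero.2.1, Finset.card_eq_zero, Finset.eq_empty_iff_forall_notMem]
      intro s hs
      have h2 := mem_negSet.1 hs
      rw [TwData.eword, h.elt_zero.1] at h2
      exact absurd h2.2.1 (not_le.2 h2.2.2)
    · obtain ⟨h1, h2, h3, h4, -, h6⟩ := h.elt_step e he h0
      have hp := h1.trans he
      have hw := h.eword_word C hp
      have e1 : τ.eword e = τ.lw (τ.elt e).last ++ τ.eword (τ.elt e).par := by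
        rw [TwData.eword, h3]; simp [TwData.eword, TwData.oword]
      have hw' : IsWord D (τ.lw (τ.elt e).last ++ τ.eword (τ.elt e).par) := (h.lw_word _ h2).append hw
      have hhead : nth 0 (τ.orb (τ.elt e).last) 0 ∈ τ.orb (τ.elt e).last := by
        have := h.orb_ne _ h2
        rw [nth_eq]
        cases hl : τ.orb (τ.elt e).last with
        | nil => exact absurd hl this
        | cons a l => simp
      have hneg : ∀ r ∈ τ.base (τ.elt e).last, r < D.nroots →
          2 * wperm T (τ.lw (τ.elt e).last ++ τ.eword (τ.elt e).par).reverse r < D.nroots := by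
        intro r hr hrn
        have hb := h.base_opp _ h2 r hrn hr
        have hbn := h.base_lt _ h2 _ hb
        have hpos := (h.orb_sign C K hw.reverse (TwInv.reverse C h hw (h.eword_inv C hp)) h2 hhead hb hbn).1 h6
        have hl := wperm_lt C (h.lw_word _ h2) hrn
        have hrev : wperm T (τ.lw (τ.elt e).last).reverse r = wperm T (τ.lw (τ.elt e).last) r := by
          conv_lhs => rw [← h.lw_sq _ h2 r hrn]
          rw [wperm_reverse C (h.lw_word _ h2) hl]
        rw [List.reverse_append, wperm_append, hrev]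
        rw [wperm_neg C hw.reverse hl, C.neg_eq (wperm_lt C hw.reverse hl)] at hpos
        have := nroots_even C
        have := wperm_lt C hw.reverse hl
        omega
      have := h.lw_negSet C K h2 hw' hneg
      rw [negSet_congr (samePerm_lw_lw C h h2 hw), ih _ h1 hp] at this
      rw [e1, h4]
      exact this.symm

/-- Every invariant element of the Weyl group is listed. -/
theorem TwComb.exists_elt {w : List ℕ} (hw : IsWord D w) (hi : TwInv D T τ w) :
    ∃ e < τ.elts.length, SamePerm D T (τ.eword e) w := by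
  induction hn : (negSet D T w).card using Nat.strong_induction_on generalizing w with
  | _ n ih =>
    by_cases hz : ∀ k < D.rank, D.nroots ≤ 2 * wperm T w.reverse (T.simp' k)
    · have he : negSet D T w.reverse = ∅ := by
        refine Finset.eq_empty_iff_forall_notMem.2 fun s hs => ?_
        obtain ⟨h1, h2, h3⟩ := mem_negSet.1 hs
        have := (sub_sign C hw.reverse (J := Set.univ) ((inRootSub_iff C).2
          ⟨h1, fun k _ hk => absurd (Set.mem_univ k) hk⟩) h2).1 fun j _ hj => hz j hj
        omega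
      have hid := samePerm_nil_of_negSet C K hw.reverse he
      refine ⟨0, h.elts_ne, fun s hs => ?_⟩
      rw [TwData.eword, h.elt_zero.1]
      show s = wperm T w s
      have h1 := wperm_reverse C hw hs
      rw [hid _ (wperm_lt C hw hs)] at h1
      exact h1.symm
    · push Not at hz
      obtain ⟨k, hk, hneg⟩ := hz
      obtain ⟨J, hJ, hkJ⟩ := h.orb_cover k hk
      have hall : ∀ r ∈ τ.base J, r < D.nroots → 2 * wperm T w.reverse r < D.nroots := fun r hr hrn =>
        not_le.1 fun hc => absurd ((h.orb_sign C K hw.reverse (TwInv.reverse C h hw hi) hJ hkJ hr hrn).2 hc) (not_le.2 hneg)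
      have hcard := h.lw_negSet C K hJ hw hall
      have hbase : T.simp' k ∈ τ.base J := by
        refine (h.base_sub J hJ _ (C.spec.simp_lt k hk)).2 ⟨K.simple_pos hk, inRootSub_simple C hk hkJ⟩
      have hpos : 0 < (τ.base J).length := List.length_pos_of_mem hbase
      obtain ⟨e, he, hs⟩ := ih _ (by omega) ((h.lw_word J hJ).append hw)
        (TwInv.append C h hw (h.lw_inv J hJ) hi) rfl
      obtain ⟨hn1, hn2⟩ := h.elt_next e he J hJ
      refine ⟨_, hn1, ?_⟩
      have h3 : SamePerm D T (τ.eword (nth 0 (τ.elt e).nxt J)) (τ.lw J ++ τ.eword e) :=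
        samePerm_of_simple C K (h.eword_word C hn1) ((h.lw_word J hJ).append (h.eword_word C he)) fun j hj => by
          rw [wperm_append, (h.elt_spec C _ hn1).2 j hj, (h.elt_spec C e he).2 j hj, hn2 j hj]
      exact h3.trans (((SamePerm.append_left C (h.eword_word C he) hs).trans
        (samePerm_lw_lw C h hJ hw)))

omit C K h in
/-- The first node of an orbit. -/
noncomputable def TwData.head (τ : TwData) (J : ℕ) : ℕ := nth 0 (τ.orb J) 0

omit C K in
theorem TwComb.head_mem {J : ℕ} (hJ : J < τ.norb) : τ.head J ∈ τ.orb J := by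
  have := h.orb_ne J hJ
  rw [TwData.head, nth_eq]
  cases hl : τ.orb J with
  | nil => exact absurd hl this
  | cons a l => simp

/-- Classes have a constant sign under a listed element. -/
theorem TwComb.class_sign {e : ℕ} (he : e < τ.elts.length) {c : ℕ × ℕ} (hc : c ∈ τ.classes) {r : ℕ}
    (hr : r ∈ τ.cls T c) : (r ∈ negSet D T (τ.eword e) ↔
      2 * wperm T (τ.eword e ++ τ.eword c.2) (T.simp' (τ.head c.1)) < D.nroots) := by
  obtain ⟨hJ, ha⟩ := h.class_lt c hc
  obtain ⟨hrn, hrp⟩ := h.class_pos r (List.mem_flatMap.2 ⟨c, hc, hr⟩)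
  obtain ⟨b, hb, rfl⟩ := List.mem_map.1 hr
  have := h.orb_sign C K ((h.eword_word C he).append (h.eword_word C ha))
    (TwInv.append C h (h.eword_word C ha) (h.eword_inv C he) (h.eword_inv C ha)) hJ (h.head_mem hJ) hb
    (h.base_lt _ hJ b hb)
  rw [wperm_append _ _ b] at this
  rw [mem_negSet]
  exact ⟨fun h' => not_le.1 fun hc => absurd (this.1 hc) (not_le.2 h'.2.2), fun h' => ⟨hrn, hrp, not_le.1 fun hc => absurd (this.2 hc) (not_le.2 h')⟩⟩

omit K in
theorem TwComb.exists_class {r : ℕ} (hr : r < D.nroots) (hp : D.nroots ≤ 2 * r) :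
    r ∈ τ.classes.flatMap (τ.cls T) := by
  classical
  have hsub : (τ.classes.flatMap (τ.cls T)).toFinset ⊆ (Finset.range D.nroots).filter fun s => D.nroots ≤ 2 * s :=
    fun x hx => by
      obtain ⟨h1, h2⟩ := h.class_pos x (List.mem_toFinset.1 hx)
      simp [h1, h2]
  have hcard : ((Finset.range D.nroots).filter fun s => D.nroots ≤ 2 * s).card ≤
      (τ.classes.flatMap (τ.cls T)).toFinset.card := by
    have hev := nroots_even C
    have := h.class_card
    rw [List.toFinset_card_of_nodup h.class_nodup,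
      show (Finset.range D.nroots).filter (fun s => D.nroots ≤ 2 * s) = Finset.Ico (D.nroots / 2) D.nroots by
        ext x; simp; omega, Nat.card_Ico]
    omega
  rw [← List.mem_toFinset, Finset.eq_of_subset_of_card_le hsub hcard]
  simp [hr, hp]

/-- The longest element is listed. -/
theorem TwComb.exists_long_elt :
    ∃ e < τ.elts.length, ∀ s < D.nroots, D.nroots ≤ 2 * s → 2 * wperm T (τ.eword e) s < D.nroots := by
  obtain ⟨w, hw, hl⟩ := exists_long C K
  have hev := nroots_even C
  have hmap := h.map_node_word hw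
  have hl' : ∀ s < D.nroots, D.nroots ≤ 2 * s → 2 * wperm T (w.map τ.node) s < D.nroots := by
    intro s hs hp
    have hinj : Function.Injective fun x : Fin D.nroots => (⟨τ.root x, h.root_lt x x.2⟩ : Fin D.nroots) :=
      fun a b e => Fin.ext (h.root_inj a a.2 b b.2 (congrArg Fin.val e))
    obtain ⟨t, ht, rfl⟩ : ∃ t, t < D.nroots ∧ τ.root t = s := by
      obtain ⟨x, hx⟩ := Finite.injective_iff_surjective.1 hinj ⟨s, hs⟩
      exact ⟨x.1, x.2, congrArg Fin.val hx⟩
    rw [← h.root_wperm C hw ht]
    have h1 := hl t ht ((h.root_pos t ht).2 hp)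
    by_contra hc
    have h2 := (h.root_pos _ (wperm_lt C hw ht)).2 (not_lt.1 hc)
    omega
  have hinv : TwInv D T τ w := h.inv_of_same C hw (long_unique C K hmap hw hl' hl)
  obtain ⟨e, he, hs⟩ := h.exists_elt C K hw hinv
  exact ⟨e, he, fun s hsn hp => by rw [hs s hsn]; exact hl s hsn hp⟩

end Cfsg.Lib.Chev
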