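import Mathlib
import Cfsg.Agent.Lib.Chev.TwComb
import Cfsg.Agent.Lib.Chev.AnyOrder
import Cfsg.Agent.Lib.Chev.Card

/-!
The fixed points of a twisting endomorphism of a Chevalley group: Bruhat normal form, generation
and the number of elements.
-/

set_option autoImplicit false

namespace Cfsg.Lib.Chev

open Cfsg.Lie

variable {D : ChevalleyDatum} {T : Tbl} {F : Type*} [Field F]

/-- The hypotheses on a twisting endomorphism. -/
structure TwOK (C : Cert D T) (τ : TwData) (σ : GL D.Idx F → GL D.Idx F) : Prop where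
  map_mem : ∀ g ∈ D.group F, σ g ∈ D.group F
  map_mul : ∀ a ∈ D.group F, ∀ b ∈ D.group F, σ (a * b) = σ a * σ b
  map_xg : ∀ r < D.nroots, ∀ t : F, ∃ u, σ (xg C r t) = xg C (τ.root r) u
  map_diag : ∀ h ∈ D.diagonalSubgroup F, σ h ∈ D.diagonalSubgroup F
  map_nu : ∀ i < D.rank, σ (nu C i) = nu C (τ.node i)
  rep : ∀ J < τ.norb, ∃ n ∈ D.group F, σ n = n ∧ (wnu C F (τ.lw J))⁻¹ * n ∈ D.diagonalSubgroup F

variable (C : Cert D T) (K : FullCert D T) {τ : TwData} (hc : TwComb D T τ) {σ : GL D.Idx F → GL D.Idx F}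
  (h : TwOK C τ σ)
include h

theorem TwOK.map_one : σ 1 = 1 := by
  have := h.map_mul 1 (one_mem _) 1 (one_mem _)
  rw [mul_one] at this
  exact (mul_eq_left.1 this.symm)

theorem TwOK.map_inv {a : GL D.Idx F} (ha : a ∈ D.group F) : σ a⁻¹ = (σ a)⁻¹ := by
  refine eq_inv_of_mul_eq_one_left ?_
  rw [← h.map_mul _ (inv_mem ha) _ ha, inv_mul_cancel, (h.map_one C)]

/-- The group of fixed points. -/
def TwOK.fixed : Subgroup (GL D.Idx F) where
  carrier := {g | g ∈ D.group F ∧ σ g = g}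
  one_mem' := ⟨one_mem _, (h.map_one C)⟩
  mul_mem' {a b} ha hb := ⟨mul_mem ha.1 hb.1, by rw [h.map_mul _ ha.1 _ hb.1, ha.2, hb.2]⟩
  inv_mem' {a} ha := ⟨inv_mem ha.1, by rw [h.map_inv C ha.1, ha.2]⟩

theorem TwOK.mem_fixed {g : GL D.Idx F} : g ∈ (h.fixed C) ↔ g ∈ D.group F ∧ σ g = g := Iff.rfl

theorem TwOK.map_closure {S : Set (GL D.Idx F)} {H : Subgroup (GL D.Idx F)} (hS : S ⊆ D.group F)
    (hH : ∀ x ∈ S, σ x ∈ H) {g : GL D.Idx F} (hg : g ∈ Subgroup.closure S) : σ g ∈ H := by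
  induction hg using Subgroup.closure_induction with
  | mem x hx => exact hH x hx
  | one => rw [(h.map_one C)]; exact one_mem _
  | mul a b ha hb iha ihb =>
    rw [h.map_mul _ ((Subgroup.closure_le _).2 hS ha) _ ((Subgroup.closure_le _).2 hS hb)]
    exact mul_mem iha ihb
  | inv a ha iha => rw [h.map_inv C ((Subgroup.closure_le _).2 hS ha)]; exact inv_mem iha

include hc

theorem TwOK.map_pos {g : GL D.Idx F} (hg : g ∈ D.posUnipotent F) : σ g ∈ D.posUnipotent F := by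
  refine h.map_closure C ?_ ?_ hg
  · rintro x ⟨r, t, hr, e⟩
    rw [eq_xg C e]; exact xg_mem_group C r t
  · rintro x ⟨r, t, hr, e⟩
    obtain ⟨u, hu⟩ := h.map_xg r hr.1 t
    rw [eq_xg C e, hu]
    exact xg_mem_pos C (hc.root_lt r hr.1) ((hc.root_pos r hr.1).1 ((C.isPos_iff hr.1).1 hr)) u

theorem TwOK.map_neg {g : GL D.Idx F} (hg : g ∈ D.negUnipotent F) : σ g ∈ D.negUnipotent F := by
  refine h.map_closure C ?_ ?_ hg
  · rintro x ⟨r, t, hr, e⟩
    rw [eq_xg C e]; exact xg_mem_group C r t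
  · rintro x ⟨r, t, hr, e⟩
    obtain ⟨u, hu⟩ := h.map_xg r hr.1 t
    rw [eq_xg C e, hu]
    refine xg_mem_neg C (hc.root_lt r hr.1) (not_le.1 fun hp => ?_) u
    exact absurd ((hc.root_pos r hr.1).2 hp) (not_le.2 ((C.isNeg_iff hr.1).1 hr))

theorem TwOK.map_borel {g : GL D.Idx F} (hg : g ∈ D.borelSubgroup F) : σ g ∈ D.borelSubgroup F := by
  obtain ⟨u, hu, d, hd, rfl⟩ := (mem_borel C).1 hg
  rw [h.map_mul _ (pos_le_group C hu) _ (diag_le_group C hd)]
  exact mul_mem (Subgroup.mem_sup_left (h.map_pos C hc hu)) (Subgroup.mem_sup_right (h.map_diag d hd))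

omit hc in
theorem TwOK.map_wnu {w : List ℕ} (hw : IsWord D w) : σ (wnu C F w) = wnu C F (w.map τ.node) := by
  induction w with
  | nil => simpa [wnu] using (h.map_one C)
  | cons i w ih =>
    rw [wnu_cons, List.map_cons, wnu_cons, h.map_mul _ (show nu C i ∈ D.group F from ng_mem_group C _ _) _ (wnu_mem_group C hw.tail.2),
      h.map_nu i hw.tail.1, ih hw.tail.2]

/-- Fixed representatives of the listed elements, inside a given subgroup. -/
theorem TwOK.exists_rep {W : Subgroup (GL D.Idx F)}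
    (hW : ∀ J < τ.norb, ∃ n ∈ W, (wnu C F (τ.lw J))⁻¹ * n ∈ D.diagonalSubgroup F)
    {e : ℕ} (he : e < τ.elts.length) :
    ∃ n ∈ W, (wnu C F (τ.eword e))⁻¹ * n ∈ D.diagonalSubgroup F := by
  obtain ⟨hl, -⟩ := hc.elt_spec C e he
  unfold TwData.eword
  revert hl
  induction (τ.elt e).ow with
  | nil => exact fun _ => ⟨1, one_mem _, by simp [TwData.oword, wnu]⟩
  | cons J l ih =>
    intro hl
    obtain ⟨n, hn, hn'⟩ := ih fun x hx => hl x (List.mem_cons_of_mem _ hx)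
    obtain ⟨m, hm, hm'⟩ := hW J (hl J (List.mem_cons_self ..))
    refine ⟨m * n, mul_mem hm hn, ?_⟩
    have hlw := (hc.oword_spec C fun x hx => hl x (List.mem_cons_of_mem _ hx)).1
    have := mul_mem (conj_mem_diag C (wnu_mem C (F := F) hlw) hm').2 hn'
    rw [show τ.oword (J :: l) = τ.lw J ++ τ.oword l by simp [TwData.oword], wnu_append]
    rw [show (wnu C F (τ.lw J) * wnu C F (τ.oword l))⁻¹ * (m * n) =
      (wnu C F (τ.oword l))⁻¹ * ((wnu C F (τ.lw J))⁻¹ * m) * wnu C F (τ.oword l) *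
        ((wnu C F (τ.oword l))⁻¹ * n) by group]
    exact this

theorem TwOK.exists_fixed_rep {e : ℕ} (he : e < τ.elts.length) :
    ∃ n ∈ (h.fixed C), (wnu C F (τ.eword e))⁻¹ * n ∈ D.diagonalSubgroup F :=
  h.exists_rep C hc (fun J hJ => by
    obtain ⟨n, hn, hs, hd⟩ := h.rep J hJ
    exact ⟨n, ⟨hn, hs⟩, hd⟩) he

omit hc h in
include C in
/-- Changing a monomial element by the torus does not change the conjugation into `V`. -/
theorem conj_neg_congr {m n : GL D.Idx F} (hm : m ∈ D.monomialSubgroup F) (hd : m⁻¹ * n ∈ D.diagonalSubgroup F)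
    {c : GL D.Idx F} : n * c * n⁻¹ ∈ D.negUnipotent F ↔ m * c * m⁻¹ ∈ D.negUnipotent F := by
  have hd' := (conj_mem_diag C hm hd).1
  have e : n * c * n⁻¹ = (m * (m⁻¹ * n) * m⁻¹) * (m * c * m⁻¹) * (m * (m⁻¹ * n) * m⁻¹)⁻¹ := by group
  rw [e]
  exact ((Subgroup.mem_normalizer_iff.1 (neg_conj_diag C hd')) _).symm

include K

omit hc h in
theorem signPart_iff_conj {w : List ℕ} (hw : IsWord D w) {n : GL D.Idx F}
    (hd : (wnu C F w)⁻¹ * n ∈ D.diagonalSubgroup F) {c : GL D.Idx F} :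
    c ∈ signPart C K F w true (D.nroots / 2) ↔ c ∈ D.posUnipotent F ∧ n * c * n⁻¹ ∈ D.negUnipotent F := by
  have := nroots_even C
  rw [mem_signPart_true C K hw (by omega) (by omega), posUnipotent_eq C, conj_neg_congr C (wnu_mem C hw) hd]

theorem TwOK.map_signPart {e : ℕ} (he : e < τ.elts.length) {c : GL D.Idx F}
    (hcc : c ∈ signPart C K F (τ.eword e) true (D.nroots / 2)) :
    σ c ∈ signPart C K F (τ.eword e) true (D.nroots / 2) := by
  obtain ⟨n, hn, hd⟩ := h.exists_fixed_rep C hc he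
  rw [signPart_iff_conj C K (hc.eword_word C he) hd] at hcc ⊢
  refine ⟨h.map_pos C hc hcc.1, ?_⟩
  have hcg := pos_le_group C hcc.1
  have := h.map_neg C hc hcc.2
  rwa [h.map_mul _ (mul_mem hn.1 hcg) _ (inv_mem hn.1), h.map_mul _ hn.1 _ hcg, h.map_inv C hn.1, hn.2] at this

/-- The normal form of a fixed element. -/
theorem TwOK.bruhat_fixed {g : GL D.Idx F} (hg : g ∈ (h.fixed C)) :
    ∃ e < τ.elts.length, ∀ n ∈ (h.fixed C), (wnu C F (τ.eword e))⁻¹ * n ∈ D.diagonalSubgroup F →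
      ∃ b ∈ D.borelSubgroup F ⊓ (h.fixed C), ∃ c ∈ signPart C K F (τ.eword e) true (D.nroots / 2) ⊓ (h.fixed C),
        g = b * n * c := by
  obtain ⟨w, hw, b, hb, c, hcc, rfl⟩ := bruhat_normal C K hg.1
  have hbG := borel_le_group C hb
  have hwG := wnu_mem_group C (F := F) hw
  have hcB := signPart_le_borel C K w true hcc
  have hcG := borel_le_group C hcB
  have hfix : σ b * wnu C F (w.map τ.node) * σ c = b * wnu C F w * c := by
    rw [← h.map_wnu C hw, ← h.map_mul _ hbG _ hwG, ← h.map_mul _ (mul_mem hbG hwG) _ hcG]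
    exact hg.2
  have hmap := hc.map_node_word hw
  have hd := cells_disjoint C K (h.map_borel C hc hb) hb (wnu_mem C hmap) (wnu_mem C hw) (h.map_borel C hc hcB) hcB hfix
  have hinv : TwInv D T τ w := hc.inv_of_same C hw fun s hs => perm_of_same C hmap hw hd hs
  obtain ⟨e, he, hsame⟩ := hc.exists_elt C K hw hinv
  have hew := hc.eword_word C he
  have hd2 : (wnu C F (τ.eword e))⁻¹ * wnu C F w ∈ D.diagonalSubgroup F :=
    same_of_perm C K hew hw fun k hk => hsame _ (C.spec.simp_lt k hk)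
  refine ⟨e, he, fun n hn hd1 => ?_⟩
  have hd3 : n⁻¹ * wnu C F w ∈ D.diagonalSubgroup F := by
    have := mul_mem (inv_mem hd1) hd2
    simpa [mul_assoc] using this
  have hnN : n ∈ D.monomialSubgroup F := by
    have := mul_mem (wnu_mem C (F := F) hew) (diag_le_monomial C hd1)
    rwa [mul_inv_cancel_left] at this
  have hx := (conj_mem_diag C hnN hd3).1
  have hc' : c ∈ signPart C K F (τ.eword e) true (D.nroots / 2) := by
    rw [signPart_iff_conj C K hew hd1]
    have hd5 : (wnu C F w)⁻¹ * n ∈ D.diagonalSubgroup F := by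
      have := inv_mem hd3
      simpa using this
    exact (signPart_iff_conj C K hw hd5).1 hcc
  have hb' : b * (n * (n⁻¹ * wnu C F w) * n⁻¹) ∈ D.borelSubgroup F := mul_mem hb (Subgroup.mem_sup_right hx)
  have heq : b * wnu C F w * c = b * (n * (n⁻¹ * wnu C F w) * n⁻¹) * n * c := by group
  have hneg : n * (σ c * c⁻¹) * n⁻¹ ∈ D.negUnipotent F :=
    ((signPart_iff_conj C K hew hd1).1 (mul_mem (h.map_signPart C K hc he hc') (inv_mem hc'))).2
  have hfix2 : b * (n * (n⁻¹ * wnu C F w) * n⁻¹) * n * c =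
      σ (b * (n * (n⁻¹ * wnu C F w) * n⁻¹)) * n * σ c := by
    have hbG' := borel_le_group C hb'
    have h1 : σ (b * (n * (n⁻¹ * wnu C F w) * n⁻¹) * n * c) = σ (b * (n * (n⁻¹ * wnu C F w) * n⁻¹)) * n * σ c := by
      rw [h.map_mul _ (mul_mem hbG' hn.1) _ hcG, h.map_mul _ hbG' _ hn.1, hn.2]
    rw [← h1, ← heq, hg.2]
  obtain ⟨e1, e2⟩ := cell_unique C hb' (h.map_borel C hc hb') hneg hfix2
  exact ⟨_, ⟨hb', borel_le_group C hb', e1.symm⟩, c, ⟨hc', hcG, e2.symm⟩, heq⟩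

omit h in
theorem TwOK.cell_inj {e e' : ℕ} (he : e < τ.elts.length) (he' : e' < τ.elts.length) {n n' b b' c c' : GL D.Idx F}
    (hd : (wnu C F (τ.eword e))⁻¹ * n ∈ D.diagonalSubgroup F)
    (hd' : (wnu C F (τ.eword e'))⁻¹ * n' ∈ D.diagonalSubgroup F)
    (hb : b ∈ D.borelSubgroup F) (hb' : b' ∈ D.borelSubgroup F) (hcb : c ∈ D.borelSubgroup F)
    (hcb' : c' ∈ D.borelSubgroup F) (heq : b * n * c = b' * n' * c') : e = e' := by
  have hN : ∀ {a : ℕ} {m : GL D.Idx F}, a < τ.elts.length → (wnu C F (τ.eword a))⁻¹ * m ∈ D.diagonalSubgroup F →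
      m ∈ D.monomialSubgroup F := fun ha hm => by
    have := mul_mem (wnu_mem C (F := F) (hc.eword_word C ha)) (diag_le_monomial C hm)
    rwa [mul_inv_cancel_left] at this
  have := cells_disjoint C K hb hb' (hN he hd) (hN he' hd') hcb hcb' heq
  refine hc.eword_pairwise C he he' fun s hs => perm_of_same (F := F) C (hc.eword_word C he) (hc.eword_word C he') ?_ hs
  have h2 := mul_mem (mul_mem hd this) (inv_mem hd')
  simpa [mul_assoc] using h2

/-- A subgroup containing representatives, the fixed torus and the fixed part of `U` is everything. -/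
theorem TwOK.fixed_le {W : Subgroup (GL D.Idx F)} (hWf : W ≤ (h.fixed C))
    (hrep : ∀ J < τ.norb, ∃ n ∈ W, (wnu C F (τ.lw J))⁻¹ * n ∈ D.diagonalSubgroup F)
    (hdiag : D.diagonalSubgroup F ⊓ (h.fixed C) ≤ W) (hpos : D.posUnipotent F ⊓ (h.fixed C) ≤ W) : (h.fixed C) ≤ W := by
  intro g hg
  obtain ⟨e, he, hall⟩ := h.bruhat_fixed C K hc hg
  obtain ⟨n, hn, hd⟩ := h.exists_rep C hc hrep he
  obtain ⟨b, hb, c, hcc, rfl⟩ := hall n (hWf hn) hd
  refine W.mul_mem (W.mul_mem ?_ hn) (hpos ⟨((signPart_iff_conj C K (hc.eword_word C he) hd).1 hcc.1).1, hcc.2⟩)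
  obtain ⟨hbB, hbF⟩ := Subgroup.mem_inf.1 hb
  obtain ⟨u, hu, d, hdd, rfl⟩ := (mem_borel C).1 hbB
  have huG := pos_le_group C hu
  have hdG := diag_le_group C hdd
  have e1 : σ u * σ d = u * d := by rw [← h.map_mul _ huG _ hdG]; exact hbF.2
  have hx : u⁻¹ * σ u ∈ D.posUnipotent F ⊓ D.diagonalSubgroup F := by
    refine ⟨Subgroup.mul_mem _ (Subgroup.inv_mem _ hu) (h.map_pos C hc hu), ?_⟩
    rw [show u⁻¹ * σ u = d * (σ d)⁻¹ by rw [eq_mul_inv_iff_mul_eq, mul_assoc, e1, inv_mul_cancel_left]]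
    exact Subgroup.mul_mem _ hdd (Subgroup.inv_mem _ (h.map_diag d hdd))
  rw [pos_inf_diag C, Subgroup.mem_bot, inv_mul_eq_one] at hx
  have hu' : u ∈ (h.fixed C) := ⟨huG, hx.symm⟩
  have hd' : d ∈ (h.fixed C) := ⟨hdG, by rw [← hx] at e1; exact mul_left_cancel e1⟩
  exact mul_mem (hpos ⟨hu, hu'⟩) (hdiag ⟨hdd, hd'⟩)

end Cfsg.Lib.Chev
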