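import Mathlib
import Cfsg.Agent.Lib.Chev.TwFixed

/-!
The number of fixed points of a twisting endomorphism.
-/

set_option autoImplicit false

namespace Cfsg.Lib.Chev

open Cfsg.Lie

variable {D : ChevalleyDatum} {T : Tbl} {F : Type*} [Field F] (C : Cert D T) (K : FullCert D T)

/-- Conjugation by a monomial element permutes root elements with scalars. -/
theorem mono_conj_lprod {w : List ℕ} (hw : IsWord D w) {n : GL D.Idx F}
    (hd : (wnu C F w)⁻¹ * n ∈ D.diagonalSubgroup F) :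
    ∃ c : ℕ → F, (∀ r < D.nroots, c r ≠ 0) ∧ ∀ (l : List ℕ) (t : ℕ → F), (∀ r ∈ l, r < D.nroots) →
      n * lprod C l t * n⁻¹ = (l.map fun r => xg C (wperm T w r) (c r * t r)).prod := by
  classical
  obtain ⟨χ, hχ⟩ := diag_conj_xg C hd
  choose c0 hc0 hc1 using fun r (hr : r < D.nroots) => wnu_conj_xg (F := F) C hw hr
  refine ⟨fun r => if hr : r < D.nroots then c0 r hr * χ r else 1, fun r hr => ?_, fun l t hl => ?_⟩
  · simp only [dif_pos hr]
    exact mul_ne_zero (fun e => by have := hc0 r hr; rw [e, zero_mul] at this; exact zero_ne_one this) (hχ r hr).1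
  induction l with
  | nil => simp [lprod]
  | cons r l ih =>
    have hr := hl r (List.mem_cons_self ..)
    rw [List.map_cons, List.prod_cons, ← ih (fun x hx => hl x (List.mem_cons_of_mem _ hx)), lprod_cons]
    simp only [dif_pos hr]
    rw [mul_assoc (c0 r hr), ← hc1 r hr, ← (hχ r hr).2]
    group

theorem mono_conj_pset {w : List ℕ} (hw : IsWord D w) {n : GL D.Idx F}
    (hd : (wnu C F w)⁻¹ * n ∈ D.diagonalSubgroup F) {l : List ℕ} (hl : ∀ r ∈ l, r < D.nroots) {g : GL D.Idx F} :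
    g ∈ Pset C l ↔ n * g * n⁻¹ ∈ Pset C (F := F) (l.map (wperm T w)) := by
  classical
  obtain ⟨c, hc0, hcl⟩ := mono_conj_lprod C hw hd
  have hinj : ∀ r ∈ l, ∀ s ∈ l, wperm T w r = wperm T w s → r = s := fun r hr s hs e =>
    wperm_inj C hw (hl r hr) (hl s hs) e
  constructor
  · rintro ⟨t, rfl⟩
    refine ⟨fun x => if h : ∃ r ∈ l, wperm T w r = x then c h.choose * t h.choose else 0, ?_⟩
    rw [hcl l t hl, lprod, List.map_map]
    congr 1
    refine List.map_congr_left fun r hr => ?_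
    have h : ∃ s ∈ l, wperm T w s = wperm T w r := ⟨r, hr, rfl⟩
    have e := hinj _ h.choose_spec.1 _ hr h.choose_spec.2
    simp only [Function.comp_apply, dif_pos h, e]
  · rintro ⟨u, hu⟩
    refine ⟨fun r => (c r)⁻¹ * u (wperm T w r), ?_⟩
    have e : n * lprod C l (fun r => (c r)⁻¹ * u (wperm T w r)) * n⁻¹ = n * g * n⁻¹ := by
      rw [hu, hcl l _ hl, lprod, List.map_map]
      congr 1
      refine List.map_congr_left fun r hr => ?_
      rw [Function.comp_apply, ← mul_assoc, mul_inv_cancel₀ (hc0 r (hl r hr)), one_mul]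
    exact (mul_left_cancel (mul_right_cancel e)).symm

theorem card_pset (K : CommCert D T) [Finite F] {l : List ℕ} (hnd : l.Nodup)
    (hl : ∀ r ∈ l, D.nroots / 2 ≤ r ∧ r < D.nroots) :
    Nat.card ↥(Pset C (F := F) l) = Nat.card F ^ l.length := by
  classical
  let f : ({x // x ∈ l} → F) → ↥(Pset C (F := F) l) := fun t =>
    ⟨lprod C l (fun r => if h : r ∈ l then t ⟨r, h⟩ else 0), _, rfl⟩
  have hf : Function.Bijective f := by
    constructor
    · intro a b e
      funext ⟨r, hr⟩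
      have := lprod_inj C K hnd hl (congrArg Subtype.val e) r hr
      simpa [hr] using this
    · rintro ⟨g, t, rfl⟩
      exact ⟨fun x => t x.1, Subtype.ext (lprod_congr C fun r hr => by simp [hr])⟩
  rw [← Nat.card_eq_of_bijective f hf, Nat.card_fun]
  congr 1
  rw [Nat.card_eq_fintype_card, Fintype.card_of_subtype l.toFinset (fun x => List.mem_toFinset), List.toFinset_card_of_nodup hnd]

theorem pset_pos {l : List ℕ} (hl : ∀ r ∈ l, D.nroots / 2 ≤ r) {g : GL D.Idx F} (hg : g ∈ Pset C l) :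
    g ∈ D.posUnipotent F := by
  obtain ⟨t, rfl⟩ := hg
  exact lprod_mem_pos C hl t

theorem pset_eq_signPart [Finite F] {w : List ℕ} (hw : IsWord D w) {l : List ℕ} (hnd : l.Nodup)
    (hl : ∀ r, r ∈ l ↔ r ∈ negSet D T w) {g : GL D.Idx F} :
    g ∈ Pset C l ↔ g ∈ signPart C K F w true (D.nroots / 2) := by
  classical
  have hev := nroots_even C
  have hl' : ∀ r ∈ l, D.nroots / 2 ≤ r ∧ r < D.nroots := fun r hr => by
    obtain ⟨h1, h2, -⟩ := mem_negSet.1 ((hl r).1 hr)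
    omega
  have hsub : Pset C (F := F) l ⊆ (signPart C K F w true (D.nroots / 2) : Set (GL D.Idx F)) := by
    rintro _ ⟨t, rfl⟩
    refine list_prod_mem fun x hx => ?_
    obtain ⟨r, hr, rfl⟩ := List.mem_map.1 hx
    obtain ⟨h1, h2, h3⟩ := mem_negSet.1 ((hl r).1 hr)
    exact xg_mem_signPart C K (hl' r hr).1 h1 (by simpa using h3) _
  have hlen : ((List.range' (D.nroots / 2) (D.nroots / 2)).filter fun r => decide (2 * wperm T w r < D.nroots)).length
      = l.length := by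
    rw [← List.toFinset_card_of_nodup hnd,
      ← List.toFinset_card_of_nodup (List.Nodup.filter _ (List.nodup_range' ..))]
    congr 1
    ext r
    simp only [List.mem_toFinset, List.mem_filter, List.mem_range'_1, decide_eq_true_eq, hl r, mem_negSet]
    omega
  have heq : Pset C (F := F) l = (signPart C K F w true (D.nroots / 2) : Set (GL D.Idx F)) := by
    refine Set.eq_of_subset_of_ncard_le hsub ?_ (Set.toFinite _)
    rw [← Nat.card_coe_set_eq, ← Nat.card_coe_set_eq, card_pset C K.comm hnd hl']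
    show Nat.card ↥(signPart C K F w true (D.nroots / 2)) ≤ _
    rw [card_signPart C K hw (D.nroots / 2) (by omega) (by omega), hlen]
  exact Set.ext_iff.1 heq g

variable {τ : TwData} (hc : TwComb D T τ) {σ : GL D.Idx F → GL D.Idx F} (h : TwOK C τ σ)
include h

omit h in
/-- The fixed points in a product set. -/
def twFixPart (σ : GL D.Idx F → GL D.Idx F) (l : List ℕ) : Set (GL D.Idx F) := {g | g ∈ Pset C l ∧ σ g = g}

omit h in
/-- A product set mapped into itself. -/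
def TwStable (σ : GL D.Idx F → GL D.Idx F) (l : List ℕ) : Prop := ∀ g ∈ Pset C l, σ g ∈ Pset C l

include K

theorem TwOK.stable_append {A B : List ℕ} (hnd : (A ++ B).Nodup)
    (hl : ∀ r ∈ A ++ B, D.nroots / 2 ≤ r ∧ r < D.nroots) (hA : TwStable C σ A) (hB : TwStable C σ B) :
    TwStable C σ (A ++ B) ∧
      Nat.card ↥(twFixPart C σ (A ++ B)) = Nat.card ↥(twFixPart C σ A) * Nat.card ↥(twFixPart C σ B) := by
  classical
  have hG : ∀ {l : List ℕ} {g : GL D.Idx F}, g ∈ Pset C l → g ∈ D.group F := by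
    rintro l _ ⟨t, rfl⟩
    refine list_prod_mem fun x hx => ?_
    obtain ⟨r, hr, rfl⟩ := List.mem_map.1 hx
    exact xg_mem_group C _ _
  have hglue : ∀ t u : ℕ → F, lprod C A t * lprod C B u = lprod C (A ++ B) (fun r => if r ∈ A then t r else u r) := by
    intro t u
    rw [lprod_append]
    congr 1
    · exact lprod_congr C fun r hr => by simp [hr]
    · exact lprod_congr C fun r hr => by
        rw [if_neg fun hrA => (List.nodup_append.1 hnd).2.2 r hrA r hr rfl]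
  have huniq : ∀ {a a' b b' : GL D.Idx F}, a ∈ Pset C A → a' ∈ Pset C A → b ∈ Pset C B → b' ∈ Pset C B →
      a * b = a' * b' → a = a' ∧ b = b' := by
    rintro _ _ _ _ ⟨t, rfl⟩ ⟨t', rfl⟩ ⟨u, rfl⟩ ⟨u', rfl⟩ e
    rw [hglue, hglue] at e
    have := lprod_inj C K.comm hnd hl e
    refine ⟨lprod_congr C fun r hr => ?_, lprod_congr C fun r hr => ?_⟩
    · simpa [hr] using this r (List.mem_append_left _ hr)
    · have hn : r ∉ A := fun hrA => (List.nodup_append.1 hnd).2.2 r hrA r hr rfl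
      simpa [hn] using this r (List.mem_append_right _ hr)
  have hsp : ∀ g ∈ Pset C (F := F) (A ++ B), ∃ a ∈ Pset C (F := F) A, ∃ b ∈ Pset C (F := F) B, g = a * b := by
    rintro _ ⟨t, rfl⟩
    exact ⟨_, ⟨t, rfl⟩, _, ⟨t, rfl⟩, lprod_append C A B t⟩
  have hjoin : ∀ a ∈ Pset C (F := F) A, ∀ b ∈ Pset C (F := F) B, a * b ∈ Pset C (F := F) (A ++ B) := by
    rintro _ ⟨t, rfl⟩ _ ⟨u, rfl⟩
    exact ⟨_, hglue t u⟩
  refine ⟨fun g hg => ?_, ?_⟩
  · obtain ⟨a, ha, b, hb, rfl⟩ := hsp g hg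
    rw [h.map_mul _ (hG ha) _ (hG hb)]
    exact hjoin _ (hA a ha) _ (hB b hb)
  · rw [← Nat.card_prod]
    refine (Nat.card_eq_of_bijective (fun p : ↥(twFixPart C σ A) × ↥(twFixPart C σ B) =>
      (⟨p.1.1 * p.2.1, hjoin _ p.1.2.1 _ p.2.2.1, by
        rw [h.map_mul _ (hG p.1.2.1) _ (hG p.2.2.1), p.1.2.2, p.2.2.2]⟩ : ↥(twFixPart C σ (A ++ B)))) ⟨?_, ?_⟩).symm
    · rintro ⟨⟨a, ha⟩, ⟨b, hb⟩⟩ ⟨⟨a', ha'⟩, ⟨b', hb'⟩⟩ e
      obtain ⟨rfl, rfl⟩ := huniq ha.1 ha'.1 hb.1 hb'.1 (congrArg Subtype.val e)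
      rfl
    · rintro ⟨g, hg, hfix⟩
      obtain ⟨a, ha, b, hb, rfl⟩ := hsp g hg
      rw [h.map_mul _ (hG ha) _ (hG hb)] at hfix
      obtain ⟨e1, e2⟩ := huniq (hA a ha) ha (hB b hb) hb hfix
      exact ⟨(⟨a, ha, e1⟩, ⟨b, hb, e2⟩), rfl⟩

include hc
variable [Finite F]

theorem TwOK.map_signPart' {w : List ℕ} (hw : IsWord D w) {n : GL D.Idx F} (hn : n ∈ h.fixed C)
    (hd : (wnu C F w)⁻¹ * n ∈ D.diagonalSubgroup F) {c : GL D.Idx F}
    (hcc : c ∈ signPart C K F w true (D.nroots / 2)) : σ c ∈ signPart C K F w true (D.nroots / 2) := by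
  rw [signPart_iff_conj C K hw hd] at hcc ⊢
  refine ⟨h.map_pos C hc hcc.1, ?_⟩
  have hcg := pos_le_group C hcc.1
  have := h.map_neg C hc hcc.2
  rwa [h.map_mul _ (mul_mem hn.1 hcg) _ (inv_mem hn.1), h.map_mul _ hn.1 _ hcg, h.map_inv C hn.1, hn.2] at this

theorem TwOK.base_mem_signPart {J : ℕ} (hJ : J < τ.norb) {g : GL D.Idx F} :
    g ∈ Pset C (τ.base J) ↔ g ∈ signPart C K F (τ.lw J) true (D.nroots / 2) :=
  pset_eq_signPart C K (hc.lw_word J hJ) (hc.base_nodup J hJ) fun r => by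
    constructor
    · intro hr
      have hrn := hc.base_lt J hJ r hr
      exact mem_negSet.2 ⟨hrn, (hc.base_neg J hJ r hrn).1 hr⟩
    · intro hr
      obtain ⟨h1, h2⟩ := mem_negSet.1 hr
      exact (hc.base_neg J hJ r h1).2 h2

theorem TwOK.stable_base {J : ℕ} (hJ : J < τ.norb) : TwStable C σ (τ.base J) := fun g hg => by
  obtain ⟨n, hn, hs, hd⟩ := h.rep J hJ
  exact (h.base_mem_signPart C K hc hJ).2
    (h.map_signPart' C K hc (hc.lw_word J hJ) ⟨hn, hs⟩ hd ((h.base_mem_signPart C K hc hJ).1 hg))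

theorem TwOK.stable_class {c : ℕ × ℕ} (hcc : c ∈ τ.classes) :
    TwStable C σ (τ.cls T c) ∧ Nat.card ↥(twFixPart C σ (τ.cls T c)) = Nat.card ↥(twFixPart C σ (τ.base c.1)) := by
  obtain ⟨hJ, ha⟩ := hc.class_lt c hcc
  obtain ⟨n, hn, hd⟩ := h.exists_fixed_rep C hc ha
  have hw := hc.eword_word C ha
  have hl := hc.base_lt c.1 hJ
  have key : ∀ g, g ∈ Pset C (τ.base c.1) ↔ n * g * n⁻¹ ∈ Pset C (F := F) (τ.cls T c) := fun g =>
    mono_conj_pset C hw hd hl
  have hG : ∀ {l : List ℕ} {g : GL D.Idx F}, g ∈ Pset C l → g ∈ D.group F := by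
    rintro l _ ⟨t, rfl⟩
    refine list_prod_mem fun x hx => ?_
    obtain ⟨r, hr, rfl⟩ := List.mem_map.1 hx
    exact xg_mem_group C _ _
  have hσ : ∀ g ∈ Pset C (τ.base c.1), σ (n * g * n⁻¹) = n * σ g * n⁻¹ := fun g hg => by
    rw [h.map_mul _ (mul_mem hn.1 (hG hg)) _ (inv_mem hn.1), h.map_mul _ hn.1 _ (hG hg), h.map_inv C hn.1, hn.2]
  have hback : ∀ g, n * (n⁻¹ * g * n) * n⁻¹ = g := fun g => by group
  refine ⟨fun g hg => ?_, ?_⟩
  · have h1 : n⁻¹ * g * n ∈ Pset C (τ.base c.1) := (key _).2 (by rwa [hback])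
    rw [← hback g, hσ _ h1, ← key]
    exact h.stable_base C K hc hJ _ h1
  · refine (Nat.card_eq_of_bijective (fun g : ↥(twFixPart C σ (τ.base c.1)) =>
      (⟨n * g.1 * n⁻¹, (key _).1 g.2.1, by rw [hσ _ g.2.1, g.2.2]⟩ : ↥(twFixPart C σ (τ.cls T c)))) ⟨?_, ?_⟩).symm
    · intro a b e
      exact Subtype.ext (mul_left_cancel (mul_right_cancel (congrArg Subtype.val e)))
    · rintro ⟨g, hg, hfix⟩
      have h1 : n⁻¹ * g * n ∈ Pset C (τ.base c.1) := (key _).2 (by rwa [hback])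
      refine ⟨⟨n⁻¹ * g * n, h1, mul_left_cancel (a := n) (mul_right_cancel (b := n⁻¹) ?_)⟩, Subtype.ext (hback g)⟩
      rw [← hσ _ h1, hback, hfix]

theorem TwOK.card_classes {wt : ℕ → ℕ} {q : ℕ}
    (hwt : ∀ J < τ.norb, Nat.card ↥(twFixPart C σ (τ.base J)) = q ^ wt J) :
    ∀ cs : List (ℕ × ℕ), cs.Sublist τ.classes →
      TwStable C σ (cs.flatMap (τ.cls T)) ∧
        Nat.card ↥(twFixPart C σ (cs.flatMap (τ.cls T))) = q ^ (cs.map fun c => wt c.1).sum := by
  intro cs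
  induction cs with
  | nil =>
    intro _
    have e : ∀ g : GL D.Idx F, g ∈ Pset C (F := F) [] ↔ g = 1 :=
      fun g => ⟨fun ⟨t, ht⟩ => ht, fun e => ⟨fun _ => 0, e⟩⟩
    refine ⟨fun g hg => ?_, ?_⟩
    · simp only [List.flatMap_nil] at hg ⊢
      rw [(e g).1 hg, h.map_one C]; exact (e 1).2 rfl
    · have : twFixPart C σ (([] : List (ℕ × ℕ)).flatMap (τ.cls T)) = {1} := by
        ext g
        simp only [List.flatMap_nil, twFixPart, Set.mem_setOf_eq, Set.mem_singleton_iff, e]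
        exact ⟨fun x => x.1, fun x => ⟨x, by rw [x, h.map_one C]⟩⟩
      rw [this]; simp
  | cons c cs ih =>
    intro hsub
    have hmem := hsub.subset (List.mem_cons_self ..)
    obtain ⟨s1, c1⟩ := h.stable_class C K hc hmem
    obtain ⟨s2, c2⟩ := ih ((List.sublist_cons_self c cs).trans hsub)
    have hs : ((c :: cs).flatMap (τ.cls T)).Sublist (τ.classes.flatMap (τ.cls T)) := List.Sublist.flatMap hsub _
    rw [List.flatMap_cons] at hs ⊢
    obtain ⟨s3, c3⟩ := h.stable_append C K (hs.nodup hc.class_nodup) (fun r hr => by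
      obtain ⟨h1, h2⟩ := hc.class_pos r (hs.subset hr); omega) s1 s2
    exact ⟨s3, by rw [c3, c1, c2, hwt _ (hc.class_lt c hmem).1, List.map_cons, List.sum_cons, pow_add]⟩

/-- The fixed points in the unipotent group of a listed element. -/
theorem TwOK.card_cell {wt : ℕ → ℕ} {q d : ℕ}
    (hwt : ∀ J < τ.norb, Nat.card ↥(twFixPart C σ (τ.base J)) = q ^ wt J)
    (hd : 0 < d) (hdw : ∀ J < τ.norb, d * wt J = (τ.base J).length) {e : ℕ} (he : e < τ.elts.length) :
    Nat.card ↥(signPart C K F (τ.eword e) true (D.nroots / 2) ⊓ h.fixed C) = q ^ ((τ.elt e).len / d) := by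
  classical
  let p : ℕ × ℕ → Bool := fun c =>
    decide (2 * wperm T (τ.eword e ++ τ.eword c.2) (T.simp' (τ.head c.1)) < D.nroots)
  have hsub : (τ.classes.filter p).Sublist τ.classes := List.filter_sublist
  have hnd : ((τ.classes.filter p).flatMap (τ.cls T)).Nodup :=
    (List.Sublist.flatMap hsub _).nodup hc.class_nodup
  have hmem : ∀ r, r ∈ (τ.classes.filter p).flatMap (τ.cls T) ↔ r ∈ negSet D T (τ.eword e) := by
    intro r
    constructor
    · intro hr
      obtain ⟨c, hcf, hrc⟩ := List.mem_flatMap.1 hr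
      obtain ⟨hcc, hp⟩ := List.mem_filter.1 hcf
      exact (hc.class_sign C K he hcc hrc).2 (by simpa [p] using hp)
    · intro hr
      obtain ⟨h1, h2, -⟩ := mem_negSet.1 hr
      obtain ⟨c, hcc, hrc⟩ := List.mem_flatMap.1 (hc.exists_class C h1 h2)
      exact List.mem_flatMap.2 ⟨c, List.mem_filter.2
        ⟨hcc, by simpa [p] using (hc.class_sign C K he hcc hrc).1 hr⟩, hrc⟩
  obtain ⟨-, hcard⟩ := h.card_classes C K hc hwt _ hsub
  have hlen : ((τ.classes.filter p).flatMap (τ.cls T)).length = (τ.elt e).len := by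
    rw [← hc.elt_len C K e he, ← List.toFinset_card_of_nodup hnd]
    congr 1
    ext r
    rw [List.mem_toFinset, hmem]
  have hsum : ∀ cs : List (ℕ × ℕ), (∀ c ∈ cs, c.1 < τ.norb) →
      d * (cs.map fun c => wt c.1).sum = (cs.flatMap (τ.cls T)).length := by
    intro cs
    induction cs with
    | nil => simp
    | cons c cs ih =>
      intro hcs
      rw [List.map_cons, List.sum_cons, List.flatMap_cons, List.length_append, mul_add,
        ih (fun x hx => hcs x (List.mem_cons_of_mem _ hx)), hdw _ (hcs c (List.mem_cons_self ..))]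
      simp [TwData.cls]
  rw [← hlen, ← hsum _ (fun c hcm => (hc.class_lt c (hsub.subset hcm)).1), Nat.mul_div_cancel_left _ hd, ← hcard]
  refine Nat.card_congr (Equiv.subtypeEquivRight fun g => ?_)
  show g ∈ signPart C K F (τ.eword e) true (D.nroots / 2) ⊓ h.fixed C ↔ g ∈ twFixPart C σ _
  rw [Subgroup.mem_inf, ← pset_eq_signPart C K (hc.eword_word C he) hnd hmem]
  exact ⟨fun x => ⟨x.1, x.2.2⟩, fun x => ⟨x.1, borel_le_group C
    (signPart_le_borel C K (τ.eword e) true ((pset_eq_signPart C K (hc.eword_word C he) hnd hmem).1 x.1)), x.2⟩⟩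

/-- The order of the fixed subgroup of `U`. -/
theorem TwOK.card_pos_fixed {wt : ℕ → ℕ} {q d : ℕ}
    (hwt : ∀ J < τ.norb, Nat.card ↥(twFixPart C σ (τ.base J)) = q ^ wt J)
    (hd : 0 < d) (hdw : ∀ J < τ.norb, d * wt J = (τ.base J).length) :
    Nat.card ↥(D.posUnipotent F ⊓ h.fixed C) = q ^ (D.nroots / 2 / d) := by
  obtain ⟨e, he, hl⟩ := hc.exists_long_elt C K
  have hev := nroots_even C
  have hlen : (τ.elt e).len = D.nroots / 2 := by
    rw [← hc.elt_len C K e he, show negSet D T (τ.eword e) = Finset.Ico (D.nroots / 2) D.nroots by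
      ext s
      rw [mem_negSet, Finset.mem_Ico]
      exact ⟨fun x => ⟨by omega, x.1⟩, fun x => ⟨x.2, by omega, hl s x.2 (by omega)⟩⟩, Nat.card_Ico]
    omega
  rw [← hlen, ← h.card_cell C K hc hwt hd hdw he]
  refine Nat.card_congr (Equiv.subtypeEquivRight fun g => ?_)
  show g ∈ D.posUnipotent F ⊓ h.fixed C ↔ g ∈ signPart C K F (τ.eword e) true (D.nroots / 2) ⊓ h.fixed C
  simp only [Subgroup.mem_inf]
  refine and_congr_left fun _ => ⟨fun hg => ?_, fun hg => ?_⟩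
  · rw [posUnipotent_eq C] at hg
    refine (Subgroup.closure_le _).2 ?_ hg
    rintro x ⟨r, t, h1, h2, rfl⟩
    exact xg_mem_signPart C K h1 h2 (by simpa using hl r h2 (by omega)) t
  · rw [posUnipotent_eq C]
    exact signPart_le_upper C K _ _ _ hg

/-- The order of the fixed group. -/
theorem TwOK.card_fixed {wt : ℕ → ℕ} {q d : ℕ}
    (hwt : ∀ J < τ.norb, Nat.card ↥(twFixPart C σ (τ.base J)) = q ^ wt J)
    (hd : 0 < d) (hdw : ∀ J < τ.norb, d * wt J = (τ.base J).length) :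
    Nat.card ↥(h.fixed C) = Nat.card ↥(D.diagonalSubgroup F ⊓ h.fixed C) * q ^ (D.nroots / 2 / d) *
      ((τ.elts.map fun E => q ^ (E.len / d))).sum := by
  classical
  haveI := Fintype.ofFinite (GL D.Idx F)
  choose n hn hnd using fun e : Fin τ.elts.length => h.exists_fixed_rep C hc e.2
  have hb : Nat.card ↥(D.borelSubgroup F ⊓ h.fixed C) =
      Nat.card ↥(D.diagonalSubgroup F ⊓ h.fixed C) * q ^ (D.nroots / 2 / d) := by
    rw [← h.card_pos_fixed C K hc hwt hd hdw, mul_comm, ← Nat.card_prod]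
    refine (Nat.card_eq_of_bijective
      (fun x : ↥(D.posUnipotent F ⊓ h.fixed C) × ↥(D.diagonalSubgroup F ⊓ h.fixed C) =>
        (⟨x.1.1 * x.2.1, Subgroup.mem_inf.2 ⟨mul_mem (Subgroup.mem_sup_left x.1.2.1) (Subgroup.mem_sup_right x.2.2.1),
          mul_mem x.1.2.2 x.2.2.2⟩⟩ : ↥(D.borelSubgroup F ⊓ h.fixed C))) ⟨?_, ?_⟩).symm
    · rintro ⟨⟨u, hu⟩, ⟨a, ha⟩⟩ ⟨⟨u', hu'⟩, ⟨a', ha'⟩⟩ e
      have e' : u * a = u' * a' := congrArg Subtype.val e
      have h1 : u'⁻¹ * u ∈ D.posUnipotent F ⊓ D.diagonalSubgroup F :=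
        ⟨Subgroup.mul_mem _ (Subgroup.inv_mem _ hu'.1) hu.1, by
          rw [show u'⁻¹ * u = a' * a⁻¹ by rw [eq_mul_inv_iff_mul_eq, mul_assoc, e', inv_mul_cancel_left]]
          exact Subgroup.mul_mem _ ha'.1 (Subgroup.inv_mem _ ha.1)⟩
      rw [pos_inf_diag C, Subgroup.mem_bot, inv_mul_eq_one] at h1
      subst h1
      obtain rfl := mul_left_cancel e'
      rfl
    · rintro ⟨g, hgB, hgF⟩
      obtain ⟨u, hu, a, ha, rfl⟩ := (mem_borel C).1 hgB
      have e : σ u * σ a = u * a := by rw [← h.map_mul _ (pos_le_group C hu) _ (diag_le_group C ha)]; exact hgF.2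
      have h1 : u⁻¹ * σ u ∈ D.posUnipotent F ⊓ D.diagonalSubgroup F :=
        ⟨Subgroup.mul_mem _ (Subgroup.inv_mem _ hu) (h.map_pos C hc hu), by
          rw [show u⁻¹ * σ u = a * (σ a)⁻¹ by rw [eq_mul_inv_iff_mul_eq, mul_assoc, e, inv_mul_cancel_left]]
          exact Subgroup.mul_mem _ ha (Subgroup.inv_mem _ (h.map_diag a ha))⟩
      rw [pos_inf_diag C, Subgroup.mem_bot, inv_mul_eq_one] at h1
      have ea : σ a = a := by rw [← h1] at e; exact mul_left_cancel e
      exact ⟨(⟨u, hu, pos_le_group C hu, h1.symm⟩, ⟨a, ha, diag_le_group C ha, ea⟩), rfl⟩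
  let f : (Σ e : Fin τ.elts.length, ↥(D.borelSubgroup F ⊓ h.fixed C) ×
      ↥(signPart C K F (τ.eword e) true (D.nroots / 2) ⊓ h.fixed C)) → ↥(h.fixed C) := fun x =>
    ⟨x.2.1.1 * n x.1 * x.2.2.1, mul_mem (mul_mem x.2.1.2.2 (hn x.1)) x.2.2.2.2⟩
  have hbij : Function.Bijective f := by
    constructor
    · rintro ⟨e, ⟨b, hb⟩, ⟨c, hcc⟩⟩ ⟨e', ⟨b', hb'⟩, ⟨c', hcc'⟩⟩ he
      have heq : b * n e * c = b' * n e' * c' := congrArg Subtype.val he
      obtain rfl : e = e' := Fin.ext (TwOK.cell_inj C K hc e.2 e'.2 (hnd e) (hnd e') hb.1 hb'.1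
        (signPart_le_borel C K _ true hcc.1) (signPart_le_borel C K _ true hcc'.1) heq)
      have := ((signPart_iff_conj C K (hc.eword_word C e.2) (hnd e)).1 (mul_mem hcc'.1 (inv_mem hcc.1))).2
      obtain ⟨rfl, rfl⟩ := cell_unique C hb.1 hb'.1 this heq
      rfl
    · rintro ⟨g, hg⟩
      obtain ⟨e, he, hall⟩ := h.bruhat_fixed C K hc hg
      obtain ⟨b, hb, c, hcc, e1⟩ := hall (n ⟨e, he⟩) (hn ⟨e, he⟩) (hnd ⟨e, he⟩)
      exact ⟨⟨⟨e, he⟩, ⟨b, hb⟩, ⟨c, hcc⟩⟩, Subtype.ext e1.symm⟩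
  rw [← Nat.card_eq_of_bijective f hbij, Nat.card_sigma, ← hb,
    show τ.elts.map (fun E => q ^ (E.len / d)) = List.ofFn fun e : Fin τ.elts.length => q ^ ((τ.elts[(e : ℕ)]).len / d) by
      exact (List.ofFn_getElem_eq_map τ.elts _).symm,
    List.sum_ofFn, Finset.mul_sum]
  refine Finset.sum_congr rfl fun e _ => ?_
  rw [Nat.card_prod, h.card_cell C K hc hwt hd hdw e.2, TwData.elt, nth_eq, List.getD_eq_getElem _ _ e.2]

end Cfsg.Lib.Chev
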