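import Mathlib
import Cfsg.Agent.Lib.Chev.TwCard
import Cfsg.Agent.Lib.Chev.Solvable
import Cfsg.Agent.S0319

/-!
Generation, the `(B, N)`-pair and simplicity of the fixed group of a twisting endomorphism.
-/

set_option autoImplicit false

namespace Cfsg.Lib.Chev

open Cfsg.Lie
open scoped commutatorElement

/-- Each orbit but the first has a longest element not commuting with that of an earlier orbit. -/
noncomputable def chkTwLinked (T : Tbl) (τ : TwData) : Bool :=
  allBelow (fun J => allBelow (fun i => (τ.lw J).all fun x => (τ.orb J).any (Nat.beq x)) 1 &&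
    ((τ.orb J).all fun i => allBelow (fun J' => Nat.beq J J' || !(τ.orb J').any (Nat.beq i)) τ.norb) &&
    (Nat.beq J 0 || anyBelow (fun J' => anyBelow (fun r =>
      !Nat.beq (wperm T (τ.lw J) (wperm T (τ.lw J') r)) (wperm T (τ.lw J') (wperm T (τ.lw J) r))) T.nroots) J)) τ.norb

/-- The further combinatorial facts used by the `(B, N)`-pair. -/
structure TwLinked (D : ChevalleyDatum) (T : Tbl) (τ : TwData) : Prop where
  lw_sub : ∀ J < τ.norb, ∀ i ∈ τ.lw J, i ∈ τ.orb J
  orb_disj : ∀ J < τ.norb, ∀ J' < τ.norb, ∀ i, i ∈ τ.orb J → i ∈ τ.orb J' → J = J'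
  linked : ∀ J < τ.norb, J ≠ 0 → ∃ J' < J, ∃ r < D.nroots,
    wperm T (τ.lw J) (wperm T (τ.lw J') r) ≠ wperm T (τ.lw J') (wperm T (τ.lw J) r)

theorem twLinked_of_chk {D : ChevalleyDatum} {T : Tbl} (C : Cert D T) {τ : TwData}
    (h : chkTwLinked T τ = true) : TwLinked D T τ := by
  simp only [chkTwLinked, allBelow_iff, Bool.and_eq_true, List.all_eq_true, Bool.or_eq_true, Nat.beq_eq,
    Bool.not_eq_true', List.any_eq_true] at h
  refine ⟨fun J hJ i hi => ?_, fun J hJ J' hJ' i hi hi' => ?_, fun J hJ h0 => ?_⟩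
  · obtain ⟨y, hy, e⟩ := (h J hJ).1.1 0 zero_lt_one i hi
    exact (e.symm ▸ hy : i ∈ τ.orb J)
  · rcases (h J hJ).1.2 i hi J' hJ' with e | e
    · exact e
    · rw [List.any_eq_false] at e
      exact absurd (Nat.beq_refl i) (e i hi')
  · obtain ⟨J', hJ', h'⟩ := exists_of_anyBelow ((h J hJ).2.resolve_left h0)
    obtain ⟨r, hr, h''⟩ := exists_of_anyBelow h'
    refine ⟨J', hJ', r, C.spec.shape.nroots_eq ▸ hr, fun e => ?_⟩
    rw [e, Nat.beq_refl] at h''
    exact Bool.noConfusion h''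

variable {D : ChevalleyDatum} {T : Tbl} {F : Type*} [Field F] (C : Cert D T) (K : FullCert D T)
  {τ : TwData} (hc : TwComb D T τ) {σ : GL D.Idx F → GL D.Idx F} (h : TwOK C τ σ)
include h hc K

theorem TwOK.fixed_split {A B : List ℕ} (hnd : (A ++ B).Nodup)
    (hl : ∀ r ∈ A ++ B, D.nroots / 2 ≤ r ∧ r < D.nroots) (hA : TwStable C σ A) (hB : TwStable C σ B)
    {g : GL D.Idx F} (hg : g ∈ twFixPart C σ (A ++ B)) :
    ∃ a ∈ twFixPart C σ A, ∃ b ∈ twFixPart C σ B, g = a * b := by
  obtain ⟨⟨t, rfl⟩, hfix⟩ := hg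
  have hG : ∀ (l : List ℕ) (u : ℕ → F), lprod C l u ∈ D.group F := fun l u =>
    list_prod_mem fun x hx => by obtain ⟨r, hr, rfl⟩ := List.mem_map.1 hx; exact xg_mem_group C _ _
  obtain ⟨u, hu⟩ := hA _ ⟨t, rfl⟩
  obtain ⟨v, hv⟩ := hB _ ⟨t, rfl⟩
  rw [lprod_append, h.map_mul _ (hG A t) _ (hG B t), hu, hv] at hfix
  have hu' : lprod C A u = lprod C A (fun r => if r ∈ A then u r else v r) :=
    lprod_congr C fun r hr => by simp [hr]
  have hv' : lprod C B v = lprod C B (fun r => if r ∈ A then u r else v r) :=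
    lprod_congr C fun r hr => by rw [if_neg fun hrA => (List.nodup_append.1 hnd).2.2 r hrA r hr rfl]
  rw [hu', hv', ← lprod_append, ← lprod_append] at hfix
  have key := lprod_inj C K.comm hnd hl hfix
  refine ⟨_, ⟨⟨t, rfl⟩, ?_⟩, _, ⟨⟨t, rfl⟩, ?_⟩, lprod_append C A B t⟩
  · rw [hu, hu']; exact lprod_congr C fun r hr => key r (List.mem_append_left _ hr)
  · rw [hv, hv']; exact lprod_congr C fun r hr => key r (List.mem_append_right _ hr)

variable [Finite F]

theorem TwOK.classes_le {W : Subgroup (GL D.Idx F)}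
    (hrep : ∀ J < τ.norb, ∃ n ∈ W ⊓ h.fixed C, (wnu C F (τ.lw J))⁻¹ * n ∈ D.diagonalSubgroup F)
    (hbase : ∀ J < τ.norb, twFixPart C σ (τ.base J) ⊆ W) :
    ∀ cs : List (ℕ × ℕ), cs.Sublist τ.classes →
      TwStable C σ (cs.flatMap (τ.cls T)) ∧ twFixPart C σ (cs.flatMap (τ.cls T)) ⊆ W := by
  intro cs
  induction cs with
  | nil =>
    refine fun _ => ⟨fun g hg => ?_, fun g hg => ?_⟩
    · obtain ⟨t, rfl⟩ := hg
      exact ⟨t, by simp [lprod, h.map_one C]⟩
    · obtain ⟨⟨t, rfl⟩, -⟩ := hg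
      exact one_mem W
  | cons c cs ih =>
    intro hsub
    have hmem := hsub.subset (List.mem_cons_self ..)
    obtain ⟨s1, -⟩ := h.stable_class C K hc hmem
    obtain ⟨s2, hW⟩ := ih ((List.sublist_cons_self c cs).trans hsub)
    have hs : ((c :: cs).flatMap (τ.cls T)).Sublist (τ.classes.flatMap (τ.cls T)) := List.Sublist.flatMap hsub _
    rw [List.flatMap_cons] at hs ⊢
    have hnd := hs.nodup hc.class_nodup
    have hl : ∀ r ∈ τ.cls T c ++ cs.flatMap (τ.cls T), D.nroots / 2 ≤ r ∧ r < D.nroots := fun r hr => by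
      obtain ⟨h1, h2⟩ := hc.class_pos r (hs.subset hr); omega
    refine ⟨(h.stable_append C K hnd hl s1 s2).1, fun g hg => ?_⟩
    obtain ⟨a, ha, b, hb, rfl⟩ := h.fixed_split C K hc hnd hl s1 s2 hg
    refine W.mul_mem ?_ (hW hb)
    obtain ⟨hJ, he⟩ := hc.class_lt c hmem
    obtain ⟨n, hn, hd⟩ := h.exists_rep C hc hrep he
    have hback : n * (n⁻¹ * a * n) * n⁻¹ = a := by group
    have h1 : n⁻¹ * a * n ∈ Pset C (τ.base c.1) :=
      (mono_conj_pset C (hc.eword_word C he) hd (hc.base_lt _ hJ)).2 (by rw [hback]; exact ha.1)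
    have haG : a ∈ D.group F := by
      obtain ⟨t, rfl⟩ := ha.1
      exact list_prod_mem fun x hx => by obtain ⟨r, hr, rfl⟩ := List.mem_map.1 hx; exact xg_mem_group C _ _
    have h2 : σ (n⁻¹ * a * n) = n⁻¹ * a * n :=
      (Subgroup.mul_mem _ (Subgroup.mul_mem _ (Subgroup.inv_mem _ hn.2) (show a ∈ h.fixed C from ⟨haG, ha.2⟩)) hn.2 : n⁻¹ * a * n ∈ h.fixed C).2
    rw [← hback]
    exact W.mul_mem (W.mul_mem hn.1 (hbase _ hJ ⟨h1, h2⟩)) (W.inv_mem hn.1)

theorem TwOK.pos_fixed_le {W : Subgroup (GL D.Idx F)}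
    (hrep : ∀ J < τ.norb, ∃ n ∈ W ⊓ h.fixed C, (wnu C F (τ.lw J))⁻¹ * n ∈ D.diagonalSubgroup F)
    (hbase : ∀ J < τ.norb, twFixPart C σ (τ.base J) ⊆ W) : D.posUnipotent F ⊓ h.fixed C ≤ W := by
  obtain ⟨e, he, hl⟩ := hc.exists_long_elt C K
  have hev := nroots_even C
  intro g hg
  refine (h.classes_le C K hc hrep hbase τ.classes (List.Sublist.refl _)).2 ⟨?_, hg.2.2⟩
  rw [pset_eq_signPart C K (hc.eword_word C he) hc.class_nodup fun r => ⟨fun hr => ?_, fun hr => ?_⟩]
  · refine (Subgroup.closure_le _).2 ?_ (posUnipotent_eq C (F := F) ▸ hg.1 : g ∈ upper C F (D.nroots / 2))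
    rintro x ⟨r, t, h1, h2, rfl⟩
    exact xg_mem_signPart C K h1 h2 (by simpa using hl r h2 (by omega)) t
  · obtain ⟨h1, h2⟩ := hc.class_pos r hr
    exact mem_negSet.2 ⟨h1, h2, hl r h1 h2⟩
  · exact hc.exists_class C (mem_negSet.1 hr).1 (mem_negSet.1 hr).2.1

/-- A subgroup containing representatives, the fixed parts of the orbit subgroups and the fixed torus. -/
theorem TwOK.fixed_le_of_base {W : Subgroup (GL D.Idx F)}
    (hrep : ∀ J < τ.norb, ∃ n ∈ W ⊓ h.fixed C, (wnu C F (τ.lw J))⁻¹ * n ∈ D.diagonalSubgroup F)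
    (hbase : ∀ J < τ.norb, twFixPart C σ (τ.base J) ⊆ W)
    (hdiag : D.diagonalSubgroup F ⊓ h.fixed C ≤ W) : h.fixed C ≤ W :=
  (h.fixed_le C K hc inf_le_right hrep (le_inf hdiag inf_le_right)
    (le_inf (h.pos_fixed_le C K hc hrep hbase) inf_le_right)).trans inf_le_left

omit h [Finite F] in
include C in
/-- An invariant element of the Weyl group of an orbit is trivial or the longest one. -/
theorem TwComb.orbit_word {J : ℕ} (hJ : J < τ.norb) (hL : TwLinked D T τ) {v : List ℕ}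
    (hv : ∀ i ∈ v, i ∈ τ.orb J) (hi : TwInv D T τ v) :
    SamePerm D T v [] ∨ SamePerm D T v (τ.lw J) := by
  have hev := nroots_even C
  have hw : ∀ {u : List ℕ}, (∀ i ∈ u, i ∈ τ.orb J) → IsWord D u := fun hu i hi => hc.orb_lt J hJ i (hu i hi)
  have outside : ∀ {u : List ℕ}, (∀ i ∈ u, i ∈ τ.orb J) → ∀ r < D.nroots, D.nroots ≤ 2 * r → r ∉ τ.base J →
      D.nroots ≤ 2 * wperm T u r := by
    intro u hu r hr hp hnb
    have hnot : ¬ D.InRootSub {k | k ∈ τ.orb J} r := fun hs => hnb ((hc.base_sub J hJ r hr).2 ⟨hp, hs⟩)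
    rw [inRootSub_iff C] at hnot
    push Not at hnot
    obtain ⟨k, hk, hkJ, hne⟩ := hnot hr
    have hpos : 0 < T.coroot r k := lt_of_le_of_ne (coroot_nonneg C hr hp hk) (Ne.symm hne)
    have key : ∀ u : List ℕ, (∀ i ∈ u, i ∈ τ.orb J) → T.coroot (wperm T u r) k = T.coroot r k := by
      intro u
      induction u with
      | nil => intro _; rfl
      | cons i u ih =>
        intro hu
        have hu' : ∀ x ∈ u, x ∈ τ.orb J := fun x hx => hu x (List.mem_cons_of_mem _ hx)
        show T.coroot (T.refl' i (wperm T u r)) k = _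
        rw [C.spec.cor_refl i (hc.orb_lt J hJ i (hu i (List.mem_cons_self ..))) _ (wperm_lt C (hw hu') hr) k hk,
          if_neg (fun e : k = i => hkJ (show k ∈ τ.orb J by rw [e]; exact hu i (List.mem_cons_self ..))), sub_zero]
        exact ih hu'
    exact pos_of_coroot_pos C (wperm_lt C (hw hu) hr) hk (by rw [key u hu]; exact hpos)
  have hh := hc.head_mem (τ := τ) hJ
  by_cases hp : D.nroots ≤ 2 * wperm T v (T.simp' (τ.head J))
  · left
    refine samePerm_nil_of_negSet C K (hw hv) (Finset.eq_empty_iff_forall_notMem.2 fun r hr => ?_)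
    obtain ⟨h1, h2, h3⟩ := mem_negSet.1 hr
    by_cases hb : r ∈ τ.base J
    · exact absurd ((hc.orb_sign C K (hw hv) hi hJ hh hb h1).1 hp) (not_le.2 h3)
    · exact absurd (outside hv r h1 h2 hb) (not_le.2 h3)
  · right
    have hlv : ∀ i ∈ τ.lw J ++ v, i ∈ τ.orb J := fun i hi =>
      (List.mem_append.1 hi).elim (hL.lw_sub J hJ i) (hv i)
    have hid : SamePerm D T (τ.lw J ++ v) [] := by
      refine samePerm_nil_of_negSet C K (hw hlv) (Finset.eq_empty_iff_forall_notMem.2 fun r hr => ?_)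
      obtain ⟨h1, h2, h3⟩ := mem_negSet.1 hr
      by_cases hb : r ∈ τ.base J
      · have hneg : 2 * wperm T v r < D.nroots :=
          not_le.1 fun hc' => hp ((hc.orb_sign C K (hw hv) hi hJ hh hb h1).2 hc')
        have hy := wperm_lt C (hw hv) h1
        have hn := C.spec.neg_lt _ hy
        rw [wperm_append] at h3
        have h4 : wperm T (τ.lw J) (T.neg (wperm T v r)) = T.neg (wperm T (τ.lw J) (wperm T v r)) :=
          wperm_neg C (hc.lw_word J hJ) hy
        have hnb : T.neg (wperm T v r) ∉ τ.base J := fun hm => by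
          have := ((hc.base_neg J hJ _ hn).1 hm).2
          rw [h4, C.neg_eq (wperm_lt C (hc.lw_word J hJ) hy)] at this
          omega
        apply hnb
        refine (hc.base_sub J hJ _ hn).2 ⟨by rw [C.neg_eq hy]; omega, inRootSub_neg C ?_⟩
        have hsub := ((hc.base_sub J hJ r h1).1 hb).2
        clear hneg hy hn h3 h4 hnb hp hr hlv hi
        revert hv
        induction v with
        | nil => exact fun _ => hsub
        | cons i v ih =>
          intro hv
          exact inRootSub_refl C (hc.orb_lt J hJ i (hv i (List.mem_cons_self ..))) (hv i (List.mem_cons_self ..))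
            (ih fun x hx => hv x (List.mem_cons_of_mem _ hx))
      · exact absurd (outside hlv r h1 h2 hb) (not_le.2 h3)
    intro r hr
    have := hid r hr
    rw [wperm_append] at this
    show wperm T v r = _
    conv_lhs => rw [← hc.lw_sq J hJ _ (wperm_lt C (hw hv) hr)]
    exact congrArg _ this

omit h hc [Finite F] in
theorem orbit_mul_borel {J : Set ℕ} {b n : GL D.Idx F} (hn : n ∈ D.monomialSubgroup F)
    (hb : b ∈ D.borelSubgroup F) :
    ∀ u : List ℕ, IsWord D u → (∀ i ∈ u, i ∈ J) → ∃ v, IsWord D v ∧ (∀ i ∈ v, i ∈ J) ∧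
      ∃ x ∈ D.borelSubgroup F, ∃ y ∈ D.borelSubgroup F, wnu C F u * b * n = x * (wnu C F v * n) * y := by
  intro u
  induction u with
  | nil => exact fun _ _ => ⟨[], fun i hi => absurd hi List.not_mem_nil, fun i hi => absurd hi List.not_mem_nil,
      b, hb, 1, one_mem _, by simp [wnu]⟩
  | cons i u ih =>
    intro hu hJ
    obtain ⟨v, hv, hvJ, x, hx, y, hy, e⟩ := ih hu.tail.2 fun k hk => hJ k (List.mem_cons_of_mem _ hk)
    obtain ⟨x', hx', y', hy', h'⟩ := nu_mul_borel C K hu.tail.1 hx (Subgroup.mul_mem _ (wnu_mem C hv) hn)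
    rw [wnu_cons, show nu C i * wnu C F u * b * n = nu C i * (wnu C F u * b * n) by group, e]
    rw [show nu C i * (x * (wnu C F v * n) * y) = nu C i * x * (wnu C F v * n) * y by group]
    rcases h' with h' | h'
    · refine ⟨i :: v, IsWord.cons hu.tail.1 hv, fun k hk => (List.mem_cons.1 hk).elim
        (fun ek => ek ▸ hJ i (List.mem_cons_self ..)) (hvJ k), x', hx', y' * y, mul_mem hy' hy, ?_⟩
      rw [h', wnu_cons]; group
    · refine ⟨v, hv, hvJ, x', hx', y' * y, mul_mem hy' hy, ?_⟩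
      rw [h']; group

/-- The `(B, N)`-pair of the fixed group, with its distinguished representatives. -/
theorem TwOK.exists_bnPair' (hL : TwLinked D T τ) (h1 : 0 < τ.norb)
    (hne : ∀ J < τ.norb, ∃ g ∈ twFixPart C σ (τ.base J), g ≠ 1) :
    ∃ (P : Cfsg.BNPair ↥(h.fixed C)) (n : Fin τ.norb → ↥(h.fixed C)),
      P.B = (D.borelSubgroup F ⊓ h.fixed C).subgroupOf (h.fixed C) ∧
      P.N = (D.monomialSubgroup F ⊓ h.fixed C).subgroupOf (h.fixed C) ∧ P.S = Set.range n ∧ Function.Injective n ∧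
      (∀ J : Fin τ.norb, (wnu C F (τ.lw J))⁻¹ * (n J : GL D.Idx F) ∈ D.diagonalSubgroup F) ∧ P.Irreducible := by
  choose n hn hd using fun J : Fin τ.norb => show ∃ n : ↥(h.fixed C),
      (wnu C F (τ.lw J))⁻¹ * (n : GL D.Idx F) ∈ D.diagonalSubgroup F ∧ True by
    obtain ⟨n, hn, hs, hd⟩ := h.rep J J.2
    exact ⟨⟨n, hn, hs⟩, hd, trivial⟩
  clear hd
  have hnN : ∀ J : Fin τ.norb, (n J : GL D.Idx F) ∈ D.monomialSubgroup F := fun J => by
    have := mul_mem (wnu_mem C (F := F) (hc.lw_word J J.2)) (diag_le_monomial C (hn J))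
    rwa [mul_inv_cancel_left] at this
  have hdiag : ∀ {x : ↥(h.fixed C)}, x ∈ (D.borelSubgroup F ⊓ h.fixed C).subgroupOf (h.fixed C) →
      (x : GL D.Idx F) ∈ D.monomialSubgroup F → (x : GL D.Idx F) ∈ D.diagonalSubgroup F := fun {x} hx hxN => by
    rw [← borel_inf_monomial C]
    exact ⟨(Subgroup.mem_subgroupOf.1 hx).1, hxN⟩
  have hperm : ∀ {v w : List ℕ}, IsWord D v → IsWord D w → (wnu C F v)⁻¹ * wnu C F w ∈ D.diagonalSubgroup F →
      SamePerm D T v w := fun hv hw hh s hs => perm_of_same C hv hw hh hs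
  have hswap : ∀ J J' : Fin τ.norb, (n J : GL D.Idx F)⁻¹ * n J' ∈ D.diagonalSubgroup F → J = J' := by
    intro J J' hh
    have e : (wnu C F (τ.lw J))⁻¹ * wnu C F (τ.lw J') ∈ D.diagonalSubgroup F := by
      have := mul_mem (mul_mem (hn J) hh) (inv_mem (hn J'))
      simpa [mul_assoc] using this
    have hs := hperm (hc.lw_word J J.2) (hc.lw_word J' J'.2) e
    have hh' := hc.head_mem (τ := τ) J.2
    have hi := hc.orb_lt J J.2 _ hh'
    have hp := C.spec.simp_lt _ hi
    have hb := (hc.base_sub J J.2 _ hp).2 ⟨K.simple_pos hi, inRootSub_simple C hi hh'⟩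
    have h2 := (hc.base_neg J J.2 _ hp).1 hb
    rw [hs _ hp] at h2
    have h3 := ((hc.base_sub J' J'.2 _ hp).1 ((hc.base_neg J' J'.2 _ hp).2 h2)).2
    rw [inRootSub_iff C] at h3
    refine Fin.ext (hL.orb_disj J J.2 J' J'.2 _ hh' ?_)
    by_contra hno
    have := h3.2 _ hi hno
    rw [C.spec.cor_simple _ hi _ hi, if_pos rfl] at this
    exact one_ne_zero this
  have hdH : ∀ {x : GL D.Idx F}, x ∈ D.diagonalSubgroup F → x ∈ D.borelSubgroup F ⊓ D.monomialSubgroup F :=
    fun hx => ⟨Subgroup.mem_sup_right hx, diag_le_monomial C hx⟩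
  have hlong : ∀ {x : ↥(h.fixed C)}, (x : GL D.Idx F) ∈ D.monomialSubgroup F →
      ∃ e < τ.elts.length, ∀ m : GL D.Idx F, (wnu C F (τ.eword e))⁻¹ * m ∈ D.diagonalSubgroup F →
        m⁻¹ * x ∈ D.diagonalSubgroup F := by
    intro x hx
    obtain ⟨w, hw, d, hd, e⟩ := (mem_monomial C).1 hx
    have hmap := hc.map_node_word hw
    have h2 : wnu C F (w.map τ.node) * σ d = wnu C F w * d := by
      rw [← h.map_wnu C hw, ← h.map_mul _ (wnu_mem_group C hw) _ (diag_le_group C hd), ← e]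
      exact x.2.2
    have h3 : (wnu C F (w.map τ.node))⁻¹ * wnu C F w ∈ D.diagonalSubgroup F := by
      rw [show (wnu C F (w.map τ.node))⁻¹ * wnu C F w = σ d * d⁻¹ by
        rw [eq_mul_inv_iff_mul_eq, mul_assoc, ← h2, inv_mul_cancel_left]]
      exact mul_mem (h.map_diag d hd) (inv_mem hd)
    obtain ⟨e', he', hs⟩ := hc.exists_elt C K hw (hc.inv_of_same C hw (hperm hmap hw h3))
    refine ⟨e', he', fun m hm => ?_⟩
    have := mul_mem (mul_mem (inv_mem hm) (same_of_perm C K (hc.eword_word C he') hw fun k hk =>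
      hs _ (C.spec.simp_lt k hk))) hd
    rw [e]
    simpa [mul_assoc] using this
  let P : Cfsg.BNPair ↥(h.fixed C) :=
  { B := (D.borelSubgroup F ⊓ h.fixed C).subgroupOf (h.fixed C)
    N := (D.monomialSubgroup F ⊓ h.fixed C).subgroupOf (h.fixed C)
    S := Set.range n
    sup_eq_top := by
      refine eq_top_iff.2 fun x _ => ?_
      obtain ⟨e, he, hall⟩ := h.bruhat_fixed C K hc x.2
      obtain ⟨m, hm, hmd⟩ := h.exists_fixed_rep C hc he
      obtain ⟨b, hb, c, hcc, ex⟩ := hall m hm hmd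
      have hmN : m ∈ D.monomialSubgroup F := by
        have := mul_mem (wnu_mem C (F := F) (hc.eword_word C he)) (diag_le_monomial C hmd)
        rwa [mul_inv_cancel_left] at this
      rw [show x = ⟨b, hb.2⟩ * ⟨m, hm⟩ * ⟨c, hcc.2⟩ from Subtype.ext ex]
      exact mul_mem (mul_mem (Subgroup.mem_sup_left ⟨hb.1, hb.2⟩) (Subgroup.mem_sup_right ⟨hmN, hm⟩))
        (Subgroup.mem_sup_left ⟨signPart_le_borel C K _ true hcc.1, hcc.2⟩)
    conj_mem := by
      rintro x hx t ⟨htB, htN⟩
      have ht := hdiag htB (Subgroup.mem_subgroupOf.1 htN).1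
      exact Subgroup.mem_subgroupOf.2 ⟨Subgroup.mem_sup_right (conj_mem_diag C (Subgroup.mem_subgroupOf.1 hx).1 ht).1,
        (x * t * x⁻¹).2⟩
    subset := by
      rintro _ ⟨J, rfl⟩
      exact Subgroup.mem_subgroupOf.2 ⟨hnN J, (n J).2⟩
    sq_mem := by
      rintro _ ⟨J, rfl⟩
      refine Subgroup.mem_subgroupOf.2 ⟨Subgroup.mem_sup_right ?_, (n J * n J).2⟩
      have hl := hc.lw_word J J.2
      have h2 : wnu C F (τ.lw J) * wnu C F (τ.lw J) ∈ D.diagonalSubgroup F := by
        have := same_of_perm C K (F := F) (show IsWord D [] from fun i hi => absurd hi List.not_mem_nil)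
          (hl.append hl) fun k hk => by
            rw [wperm_append, hc.lw_sq J J.2 _ (C.spec.simp_lt k hk)]; rfl
        simpa [wnu] using this
      have := mul_mem (mul_mem h2 (conj_mem_diag C (wnu_mem C hl) (hn J)).2) (hn J)
      show (n J : GL D.Idx F) * n J ∈ D.diagonalSubgroup F
      simpa [mul_assoc] using this
    inj := by
      rintro _ ⟨J, rfl⟩ _ ⟨J', rfl⟩ hh
      exact congrArg n (hswap J J' (hdiag hh (Subgroup.mul_mem _ (Subgroup.inv_mem _ (hnN J)) (hnN J'))))
    closure_sup := by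
      refine le_antisymm (sup_le ((Subgroup.closure_le _).2 ?_) inf_le_right) fun x hx => ?_
      · rintro _ ⟨J, rfl⟩
        exact Subgroup.mem_subgroupOf.2 ⟨hnN J, (n J).2⟩
      · obtain ⟨e, he, hall⟩ := hlong (Subgroup.mem_subgroupOf.1 hx).1
        obtain ⟨m, hm, hmd⟩ := h.exists_rep C hc (W := (Subgroup.closure (Set.range n)).map (h.fixed C).subtype)
          (fun J hJ => ⟨_, ⟨n ⟨J, hJ⟩, Subgroup.subset_closure ⟨_, rfl⟩, rfl⟩, hn ⟨J, hJ⟩⟩) he
        obtain ⟨m, hm, rfl⟩ := hm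
        have := hdH (hall _ hmd)
        rw [show x = m * (m⁻¹ * x) by group]
        exact mul_mem (Subgroup.mem_sup_left hm) (Subgroup.mem_sup_right
          ⟨Subgroup.mem_subgroupOf.2 ⟨this.1, (m⁻¹ * x).2⟩, Subgroup.mem_subgroupOf.2 ⟨this.2, (m⁻¹ * x).2⟩⟩)
    mul_mem_union := by
      rintro _ ⟨J, rfl⟩ m hm b hb
      obtain ⟨hmN, -⟩ := Subgroup.mem_subgroupOf.1 hm
      obtain ⟨hbB, -⟩ := Subgroup.mem_subgroupOf.1 hb
      have hl := hc.lw_word J J.2
      obtain ⟨v, hv, hvJ, x, hx, y, hy, exy⟩ := orbit_mul_borel C K (J := {k | k ∈ τ.orb J}) hmN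
        (mul_mem (Subgroup.mem_sup_right (hn J) : _ ∈ D.borelSubgroup F) hbB) (τ.lw J) hl (hL.lw_sub J J.2)
      have hg : (n J * b * m : GL D.Idx F) = x * (wnu C F v * m) * y := by
        rw [← exy]; group
      obtain ⟨e, he, hall⟩ := h.bruhat_fixed C K hc (n J * b * m).2
      obtain ⟨w, hw, d, hdd, em⟩ := (mem_monomial C).1 hmN
      obtain ⟨k, hk, hkd⟩ := h.exists_fixed_rep C hc he
      obtain ⟨b', hb', c', hc', e1⟩ := hall k hk hkd
      have hkN : k ∈ D.monomialSubgroup F := by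
        have := mul_mem (wnu_mem C (F := F) (hc.eword_word C he)) (diag_le_monomial C hkd)
        rwa [mul_inv_cancel_left] at this
      have hcell := cells_disjoint C K hx hb'.1 (Subgroup.mul_mem _ (wnu_mem C hv) hmN) hkN hy
        (signPart_le_borel C K _ true hc'.1) (by rw [← hg, ← e1]; rfl)
      have hvw : SamePerm D T (v ++ w) (τ.eword e) := by
        refine hperm (hv.append hw) (hc.eword_word C he) ?_
        have := mul_mem (mul_mem hdd hcell) (inv_mem hkd)
        rw [wnu_append]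
        rw [em] at this
        simpa [mul_assoc] using this
      obtain ⟨e2, he2, hall2⟩ := hlong (x := m) hmN
      have hwinv : TwInv D T τ w := by
        obtain ⟨m2, hm2, hm2d⟩ := h.exists_fixed_rep C hc he2
        have h3 : (wnu C F (τ.eword e2))⁻¹ * wnu C F w ∈ D.diagonalSubgroup F := by
          have := mul_mem (mul_mem hm2d (hall2 m2 hm2d)) (inv_mem hdd)
          rw [em] at this
          simpa [mul_assoc] using this
        exact TwInv.congr (fun r hr => hc.root_lt r hr) (hperm (hc.eword_word C he2) hw h3) (hc.eword_inv C he2)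
      have hvinv : TwInv D T τ v := by
        refine TwInv.congr (fun r hr => hc.root_lt r hr) ?_ (TwInv.append C hc hw.reverse
          (hc.eword_inv C he) (TwInv.reverse C hc hw hwinv))
        intro r hr
        have hr' := wperm_lt C hw.reverse hr
        have e3 := hvw _ hr'
        rw [wperm_append] at e3
        have e4 := wperm_reverse C hw.reverse hr
        rw [List.reverse_reverse] at e4
        rw [e4] at e3
        rw [wperm_append]; exact e3.symm
      have hk' : k⁻¹ * (wnu C F v * m) ∈ D.diagonalSubgroup F := by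
        have := inv_mem hcell
        simpa [mul_assoc] using this
      have fin : ∀ p : ↥(h.fixed C), (p : GL D.Idx F)⁻¹ * k ∈ D.diagonalSubgroup F →
          n J * b * m ∈ DoubleCoset.doubleCoset p
            ((D.borelSubgroup F ⊓ h.fixed C).subgroupOf (h.fixed C) : Set ↥(h.fixed C))
            ((D.borelSubgroup F ⊓ h.fixed C).subgroupOf (h.fixed C)) := by
        intro p hp
        refine DoubleCoset.mem_doubleCoset.2 ⟨⟨b', hb'.2⟩, Subgroup.mem_subgroupOf.2 hb',
          ⟨(p : GL D.Idx F)⁻¹ * k * c', Subgroup.mul_mem _ (Subgroup.mul_mem _ (Subgroup.inv_mem _ p.2) hk) hc'.2⟩,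
          Subgroup.mem_subgroupOf.2 ⟨Subgroup.mul_mem _ (Subgroup.mem_sup_right hp) (signPart_le_borel C K _ true hc'.1),
            Subgroup.mul_mem _ (Subgroup.mul_mem _ (Subgroup.inv_mem _ p.2) hk) hc'.2⟩, Subtype.ext ?_⟩
        show (n J * b * m : GL D.Idx F) = _
        simp only [Subgroup.coe_mul]
        rw [show (n J : GL D.Idx F) * b * m = b' * k * c' from e1]
        group
      rcases hc.orbit_word C K J.2 hL hvJ hvinv with hs | hs
      · refine Or.inr (fin m ?_)
        have h4 : (wnu C F v) ∈ D.diagonalSubgroup F := by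
          have := same_of_perm C K (F := F) (show IsWord D [] from fun i hi => absurd hi List.not_mem_nil) hv
            fun i hi => (hs _ (C.spec.simp_lt i hi)).symm
          simpa [wnu] using this
        have h5 := mul_mem (conj_mem_diag C hmN h4).2 (inv_mem hk')
        simpa [mul_assoc] using h5
      · refine Or.inl (fin (n J * m) ?_)
        have h4 : (n J : GL D.Idx F)⁻¹ * wnu C F v ∈ D.diagonalSubgroup F := by
          have := mul_mem (inv_mem (hn J)) (same_of_perm C K (F := F) hl hv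
            fun i hi => (hs _ (C.spec.simp_lt i hi)).symm)
          simpa [mul_assoc] using this
        have h5 := mul_mem (conj_mem_diag C hmN h4).2 (inv_mem hk')
        show ((n J : GL D.Idx F) * m)⁻¹ * k ∈ _
        simpa [mul_assoc] using h5
    conj_ne := by
      rintro _ ⟨J, rfl⟩ hh
      obtain ⟨g, hg, hg1⟩ := hne J J.2
      have hgS := (h.base_mem_signPart C K hc J.2).1 hg.1
      have hgB := signPart_le_borel C K (τ.lw J) true hgS
      have hgf : g ∈ h.fixed C := ⟨borel_le_group C hgB, hg.2⟩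
      have hx : n J * ⟨g, hgf⟩ * n J ∈ (D.borelSubgroup F ⊓ h.fixed C).subgroupOf (h.fixed C) := by
        rw [← SetLike.mem_coe, ← hh]
        exact ⟨⟨g, hgf⟩, Subgroup.mem_subgroupOf.2 ⟨hgB, hgf⟩, rfl⟩
      have hsq : (n J : GL D.Idx F) * n J ∈ D.borelSubgroup F := by
        refine Subgroup.mem_sup_right ?_
        have hl := hc.lw_word J J.2
        have h2 : wnu C F (τ.lw J) * wnu C F (τ.lw J) ∈ D.diagonalSubgroup F := by
          have := same_of_perm C K (F := F) (show IsWord D [] from fun i hi => absurd hi List.not_mem_nil)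
            (hl.append hl) fun k hk => by
              rw [wperm_append, hc.lw_sq J J.2 _ (C.spec.simp_lt k hk)]; rfl
          simpa [wnu] using this
        have := mul_mem (mul_mem h2 (conj_mem_diag C (wnu_mem C hl) (hn J)).2) (hn J)
        simpa [mul_assoc] using this
      have hneg := ((signPart_iff_conj C K (hc.lw_word J J.2) (hn J)).1 hgS).2
      have hb : (n J : GL D.Idx F) * g * (n J : GL D.Idx F)⁻¹ ∈ D.borelSubgroup F := by
        have := Subgroup.mul_mem _ (Subgroup.mem_subgroupOf.1 hx).1 (Subgroup.inv_mem _ hsq)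
        simpa [mul_assoc] using this
      have h0 : (n J : GL D.Idx F) * g * (n J : GL D.Idx F)⁻¹ ∈ D.borelSubgroup F ⊓ D.negUnipotent F := ⟨hb, hneg⟩
      rw [borel_inf_neg C, Subgroup.mem_bot, conj_eq_one_iff] at h0
      exact hg1 h0 }
  refine ⟨P, n, rfl, rfl, rfl, fun J J' e => hswap J J' (by rw [e, inv_mul_cancel]; exact one_mem _), hn, ?_⟩
  intro S0 hS0 ⟨a, ha⟩ ⟨b, hb⟩
  by_contra hcon
  push Not at hcon
  have hnc : ∀ J J' : Fin τ.norb, (∃ r < D.nroots,
      wperm T (τ.lw J) (wperm T (τ.lw J') r) ≠ wperm T (τ.lw J') (wperm T (τ.lw J) r)) →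
      n J * n J' * (n J)⁻¹ * (n J')⁻¹ ∉ P.B := by
    rintro J J' ⟨r, hr, hne'⟩ hB
    apply hne'
    have hl := hc.lw_word J J.2
    have hl' := hc.lw_word J' J'.2
    have hH := hdiag hB (Subgroup.mul_mem _ (Subgroup.mul_mem _ (Subgroup.mul_mem _ (hnN J) (hnN J'))
      (Subgroup.inv_mem _ (hnN J))) (Subgroup.inv_mem _ (hnN J')))
    have h1 : (wnu C F (τ.lw J' ++ τ.lw J))⁻¹ * wnu C F (τ.lw J ++ τ.lw J') ∈ D.diagonalSubgroup F := by
      have hA : (wnu C F (τ.lw J ++ τ.lw J'))⁻¹ * ((n J : GL D.Idx F) * n J') ∈ D.diagonalSubgroup F := by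
        have := mul_mem (conj_mem_diag C (wnu_mem C hl') (hn J)).2 (hn J')
        rw [wnu_append]; simpa [mul_assoc] using this
      have hA' : (wnu C F (τ.lw J' ++ τ.lw J))⁻¹ * ((n J' : GL D.Idx F) * n J) ∈ D.diagonalSubgroup F := by
        have := mul_mem (conj_mem_diag C (wnu_mem C hl) (hn J')).2 (hn J)
        rw [wnu_append]; simpa [mul_assoc] using this
      have hB' : ((n J' : GL D.Idx F) * n J)⁻¹ * ((n J : GL D.Idx F) * n J') ∈ D.diagonalSubgroup F := by
        have := (conj_mem_diag C (Subgroup.mul_mem _ (hnN J') (hnN J)) hH).2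
        simpa [mul_assoc] using this
      have := mul_mem (mul_mem hA' hB') (inv_mem hA)
      simpa [mul_assoc] using this
    have h2 := hperm (hl'.append hl) (hl.append hl') h1 r hr
    rw [wperm_append, wperm_append] at h2
    exact h2.symm
  have key : ∀ J : Fin τ.norb, (n J ∈ S0 ↔ n ⟨0, h1⟩ ∈ S0) := by
    rintro ⟨J, hJ⟩
    induction J using Nat.strong_induction_on with
    | _ J ih =>
      by_cases h0 : J = 0
      · subst h0; rfl
      · obtain ⟨J', hJ', r, hr, hne'⟩ := hL.linked J hJ h0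
        refine Iff.trans ?_ (ih J' hJ' (hJ'.trans hJ))
        constructor <;> intro hm <;> by_contra hm'
        · exact hnc ⟨J, hJ⟩ ⟨J', hJ'.trans hJ⟩ ⟨r, hr, hne'⟩ (hcon _ hm _ ⟨⟨_, rfl⟩, hm'⟩)
        · exact hnc ⟨J', hJ'.trans hJ⟩ ⟨J, hJ⟩ ⟨r, hr, hne'.symm⟩ (hcon _ hm _ ⟨⟨_, rfl⟩, hm'⟩)
  obtain ⟨Ja, rfl⟩ := hS0 ha
  obtain ⟨Jb, rfl⟩ := hb.1
  exact hb.2 ((key Jb).2 ((key Ja).1 ha))

/-- The `(B, N)`-pair of the fixed group. -/
theorem TwOK.exists_bnPair (hL : TwLinked D T τ) (h1 : 0 < τ.norb)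
    (hne : ∀ J < τ.norb, ∃ g ∈ twFixPart C σ (τ.base J), g ≠ 1) :
    ∃ P : Cfsg.BNPair ↥(h.fixed C),
      P.B = (D.borelSubgroup F ⊓ h.fixed C).subgroupOf (h.fixed C) ∧
      P.N = (D.monomialSubgroup F ⊓ h.fixed C).subgroupOf (h.fixed C) ∧ P.Irreducible := by
  obtain ⟨P, -, hB, hN, -, -, -, hI⟩ := h.exists_bnPair' C K hc hL h1 hne
  exact ⟨P, hB, hN, hI⟩

end Cfsg.Lib.Chev
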