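import Mathlib
import Cfsg.Agent.Lib.Chev.TwGroup

/-!
The core of the Borel subgroup and simplicity of the fixed group.
-/

set_option autoImplicit false

namespace Cfsg.Lib.Chev

open Cfsg.Lie
open scoped commutatorElement

variable {D : ChevalleyDatum} {T : Tbl} {F : Type*} [Field F] (C : Cert D T) (K : FullCert D T)
  {τ : TwData} (hc : TwComb D T τ) {σ : GL D.Idx F → GL D.Idx F} (h : TwOK C τ σ)

/-- The orbit subgroups see every fundamental root. -/
def TwWitness (C : Cert D T) (τ : TwData) (σ : GL D.Idx F → GL D.Idx F) : Prop :=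
  ∀ i < D.rank, ∃ J < τ.norb, ∃ t : ℕ → F, T.simp' i ∈ τ.base J ∧ t (T.simp' i) ≠ 0 ∧
    lprod C (τ.base J) t ∈ twFixPart C σ (τ.base J)

include h hc K

theorem TwOK.core_eq_bot (hw : TwWitness C τ σ) :
    ((D.borelSubgroup F ⊓ h.fixed C).subgroupOf (h.fixed C)).normalCore = ⊥ := by
  classical
  set B1 := (D.borelSubgroup F ⊓ h.fixed C).subgroupOf (h.fixed C) with hB1
  have hB : ∀ {x : ↥(h.fixed C)}, x ∈ B1.normalCore → (x : GL D.Idx F) ∈ D.borelSubgroup F := fun hx =>
    (Subgroup.mem_subgroupOf.1 (Subgroup.normalCore_le _ hx)).1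
  have hnorm : ∀ {x : ↥(h.fixed C)}, x ∈ B1.normalCore → ∀ g : ↥(h.fixed C), g * x * g⁻¹ ∈ B1.normalCore :=
    fun hx g => (Subgroup.normalCore_normal B1).conj_mem _ hx g
  obtain ⟨e, he, hl⟩ := hc.exists_long_elt C K
  obtain ⟨n, hn, hnd⟩ := h.exists_fixed_rep C hc he
  have hev := nroots_even C
  have hew := hc.eword_word C he
  have hnN : n ∈ D.monomialSubgroup F := by
    have := mul_mem (wnu_mem C (F := F) hew) (diag_le_monomial C hnd)
    rwa [mul_inv_cancel_left] at this
  have hdiag : ∀ {x : ↥(h.fixed C)}, x ∈ B1.normalCore → (x : GL D.Idx F) ∈ D.diagonalSubgroup F := by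
    intro x hx
    obtain ⟨u, hu, d, hd, e'⟩ := (mem_borel C).1 (hB hx)
    have h1 : n * (x : GL D.Idx F) * n⁻¹ ∈ D.borelSubgroup F := hB (hnorm hx ⟨n, hn⟩)
    have h2 : n * u * n⁻¹ ∈ D.negUnipotent F := by
      refine ((signPart_iff_conj C K hew hnd).1 ?_).2
      refine (Subgroup.closure_le _).2 ?_ (posUnipotent_eq C (F := F) ▸ hu : u ∈ upper C F (D.nroots / 2))
      rintro y ⟨r, t, r1, r2, rfl⟩
      exact xg_mem_signPart C K r1 r2 (by simpa using hl r r2 (by omega)) t
    have h3 : n * (x : GL D.Idx F) * n⁻¹ ∈ D.diagonalSubgroup F := by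
      rw [← borel_inf_neg_diag C]
      refine ⟨h1, ?_⟩
      rw [e', show n * (u * d) * n⁻¹ = (n * u * n⁻¹) * (n * d * n⁻¹) by group]
      exact Subgroup.mul_mem _ (Subgroup.mem_sup_left h2) (Subgroup.mem_sup_right (conj_mem_diag C hnN hd).1)
    have := (conj_mem_diag C hnN h3).2
    simpa [mul_assoc] using this
  refine (Subgroup.eq_bot_iff_forall _).2 fun x hx => Subtype.ext ?_
  have hxH := hdiag hx
  obtain ⟨c, hc0, ec⟩ := coe_diagonal C hxH
  have hchr : ∀ r < D.nroots, ∀ t : F,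
      (x : GL D.Idx F) * xg C r t * (x : GL D.Idx F)⁻¹ = xg C r (chr T D c r * t) := fun r hr t => by
    rw [mul_inv_eq_iff_eq_mul]
    exact Units.ext (by rw [Units.val_mul, Units.val_mul, ec, coe_xg, coe_xg, scal_mul_x C.spec c hc0 hr])
  have hlp : ∀ (l : List ℕ) (t : ℕ → F), (∀ r ∈ l, r < D.nroots) →
      (x : GL D.Idx F) * lprod C l t * (x : GL D.Idx F)⁻¹ = lprod C l fun r => chr T D c r * t r := by
    intro l t
    induction l with
    | nil => simp [lprod]
    | cons r l ih =>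
      intro hl
      rw [lprod_cons, lprod_cons, ← hchr r (hl r (List.mem_cons_self ..)),
        ← ih fun y hy => hl y (List.mem_cons_of_mem _ hy)]
      group
  have hsimp : ∀ i < D.rank, chr T D c (T.simp' i) = 1 := by
    intro i hi
    obtain ⟨J, hJ, t, hb, ht, hg⟩ := hw i hi
    have hlt := hc.base_lt J hJ
    have hl' : ∀ r ∈ τ.base J, D.nroots / 2 ≤ r ∧ r < D.nroots := fun r hr => by
      have := ((hc.base_sub J hJ r (hlt r hr)).1 hr).1
      exact ⟨by omega, hlt r hr⟩
    have hgU : lprod C (τ.base J) t ∈ D.posUnipotent F := lprod_mem_pos C (fun r hr => (hl' r hr).1) t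
    let g : ↥(h.fixed C) := ⟨_, pos_le_group C hgU, hg.2⟩
    have hcomm : x * g * x⁻¹ * g⁻¹ ∈ B1.normalCore := by
      have := mul_mem hx (hnorm (inv_mem hx) g)
      simpa [mul_assoc] using this
    have h4 : (x : GL D.Idx F) * lprod C (τ.base J) t * (x : GL D.Idx F)⁻¹ * (lprod C (τ.base J) t)⁻¹ ∈
        D.posUnipotent F ⊓ D.diagonalSubgroup F :=
      ⟨Subgroup.mul_mem _ ((Subgroup.mem_normalizer_iff.1 (diag_le_normalizer C hxH) _).1 hgU)
        (Subgroup.inv_mem _ hgU), hdiag hcomm⟩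
    rw [pos_inf_diag C, Subgroup.mem_bot, mul_inv_eq_one, hlp _ t hlt] at h4
    have := lprod_inj C K.comm (hc.base_nodup J hJ) hl' h4 _ hb
    exact mul_right_cancel₀ ht (this.trans (one_mul _).symm)
  have hall : ∀ r < D.nroots, chr T D c r = 1 := by
    refine C.root_induction (fun i hi => hsimp i hi) fun i hi r hr ih => ?_
    have : chr T D c (T.refl' i r) = chr T D c r * (chr T D c (T.simp' i) ^ T.cartan i r)⁻¹ := by
      simp only [chr, ← Finset.prod_zpow, ← Finset.prod_inv_distrib, ← Finset.prod_mul_distrib]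
      refine Finset.prod_congr rfl fun j hj => ?_
      rw [Finset.mem_range] at hj
      rw [C.spec.cart_refl i hi j hj r hr, zpow_sub₀ (hc0 j hj), ← zpow_mul, mul_comm (T.cartan i r), div_eq_mul_inv]
    rw [this, ih, hsimp i hi]; simp
  show (x : GL D.Idx F) = 1
  refine diag_eq_one_of_comm C hxH fun r hr => ?_
  rw [← mul_inv_eq_iff_eq_mul, hchr r hr, hall r hr, one_mul]

variable [Finite F]

/-- Simplicity from perfectness. -/
theorem TwOK.simple_of_perfect (hL : TwLinked D T τ) (h1 : 0 < τ.norb) (hrank : 0 < D.rank) (hw : TwWitness C τ σ)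
    (hperf : commutator ↥(h.fixed C) = ⊤) :
    IsSimpleGroup ↥(h.fixed C) ∧ ¬ IsMulCommutative ↥(h.fixed C) := by
  have hne : ∀ J < τ.norb, ∃ g ∈ twFixPart C σ (τ.base J), g ≠ 1 := by
    intro J hJ
    have hh := hc.head_mem (τ := τ) hJ
    have hi := hc.orb_lt J hJ _ hh
    obtain ⟨J', hJ', t, hb, ht, hg⟩ := hw _ hi
    have hlt := hc.base_lt J' hJ'
    have hl' : ∀ r ∈ τ.base J', D.nroots / 2 ≤ r ∧ r < D.nroots := fun r hr => by
      have := ((hc.base_sub J' hJ' r (hlt r hr)).1 hr).1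
      exact ⟨by have := nroots_even C; omega, hlt r hr⟩
    have hmem : τ.head J ∈ τ.orb J' := by
      by_contra hno
      have h2 := ((inRootSub_iff C).1 ((hc.base_sub J' hJ' _ (hlt _ hb)).1 hb).2).2 _ hi hno
      rw [C.spec.cor_simple _ hi _ hi, if_pos rfl] at h2
      exact one_ne_zero h2
    obtain rfl := hL.orb_disj J hJ J' hJ' _ hh hmem
    refine ⟨_, hg, fun e => ht ?_⟩
    exact lprod_inj C K.comm (hc.base_nodup J hJ) hl' (u := fun _ => (0 : F))
      (by rw [e, lprod_zero]) _ hb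
  obtain ⟨P, hPB, -, hirr⟩ := h.exists_bnPair C K hc hL h1 hne
  have hnc : ¬ IsMulCommutative ↥(h.fixed C) := by
    intro hcm
    have h2 : commutator ↥(h.fixed C) = ⊥ := by
      rw [commutator_def, eq_bot_iff, Subgroup.commutator_le]
      intro a _ b _
      rw [Subgroup.mem_bot, commutatorElement_eq_one_iff_mul_comm]
      exact hcm.is_comm.comm a b
    obtain ⟨g, hg, hg1⟩ := hne 0 h1
    have hgB := signPart_le_borel C K (τ.lw 0) true ((h.base_mem_signPart C K hc h1).1 hg.1)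
    have hmem : (⟨g, borel_le_group C hgB, hg.2⟩ : ↥(h.fixed C)) ∈ commutator ↥(h.fixed C) := by
      rw [hperf]; exact Subgroup.mem_top _
    rw [h2, Subgroup.mem_bot] at hmem
    exact hg1 (congrArg Subtype.val hmem)
  have : Nontrivial ↥(h.fixed C) := by
    by_contra hn
    rw [not_nontrivial_iff_subsingleton] at hn
    exact hnc ⟨⟨fun a b => Subsingleton.elim _ _⟩⟩
  refine ⟨Cfsg.Agent.S0319.result P hirr ?_ hperf (by rw [hPB]; exact h.core_eq_bot C K hc hw), hnc⟩
  rw [hPB]
  have hsol := borel_isSolvable C (F := F) K.comm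
  let f : ↥((D.borelSubgroup F ⊓ h.fixed C).subgroupOf (h.fixed C)) →* ↥(D.borelSubgroup F) :=
    { toFun := fun x => ⟨(x.1 : GL D.Idx F), (Subgroup.mem_subgroupOf.1 x.2).1⟩
      map_one' := rfl
      map_mul' := fun a b => rfl }
  exact Group.isSolvable_of_isSolvable_injective (f := f)
    (fun a b e => Subtype.ext (Subtype.ext (congrArg (fun z : ↥(D.borelSubgroup F) => (z : GL D.Idx F)) e)))

end Cfsg.Lib.Chev
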