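import Mathlib
import Cfsg.Agent.Lib.Chev.TwSimple
import Cfsg.Agent.Lib.Chev.Graph
import Cfsg.Agent.Lib.Chev.Torus

/-!
Twisting by a diagram symmetry composed with a field endomorphism, one root length.
-/

set_option autoImplicit false

namespace Cfsg.Lib.Chev

open Cfsg.Lie
open scoped commutatorElement

/-- The twisting map. -/
noncomputable def twSigma {D : ChevalleyDatum} {T : Tbl} {S : Sym} (hS : SymOK D T S) {F : Type*} [Field F]
    (f : F →+* F) (g : GL D.Idx F) : GL D.Idx F :=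
  hS.glHom (Matrix.GeneralLinearGroup.map f g)

/-- The check that a twisted root system comes from a symmetry with one root length. -/
noncomputable def chkTwSimply (T : Tbl) (S : Sym) (τ : TwData) (k : ℕ) : Bool :=
  allBelow (fun i => Nat.beq (τ.node i) (S.node i)) T.rank &&
  allBelow (fun r => Nat.beq (τ.root r) (S.root r)) T.nroots &&
  allBelow (fun J => eqNats (τ.lw J) (τ.orb J) && (eqNats (τ.base J) ((τ.orb J).map T.simp') &&
    ((eqNats ((τ.orb J).map τ.node) ((τ.orb J).tail ++ [τ.head J]) &&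
      eqNats ((τ.base J).map (wperm T (τ.lw J))) ((τ.base J).map T.neg)) && (decide (τ.orb J).Nodup &&
    ((Nat.beq (τ.orb J).length 1 || Nat.beq (τ.orb J).length k) &&
    (τ.orb J).all fun a => (τ.orb J).all fun b => Nat.beq a b ||
      (decide (T.cartan a (T.simp' b) = 0) && (tTerms T (T.simp' a) (T.simp' b)).isEmpty &&
      ((tTerms T (T.simp' a) (T.neg (T.simp' b))).isEmpty &&
      ((tTerms T (T.neg (T.simp' a)) (T.simp' b)).isEmpty &&
      (tTerms T (T.neg (T.simp' a)) (T.neg (T.simp' b))).isEmpty)))))))) τ.norb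

/-- The facts expressed by the check. -/
structure TwSimplyOK (D : ChevalleyDatum) (T : Tbl) (S : Sym) (τ : TwData) (k : ℕ) : Prop where
  node_eq : ∀ i < D.rank, τ.node i = S.node i
  root_eq : ∀ r < D.nroots, τ.root r = S.root r
  lw_eq : ∀ J < τ.norb, τ.lw J = τ.orb J
  base_eq : ∀ J < τ.norb, τ.base J = (τ.orb J).map T.simp'
  orb_shift : ∀ J < τ.norb, (τ.orb J).map τ.node = (τ.orb J).tail ++ [τ.head J]
  base_flip : ∀ J < τ.norb, (τ.base J).map (wperm T (τ.lw J)) = (τ.base J).map T.neg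
  orb_nodup : ∀ J < τ.norb, (τ.orb J).Nodup
  orb_len : ∀ J < τ.norb, (τ.orb J).length = 1 ∨ (τ.orb J).length = k
  orb_comm : ∀ J < τ.norb, ∀ a ∈ τ.orb J, ∀ b ∈ τ.orb J, a ≠ b → T.cartan a (T.simp' b) = 0 ∧
    ∀ r ∈ [T.simp' a, T.neg (T.simp' a)], ∀ s ∈ [T.simp' b, T.neg (T.simp' b)], tTerms T r s = []

theorem twSimply_of_chk {D : ChevalleyDatum} {T : Tbl} (C : Cert D T) {S : Sym} {τ : TwData} {k : ℕ}
    (h : chkTwSimply T S τ k = true) : TwSimplyOK D T S τ k := by
  have H := C.spec.shape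
  simp only [chkTwSimply, Bool.and_eq_true, allBelow_iff, Bool.or_eq_true, Nat.beq_eq, List.all_eq_true,
    decide_eq_true_eq, List.isEmpty_iff, H.rank_eq, H.nroots_eq] at h
  obtain ⟨⟨h1, h2⟩, h3⟩ := h
  exact
    { node_eq := h1
      root_eq := h2
      lw_eq := fun J hJ => eqNats_iff _ _ (h3 J hJ).1
      base_eq := fun J hJ => eqNats_iff _ _ (h3 J hJ).2.1
      orb_shift := fun J hJ => eqNats_iff _ _ (h3 J hJ).2.2.1.1
      base_flip := fun J hJ => eqNats_iff _ _ (h3 J hJ).2.2.1.2
      orb_nodup := fun J hJ => (h3 J hJ).2.2.2.1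
      orb_len := fun J hJ => (h3 J hJ).2.2.2.2.1
      orb_comm := fun J hJ a ha b hb hab => by
        obtain ⟨⟨e0, e1⟩, e2, e3, e4⟩ := ((h3 J hJ).2.2.2.2.2 a ha b hb).resolve_left hab
        refine ⟨e0, fun r hr s hs => ?_⟩
        simp only [List.mem_cons, List.not_mem_nil, or_false] at hr hs
        rcases hr with rfl | rfl <;> rcases hs with rfl | rfl
        exacts [e1, e2, e3, e4] }

variable {D : ChevalleyDatum} {T : Tbl} {F : Type*} [Field F] (C : Cert D T)
include C

theorem xg_commute (K : CommCert D T) {r s : ℕ} (hr : r < D.nroots) (hs : s < D.nroots) (h1 : s ≠ r)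
    (h2 : s ≠ T.neg r) (he : tTerms T r s = []) (t u : F) : Commute (xg C r t) (xg C s u) := by
  show xg C r t * xg C s u = xg C s u * xg C r t
  refine Units.ext ?_
  have := comm_formula K (F := F) hr hs h1 h2 t u
  rw [ChevalleyDatum.commWord, commTerms_eq C hr hs, he, List.map_nil] at this
  rw [Units.val_mul, Units.val_mul, coe_xg, coe_xg, this]
  simp [ChevalleyDatum.wordMat]

omit C in
/-- The power map of a field endomorphism along a list. -/
noncomputable def orbEl (C : Cert D T) (f : F →+* F) : List ℕ → F → GL D.Idx F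
  | [], _ => 1
  | r :: l, v => xg C r v * orbEl C f l (f v)

theorem orbEl_append (f : F →+* F) : ∀ (l m : List ℕ) (v : F),
    orbEl C f (l ++ m) v = orbEl C f l v * orbEl C f m (f^[l.length] v)
  | [], m, v => by simp [orbEl]
  | r :: l, m, v => by
    simp only [List.cons_append, orbEl, List.length_cons, Function.iterate_succ_apply]
    rw [orbEl_append f l m (f v), mul_assoc]

theorem orbEl_commute {f : F →+* F} {x : GL D.Idx F} :
    ∀ (l : List ℕ) (v : F), (∀ r ∈ l, ∀ t, Commute x (xg C r t)) → Commute x (orbEl C f l v)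
  | [], _, _ => Commute.one_right x
  | r :: l, v, h => (h r (List.mem_cons_self ..) v).mul_right
      (orbEl_commute l (f v) fun s hs => h s (List.mem_cons_of_mem _ hs))

theorem orbEl_mem_pset (f : F →+* F) : ∀ (l : List ℕ) (v : F), l.Nodup →
    ∃ t : ℕ → F, orbEl C f l v = lprod C l t ∧ ∀ a, l.head? = some a → t a = v
  | [], v, _ => ⟨fun _ => 0, rfl, by simp⟩
  | r :: l, v, hnd => by
    classical
    obtain ⟨t, ht, -⟩ := orbEl_mem_pset f l (f v) (List.nodup_cons.1 hnd).2
    refine ⟨Function.update t r v, ?_, fun a ha => ?_⟩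
    · rw [orbEl, lprod_cons, ht, Function.update_self]
      congr 1
      exact lprod_congr C fun s hs =>
        (Function.update_of_ne (fun e => (List.nodup_cons.1 hnd).1 (by rw [← e]; exact hs)) _ _).symm
    · obtain rfl : r = a := by simpa using ha
      exact Function.update_self ..

omit C in
theorem map_shift_mem {g : ℕ → ℕ} {r : ℕ} {l : List ℕ} (h : (r :: l).map g = l ++ [r]) {s : ℕ}
    (hs : s ∈ r :: l) : g s ∈ r :: l := by
  have := List.mem_map_of_mem (f := g) hs
  rw [h] at this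
  rcases List.mem_append.1 this with h' | h'
  · exact List.mem_cons_of_mem _ h'
  · rw [List.mem_singleton] at h'; rw [h']; exact List.mem_cons_self ..

variable {S : Sym} (hS : SymOK D T S) (f : F →+* F) {τ : TwData}

theorem twSigma_xg {r : ℕ} (hr : r < D.nroots) (t : F) :
    twSigma hS f (xg C r t) = xg C (S.root r) ((S.eps r : ℤ) * f t) := by
  have e : Matrix.GeneralLinearGroup.map f (xg C r t) = xg C r (f t) := by
    refine Units.ext ?_
    show ((xg C r t : GL D.Idx F) : Matrix D.Idx D.Idx F).map f = _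
    rw [coe_xg, coe_xg, Cfsg.Lib.Linear.Chev.xMat_map]
  rw [twSigma, e, hS.glHom_xg C hr]

omit C in
theorem twSigma_mul (a b : GL D.Idx F) : twSigma hS f (a * b) = twSigma hS f a * twSigma hS f b := by
  simp [twSigma, map_mul]

omit C in
theorem twSigma_one : twSigma hS f (1 : GL D.Idx F) = 1 := by simp [twSigma]

theorem twSigma_orbEl {l : List ℕ} (hl : ∀ r ∈ l, r < D.nroots ∧ S.eps r = 1) : ∀ v,
    twSigma hS f (orbEl C f l v) = orbEl C f (l.map S.root) (f v) := by
  induction l with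
  | nil => exact fun v => twSigma_one hS f
  | cons r l ih =>
    intro v
    obtain ⟨hr, he⟩ := hl r (List.mem_cons_self ..)
    simp only [orbEl, List.map_cons]
    rw [twSigma_mul, twSigma_xg C hS f hr, ih (fun s hs => hl s (List.mem_cons_of_mem _ hs)), he, Int.cast_one, one_mul]

/-- An orbit element is fixed. -/
theorem orbEl_fixed {r : ℕ} {l : List ℕ} (hl : ∀ s ∈ r :: l, s < D.nroots ∧ S.eps s = 1)
    (hsh : (r :: l).map S.root = l ++ [r]) (hc : ∀ s ∈ l, ∀ t u : F, Commute (xg C r t) (xg C s u))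
    {v : F} (hv : f^[(r :: l).length] v = v) : twSigma hS f (orbEl C f (r :: l) v) = orbEl C f (r :: l) v := by
  rw [twSigma_orbEl C hS f hl, hsh, orbEl_append]
  rw [show f^[l.length] (f v) = v by rw [← Function.iterate_succ_apply]; exact hv]
  simp only [orbEl, mul_one]
  exact (orbEl_commute C l (f v) fun s hs t => hc s hs v t).eq.symm

theorem twSigma_lprod {l : List ℕ} (hl : ∀ r ∈ l, r < D.nroots ∧ S.eps r = 1) {t u : ℕ → F}
    (hu : ∀ r ∈ l, u (S.root r) = f (t r)) :
    twSigma hS f (lprod C l t) = lprod C (l.map S.root) u := by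
  induction l with
  | nil => exact twSigma_one hS f
  | cons r l ih =>
    obtain ⟨hr, he⟩ := hl r (List.mem_cons_self ..)
    rw [lprod_cons, twSigma_mul, twSigma_xg C hS f hr, List.map_cons, lprod_cons, hu r (List.mem_cons_self ..),
      ih (fun s hs => hl s (List.mem_cons_of_mem _ hs)) (fun s hs => hu s (List.mem_cons_of_mem _ hs)), he,
      Int.cast_one, one_mul]

/-- A fixed product along an orbit is an orbit element. -/
theorem fixed_eq_orbEl (K : CommCert D T) {r : ℕ} {l : List ℕ}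
    (hpos : ∀ s ∈ r :: l, D.nroots / 2 ≤ s ∧ s < D.nroots ∧ S.eps s = 1) (hnd : (r :: l).Nodup)
    (hsh : (r :: l).map S.root = l ++ [r]) (hc : ∀ s ∈ l, ∀ t u : F, Commute (xg C r t) (xg C s u))
    {t : ℕ → F} (hfix : twSigma hS f (lprod C (r :: l) t) = lprod C (r :: l) t) :
    lprod C (r :: l) t = orbEl C f (r :: l) (t r) ∧ f^[(r :: l).length] (t r) = t r := by
  classical
  let u : ℕ → F := fun s => if hs : ∃ x ∈ r :: l, S.root x = s then f (t hs.choose) else 0
  have hu : ∀ x ∈ r :: l, u (S.root x) = f (t x) := by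
    intro x hx
    have hs : ∃ y ∈ r :: l, S.root y = S.root x := ⟨x, hx, rfl⟩
    have e : hs.choose = x := by
      have hy := hs.choose_spec
      rw [← hS.root_inv _ (hpos _ hy.1).2.1, hy.2, hS.root_inv _ (hpos x hx).2.1]
    show dite _ _ _ = _
    rw [dif_pos hs, e]
  rw [twSigma_lprod C hS f (fun s hs => ⟨(hpos s hs).2.1, (hpos s hs).2.2⟩) hu, hsh, lprod_append] at hfix
  have hcc : lprod C l u * lprod C [r] u = lprod C (r :: l) u := by
    rw [lprod_cons C r l, show lprod C [r] u = xg C r (u r) by simp [lprod]]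
    refine (Commute.list_prod_right _ _ fun x hx => ?_).eq.symm
    obtain ⟨s, hs, rfl⟩ := List.mem_map.1 hx
    exact hc s hs _ _
  rw [hcc] at hfix
  have heq := lprod_inj C K hnd (fun s hs => ⟨(hpos s hs).1, (hpos s hs).2.1⟩) hfix
  have hstep : ∀ x ∈ r :: l, t (S.root x) = f (t x) := fun x hx => by
    rw [← hu x hx]
    exact (heq _ (map_shift_mem hsh hx)).symm
  have key : ∀ (m : List ℕ) (a x : ℕ), (∀ y ∈ a :: m, y ∈ r :: l) → (a :: m).map S.root = m ++ [x] →
      lprod C (a :: m) t = orbEl C f (a :: m) (t a) ∧ f^[(a :: m).length] (t a) = t x := by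
    intro m
    induction m with
    | nil =>
      intro a x hm hmap
      refine ⟨by simp [lprod, orbEl], ?_⟩
      obtain rfl : S.root a = x := by simpa using hmap
      simpa using (hstep a (hm a (List.mem_cons_self ..))).symm
    | cons b m ih =>
      intro a x hm hmap
      simp only [List.map_cons, List.cons_append, List.cons.injEq] at hmap
      obtain ⟨h1, h2⟩ := ih b x (fun y hy => hm y (List.mem_cons_of_mem _ hy))
        (by simpa only [List.map_cons] using hmap.2)
      have e := hstep a (hm a (List.mem_cons_self ..))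
      rw [hmap.1] at e
      refine ⟨?_, ?_⟩
      · rw [lprod_cons C a, h1, e]; rfl
      · rw [List.length_cons, Function.iterate_succ_apply, ← e]; exact h2
  exact key l r r (fun y hy => hy) hsh

theorem twSigma_mem {g : GL D.Idx F} (hg : g ∈ D.group F) : twSigma hS f g ∈ D.group F := by
  have h1 : Matrix.GeneralLinearGroup.map f g ∈ D.group F :=
    Cfsg.Lib.Linear.Chev.group_map_le D f ⟨g, hg, rfl⟩
  obtain ⟨α, hα⟩ := hS.exists_groupAut C (F := F)
  have := (α ⟨_, h1⟩).2
  rwa [hα] at this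

/-- The image of torus parameters. -/
noncomputable def twPar (hS : SymOK D T S) (f : F →+* F) (c : Fin D.rank → Fˣ) : Fin D.rank → Fˣ :=
  fun i => Units.map f.toMonoidHom (c ⟨S.pI.getD i 0, hS.node_lt' i i.2⟩)

theorem twSigma_torus (c : Fin D.rank → Fˣ) :
    twSigma hS f (torusHom D T F c) = torusHom D T F (twPar hS f c) := by
  refine Units.ext (Matrix.ext fun a b => ?_)
  obtain ⟨a, rfl⟩ := hS.idxEquiv.surjective a
  obtain ⟨b, rfl⟩ := hS.idxEquiv.surjective b
  show symSign D S F (hS.idxEquiv.symm (hS.idxEquiv a)) *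
    f (((torusHom D T F c : GL D.Idx F) : Matrix D.Idx D.Idx F) (hS.idxEquiv.symm (hS.idxEquiv a))
      (hS.idxEquiv.symm (hS.idxEquiv b))) * symSign D S F (hS.idxEquiv.symm (hS.idxEquiv b)) = _
  simp only [Equiv.symm_apply_apply, coe_torusHom, scal]
  by_cases hab : a = b
  · subst hab
    simp only [Matrix.diagonal_apply_eq]
    rw [mul_comm (symSign D S F a), mul_assoc, hS.sign_sq, mul_one]
    rcases a with i | r
    · simp [SymOK.idxEquiv]
    · simp only [Sum.elim_inr, SymOK.idxEquiv, Equiv.sumCongr_apply, Sum.map_inr, Equiv.coe_fn_mk, chr, map_prod,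
        map_zpow₀]
      refine Finset.prod_nbij' (fun j => S.node j) (fun j => S.pI.getD j 0) ?_ ?_ ?_ ?_ ?_
      · exact fun j hj => Finset.mem_range.2 (hS.node_lt j (Finset.mem_range.1 hj))
      · exact fun j hj => Finset.mem_range.2 (hS.node_lt' j (Finset.mem_range.1 hj))
      · exact fun j hj => hS.node_inv j (Finset.mem_range.1 hj)
      · exact fun j hj => hS.node_inv' j (Finset.mem_range.1 hj)
      · intro j hj
        rw [Finset.mem_range] at hj
        rw [hS.cart r r.2 j hj]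
        have e : (⟨S.pI.getD (S.node j) 0, hS.node_lt' _ (hS.node_lt j hj)⟩ : Fin D.rank) = ⟨j, hj⟩ :=
          Fin.ext (hS.node_inv j hj)
        simp only [extend', dif_pos hj, dif_pos (hS.node_lt j hj), twPar, e]
        rfl
  · rw [Matrix.diagonal_apply_ne _ hab, map_zero, mul_zero, zero_mul,
      Matrix.diagonal_apply_ne _ (hS.idxEquiv.injective.ne hab)]

theorem twSigma_diag {h : GL D.Idx F} (hh : h ∈ D.diagonalSubgroup F) :
    twSigma hS f h ∈ D.diagonalSubgroup F := by
  rw [← torusHom_range C] at hh ⊢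
  obtain ⟨c, rfl⟩ := hh
  exact ⟨_, (twSigma_torus C hS f c).symm⟩

theorem twSigma_nu {i : ℕ} (hi : i < D.rank) : twSigma hS f (nu C i) = nu C (S.node i) := by
  have hp := C.spec.simp_lt i hi
  have hq := C.spec.simp_lt _ (hS.node_lt i hi)
  have hn : D.neg (T.simp' i) = T.neg (T.simp' i) := C.spec.shape.neg_eq _ hp
  have hn' : D.neg (T.simp' (S.node i)) = T.neg (T.simp' (S.node i)) := C.spec.shape.neg_eq _ hq
  rw [nu, nu, ng, ng, twSigma_mul, twSigma_mul, twSigma_xg C hS f hp, hn, hn',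
    twSigma_xg C hS f (C.spec.neg_lt _ hp), hS.eps_neg _ hp, hS.eps_simple i hi, hS.root_neg _ hp, hS.simple i hi]
  simp

omit C in
theorem orb_eq_cons (hc : TwComb D T τ) {J : ℕ} (hJ : J < τ.norb) : τ.orb J = τ.head J :: (τ.orb J).tail := by
  have := hc.orb_ne J hJ
  rw [TwData.head, nth_eq]
  cases hl : τ.orb J with
  | nil => exact absurd hl this
  | cons a l => simp

/-- The product of `n_r` along an orbit. -/
noncomputable def nGen (C : Cert D T) (f : F →+* F) : List ℕ → F → GL D.Idx F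
  | [], _ => 1
  | r :: l, v => ng C r v * nGen C f l (f v)

theorem nGen_eq : ∀ (l : List ℕ) (v : F), (∀ r ∈ l, r < D.nroots) →
    (l.Pairwise fun r s => ∀ t u : F, Commute (xg C r t) (xg C s u) ∧ Commute (xg C r t) (xg C (T.neg s) u) ∧
      Commute (xg C (T.neg r) t) (xg C s u) ∧ Commute (xg C (T.neg r) t) (xg C (T.neg s) u)) →
    nGen C f l v = orbEl C f l v * orbEl C f (l.map T.neg) (-v⁻¹) * orbEl C f l v
  | [], _, _, _ => by simp [nGen, orbEl]
  | r :: l, v, hl, hp => by
    obtain ⟨h1, h2⟩ := List.pairwise_cons.1 hp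
    have hr := hl r (List.mem_cons_self ..)
    have hn : D.neg r = T.neg r := C.spec.shape.neg_eq _ hr
    rw [nGen, nGen_eq l (f v) (fun s hs => hl s (List.mem_cons_of_mem _ hs)) h2, ng, hn]
    simp only [orbEl, List.map_cons, map_neg, map_inv₀]
    have c1 : Commute (xg C (T.neg r) (-v⁻¹)) (orbEl C f l (f v)) :=
      orbEl_commute C l _ fun s hs u => (h1 s hs _ u).2.2.1
    have c2 : Commute (xg C r v) (orbEl C f l (f v)) := orbEl_commute C l _ fun s hs u => (h1 s hs _ u).1
    have c3 : Commute (xg C r v) (orbEl C f (l.map T.neg) (-(f v)⁻¹)) := orbEl_commute C _ _ fun s hs u => by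
      obtain ⟨s', hs', rfl⟩ := List.mem_map.1 hs
      exact (h1 s' hs' _ u).2.1
    calc xg C r v * xg C (T.neg r) (-v⁻¹) * xg C r v *
          (orbEl C f l (f v) * orbEl C f (l.map T.neg) (-(f v)⁻¹) * orbEl C f l (f v))
        = xg C r v * xg C (T.neg r) (-v⁻¹) * (xg C r v * orbEl C f l (f v)) *
            orbEl C f (l.map T.neg) (-(f v)⁻¹) * orbEl C f l (f v) := by group
      _ = xg C r v * (xg C (T.neg r) (-v⁻¹) * orbEl C f l (f v)) *
            (xg C r v * orbEl C f (l.map T.neg) (-(f v)⁻¹)) * orbEl C f l (f v) := by rw [c2.eq]; group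
      _ = _ := by rw [c1.eq, c3.eq]; group

variable (K : FullCert D T) {k : ℕ} (hc : TwComb D T τ) (hs : TwSimplyOK D T S τ k)
include K hc hs hS

/-- The data of an orbit. -/
theorem TwSimplyOK.orbit_data {J : ℕ} (hJ : J < τ.norb) :
    ∃ (r : ℕ) (l : List ℕ), r = T.simp' (τ.head J) ∧ τ.base J = r :: l ∧ (r :: l).length = (τ.orb J).length ∧
      (∀ s ∈ r :: l, D.nroots / 2 ≤ s ∧ s < D.nroots ∧ S.eps s = 1) ∧
      (r :: l).Nodup ∧ (r :: l).map S.root = l ++ [r] ∧
      (r :: l).Pairwise (fun a b => ∀ t u : F, Commute (xg C a t) (xg C b u) ∧ Commute (xg C a t) (xg C (T.neg b) u) ∧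
        Commute (xg C (T.neg a) t) (xg C b u) ∧ Commute (xg C (T.neg a) t) (xg C (T.neg b) u)) := by
  have hcons := orb_eq_cons hc hJ
  have hlt : ∀ a ∈ τ.orb J, a < D.rank := hc.orb_lt J hJ
  have hev := nroots_even C
  refine ⟨T.simp' (τ.head J), (τ.orb J).tail.map T.simp', rfl, ?_, ?_, ?_, ?_, ?_, ?_⟩
  · conv_lhs => rw [hs.base_eq J hJ, hcons]
    rfl
  · conv_rhs => rw [hcons]
    simp
  · intro s hsm
    rw [← List.map_cons, ← hcons] at hsm
    obtain ⟨a, ha, rfl⟩ := List.mem_map.1 hsm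
    have := K.simple_pos (hlt a ha)
    exact ⟨by omega, C.spec.simp_lt a (hlt a ha), hS.eps_simple a (hlt a ha)⟩
  · rw [← List.map_cons, ← hcons]
    refine List.Nodup.map_on ?_ (hs.orb_nodup J hJ)
    exact fun a ha b hb e => simp_inj C (hlt a ha) (hlt b hb) e
  · rw [← List.map_cons, ← hcons, List.map_map, show (τ.orb J).map (S.root ∘ T.simp') =
      ((τ.orb J).map τ.node).map T.simp' by
        rw [List.map_map]
        exact List.map_congr_left fun a ha => by
          simp only [Function.comp_apply]; rw [hS.simple a (hlt a ha), hs.node_eq a (hlt a ha)],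
      hs.orb_shift J hJ, List.map_append]
    rfl
  · rw [← List.map_cons, ← hcons, List.pairwise_map]
    refine (List.Nodup.pairwise_of_forall_ne (hs.orb_nodup J hJ) fun a ha b hb hab => ?_)
    have ha' := C.spec.simp_lt a (hlt a ha)
    have hb' := C.spec.simp_lt b (hlt b hb)
    have hpa := K.simple_pos (hlt a ha)
    have hpb := K.simple_pos (hlt b hb)
    have hna := C.neg_eq ha'
    have hnb := C.neg_eq hb'
    have hne : T.simp' b ≠ T.simp' a := fun e => hab (simp_inj C (hlt b hb) (hlt a ha) e).symm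
    have hne' : T.neg (T.simp' b) ≠ T.neg (T.simp' a) := fun e => hne (by rw [hna, hnb] at e; omega)
    obtain ⟨-, he⟩ := hs.orb_comm J hJ a ha b hb hab
    intro t u
    have hn1 := C.spec.neg_lt _ ha'
    have hn2 := C.spec.neg_lt _ hb'
    exact ⟨xg_commute C K.comm ha' hb' hne (by omega) (he _ (by simp) _ (by simp)) t u,
      xg_commute C K.comm ha' hn2 (by omega) hne' (he _ (by simp) _ (by simp)) t u,
      xg_commute C K.comm hn1 hb' (by omega) (by rw [C.spec.neg_neg _ ha']; exact hne) (he _ (by simp) _ (by simp)) t u,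
      xg_commute C K.comm hn1 hn2 hne' (by rw [C.spec.neg_neg _ ha']; omega) (he _ (by simp) _ (by simp)) t u⟩

/-- A fixed element of an orbit subgroup. -/
theorem TwSimplyOK.fixPart_eq {J : ℕ} (hJ : J < τ.norb) :
    twFixPart C (twSigma hS f) (τ.base J) = {g | ∃ v, f^[(τ.orb J).length] v = v ∧ g = orbEl C f (τ.base J) v} := by
  obtain ⟨r, l, -, hb, hlen, hpos, hnd, hsh, hp⟩ := hs.orbit_data C hS (F := F) K hc hJ
  have hcm : ∀ s ∈ l, ∀ t u : F, Commute (xg C r t) (xg C s u) := fun s hsl t u =>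
    ((List.pairwise_cons.1 hp).1 s hsl t u).1
  ext g
  rw [hb]
  constructor
  · rintro ⟨⟨t, rfl⟩, hfix⟩
    obtain ⟨e1, e2⟩ := fixed_eq_orbEl C hS f K.comm hpos hnd hsh hcm hfix
    exact ⟨t r, by rw [← hlen]; exact e2, e1⟩
  · rintro ⟨v, hv, rfl⟩
    obtain ⟨t, ht, -⟩ := orbEl_mem_pset C f (r :: l) v hnd
    exact ⟨⟨t, ht⟩, orbEl_fixed C hS f (fun s hs' => ⟨(hpos s hs').2.1, (hpos s hs').2.2⟩) hsh hcm
      (by rw [hlen]; exact hv)⟩

theorem TwSimplyOK.card_fixPart {J : ℕ} (hJ : J < τ.norb) :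
    Nat.card ↥(twFixPart C (twSigma hS f) (τ.base J)) = Nat.card {v : F // f^[(τ.orb J).length] v = v} := by
  obtain ⟨r, l, -, hb, -, hpos, hnd, -, -⟩ := hs.orbit_data C hS (F := F) K hc hJ
  rw [hs.fixPart_eq C hS f K hc hJ]
  refine (Nat.card_eq_of_bijective (fun v : {v : F // f^[(τ.orb J).length] v = v} =>
    (⟨_, v.1, v.2, rfl⟩ : ↥{g : GL D.Idx F | ∃ v, f^[(τ.orb J).length] v = v ∧ g = orbEl C f (τ.base J) v}))
    ⟨?_, ?_⟩).symm
  · intro a b e
    have e' : orbEl C f (τ.base J) a.1 = orbEl C f (τ.base J) b.1 := congrArg Subtype.val e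
    rw [hb] at e'
    obtain ⟨t, ht, ht'⟩ := orbEl_mem_pset C f (r :: l) a.1 hnd
    obtain ⟨u, hu, hu'⟩ := orbEl_mem_pset C f (r :: l) b.1 hnd
    rw [ht, hu] at e'
    have := lprod_inj C K.comm hnd (fun s hs' => ⟨(hpos s hs').1, (hpos s hs').2.1⟩) e' r (List.mem_cons_self ..)
    rw [ht' r rfl, hu' r rfl] at this
    exact Subtype.ext this
  · rintro ⟨g, v, hv, rfl⟩
    exact ⟨⟨v, hv⟩, rfl⟩

/-- The element `n_J(v)`. -/
theorem TwSimplyOK.exists_nGen {J : ℕ} (hJ : J < τ.norb) {v : F} (hv : f^[(τ.orb J).length] v = v) :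
    nGen C f (τ.base J) v = orbEl C f (τ.base J) v * orbEl C f ((τ.base J).map T.neg) (-v⁻¹) * orbEl C f (τ.base J) v ∧
      twSigma hS f (nGen C f (τ.base J) v) = nGen C f (τ.base J) v := by
  obtain ⟨r, l, -, hb, hlen, hpos, -, hsh, hp⟩ := hs.orbit_data C hS (F := F) K hc hJ
  rw [hb]
  have e := nGen_eq C f (r :: l) v (fun s hs' => (hpos s hs').2.1) hp
  refine ⟨e, ?_⟩
  have h1 := orbEl_fixed C hS f (fun s hs' => ⟨(hpos s hs').2.1, (hpos s hs').2.2⟩) hsh
    (fun s hsl t u => ((List.pairwise_cons.1 hp).1 s hsl t u).1) (v := v) (by rw [hlen]; exact hv)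
  have h2 : twSigma hS f (orbEl C f ((r :: l).map T.neg) (-v⁻¹)) = orbEl C f ((r :: l).map T.neg) (-v⁻¹) := by
    rw [List.map_cons]
    refine orbEl_fixed C hS f ?_ ?_ ?_ (by
      rw [List.length_cons, List.length_map, ← List.length_cons (a := r), hlen, iterate_map_neg f, show ∀ (m : ℕ) (x : F), f^[m] x⁻¹ = (f^[m] x)⁻¹ from fun m => (Function.Semiconj.iterate_right (f := fun x : F => x⁻¹) (ga := f) (gb := f) (fun x => (map_inv₀ f x).symm) m · |>.symm), hv])
    · intro s hs'
      rw [← List.map_cons] at hs'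
      obtain ⟨a, ha, rfl⟩ := List.mem_map.1 hs'
      obtain ⟨-, hlt, he⟩ := hpos a ha
      exact ⟨C.spec.neg_lt _ hlt, by rw [hS.eps_neg _ hlt, he]⟩
    · rw [← List.map_cons, List.map_map, show (r :: l).map (S.root ∘ T.neg) = (r :: l).map (T.neg ∘ S.root) from List.map_congr_left fun a ha => hS.root_neg a (hpos a ha).2.1,
        ← List.map_map, hsh, List.map_append]
      rfl
    · intro s hs' t u
      obtain ⟨a, ha, rfl⟩ := List.mem_map.1 hs'
      exact ((List.pairwise_cons.1 hp).1 a ha t u).2.2.2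
  rw [e, twSigma_mul, twSigma_mul, h1, h2]

theorem TwSimplyOK.twOK : TwOK C τ (twSigma hS f) where
  map_mem g hg := twSigma_mem C hS f hg
  map_mul a _ b _ := twSigma_mul hS f a b
  map_xg r hr t := ⟨_, by rw [twSigma_xg C hS f hr, hs.root_eq r hr]⟩
  map_diag h hh := twSigma_diag C hS f hh
  map_nu i hi := by rw [twSigma_nu C hS f hi, hs.node_eq i hi]
  rep J hJ := by
    obtain ⟨-, h2⟩ := hs.exists_nGen C hS f K hc hJ (v := (1 : F))
      (iterate_map_one f _)
    have e : ∀ l : List ℕ, nGen C f (l.map T.simp') (1 : F) = wnu C F l := by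
      intro l
      induction l with
      | nil => simp [nGen, wnu]
      | cons a l ih => rw [List.map_cons, nGen, map_one, ih, wnu_cons]; rfl
    refine ⟨_, ?_, h2, ?_⟩
    · rw [hs.base_eq J hJ, e]; exact wnu_mem_group C (hc.orb_lt J hJ)
    · rw [hs.base_eq J hJ, e, hs.lw_eq J hJ, inv_mul_cancel]; exact one_mem _

end Cfsg.Lib.Chev
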