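import Mathlib
import Cfsg.Agent.Lib.Chev.TwSimply

/-!
Torus, generation and perfectness of twisted groups with one root length.
-/

set_option autoImplicit false

namespace Cfsg.Lib.Chev

open Cfsg.Lie
open scoped commutatorElement

section Field

variable {K : Type*} [Field K] [Finite K]

theorem exists_frobQ {q k : ℕ} (hq : IsPrimePow q) (hk : k ≠ 0) (hK : Nat.card K = q ^ k) :
    ∃ f : K →+* K, (∀ t, f t = t ^ q) ∧ (∀ (j : ℕ) (t : K), f^[j] t = t ^ (q ^ j)) ∧ ∀ t, f^[k] t = t := by
  classical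
  haveI := Fintype.ofFinite K
  obtain ⟨r, m, hr, hm, rfl⟩ := (isPrimePow_nat_iff q).1 hq
  obtain ⟨p, hp⟩ := CharP.exists K
  haveI := hp
  obtain ⟨n', hpp, hc⟩ := FiniteField.card K p
  obtain ⟨n, hn, hn'⟩ : ∃ n : ℕ, 0 < n ∧ (n' : ℕ) = n := ⟨n', n'.pos, rfl⟩
  rw [hn'] at hc
  rw [Nat.card_eq_fintype_card, hc, ← pow_mul] at hK
  have hpr : p = r := ((Nat.prime_dvd_prime_iff_eq hpp hr).1
    (hpp.dvd_of_dvd_pow (n := m * k) (hK ▸ dvd_pow_self p hn.ne')))
  subst hpr
  haveI : Fact p.Prime := ⟨hpp⟩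
  haveI : ExpChar K p := ExpChar.prime hpp
  have hf : ∀ t : K, iterateFrobenius K p m t = t ^ p ^ m := fun t => iterateFrobenius_def p m t
  have hit : ∀ (j : ℕ) (t : K), (iterateFrobenius K p m)^[j] t = t ^ ((p ^ m) ^ j) := by
    intro j
    induction j with
    | zero => simp
    | succ j ih => intro t; rw [Function.iterate_succ_apply', ih, hf, ← pow_mul, ← pow_succ]
  refine ⟨iterateFrobenius K p m, hf, hit, fun t => ?_⟩
  rw [hit, ← pow_mul]
  have := FiniteField.pow_card t
  rwa [hc, show n = m * k from Nat.pow_right_injective hpp.two_le hK] at this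

theorem card_fixed_units {q k j : ℕ} (hq : 2 ≤ q) (hK : Nat.card K = q ^ k) (hj : j ∣ k) :
    Nat.card {u : Kˣ // u ^ (q ^ j - 1) = 1} = q ^ j - 1 := by
  haveI := Fintype.ofFinite K
  have hd : q ^ j - 1 ∣ q ^ k - 1 := Nat.pow_sub_one_dvd_pow_sub_one q hj
  have h1 := IsCyclic.card_powMonoidHom_ker (G := Kˣ) (q ^ j - 1)
  rw [Nat.card_units, hK, Nat.gcd_eq_right hd] at h1
  refine Eq.trans ?_ h1
  exact Nat.card_congr (Equiv.subtypeEquivRight fun u => by simp [MonoidHom.mem_ker])

theorem card_fixed_field {q k j : ℕ} (hq : 2 ≤ q) (hK : Nat.card K = q ^ k) (hj : j ∣ k) :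
    Nat.card {v : K // v ^ (q ^ j) = v} = q ^ j := by
  classical
  haveI := Fintype.ofFinite K
  have h1 : 1 ≤ q ^ j := Nat.one_le_pow _ _ (by omega)
  have e : ∀ v : K, v ^ (q ^ j) = v ↔ v = 0 ∨ v ^ (q ^ j - 1) = 1 := by
    intro v
    rcases eq_or_ne v 0 with rfl | hv
    · simp [zero_pow (show q ^ j ≠ 0 by omega)]
    · conv_lhs => rw [show q ^ j = q ^ j - 1 + 1 by omega, pow_succ]
      constructor
      · exact fun h => Or.inr (mul_right_cancel₀ hv (h.trans (one_mul v).symm))
      · rintro (h | h)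
        · exact absurd h hv
        · rw [h, one_mul]
  have h2 : Nat.card {v : K // v ^ (q ^ j) = v} = Nat.card (Option {u : Kˣ // u ^ (q ^ j - 1) = 1}) := by
    refine (Nat.card_eq_of_bijective (fun o : Option {u : Kˣ // u ^ (q ^ j - 1) = 1} =>
      (match o with
        | none => ⟨0, (e 0).2 (Or.inl rfl)⟩
        | some u => ⟨u.1, (e _).2 (Or.inr (by rw [← Units.val_pow_eq_pow_val, u.2, Units.val_one]))⟩ :
        {v : K // v ^ (q ^ j) = v})) ⟨?_, ?_⟩).symm
    · rintro (_ | ⟨a, ha⟩) (_ | ⟨b, hb⟩) h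
      · rfl
      · exact absurd (congrArg Subtype.val h).symm b.ne_zero
      · exact absurd (congrArg Subtype.val h) a.ne_zero
      · obtain rfl : a = b := Units.ext (congrArg Subtype.val h)
        rfl
    · rintro ⟨v, hv⟩
      rcases (e v).1 hv with h | h
      · exact ⟨none, Subtype.ext h.symm⟩
      · have hv0 : v ≠ 0 := by
          rintro rfl
          rcases eq_or_ne (q ^ j - 1) 0 with h0 | h0
          · rcases Nat.eq_zero_or_pos j with rfl | hj'
            · obtain rfl : k = 0 := Nat.eq_zero_of_zero_dvd hj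
              have := Finite.one_lt_card (α := K)
              rw [hK, pow_zero] at this
              omega
            · have : q ≤ q ^ j := Nat.le_self_pow (by omega) q
              omega
          · simp [zero_pow h0] at h
        exact ⟨some ⟨Units.mk0 v hv0, Units.ext (by simpa using h)⟩, Subtype.ext rfl⟩
  rw [h2, Finite.card_option, card_fixed_units hq hK hj]
  omega

end Field

variable {D : ChevalleyDatum} {T : Tbl} {F : Type*} [Field F] (C : Cert D T) {S : Sym} (hS : SymOK D T S)
  (f : F →+* F) {τ : TwData} (K : FullCert D T) {k : ℕ} (hc : TwComb D T τ) (hs : TwSimplyOK D T S τ k)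

include C

theorem orbEl_add {l : List ℕ} (hp : l.Pairwise fun a b => ∀ t u : F, Commute (xg C a t) (xg C b u)) :
    ∀ v w, orbEl C f l v * orbEl C f l w = orbEl C f l (v + w) := by
  induction l with
  | nil => simp [orbEl]
  | cons r l ih =>
    intro v w
    obtain ⟨h1, h2⟩ := List.pairwise_cons.1 hp
    have c : Commute (xg C r w) (orbEl C f l (f v)) := orbEl_commute C l _ fun s hs u => h1 s hs w u
    calc orbEl C f (r :: l) v * orbEl C f (r :: l) w
        = xg C r v * (orbEl C f l (f v) * xg C r w) * orbEl C f l (f w) := by simp only [orbEl]; group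
      _ = (xg C r v * xg C r w) * (orbEl C f l (f v) * orbEl C f l (f w)) := by rw [← c.eq]; group
      _ = _ := by rw [xg_add, ih h2, ← map_add]; rfl

/-- The torus element of a list of fundamental roots. -/
theorem coe_hg_list (c : ℕ → F) (hc0 : ∀ i < D.rank, c i ≠ 0) : ∀ l : List ℕ, l.Nodup → (∀ i ∈ l, i < D.rank) →
    (((l.map fun i => hg C (T.simp' i) (c i)).prod : GL D.Idx F) : Matrix D.Idx D.Idx F) =
      scal T D fun j => if j ∈ l then c j else 1
  | [], _, _ => by simp [scal_one]
  | i :: l, hnd, hl => by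
    have hi := hl i (List.mem_cons_self ..)
    rw [List.map_cons, List.prod_cons, Units.val_mul,
      coe_hg_list c hc0 l (List.nodup_cons.1 hnd).2 (fun x hx => hl x (List.mem_cons_of_mem _ hx)),
      coe_hg_eq C (C.spec.simp_lt i hi) (hc0 i hi), coDiag_simple C hi, dModel_eq_scal hi, scal_mul]
    congr 1
    funext j
    by_cases hji : j = i
    · subst hji; simp [(List.nodup_cons.1 hnd).1]
    · simp [hji]

theorem nGen_mul_neg : ∀ (l : List ℕ) (v : F), (∀ r ∈ l, r < D.nroots) →
    (l.Pairwise fun r s => ∀ t u : F, Commute (xg C r t) (xg C s u) ∧ Commute (xg C r t) (xg C (T.neg s) u) ∧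
      Commute (xg C (T.neg r) t) (xg C s u) ∧ Commute (xg C (T.neg r) t) (xg C (T.neg s) u)) →
    nGen C f l v * nGen C f l (-1) = (l.zipIdx.map fun p => hg C p.1 (f^[p.2] v)).prod
  | [], v, _, _ => by simp [nGen]
  | r :: l, v, hl, hp => by
    obtain ⟨h1, h2⟩ := List.pairwise_cons.1 hp
    have hlt : ∀ s ∈ l, s < D.nroots := fun s hs => hl s (List.mem_cons_of_mem _ hs)
    have hr := hl r (List.mem_cons_self ..)
    have hcm : ∀ w, Commute (ng C r (-1 : F)) (nGen C f l w) := by
      intro w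
      clear h2 hp hl
      induction l generalizing w with
      | nil => exact Commute.one_right _
      | cons s m ih =>
        have hx := h1 s (List.mem_cons_self ..)
        have hn : D.neg r = T.neg r := C.spec.shape.neg_eq _ hr
        have hn' : D.neg s = T.neg s := C.spec.shape.neg_eq _ (hlt s (List.mem_cons_self ..))
        have ha : ∀ z, Commute (ng C r (-1 : F)) (xg C s z) := fun z => by
          rw [ng, hn]; exact ((hx _ z).1.mul_left (hx _ z).2.2.1).mul_left (hx _ z).1
        have hb : ∀ z, Commute (ng C r (-1 : F)) (xg C (T.neg s) z) := fun z => by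
          rw [ng, hn]; exact ((hx _ z).2.1.mul_left (hx _ z).2.2.2).mul_left (hx _ z).2.1
        have hns : Commute (ng C r (-1 : F)) (ng C s w) := by
          conv => arg 2; rw [ng, hn']
          exact ((ha _).mul_right (hb _)).mul_right (ha _)
        rw [nGen]
        exact hns.mul_right
          (ih (fun x hx => h1 x (List.mem_cons_of_mem _ hx)) (fun x hx => hlt x (List.mem_cons_of_mem _ hx)) (f w))
    have e : ((r :: l).zipIdx.map fun p => hg C p.1 (f^[p.2] v)).prod =
        hg C r v * (l.zipIdx.map fun p => hg C p.1 (f^[p.2] (f v))).prod := by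
      rw [List.zipIdx_cons, List.map_cons, List.prod_cons, List.zipIdx_succ, List.map_map]
      congr 2
    rw [e, ← nGen_mul_neg l (f v) hlt h2, nGen, nGen, hg, map_neg, map_one]
    calc ng C r v * nGen C f l (f v) * (ng C r (-1) * nGen C f l (-1))
        = ng C r v * (nGen C f l (f v) * ng C r (-1)) * nGen C f l (-1) := by group
      _ = _ := by rw [← (hcm (f v)).eq]; group

omit C in
theorem twPar_apply (c : Fin D.rank → Fˣ) {i : ℕ} (hi : i < D.rank) :
    twPar hS f c ⟨S.node i, hS.node_lt i hi⟩ = Units.map f.toMonoidHom (c ⟨i, hi⟩) := by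
  show Units.map f.toMonoidHom (c _) = _
  congr 1
  exact congrArg c (Fin.ext (hS.node_inv i hi))

/-- The fixed parameters of the torus. -/
noncomputable def twParHom (_C : Cert D T) : (Fin D.rank → Fˣ) →* (Fin D.rank → Fˣ) where
  toFun := twPar hS f
  map_one' := funext fun i => by simp [twPar]
  map_mul' a b := funext fun i => by simp [twPar]

/-- The subgroup of fixed parameters. -/
noncomputable def twFixPar (_C : Cert D T) : Subgroup (Fin D.rank → Fˣ) := (twParHom hS f _C).eqLocus (MonoidHom.id _)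

theorem mem_twFixPar {c : Fin D.rank → Fˣ} : c ∈ twFixPar hS f C ↔ twPar hS f c = c := Iff.rfl

include hS K hc hs

theorem TwSimplyOK.par_orbit {c : Fin D.rank → Fˣ} (hcf : twPar hS f c = c) {J : ℕ} (hJ : J < τ.norb) :
    ∀ m (hm : m < (τ.orb J).length), extend' (F := F) c ((τ.orb J)[m]) = f^[m] (extend' c (τ.head J)) ∧
      f^[(τ.orb J).length] (extend' c (τ.head J)) = extend' c (τ.head J) := by
  have hlt := hc.orb_lt J hJ
  have hcons := orb_eq_cons hc hJ
  have hsh := hs.orb_shift J hJ
  have hlen : (τ.orb J).tail.length + 1 = (τ.orb J).length := by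
    have := List.length_pos_of_mem (hc.head_mem hJ)
    rw [List.length_tail]; omega
  have hstep : ∀ a ∈ τ.orb J, extend' (F := F) c (τ.node a) = f (extend' c a) := by
    intro a ha
    have ha' := hlt a ha
    rw [hs.node_eq a ha', extend', extend', dif_pos (hS.node_lt a ha'), dif_pos ha']
    conv_lhs => rw [← hcf]
    rw [twPar_apply hS f c ha']
    rfl
  have hnode : ∀ m (hm : m < (τ.orb J).length), τ.node (τ.orb J)[m] =
      ((τ.orb J).tail ++ [τ.head J])[m]'(by simp; omega) := fun m hm => by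
    have := congrArg (fun l => l[m]?) hsh
    simp only [List.getElem?_map] at this
    rw [List.getElem?_eq_getElem hm, List.getElem?_eq_getElem (by simp; omega), Option.map_some] at this
    exact Option.some.inj this
  have key : ∀ m (hm : m < (τ.orb J).length), extend' (F := F) c ((τ.orb J)[m]) = f^[m] (extend' c (τ.head J)) := by
    intro m
    induction m with
    | zero => intro hm; rw [Function.iterate_zero_apply, show (τ.orb J)[0] = τ.head J from Option.some.inj (by rw [← List.getElem?_eq_getElem hm, hcons]; rfl)]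
    | succ m ih =>
      intro hm
      have e := hnode m (by omega)
      rw [List.getElem_append_left (by omega), List.getElem_tail] at e
      rw [Function.iterate_succ_apply', ← ih (by omega), ← hstep _ (List.getElem_mem _), e]
  intro m hm
  refine ⟨key m hm, ?_⟩
  have e := hnode ((τ.orb J).length - 1) (by omega)
  rw [List.getElem_append_right (by omega)] at e
  simp only [List.getElem_singleton] at e
  conv_rhs => rw [← e, hstep _ (List.getElem_mem _), key _ (by omega), ← Function.iterate_succ_apply' f,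
    show ((τ.orb J).length - 1).succ = (τ.orb J).length by omega]

omit C hS K hs hc in
theorem zipIdx_map_eq {α : Type*} (g : ℕ → ℕ → α) (h : ℕ → α) (l : List ℕ)
    (hg : ∀ m (hm : m < l.length), g l[m] m = h l[m]) : (l.zipIdx.map fun p => g p.1 p.2) = l.map h := by
  refine List.ext_getElem (by simp) fun m h1 h2 => ?_
  simp [hg m (by simpa using h2)]

theorem TwSimplyOK.torus_mem {W : Subgroup (GL D.Idx F)} (hL : TwLinked D T τ)
    (hn : ∀ J < τ.norb, ∀ v : F, v ≠ 0 → f^[(τ.orb J).length] v = v → nGen C f (τ.base J) v ∈ W)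
    {c : Fin D.rank → Fˣ} (hcf : twPar hS f c = c) : torusHom D T F c ∈ W := by
  classical
  let L := (List.range τ.norb).flatMap τ.orb
  have hmem : ∀ i, i ∈ L ↔ ∃ J < τ.norb, i ∈ τ.orb J := fun i => by simp [L]
  have hLlt : ∀ i ∈ L, i < D.rank := fun i hi => by
    obtain ⟨J, hJ, h⟩ := (hmem i).1 hi
    exact hc.orb_lt J hJ i h
  have hLnd : L.Nodup := by
    refine List.nodup_flatMap.2 ⟨fun J hJ => hs.orb_nodup J (List.mem_range.1 hJ), ?_⟩
    refine List.nodup_range.pairwise_of_forall_ne fun J hJ J' hJ' hne i hi hi' => ?_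
    exact hne (hL.orb_disj J (List.mem_range.1 hJ) J' (List.mem_range.1 hJ') i hi hi')
  have e : torusHom D T F c = (L.map fun i => hg C (T.simp' i) (extend' (F := F) c i)).prod := by
    refine Units.ext ?_
    rw [coe_torusHom, coe_hg_list C _ (fun i _ => extend'_ne c i) L hLnd hLlt]
    rw [scal, scal]
    congr 1
    funext j
    rcases j with a | s
    · rfl
    · simp only [Sum.elim_inr, chr]
      exact Finset.prod_congr rfl fun i hi => by
        rw [if_pos ((hmem i).2 (hc.orb_cover i (Finset.mem_range.1 hi)))]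
  rw [e, show L = (List.range τ.norb).flatMap τ.orb from rfl, List.flatMap_def, List.map_flatten, List.prod_flatten, List.map_map, List.map_map]
  refine list_prod_mem fun x hx => ?_
  obtain ⟨J, hJ, rfl⟩ := List.mem_map.1 hx
  rw [List.mem_range] at hJ
  obtain ⟨r, l, -, hb, hlen, hpos, -, -, hp⟩ := hs.orbit_data C hS (F := F) K hc hJ
  have hp0 := C
  obtain ⟨-, hfix⟩ := hs.par_orbit C hS f K hc hcf hJ 0 (by have := congrArg List.length (orb_eq_cons hc hJ); simp at this; omega)
  have h1 := hn J hJ _ (extend'_ne c _) hfix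
  have h2 := hn J hJ (-1) (neg_ne_zero.2 one_ne_zero) (by rw [iterate_map_neg f, iterate_map_one f])
  have e2 : ((τ.orb J).map fun i => hg C (T.simp' i) (extend' (F := F) c i)).prod =
      nGen C f (τ.base J) (extend' c (τ.head J)) * nGen C f (τ.base J) (-1) := by
    rw [hb, nGen_mul_neg C f (r :: l) _ (fun s hs' => (hpos s hs').2.1) hp, ← hb, hs.base_eq J hJ, List.zipIdx_map,
      List.map_map]
    congr 1
    exact (zipIdx_map_eq (fun i m => hg C (T.simp' i) (f^[m] (extend' c (τ.head J))))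
      (fun i => hg C (T.simp' i) (extend' c i)) (τ.orb J)
      fun m hm => by rw [(hs.par_orbit C hS f K hc hcf hJ m hm).1]).symm
  show ((τ.orb J).map fun i => hg C (T.simp' i) (extend' (F := F) c i)).prod ∈ W
  rw [e2]; exact W.mul_mem h1 h2

/-- A fixed element of the torus comes from fixed parameters, given the condition on the kernel. -/
theorem TwSimplyOK.diag_fixed (hZ : ∀ c : Fin D.rank → Fˣ,
      (twPar hS f c)⁻¹ * c ∈ (torusHom D T F).ker → ∃ z ∈ (torusHom D T F).ker, twPar hS f (c * z) = c * z)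
    {h : GL D.Idx F} : h ∈ D.diagonalSubgroup F ⊓ (hs.twOK C hS f K hc).fixed C ↔
      h ∈ (twFixPar hS f C).map (torusHom D T F) := by
  constructor
  · rintro ⟨hh, hfix⟩
    rw [← torusHom_range C] at hh
    obtain ⟨c, rfl⟩ := hh
    have e : twSigma hS f (torusHom D T F c) = torusHom D T F c := hfix.2
    rw [twSigma_torus C hS f] at e
    obtain ⟨z, hz, hz'⟩ := hZ c (by rw [MonoidHom.mem_ker, map_mul, map_inv, e, inv_mul_cancel])
    exact ⟨c * z, hz', by rw [map_mul, MonoidHom.mem_ker.1 hz, mul_one]⟩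
  · rintro ⟨c, hcf, rfl⟩
    have hd : torusHom D T F c ∈ D.diagonalSubgroup F := by rw [← torusHom_range C]; exact ⟨c, rfl⟩
    refine ⟨hd, diag_le_group C hd, ?_⟩
    rw [twSigma_torus C hS f, (mem_twFixPar C hS f).1 hcf]

theorem TwSimplyOK.card_par (hL : TwLinked D T τ) [Finite F] :
    Nat.card ↥(twFixPar hS f C) = ∏ J : Fin τ.norb, Nat.card {u : Fˣ // f^[(τ.orb J).length] (u : F) = u} := by
  classical
  rw [← Nat.card_pi]
  have hh : ∀ J : Fin τ.norb, τ.head J < D.rank := fun J => hc.orb_lt J J.2 _ (hc.head_mem J.2)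
  have h0 : ∀ J : Fin τ.norb, 0 < (τ.orb J).length := fun J => List.length_pos_of_mem (hc.head_mem J.2)
  have hhd : ∀ (J : ℕ) (hJ : J < τ.norb) (hJ0 : 0 < (τ.orb J).length), (τ.orb J)[0] = τ.head J := fun J hJ hJ0 => by
    exact Option.some.inj (by rw [← List.getElem?_eq_getElem hJ0, orb_eq_cons hc hJ]; rfl)
  let φ : ↥(twFixPar hS f C) → ∀ J : Fin τ.norb, {u : Fˣ // f^[(τ.orb J).length] (u : F) = u} := fun c J =>
    ⟨c.1 ⟨τ.head J, hh J⟩, by
      have := (hs.par_orbit C hS f K hc c.2 J.2 0 (h0 J)).2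
      rwa [extend', dif_pos (hh J)] at this⟩
  refine Nat.card_eq_of_bijective φ ⟨fun a b e => ?_, fun u => ?_⟩
  · refine Subtype.ext (funext fun i => Units.ext ?_)
    obtain ⟨J, hJ, hiJ⟩ := hc.orb_cover i i.2
    obtain ⟨m, hm, hmi⟩ := List.getElem_of_mem hiJ
    have ea := (hs.par_orbit C hS f K hc a.2 hJ m hm).1
    have eb := (hs.par_orbit C hS f K hc b.2 hJ m hm).1
    rw [hmi, extend', extend', dif_pos i.2, dif_pos (hh ⟨J, hJ⟩)] at ea eb
    have h2 : a.1 ⟨τ.head J, hh ⟨J, hJ⟩⟩ = b.1 ⟨τ.head J, hh ⟨J, hJ⟩⟩ :=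
      congrArg Subtype.val (congrFun e ⟨J, hJ⟩)
    rw [h2] at ea
    exact ea.trans eb.symm
  · choose J hJ hiJ using hc.orb_cover
    let c : Fin D.rank → Fˣ := fun i =>
      (Units.map f.toMonoidHom)^[(τ.orb (J i i.2)).idxOf (i : ℕ)] (u ⟨J i i.2, hJ i i.2⟩).1
    have hval : ∀ (m : ℕ) (x : Fˣ), (((Units.map f.toMonoidHom)^[m] x : Fˣ) : F) = f^[m] (x : F) := by
      intro m
      induction m with
      | zero => exact fun x => rfl
      | succ m ih =>
        intro x
        rw [Function.iterate_succ_apply', Function.iterate_succ_apply', ← ih]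
        rfl
    have hc' : ∀ (J' : ℕ) (hJ' : J' < τ.norb) (m : ℕ) (hm : m < (τ.orb J').length) (hi : (τ.orb J')[m] < D.rank),
        c ⟨(τ.orb J')[m], hi⟩ = (Units.map f.toMonoidHom)^[m] (u ⟨J', hJ'⟩).1 := by
      intro J' hJ' m hm hi
      have eJ : J _ hi = J' := hL.orb_disj _ (hJ _ hi) J' hJ' _ (hiJ _ hi) (List.getElem_mem hm)
      have key : ∀ (a : ℕ) (ha : a < τ.norb), a = J' → (Units.map f.toMonoidHom)^[(τ.orb a).idxOf (τ.orb J')[m]]
          (u ⟨a, ha⟩).1 = (Units.map f.toMonoidHom)^[m] (u ⟨J', hJ'⟩).1 := by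
        rintro a ha rfl
        rw [(hs.orb_nodup a ha).idxOf_getElem]
      exact key _ _ eJ
    refine ⟨⟨c, ?_⟩, funext fun J' => Subtype.ext ?_⟩
    · refine funext fun i => ?_
      obtain ⟨J', hJ', hi'⟩ := hc.orb_cover _ (hS.node_lt' i i.2)
      obtain ⟨m, hm, hmi⟩ := List.getElem_of_mem hi'
      show Units.map f.toMonoidHom (c ⟨S.pI.getD i 0, _⟩) = c i
      have e1 : (⟨S.pI.getD i 0, hS.node_lt' i i.2⟩ : Fin D.rank) = ⟨(τ.orb J')[m], hmi ▸ hS.node_lt' i i.2⟩ :=
        Fin.ext hmi.symm
      rw [e1, hc' J' hJ' m hm, ← Function.iterate_succ_apply' (Units.map f.toMonoidHom)]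
      have hi2 : τ.node (τ.orb J')[m] = (i : ℕ) := by
        rw [hs.node_eq _ (hc.orb_lt J' hJ' _ (List.getElem_mem hm)), hmi, hS.node_inv' i i.2]
      have hsh := congrArg (fun l => l[m]?) (hs.orb_shift J' hJ')
      simp only [List.getElem?_map, List.getElem?_eq_getElem hm, Option.map_some, hi2] at hsh
      have hlen : (τ.orb J').tail.length + 1 = (τ.orb J').length := by
        have := List.length_pos_of_mem (hc.head_mem hJ')
        rw [List.length_tail]; omega
      by_cases hm1 : m + 1 < (τ.orb J').length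
      · rw [List.getElem?_append_left (by omega), List.getElem?_tail, List.getElem?_eq_getElem hm1] at hsh
        have e2 : i = ⟨(τ.orb J')[m + 1], hc.orb_lt J' hJ' _ (List.getElem_mem hm1)⟩ :=
          Fin.ext (Option.some.inj hsh)
        rw [e2, hc' J' hJ' (m + 1) hm1]
      · have hm2 : m + 1 = (τ.orb J').length := by omega
        rw [List.getElem?_append_right (by omega), show m - (τ.orb J').tail.length = 0 by omega] at hsh
        have e2 : i = ⟨(τ.orb J')[0], hc.orb_lt J' hJ' _ (List.getElem_mem (h0 ⟨J', hJ'⟩))⟩ :=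
          Fin.ext ((Option.some.inj hsh).trans (hhd J' hJ' (h0 ⟨J', hJ'⟩)).symm)
        rw [e2, hc' J' hJ' 0 (h0 ⟨J', hJ'⟩)]
        refine Units.ext ?_
        rw [Function.iterate_zero_apply, hval, show Nat.succ m = (τ.orb J').length from hm2]
        exact (u ⟨J', hJ'⟩).2
    · have h00 := h0 J'
      have e1 : (⟨τ.head J', hh J'⟩ : Fin D.rank) =
          ⟨(τ.orb J')[0], hc.orb_lt J' J'.2 _ (List.getElem_mem h00)⟩ := Fin.ext (hhd J' J'.2 h00).symm
      show c ⟨τ.head J', hh J'⟩ = (u J').1
      rw [e1, hc' J' J'.2 0 h00]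
      rfl

theorem TwSimplyOK.card_diag_fixed [Finite F] (hZ : ∀ c : Fin D.rank → Fˣ,
      (twPar hS f c)⁻¹ * c ∈ (torusHom D T F).ker → ∃ z ∈ (torusHom D T F).ker, twPar hS f (c * z) = c * z) :
    Nat.card ↥((torusHom D T F).ker ⊓ twFixPar hS f C) *
      Nat.card ↥(D.diagonalSubgroup F ⊓ (hs.twOK C hS f K hc).fixed C) = Nat.card ↥(twFixPar hS f C) := by
  have e : Nat.card ↥(D.diagonalSubgroup F ⊓ (hs.twOK C hS f K hc).fixed C) =
      Nat.card ↥((twFixPar hS f C).map (torusHom D T F)) :=
    Nat.card_congr (Equiv.subtypeEquivRight fun g => hs.diag_fixed C hS f K hc hZ)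
  have h1 := Subgroup.card_mul_index ((torusHom D T F).comp (twFixPar hS f C).subtype).ker
  rw [Subgroup.index_ker] at h1
  rw [e, ← h1]
  congr 1
  · refine Nat.card_eq_of_bijective (fun z => ⟨⟨z.1, z.2.2⟩, z.2.1⟩)
      ⟨fun a b h => Subtype.ext (congrArg (fun z => z.1.1) h), fun z => ⟨⟨z.1.1, z.2, z.1.2⟩, rfl⟩⟩
  · rw [MonoidHom.range_comp, Subgroup.range_subtype]

end Cfsg.Lib.Chev
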