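import Mathlib
import Cfsg.Agent.Lib.Chev.Special
import Cfsg.Agent.Lib.Chev.TwFinite

/-!
Twisting by an exceptional symmetry composed with a field endomorphism.
-/

set_option autoImplicit false
set_option linter.unusedSectionVars false

namespace Cfsg.Lib.Chev

open Cfsg.Lie
open scoped Matrix commutatorElement

section ModP

/-- All coefficients vanish modulo `p`. -/
def allZeroMod (p : ℕ) (v : List Trm) : Bool := (norm v).all fun x => decide (x.c % (p : ℤ) = 0)

/-- Two words have the same matrix in characteristic `p`. -/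
def sameWordMod (p : ℕ) (T : Tbl) (w₁ w₂ : List Ltr) : Bool :=
  (List.range (T.rank + T.nroots)).all fun col => allZeroMod p (wordCol T w₁ col ++ negV (wordCol T w₂ col))

variable {D : ChevalleyDatum} {T : Tbl} {F : Type*} [Field F] (t u : F)

theorem wmat_eq_of_sameWordMod {p : ℕ} [CharP F p] (S : Shape D T) (ht : t ≠ 0) (hu : u ≠ 0) {w₁ w₂ : List Ltr}
    (h1 : ∀ L ∈ w₁, L.ok D) (h2 : ∀ L ∈ w₂, L.ok D) (h : sameWordMod p T w₁ w₂ = true) :
    wmat t u T D w₁ = wmat t u T D w₂ := by
  ext i j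
  have hj := List.all_eq_true.1 h (enc j) (List.mem_range.2 (by rw [S.rank_eq, S.nroots_eq]; exact enc_lt j))
  have hz : vec t u D (wordCol T w₁ (enc j) ++ negV (wordCol T w₂ (enc j))) = 0 := by
    rw [← vec_norm]
    funext k
    refine List.sum_eq_zero fun z hz => ?_
    obtain ⟨x, hx, rfl⟩ := List.mem_map.1 hz
    have hx0 := of_decide_eq_true (List.all_eq_true.1 hj x hx)
    simp [Trm.val, (CharP.intCast_eq_zero_iff F p x.c).2 (Int.dvd_of_emod_eq_zero hx0)]
  have e := congrFun hz i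
  rw [vec_append, vec_negV, Pi.add_apply, Pi.neg_apply, vec_wordCol t u S ht hu h1,
    vec_wordCol t u S ht hu h2, Pi.zero_apply, add_neg_eq_zero] at e
  exact e

/-- The group element of a letter with constant entries. -/
noncomputable def Ltr.gl (C : Cert D T) : Ltr → GL D.Idx F
  | .x r p => xg C r (pval 1 1 p)
  | .n i m => ng C (T.simp' i) (m.val 1 1)
  | .d i m => hg C (T.simp' i) (m.val 1 1)

theorem Mono.val_one_ne (m : Mono) (hm : m.c = 1 ∨ m.c = -1) : (m.val 1 1 : F) ≠ 0 := by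
  rcases hm with e | e <;> simp [Mono.val, e]

theorem coe_gl (C : Cert D T) {L : Ltr} (hL : L.ok D) :
    ((L.gl C : GL D.Idx F) : Matrix D.Idx D.Idx F) = L.mat 1 1 T D := by
  cases L with
  | x r p => rfl
  | n i m =>
    show ((ng C (T.simp' i) (m.val 1 1) : GL D.Idx F) : Matrix D.Idx D.Idx F) = nModel T D i (m.val 1 1)
    rw [coe_ng, ← C.spec.shape.simple_eq i hL.1, nMat_simple C hL.1 (m.val_one_ne hL.2)]
  | d i m =>
    show ((hg C (T.simp' i) (m.val 1 1) : GL D.Idx F) : Matrix D.Idx D.Idx F) = dModel T D i (m.val 1 1)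
    rw [coe_hg_eq C (C.spec.simp_lt i hL.1) (m.val_one_ne hL.2), coDiag_simple C hL.1]

theorem gl_eq_of_sameWordMod {p : ℕ} [CharP F p] (C : Cert D T) {w₁ w₂ : List Ltr}
    (h1 : ∀ L ∈ w₁, L.ok D) (h2 : ∀ L ∈ w₂, L.ok D) (h : sameWordMod p T w₁ w₂ = true) :
    (w₁.map (Ltr.gl C (F := F))).prod = (w₂.map (Ltr.gl C)).prod := by
  have key : ∀ w : List Ltr, (∀ L ∈ w, L.ok D) →
      (((w.map (Ltr.gl C (F := F))).prod : GL D.Idx F) : Matrix D.Idx D.Idx F) = wmat 1 1 T D w := by
    intro w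
    induction w with
    | nil => intro _; simp [wmat]
    | cons L w ih =>
      intro hw
      rw [List.map_cons, List.prod_cons, Units.val_mul, coe_gl C (hw L (List.mem_cons_self ..)),
        ih fun M hM => hw M (List.mem_cons_of_mem _ hM)]
      simp [wmat]
  exact Units.ext (by rw [key w₁ h1, key w₂ h2, wmat_eq_of_sameWordMod 1 1 C.spec.shape one_ne_zero one_ne_zero h1 h2 h])

theorem gl_wnu (C : Cert D T) : ∀ w : List ℕ,
    ((w.map fun i => Ltr.n i ⟨1, 0, 0⟩).map (Ltr.gl C (F := F))).prod = wnu C F w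
  | [] => by simp [wnu]
  | i :: w => by
    rw [List.map_cons, List.map_cons, List.prod_cons, gl_wnu C w, wnu_cons]
    show ng C (T.simp' i) (Mono.val 1 1 ⟨1, 0, 0⟩) * _ = _
    simp [Mono.val]; rfl

/-- The pair commutes modulo `p`. -/
noncomputable def chkCommMod (p : ℕ) (T : Tbl) (r s : ℕ) : Bool :=
  Nat.blt r T.nroots && (Nat.blt s T.nroots && (!Nat.beq s r && (!Nat.beq s (T.neg r) &&
    (tTerms T r s).all fun c => decide (c.2.1 % (p : ℤ) = 0))))

theorem xg_commute_mod {p : ℕ} [CharP F p] (C : Cert D T) (K : CommCert D T) {r s : ℕ}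
    (h : chkCommMod p T r s = true) (t u : F) : Commute (xg C r t) (xg C s u) := by
  simp only [chkCommMod, Bool.and_eq_true, Nat.blt_eq, Bool.not_eq_true', List.all_eq_true, decide_eq_true_eq,
    C.spec.shape.nroots_eq] at h
  obtain ⟨hr, hs, h1, h2, h3⟩ := h
  show xg C r t * xg C s u = xg C s u * xg C r t
  refine Units.ext ?_
  have := comm_formula K (F := F) hr hs (fun e => by rw [e, Nat.beq_refl] at h1; exact Bool.noConfusion h1)
    (fun e => by rw [e, Nat.beq_refl] at h2; exact Bool.noConfusion h2) t u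
  rw [wordMat_eq_one, mul_one] at this
  · rw [Units.val_mul, Units.val_mul, coe_xg, coe_xg, this]
  · intro q hq
    rw [ChevalleyDatum.commWord, commTerms_eq C hr hs] at hq
    obtain ⟨c, hc, rfl⟩ := List.mem_map.1 hq
    simp [(CharP.intCast_eq_zero_iff F p c.2.1).2 (Int.dvd_of_emod_eq_zero (h3 c hc))]

end ModP

/-- The exponent of the twisting map at a root. -/
noncomputable def ESym.ex (S : ESym) (T : Tbl) (m r : ℕ) : ℕ := S.p ^ m * S.lam T r

/-- The check of a twisted root system of an exceptional symmetry. -/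
noncomputable def chkTwSpecial (T : Tbl) (S : ESym) (τ : TwData) : Bool :=
  allBelow (fun i => Nat.beq (τ.node i) (S.pos i)) T.rank &&
  allBelow (fun r => Nat.beq (τ.root r) (S.root T r)) T.nroots &&
  allBelow (fun J => eqNats ((τ.base J).map (wperm T (τ.lw J))) ((τ.base J).map T.neg) &&
    sameWord T ((τ.lw J).map fun i => Ltr.n i ⟨1, 0, 0⟩) (((τ.lw J).map τ.node).map fun i => Ltr.n i ⟨1, 0, 0⟩))
    τ.norb

/-- The facts expressed by the check. -/
structure TwSpecialOK (D : ChevalleyDatum) (T : Tbl) (S : ESym) (τ : TwData) : Prop where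
  node_eq : ∀ i < D.rank, τ.node i = S.pos i
  root_eq : ∀ r < D.nroots, τ.root r = S.root T r
  base_flip : ∀ J < τ.norb, (τ.base J).map (wperm T (τ.lw J)) = (τ.base J).map T.neg
  braid : ∀ J < τ.norb,
    sameWord T ((τ.lw J).map fun i => Ltr.n i ⟨1, 0, 0⟩) (((τ.lw J).map τ.node).map fun i => Ltr.n i ⟨1, 0, 0⟩) = true

theorem twSpecial_of_chk {D : ChevalleyDatum} {T : Tbl} (C : Cert D T) {S : ESym} {τ : TwData}
    (h : chkTwSpecial T S τ = true) : TwSpecialOK D T S τ := by
  simp only [chkTwSpecial, Bool.and_eq_true, allBelow_iff, Nat.beq_eq, C.spec.shape.rank_eq,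
    C.spec.shape.nroots_eq] at h
  obtain ⟨⟨h1, h2⟩, h3⟩ := h
  exact ⟨h1, h2, fun J hJ => eqNats_iff _ _ (h3 J hJ).1, fun J hJ => (h3 J hJ).2⟩

section Main

variable {D : ChevalleyDatum} {T : Tbl} {S : ESym} (hS : ESymOK D T S) (C : Cert D T) (K : FullCert D T)
  {F : Type*} [Field F] [CharP F S.p] [Fact S.p.Prime]

open Classical in
/-- The twisting map: a power of the Frobenius map followed by the exceptional endomorphism. -/
noncomputable def twE (hS : ESymOK D T S) (C : Cert D T) (K : FullCert D T) (m : ℕ) (g : GL D.Idx F) : GL D.Idx F :=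
  if h : Matrix.GeneralLinearGroup.map (iterateFrobenius F S.p m) g ∈ D.group F then
    (hS.endo C K ⟨_, h⟩ : GL D.Idx F) else 1

theorem frob_mem (m : ℕ) {g : GL D.Idx F} (hg : g ∈ D.group F) :
    Matrix.GeneralLinearGroup.map (iterateFrobenius F S.p m) g ∈ D.group F :=
  Cfsg.Lib.Linear.Chev.group_map_le D _ ⟨g, hg, rfl⟩

theorem twE_eq (m : ℕ) {g : GL D.Idx F} (hg : g ∈ D.group F) :
    twE hS C K m g = hS.endo C K ⟨_, frob_mem m hg⟩ := dif_pos (frob_mem m hg)

theorem twE_mem (m : ℕ) {g : GL D.Idx F} (hg : g ∈ D.group F) : twE hS C K m g ∈ D.group F := by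
  rw [twE_eq hS C K m hg]; exact (hS.endo C K _).2

theorem twE_mul (m : ℕ) {a b : GL D.Idx F} (ha : a ∈ D.group F) (hb : b ∈ D.group F) :
    twE hS C K m (a * b) = twE hS C K m a * twE hS C K m b := by
  rw [twE_eq hS C K m (mul_mem ha hb), twE_eq hS C K m ha, twE_eq hS C K m hb, ← Subgroup.coe_mul, ← map_mul]
  congr 2
  exact Subtype.ext (map_mul _ a b)

theorem twE_one (m : ℕ) : twE hS C K m (1 : GL D.Idx F) = 1 := by
  have h := twE_mul hS C K m (one_mem (D.group F)) (one_mem (D.group F))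
  rw [mul_one] at h
  exact mul_eq_left.1 h.symm

include hS in
theorem ex_eq_pow (m r : ℕ) : ∃ j, S.ex T m r = S.p ^ j := by
  unfold ESym.ex ESym.lam
  cases S.isL (T.rank + r)
  · exact ⟨m + 1, (pow_succ S.p m).symm⟩
  · exact ⟨m, mul_one _⟩

include hS in
theorem neg_pow_ex (m r : ℕ) (a : F) : (-a) ^ S.ex T m r = -a ^ S.ex T m r := by
  obtain ⟨j, hj⟩ := ex_eq_pow hS m r
  rw [hj, ← iterateFrobenius_def, ← iterateFrobenius_def, map_neg]

theorem twE_xg (m : ℕ) {r : ℕ} (hr : r < D.nroots) (t : F) :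
    twE hS C K m (xg C r t) = xg C (S.root T r) (t ^ S.ex T m r) := by
  rw [twE_eq hS C K m (xg_mem_group C r t)]
  have e : Matrix.GeneralLinearGroup.map (iterateFrobenius F S.p m) (xg C r t) = xg C r (t ^ S.p ^ m) := by
    refine Units.ext ?_
    show ((xg C r t : GL D.Idx F) : Matrix D.Idx D.Idx F).map (iterateFrobenius F S.p m) = _
    rw [coe_xg, coe_xg, Cfsg.Lib.Linear.Chev.xMat_map, iterateFrobenius_def]
  rw [show (⟨_, frob_mem m (xg_mem_group C r t)⟩ : ↥(D.group F)) = ⟨xg C r (t ^ S.p ^ m), xg_mem_group C _ _⟩ from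
    Subtype.ext e, hS.endo_xg C K hr, ← pow_mul]
  rfl

theorem twE_ng (m : ℕ) {r : ℕ} (hr : r < D.nroots) (v : F) :
    twE hS C K m (ng C r v) = ng C (S.root T r) (v ^ S.ex T m r) := by
  obtain ⟨-, hr'⟩ := hS.root_lt hr C.spec.shape
  have hn := C.spec.neg_lt r hr
  have hlam : S.ex T m (T.neg r) = S.ex T m r := by
    unfold ESym.ex ESym.lam
    rw [C.spec.shape.rank_eq, hS.long_neg r hr]
  rw [ng, C.spec.shape.neg_eq r hr, twE_mul hS C K m (mul_mem (xg_mem_group C _ _) (xg_mem_group C _ _))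
    (xg_mem_group C _ _), twE_mul hS C K m (xg_mem_group C _ _) (xg_mem_group C _ _), twE_xg hS C K m hr,
    twE_xg hS C K m hn, hlam, neg_pow_ex hS, inv_pow, ng, C.spec.shape.neg_eq _ hr', hS.root_neg r hr]

theorem twE_hg (m : ℕ) {r : ℕ} (hr : r < D.nroots) (v : F) :
    twE hS C K m (hg C r v) = hg C (S.root T r) (v ^ S.ex T m r) := by
  rw [hg, twE_mul hS C K m (ng_mem_group C r v) (ng_mem_group C r _), twE_ng hS C K m hr, twE_ng hS C K m hr,
    neg_pow_ex hS, one_pow, hg]

theorem twE_diag (m : ℕ) {h : GL D.Idx F} (hh : h ∈ D.diagonalSubgroup F) :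
    twE hS C K m h ∈ D.diagonalSubgroup F := by
  induction hh using Subgroup.closure_induction with
  | mem x hx =>
    obtain ⟨r, v, hr, hv, e⟩ := hx
    rw [show x = hg C r v from Units.ext (e.trans (coe_hg C r v).symm), twE_hg hS C K m hr]
    exact hg_mem C (hS.root_lt hr C.spec.shape).2 (pow_ne_zero _ hv)
  | one => rw [twE_one]; exact one_mem _
  | mul a b ha hb iha ihb =>
    rw [twE_mul hS C K m (diag_le_group C ha) (diag_le_group C hb)]; exact mul_mem iha ihb
  | inv a ha iha =>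
    have := twE_mul hS C K m (diag_le_group C ha) (inv_mem (diag_le_group C ha))
    rw [mul_inv_cancel, twE_one] at this
    rw [eq_inv_of_mul_eq_one_right this.symm]
    exact inv_mem iha

variable {τ : TwData}

theorem TwSpecialOK.twOK (hs : TwSpecialOK D T S τ) (hc : TwComb D T τ) (m : ℕ) :
    TwOK C τ (twE (F := F) hS C K m) where
  map_mem g hg := twE_mem hS C K m hg
  map_mul a ha b hb := twE_mul hS C K m ha hb
  map_xg r hr t := ⟨_, by rw [twE_xg hS C K m hr, hs.root_eq r hr]⟩
  map_diag h hh := twE_diag hS C K m hh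
  map_nu i hi := by
    rw [nu, twE_ng hS C K m (C.spec.simp_lt i hi), one_pow, hS.root_simple i hi, hs.node_eq i hi]
    rfl
  rep J hJ := by
    have hw := hc.lw_word J hJ
    refine ⟨wnu C F (τ.lw J), wnu_mem_group C hw, ?_, by rw [inv_mul_cancel]; exact one_mem _⟩
    have hmap := hc.map_node_word hw
    have h1 : ∀ (w : List ℕ), IsWord D w → ∀ L ∈ w.map (fun i => Ltr.n i ⟨1, 0, 0⟩), L.ok D := by
      intro w hw L hL
      obtain ⟨i, hi, rfl⟩ := List.mem_map.1 hL
      exact ⟨hw i hi, Or.inl rfl⟩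
    have e : ∀ w : List ℕ, IsWord D w → twE (F := F) hS C K m (wnu C F w) = wnu C F (w.map τ.node) := by
      intro w
      induction w with
      | nil => intro _; simpa [wnu] using twE_one (F := F) hS C K m
      | cons i w ih =>
        intro hw
        rw [wnu_cons, List.map_cons, wnu_cons, twE_mul hS C K m (show nu C i ∈ D.group F from ng_mem_group C _ _)
          (wnu_mem_group C hw.tail.2), ih hw.tail.2]
        congr 1
        rw [nu, twE_ng hS C K m (C.spec.simp_lt i hw.tail.1), one_pow, hS.root_simple i hw.tail.1,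
          hs.node_eq i hw.tail.1]
        rfl
    rw [e _ hw]
    have hm := wmat_eq_of_sameWord (1 : F) 1 C.spec.shape one_ne_zero one_ne_zero (h1 _ hw) (h1 _ hmap) (hs.braid J hJ)
    refine Units.ext ?_
    have hco : ∀ w : List ℕ, IsWord D w →
        ((wnu C F w : GL D.Idx F) : Matrix D.Idx D.Idx F) = wmat (1 : F) 1 T D (w.map fun i => Ltr.n i ⟨1, 0, 0⟩) := by
      intro w hw
      rw [← gl_wnu (F := F) C w]
      induction w with
      | nil => simp [wmat]
      | cons i w ih =>
        rw [List.map_cons, List.map_cons, List.prod_cons, Units.val_mul, ih hw.tail.2,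
          coe_gl C (show (Ltr.n i ⟨1, 0, 0⟩).ok D from ⟨hw.tail.1, Or.inl rfl⟩)]
        simp [wmat]
    rw [hco _ hmap, hco _ hw, hm]

/-! ### The torus -/

theorem torusHom_eq_prod (c : Fin D.rank → Fˣ) {l : List ℕ} (hnd : l.Nodup) (hl : ∀ i ∈ l, i < D.rank)
    (hcov : ∀ i < D.rank, i ∈ l) :
    torusHom D T F c = (l.map fun i => hg C (T.simp' i) (extend' c i)).prod := by
  refine Units.ext ?_
  rw [coe_hg_list C (extend' c) (fun i _ => extend'_ne c i) l hnd hl, coe_torusHom, scal, scal]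
  congr 1
  funext j
  rcases j with i | s
  · rfl
  · simp only [Sum.elim_inr, chr]
    exact Finset.prod_congr rfl fun j hj => by rw [if_pos (hcov j (Finset.mem_range.1 hj))]

theorem hg_eq_torus {r : ℕ} (hr : r < D.nroots) {v : F} (hv : v ≠ 0) :
    hg C r v = torusHom D T F fun k => Units.mk0 (v ^ T.coroot r k) (zpow_ne_zero _ hv) := by
  refine Units.ext ?_
  rw [coe_hg_eq C hr hv, coe_torusHom, coDiag, scal, scal]
  congr 1
  funext j
  rcases j with i | s
  · rfl
  · simp only [Sum.elim_inr, chr]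
    exact Finset.prod_congr rfl fun j hj => by simp [extend', Finset.mem_range.1 hj]

include hS in
theorem ESymOK.node_lt {i : ℕ} (hi : i < D.rank) : S.pos i < D.rank := (hS.pos_rank i (by omega)).1 hi

/-- The image of torus parameters. -/
noncomputable def ePar (hS : ESymOK D T S) (m : ℕ) (c : Fin D.rank → Fˣ) : Fin D.rank → Fˣ :=
  fun i => c ⟨S.pos i, hS.node_lt i.2⟩ ^ S.ex T m (T.simp' (S.pos i))

theorem twE_torus (m : ℕ) (c : Fin D.rank → Fˣ) :
    twE hS C K m (torusHom D T F c) = torusHom D T F (ePar hS m c) := by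
  have key : ∀ l : List ℕ, (∀ i ∈ l, i < D.rank) →
      (l.map fun i => hg C (T.simp' i) (extend' c i)).prod ∈ D.group F ∧
      twE hS C K m ((l.map fun i => hg C (T.simp' i) (extend' c i)).prod) =
        ((l.map S.pos).map fun i => hg C (T.simp' i) (extend' (ePar hS m c) i)).prod := by
    intro l
    induction l with
    | nil => exact fun _ => ⟨one_mem _, twE_one hS C K m⟩
    | cons i l ih =>
      intro hl
      have hi := hl i (List.mem_cons_self ..)
      obtain ⟨h1, h2⟩ := ih fun x hx => hl x (List.mem_cons_of_mem _ hx)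
      have hg' : hg C (T.simp' i) (extend' c i) ∈ D.group F := mul_mem (ng_mem_group C _ _) (ng_mem_group C _ _)
      rw [List.map_cons, List.prod_cons]
      refine ⟨mul_mem hg' h1, ?_⟩
      rw [twE_mul hS C K m hg' h1, h2, List.map_cons, List.map_cons, List.prod_cons,
        twE_hg hS C K m (C.spec.simp_lt i hi), hS.root_simple i hi]
      congr 2
      have hp : S.pos (S.pos i) = i := hS.pos_pos i (by omega)
      simp only [extend', dif_pos hi, dif_pos (hS.node_lt hi), ePar, Units.val_pow_eq_pow_val, hp]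
  rw [torusHom_eq_prod C c List.nodup_range (fun i => List.mem_range.1) (fun i hi => List.mem_range.2 hi),
    (key _ fun i => List.mem_range.1).2]
  refine (torusHom_eq_prod C _ ?_ ?_ ?_).symm
  · exact List.Nodup.map_on (fun a ha b hb e => by
      rw [← hS.pos_pos a (by have := List.mem_range.1 ha; omega), e,
        hS.pos_pos b (by have := List.mem_range.1 hb; omega)]) List.nodup_range
  · intro i hi
    obtain ⟨a, ha, rfl⟩ := List.mem_map.1 hi
    exact hS.node_lt (List.mem_range.1 ha)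
  · intro i hi
    exact List.mem_map.2 ⟨S.pos i, List.mem_range.2 (hS.node_lt hi), hS.pos_pos i (by omega)⟩

include C in
/-- A unimodular Cartan matrix makes the torus parametrisation injective. -/
theorem torusHom_injective {M : Matrix (Fin D.rank) (Fin D.rank) ℤ} (hM : M * cartanMat D T = 1) :
    Function.Injective (torusHom D T F) := by
  rw [injective_iff_map_eq_one]
  intro z hz
  have h : z ∈ (torusHom D T F).ker := hz
  rw [torusHom_ker C, MonoidHom.mem_ker] at h
  have h2 : powHom (M * cartanMat D T) z = 1 := by rw [powHom_mul, MonoidHom.comp_apply, h, map_one]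
  rw [hM] at h2
  funext i
  have h3 := congrFun h2 i
  rw [← Matrix.diagonal_one, show (fun _ : Fin D.rank => (1 : ℤ)) = fun _ => ((1 : ℕ) : ℤ) from rfl,
    powHom_diagonal (fun _ => 1)] at h3
  simpa using h3

theorem TwSpecialOK.mem_diag_fixed (hs : TwSpecialOK D T S τ) (hc : TwComb D T τ) (m : ℕ)
    (hinj : Function.Injective (torusHom D T F)) {g : GL D.Idx F} :
    g ∈ D.diagonalSubgroup F ⊓ (hs.twOK hS C K hc (F := F) m).fixed C ↔
      ∃ c, ePar hS m c = c ∧ g = torusHom D T F c := by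
  constructor
  · rintro ⟨hd, -, hfix⟩
    rw [← torusHom_range C] at hd
    obtain ⟨c, rfl⟩ := hd
    rw [twE_torus] at hfix
    exact ⟨c, hinj hfix, rfl⟩
  · rintro ⟨c, hcc, rfl⟩
    have hd : torusHom D T F c ∈ D.diagonalSubgroup F := by rw [← torusHom_range C (F := F)]; exact ⟨c, rfl⟩
    exact ⟨hd, diag_le_group C hd, by rw [twE_torus, hcc]⟩

/-! ### Generation -/

include K in
/-- A subgroup with representatives and the orbit parts contains the fixed elements of `V`. -/
theorem TwOK.neg_fixed_le [Finite F] (hc : TwComb D T τ) {σ : GL D.Idx F → GL D.Idx F} (h : TwOK C τ σ)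
    {W : Subgroup (GL D.Idx F)}
    (hrep : ∀ J < τ.norb, ∃ n ∈ W ⊓ h.fixed C, (wnu C F (τ.lw J))⁻¹ * n ∈ D.diagonalSubgroup F)
    (hbase : ∀ J < τ.norb, twFixPart C σ (τ.base J) ⊆ W) : D.negUnipotent F ⊓ h.fixed C ≤ W := by
  obtain ⟨e, he, hl⟩ := hc.exists_long_elt C K
  obtain ⟨n, hn, hd⟩ := h.exists_rep C hc hrep he
  intro y hy
  have hw := hc.eword_word C he
  have hev := nroots_even C
  have hdd := conj_mem_diag C (F := F) (wnu_mem C hw) hd
  have hmem : n * y * n⁻¹ ∈ D.posUnipotent F := by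
    have h1 : wnu C F (τ.eword e) * y * (wnu C F (τ.eword e))⁻¹ ∈ D.posUnipotent F := by
      refine (Subgroup.closure_le (((D.posUnipotent F)).comap (MulAut.conj (wnu C F (τ.eword e))).toMonoidHom)).2 ?_ hy.1
      rintro g ⟨r, t, hr, eg⟩
      show wnu C F (τ.eword e) * g * (wnu C F (τ.eword e))⁻¹ ∈ D.posUnipotent F
      obtain ⟨c, -, hct⟩ := wnu_conj_xg C (F := F) hw hr.1
      rw [eq_xg C eg, hct]
      refine xg_mem_pos C (wperm_lt C hw hr.1) ?_ _
      have hneg := (C.isNeg_iff hr.1).1 hr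
      have hn' := C.spec.neg_lt r hr.1
      have h2 := hl (T.neg r) hn' (by rw [C.neg_eq hr.1]; omega)
      rw [wperm_neg C hw hr.1, C.neg_eq (wperm_lt C hw hr.1)] at h2
      have := wperm_lt C hw hr.1
      omega
    have e2 : n * y * n⁻¹ = (wnu C F (τ.eword e) * ((wnu C F (τ.eword e))⁻¹ * n) * (wnu C F (τ.eword e))⁻¹) *
        (wnu C F (τ.eword e) * y * (wnu C F (τ.eword e))⁻¹) *
        (wnu C F (τ.eword e) * ((wnu C F (τ.eword e))⁻¹ * n) * (wnu C F (τ.eword e))⁻¹)⁻¹ := by group
    rw [e2]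
    exact (Subgroup.mem_normalizer_iff.1 (diag_le_normalizer C hdd.1) _).1 h1
  have hnf : n ∈ h.fixed C := (Subgroup.mem_inf.1 hn).2
  have h3 : n * y * n⁻¹ ∈ W := h.pos_fixed_le C K hc hrep hbase ⟨hmem, Subgroup.mul_mem _ (Subgroup.mul_mem _ hnf hy.2) (Subgroup.inv_mem _ hnf)⟩
  have hnW : n ∈ W := (Subgroup.mem_inf.1 hn).1
  have := W.mul_mem (W.mul_mem (W.inv_mem hnW) h3) hnW
  simpa [mul_assoc] using this

/-- The torus elements of an orthogonal pair of a long root and a short root. -/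
theorem pairTorus_mem (m : ℕ) {W : Subgroup (GL D.Idx F)} {r : ℕ} (hr : r < D.nroots)
    (hp : D.nroots ≤ 2 * r) (hex : S.ex T m r = S.p ^ m)
    (hcy : chkCommMod S.p T r (S.root T r) = true ∧ chkCommMod S.p T r (T.neg (S.root T r)) = true ∧
      chkCommMod S.p T (T.neg r) (S.root T r) = true ∧ chkCommMod S.p T (T.neg r) (T.neg (S.root T r)) = true)
    (hθ : ∀ t : F, (t ^ S.p ^ m) ^ S.ex T m (S.root T r) = t)
    (hpos : ∀ g ∈ D.posUnipotent F, twE hS C K m g = g → g ∈ W)
    (hneg : ∀ g ∈ D.negUnipotent F, twE hS C K m g = g → g ∈ W) (v : F) :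
    hg C r v * hg C (S.root T r) (v ^ S.p ^ m) ∈ W := by
  obtain ⟨-, hr'⟩ := hS.root_lt hr C.spec.shape
  have hn := C.spec.neg_lt r hr
  have hn' := C.spec.neg_lt _ hr'
  let f : F →+* F := iterateFrobenius F S.p m
  have hf : ∀ t : F, f t = t ^ S.p ^ m := fun t => by simp [f, iterateFrobenius_def]
  have hp' : D.nroots ≤ 2 * S.root T r := (hS.root_pos r hr).2 hp
  have hcomm : ([r, S.root T r] : List ℕ).Pairwise fun a b => ∀ t u : F, Commute (xg C a t) (xg C b u) ∧
      Commute (xg C a t) (xg C (T.neg b) u) ∧ Commute (xg C (T.neg a) t) (xg C b u) ∧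
      Commute (xg C (T.neg a) t) (xg C (T.neg b) u) := by
    refine List.pairwise_cons.2 ⟨fun b hb t u => ?_, List.pairwise_singleton _ _⟩
    obtain rfl : b = S.root T r := by simpa using hb
    exact ⟨xg_commute_mod C K.comm hcy.1 t u, xg_commute_mod C K.comm hcy.2.1 t u,
      xg_commute_mod C K.comm hcy.2.2.1 t u, xg_commute_mod C K.comm hcy.2.2.2 t u⟩
  have hP : ∀ t : F, orbEl C f [r, S.root T r] t ∈ W := by
    intro t
    refine hpos _ ?_ ?_
    · simp only [orbEl, mul_one]
      exact mul_mem (xg_mem_pos C hr hp _) (xg_mem_pos C hr' hp' _)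
    · simp only [orbEl, mul_one]
      rw [twE_mul hS C K m (xg_mem_group C _ _) (xg_mem_group C _ _), twE_xg hS C K m hr, twE_xg hS C K m hr', hf,
        hθ, hS.root_root hr C.spec.shape, hex]
      exact (xg_commute_mod C K.comm hcy.1 t (t ^ S.p ^ m)).eq.symm
  have hN : ∀ t : F, orbEl C f [T.neg r, T.neg (S.root T r)] t ∈ W := by
    intro t
    have hex1 : S.ex T m (T.neg r) = S.ex T m r := by
      unfold ESym.ex ESym.lam; rw [C.spec.shape.rank_eq, hS.long_neg r hr]
    have hex2 : S.ex T m (T.neg (S.root T r)) = S.ex T m (S.root T r) := by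
      unfold ESym.ex ESym.lam; rw [C.spec.shape.rank_eq, hS.long_neg _ hr']
    refine hneg _ ?_ ?_
    · simp only [orbEl, mul_one]
      refine mul_mem (xg_mem_neg C hn ?_ _) (xg_mem_neg C hn' ?_ _)
      · rw [C.neg_eq hr]; omega
      · rw [C.neg_eq hr']; omega
    · simp only [orbEl, mul_one]
      rw [twE_mul hS C K m (xg_mem_group C _ _) (xg_mem_group C _ _), twE_xg hS C K m hn, twE_xg hS C K m hn', hf,
        hex1, hex2, hθ, hex, hS.root_neg r hr, hS.root_neg _ hr', hS.root_root hr C.spec.shape]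
      exact (xg_commute_mod C K.comm hcy.2.2.2 t (t ^ S.p ^ m)).eq.symm
  have hn2 : ∀ w : F, nGen C f [r, S.root T r] w ∈ W := by
    intro w
    rw [nGen_eq C f [r, S.root T r] w (fun s hs => by
      rcases List.mem_cons.1 hs with rfl | hs
      · exact hr
      · obtain rfl : s = S.root T r := by simpa using hs
        exact hr') hcomm]
    exact mul_mem (mul_mem (hP w) (hN _)) (hP w)
  have e := nGen_mul_neg C f [r, S.root T r] v (fun s hs => by
    rcases List.mem_cons.1 hs with rfl | hs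
    · exact hr
    · obtain rfl : s = S.root T r := by simpa using hs
      exact hr') hcomm
  have := mul_mem (hn2 v) (hn2 (-1))
  rw [e] at this
  simpa [hf] using this

end Main

/-- Perfectness from the generators. -/
theorem perfect_of_gen {Γ : Type*} [Group Γ] {G : Subgroup Γ} {X : Set Γ} (hG : G ≤ Subgroup.closure X)
    (hX : X ⊆ ((commutator ↥G).map G.subtype : Subgroup Γ)) : commutator ↥G = ⊤ := by
  refine eq_top_iff.2 fun x _ => ?_
  obtain ⟨y, hy, e⟩ := (Subgroup.closure_le _).2 hX (hG x.2)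
  rwa [show x = y from Subtype.ext e.symm]

theorem commutator_image_mem {Γ : Type*} [Group Γ] {G : Subgroup Γ} {a b : Γ} (ha : a ∈ G) (hb : b ∈ G) :
    a * b * a⁻¹ * b⁻¹ ∈ (commutator ↥G).map G.subtype :=
  ⟨⁅(⟨a, ha⟩ : ↥G), ⟨b, hb⟩⁆, by
    rw [commutator_def]; exact Subgroup.commutator_mem_commutator (Subgroup.mem_top _) (Subgroup.mem_top _), rfl⟩

theorem commutator_image_conj {Γ : Type*} [Group Γ] {G : Subgroup Γ} {a x : Γ} (ha : a ∈ G)
    (hx : x ∈ (commutator ↥G).map G.subtype) : a * x * a⁻¹ ∈ (commutator ↥G).map G.subtype := by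
  obtain ⟨y, hy, rfl⟩ := hx
  exact ⟨⟨a, ha⟩ * y * (⟨a, ha⟩)⁻¹, (Subgroup.commutator_normal ⊤ ⊤).conj_mem y hy _, rfl⟩

end Cfsg.Lib.Chev
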