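import Mathlib
import Cfsg.Agent.Lib.Chev.NormalForm
import Cfsg.Agent.Lib.Chev.Torus
import Cfsg.Agent.Lib.Chev.Sylow
import Cfsg.Agent.Lib.Chev.SpecialTwist

/-!
Descent: the elements fixed by a field endomorphism.
-/

set_option autoImplicit false
set_option linter.unusedSectionVars false

namespace Cfsg.Lib.Chev

open Cfsg.Lie
open scoped Matrix

variable {D : ChevalleyDatum} {T : Tbl} {F : Type*} [Field F] (C : Cert D T)
include C

/-- A field homomorphism acts on root elements through their parameter. -/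
theorem map_xg {E : Type*} [Field E] (f : F →+* E) (r : ℕ) (t : F) :
    Matrix.GeneralLinearGroup.map f (xg C r t) = xg C r (f t) := by
  refine Units.ext ?_
  show ((xg C r t : GL D.Idx F) : Matrix D.Idx D.Idx F).map f = _
  rw [coe_xg, coe_xg, Cfsg.Lib.Linear.Chev.xMat_map]

omit C in
theorem map_gl_injective {ι : Type*} [Fintype ι] [DecidableEq ι] {E : Type*} [Field E] (f : F →+* E) :
    Function.Injective (Matrix.GeneralLinearGroup.map (n := ι) f) := fun a b e => by
  refine Units.ext (Matrix.map_injective f.injective ?_)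
  exact congrArg (fun g : GL ι E => (g : Matrix ι ι E)) e

theorem map_ng {E : Type*} [Field E] (f : F →+* E) (r : ℕ) (v : F) :
    Matrix.GeneralLinearGroup.map f (ng C r v) = ng C r (f v) := by
  simp only [ng, map_mul, map_xg, map_neg, map_inv₀]

theorem map_hg {E : Type*} [Field E] (f : F →+* E) (r : ℕ) (v : F) :
    Matrix.GeneralLinearGroup.map f (hg C r v) = hg C r (f v) := by
  simp only [hg, map_mul, map_ng, map_neg, map_one]

theorem map_nu {E : Type*} [Field E] (f : F →+* E) (i : ℕ) :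
    Matrix.GeneralLinearGroup.map f (nu C (F := F) i) = nu C i := by
  simp only [nu, map_ng, map_one]

theorem map_wnu {E : Type*} [Field E] (f : F →+* E) (w : List ℕ) :
    Matrix.GeneralLinearGroup.map f (wnu C F w) = wnu C E w := by
  induction w with
  | nil => simp [wnu]
  | cons i w ih => rw [wnu_cons, wnu_cons, map_mul, map_nu, ih]

theorem map_torusHom {E : Type*} [Field E] (f : F →+* E) (c : Fin D.rank → Fˣ) :
    Matrix.GeneralLinearGroup.map f (torusHom D T F c) = torusHom D T E fun i => Units.map f.toMonoidHom (c i) := by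
  refine Units.ext ?_
  show ((torusHom D T F c : GL D.Idx F) : Matrix D.Idx D.Idx F).map f = _
  rw [coe_torusHom, coe_torusHom, scal, scal, Matrix.diagonal_map (map_zero f)]
  congr 1
  funext j
  rcases j with i | s
  · simp
  · simp only [Sum.elim_inr, chr, map_prod, map_zpow₀]
    refine Finset.prod_congr rfl fun k hk => ?_
    simp [extend', Finset.mem_range.1 hk]

theorem map_group_le {E : Type*} [Field E] (f : F →+* E) {g : GL D.Idx F} (hg : g ∈ D.group F) :
    Matrix.GeneralLinearGroup.map f g ∈ D.group E := by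
  refine (Subgroup.closure_le ((D.group E).comap (Matrix.GeneralLinearGroup.map f))).2 ?_ hg
  rintro x ⟨r, t, e⟩
  show Matrix.GeneralLinearGroup.map f x ∈ D.group E
  rw [eq_xg C (r := r.1) (t := t) (e.trans (by rw [ChevalleyDatum.x, dif_pos r.2])), map_xg]
  exact xg_mem_group C _ _

variable (σ : F →+* F)

/-- The subgroup generated by the root elements with a fixed parameter. -/
noncomputable def fixedRoots : Subgroup (GL D.Idx F) :=
  Subgroup.closure {g | ∃ (r : ℕ) (t : F), σ t = t ∧ g = xg C r t}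

theorem xg_mem_fixedRoots {r : ℕ} {t : F} (ht : σ t = t) : xg C r t ∈ fixedRoots C σ :=
  Subgroup.subset_closure ⟨r, t, ht, rfl⟩

theorem map_fixedRoots {g : GL D.Idx F} (hg : g ∈ fixedRoots C σ) : Matrix.GeneralLinearGroup.map σ g = g := by
  induction hg using Subgroup.closure_induction with
  | mem x hx => obtain ⟨r, t, ht, rfl⟩ := hx; rw [map_xg, ht]
  | one => exact map_one _
  | mul a b _ _ ha hb => rw [map_mul, ha, hb]
  | inv a _ ha => rw [map_inv, ha]

theorem fixedRoots_le_group : fixedRoots C σ ≤ D.group F :=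
  (Subgroup.closure_le _).2 fun _ ⟨r, t, _, e⟩ => e ▸ xg_mem_group C r t

theorem ng_mem_fixedRoots {r : ℕ} {v : F} (hv : σ v = v) : ng C r v ∈ fixedRoots C σ :=
  mul_mem (mul_mem (xg_mem_fixedRoots C σ hv) (xg_mem_fixedRoots C σ (by rw [map_neg, map_inv₀, hv])))
    (xg_mem_fixedRoots C σ hv)

theorem wnu_mem_fixedRoots (w : List ℕ) : wnu C F w ∈ fixedRoots C σ := by
  induction w with
  | nil => exact (fixedRoots C σ).one_mem
  | cons i w ih => rw [wnu_cons]; exact mul_mem (ng_mem_fixedRoots C σ (map_one σ)) ih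

theorem map_pos {g : GL D.Idx F} (hg : g ∈ D.posUnipotent F) :
    Matrix.GeneralLinearGroup.map σ g ∈ D.posUnipotent F := by
  suffices h : D.posUnipotent F ≤ (D.posUnipotent F).comap (Matrix.GeneralLinearGroup.map (n := D.Idx) σ) from h hg
  refine (Subgroup.closure_le _).2 ?_
  rintro x ⟨r, t, hr, e⟩
  show Matrix.GeneralLinearGroup.map σ x ∈ D.posUnipotent F
  rw [eq_xg C e, map_xg]
  exact Subgroup.subset_closure ⟨r, _, hr, rfl⟩

theorem map_upper {k : ℕ} {g : GL D.Idx F} (hg : g ∈ upper C F k) :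
    Matrix.GeneralLinearGroup.map σ g ∈ upper C F k := by
  suffices h : upper C F k ≤ (upper C F k).comap (Matrix.GeneralLinearGroup.map (n := D.Idx) σ) from h hg
  refine (Subgroup.closure_le _).2 ?_
  rintro x ⟨r, t, h1, -, rfl⟩
  show Matrix.GeneralLinearGroup.map σ (xg C r t) ∈ upper C F k
  rw [map_xg]
  exact xg_mem_upper C h1 _

theorem map_diag {g : GL D.Idx F} (hg : g ∈ D.diagonalSubgroup F) :
    Matrix.GeneralLinearGroup.map σ g ∈ D.diagonalSubgroup F := by
  rw [← torusHom_range C] at hg ⊢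
  obtain ⟨c, rfl⟩ := hg
  exact ⟨_, (map_torusHom C σ c).symm⟩

theorem map_borel {g : GL D.Idx F} (hg : g ∈ D.borelSubgroup F) :
    Matrix.GeneralLinearGroup.map σ g ∈ D.borelSubgroup F := by
  obtain ⟨u, hu, h, hh, rfl⟩ := (mem_borel C).1 hg
  rw [map_mul]
  exact mul_mem (Subgroup.mem_sup_left (map_pos C σ hu)) (Subgroup.mem_sup_right (map_diag C σ hh))

theorem borel_parts {u u' h h' : GL D.Idx F} (hu : u ∈ D.posUnipotent F) (hu' : u' ∈ D.posUnipotent F)
    (hh : h ∈ D.diagonalSubgroup F) (hh' : h' ∈ D.diagonalSubgroup F) (e : u * h = u' * h') : u = u' ∧ h = h' := by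
  have e1 : u'⁻¹ * u = h' * h⁻¹ := by
    calc u'⁻¹ * u = u'⁻¹ * (u * h) * h⁻¹ := by group
      _ = _ := by rw [e]; group
  have h1 : u'⁻¹ * u = 1 := (Subgroup.eq_bot_iff_forall _).1 (pos_inf_diag C) _
    ⟨Subgroup.mul_mem _ (Subgroup.inv_mem _ hu') hu, e1 ▸ Subgroup.mul_mem _ hh' (Subgroup.inv_mem _ hh)⟩
  obtain rfl : u' = u := inv_mul_eq_one.1 h1
  exact ⟨rfl, mul_left_cancel e⟩

variable (K : FullCert D T)
include K

theorem pos_fixed_mem {g : GL D.Idx F} (hg : g ∈ D.posUnipotent F) (hfix : Matrix.GeneralLinearGroup.map σ g = g) :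
    g ∈ fixedRoots C σ := by
  have hev := nroots_even C
  rw [posUnipotent_eq C] at hg
  obtain ⟨t, rfl⟩ := upper_normal_form C K.comm (D.nroots / 2) (k := D.nroots / 2) (by omega) (by omega) hg
  have e : ∀ (k m : ℕ), Matrix.GeneralLinearGroup.map σ (oprod C k m t) = oprod C k m fun r => σ (t r) := by
    intro k m
    simp [oprod, map_list_prod, List.map_map, Function.comp_def, map_xg]
  rw [e] at hfix
  have ht := oprod_inj C (D.nroots / 2) (k := D.nroots / 2) (by omega) (by omega) hfix
  refine list_prod_mem fun x hx => ?_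
  obtain ⟨r, hr, rfl⟩ := List.mem_map.1 hx
  have := List.mem_range'_1.1 hr
  exact xg_mem_fixedRoots C σ (ht r this.1 (by omega))

theorem map_signPart {w : List ℕ} {neg : Bool} {k : ℕ} {g : GL D.Idx F} (hg : g ∈ signPart C K F w neg k) :
    Matrix.GeneralLinearGroup.map σ g ∈ signPart C K F w neg k := by
  suffices h : signPart C K F w neg k ≤ (signPart C K F w neg k).comap (Matrix.GeneralLinearGroup.map (n := D.Idx) σ) from h hg
  refine (Subgroup.closure_le _).2 ?_
  rintro x ⟨r, t, h1, h2, h3, rfl⟩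
  show Matrix.GeneralLinearGroup.map σ (xg C r t) ∈ signPart C K F w neg k
  rw [map_xg]
  exact xg_mem_signPart C K h1 h2 h3 _

/-- A fixed element is the product of fixed root elements and a fixed torus element. -/
theorem fixed_decomp {g : GL D.Idx F} (hg : g ∈ D.group F) (hfix : Matrix.GeneralLinearGroup.map σ g = g) :
    ∃ u ∈ fixedRoots C σ, ∃ v ∈ fixedRoots C σ, ∃ d ∈ D.diagonalSubgroup F,
      Matrix.GeneralLinearGroup.map σ d = d ∧ g = u * d * v := by
  obtain ⟨w, hw, b, hb, c, hc, rfl⟩ := bruhat_normal C K hg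
  have hev := nroots_even C
  rw [map_mul, map_mul, map_wnu] at hfix
  obtain ⟨hbb, hcc⟩ := cell_unique C hb (map_borel C σ hb)
    (((signPart_conj C K hw).1 (Subgroup.mul_mem _ (map_signPart C σ K hc) (Subgroup.inv_mem _ hc)))) hfix.symm
  obtain ⟨u, hu, h, hh, rfl⟩ := (mem_borel C).1 hb
  rw [map_mul] at hbb
  obtain ⟨hu', hh'⟩ := borel_parts C hu (map_pos C σ hu) hh (map_diag C σ hh) hbb
  have hcp : c ∈ D.posUnipotent F := by
    rw [posUnipotent_eq C]; exact signPart_le_upper C K w true _ hc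
  exact ⟨u, pos_fixed_mem C σ K hu hu'.symm, wnu C F w * c,
    mul_mem (wnu_mem_fixedRoots C σ w) (pos_fixed_mem C σ K hcp hcc.symm), h, hh, hh'.symm,
    by rw [mul_assoc]⟩

/-- With an injective torus parametrisation the fixed group is generated by fixed root elements. -/
theorem fixed_eq (hinj : Function.Injective (torusHom D T F)) {g : GL D.Idx F} :
    g ∈ fixedRoots C σ ↔ g ∈ D.group F ∧ Matrix.GeneralLinearGroup.map σ g = g := by
  refine ⟨fun h => ⟨fixedRoots_le_group C σ h, map_fixedRoots C σ h⟩, fun ⟨hg, hfix⟩ => ?_⟩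
  obtain ⟨u, hu, v, hv, d, hd, hd', rfl⟩ := fixed_decomp C σ K hg hfix
  refine mul_mem (mul_mem hu ?_) hv
  rw [← torusHom_range C] at hd
  obtain ⟨c, rfl⟩ := hd
  rw [map_torusHom C] at hd'
  have hc := hinj hd'
  rw [torusHom_eq_prod C c List.nodup_range (fun i => List.mem_range.1) (fun i hi => List.mem_range.2 hi)]
  refine list_prod_mem fun x hx => ?_
  obtain ⟨i, hi, rfl⟩ := List.mem_map.1 hx
  have hi' := List.mem_range.1 hi
  have e : σ (extend' c i) = extend' c i := by
    simp only [extend', dif_pos hi']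
    exact congrArg Units.val (congrFun hc ⟨i, hi'⟩)
  exact mul_mem (ng_mem_fixedRoots C σ e) (ng_mem_fixedRoots C σ (by rw [map_neg, map_one]))

omit K in
/-- The fixed root elements come from the field of the fixed points. -/
theorem fixedRoots_eq_map {E : Type*} [Field E] (ι : E →+* F) (hι : ∀ t, σ t = t ↔ t ∈ ι.range) :
    fixedRoots C σ = (D.group E).map (Matrix.GeneralLinearGroup.map ι) := by
  refine le_antisymm ((Subgroup.closure_le _).2 ?_) ((Subgroup.map_le_iff_le_comap).2 ((Subgroup.closure_le _).2 ?_))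
  · rintro x ⟨r, t, ht, rfl⟩
    obtain ⟨s, rfl⟩ := (hι t).1 ht
    exact ⟨xg C r s, xg_mem_group C r s, map_xg C ι r s⟩
  · rintro x ⟨r, t, e⟩
    show Matrix.GeneralLinearGroup.map ι x ∈ fixedRoots C σ
    rw [eq_xg C (r := r.1) (t := t) (e.trans (by rw [ChevalleyDatum.x, dif_pos r.2])), map_xg]
    exact xg_mem_fixedRoots C σ ((hι _).2 ⟨t, rfl⟩)

end Cfsg.Lib.Chev
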