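import Cfsg.Agent.Lib.Chev.AutRigid
import Cfsg.Agent.Lib.Chev.Torus
import Cfsg.Agent.Lib.Chev.Descent

/-!
Every automorphism of a finite Chevalley group is inner times diagonal times graph times field, uniquely enough to
count the outer automorphisms.
-/

set_option autoImplicit false
set_option linter.unusedSectionVars false

namespace Cfsg.Lib.Chev

open Cfsg.Lie

variable {D : ChevalleyDatum} {T : Tbl} {F : Type*} [Field F]

/-- Whether a word fixes every fundamental root. -/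
noncomputable def fixSimple (T : Tbl) (w : List ℕ) : Bool :=
  allBelow (fun k => Nat.beq (wperm T w (T.simp' k)) (T.simp' k)) T.rank

/-- The periods of products of two fundamental reflections determine the bonds. -/
noncomputable def chkBondPeriod (T : Tbl) : Bool :=
  allBelow (fun i => allBelow (fun j => Nat.beq i j || allBelow (fun a => allBelow (fun b => Nat.beq a b ||
    ([2, 3, 4, 6].any fun m => fixSimple T (List.replicate m [i, j]).flatten != fixSimple T (List.replicate m [a, b]).flatten) ||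
      decide (T.cartan i (T.simp' j) * T.cartan j (T.simp' i) = T.cartan a (T.simp' b) * T.cartan b (T.simp' a)))
    T.rank) T.rank) T.rank) T.rank

/-- Each node is joined to node `0` along single bonds in one direction. -/
noncomputable def chkTree (T : Tbl) (par : List ℕ) : Bool :=
  allBelow (fun k => Nat.blt (nth 0 par k) T.rank &&
    ((Nat.beq k 0 && Nat.beq (nth 0 par k) 0) ||
      decide (T.cartan k (T.simp' (nth 0 par k)) = -1) || decide (T.cartan (nth 0 par k) (T.simp' k) = -1)) &&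
    Nat.beq (Nat.rec (motive := fun _ => ℕ) k (fun _ x => nth 0 par x) T.rank) 0) T.rank

/-- The data of a type needed for the automorphisms. -/
structure AutData (D : ChevalleyDatum) (T : Tbl) : Prop where
  full : FullCert D T
  opp : ∃ w τ, OppWord D T w τ
  commNeg : chkCommNeg T = true
  delta : ∃ Φ, chkDelta T Φ = true
  hlen : D.chain.toList.length = D.nroots
  step : chkStep D T = true
  bond : chkBondPeriod T = true
  tree : ∃ par, chkTree T par = true
  rank_pos : 0 < D.rank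

/-- A graph automorphism fixing the two maximal unipotent subgroups. -/
structure GraphOK (C : Cert D T) (γ : MulAut ↥(D.group F)) (π : Equiv.Perm (Fin D.rank))
    (ε : Fin D.rank → F ≃+* F) : Prop where
  act : RootAct C γ π (fun i t => ε i t) (fun i t => ε i t)
  keepU : AutKeeps γ ((D.posUnipotent F).subgroupOf (D.group F))
  keepV : AutKeeps γ ((D.negUnipotent F).subgroupOf (D.group F))
  isGraph : D.IsGraphAut γ

/-- Graph automorphisms exist for all the permutations that occur. -/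
def GraphData (C : Cert D T) (F : Type*) [Field F] : Prop :=
  ∀ (θ : MulAut ↥(D.group F)) (π : Equiv.Perm (Fin D.rank)) (σ : Fin D.rank → F ≃+* F),
    RootAct C θ π (fun i t => σ i t) (fun i t => σ i t) → D.IsDiagramSymmetry π →
      ∃ (γ : MulAut ↥(D.group F)) (ε : Fin D.rank → F ≃+* F), GraphOK C γ π ε

variable (C : Cert D T)
include C

theorem autKeeps_mul {θ θ' : MulAut ↥(D.group F)} {S : Subgroup ↥(D.group F)} (h : AutKeeps θ S) (h' : AutKeeps θ' S) :
    AutKeeps (θ * θ') S := fun g => by rw [MulAut.mul_apply, h, h']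

theorem autKeeps_of_le [Finite F] {θ : MulAut ↥(D.group F)} {S : Subgroup ↥(D.group F)}
    (h : ∀ g ∈ S, θ g ∈ S) : AutKeeps θ S := fun g => by
  refine ⟨fun hg => ?_, h g⟩
  have hs : Function.Surjective (fun x : ↥S => (⟨θ x, h x x.2⟩ : ↥S)) :=
    Finite.surjective_of_injective fun a b e => Subtype.ext (θ.injective (congrArg Subtype.val e))
  obtain ⟨x, hx⟩ := hs ⟨θ g, hg⟩
  exact θ.injective (congrArg Subtype.val hx) ▸ x.2

/-- An automorphism acting on all root elements through maps of the parameters keeps `U` and `V`. -/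
theorem autKeeps_of_rootwise [Finite F] {θ : MulAut ↥(D.group F)} (rt : ℕ → ℕ)
    (hrt : ∀ r < D.nroots, rt r < D.nroots ∧ (D.nroots ≤ 2 * r → D.nroots ≤ 2 * rt r) ∧ (2 * r < D.nroots → 2 * rt r < D.nroots))
    (h : ∀ r < D.nroots, ∀ t, ∃ t', θ (autEl C r t) = autEl C (rt r) t') :
    AutKeeps θ ((D.posUnipotent F).subgroupOf (D.group F)) ∧ AutKeeps θ ((D.negUnipotent F).subgroupOf (D.group F)) := by
  have key : ∀ (S : Subgroup (GL D.Idx F)) (gens : Set (GL D.Idx F)), S = Subgroup.closure gens →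
      (∀ g ∈ gens, ∃ hg : g ∈ D.group F, (θ ⟨g, hg⟩ : GL D.Idx F) ∈ S) →
      AutKeeps θ (S.subgroupOf (D.group F)) := by
    intro S gens hS hgen
    refine autKeeps_of_le C ?_
    rintro ⟨g, hg⟩ hgS
    change g ∈ S at hgS
    show (θ ⟨g, hg⟩ : GL D.Idx F) ∈ S
    revert hg
    rw [hS] at hgS
    induction hgS using Subgroup.closure_induction with
    | mem x hx => intro hg; obtain ⟨_, h'⟩ := hgen x hx; exact h'
    | one => intro hg; rw [show (⟨1, hg⟩ : ↥(D.group F)) = 1 from rfl, map_one]; exact one_mem S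
    | mul a b ha hb iha ihb =>
      intro hg
      have hle : ∀ y ∈ Subgroup.closure gens, y ∈ D.group F := fun y hy =>
        (Subgroup.closure_le _).2 (fun z hz => (hgen z hz).1) hy
      rw [show (⟨a * b, hg⟩ : ↥(D.group F)) = ⟨a, hle a ha⟩ * ⟨b, hle b hb⟩ from rfl, map_mul, Subgroup.coe_mul]
      exact mul_mem (iha _) (ihb _)
    | inv a ha iha =>
      intro hg
      have hle : ∀ y ∈ Subgroup.closure gens, y ∈ D.group F := fun y hy =>
        (Subgroup.closure_le _).2 (fun z hz => (hgen z hz).1) hy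
      rw [show (⟨a⁻¹, hg⟩ : ↥(D.group F)) = ⟨a, hle a ha⟩⁻¹ from rfl, map_inv, Subgroup.coe_inv]
      exact inv_mem (iha _)
  refine ⟨key _ _ rfl ?_, key _ _ rfl ?_⟩
  · rintro g ⟨r, t, hr, e⟩
    obtain rfl := eq_xg C e
    obtain ⟨t', h'⟩ := h r hr.1 t
    refine ⟨xg_mem_group C r t, ?_⟩
    show (θ (autEl C r t) : GL D.Idx F) ∈ _
    rw [h']
    exact xg_mem_pos C (hrt r hr.1).1 ((hrt r hr.1).2.1 ((C.isPos_iff hr.1).1 hr)) t'
  · rintro g ⟨r, t, hr, e⟩
    obtain rfl := eq_xg C e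
    obtain ⟨t', h'⟩ := h r hr.1 t
    refine ⟨xg_mem_group C r t, ?_⟩
    show (θ (autEl C r t) : GL D.Idx F) ∈ _
    rw [h']
    exact xg_mem_neg C (hrt r hr.1).1 ((hrt r hr.1).2.2 ((C.isNeg_iff hr.1).1 hr)) t'

theorem exists_fieldAut [Finite F] (σ : F ≃+* F) : ∃ φ : MulAut ↥(D.group F), D.IsFieldAut φ ∧
    RootAct C φ id (fun _ t => σ t) (fun _ t => σ t) ∧
    AutKeeps φ ((D.posUnipotent F).subgroupOf (D.group F)) ∧ AutKeeps φ ((D.negUnipotent F).subgroupOf (D.group F)) := by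
  let m := Matrix.GeneralLinearGroup.map (n := D.Idx) σ.toRingHom
  have hmap : (D.group F).map m = D.group F := by
    rw [ChevalleyDatum.group, MonoidHom.map_closure]
    congr 1
    ext x
    constructor
    · rintro ⟨y, ⟨r, t, e⟩, rfl⟩
      refine ⟨r, σ t, ?_⟩
      rw [eq_xg C (e.trans (by rw [ChevalleyDatum.x, dif_pos r.2])), map_xg C, coe_xg, ChevalleyDatum.x, dif_pos r.2]
      rfl
    · rintro ⟨r, t, e⟩
      refine ⟨xg C r.1 (σ.symm t), ⟨r, _, by rw [coe_xg, ChevalleyDatum.x, dif_pos r.2]⟩, ?_⟩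
      rw [map_xg C, show σ.toRingHom (σ.symm t) = t from σ.apply_symm_apply t]
      exact (eq_xg C (e.trans (by rw [ChevalleyDatum.x, dif_pos r.2]))).symm
  let φ : MulAut ↥(D.group F) :=
    ((D.group F).equivMapOfInjective m (map_gl_injective σ.toRingHom)).trans (MulEquiv.subgroupCongr hmap)
  have hφ : ∀ r, ∀ t, φ (autEl C r t) = autEl C r (σ t) := fun r t => Subtype.ext (map_xg C σ.toRingHom r t)
  have hk := autKeeps_of_rootwise C (θ := φ) id (fun r hr => ⟨hr, id, id⟩) fun r _ t => ⟨_, hφ r t⟩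
  refine ⟨φ, ⟨σ, fun g r t _ e => ?_⟩, ⟨fun i t => hφ _ t, fun i t => hφ _ t⟩, hk.1, hk.2⟩
  obtain rfl : g = autEl C r t := Subtype.ext (eq_xg C e)
  rw [hφ]; exact coe_xg C r _

theorem isFieldAut_rootAct {φ : MulAut ↥(D.group F)} (h : D.IsFieldAut φ) :
    ∃ σ : F ≃+* F, RootAct C φ id (fun _ t => σ t) (fun _ t => σ t) := by
  obtain ⟨σ, hσ⟩ := h
  have : ∀ r < D.nroots, ∀ t, φ (autEl C r t) = autEl C r (σ t) := fun r hr t =>
    Subtype.ext (eq_xg C (hσ (autEl C r t) r t hr (coe_xg C r t)))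
  exact ⟨σ, fun i t => this _ (C.spec.simp_lt i i.2) t, fun i t => this _ (C.spec.neg_lt _ (C.spec.simp_lt i i.2)) t⟩

theorem isDiagonalAut_rootAct (hlen : D.chain.toList.length = D.nroots) (hstep : chkStep D T = true)
    {δ : MulAut ↥(D.group F)} (h : D.IsDiagonalAut δ) :
    ∃ v : Fin D.rank → Fˣ, RootAct C δ id (fun i t => v i * t) (fun i t => ((v i)⁻¹ : Fˣ) * t) := by
  obtain ⟨χ, hχ, hδ⟩ := h
  refine ⟨fun i => χ (T.simp' i), fun i t => Subtype.ext (Units.ext ?_), fun i t => Subtype.ext (Units.ext ?_)⟩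
  · rw [hδ]
    exact charDiag_mul_x C hlen hstep hχ (C.spec.simp_lt i i.2) t
  · rw [hδ]
    have hn := C.spec.neg_lt _ (C.spec.simp_lt i i.2)
    refine (charDiag_mul_x C hlen hstep hχ hn t).trans ?_
    show _ = D.x F (T.neg (T.simp' i)) _
    rw [← C.spec.shape.neg_eq _ (C.spec.simp_lt i i.2), hχ.1 _ (C.spec.simp_lt i i.2)]

variable (A : AutData D T)
include A

theorem exists_diag (v : Fin D.rank → Fˣ) [Finite F] : ∃ δ : MulAut ↥(D.group F), D.IsDiagonalAut δ ∧
    RootAct C δ id (fun i t => v i * t) (fun i t => ((v i)⁻¹ : Fˣ) * t) ∧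
    AutKeeps δ ((D.posUnipotent F).subgroupOf (D.group F)) ∧ AutKeeps δ ((D.negUnipotent F).subgroupOf (D.group F)) := by
  obtain ⟨Φ, hΦ⟩ := A.delta
  obtain ⟨χ, hχ, hv⟩ := exists_rootCharacter C hΦ v
  obtain ⟨δ, hδ, hr⟩ := exists_diagAut C A.hlen A.step hχ
  have hk := autKeeps_of_rootwise C (θ := δ) id (fun r hr => ⟨hr, id, id⟩) fun r hr' t => ⟨_, hr r hr' t⟩
  refine ⟨δ, hδ, ⟨fun i t => ?_, fun i t => ?_⟩, hk.1, hk.2⟩
  · rw [hr _ (C.spec.simp_lt i i.2), hv]; rfl
  · have hn := C.spec.neg_lt _ (C.spec.simp_lt i i.2)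
    have e := hχ.1 _ (C.spec.simp_lt i i.2)
    rw [C.spec.shape.neg_eq _ (C.spec.simp_lt i i.2), hv] at e
    rw [hr _ hn, e]
    rfl

omit A in
theorem RootAct.inv_diag {δ δ' : MulAut ↥(D.group F)} {v v' : Fin D.rank → Fˣ}
    (h : RootAct C δ id (fun i t => v i * t) (fun i t => ((v i)⁻¹ : Fˣ) * t))
    (h' : RootAct C δ' id (fun i t => v' i * t) (fun i t => ((v' i)⁻¹ : Fˣ) * t)) (hv : ∀ i, v' i = (v i)⁻¹) :
    δ' = δ⁻¹ := by
  rw [eq_inv_iff_mul_eq_one]
  refine (h'.comp C h).unique C ?_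
  refine ⟨fun i t => ?_, fun i t => ?_⟩ <;> simp [hv, ← mul_assoc]

omit A in
theorem rootAct_iff_word {θ : MulAut ↥(D.group F)} {π : Fin D.rank → Fin D.rank} {σ : Fin D.rank → F ≃+* F}
    (h : RootAct C θ π (fun i t => σ i t) (fun i t => σ i t)) (w : List (Fin D.rank)) (k l : Fin D.rank) :
    wperm T (w.map (·.val)) (T.simp' k) = T.simp' l ↔
      wperm T ((w.map π).map (·.val)) (T.simp' (π k)) = T.simp' (π l) := by
  have hw : ∀ v : List (Fin D.rank), IsWord D (v.map (·.val)) := fun v i hi => by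
    obtain ⟨a, -, rfl⟩ := List.mem_map.1 hi; exact a.2
  let W : List (Fin D.rank) → ↥(D.group F) := fun v => ⟨wnu C F (v.map (·.val)), wnu_mem_group C (hw v)⟩
  have hW : ∀ v, θ (W v) = W (v.map π) := by
    intro v
    induction v with
    | nil =>
      have : W [] = 1 := Subtype.ext (by simp [W, wnu])
      rw [this, map_one]; exact this.symm
    | cons a v ih =>
      have e : ∀ (a : Fin D.rank) v, W (a :: v) = ⟨ng C (T.simp' a) (1 : F), ng_mem_group C _ _⟩ * W v := fun a v =>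
        Subtype.ext (wnu_cons C (a : ℕ) (v.map (·.val)))
      rw [e, map_mul, ih, h.map_ng, map_one, List.map_cons, e]
  obtain ⟨c, hc, hct⟩ := wnu_conj_xg C (F := F) (hw w) (C.spec.simp_lt k k.2)
  obtain ⟨c', hc', hct'⟩ := wnu_conj_xg C (F := F) (hw (w.map π)) (C.spec.simp_lt _ (π k).2)
  have e1 : θ (autEl C (wperm T (w.map (·.val)) (T.simp' k)) c) =
      autEl C (wperm T ((w.map π).map (·.val)) (T.simp' (π k))) (c' * σ k 1) := by
    have e0 : autEl C (wperm T (w.map (·.val)) (T.simp' k)) c = W w * autEl C (T.simp' k) 1 * (W w)⁻¹ :=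
      Subtype.ext (by
        have := hct 1
        rw [mul_one] at this
        exact this.symm)
    rw [e0, map_mul, map_mul, map_inv, hW, h.pos]
    exact Subtype.ext (hct' _)
  have hc0 : c ≠ 0 := left_ne_zero_of_mul (hc.symm ▸ one_ne_zero : c * c ≠ 0)
  have hc0' : c' * σ k 1 ≠ 0 := by
    rw [map_one, mul_one]; exact left_ne_zero_of_mul (hc'.symm ▸ one_ne_zero : c' * c' ≠ 0)
  constructor <;> intro hfix
  · rw [hfix, h.pos] at e1
    exact (xg_index C (C.spec.simp_lt _ (π l).2) (wperm_lt C (hw _) (C.spec.simp_lt _ (π k).2))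
      (fun e => hc0 ((σ l).injective (by rw [e, map_zero]))) (congrArg Subtype.val e1)).symm
  · rw [hfix, ← (σ l).apply_symm_apply (c' * σ k 1), ← h.pos] at e1
    exact xg_index C (wperm_lt C (hw _) (C.spec.simp_lt _ k.2)) (C.spec.simp_lt _ l.2) hc0
      (congrArg Subtype.val (θ.injective e1))

theorem isDiagramSymmetry_of_rootAct {θ : MulAut ↥(D.group F)} {π : Equiv.Perm (Fin D.rank)}
    {σ : Fin D.rank → F ≃+* F} (h : RootAct C θ π (fun i t => σ i t) (fun i t => σ i t)) :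
    D.IsDiagramSymmetry π := by
  intro i j hij
  have hr : ∀ {a : ℕ}, a < D.rank → a < T.rank := fun ha => C.spec.shape.rank_eq.symm ▸ ha
  have hchk := allBelow_iff.1 (allBelow_iff.1 A.bond (π i) (hr (π i).2)) (π j) (hr (π j).2)
  rw [Bool.or_eq_true] at hchk
  have hne : Nat.beq (π i : ℕ) (π j) ≠ true := fun e =>
    hij (π.injective (Fin.ext (Nat.eq_of_beq_eq_true e)))
  have h2 := allBelow_iff.1 (allBelow_iff.1 (hchk.resolve_left hne) i (hr i.2)) j (hr j.2)
  simp only [Bool.or_eq_true, List.any_eq_true, decide_eq_true_eq] at h2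
  have hfix : ∀ m, fixSimple T (List.replicate m [(π i : ℕ), (π j : ℕ)]).flatten =
      fixSimple T (List.replicate m [(i : ℕ), (j : ℕ)]).flatten := by
    intro m
    let w : List (Fin D.rank) := (List.replicate m [i, j]).flatten
    have e1 : w.map (·.val) = (List.replicate m [(i : ℕ), (j : ℕ)]).flatten := by simp [w, List.map_flatten]
    have e2 : (w.map π).map (·.val) = (List.replicate m [(π i : ℕ), (π j : ℕ)]).flatten := by
      simp [w, List.map_flatten]
    rw [Bool.eq_iff_iff, ← e1, ← e2, fixSimple, fixSimple, allBelow_iff, allBelow_iff, C.spec.shape.rank_eq]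
    refine ⟨fun H k hk => ?_, fun H k hk => ?_⟩
    · have := Nat.eq_of_beq_eq_true (H _ (π ⟨k, hk⟩).2)
      rw [(rootAct_iff_word C h w ⟨k, hk⟩ ⟨k, hk⟩).2 this]; exact Nat.beq_refl _
    · obtain ⟨k', hk'⟩ := π.surjective ⟨k, hk⟩
      have := (rootAct_iff_word C h w k' k').1 (Nat.eq_of_beq_eq_true (H k' k'.2))
      rw [hk'] at this
      rw [this]; exact Nat.beq_refl _
  rcases h2 with (h2 | ⟨m, -, h2⟩) | h2
  · exact absurd (Fin.ext (Nat.eq_of_beq_eq_true h2)) hij
  · rw [hfix, bne_self_eq_false] at h2; exact Bool.noConfusion h2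
  · simp only [ChevalleyDatum.bonds]
    rw [C.spec.shape.simple_eq _ (π i).2, C.spec.shape.simple_eq _ (π j).2, C.spec.shape.simple_eq _ i.2,
      C.spec.shape.simple_eq _ j.2, C.spec.shape.cartan_eq _ (π i).2 _ (C.spec.simp_lt _ (π j).2),
      C.spec.shape.cartan_eq _ (π j).2 _ (C.spec.simp_lt _ (π i).2), C.spec.shape.cartan_eq _ i.2 _ (C.spec.simp_lt _ j.2),
      C.spec.shape.cartan_eq _ j.2 _ (C.spec.simp_lt _ i.2), h2]

/-- With fixed nodes the field automorphisms agree. -/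
theorem sigma_eq_of_id {θ : MulAut ↥(D.group F)} {σ : Fin D.rank → F ≃+* F}
    (h : RootAct C θ id (fun i t => σ i t) (fun i t => σ i t)) (i j : Fin D.rank) : σ i = σ j := by
  obtain ⟨par, hp⟩ := A.tree
  simp only [chkTree, allBelow_iff, Bool.and_eq_true, Nat.blt_eq, Bool.or_eq_true, decide_eq_true_eq,
    C.spec.shape.rank_eq] at hp
  have hedge : ∀ a b : Fin D.rank, T.cartan a (T.simp' b) = -1 → σ a = σ b := by
    intro a b hab
    refine RingEquiv.ext fun t => ?_
    by_cases ht : t = 0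
    · simp [ht]
    have := h.sigma_rel C a b ht
    simp only [id_eq, hab, zpow_neg_one, map_inv₀, inv_inj] at this
    exact this.symm
  have hstep : ∀ k : Fin D.rank, ∀ hk : nth 0 par k < D.rank, σ k = σ ⟨nth 0 par k, hk⟩ := by
    intro k hk
    rcases (hp k k.2).1.2 with (⟨h0, h1⟩ | h0) | h0
    · exact congrArg σ (Fin.ext (show (k : ℕ) = nth 0 par k by
        rw [Nat.eq_of_beq_eq_true h1, Nat.eq_of_beq_eq_true h0]))
    · exact hedge k ⟨_, hk⟩ h0
    · exact (hedge ⟨_, hk⟩ k h0).symm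
  have hiter : ∀ (m : ℕ) (k : Fin D.rank), ∃ hk : Nat.rec (motive := fun _ => ℕ) (k : ℕ) (fun _ x => nth 0 par x) m < D.rank,
      σ k = σ ⟨_, hk⟩ := by
    intro m k
    induction m with
    | zero => exact ⟨k.2, rfl⟩
    | succ m ih =>
      obtain ⟨hk, e⟩ := ih
      exact ⟨(hp _ hk).1.1, e.trans (hstep ⟨_, hk⟩ (hp _ hk).1.1)⟩
  have hz : ∀ k : Fin D.rank, σ k = σ ⟨0, A.rank_pos⟩ := fun k => by
    obtain ⟨hk, e⟩ := hiter D.rank k
    exact e.trans (congrArg σ (Fin.ext (Nat.eq_of_beq_eq_true (hp k k.2).2)))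
  rw [hz i, hz j]

variable [Finite F]

/-- The decomposition. -/
theorem aut_decomp (hG : GraphData C F) (θ : MulAut ↥(D.group F)) :
    ∃ (x : ↥(D.group F)) (v : Fin D.rank → Fˣ) (δ γ φ : MulAut ↥(D.group F)) (π : Equiv.Perm (Fin D.rank))
      (ε : Fin D.rank → F ≃+* F) (σ : F ≃+* F),
      D.IsDiagonalAut δ ∧ RootAct C δ id (fun i t => v i * t) (fun i t => ((v i)⁻¹ : Fˣ) * t) ∧
        GraphOK C γ π ε ∧ D.IsFieldAut φ ∧ RootAct C φ id (fun _ t => σ t) (fun _ t => σ t) ∧
        θ = MulAut.conj x * δ * γ * φ := by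
  obtain ⟨w, τ, O⟩ := A.opp
  obtain ⟨x, hU, hV⟩ := exists_inner_normalise C A.full O θ
  obtain ⟨π, c, σ, hact⟩ := exists_rootAct C A.full O A.commNeg hU hV
  let v : Fin D.rank → Fˣ := fun k => c (π.symm k)
  obtain ⟨δ, hδ, hδa, -⟩ := exists_diag C A v
  obtain ⟨δ', hδ', hδa', -⟩ := exists_diag C A fun k => (v k)⁻¹
  have hinv : δ' = δ⁻¹ := hδa.inv_diag C hδa' fun _ => rfl
  have hψ : RootAct C (δ' * (MulAut.conj x * θ)) π (fun i t => σ i t) (fun i t => σ i t) :=
    (hδa'.comp C hact).congr C (fun _ => rfl) (fun i t => by simp [v, ← mul_assoc]) fun i t => by simp [v, ← mul_assoc]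
  obtain ⟨γ, ε, hγ⟩ := hG _ π σ hψ (isDiagramSymmetry_of_rootAct C A hψ)
  have hf : RootAct C (γ⁻¹ * (δ' * (MulAut.conj x * θ))) id (fun i t => ((σ i).trans (ε i).symm) t)
      (fun i t => ((σ i).trans (ε i).symm) t) := by
    refine ⟨fun i t => ?_, fun i t => ?_⟩ <;>
      rw [MulAut.mul_apply, MulAut.inv_apply, MulEquiv.symm_apply_eq]
    · rw [hψ.pos, id_eq, hγ.act.pos, RingEquiv.trans_apply, RingEquiv.apply_symm_apply]
    · rw [hψ.neg, id_eq, hγ.act.neg, RingEquiv.trans_apply, RingEquiv.apply_symm_apply]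
  let ρ := (σ ⟨0, A.rank_pos⟩).trans (ε ⟨0, A.rank_pos⟩).symm
  obtain ⟨φ, hφ, hφa, -⟩ := exists_fieldAut C ρ
  have heq : γ⁻¹ * (δ' * (MulAut.conj x * θ)) = φ := hf.unique C (hφa.congr C (fun _ => rfl)
    (fun i t => by rw [sigma_eq_of_id C A hf i ⟨0, A.rank_pos⟩]) fun i t => by rw [sigma_eq_of_id C A hf i ⟨0, A.rank_pos⟩])
  refine ⟨x⁻¹, v, δ, γ, φ, π, ε, ρ, hδ, hδa, hγ, hφ, hφa, ?_⟩
  rw [← heq, hinv, map_inv]
  group

omit A in
theorem RootAct.pos_eval {θ : MulAut ↥(D.group F)} {π π' : Fin D.rank → Fin D.rank} {φ ψ φ' ψ' : Fin D.rank → F → F}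
    (h : RootAct C θ π φ ψ) (h' : RootAct C θ π' φ' ψ') (i : Fin D.rank) (hne : φ i 1 ≠ 0) :
    π i = π' i ∧ ∀ t, φ i t = φ' i t := by
  have hπ : π i = π' i := Fin.ext (simp_inj C (π i).2 (π' i).2 (xg_index C (C.spec.simp_lt _ (π i).2)
    (C.spec.simp_lt _ (π' i).2) hne (congrArg Subtype.val ((h.pos i 1).symm.trans (h'.pos i 1)))))
  exact ⟨hπ, fun t => autEl_inj C (C.spec.simp_lt _ (π i).2) ((h.pos i t).symm.trans (hπ ▸ h'.pos i t))⟩

omit [Finite F] in
/-- Inner automorphisms fixing `U` and `V` come from the torus. -/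
theorem rootAct_conj_of_keeps {x : ↥(D.group F)}
    (hU : AutKeeps (MulAut.conj x) ((D.posUnipotent F).subgroupOf (D.group F)))
    (hV : AutKeeps (MulAut.conj x) ((D.negUnipotent F).subgroupOf (D.group F))) :
    ∃ c : Fin D.rank → Fˣ, RootAct C (MulAut.conj x) id (fun i t => powHom (cartanMat D T) c i * t)
      (fun i t => ((powHom (cartanMat D T) c i)⁻¹ : Fˣ) * t) := by
  obtain ⟨w, τ, O⟩ := A.opp
  have K := A.full
  let W : ↥(D.group F) := ⟨wnu C F w, wnu_mem_group C O.word⟩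
  have hW := fun (y : GL D.Idx F) => allNeg_conj C K O.word (fun s hs hp => O.all_neg C K hs hp) (x := y)
  have hxB : x ∈ (D.borelSubgroup F).subgroupOf (D.group F) := by
    rw [← normalizer_posG C K]; exact Subgroup.mem_normalizer_iff.2 fun y => (hU y).symm
  have hxB' : W⁻¹ * x * W ∈ (D.borelSubgroup F).subgroupOf (D.group F) := by
    rw [← normalizer_posG C K]
    refine Subgroup.mem_normalizer_iff.2 fun y => ?_
    have hiff : ∀ z : ↥(D.group F), W * z * W⁻¹ ∈ (D.negUnipotent F).subgroupOf (D.group F) ↔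
        z ∈ (D.posUnipotent F).subgroupOf (D.group F) := fun z => by
      refine ⟨fun h => ?_, (hW _).1⟩
      show (z : GL D.Idx F) ∈ D.posUnipotent F
      simpa [W, mul_assoc] using (hW _).2.2.2 h
    rw [← hiff, ← hiff (W⁻¹ * x * W * y * _), ← hV]
    have e : W * (W⁻¹ * x * W * y * (W⁻¹ * x * W)⁻¹) * W⁻¹ = MulAut.conj x (W * y * W⁻¹) := by
      rw [MulAut.conj_apply]; group
    rw [e]
  obtain ⟨u, hu, d, hd, ey⟩ := (mem_borel C).1 hxB'
  have hH : (x : GL D.Idx F) ∈ D.diagonalSubgroup F := by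
    rw [← borel_inf_neg_diag C]
    refine ⟨hxB, ?_⟩
    have e : (x : GL D.Idx F) = (wnu C F w * u * (wnu C F w)⁻¹) * (wnu C F w * d * (wnu C F w)⁻¹) := by
      rw [show u = ((W⁻¹ * x * W : ↥(D.group F)) : GL D.Idx F) * d⁻¹ by rw [show ((W⁻¹ * x * W : ↥(D.group F)) : GL D.Idx F) = u * d from ey, mul_inv_cancel_right]]
      simp only [Subgroup.coe_mul, Subgroup.coe_inv, W]
      group
    rw [e]
    exact mul_mem (Subgroup.mem_sup_left ((hW u).1 hu)) (Subgroup.mem_sup_right (conj_mem_diag C (wnu_mem C O.word) hd).1)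
  rw [← torusHom_range C] at hH
  obtain ⟨c, hc⟩ := hH
  have hchr : ∀ k : Fin D.rank, chr T D (extend' c) (T.simp' k) = ((powHom (cartanMat D T) c k : Fˣ) : F) := fun k => by
    show _ = ((∏ j, c j ^ cartanMat D T k j : Fˣ) : F)
    rw [Units.coe_prod, chr, ← Fin.prod_univ_eq_prod_range (fun j => extend' c j ^ T.cartan j (T.simp' k)) D.rank]
    exact Finset.prod_congr rfl fun j _ => by simp [extend', cartanMat, Units.val_zpow_eq_zpow_val]
  have hconj : ∀ r < D.nroots, ∀ t : F, MulAut.conj x (autEl C r t) = autEl C r (chr T D (extend' c) r * t) := by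
    intro r hr t
    refine Subtype.ext ?_
    show (x : GL D.Idx F) * xg C r t * (x : GL D.Idx F)⁻¹ = _
    rw [← hc, mul_inv_eq_iff_eq_mul]
    refine Units.ext ?_
    show _ = ((xg C r _ * torusHom D T F c : GL D.Idx F) : Matrix D.Idx D.Idx F)
    rw [Units.val_mul, Units.val_mul, coe_torusHom, coe_xg, coe_xg,
      scal_mul_x C.spec (extend' c) (fun j _ => extend'_ne c j) hr]
  refine ⟨c, fun i t => ?_, fun i t => ?_⟩
  · rw [hconj _ (C.spec.simp_lt i i.2), hchr]; rfl
  · rw [hconj _ (C.spec.neg_lt _ (C.spec.simp_lt i i.2)), chr_neg C.spec _ (C.spec.simp_lt i i.2), hchr,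
      Units.val_inv_eq_inv_val]
    rfl

end Cfsg.Lib.Chev
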