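import Cfsg.Prelude.Def_KGroupFacts
import Cfsg.Agent.Lib.Chev.AutDecomp

/-!
The outer automorphism group: its order and its structure.
-/

set_option autoImplicit false
set_option linter.unusedSectionVars false

namespace Cfsg.Lib.Chev

open Cfsg.Lie
open scoped commutatorElement

variable {D : ChevalleyDatum} {T : Tbl} {F : Type*} [Field F] [Finite F]

/-- The permutations of the nodes coming from graph automorphisms. -/
abbrev GraphPerm (C : Cert D T) (F : Type*) [Field F] : Type :=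
  {π : Equiv.Perm (Fin D.rank) //
    ∃ (γ : MulAut ↥(D.group F)) (ε : Fin D.rank → F ≃+* F), GraphOK C γ π ε}

theorem card_ringAut_field (p f : ℕ) [Fact p.Prime] [CharP F p] (hF : Nat.card F = p ^ f) :
    IsCyclic (F ≃+* F) ∧ Nat.card (F ≃+* F) = f := by
  letI := ZMod.algebra F p
  let e : (F ≃+* F) ≃* (F ≃ₐ[ZMod p] F) :=
    { toFun := fun σ => AlgEquiv.ofRingEquiv (f := σ) fun r =>
        RingHom.congr_fun (RingHom.ext_zmod (σ.toRingHom.comp (algebraMap (ZMod p) F)) (algebraMap (ZMod p) F)) r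
      invFun := fun τ => τ.toRingEquiv
      left_inv := fun σ => rfl
      right_inv := fun τ => rfl
      map_mul' := fun σ τ => rfl }
  have hdim : Module.finrank (ZMod p) F = f := by
    have := Module.natCard_eq_pow_finrank (K := ZMod p) (V := F)
    rw [Nat.card_zmod, hF] at this
    exact (Nat.pow_right_injective (Fact.out : p.Prime).two_le this).symm
  refine ⟨isCyclic_of_surjective e.symm.toMonoidHom e.symm.surjective, ?_⟩
  rw [Nat.card_congr e.toEquiv, IsGalois.card_aut_eq_finrank, hdim]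

theorem isCyclic_ringAut_field (F : Type*) [Field F] [Finite F] : IsCyclic (F ≃+* F) := by
  obtain ⟨p, hp⟩ := CharP.exists F
  haveI : Fact p.Prime := ⟨(CharP.char_is_prime_or_zero F p).resolve_right (CharP.char_ne_zero_of_finite F p)⟩
  haveI := Fintype.ofFinite F
  obtain ⟨d, -, hd⟩ := FiniteField.card F p
  exact (card_ringAut_field p d (by rw [Nat.card_eq_fintype_card]; exact hd)).1

variable (C : Cert D T)
include C

omit [Finite F] in
theorem autKeeps_inv {θ : MulAut ↥(D.group F)} {S : Subgroup ↥(D.group F)} (h : AutKeeps θ S) : AutKeeps θ⁻¹ S :=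
  fun g => by rw [← h (θ⁻¹ g), MulAut.apply_inv_self]

variable (A : AutData D T)
include A

/-- The diagonal automorphism with given values on the fundamental roots. -/
noncomputable def diagOf : (Fin D.rank → Fˣ) →* MulAut ↥(D.group F) where
  toFun v := (exists_diag C A v).choose
  map_one' := (exists_diag C A (1 : Fin D.rank → Fˣ)).choose_spec.2.1.unique C ⟨fun i t => by simp, fun i t => by simp⟩
  map_mul' a b := (exists_diag C A (a * b)).choose_spec.2.1.unique C
    (((exists_diag C A a).choose_spec.2.1.comp C (exists_diag C A b).choose_spec.2.1).congr C (fun _ => rfl)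
      (fun i t => by simp [mul_assoc]) (fun i t => by simp [mul_assoc, mul_left_comm]))

/-- The field automorphism of an automorphism of the field. -/
noncomputable def fieldOf : (F ≃+* F) →* MulAut ↥(D.group F) where
  toFun σ := (exists_fieldAut C σ).choose
  map_one' := (exists_fieldAut C (1 : F ≃+* F)).choose_spec.2.1.unique C ⟨fun i t => rfl, fun i t => rfl⟩
  map_mul' a b := (exists_fieldAut C (a * b)).choose_spec.2.1.unique C
    (((exists_fieldAut C a).choose_spec.2.1.comp C (exists_fieldAut C b).choose_spec.2.1).congr C (fun _ => rfl)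
      (fun i t => rfl) (fun i t => rfl))

theorem diagOf_act (v : Fin D.rank → Fˣ) :
    RootAct C (diagOf C A v) id (fun i t => v i * t) (fun i t => ((v i)⁻¹ : Fˣ) * t) :=
  (exists_diag C A v).choose_spec.2.1

theorem fieldOf_act (σ : F ≃+* F) : RootAct C (fieldOf C σ) id (fun _ t => σ t) (fun _ t => σ t) :=
  (exists_fieldAut C σ).choose_spec.2.1

theorem diagOf_keeps (v : Fin D.rank → Fˣ) :
    AutKeeps (diagOf C A v) ((D.posUnipotent F).subgroupOf (D.group F)) ∧
      AutKeeps (diagOf C A v) ((D.negUnipotent F).subgroupOf (D.group F)) :=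
  (exists_diag C A v).choose_spec.2.2

theorem fieldOf_keeps (σ : F ≃+* F) :
    AutKeeps (fieldOf C σ) ((D.posUnipotent F).subgroupOf (D.group F)) ∧
      AutKeeps (fieldOf C σ) ((D.negUnipotent F).subgroupOf (D.group F)) :=
  (exists_fieldAut C σ).choose_spec.2.2

theorem isDiagonalAut_iff (δ : MulAut ↥(D.group F)) : D.IsDiagonalAut δ ↔ δ ∈ (diagOf C A (F := F)).range := by
  refine ⟨fun h => ?_, ?_⟩
  · obtain ⟨v, hv⟩ := isDiagonalAut_rootAct C A.hlen A.step h
    exact ⟨v, (diagOf_act C A v).unique C hv⟩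
  · rintro ⟨v, rfl⟩; exact (exists_diag C A v).choose_spec.1

theorem isFieldAut_iff (φ : MulAut ↥(D.group F)) : D.IsFieldAut φ ↔ φ ∈ (fieldOf C (F := F)).range := by
  refine ⟨fun h => ?_, ?_⟩
  · obtain ⟨σ, hσ⟩ := isFieldAut_rootAct C h
    exact ⟨σ, (fieldOf_act C A σ).unique C hσ⟩
  · rintro ⟨σ, rfl⟩; exact (exists_fieldAut C σ).choose_spec.1

theorem closure_diag : Subgroup.closure {φ : MulAut ↥(D.group F) | D.IsDiagonalAut φ} = (diagOf C A).range :=
  (congrArg Subgroup.closure (Set.ext (isDiagonalAut_iff C A))).trans (Subgroup.closure_eq _)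

theorem closure_field : Subgroup.closure {φ : MulAut ↥(D.group F) | D.IsFieldAut φ} = (fieldOf C).range :=
  (congrArg Subgroup.closure (Set.ext (isFieldAut_iff C A))).trans (Subgroup.closure_eq _)

/-- The class in the outer automorphism group of diagonal times graph times field. -/
theorem out_eq_cases {γ γ' : MulAut ↥(D.group F)} {π π' : Equiv.Perm (Fin D.rank)} {ε ε' : Fin D.rank → F ≃+* F}
    (hγ : RootAct C γ π (fun i t => ε i t) (fun i t => ε i t))
    (hγk : AutKeeps γ ((D.posUnipotent F).subgroupOf (D.group F)) ∧ AutKeeps γ ((D.negUnipotent F).subgroupOf (D.group F)))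
    (hγ' : RootAct C γ' π' (fun i t => ε' i t) (fun i t => ε' i t))
    (hγk' : AutKeeps γ' ((D.posUnipotent F).subgroupOf (D.group F)) ∧ AutKeeps γ' ((D.negUnipotent F).subgroupOf (D.group F)))
    (v v' : Fin D.rank → Fˣ) (σ σ' : F ≃+* F)
    (h : (QuotientGroup.mk (diagOf C A v * γ * fieldOf C σ) : Cfsg.Out ↥(D.group F)) =
      QuotientGroup.mk (diagOf C A v' * γ' * fieldOf C σ')) :
    π = π' ∧ v⁻¹ * v' ∈ (powHom (cartanMat D T) : (Fin D.rank → Fˣ) →* _).range ∧
      (ε = ε' → σ = σ') := by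
  set a := diagOf C A v * γ * fieldOf C σ with ha
  set b := diagOf C A v' * γ' * fieldOf C σ' with hb
  obtain ⟨y, hy⟩ : a⁻¹ * b ∈ Cfsg.Inn ↥(D.group F) := QuotientGroup.eq.1 h
  have e : b = MulAut.conj (a y) * a := by
    rw [eq_inv_mul_iff_mul_eq] at hy
    rw [← hy]
    ext g
    simp [MulAut.mul_apply, MulAut.conj_apply]
  have hk : ∀ {S : Subgroup ↥(D.group F)}, AutKeeps (diagOf C A v) S → AutKeeps γ S → AutKeeps (fieldOf C σ) S →
      AutKeeps (diagOf C A v') S → AutKeeps γ' S → AutKeeps (fieldOf C σ') S → AutKeeps (MulAut.conj (a y)) S := by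
    intro S h1 h2 h3 h4 h5 h6
    rw [show MulAut.conj (a y) = b * a⁻¹ by rw [e, mul_inv_cancel_right]]
    exact autKeeps_mul C (autKeeps_mul C (autKeeps_mul C h4 h5) h6)
      (autKeeps_inv C (autKeeps_mul C (autKeeps_mul C h1 h2) h3))
  obtain ⟨c, hc⟩ := rootAct_conj_of_keeps C A
    (hk (diagOf_keeps C A v).1 hγk.1 (fieldOf_keeps C A σ).1 (diagOf_keeps C A v').1 hγk'.1 (fieldOf_keeps C A σ').1)
    (hk (diagOf_keeps C A v).2 hγk.2 (fieldOf_keeps C A σ).2 (diagOf_keeps C A v').2 hγk'.2 (fieldOf_keeps C A σ').2)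
  have hA := hc.comp C (((diagOf_act C A v).comp C hγ).comp C (fieldOf_act C A σ))
  have hB := ((diagOf_act C A v').comp C hγ').comp C (fieldOf_act C A σ')
  rw [← ha, ← e] at hA
  rw [← hb] at hB
  have key : ∀ i, π i = π' i ∧ ∀ t : F,
      ((powHom (cartanMat D T) c (π i) : Fˣ) : F) * ((v (π i) : F) * ε i (σ t)) = (v' (π' i) : F) * ε' i (σ' t) := fun i => by
    refine RootAct.pos_eval C hA hB i ?_
    simp
  have hπ : π = π' := Equiv.ext fun i => (key i).1
  subst hπ
  have hv : v' = powHom (cartanMat D T) c * v := funext fun k => Units.ext (by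
    obtain ⟨i, rfl⟩ := π.surjective k
    have := (key i).2 1
    simp only [map_one, mul_one] at this
    rw [Pi.mul_apply, Units.val_mul]; exact this.symm)
  refine ⟨rfl, ⟨c, by rw [hv, mul_comm (powHom (cartanMat D T) c) v, inv_mul_cancel_left]⟩, fun hε => ?_⟩
  subst hε
  refine RingEquiv.ext fun t => (ε ⟨0, A.rank_pos⟩).injective ?_
  have := (key ⟨0, A.rank_pos⟩).2 t
  rw [hv, Pi.mul_apply, Units.val_mul, mul_assoc] at this
  exact mul_left_cancel₀ (Units.ne_zero _) (mul_left_cancel₀ (Units.ne_zero _) this)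

variable (hG : GraphData C F)
include hG

theorem out_decomp (o : Cfsg.Out ↥(D.group F)) :
    ∃ (v : Fin D.rank → Fˣ) (γ : MulAut ↥(D.group F)) (π : Equiv.Perm (Fin D.rank)) (ε : Fin D.rank → F ≃+* F)
      (σ : F ≃+* F), GraphOK C γ π ε ∧ o = QuotientGroup.mk (diagOf C A v * γ * fieldOf C σ) := by
  obtain ⟨θ, rfl⟩ := QuotientGroup.mk_surjective o
  obtain ⟨x, v, δ, γ, φ, π, ε, σ, -, hδ, hγ, -, hφ, e⟩ := aut_decomp C A hG θ
  refine ⟨v, γ, π, ε, σ, hγ, ?_⟩
  rw [(diagOf_act C A v).unique C hδ, (fieldOf_act C A σ).unique C hφ, e, mul_assoc (MulAut.conj x),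
    mul_assoc (MulAut.conj x), QuotientGroup.mk_mul _ (MulAut.conj x), (QuotientGroup.eq_one_iff (MulAut.conj x)).2 (MonoidHom.mem_range.2 ⟨x, rfl⟩),
    one_mul]

/-- The order of the outer automorphism group. -/
theorem card_out : Nat.card (Cfsg.Out ↥(D.group F)) =
    Nat.card ↥(powHom (cartanMat D T) : (Fin D.rank → Fˣ) →* _).ker * Nat.card (GraphPerm C F) * Nat.card (F ≃+* F) := by
  classical
  let R := (powHom (cartanMat D T) : (Fin D.rank → Fˣ) →* _).range
  let gam : GraphPerm C F → MulAut ↥(D.group F) := fun π => π.2.choose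
  let eps : GraphPerm C F → Fin D.rank → F ≃+* F := fun π => π.2.choose_spec.choose
  have hgam : ∀ π : GraphPerm C F, GraphOK C (gam π) π.1 (eps π) := fun π => π.2.choose_spec.choose_spec
  let Φ : ((Fin D.rank → Fˣ) ⧸ R) × GraphPerm C F × (F ≃+* F) → Cfsg.Out ↥(D.group F) := fun x =>
    QuotientGroup.mk (diagOf C A x.1.out * gam x.2.1 * fieldOf C x.2.2)
  have hinj : Function.Injective Φ := by
    rintro ⟨q, π, σ⟩ ⟨q', π', σ'⟩ h
    obtain ⟨h1, h2, h3⟩ := out_eq_cases C A (hgam π).act ⟨(hgam π).keepU, (hgam π).keepV⟩ (hgam π').act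
      ⟨(hgam π').keepU, (hgam π').keepV⟩ _ _ σ σ' h
    obtain rfl : π = π' := Subtype.ext h1
    have hq : q = q' := by rw [← q.out_eq', ← q'.out_eq', QuotientGroup.eq]; exact h2
    subst hq
    rw [h3 rfl]
  have hsurj : Function.Surjective Φ := fun o => by
    obtain ⟨v, γ, π, ε, σ, hγ, rfl⟩ := out_decomp C A hG o
    let P : GraphPerm C F := ⟨π, γ, ε, hγ⟩
    obtain ⟨v', γ', π', ε', σ', hγ', e'⟩ := out_decomp C A hG
      (QuotientGroup.mk ((gam P)⁻¹ * γ) : Cfsg.Out ↥(D.group F))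
    -- the chosen graph automorphism of `π` differs from `γ` by a field automorphism
    let τ : Fin D.rank → F ≃+* F := fun i => (ε i).trans (eps P i).symm
    have hτ : RootAct C ((gam P)⁻¹ * γ) id (fun i t => τ i t) (fun i t => τ i t) := by
      refine ⟨fun i t => ?_, fun i t => ?_⟩ <;> rw [MulAut.mul_apply, MulAut.inv_apply, MulEquiv.symm_apply_eq]
      · rw [hγ.act.pos, id_eq, (hgam P).act.pos, RingEquiv.trans_apply, RingEquiv.apply_symm_apply]
      · rw [hγ.act.neg, id_eq, (hgam P).act.neg, RingEquiv.trans_apply, RingEquiv.apply_symm_apply]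
    let σ₁ := τ ⟨0, A.rank_pos⟩
    have hfix : (gam P)⁻¹ * γ = fieldOf C σ₁ := hτ.unique C ((fieldOf_act C A σ₁).congr C (fun _ => rfl)
      (fun i t => by rw [sigma_eq_of_id C A hτ i ⟨0, A.rank_pos⟩])
      fun i t => by rw [sigma_eq_of_id C A hτ i ⟨0, A.rank_pos⟩])
    obtain ⟨c, hc⟩ : v⁻¹ * (QuotientGroup.mk v : (Fin D.rank → Fˣ) ⧸ R).out ∈ R :=
      QuotientGroup.eq.1 (Quotient.out_eq' _).symm
    refine ⟨(QuotientGroup.mk v, P, σ₁ * σ), ?_⟩
    have hv : (QuotientGroup.mk (diagOf C A (powHom (cartanMat D T) c)) : Cfsg.Out ↥(D.group F)) = 1 := by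
      rw [QuotientGroup.eq_one_iff]
      let x : ↥(D.group F) := ⟨torusHom D T F c, diag_le_group C (by rw [← torusHom_range C]; exact ⟨c, rfl⟩)⟩
      have hx : ∀ {S : Subgroup (GL D.Idx F)}, torusHom D T F c ∈ Subgroup.normalizer (S : Set (GL D.Idx F)) →
          AutKeeps (MulAut.conj x) (S.subgroupOf (D.group F)) := fun hn g =>
        ((Subgroup.mem_normalizer_iff.1 hn) (g : GL D.Idx F)).symm
      have hd : torusHom D T F c ∈ D.diagonalSubgroup F := by rw [← torusHom_range C]; exact ⟨c, rfl⟩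
      have hchr : ∀ k : Fin D.rank, chr T D (extend' c) (T.simp' k) = ((powHom (cartanMat D T) c k : Fˣ) : F) :=
        fun k => by
        show _ = ((∏ j, c j ^ cartanMat D T k j : Fˣ) : F)
        rw [Units.coe_prod, chr, ← Fin.prod_univ_eq_prod_range (fun j => extend' c j ^ T.cartan j (T.simp' k)) D.rank]
        exact Finset.prod_congr rfl fun j _ => by simp [extend', cartanMat, Units.val_zpow_eq_zpow_val]
      have hconj : ∀ r < D.nroots, ∀ t : F, MulAut.conj x (autEl C r t) = autEl C r (chr T D (extend' c) r * t) := by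
        intro r hr t
        refine Subtype.ext ?_
        show torusHom D T F c * xg C r t * (torusHom D T F c)⁻¹ = _
        rw [mul_inv_eq_iff_eq_mul]
        refine Units.ext ?_
        show _ = ((xg C r _ * torusHom D T F c : GL D.Idx F) : Matrix D.Idx D.Idx F)
        rw [Units.val_mul, Units.val_mul, coe_torusHom, coe_xg, coe_xg,
          scal_mul_x C.spec (extend' c) (fun j _ => extend'_ne c j) hr]
      refine ⟨x, RootAct.unique C ⟨fun i t => ?_, fun i t => ?_⟩ (diagOf_act C A _)⟩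
      · rw [hconj _ (C.spec.simp_lt i i.2), hchr]; rfl
      · rw [hconj _ (C.spec.neg_lt _ (C.spec.simp_lt i i.2)), chr_neg C.spec _ (C.spec.simp_lt i i.2), hchr,
          Units.val_inv_eq_inv_val]
        rfl
    show QuotientGroup.mk (diagOf C A _ * gam P * fieldOf C (σ₁ * σ)) = _
    rw [map_mul (fieldOf C), ← hfix, show (QuotientGroup.mk v : (Fin D.rank → Fˣ) ⧸ R).out =
      powHom (cartanMat D T) c * v by rw [hc]; rw [mul_comm, mul_inv_cancel_left], map_mul,
      show diagOf C A (powHom (cartanMat D T) c) * diagOf C A v * gam P * ((gam P)⁻¹ * γ * fieldOf C σ) =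
        diagOf C A (powHom (cartanMat D T) c) * (diagOf C A v * γ * fieldOf C σ) by group,
      QuotientGroup.mk_mul, hv, one_mul]
  rw [← Nat.card_congr (Equiv.ofBijective Φ ⟨hinj, hsurj⟩), Nat.card_prod, Nat.card_prod, mul_assoc]
  congr 1
  have h1 := Subgroup.card_eq_card_quotient_mul_card_subgroup R
  have h2 := Subgroup.card_eq_card_quotient_mul_card_subgroup (powHom (cartanMat D T) : (Fin D.rank → Fˣ) →* _).ker
  rw [Nat.card_congr (QuotientGroup.quotientKerEquivRange _).toEquiv] at h2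
  have hR : 0 < Nat.card ↥R := Nat.card_pos
  exact Nat.eq_of_mul_eq_mul_right hR (h1.symm.trans (h2.trans (mul_comm _ _)))

omit hG in
theorem diag_pass {γ : MulAut ↥(D.group F)} {π : Equiv.Perm (Fin D.rank)} {ε : Fin D.rank → F ≃+* F}
    (hγ : RootAct C γ π (fun i t => ε i t) (fun i t => ε i t)) (u : Fin D.rank → Fˣ) :
    γ * diagOf C A u = diagOf C A (fun k => Units.map (ε (π.symm k)).toMonoidHom (u (π.symm k))) * γ := by
  refine (hγ.comp C (diagOf_act C A u)).unique C (((diagOf_act C A _).comp C hγ).congr C (fun _ => rfl)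
    (fun i t => ?_) fun i t => ?_)
  · simp
  · simp

omit hG in
theorem field_pass {γ : MulAut ↥(D.group F)} {π : Equiv.Perm (Fin D.rank)} {ε : Fin D.rank → F ≃+* F}
    (hγ : RootAct C γ π (fun i t => ε i t) (fun i t => ε i t)) (σ : F ≃+* F) :
    Commute γ (fieldOf C σ) := by
  haveI := isCyclic_ringAut_field F
  letI : CommGroup (F ≃+* F) := IsCyclic.commGroup
  have hc : ∀ (i : Fin D.rank) (t : F), σ (ε i t) = ε i (σ t) := fun i t =>
    RingEquiv.congr_fun (mul_comm σ (ε i)) t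
  refine (hγ.comp C (fieldOf_act C A σ)).unique C (((fieldOf_act C A σ).comp C hγ).congr C (fun _ => rfl)
    (fun i t => ?_) fun i t => ?_) <;> exact hc i t

omit hG in
theorem field_diag_pass (σ : F ≃+* F) (u : Fin D.rank → Fˣ) :
    fieldOf C σ * diagOf C A u = diagOf C A (fun k => Units.map σ.toMonoidHom (u k)) * fieldOf C σ := by
  refine ((fieldOf_act C A σ).comp C (diagOf_act C A u)).unique C
    (((diagOf_act C A _).comp C (fieldOf_act C A σ)).congr C (fun _ => rfl) (fun i t => ?_) fun i t => ?_) <;> simp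

/-- The structure of the outer automorphism group. -/
theorem out_structure (hperm : Nat.card (GraphPerm C F) = 1 ∨ Nat.card (GraphPerm C F) = 2 ∨
      (Nat.card (GraphPerm C F) = 6 ∧ ∃ a b : GraphPerm C F, a.1 * b.1 ≠ b.1 * a.1))
    (Dbar Fbar : Subgroup (Cfsg.Out ↥(D.group F)))
    (hD : Dbar = (Subgroup.closure {φ : MulAut ↥(D.group F) | D.IsDiagonalAut φ}).map (QuotientGroup.mk' _))
    (hF : Fbar = (Subgroup.closure {φ : MulAut ↥(D.group F) | D.IsFieldAut φ}).map (QuotientGroup.mk' _)) :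
    Dbar.Normal ∧ IsMulCommutative ↥Dbar ∧ IsCyclic ↥Fbar ∧ (Dbar ⊔ Fbar).Normal ∧
      ((Dbar ⊔ Fbar).index = 1 ∨ (Dbar ⊔ Fbar).index = 2 ∨
        ((Dbar ⊔ Fbar).index = 6 ∧ ¬ commutator (Cfsg.Out ↥(D.group F)) ≤ Dbar ⊔ Fbar)) := by
  classical
  rw [closure_diag C A, MonoidHom.map_range] at hD
  rw [closure_field C A, MonoidHom.map_range] at hF
  subst hD hF
  set dh := (QuotientGroup.mk' (Cfsg.Inn ↥(D.group F))).comp (diagOf C A (F := F))
  set fh := (QuotientGroup.mk' (Cfsg.Inn ↥(D.group F))).comp (fieldOf C (F := F))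
  haveI := isCyclic_ringAut_field F
  letI : CommGroup (F ≃+* F) := IsCyclic.commGroup
  have hgen : ∀ o : Cfsg.Out ↥(D.group F), ∃ v g σ, (∃ π ε, GraphOK C g π ε) ∧
      o = dh v * QuotientGroup.mk g * fh σ := fun o => by
    obtain ⟨v, γ, π, ε, σ, hγ, e⟩ := out_decomp C A hG o
    exact ⟨v, γ, σ, ⟨π, ε, hγ⟩, e⟩
  have hγd : ∀ {g : MulAut ↥(D.group F)}, (∃ π ε, GraphOK C g π ε) → ∀ u, ∃ u',
      (QuotientGroup.mk g : Cfsg.Out ↥(D.group F)) * dh u = dh u' * QuotientGroup.mk g := fun ⟨π, ε, h⟩ u =>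
    ⟨_, congrArg (QuotientGroup.mk : _ → Cfsg.Out ↥(D.group F)) (diag_pass C A h.act u)⟩
  have hγf : ∀ {g : MulAut ↥(D.group F)}, (∃ π ε, GraphOK C g π ε) → ∀ s,
      (QuotientGroup.mk g : Cfsg.Out ↥(D.group F)) * fh s = fh s * QuotientGroup.mk g := fun ⟨π, ε, h⟩ s =>
    congrArg (QuotientGroup.mk : _ → Cfsg.Out ↥(D.group F)) (field_pass C A h.act s).eq
  have hfd : ∀ s u, ∃ u', fh s * dh u = dh u' * fh s := fun s u =>
    ⟨_, congrArg (QuotientGroup.mk : _ → Cfsg.Out ↥(D.group F)) (field_diag_pass C A s u)⟩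
  have hconjD : ∀ (o : Cfsg.Out ↥(D.group F)) u, o * dh u * o⁻¹ ∈ dh.range := by
    intro o u
    obtain ⟨v, g, s, hg, rfl⟩ := hgen o
    obtain ⟨u₁, h1⟩ := hfd s u
    obtain ⟨u₂, h2⟩ := hγd hg u₁
    refine ⟨v * u₂ * v⁻¹, ?_⟩
    rw [map_mul, map_mul, map_inv]
    calc _ = dh v * (dh u₂ * QuotientGroup.mk g) * fh s * (dh v * QuotientGroup.mk g * fh s)⁻¹ := by group
      _ = dh v * QuotientGroup.mk g * (dh u₁ * fh s) * (dh v * QuotientGroup.mk g * fh s)⁻¹ := by rw [← h2]; group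
      _ = _ := by rw [← h1]; group
  have hconjF : ∀ (o : Cfsg.Out ↥(D.group F)) s, o * fh s * o⁻¹ ∈ dh.range ⊔ fh.range := by
    intro o s
    obtain ⟨v, g, t, hg, rfl⟩ := hgen o
    have e : dh v * QuotientGroup.mk g * fh t * fh s * (dh v * QuotientGroup.mk g * fh t)⁻¹ =
        dh v * fh s * (dh v)⁻¹ := by
      rw [mul_assoc _ (fh t) (fh s), ← map_mul, mul_comm t s, map_mul, mul_assoc (dh v), ← mul_assoc _ (fh s) (fh t),
        hγf hg]
      group
    rw [e]
    exact mul_mem (mul_mem (Subgroup.mem_sup_left ⟨v, rfl⟩) (Subgroup.mem_sup_right ⟨s, rfl⟩))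
      (inv_mem (Subgroup.mem_sup_left ⟨v, rfl⟩))
  have hDn : dh.range.Normal := ⟨by rintro _ ⟨u, rfl⟩ o; exact hconjD o u⟩
  have hDFn : (dh.range ⊔ fh.range).Normal := ⟨fun n hn o => by
    have : dh.range ⊔ fh.range ≤ (dh.range ⊔ fh.range).comap (MulAut.conj o).toMonoidHom :=
      sup_le (fun x ⟨u, hu⟩ => hu ▸ Subgroup.mem_sup_left (hconjD o u)) fun x ⟨s, hs⟩ => hs ▸ hconjF o s
    exact this hn⟩
  refine ⟨hDn, ⟨⟨?_⟩⟩, isCyclic_of_surjective fh.rangeRestrict fh.rangeRestrict_surjective, hDFn, ?_⟩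
  · rintro ⟨_, a, rfl⟩ ⟨_, b, rfl⟩
    exact Subtype.ext (by show dh a * dh b = dh b * dh a; rw [← map_mul, mul_comm a b, map_mul])
  let gam : GraphPerm C F → MulAut ↥(D.group F) := fun π => π.2.choose
  let eps : GraphPerm C F → Fin D.rank → F ≃+* F := fun π => π.2.choose_spec.choose
  have hgam : ∀ π : GraphPerm C F, GraphOK C (gam π) π.1 (eps π) := fun π => π.2.choose_spec.choose_spec
  let Ψ : GraphPerm C F → Cfsg.Out ↥(D.group F) ⧸ (dh.range ⊔ fh.range) := fun π =>
    QuotientGroup.mk (QuotientGroup.mk (gam π))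
  have hmem : ∀ x ∈ dh.range ⊔ fh.range, ∃ u s, x = dh u * fh s := fun x hx => by
    obtain ⟨a, ⟨u, rfl⟩, b, ⟨s, rfl⟩, rfl⟩ := Subgroup.mem_sup_of_normal_left.1 hx
    exact ⟨u, s, rfl⟩
  have hperm_eq : ∀ {g g' : MulAut ↥(D.group F)} {π π' : Equiv.Perm (Fin D.rank)} {ε ε' : Fin D.rank → F ≃+* F},
      RootAct C g π (fun i t => ε i t) (fun i t => ε i t) →
      AutKeeps g ((D.posUnipotent F).subgroupOf (D.group F)) → AutKeeps g ((D.negUnipotent F).subgroupOf (D.group F)) →
      RootAct C g' π' (fun i t => ε' i t) (fun i t => ε' i t) →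
      AutKeeps g' ((D.posUnipotent F).subgroupOf (D.group F)) → AutKeeps g' ((D.negUnipotent F).subgroupOf (D.group F)) →
      (QuotientGroup.mk g : Cfsg.Out ↥(D.group F))⁻¹ * QuotientGroup.mk g' ∈ dh.range ⊔ fh.range → π = π' := by
    intro g g' π π' ε ε' h1 h2 h3 h1' h2' h3' hx
    obtain ⟨u, s, e⟩ := hmem _ hx
    refine (out_eq_cases C A h1 ⟨h2, h3⟩ h1' ⟨h2', h3'⟩
      (fun k => Units.map (ε (π.symm k)).toMonoidHom (u (π.symm k))) 1 s 1 ?_).1
    rw [← diag_pass C A h1 u, map_one, map_one, one_mul, mul_one]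
    rw [inv_mul_eq_iff_eq_mul] at e
    rw [e, mul_assoc]; rfl
  have hΨi : Function.Injective Ψ := fun a b h => Subtype.ext
    (hperm_eq (hgam a).act (hgam a).keepU (hgam a).keepV (hgam b).act (hgam b).keepU (hgam b).keepV
      (QuotientGroup.eq.1 h))
  have hΨs : Function.Surjective Ψ := fun q => by
    obtain ⟨o, rfl⟩ := QuotientGroup.mk_surjective q
    obtain ⟨v, γ, π, ε, σ, hγ, rfl⟩ := out_decomp C A hG o
    let P : GraphPerm C F := ⟨π, γ, ε, hγ⟩
    let τ : Fin D.rank → F ≃+* F := fun i => (ε i).trans (eps P i).symm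
    have hτ : RootAct C ((gam P)⁻¹ * γ) id (fun i t => τ i t) (fun i t => τ i t) := by
      refine ⟨fun i t => ?_, fun i t => ?_⟩ <;> rw [MulAut.mul_apply, MulAut.inv_apply, MulEquiv.symm_apply_eq]
      · rw [hγ.act.pos, id_eq, (hgam P).act.pos, RingEquiv.trans_apply, RingEquiv.apply_symm_apply]
      · rw [hγ.act.neg, id_eq, (hgam P).act.neg, RingEquiv.trans_apply, RingEquiv.apply_symm_apply]
    let σ₁ := τ ⟨0, A.rank_pos⟩
    have hfix : (gam P)⁻¹ * γ = fieldOf C σ₁ := hτ.unique C ((fieldOf_act C A σ₁).congr C (fun _ => rfl)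
      (fun i t => by rw [sigma_eq_of_id C A hτ i ⟨0, A.rank_pos⟩])
      fun i t => by rw [sigma_eq_of_id C A hτ i ⟨0, A.rank_pos⟩])
    refine ⟨P, QuotientGroup.eq.2 ?_⟩
    obtain ⟨u, hu⟩ := hconjD (QuotientGroup.mk (gam P))⁻¹ v
    rw [show (QuotientGroup.mk (gam P) : Cfsg.Out ↥(D.group F))⁻¹ * QuotientGroup.mk (diagOf C A v * γ * fieldOf C σ) =
      dh u * QuotientGroup.mk ((gam P)⁻¹ * γ) * fh σ by
        rw [QuotientGroup.mk_mul, QuotientGroup.mk_mul, QuotientGroup.mk_mul, QuotientGroup.mk_inv, hu]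
        show _ * (dh v * _ * fh σ) = _
        group, hfix]
    exact mul_mem (mul_mem (Subgroup.mem_sup_left ⟨u, rfl⟩) (Subgroup.mem_sup_right ⟨σ₁, rfl⟩))
      (Subgroup.mem_sup_right ⟨σ, rfl⟩)
  have hidx : (dh.range ⊔ fh.range).index = Nat.card (GraphPerm C F) :=
    (Nat.card_congr (Equiv.ofBijective Ψ ⟨hΨi, hΨs⟩)).symm
  rw [hidx]
  rcases hperm with h | h | ⟨h, a, b, hab⟩
  · exact Or.inl h
  · exact Or.inr (Or.inl h)
  refine Or.inr (Or.inr ⟨h, fun hle => hab ?_⟩)
  refine hperm_eq (g := gam a * gam b) (g' := gam b * gam a) (ε := fun i => (eps b i).trans (eps a (b.1 i)))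
    (ε' := fun i => (eps a i).trans (eps b (a.1 i)))
    (((hgam a).act.comp C (hgam b).act).congr C (fun _ => rfl) (fun _ _ => rfl) (fun _ _ => rfl))
    (autKeeps_mul C (hgam a).keepU (hgam b).keepU) (autKeeps_mul C (hgam a).keepV (hgam b).keepV)
    (((hgam b).act.comp C (hgam a).act).congr C (fun _ => rfl) (fun _ _ => rfl) (fun _ _ => rfl))
    (autKeeps_mul C (hgam b).keepU (hgam a).keepU) (autKeeps_mul C (hgam b).keepV (hgam a).keepV) (hle ?_)
  rw [QuotientGroup.mk_mul, QuotientGroup.mk_mul]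
  have := Subgroup.commutator_mem_commutator
    (Subgroup.mem_top ((QuotientGroup.mk (gam b) : Cfsg.Out ↥(D.group F))⁻¹))
    (Subgroup.mem_top ((QuotientGroup.mk (gam a) : Cfsg.Out ↥(D.group F))⁻¹))
  rw [commutatorElement_def, inv_inv, inv_inv] at this
  simpa [commutator_def, mul_assoc] using this

end Cfsg.Lib.Chev
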