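import Cfsg.Agent.Lib.Chev.Sparse

/-! Packed tables for the type B2. -/

set_option autoImplicit false
set_option maxRecDepth 4000

namespace Cfsg.Lib.Chev

def tblB2Chain : BT := (.node (.node (.node (.leaf 0x302000501000000000000000000000000000000) (.leaf 0x506000000000000000000000302000000)) (.node (.leaf 0x304506000204000000000000300501000000000200000000) (.leaf 0x207000000507305000604000000504502))) (.node (.node (.leaf 0x503305000000000203500502000000000600000000000000) (.leaf 0x607000000307306000000000000000603303301)) (.node (.leaf 0x505000000000000000000000301000000000000) (.leaf 0x306000505000000))))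

def tblB2 : Tbl where
  rank := 2
  nroots := 8
  width := 2
  simpleP := 1029
  negP := 0x1020304050607
  chain := tblB2Chain
  cart := (.node (.leaf 0xa8a6a686) (.leaf 0x897a6978))
  cor := (.node (.node (.node (.leaf 119) (.leaf 152)) (.node (.leaf 135) (.leaf 169))) (.node (.node (.leaf 103) (.leaf 137)) (.node (.leaf 120) (.leaf 153))))
  refl := (.node (.leaf 0x406020700050103) (.leaf 0x705060304010200))
  eta := (.node (.leaf 255) (.leaf 90))

end Cfsg.Lib.Chev
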