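import Cfsg.Agent.Lib.Chev.Basic
import Cfsg.Agent.Lib.Chev.TblB2

/-! Kernel-checked identities for type B2. -/

set_option autoImplicit false

namespace Cfsg.Lib.Chev

theorem nChk_B2_0 : nChk tblB2 0 = true := by decide +kernel

theorem addChk_B2_0 : addChk tblB2 0 = true := by decide +kernel

theorem nChk_B2_1 : nChk tblB2 1 = true := by decide +kernel

theorem addChk_B2_1 : addChk tblB2 1 = true := by decide +kernel

end Cfsg.Lib.Chev
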