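import Cfsg.Agent.Lib.Chev.Sparse

/-! Packed tables for the type D4. -/

set_option autoImplicit false
set_option maxRecDepth 4000

namespace Cfsg.Lib.Chev

def tblD4Chain : BT := (.node (.node (.node (.node (.node (.leaf 0x309508507306000504303302501000000000000000000000000000000000000000000) (.leaf 0x31700051500000000000000031100030e50d00000050b000000000305000503)) (.leaf 0x31500000051200000030d00000030b000509000506000000000000303000000500000000)) (.node (.node (.leaf 0x31100030d30c000309000000000505000000503502000000000500000000000000000000) (.leaf 0x51700000031600031300000031200000050f50c00000050a307)) (.leaf 0x51600051400000051100050f000000000000000309000307000000304000302000))) (.node (.node (.node (.leaf 0x50f30c00000030a307000505000000504000501000000300000000000000000000000000) (.leaf 0x316315314313000000000000000000000000000509508507506000)) (.leaf 0x51451300000000050f50e000000000000000000307306000000000302301000000000)) (.node (.node (.leaf 0x51351200000000000000030b30a000508507000000000000000000301300000000000000) (.leaf 0x31700000031531400000000031251100050d50c000509)) (.leaf 0x51700000000051300000000000031030f00000000050b50a000000305000000000301)))) (.node (.node (.node (.node (.leaf 0x30e00030b30a000306505000000000503502000000500000000000000000000000000000)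 (.leaf 0x51751600000000000000000031030f00050d50c000000000000000305304)) (.leaf 0x51600000000051200000030d30c000000000508507000000000000304000000000300000)) (.node (.node (.leaf 0x31131030f30e000000000000000000000000000504503502501000000000000000000) (.leaf 0x51700000031600031300000031200051050d00000050b308)) (.leaf 0x516515000000000511510000000000000000000309308000000000304303000))) (.node (.node (.node (.leaf 0x51030d00000030b308000000505000000504000501000000300000000000000000000000) (.leaf 0x31700000000031531400000031200000000050e00050b50a000506)) (.leaf 0x51500051300000051000050e000000000000000308000306000000303000301000000)) (.node (.node (.leaf 0x31400051200000000030c00000030a509000506000000000000000302000500000000000) (.leaf 0x31651551431300051131030f50e000)) (.leaf 0x31700000051400000000000031100030e00050c00000050a000000305000000502)))))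

def tblD4 : Tbl where
  rank := 4
  nroots := 24
  width := 1
  simpleP := 0xc0d0e12
  negP := 0x102030405060708090a0b0c0d0e0f1011121314151617
  chain := tblD4Chain
  cart := (.node (.node (.leaf 0x89999a777788889999677778) (.leaf 0x8997789977a8869977899778)) (.node (.leaf 0x978897899a77996778978897) (.leaf 0x89797897978a689797897978)))
  cor := (.node (.node (.node (.node (.node (.leaf 30567) (.leaf 35224)) (.leaf 30840)) (.node (.node (.leaf 34935) (.leaf 39065)) (.leaf 39048))) (.node (.node (.node (.leaf 34679) (.leaf 34953)) (.leaf 34696)) (.node (.node (.leaf 30584) (.leaf 39321)) (.leaf 34968)))) (.node (.node (.node (.node (.leaf 30583) (.leaf 39320)) (.leaf 34936)) (.node (.node (.leaf 34951) (.leaf 35225)) (.leaf 35208))) (.node (.node (.node (.leaf 30839) (.leaf 34969)) (.leaf 30856)) (.node (.node (.leaf 34680) (.leaf 39337)) (.leaf 39064)))))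
  refl := (.node (.node (.leaf 0x1711100f0e05161514130d0c0b0a04030201120908070600) (.leaf 0x1714131615120f0e11100a0c0b0d07060908050201040300)) (.node (.leaf 0x161715141213110d0c09100f08070e0b0a06040503020001) (.leaf 0x17151613141210110e0f0d0b0c0a08090607050304010200)))
  eta := (.node (.node (.leaf 508896) (.leaf 0x6324c6)) (.node (.leaf 0x887e11) (.leaf 0x52994a)))

end Cfsg.Lib.Chev
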