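import Cfsg.Prelude.Def_ChevD4
import Cfsg.Agent.Lib.Chev.Spec
import Cfsg.Agent.Lib.Chev.TblD4

/-! The certificate of the table for type D4. -/

set_option autoImplicit false

namespace Cfsg.Lib.Chev

theorem chkBase_D4 : chkBase Cfsg.Lie.chevD4 tblD4 = true := by decide +kernel

theorem chkRefl_D4 : chkRefl Cfsg.Lie.chevD4 tblD4 = true := by decide +kernel

theorem chkChain_D4 : chkChain Cfsg.Lie.chevD4 tblD4 = true := by decide +kernel

theorem chkRoots_D4 : chkRoots tblD4 = true := by decide +kernel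

theorem chkWeights_D4 : chkWeights Cfsg.Lie.chevD4 tblD4 = true := by decide +kernel

theorem chkEquiv_D4_0 : chkEquiv Cfsg.Lie.chevD4 tblD4 0 = true := by decide +kernel

theorem chkEquiv_D4_1 : chkEquiv Cfsg.Lie.chevD4 tblD4 1 = true := by decide +kernel

theorem chkEquiv_D4_2 : chkEquiv Cfsg.Lie.chevD4 tblD4 2 = true := by decide +kernel

theorem chkEquiv_D4_3 : chkEquiv Cfsg.Lie.chevD4 tblD4 3 = true := by decide +kernel

theorem specD4 : Spec Cfsg.Lie.chevD4 tblD4 :=
  spec_of_chk chkBase_D4 chkRefl_D4 chkChain_D4 chkRoots_D4 chkWeights_D4 fun i hi => by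
    rw [show tblD4.rank = 4 from rfl] at hi
    interval_cases i
    · exact chkEquiv_D4_0
    · exact chkEquiv_D4_1
    · exact chkEquiv_D4_2
    · exact chkEquiv_D4_3

end Cfsg.Lib.Chev
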