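import Cfsg.Agent.Lib.Chev.Basic
import Cfsg.Agent.Lib.Chev.CertD4
import Cfsg.Agent.Lib.Chev.EvalD4

/-! The certified table for type D4. -/

set_option autoImplicit false

namespace Cfsg.Lib.Chev

theorem chkDesc_D4 : chkDesc tblD4 = true := by decide +kernel

theorem chkOrd_D4 : chkOrd Cfsg.Lie.chevD4 tblD4 [153, 181, 93, 91] = true := by decide +kernel

theorem certD4 : Cert Cfsg.Lie.chevD4 tblD4 where
  spec := specD4
  nOK i hi := by
    rw [show Cfsg.Lie.chevD4.rank = 4 from rfl] at hi
    interval_cases i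
    · exact nChk_D4_0
    · exact nChk_D4_1
    · exact nChk_D4_2
    · exact nChk_D4_3
  addOK i hi := by
    rw [show Cfsg.Lie.chevD4.rank = 4 from rfl] at hi
    interval_cases i
    · exact addChk_D4_0
    · exact addChk_D4_1
    · exact addChk_D4_2
    · exact addChk_D4_3
  desc := chkDesc_D4
  ord := ⟨_, chkOrd_D4⟩

end Cfsg.Lib.Chev
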