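import Cfsg.Prelude.Def_ChevE6
import Cfsg.Agent.Lib.Chev.Spec
import Cfsg.Agent.Lib.Chev.TblE6

/-! The certificate of the table for type E6. -/

set_option autoImplicit false

namespace Cfsg.Lib.Chev

theorem chkBase_E6 : chkBase Cfsg.Lie.chevE6 tblE6 = true := by decide +kernel

theorem chkRefl_E6 : chkRefl Cfsg.Lie.chevE6 tblE6 = true := by decide +kernel

theorem chkChain_E6 : chkChain Cfsg.Lie.chevE6 tblE6 = true := by decide +kernel

theorem chkRoots_E6 : chkRoots tblE6 = true := by decide +kernel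

theorem chkWeights_E6 : chkWeights Cfsg.Lie.chevE6 tblE6 = true := by decide +kernel

theorem chkEquiv_E6_0 : chkEquiv Cfsg.Lie.chevE6 tblE6 0 = true := by decide +kernel

theorem chkEquiv_E6_1 : chkEquiv Cfsg.Lie.chevE6 tblE6 1 = true := by decide +kernel

theorem chkEquiv_E6_2 : chkEquiv Cfsg.Lie.chevE6 tblE6 2 = true := by decide +kernel

theorem chkEquiv_E6_3 : chkEquiv Cfsg.Lie.chevE6 tblE6 3 = true := by decide +kernel

theorem chkEquiv_E6_4 : chkEquiv Cfsg.Lie.chevE6 tblE6 4 = true := by decide +kernel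

theorem chkEquiv_E6_5 : chkEquiv Cfsg.Lie.chevE6 tblE6 5 = true := by decide +kernel

theorem specE6 : Spec Cfsg.Lie.chevE6 tblE6 :=
  spec_of_chk chkBase_E6 chkRefl_E6 chkChain_E6 chkRoots_E6 chkWeights_E6 fun i hi => by
    rw [show tblE6.rank = 6 from rfl] at hi
    interval_cases i
    · exact chkEquiv_E6_0
    · exact chkEquiv_E6_1
    · exact chkEquiv_E6_2
    · exact chkEquiv_E6_3
    · exact chkEquiv_E6_4
    · exact chkEquiv_E6_5

end Cfsg.Lib.Chev
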