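import Cfsg.Agent.Lib.Chev.Basic
import Cfsg.Agent.Lib.Chev.TblE6

/-! Kernel-checked identities for type E6. -/

set_option autoImplicit false

namespace Cfsg.Lib.Chev

theorem nChk_E6_0 : nChk tblE6 0 = true := by decide +kernel

theorem addChk_E6_0 : addChk tblE6 0 = true := by decide +kernel

theorem nChk_E6_1 : nChk tblE6 1 = true := by decide +kernel

theorem addChk_E6_1 : addChk tblE6 1 = true := by decide +kernel

theorem nChk_E6_2 : nChk tblE6 2 = true := by decide +kernel

theorem addChk_E6_2 : addChk tblE6 2 = true := by decide +kernel

theorem nChk_E6_3 : nChk tblE6 3 = true := by decide +kernel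

theorem addChk_E6_3 : addChk tblE6 3 = true := by decide +kernel

theorem nChk_E6_4 : nChk tblE6 4 = true := by decide +kernel

theorem addChk_E6_4 : addChk tblE6 4 = true := by decide +kernel

theorem nChk_E6_5 : nChk tblE6 5 = true := by decide +kernel

theorem addChk_E6_5 : addChk tblE6 5 = true := by decide +kernel

end Cfsg.Lib.Chev
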