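import Cfsg.Agent.Lib.Chev.Basic
import Cfsg.Agent.Lib.Chev.CertE6
import Cfsg.Agent.Lib.Chev.EvalE6

/-! The certified table for type E6. -/

set_option autoImplicit false

namespace Cfsg.Lib.Chev

theorem chkDesc_E6 : chkDesc tblE6 = true := by decide +kernel

theorem chkOrd_E6 : chkOrd Cfsg.Lie.chevE6 tblE6 [25490, 22457, 34173, 42513, 28347, 14174] = true := by decide +kernel

theorem certE6 : Cert Cfsg.Lie.chevE6 tblE6 where
  spec := specE6
  nOK i hi := by
    rw [show Cfsg.Lie.chevE6.rank = 6 from rfl] at hi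
    interval_cases i
    · exact nChk_E6_0
    · exact nChk_E6_1
    · exact nChk_E6_2
    · exact nChk_E6_3
    · exact nChk_E6_4
    · exact nChk_E6_5
  addOK i hi := by
    rw [show Cfsg.Lie.chevE6.rank = 6 from rfl] at hi
    interval_cases i
    · exact addChk_E6_0
    · exact addChk_E6_1
    · exact addChk_E6_2
    · exact addChk_E6_3
    · exact addChk_E6_4
    · exact addChk_E6_5
  desc := chkDesc_E6
  ord := ⟨_, chkOrd_E6⟩

end Cfsg.Lib.Chev
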