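import Cfsg.Prelude.Def_ChevE7
import Cfsg.Agent.Lib.Chev.Spec
import Cfsg.Agent.Lib.Chev.TblE7

/-! The certificate of the table for type E7. -/

set_option autoImplicit false

namespace Cfsg.Lib.Chev

theorem chkBase_E7 : chkBase Cfsg.Lie.chevE7 tblE7 = true := by decide +kernel

theorem chkRefl_E7 : chkRefl Cfsg.Lie.chevE7 tblE7 = true := by decide +kernel

theorem chkChain_E7 : chkChain Cfsg.Lie.chevE7 tblE7 = true := by decide +kernel

theorem chkRoots_E7 : chkRoots tblE7 = true := by decide +kernel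

theorem chkWeights_E7 : chkWeights Cfsg.Lie.chevE7 tblE7 = true := by decide +kernel

theorem chkEquiv_E7_0 : chkEquiv Cfsg.Lie.chevE7 tblE7 0 = true := by decide +kernel

theorem chkEquiv_E7_1 : chkEquiv Cfsg.Lie.chevE7 tblE7 1 = true := by decide +kernel

theorem chkEquiv_E7_2 : chkEquiv Cfsg.Lie.chevE7 tblE7 2 = true := by decide +kernel

theorem chkEquiv_E7_3 : chkEquiv Cfsg.Lie.chevE7 tblE7 3 = true := by decide +kernel

theorem chkEquiv_E7_4 : chkEquiv Cfsg.Lie.chevE7 tblE7 4 = true := by decide +kernel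

theorem chkEquiv_E7_5 : chkEquiv Cfsg.Lie.chevE7 tblE7 5 = true := by decide +kernel

theorem chkEquiv_E7_6 : chkEquiv Cfsg.Lie.chevE7 tblE7 6 = true := by decide +kernel

theorem specE7 : Spec Cfsg.Lie.chevE7 tblE7 :=
  spec_of_chk chkBase_E7 chkRefl_E7 chkChain_E7 chkRoots_E7 chkWeights_E7 fun i hi => by
    rw [show tblE7.rank = 7 from rfl] at hi
    interval_cases i
    · exact chkEquiv_E7_0
    · exact chkEquiv_E7_1
    · exact chkEquiv_E7_2
    · exact chkEquiv_E7_3
    · exact chkEquiv_E7_4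
    · exact chkEquiv_E7_5
    · exact chkEquiv_E7_6

end Cfsg.Lib.Chev
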