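import Cfsg.Agent.Lib.Chev.Basic
import Cfsg.Agent.Lib.Chev.CertE7
import Cfsg.Agent.Lib.Chev.EvalE70
import Cfsg.Agent.Lib.Chev.EvalE71
import Cfsg.Agent.Lib.Chev.EvalE72
import Cfsg.Agent.Lib.Chev.EvalE73

/-! The certified table for type E7. -/

set_option autoImplicit false

namespace Cfsg.Lib.Chev

theorem chkDesc_E7 : chkDesc tblE7 = true := by decide +kernel

theorem chkOrd_E7 : chkOrd Cfsg.Lie.chevE7 tblE7 [2407682, 2601129, 3752482, 5084160, 3813251, 2542180, 1271091] = true := by decide +kernel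

theorem certE7 : Cert Cfsg.Lie.chevE7 tblE7 where
  spec := specE7
  nOK i hi := by
    rw [show Cfsg.Lie.chevE7.rank = 7 from rfl] at hi
    interval_cases i
    · exact nChk_E7_0
    · exact nChk_E7_1
    · exact nChk_E7_2
    · exact nChk_E7_3
    · exact nChk_E7_4
    · exact nChk_E7_5
    · exact nChk_E7_6
  addOK i hi := by
    rw [show Cfsg.Lie.chevE7.rank = 7 from rfl] at hi
    interval_cases i
    · exact addChk_E7_0
    · exact addChk_E7_1
    · exact addChk_E7_2
    · exact addChk_E7_3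
    · exact addChk_E7_4
    · exact addChk_E7_5
    · exact addChk_E7_6
  desc := chkDesc_E7
  ord := ⟨_, chkOrd_E7⟩

end Cfsg.Lib.Chev
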