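import Cfsg.Prelude.Def_ChevE8
import Cfsg.Agent.Lib.Chev.Spec
import Cfsg.Agent.Lib.Chev.TblE8

/-! Equivariance of the table of type E8. -/

set_option autoImplicit false

namespace Cfsg.Lib.Chev

theorem chkEquiv_E8_3 : chkEquiv Cfsg.Lie.chevE8 tblE8 3 = true := by decide +kernel

theorem chkEquiv_E8_4 : chkEquiv Cfsg.Lie.chevE8 tblE8 4 = true := by decide +kernel

theorem chkEquiv_E8_5 : chkEquiv Cfsg.Lie.chevE8 tblE8 5 = true := by decide +kernel

end Cfsg.Lib.Chev
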