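import Cfsg.Prelude.Def_ChevE8
import Cfsg.Agent.Lib.Chev.Spec
import Cfsg.Agent.Lib.Chev.TblE8
import Cfsg.Agent.Lib.Chev.EquivE80
import Cfsg.Agent.Lib.Chev.EquivE81
import Cfsg.Agent.Lib.Chev.EquivE82

/-! The certificate of the table for type E8. -/

set_option autoImplicit false

namespace Cfsg.Lib.Chev

theorem chkBase_E8 : chkBase Cfsg.Lie.chevE8 tblE8 = true := by decide +kernel

theorem chkRefl_E8 : chkRefl Cfsg.Lie.chevE8 tblE8 = true := by decide +kernel

theorem chkChain_E8 : chkChain Cfsg.Lie.chevE8 tblE8 = true := by decide +kernel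

theorem chkRoots_E8 : chkRoots tblE8 = true := by decide +kernel

theorem chkWeights_E8 : chkWeights Cfsg.Lie.chevE8 tblE8 = true := by decide +kernel

theorem specE8 : Spec Cfsg.Lie.chevE8 tblE8 :=
  spec_of_chk chkBase_E8 chkRefl_E8 chkChain_E8 chkRoots_E8 chkWeights_E8 fun i hi => by
    rw [show tblE8.rank = 8 from rfl] at hi
    interval_cases i
    · exact chkEquiv_E8_0
    · exact chkEquiv_E8_1
    · exact chkEquiv_E8_2
    · exact chkEquiv_E8_3
    · exact chkEquiv_E8_4
    · exact chkEquiv_E8_5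
    · exact chkEquiv_E8_6
    · exact chkEquiv_E8_7

end Cfsg.Lib.Chev
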