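import Cfsg.Agent.Lib.Chev.Basic
import Cfsg.Agent.Lib.Chev.TblE8

/-! Kernel-checked identities for type E8. -/

set_option autoImplicit false

namespace Cfsg.Lib.Chev

theorem nChk_E8_2 : nChk tblE8 2 = true := by decide +kernel

theorem addChk_E8_2 : addChk tblE8 2 = true := by decide +kernel

theorem nChk_E8_3 : nChk tblE8 3 = true := by decide +kernel

theorem addChk_E8_3 : addChk tblE8 3 = true := by decide +kernel

end Cfsg.Lib.Chev
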