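import Cfsg.Agent.Lib.Chev.Basic
import Cfsg.Agent.Lib.Chev.CertE8
import Cfsg.Agent.Lib.Chev.EvalE80
import Cfsg.Agent.Lib.Chev.EvalE81
import Cfsg.Agent.Lib.Chev.EvalE82
import Cfsg.Agent.Lib.Chev.EvalE83

/-! The certified table for type E8. -/

set_option autoImplicit false

namespace Cfsg.Lib.Chev

theorem chkDesc_E8 : chkDesc tblE8 = true := by decide +kernel

theorem chkOrd_E8 : chkOrd Cfsg.Lie.chevE8 tblE8 [278031418, 356526368, 493314319, 708225927, 566582606, 424937088, 283291401, 141645701] = true := by decide +kernel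

theorem certE8 : Cert Cfsg.Lie.chevE8 tblE8 where
  spec := specE8
  nOK i hi := by
    rw [show Cfsg.Lie.chevE8.rank = 8 from rfl] at hi
    interval_cases i
    · exact nChk_E8_0
    · exact nChk_E8_1
    · exact nChk_E8_2
    · exact nChk_E8_3
    · exact nChk_E8_4
    · exact nChk_E8_5
    · exact nChk_E8_6
    · exact nChk_E8_7
  addOK i hi := by
    rw [show Cfsg.Lie.chevE8.rank = 8 from rfl] at hi
    interval_cases i
    · exact addChk_E8_0
    · exact addChk_E8_1
    · exact addChk_E8_2
    · exact addChk_E8_3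
    · exact addChk_E8_4
    · exact addChk_E8_5
    · exact addChk_E8_6
    · exact addChk_E8_7
  desc := chkDesc_E8
  ord := ⟨_, chkOrd_E8⟩

end Cfsg.Lib.Chev
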