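import Cfsg.Prelude.Def_ChevF4
import Cfsg.Agent.Lib.Chev.Spec
import Cfsg.Agent.Lib.Chev.TblF4

/-! The certificate of the table for type F4. -/

set_option autoImplicit false

namespace Cfsg.Lib.Chev

theorem chkBase_F4 : chkBase Cfsg.Lie.chevF4 tblF4 = true := by decide +kernel

theorem chkRefl_F4 : chkRefl Cfsg.Lie.chevF4 tblF4 = true := by decide +kernel

theorem chkChain_F4 : chkChain Cfsg.Lie.chevF4 tblF4 = true := by decide +kernel

theorem chkRoots_F4 : chkRoots tblF4 = true := by decide +kernel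

theorem chkWeights_F4 : chkWeights Cfsg.Lie.chevF4 tblF4 = true := by decide +kernel

theorem chkEquiv_F4_0 : chkEquiv Cfsg.Lie.chevF4 tblF4 0 = true := by decide +kernel

theorem chkEquiv_F4_1 : chkEquiv Cfsg.Lie.chevF4 tblF4 1 = true := by decide +kernel

theorem chkEquiv_F4_2 : chkEquiv Cfsg.Lie.chevF4 tblF4 2 = true := by decide +kernel

theorem chkEquiv_F4_3 : chkEquiv Cfsg.Lie.chevF4 tblF4 3 = true := by decide +kernel

theorem specF4 : Spec Cfsg.Lie.chevF4 tblF4 :=
  spec_of_chk chkBase_F4 chkRefl_F4 chkChain_F4 chkRoots_F4 chkWeights_F4 fun i hi => by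
    rw [show tblF4.rank = 4 from rfl] at hi
    interval_cases i
    · exact chkEquiv_F4_0
    · exact chkEquiv_F4_1
    · exact chkEquiv_F4_2
    · exact chkEquiv_F4_3

end Cfsg.Lib.Chev
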