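import Cfsg.Agent.Lib.Chev.Basic
import Cfsg.Agent.Lib.Chev.TblF4

/-! Kernel-checked identities for type F4. -/

set_option autoImplicit false

namespace Cfsg.Lib.Chev

theorem nChk_F4_0 : nChk tblF4 0 = true := by decide +kernel

theorem addChk_F4_0 : addChk tblF4 0 = true := by decide +kernel

theorem nChk_F4_1 : nChk tblF4 1 = true := by decide +kernel

theorem addChk_F4_1 : addChk tblF4 1 = true := by decide +kernel

theorem nChk_F4_2 : nChk tblF4 2 = true := by decide +kernel

theorem addChk_F4_2 : addChk tblF4 2 = true := by decide +kernel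

theorem nChk_F4_3 : nChk tblF4 3 = true := by decide +kernel

theorem addChk_F4_3 : addChk tblF4 3 = true := by decide +kernel

end Cfsg.Lib.Chev
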