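import Cfsg.Agent.Lib.Chev.Basic
import Cfsg.Agent.Lib.Chev.CertF4
import Cfsg.Agent.Lib.Chev.EvalF4

/-! The certified table for type F4. -/

set_option autoImplicit false

namespace Cfsg.Lib.Chev

theorem chkDesc_F4 : chkDesc tblF4 = true := by decide +kernel

theorem chkOrd_F4 : chkOrd Cfsg.Lie.chevF4 tblF4 [1720, 2711, 3621, 1811] = true := by decide +kernel

theorem certF4 : Cert Cfsg.Lie.chevF4 tblF4 where
  spec := specF4
  nOK i hi := by
    rw [show Cfsg.Lie.chevF4.rank = 4 from rfl] at hi
    interval_cases i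
    · exact nChk_F4_0
    · exact nChk_F4_1
    · exact nChk_F4_2
    · exact nChk_F4_3
  addOK i hi := by
    rw [show Cfsg.Lie.chevF4.rank = 4 from rfl] at hi
    interval_cases i
    · exact addChk_F4_0
    · exact addChk_F4_1
    · exact addChk_F4_2
    · exact addChk_F4_3
  desc := chkDesc_F4
  ord := ⟨_, chkOrd_F4⟩

end Cfsg.Lib.Chev
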