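import Cfsg.Agent.Lib.Chev.FullG2
import Cfsg.Agent.Lib.Chev.FullB2
import Cfsg.Agent.Lib.Chev.FullD4
import Cfsg.Agent.Lib.Chev.FullF4
import Cfsg.Agent.Lib.Chev.FullE6
import Cfsg.Agent.Lib.Chev.FullE7
import Cfsg.Agent.Lib.Chev.FullE8

/-! All seven tables are certified. -/

set_option autoImplicit false

namespace Cfsg.Lib.Chev

open Cfsg.Lie

theorem exists_cert {D : ChevalleyDatum}
    (hD : D ∈ [chevG2, chevB2, chevD4, chevF4, chevE6, chevE7, chevE8]) : ∃ T, Cert D T := by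
  simp only [List.mem_cons, List.not_mem_nil, or_false] at hD
  rcases hD with rfl | rfl | rfl | rfl | rfl | rfl | rfl
  exacts [⟨_, certG2⟩, ⟨_, certB2⟩, ⟨_, certD4⟩, ⟨_, certF4⟩, ⟨_, certE6⟩, ⟨_, certE7⟩, ⟨_, certE8⟩]

end Cfsg.Lib.Chev
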