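import Cfsg.Agent.Lib.Chev.InvTorus

/-!
Centralisers of torus involutions, and descent of their conjugacy classes from the algebraic closure.
-/

set_option autoImplicit false
set_option linter.unusedSectionVars false

namespace Cfsg.Lib.Chev

open Cfsg.Lie MvPolynomial
open scoped Matrix

/-- The character of the sign vector with the bits of `e` is one at the root `r`. -/
noncomputable def parity (T : Tbl) (e r : ℕ) : Bool :=
  decide (sumBelow (fun j => bif Nat.testBit e j then T.cartan j r else 0) T.rank % 2 = 0)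

/-- The sign vector with the bits of `e`. -/
def sgnVec (D : ChevalleyDatum) (F : Type*) [Field F] (e : ℕ) : Fin D.rank → Fˣ :=
  fun j => if Nat.testBit e j then -1 else 1

variable {D : ChevalleyDatum} {T : Tbl} {F : Type*} [Field F] (C : Cert D T)
include C

theorem chr_sgnVec (e r : ℕ) :
    chr T D (extend' (sgnVec D F e)) r = if parity T e r then 1 else -1 := by
  have h0 : ∀ j ∈ Finset.range D.rank, extend' (sgnVec D F e) j ^ T.cartan j r =
      (-1 : F) ^ (bif Nat.testBit e j then T.cartan j r else 0) := by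
    intro j hj
    rw [Finset.mem_range] at hj
    simp only [extend', dif_pos hj, sgnVec]
    cases Nat.testBit e j <;> simp
  rw [chr, Finset.prod_congr rfl h0, zpow_sum' (neg_ne_zero.2 one_ne_zero)]
  simp only [parity, sumBelow_eq, C.spec.shape.rank_eq, decide_eq_true_eq]
  rcases Int.even_or_odd (∑ k ∈ Finset.range D.rank, (bif Nat.testBit e k then T.cartan k r else 0)) with h | h
  · rw [if_pos (Int.even_iff.1 h), h.neg_one_zpow]
  · rw [if_neg (by rw [Int.odd_iff.1 h]; norm_num), h.neg_one_zpow]

theorem chr_sgnVec_eq_one (h2 : (2 : F) ≠ 0) (e r : ℕ) :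
    chr T D (extend' (sgnVec D F e)) r = 1 ↔ parity T e r = true := by
  rw [chr_sgnVec C]
  cases h : parity T e r
  · simp only [if_false, iff_false, Bool.false_eq_true]
    intro h'
    exact h2 (by linear_combination -h')
  · simp

/-- An involution of the torus is a sign vector. -/
theorem exists_sgnVec (hinj : Function.Injective (torusHom D T F)) {h : GL D.Idx F}
    (hh : h ∈ D.diagonalSubgroup F) (hsq : h * h = 1) :
    ∃ e < 2 ^ D.rank, h = torusHom D T F (sgnVec D F e) := by
  classical
  rw [← torusHom_range C] at hh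
  obtain ⟨c, rfl⟩ := hh
  rw [← map_mul, ← map_one (torusHom D T F)] at hsq
  have hc := hinj hsq
  refine ⟨Nat.ofBits fun j => decide (c j = -1), Nat.ofBits_lt_two_pow _, congrArg _ (funext fun j => ?_)⟩
  have hj : (c j : F) * c j = 1 := congrArg Units.val (congrFun hc j)
  simp only [sgnVec, Nat.testBit_ofBits, j.2, dif_pos, decide_eq_true_eq, Fin.eta]
  rcases mul_self_eq_one_iff.1 hj with h1 | h1
  · by_cases hm : c j = -1
    · rw [if_pos hm]; exact hm
    · rw [if_neg hm]; exact Units.ext h1
  · have hm : c j = -1 := Units.ext (by rw [h1]; simp)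
    rw [if_pos hm]; exact hm

/-- Sign vectors are carried to the representatives by the listed words. -/
noncomputable def chkTorClasses (D : ChevalleyDatum) (T : Tbl) (tbl : List (ℕ × List ℕ)) : Bool :=
  allBelow (fun e => Nat.beq e 0 ||
    ((tbl.getD e (0, [])).2.all (fun i => Nat.blt i D.rank) &&
      allBelow (fun r => parity T e (wperm T (tbl.getD e (0, [])).2 r) == parity T (tbl.getD e (0, [])).1 r)
        D.nroots)) (2 ^ D.rank)

omit C in
theorem chkTorClasses_spec {tbl : List (ℕ × List ℕ)} (h : chkTorClasses D T tbl = true) {e : ℕ}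
    (he : e < 2 ^ D.rank) (he0 : e ≠ 0) :
    IsWord D (tbl.getD e (0, [])).2 ∧ ∀ r < D.nroots,
      parity T e (wperm T (tbl.getD e (0, [])).2 r) = parity T (tbl.getD e (0, [])).1 r := by
  simp only [chkTorClasses, allBelow_iff, Bool.or_eq_true, Nat.beq_eq, Bool.and_eq_true, List.all_eq_true,
    Nat.blt_eq, beq_iff_eq] at h
  exact (h e he).resolve_left he0

theorem sgnVec_conj {tbl : List (ℕ × List ℕ)} (h : chkTorClasses D T tbl = true) {e : ℕ}
    (he : e < 2 ^ D.rank) (he0 : e ≠ 0) :
    wnu C F (tbl.getD e (0, [])).2 * torusHom D T F (sgnVec D F (tbl.getD e (0, [])).1) *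
      (wnu C F (tbl.getD e (0, [])).2)⁻¹ = torusHom D T F (sgnVec D F e) := by
  obtain ⟨hw, hp⟩ := chkTorClasses_spec h he he0
  obtain ⟨e', he', hchr⟩ := torus_word_conj C hw (sgnVec D F (tbl.getD e (0, [])).1)
  rw [he']
  refine torusHom_congr fun r hr => ?_
  have hr' := wperm_lt C hw.reverse hr
  have hwr : wperm T (tbl.getD e (0, [])).2 (wperm T (tbl.getD e (0, [])).2.reverse r) = r := by
    have := wperm_reverse C hw.reverse hr
    rwa [List.reverse_reverse] at this
  rw [← hwr, hchr _ hr', chr_sgnVec C, chr_sgnVec C, hp _ hr']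

variable (K : FullCert D T)
include K

/-- Every involution is conjugate over a quadratically closed field to a representative. -/
theorem involution_conj_rep {L : Type*} [Field L] (hsq : ∀ a : L, ∃ b, b * b = a) (h2 : (2 : L) ≠ 0)
    (hinj : Function.Injective (torusHom D T L)) {tbl : List (ℕ × List ℕ)} (htbl : chkTorClasses D T tbl = true)
    {m : GL D.Idx L} (hm : m ∈ D.monomialSubgroup L) (hm2 : m * m = 1) (hm1 : m ≠ 1) :
    ∃ e < 2 ^ D.rank, e ≠ 0 ∧ ∃ x ∈ D.group L, x * m * x⁻¹ = torusHom D T L (sgnVec D L (tbl.getD e (0, [])).1) := by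
  obtain ⟨w, hw, h, hh, rfl⟩ := (mem_monomial C).1 hm
  obtain ⟨x, hx, hd⟩ := exists_torus_conj C K hsq h2 _ w hw rfl h hh hm2
  obtain ⟨e, he, hxe⟩ := exists_sgnVec C hinj hd (by
    rw [show x * (wnu C L w * h) * x⁻¹ * (x * (wnu C L w * h) * x⁻¹) =
      x * (wnu C L w * h * (wnu C L w * h)) * x⁻¹ by group, hm2]; group)
  have he0 : e ≠ 0 := by
    rintro rfl
    refine hm1 (conj_eq_one_iff.1 (hxe.trans ?_))
    have : sgnVec D L 0 = 1 := funext fun j => by simp [sgnVec]
    rw [this, map_one]
  refine ⟨e, he, he0, (wnu C L (tbl.getD e (0, [])).2)⁻¹ * x,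
    mul_mem (inv_mem (wnu_mem_group C (chkTorClasses_spec htbl he he0).1)) hx, ?_⟩
  rw [← sgnVec_conj C htbl he he0] at hxe
  rw [show (wnu C L (tbl.getD e (0, [])).2)⁻¹ * x * (wnu C L w * h) * ((wnu C L (tbl.getD e (0, [])).2)⁻¹ * x)⁻¹ =
    (wnu C L (tbl.getD e (0, [])).2)⁻¹ * (x * (wnu C L w * h) * x⁻¹) * wnu C L (tbl.getD e (0, [])).2 by group, hxe]
  group

/-! ### The centraliser -/

/-- The elements of `U` supported on the roots where the character is one. -/
noncomputable def fixU (c : Fin D.rank → Fˣ) : Set (GL D.Idx F) :=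
  {g | ∃ t : ℕ → F, (∀ r, chr T D (extend' c) r ≠ 1 → t r = 0) ∧ g = oprod C (D.nroots / 2) (D.nroots / 2) t}

theorem mem_fixU {c : Fin D.rank → Fˣ} {u : GL D.Idx F} (hu : u ∈ D.posUnipotent F)
    (h : torusHom D T F c * u * (torusHom D T F c)⁻¹ = u) : u ∈ fixU C c := by
  classical
  have hev := nroots_even C
  rw [posUnipotent_eq C] at hu
  obtain ⟨t, rfl⟩ := upper_normal_form C K.comm (D.nroots / 2) (k := D.nroots / 2) (by omega) (by omega) hu
  have e : torusHom D T F c * oprod C (D.nroots / 2) (D.nroots / 2) t * (torusHom D T F c)⁻¹ =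
      oprod C (D.nroots / 2) (D.nroots / 2) fun r => chr T D (extend' c) r * t r := by
    rw [← MulAut.conj_apply]
    simp only [oprod, map_list_prod, List.map_map]
    refine congrArg List.prod (List.map_congr_left fun r hr => ?_)
    exact torusHom_conj_xg C c (by have := List.mem_range'_1.1 hr; omega) _
  rw [e] at h
  have h2 := oprod_inj C (D.nroots / 2) (k := D.nroots / 2) (by omega) (by omega) h
  refine ⟨fun r => if chr T D (extend' c) r = 1 then t r else 0, fun r hr => if_neg hr, ?_⟩
  simp only [oprod]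
  refine congrArg List.prod (List.map_congr_left fun r hr => ?_)
  have hr' := List.mem_range'_1.1 hr
  split_ifs with hc
  · rfl
  · rw [show t r = 0 from (mul_left_eq_self₀.1 (h2 r hr'.1 (by omega))).resolve_left hc]

/-- The Bruhat normal form of an element centralising a torus element. -/
theorem cent_decomp {c : Fin D.rank → Fˣ} {g : GL D.Idx F} (hg : g ∈ D.group F)
    (hc : torusHom D T F c * g = g * torusHom D T F c) :
    ∃ w, IsWord D w ∧
      (∀ r < D.nroots, chr T D (extend' c) (wperm T w r) = chr T D (extend' c) r) ∧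
      ∃ u ∈ fixU C c, ∃ d ∈ D.diagonalSubgroup F, ∃ s ∈ fixU C c,
        s ∈ signPart C K F w true (D.nroots / 2) ∧ g = u * d * wnu C F w * s := by
  obtain ⟨v, hv, b, hb, s, hs, rfl⟩ := bruhat_normal C K hg
  obtain ⟨h, hh, hc⟩ : ∃ h, h = torusHom D T F c ∧
      h * (b * wnu C F v * s) = b * wnu C F v * s * h := ⟨_, rfl, hc⟩
  have hd : h ∈ D.diagonalSubgroup F := by rw [hh, ← torusHom_range C]; exact ⟨c, rfl⟩
  have hdB : ∀ {x : GL D.Idx F}, x ∈ D.diagonalSubgroup F → x ∈ D.borelSubgroup F := Subgroup.mem_sup_right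
  have hd' : h * wnu C F v * h⁻¹ * (wnu C F v)⁻¹ ∈ D.diagonalSubgroup F := by
    rw [show h * wnu C F v * h⁻¹ * (wnu C F v)⁻¹ = h * (wnu C F v * h⁻¹ * (wnu C F v)⁻¹) by group]
    exact mul_mem hd (conj_mem_diag C (wnu_mem C hv) (inv_mem hd)).1
  obtain ⟨hbb, hss⟩ := cell_unique C (b := h * b * h⁻¹ * (h * wnu C F v * h⁻¹ * (wnu C F v)⁻¹))
    (b' := b) (n := wnu C F v) (u := h * s * h⁻¹) (u' := s)
    (mul_mem (mul_mem (mul_mem (hdB hd) hb) (inv_mem (hdB hd))) (hdB hd')) hb
    ((signPart_conj C K hv).1 (mul_mem hs (inv_mem (signPart_diag_conj C K hd hs))))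
    (by
      calc _ = h * (b * wnu C F v * s) * h⁻¹ := by group
        _ = _ := by rw [hc]; group)
  have hsU : s ∈ fixU C c := by
    refine mem_fixU C K ?_ (by rw [← hh]; exact hss)
    rw [posUnipotent_eq C]; exact signPart_le_upper C K v true _ hs
  obtain ⟨u₀, hu₀, h₀, hh₀, rfl⟩ := (mem_borel C).1 hb
  have e2 : (h * u₀ * h⁻¹) * (h₀ * (h * wnu C F v * h⁻¹ * (wnu C F v)⁻¹)) = u₀ * h₀ := by
    calc _ = h * (u₀ * h₀) * h⁻¹ * (h * wnu C F v * h⁻¹ * (wnu C F v)⁻¹) := by
          rw [show h * (u₀ * h₀) * h⁻¹ = h * u₀ * h⁻¹ * (h * h₀ * h⁻¹) by group, diag_comm C hd hh₀]; group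
      _ = _ := hbb
  obtain ⟨e3, e4⟩ := borel_parts C ((Subgroup.mem_normalizer_iff.1 (diag_le_normalizer C hd) _).1 hu₀) hu₀
    (mul_mem hh₀ hd') hh₀ e2
  have hu₀' : u₀ ∈ fixU C c := mem_fixU C K hu₀ (by rw [← hh]; exact e3)
  have e5 : h * wnu C F v * h⁻¹ * (wnu C F v)⁻¹ = 1 := mul_eq_left.1 e4
  have e6 : wnu C F v * h * (wnu C F v)⁻¹ = h := by
    have e7 : h * wnu C F v = wnu C F v * h := by
      calc h * wnu C F v = h * wnu C F v * h⁻¹ * (wnu C F v)⁻¹ * (wnu C F v * h) := by group
        _ = _ := by rw [e5, one_mul]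
    rw [← e7]; group
  refine ⟨v, hv, ?_, u₀, hu₀', h₀, hh₀, s, hsU, hs, rfl⟩
  obtain ⟨e, he, hchr⟩ := torus_word_conj C hv c
  intro r hr
  refine Eq.trans ?_ (hchr r hr)
  have h1 : torusHom D T F e = torusHom D T F c := by rw [← he, ← hh, e6]
  have hv' := wperm_lt C hv hr
  have h2 := (torusHom_conj_xg C e hv' 1).symm.trans (h1 ▸ torusHom_conj_xg C c hv' 1)
  rw [mul_one, mul_one] at h2
  exact (xg_injective C hv' h2).symm

/-! ### Connectedness -/

/-- The word of the reflection at the image of a fundamental root. -/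
def refWord (p : List ℕ × ℕ) : List ℕ := p.1 ++ [p.2] ++ p.1.reverse

/-- The root of a reflection. -/
def refRoot (T : Tbl) (p : List ℕ × ℕ) : ℕ := wperm T p.1 (T.simp' p.2)

/-- Certificate: the stabiliser in the Weyl group of a sign vector is generated by the listed reflections, and their
coroots span a sublattice of index dividing a power of `N`. -/
structure CentConn (D : ChevalleyDatum) (T : Tbl) (e : ℕ) (refs : List (List ℕ × ℕ)) (M : ℕ) : Prop where
  word : ∀ p ∈ refs, IsWord D p.1 ∧ p.2 < D.rank ∧ parity T e (refRoot T p) = true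
  stab : ∀ w, IsWord D w → (∀ r < D.nroots, parity T e (wperm T w r) = parity T e r) →
    ∃ is : List (Fin refs.length), is.length ≤ M ∧ SamePerm D T (is.flatMap fun i => refWord (refs.get i)) w
  span : ∃ N : ℕ, N ≠ 0 ∧ ∃ A : Matrix (Fin refs.length) (Fin D.rank) ℤ,
    (Matrix.of fun k i => T.coroot (refRoot T (refs.get i)) (k : Fin D.rank) :
      Matrix (Fin D.rank) (Fin refs.length) ℤ) * A = Matrix.diagonal fun _ => (N : ℤ)

/-- The six factors of `h_r`. -/
def hBlock (D : ChevalleyDatum) (r : ℕ) : List ℕ := [r, D.neg r, r, r, D.neg r, r]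

omit K in
theorem hg_mem_rootImg (r : ℕ) (v : F) : hg C r v ∈ rootImg C F (hBlock D r) :=
  ⟨[(r, v), (D.neg r, -v⁻¹), (r, v), (r, -1), (D.neg r, -(-1 : F)⁻¹), (r, -1)], rfl, by simp [hg, ng, mul_assoc]⟩

omit K in
theorem ng_mem_rootImg' (r : ℕ) (v : F) : ng C r v ∈ rootImg C F [r, D.neg r, r] :=
  ⟨[(r, v), (D.neg r, -v⁻¹), (r, v)], rfl, by simp [ng, mul_assoc]⟩

omit C K in
theorem prod_map_filter {α G : Type*} [Monoid G] (f : α → G) (p : α → Bool) :
    ∀ l : List α, (∀ a ∈ l, p a = false → f a = 1) → ((l.filter p).map f).prod = (l.map f).prod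
  | [], _ => rfl
  | a :: l, h => by
    have ih := prod_map_filter f p l fun b hb => h b (List.mem_cons_of_mem _ hb)
    cases hp : p a
    · rw [List.filter_cons_of_neg (by simp [hp]), List.map_cons, List.prod_cons, h a (List.mem_cons_self ..) hp,
        one_mul, ih]
    · rw [List.filter_cons_of_pos (by simp [hp]), List.map_cons, List.prod_cons, List.map_cons, List.prod_cons, ih]

set_option maxHeartbeats 400000 in
/-- A list of roots on which the character is one covers the centraliser. -/
theorem exists_cent_cover {L : Type*} [Field L] [IsAlgClosed L] (h2 : (2 : L) ≠ 0) {e : ℕ}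
    {refs : List (List ℕ × ℕ)} {M : ℕ} (hcc : CentConn D T e refs M) :
    ∃ Ls : List ℕ, (∀ r ∈ Ls, r < D.nroots ∧ chr T D (extend' (sgnVec D L e)) r = 1) ∧
      ∀ {g : GL D.Idx L}, g ∈ D.group L →
        torusHom D T L (sgnVec D L e) * g = g * torusHom D T L (sgnVec D L e) → g ∈ rootImg C L Ls := by
  classical
  have hev := nroots_even C
  set c := sgnVec D L e with hc
  set UL := (List.range' (D.nroots / 2) (D.nroots / 2)).filter fun r => parity T e r with hUL
  let blocks := List.finRange refs.length
  set HL := blocks.flatMap fun i => hBlock D (refRoot T (refs.get i)) with hHL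
  set WL := blocks.flatMap fun i => [refRoot T (refs.get i), D.neg (refRoot T (refs.get i)),
    refRoot T (refs.get i)] ++ HL with hWL
  set PL := (List.range M).flatMap fun _ => WL with hPL
  have hroot : ∀ p ∈ refs, refRoot T p < D.nroots := fun p hp =>
    wperm_lt C (hcc.word p hp).1 (C.spec.simp_lt _ (hcc.word p hp).2.1)
  refine ⟨UL ++ HL ++ PL ++ HL ++ UL, ?_, fun {g} hgG hcomm => ?_⟩
  · have hU : ∀ r ∈ UL, r < D.nroots ∧ chr T D (extend' c) r = 1 := fun r hr => by
      rw [hUL, List.mem_filter, List.mem_range'_1] at hr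
      exact ⟨by omega, (chr_sgnVec_eq_one C h2 e r).2 hr.2⟩
    have hR : ∀ p ∈ refs, ∀ r, r = refRoot T p ∨ r = D.neg (refRoot T p) →
        r < D.nroots ∧ chr T D (extend' c) r = 1 := by
      intro p hp r hr
      have h1 := (chr_sgnVec_eq_one C h2 e (refRoot T p)).2 (hcc.word p hp).2.2
      rcases hr with rfl | rfl
      · exact ⟨hroot p hp, h1⟩
      · rw [C.spec.shape.neg_eq _ (hroot p hp)]
        exact ⟨C.spec.neg_lt _ (hroot p hp), by
          rw [chr_neg C.spec _ (hroot p hp), h1]; simp⟩
    have hH : ∀ r ∈ HL, r < D.nroots ∧ chr T D (extend' c) r = 1 := fun r hr => by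
      obtain ⟨i, -, hi⟩ := List.mem_flatMap.1 hr
      simp only [hBlock, List.mem_cons, List.not_mem_nil, or_false] at hi
      exact hR _ (List.get_mem refs i) r (by tauto)
    have hP : ∀ r ∈ PL, r < D.nroots ∧ chr T D (extend' c) r = 1 := fun r hr => by
      obtain ⟨-, -, hr⟩ := List.mem_flatMap.1 hr
      obtain ⟨i, -, hi⟩ := List.mem_flatMap.1 hr
      simp only [List.mem_append, List.mem_cons, List.not_mem_nil, or_false] at hi
      rcases hi with hi | hi
      · exact hR _ (List.get_mem refs i) r (by tauto)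
      · exact hH r hi
    intro r hr
    simp only [List.mem_append] at hr
    rcases hr with (((hr | hr) | hr) | hr) | hr
    exacts [hU r hr, hH r hr, hP r hr, hH r hr, hU r hr]
  -- the pieces
  have hUmem : ∀ u ∈ fixU C c, u ∈ rootImg C L UL := by
    rintro u ⟨t, ht, rfl⟩
    refine ⟨UL.map fun r => (r, t r), by rw [List.map_map]; exact List.map_id' _, ?_⟩
    rw [List.map_map, hUL, oprod]
    refine (prod_map_filter (fun r => xg C r (t r)) (fun r => parity T e r) _ fun r hr hp => ?_).symm
    rw [ht r fun h => by rw [(chr_sgnVec_eq_one C h2 e r).1 h] at hp; exact Bool.noConfusion hp, xg_zero]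
  have hHmem : ∀ d ∈ D.diagonalSubgroup L, d ∈ rootImg C L HL := by
    intro d hd
    rw [← torusHom_range C] at hd
    obtain ⟨x, rfl⟩ := hd
    obtain ⟨N, hN, A, hA⟩ := hcc.span
    choose y hy using fun k => IsAlgClosed.exists_pow_nat_eq ((x k : Lˣ) : L) (Nat.pos_of_ne_zero hN)
    have hy0 : ∀ k, y k ≠ 0 := fun k h0 => by
      have := hy k; rw [h0, zero_pow hN] at this; exact (x k).ne_zero this.symm
    let y' : Fin D.rank → Lˣ := fun k => Units.mk0 (y k) (hy0 k)
    let t : Fin refs.length → Lˣ := fun i => ∏ k, y' k ^ A i k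
    have hx : ∀ k, x k = ∏ i, t i ^ T.coroot (refRoot T (refs.get i)) k := by
      intro k
      have hk : y' k ^ N = x k := Units.ext (by rw [Units.val_pow_eq_pow_val]; exact hy k)
      rw [← hk]
      have hsum : ∀ j, ∑ i, A i j * T.coroot (refRoot T (refs.get i)) k =
          if k = j then (N : ℤ) else 0 := fun j => by
        have := congrFun (congrFun hA k) j
        rw [Matrix.mul_apply, Matrix.diagonal_apply] at this
        rw [← this]
        exact Finset.sum_congr rfl fun i _ => mul_comm _ _
      symm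
      calc ∏ i, t i ^ T.coroot (refRoot T (refs.get i)) k
          = ∏ i, ∏ j, y' j ^ (A i j * T.coroot (refRoot T (refs.get i)) k) := by
            refine Finset.prod_congr rfl fun i _ => ?_
            rw [← Finset.prod_zpow]
            exact Finset.prod_congr rfl fun j _ => (zpow_mul _ _ _).symm
        _ = ∏ j, y' j ^ (∑ i, A i j * T.coroot (refRoot T (refs.get i)) k) := by
            rw [Finset.prod_comm]
            refine Finset.prod_congr rfl fun j _ => ?_
            exact (map_sum (zpowersHom Lˣ (y' j)).toAdditive _ _).symm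
        _ = _ := by
            simp only [hsum]
            rw [Finset.prod_eq_single k (fun j _ hj => by rw [if_neg (Ne.symm hj), zpow_zero])
              (fun h => absurd (Finset.mem_univ k) h), if_pos rfl, zpow_natCast]
    have hd : torusHom D T L x = (blocks.map fun i => hg C (refRoot T (refs.get i)) (t i : L)).prod := by
      rw [List.map_congr_left (f := fun i => hg C (refRoot T (refs.get i)) (t i : L))
        (g := (torusHom D T L) ∘ fun i k => t i ^ T.coroot (refRoot T (refs.get i)) k) (fun i _ => by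
          rw [hg_eq_torus C (hroot _ (List.get_mem refs i)) (t i).ne_zero]
          exact congrArg _ (funext fun k => Units.ext (by simp [Units.val_zpow_eq_zpow_val]))),
        ← List.map_map, ← map_list_prod]
      refine congrArg _ (funext fun k => ?_)
      rw [hx k, ← List.ofFn_eq_map, List.prod_ofFn, Finset.prod_apply]
    rw [hd]
    exact prod_mem_rootImg C _ _ _ fun i _ => hg_mem_rootImg C _ _
  obtain ⟨w, hw, hst, u, hu, d, hd, s, hs, -, rfl⟩ := cent_decomp C K hgG hcomm
  have hpar : ∀ r < D.nroots, parity T e (wperm T w r) = parity T e r := fun r hr => by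
    rw [Bool.eq_iff_iff, ← chr_sgnVec_eq_one C h2, ← chr_sgnVec_eq_one C h2, ← hc, hst r hr]
  obtain ⟨is, hlen, hsame⟩ := hcc.stab w hw hpar
  have hisw : IsWord D (is.flatMap fun i => refWord (refs.get i)) := by
    intro j hj
    obtain ⟨i, -, hj⟩ := List.mem_flatMap.1 hj
    obtain ⟨h1, h2', -⟩ := hcc.word _ (List.get_mem refs i)
    simp only [refWord, List.mem_append, List.mem_singleton, List.mem_reverse] at hj
    rcases hj with (hj | rfl) | hj
    exacts [h1 j hj, h2', h1 j hj]
  have hd' := same_of_perm C K (F := L) hisw hw fun k hk => hsame _ (C.spec.simp_lt k hk)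
  have hone : ∀ i : Fin refs.length, wnu C L (refWord (refs.get i)) ∈ rootImg C L WL := by
    intro i
    obtain ⟨h1, h2', -⟩ := hcc.word _ (List.get_mem refs i)
    obtain ⟨v, hv0, hv⟩ := wnu_conj_ng C (F := L) h1 (C.spec.simp_lt _ h2') 1 one_ne_zero
    have e1 : wnu C L (refWord (refs.get i)) =
        ng C (refRoot T (refs.get i)) v * (wnu C L (refs.get i).1 * wnu C L (refs.get i).1.reverse) := by
      rw [refWord, refRoot, ← hv, wnu_append, wnu_append, show wnu C L [(refs.get i).2] = nu C (refs.get i).2 by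
        simp [wnu], nu]
      group
    have e2 : wnu C L (refs.get i).1 * wnu C L (refs.get i).1.reverse ∈ D.diagonalSubgroup L := by
      have := wnu_reverse_mul C (F := L) h1.reverse
      rwa [List.reverse_reverse] at this
    let f : Fin refs.length → GL D.Idx L := fun j => if j = i then wnu C L (refWord (refs.get i)) else 1
    have := prod_mem_rootImg C f (fun j => [refRoot T (refs.get j), D.neg (refRoot T (refs.get j)),
      refRoot T (refs.get j)] ++ HL) blocks fun j _ => by
        by_cases hj : j = i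
        · subst hj
          simp only [f, if_pos]
          rw [e1]
          exact mul_mem_rootImg C (ng_mem_rootImg' C _ _) (hHmem _ e2)
        · simp only [f, if_neg hj]
          exact one_mem_rootImg C _
    rw [List.prod_map_eq_pow_single i f (fun a ha _ => if_neg ha),
      List.count_eq_one_of_mem (List.nodup_finRange _) (List.mem_finRange i), pow_one] at this
    rw [show f i = _ from if_pos rfl] at this
    exact this
  have hprod : ∀ (m : ℕ) (js : List (Fin refs.length)), js.length ≤ m →
      wnu C L (js.flatMap fun i => refWord (refs.get i)) ∈ rootImg C L ((List.range m).flatMap fun _ => WL) := by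
    intro m
    induction m with
    | zero =>
      intro js hjs
      rw [List.eq_nil_of_length_eq_zero (Nat.le_zero.1 hjs)]
      exact one_mem_rootImg C []
    | succ m ih =>
      intro js hjs
      rw [List.range_succ, List.flatMap_append, List.flatMap_singleton]
      rcases js.eq_nil_or_concat' with rfl | ⟨js', j, rfl⟩
      · simpa [wnu] using mul_mem_rootImg C (ih [] (Nat.zero_le _)) (one_mem_rootImg C WL)
      · rw [List.flatMap_append, List.flatMap_singleton, wnu_append]
        exact mul_mem_rootImg C (ih js' (by simp at hjs; omega)) (hone j)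
  rw [show u * d * wnu C L w * s = u * d * wnu C L (is.flatMap fun i => refWord (refs.get i)) *
    ((wnu C L (is.flatMap fun i => refWord (refs.get i)))⁻¹ * wnu C L w) * s by group]
  exact mul_mem_rootImg C (mul_mem_rootImg C (mul_mem_rootImg C (mul_mem_rootImg C (hUmem u hu) (hHmem d hd))
    (hprod M is hlen)) (hHmem _ hd')) (hUmem s hs)

end Cfsg.Lib.Chev
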