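import Cfsg.Agent.Lib.Chev.CommAll
import Cfsg.Agent.Lib.Chev.Positive

/-! All seven full certificates. -/

set_option autoImplicit false

namespace Cfsg.Lib.Chev

open Cfsg.Lie

theorem chkPos_G2 : chkPos tblG2 = true := by decide +kernel

/-- The root coefficients for G2, up to a scalar. -/
def phiG2 : List (List ℤ) := [[2, 3], [1, 2]]

theorem chkCoef_G2 : chkCoef tblG2 phiG2 = true := by decide +kernel

theorem chkDescPos_G2 : chkDescPos tblG2 = true := by decide +kernel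

theorem fullCertG2 : FullCert chevG2 tblG2 := ⟨commCertG2, chkPos_G2, ⟨phiG2, chkCoef_G2⟩, chkDescPos_G2⟩

theorem chkPos_B2 : chkPos tblB2 = true := by decide +kernel

/-- The root coefficients for B2, up to a scalar. -/
def phiB2 : List (List ℤ) := [[2, 2], [1, 2]]

theorem chkCoef_B2 : chkCoef tblB2 phiB2 = true := by decide +kernel

theorem chkDescPos_B2 : chkDescPos tblB2 = true := by decide +kernel

theorem fullCertB2 : FullCert chevB2 tblB2 := ⟨commCertB2, chkPos_B2, ⟨phiB2, chkCoef_B2⟩, chkDescPos_B2⟩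

theorem chkPos_D4 : chkPos tblD4 = true := by decide +kernel

/-- The root coefficients for D4, up to a scalar. -/
def phiD4 : List (List ℤ) := [[2, 2, 1, 1], [2, 4, 2, 2], [1, 2, 2, 1], [1, 2, 1, 2]]

theorem chkCoef_D4 : chkCoef tblD4 phiD4 = true := by decide +kernel

theorem chkDescPos_D4 : chkDescPos tblD4 = true := by decide +kernel

theorem fullCertD4 : FullCert chevD4 tblD4 := ⟨commCertD4, chkPos_D4, ⟨phiD4, chkCoef_D4⟩, chkDescPos_D4⟩

theorem chkPos_F4 : chkPos tblF4 = true := by decide +kernel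

/-- The root coefficients for F4, up to a scalar. -/
def phiF4 : List (List ℤ) := [[2, 3, 4, 2], [3, 6, 8, 4], [2, 4, 6, 3], [1, 2, 3, 2]]

theorem chkCoef_F4 : chkCoef tblF4 phiF4 = true := by decide +kernel

theorem chkDescPos_F4 : chkDescPos tblF4 = true := by decide +kernel

theorem fullCertF4 : FullCert chevF4 tblF4 := ⟨commCertF4, chkPos_F4, ⟨phiF4, chkCoef_F4⟩, chkDescPos_F4⟩

theorem chkPos_E6 : chkPos tblE6 = true := by decide +kernel

/-- The root coefficients for E6, up to a scalar. -/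
def phiE6 : List (List ℤ) := [[4, 3, 5, 6, 4, 2], [3, 6, 6, 9, 6, 3], [5, 6, 10, 12, 8, 4], [6, 9, 12, 18, 12, 6], [4, 6, 8, 12, 10, 5], [2, 3, 4, 6, 5, 4]]

theorem chkCoef_E6 : chkCoef tblE6 phiE6 = true := by decide +kernel

theorem chkDescPos_E6 : chkDescPos tblE6 = true := by decide +kernel

theorem fullCertE6 : FullCert chevE6 tblE6 := ⟨commCertE6, chkPos_E6, ⟨phiE6, chkCoef_E6⟩, chkDescPos_E6⟩

theorem chkPos_E7 : chkPos tblE7 = true := by decide +kernel

/-- The root coefficients for E7, up to a scalar. -/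
def phiE7 : List (List ℤ) := [[4, 4, 6, 8, 6, 4, 2], [4, 7, 8, 12, 9, 6, 3], [6, 8, 12, 16, 12, 8, 4], [8, 12, 16, 24, 18, 12, 6], [6, 9, 12, 18, 15, 10, 5], [4, 6, 8, 12, 10, 8, 4], [2, 3, 4, 6, 5, 4, 3]]

theorem chkCoef_E7 : chkCoef tblE7 phiE7 = true := by decide +kernel

theorem chkDescPos_E7 : chkDescPos tblE7 = true := by decide +kernel

theorem fullCertE7 : FullCert chevE7 tblE7 := ⟨commCertE7, chkPos_E7, ⟨phiE7, chkCoef_E7⟩, chkDescPos_E7⟩

theorem chkPos_E8 : chkPos tblE8 = true := by decide +kernel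

/-- The root coefficients for E8, up to a scalar. -/
def phiE8 : List (List ℤ) := [[4, 5, 7, 10, 8, 6, 4, 2], [5, 8, 10, 15, 12, 9, 6, 3], [7, 10, 14, 20, 16, 12, 8, 4], [10, 15, 20, 30, 24, 18, 12, 6], [8, 12, 16, 24, 20, 15, 10, 5], [6, 9, 12, 18, 15, 12, 8, 4], [4, 6, 8, 12, 10, 8, 6, 3], [2, 3, 4, 6, 5, 4, 3, 2]]

theorem chkCoef_E8 : chkCoef tblE8 phiE8 = true := by decide +kernel

theorem chkDescPos_E8 : chkDescPos tblE8 = true := by decide +kernel

theorem fullCertE8 : FullCert chevE8 tblE8 := ⟨commCertE8, chkPos_E8, ⟨phiE8, chkCoef_E8⟩, chkDescPos_E8⟩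

theorem exists_fullCert {D : ChevalleyDatum}
    (hD : D ∈ [chevG2, chevB2, chevD4, chevF4, chevE6, chevE7, chevE8]) : ∃ T, FullCert D T := by
  simp only [List.mem_cons, List.not_mem_nil, or_false] at hD
  rcases hD with rfl | rfl | rfl | rfl | rfl | rfl | rfl
  exacts [⟨_, fullCertG2⟩, ⟨_, fullCertB2⟩, ⟨_, fullCertD4⟩, ⟨_, fullCertF4⟩, ⟨_, fullCertE6⟩, ⟨_, fullCertE7⟩,
    ⟨_, fullCertE8⟩]

end Cfsg.Lib.Chev
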