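import Cfsg.Agent.Lib.Chev.Weyl
import Cfsg.Agent.Lib.Chev.FullAll

/-! Coset representatives for the type F4. -/

set_option autoImplicit false
set_option maxRecDepth 100000

namespace Cfsg.Lib.Chev

open Cfsg.Lie

def weylF4_0 : WLevel :=
  ([(0, [], [33, 27, 25, 24]),
    (0, [0], [14, 34, 25, 24])],
   [[1],
    [0]])

def weylF4_1 : WLevel :=
  ([(0, [], [33, 27, 25, 24]),
    (0, [1], [34, 20, 30, 24]),
    (1, [0, 1], [27, 13, 41, 24])],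
   [[3, 1],
    [2, 0],
    [1, 3]])

def weylF4_2 : WLevel :=
  ([(0, [], [33, 27, 25, 24]),
    (0, [2], [33, 28, 22, 26]),
    (1, [1, 2], [34, 28, 17, 31]),
    (2, [0, 1, 2], [27, 35, 6, 42]),
    (2, [2, 1, 2], [35, 27, 17, 32]),
    (3, [2, 0, 1, 2], [28, 34, 6, 43]),
    (5, [1, 2, 0, 1, 2], [28, 33, 6, 45]),
    (6, [2, 1, 2, 0, 1, 2], [27, 33, 6, 46])],
   [[8, 9, 1],
    [8, 2, 0],
    [3, 1, 4],
    [2, 8, 5],
    [5, 9, 2],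
    [4, 6, 3],
    [9, 5, 7],
    [9, 8, 6]])

def weylF4_3 : WLevel :=
  ([(0, [], [33, 27, 25, 24]),
    (0, [3], [33, 27, 26, 23]),
    (1, [2, 3], [33, 28, 24, 21]),
    (2, [1, 2, 3], [34, 28, 24, 16]),
    (3, [0, 1, 2, 3], [27, 35, 24, 5]),
    (3, [2, 1, 2, 3], [35, 27, 26, 15]),
    (4, [2, 0, 1, 2, 3], [28, 34, 26, 4]),
    (5, [3, 2, 1, 2, 3], [36, 27, 25, 15]),
    (6, [1, 2, 0, 1, 2, 3], [28, 33, 31, 2]),
    (6, [3, 2, 0, 1, 2, 3], [29, 34, 25, 4]),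
    (8, [2, 1, 2, 0, 1, 2, 3], [27, 33, 32, 1]),
    (8, [3, 1, 2, 0, 1, 2, 3], [29, 33, 30, 2]),
    (10, [3, 2, 1, 2, 0, 1, 2, 3], [27, 33, 32, 0]),
    (11, [2, 3, 1, 2, 0, 1, 2, 3], [29, 33, 30, 1]),
    (12, [2, 3, 2, 1, 2, 0, 1, 2, 3], [28, 33, 31, 0]),
    (13, [1, 2, 3, 1, 2, 0, 1, 2, 3], [29, 34, 25, 1]),
    (14, [1, 2, 3, 2, 1, 2, 0, 1, 2, 3], [28, 34, 26, 0]),
    (15, [0, 1, 2, 3, 1, 2, 0, 1, 2, 3], [36, 27, 25, 1]),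
    (16, [0, 1, 2, 3, 2, 1, 2, 0, 1, 2, 3], [35, 27, 26, 0]),
    (16, [2, 1, 2, 3, 2, 1, 2, 0, 1, 2, 3], [27, 35, 24, 0]),
    (18, [2, 0, 1, 2, 3, 2, 1, 2, 0, 1, 2, 3], [34, 28, 24, 0]),
    (20, [1, 2, 0, 1, 2, 3, 2, 1, 2, 0, 1, 2, 3], [33, 28, 24, 0]),
    (21, [2, 1, 2, 0, 1, 2, 3, 2, 1, 2, 0, 1, 2, 3], [33, 27, 26, 0]),
    (22, [3, 2, 1, 2, 0, 1, 2, 3, 2, 1, 2, 0, 1, 2, 3], [33, 27, 25, 1])],
   [[24, 25, 26, 1],
    [24, 25, 2, 0],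
    [24, 3, 1, 26],
    [4, 2, 5, 26],
    [3, 24, 6, 26],
    [6, 25, 3, 7],
    [5, 8, 4, 9],
    [9, 25, 26, 5],
    [25, 6, 10, 11],
    [7, 11, 26, 6],
    [25, 24, 8, 12],
    [25, 9, 13, 8],
    [25, 24, 14, 10],
    [25, 15, 11, 14],
    [25, 16, 12, 13],
    [17, 13, 26, 16],
    [18, 14, 19, 15],
    [15, 25, 26, 18],
    [16, 25, 20, 17],
    [20, 24, 16, 26],
    [19, 21, 18, 26],
    [24, 20, 22, 26],
    [24, 25, 21, 23],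
    [24, 25, 26, 22]])

def weylF4 : List WLevel := [weylF4_0, weylF4_1, weylF4_2, weylF4_3]

theorem chkLevelF4_0 : chkLevel tblF4 weylF4_0 0 = true := by decide +kernel

theorem chkLevelF4_1 : chkLevel tblF4 weylF4_1 1 = true := by decide +kernel

theorem chkLevelF4_2 : chkLevel tblF4 weylF4_2 2 = true := by decide +kernel

theorem chkLevelF4_3 : chkLevel tblF4 weylF4_3 3 = true := by decide +kernel

theorem chkWeylF4 : chkWeyl tblF4 weylF4 = true :=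
  allBelow_iff.2 fun m hm => by
    change m < 4 at hm
    interval_cases m
    · exact chkLevelF4_0
    · exact chkLevelF4_1
    · exact chkLevelF4_2
    · exact chkLevelF4_3

end Cfsg.Lib.Chev
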