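import Mathlib
import Cfsg.Agent.Lib.Chev.Weyl
import Cfsg.Agent.Lib.Chev.Sylow

/-!
Double cosets of standard parabolic subgroups: the words of minimal length.
-/

set_option autoImplicit false
set_option linter.unusedSectionVars false

namespace Cfsg.Lib.Chev

open Cfsg.Lie

/-- The word keeps the fundamental roots of `J` positive. -/
def RMin (D : ChevalleyDatum) (T : Tbl) (J : Set ℕ) (v : List ℕ) : Prop :=
  ∀ j ∈ J, j < D.rank → D.nroots ≤ 2 * wperm T v (T.simp' j)

/-- A word in the reflections of `J`. -/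
def InW (D : ChevalleyDatum) (J : Set ℕ) (a : List ℕ) : Prop := IsWord D a ∧ ∀ i ∈ a, i ∈ J

variable {D : ChevalleyDatum} {T : Tbl}

theorem inW_nil (J : Set ℕ) : InW D J [] := ⟨fun _ h => absurd h List.not_mem_nil, fun _ h => absurd h List.not_mem_nil⟩

theorem InW.cons {J : Set ℕ} {i : ℕ} {a : List ℕ} (hi : i < D.rank) (hiJ : i ∈ J) (ha : InW D J a) : InW D J (i :: a) :=
  ⟨ha.1.cons hi, fun x hx => (List.mem_cons.1 hx).elim (fun e => e ▸ hiJ) (ha.2 x)⟩

theorem InW.append {J : Set ℕ} {a b : List ℕ} (ha : InW D J a) (hb : InW D J b) : InW D J (a ++ b) :=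
  ⟨ha.1.append hb.1, fun x hx => (List.mem_append.1 hx).elim (ha.2 x) (hb.2 x)⟩

theorem InW.reverse {J : Set ℕ} {a : List ℕ} (ha : InW D J a) : InW D J a.reverse :=
  ⟨ha.1.reverse, fun x hx => ha.2 x (List.mem_reverse.1 hx)⟩

theorem inW_single {J : Set ℕ} {i : ℕ} (hi : i < D.rank) (hiJ : i ∈ J) : InW D J [i] := (inW_nil J).cons hi hiJ

theorem RMin.congr {J : Set ℕ} {v v' : List ℕ} (C : Cert D T) (h : RMin D T J v) (e : SamePerm D T v v') :
    RMin D T J v' := fun j hj hjr => e _ (C.spec.simp_lt j hjr) ▸ h j hj hjr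

section Comb

variable (C : Cert D T)
include C

theorem wperm_rev {w : List ℕ} (hw : IsWord D w) {s : ℕ} (hs : s < D.nroots) :
    wperm T w (wperm T w.reverse s) = s := by
  have := wperm_reverse C hw.reverse hs
  rwa [List.reverse_reverse] at this

theorem samePerm_reverse {v v' : List ℕ} (hv : IsWord D v) (hv' : IsWord D v') (h : SamePerm D T v v') :
    SamePerm D T v.reverse v'.reverse := fun s hs => by
  conv_lhs => rw [← wperm_rev C hv' hs]
  rw [← h _ (wperm_lt C hv'.reverse hs), wperm_reverse C hv (wperm_lt C hv'.reverse hs)]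

theorem samePerm_double {k : ℕ} (hk : k < D.rank) {w : List ℕ} (hw : IsWord D w) :
    SamePerm D T (k :: k :: w) w := fun s hs => C.spec.refl_refl k hk _ (wperm_lt C hw hs)

theorem inW_inRootSub {J : Set ℕ} {a : List ℕ} (ha : InW D J a) {s : ℕ} (hs : D.InRootSub J s) :
    D.InRootSub J (wperm T a s) := by
  induction a with
  | nil => exact hs
  | cons i a ih =>
    exact inRootSub_refl C (ha.1 i (List.mem_cons_self ..)) (ha.2 i (List.mem_cons_self ..))
      (ih ⟨ha.1.tail.2, fun x hx => ha.2 x (List.mem_cons_of_mem _ hx)⟩)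

variable (K : FullCert D T)
include K

theorem inW_outside {J : Set ℕ} {a : List ℕ} (ha : InW D J a) {s : ℕ} (hs : s < D.nroots)
    (hn : ¬ D.InRootSub J s) :
    ¬ D.InRootSub J (wperm T a s) ∧ (D.nroots ≤ 2 * s → D.nroots ≤ 2 * wperm T a s) := by
  induction a with
  | nil => exact ⟨hn, id⟩
  | cons i a ih =>
    have hi := ha.1 i (List.mem_cons_self ..)
    have hiJ := ha.2 i (List.mem_cons_self ..)
    obtain ⟨h1, h2⟩ := ih ⟨ha.1.tail.2, fun x hx => ha.2 x (List.mem_cons_of_mem _ hx)⟩
    have hws := wperm_lt C ha.1.tail.2 hs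
    exact ⟨pos_refl_outside C hi hiJ hws h1, fun hp => K.refl_pos hi hws (h2 hp) fun e =>
      h1 (by rw [show wperm T a s = T.simp' i from e]; exact inRootSub_simple C hi hiJ)⟩

/-- A word keeping all fundamental roots positive is trivial. -/
theorem samePerm_nil {w : List ℕ} (hw : IsWord D w) (h : ∀ k < D.rank, D.nroots ≤ 2 * wperm T w (T.simp' k)) :
    SamePerm D T w [] := fun s hs => by
  refine (perm_of_same C (F := ℚ) (fun _ h => absurd h List.not_mem_nil) hw ?_ hs).symm
  rw [show wnu C ℚ ([] : List ℕ) = 1 from List.prod_nil, inv_one, one_mul]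
  exact word_kernel C K _ rfl hw h

theorem inW_nil_of_min {J : Set ℕ} {a : List ℕ} (ha : InW D J a) (h : RMin D T J a) : SamePerm D T a [] :=
  samePerm_nil C K ha.1 fun k hk => by
    by_cases hkJ : k ∈ J
    · exact h k hkJ hk
    · refine (inW_outside C K ha (C.spec.simp_lt k hk) fun h' => ?_).2 (K.simple_pos hk)
      have := ((inRootSub_iff C).1 h').2 k hk hkJ
      rw [C.spec.cor_simple k hk k hk, if_pos rfl] at this
      exact one_ne_zero this

/-- A minimal word keeps the positive roots of the subsystem positive. -/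
theorem rmin_pos {J : Set ℕ} {v : List ℕ} (hv : IsWord D v) (h : RMin D T J v) {s : ℕ} (hs : D.InRootSub J s)
    (hp : D.nroots ≤ 2 * s) : D.nroots ≤ 2 * wperm T v s := by
  refine pos_of_forall C (wperm_lt C hv hs.1) fun q hq => ?_
  rw [coroot_wperm C hv hs.1 q hq]
  refine Finset.sum_nonneg fun k hk => ?_
  rw [Finset.mem_range] at hk
  by_cases hkJ : k ∈ J
  · exact mul_nonneg (coroot_nonneg C hs.1 hp hk)
      (coroot_nonneg C (wperm_lt C hv (C.spec.simp_lt k hk)) (h k hkJ hk) hq)
  · rw [((inRootSub_iff C).1 hs).2 k hk hkJ, zero_mul]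

theorem rmin_neg {J : Set ℕ} {v : List ℕ} (hv : IsWord D v) (h : RMin D T J v) {s : ℕ} (hs : D.InRootSub J s)
    (hp : 2 * s < D.nroots) : 2 * wperm T v s < D.nroots := by
  have h' := rmin_pos C K hv h (inRootSub_neg C hs) ((K.neg_pos_iff hs.1).2 hp)
  rw [wperm_neg C hv hs.1] at h'
  exact (K.neg_pos_iff (wperm_lt C hv hs.1)).1 h'

theorem negSet_card_reverse {w : List ℕ} (hw : IsWord D w) :
    (negSet D T w.reverse).card = (negSet D T w).card := by
  refine Finset.card_bij (fun s _ => T.neg (wperm T w.reverse s)) ?_ ?_ ?_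
  · intro s hs
    obtain ⟨h1, h2, h3⟩ := mem_negSet.1 hs
    have hlt := wperm_lt C hw.reverse h1
    refine mem_negSet.2 ⟨C.spec.neg_lt _ hlt, (K.neg_pos_iff hlt).2 h3, ?_⟩
    rw [wperm_neg C hw hlt, wperm_rev C hw h1]
    by_contra hn
    have := (K.neg_pos_iff h1).1 (le_of_not_gt hn)
    omega
  · intro a ha b hb e
    have h1 := (mem_negSet.1 ha).1
    have h2 := (mem_negSet.1 hb).1
    have e' := congrArg T.neg e
    rw [C.spec.neg_neg _ (wperm_lt C hw.reverse h1), C.spec.neg_neg _ (wperm_lt C hw.reverse h2)] at e'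
    exact wperm_inj C hw.reverse h1 h2 e'
  · intro s hs
    obtain ⟨h1, h2, h3⟩ := mem_negSet.1 hs
    have hlt := wperm_lt C hw h1
    refine ⟨T.neg (wperm T w s), mem_negSet.2 ⟨C.spec.neg_lt _ hlt, (K.neg_pos_iff hlt).2 h3, ?_⟩, ?_⟩
    · rw [wperm_neg C hw.reverse hlt, wperm_reverse C hw h1]
      by_contra hn
      have := (K.neg_pos_iff h1).1 (le_of_not_gt hn)
      omega
    · rw [wperm_neg C hw.reverse hlt, wperm_reverse C hw h1, C.spec.neg_neg s h1]

/-- Prepending a left descent shortens. -/
theorem card_descent_left {k : ℕ} (hk : k < D.rank) {w : List ℕ} (hw : IsWord D w)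
    (h : 2 * wperm T w.reverse (T.simp' k) < D.nroots) :
    (negSet D T (k :: w)).card + 1 = (negSet D T w).card := by
  have hp := C.spec.simp_lt k hk
  rw [← negSet_cons C K (i := k) (w := k :: w) ((hw.cons hk).cons hk) ?_, negSet_congr (samePerm_double C hk hw)]
  rw [List.reverse_cons, wperm_append, show wperm T [k] (T.simp' k) = T.neg (T.simp' k) from C.spec.refl_simple k hk,
    wperm_neg C hw.reverse hp]
  exact (K.neg_pos_iff (wperm_lt C hw.reverse hp)).2 h

theorem card_descent_right {k : ℕ} (hk : k < D.rank) {w : List ℕ} (hw : IsWord D w)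
    (h : 2 * wperm T w (T.simp' k) < D.nroots) :
    (negSet D T (w ++ [k])).card + 1 = (negSet D T w).card := by
  rw [← negSet_card_reverse C K (hw.append (fun i hi => (List.mem_singleton.1 hi) ▸ hk)), ← negSet_card_reverse C K hw,
    List.reverse_append, List.reverse_singleton]
  exact card_descent_left C K hk hw.reverse (by simpa using h)

/-- A minimal double coset word is determined by the double coset. -/
theorem two_sided_unique {J K' : Set ℕ} {v v' : List ℕ} (hv : IsWord D v) (hv' : IsWord D v')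
    (hR : RMin D T K' v) (hL : RMin D T J v.reverse) (hR' : RMin D T K' v') (hL' : RMin D T J v'.reverse) :
    ∀ (n : ℕ) (a b : List ℕ), (negSet D T b).card ≤ n → InW D J a → InW D K' b →
      SamePerm D T v' (a ++ (v ++ b)) → SamePerm D T v v' := by
  intro n
  induction n using Nat.strong_induction_on with
  | _ n ih =>
    intro a b hn ha hb e
    by_cases hmin : RMin D T K' b.reverse
    · have hb1 : SamePerm D T b [] := by
        have := samePerm_reverse C hb.1.reverse (inW_nil (D := D) K').1 (inW_nil_of_min C K hb.reverse hmin)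
        rwa [List.reverse_reverse] at this
      have e1 : SamePerm D T v' (a ++ v) := fun s hs => by
        rw [e s hs, wperm_append, wperm_append, hb1 s hs, wperm_append]; rfl
      have hamin : RMin D T J a.reverse := by
        intro j hj hjr
        by_contra hneg
        push Not at hneg
        have h1 := hL' j hj hjr
        rw [samePerm_reverse C hv' (ha.1.append hv) e1 _ (C.spec.simp_lt j hjr), List.reverse_append, wperm_append] at h1
        have := rmin_neg C K hv.reverse hL (inW_inRootSub C ha.reverse (inRootSub_simple C hjr hj)) hneg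
        omega
      have ha1 : SamePerm D T a [] := by
        have := samePerm_reverse C ha.1.reverse (inW_nil (D := D) J).1 (inW_nil_of_min C K ha.reverse hamin)
        rwa [List.reverse_reverse] at this
      exact fun s hs => by rw [e1 s hs, wperm_append, ha1 _ (wperm_lt C hv hs)]; rfl
    · rw [RMin] at hmin
      push Not at hmin
      obtain ⟨k, hkK, hk, hneg⟩ := hmin
      have hp := C.spec.simp_lt k hk
      let δ := wperm T b.reverse (T.simp' k)
      have hδlt : δ < D.nroots := wperm_lt C hb.1.reverse hp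
      have hδ : D.InRootSub K' δ := inW_inRootSub C hb.reverse (inRootSub_simple C hk hkK)
      have hv'δ := rmin_neg C K hv' hR' hδ hneg
      rw [e δ hδlt, wperm_append, wperm_append, wperm_rev C hb.1 hp] at hv'δ
      have hvk := hR k hkK hk
      have hvklt := wperm_lt C hv hp
      have hin : D.InRootSub J (wperm T v (T.simp' k)) := by
        by_contra hout
        have := (inW_outside C K ha hvklt hout).2 hvk
        omega
      -- the image is fundamental
      have hsum : ∀ m < D.rank, T.coroot (T.simp' k) m =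
          ∑ i ∈ Finset.range D.rank, T.coroot (wperm T v (T.simp' k)) i *
            T.coroot (wperm T v.reverse (T.simp' i)) m := fun m hm => by
        rw [← coroot_wperm C hv.reverse hvklt m hm, wperm_reverse C hv hp]
      have hex : ∃ j ∈ J, j < D.rank ∧ wperm T v (T.simp' k) = T.simp' j := by
        obtain ⟨j, hj, hjne⟩ := coroot_exists_ne C hvklt
        have hjJ : j ∈ J := by
          by_contra h
          exact hjne (((inRootSub_iff C).1 hin).2 j hj h)
        refine ⟨j, hjJ, hj, inRootSub_singleton C K hj ((inRootSub_iff C).2 ⟨hvklt, fun i hi hij => ?_⟩) hvk⟩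
        have hij' : i ≠ j := hij
        by_contra hine
        -- two terms in the support give a root with a total coefficient at least two
        have htot : (1 : ℤ) = ∑ i ∈ Finset.range D.rank, T.coroot (wperm T v (T.simp' k)) i *
            ∑ m ∈ Finset.range D.rank, T.coroot (wperm T v.reverse (T.simp' i)) m := by
          have : ∑ m ∈ Finset.range D.rank, T.coroot (T.simp' k) m = 1 := by
            rw [Finset.sum_eq_single k]
            · rw [C.spec.cor_simple k hk k hk, if_pos rfl]
            · intro m hm hmk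
              rw [C.spec.cor_simple k hk m (Finset.mem_range.1 hm), if_neg]
              exact hmk
            · exact fun h => absurd (Finset.mem_range.2 hk) h
          rw [← this, Finset.sum_congr rfl (fun m hm => hsum m (Finset.mem_range.1 hm)), Finset.sum_comm]
          exact Finset.sum_congr rfl fun i _ => (Finset.mul_sum _ _ _).symm
        have hge : ∀ i' < D.rank, T.coroot (wperm T v (T.simp' k)) i' ≠ 0 →
            1 ≤ T.coroot (wperm T v (T.simp' k)) i' *
              ∑ m ∈ Finset.range D.rank, T.coroot (wperm T v.reverse (T.simp' i')) m := by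
          intro i' hi' hne
          have hi'J : i' ∈ J := by
            by_contra h
            exact hne (((inRootSub_iff C).1 hin).2 i' hi' h)
          have h1 : 1 ≤ T.coroot (wperm T v (T.simp' k)) i' := by
            have := coroot_nonneg C hvklt hvk hi'
            omega
          have hlt := wperm_lt C hv.reverse (C.spec.simp_lt i' hi')
          obtain ⟨m, hm, hmne⟩ := coroot_exists_ne C hlt
          have h2 : 1 ≤ ∑ m ∈ Finset.range D.rank, T.coroot (wperm T v.reverse (T.simp' i')) m := by
            refine le_trans ?_ (Finset.single_le_sum (fun m hm => coroot_nonneg C hlt (hL i' hi'J hi')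
              (Finset.mem_range.1 hm)) (Finset.mem_range.2 hm))
            have := coroot_nonneg C hlt (hL i' hi'J hi') hm
            omega
          nlinarith
        have h2 : (2 : ℤ) ≤ 1 := by
          conv_rhs => rw [htot]
          refine le_trans ?_ (Finset.sum_le_sum_of_subset_of_nonneg (s := {i, j})
            (Finset.insert_subset (Finset.mem_range.2 hi) (Finset.singleton_subset_iff.2 (Finset.mem_range.2 hj)))
            fun i' hi' _ => ?_)
          · rw [Finset.sum_pair hij']
            have := hge i hi hine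
            have := hge j hj hjne
            omega
          · by_cases h0 : T.coroot (wperm T v (T.simp' k)) i' = 0
            · rw [h0, zero_mul]
            · have := hge i' (Finset.mem_range.1 hi') h0; omega
        omega
      obtain ⟨j, hjJ, hj, hvj⟩ := hex
      have hconj := samePerm_conj C K hv hk hj hvj
      have hlt : (negSet D T (k :: b)).card < n :=
        lt_of_lt_of_le (by have := card_descent_left C K hk hb.1 hneg; omega) hn
      refine ih _ hlt (a ++ [j]) (k :: b) le_rfl (ha.append (inW_single hj hjJ)) (hb.cons hk hkK) fun s hs => ?_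
      rw [e s hs, List.append_assoc]
      show wperm T (a ++ (v ++ b)) s = wperm T (a ++ ((j :: v) ++ (k :: b))) s
      rw [wperm_append, wperm_append (v := a), wperm_append, wperm_append (v := j :: v),
        hconj _ (wperm_lt C (hb.1.cons hk) hs), wperm_append]
      exact congrArg (wperm T a) (congrArg (wperm T v) (samePerm_double C hk hb.1 s hs).symm)

end Comb

section Cells

variable {F : Type*} [Field F]

/-- The Bruhat cell of a word. -/
def bCell (C : Cert D T) (F : Type*) [Field F] (v : List ℕ) : Set (GL D.Idx F) :=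
  {g | ∃ x ∈ D.borelSubgroup F, ∃ y ∈ D.borelSubgroup F, g = x * wnu C F v * y}

/-- The union of the cells of a double coset. -/
def pCells (C : Cert D T) (F : Type*) [Field F] (J : Set ℕ) (v : List ℕ) (K' : Set ℕ) : Set (GL D.Idx F) :=
  {g | ∃ a b, InW D J a ∧ InW D K' b ∧ g ∈ bCell C F (a ++ (v ++ b))}

variable (C : Cert D T)
include C

theorem mem_bCell {x y : GL D.Idx F} (hx : x ∈ D.borelSubgroup F) (hy : y ∈ D.borelSubgroup F) (v : List ℕ) :
    x * wnu C F v * y ∈ bCell C F v := ⟨x, hx, y, hy, rfl⟩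

theorem bCell_mul {v : List ℕ} {g x y : GL D.Idx F} (hx : x ∈ D.borelSubgroup F) (hy : y ∈ D.borelSubgroup F)
    (hg : g ∈ bCell C F v) : x * g * y ∈ bCell C F v := by
  obtain ⟨x', hx', y', hy', rfl⟩ := hg
  exact ⟨x * x', mul_mem hx hx', y' * y, mul_mem hy' hy, by group⟩

theorem nu_inv_borel {i : ℕ} (hi : i < D.rank) :
    ∃ h ∈ D.borelSubgroup F, (nu C i : GL D.Idx F)⁻¹ = nu C i * h ∧ (nu C i : GL D.Idx F)⁻¹ = h * nu C i := by
  refine ⟨(nu C i * nu C i)⁻¹, inv_mem ?_, by group, by group⟩
  rw [nu_sq C hi]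
  exact Subgroup.mem_sup_right (hg_mem C (C.spec.simp_lt i hi) (neg_ne_zero.2 one_ne_zero))

variable (K : FullCert D T)
include K

theorem bCell_congr {v v' : List ℕ} (hv : IsWord D v) (hv' : IsWord D v') (e : SamePerm D T v v') {g : GL D.Idx F}
    (hg : g ∈ bCell C F v) : g ∈ bCell C F v' := by
  obtain ⟨x, hx, y, hy, rfl⟩ := hg
  have hd : (wnu C F v')⁻¹ * wnu C F v ∈ D.diagonalSubgroup F :=
    same_of_perm C K hv' hv fun k hk => (e _ (C.spec.simp_lt k hk)).symm
  exact ⟨x, hx, _, mul_mem (Subgroup.mem_sup_right hd) hy, by group⟩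

theorem bCell_disjoint {v v' : List ℕ} (hv : IsWord D v) (hv' : IsWord D v') {g : GL D.Idx F}
    (h : g ∈ bCell C F v) (h' : g ∈ bCell C F v') : SamePerm D T v v' := by
  obtain ⟨x, hx, y, hy, rfl⟩ := h
  obtain ⟨x', hx', y', hy', e⟩ := h'
  exact fun s hs => perm_of_same C hv hv' (cells_disjoint C K hx hx' (wnu_mem C hv) (wnu_mem C hv') hy hy' e) hs

theorem bCell_nu_left {i : ℕ} (hi : i < D.rank) {v : List ℕ} (hv : IsWord D v) {g : GL D.Idx F}
    (hg : g ∈ bCell C F v) : nu C i * g ∈ bCell C F v ∨ nu C i * g ∈ bCell C F (i :: v) := by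
  obtain ⟨x, hx, y, hy, rfl⟩ := hg
  obtain ⟨x', hx', y', hy', h⟩ := nu_mul_borel C K hi hx (wnu_mem C (F := F) hv)
  rcases h with h | h
  · refine Or.inr ⟨x', hx', y' * y, mul_mem hy' hy, ?_⟩
    rw [wnu_cons, show nu C i * (x * wnu C F v * y) = (nu C i * x * wnu C F v) * y by group, h]; group
  · refine Or.inl ⟨x', hx', y' * y, mul_mem hy' hy, ?_⟩
    rw [show nu C i * (x * wnu C F v * y) = (nu C i * x * wnu C F v) * y by group, h]; group

theorem bCell_nu_right {i : ℕ} (hi : i < D.rank) {v : List ℕ} (hv : IsWord D v) {g : GL D.Idx F}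
    (hg : g ∈ bCell C F v) : g * nu C i ∈ bCell C F v ∨ g * nu C i ∈ bCell C F (v ++ [i]) := by
  obtain ⟨x, hx, y, hy, rfl⟩ := hg
  obtain ⟨h, hh, e1, -⟩ := nu_inv_borel C (F := F) hi
  obtain ⟨x', hx', y', hy', e⟩ := nu_mul_borel C K hi (mul_mem hh (inv_mem hy)) (inv_mem (wnu_mem C (F := F) hv))
  have e2 : (x * wnu C F v * y * nu C i)⁻¹ = (nu C i * (h * y⁻¹) * (wnu C F v)⁻¹) * x⁻¹ := by
    rw [mul_inv_rev, mul_inv_rev, mul_inv_rev, e1]; group
  rcases e with e | e
  · refine Or.inr ?_
    obtain ⟨h2, hh2, -, e3⟩ := nu_inv_borel C (F := F) hi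
    have hd := (conj_mem_diag C (wnu_mem C (F := F) hv) ((nu_sq C (F := F) hi).symm ▸
      hg_mem C (C.spec.simp_lt i hi) (neg_ne_zero.2 (one_ne_zero (α := F))))).1
    refine ⟨x * y'⁻¹ * (wnu C F v * (nu C i * nu C i) * (wnu C F v)⁻¹)⁻¹,
      mul_mem (mul_mem hx (inv_mem hy')) (inv_mem (Subgroup.mem_sup_right hd)), x'⁻¹, inv_mem hx', ?_⟩
    rw [← inv_inv (x * wnu C F v * y * nu C i), e2, e, wnu_append,
      show wnu C F [i] = nu C i by simp [wnu]]
    group
  · refine Or.inl ⟨x * y'⁻¹, mul_mem hx (inv_mem hy'), x'⁻¹, inv_mem hx', ?_⟩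
    rw [← inv_inv (x * wnu C F v * y * nu C i), e2, e]
    group

/-- A product staying reduced on the right. -/
theorem bCell_add_one {i : ℕ} (hi : i < D.rank) {v : List ℕ} (hv : IsWord D v)
    (h : D.nroots ≤ 2 * wperm T v (T.simp' i)) {y : GL D.Idx F} (hy : y ∈ D.borelSubgroup F) :
    wnu C F v * y * nu C i ∈ bCell C F (v ++ [i]) := by
  obtain ⟨u, hu, d, hd, rfl⟩ := (mem_borel C).1 hy
  have hd' := (conj_mem_diag C (nu_mem C (F := F) i hi) hd).2
  obtain ⟨z, hz, t, rfl⟩ := pos_decomp C K hi hu
  -- move the radical part to the right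
  obtain ⟨hh, hhB, -, e3⟩ := nu_inv_borel C (F := F) hi
  have hnorm : ∀ {z : GL D.Idx F}, z ∈ D.unipotentRadical F {i} → (nu C i)⁻¹ * z * nu C i ∈ D.borelSubgroup F := by
    intro z hz
    refine Subgroup.mem_sup_left (radical_le_pos C ({i} : Set ℕ) ?_)
    have := (Subgroup.mem_normalizer_iff.1 (inv_mem (levi_le_normalizer C K {i} (nu_mem_levi C (F := F) hi (Set.mem_singleton i)))) z).1 hz
    rwa [inv_inv] at this
  have hp := C.spec.simp_lt i hi
  obtain ⟨c, -, hct⟩ := wnu_conj_xg C (F := F) hv hp
  have hsimp : xg C (T.simp' i) t ∈ Subgroup.normalizer (D.unipotentRadical F {i} : Set (GL D.Idx F)) :=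
    levi_le_normalizer C K {i} (xg_mem_levi C (inRootSub_simple C hi (Set.mem_singleton i)) t)
  have hz' : (xg C (T.simp' i) t)⁻¹ * z * xg C (T.simp' i) t ∈ D.unipotentRadical F {i} := by
    have := (Subgroup.mem_normalizer_iff.1 (inv_mem hsimp) z).1 hz
    rwa [inv_inv] at this
  refine ⟨wnu C F v * xg C (T.simp' i) t * (wnu C F v)⁻¹, ?_,
    ((nu C i)⁻¹ * ((xg C (T.simp' i) t)⁻¹ * z * xg C (T.simp' i) t) * nu C i) * ((nu C i)⁻¹ * d * nu C i),
    mul_mem (hnorm hz') (Subgroup.mem_sup_right hd'), ?_⟩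
  · rw [hct]; exact xg_mem_borel C (wperm_lt C hv hp) h _
  · rw [wnu_append, show wnu C F [i] = nu C i by simp [wnu]]
    group

theorem bCell_add {J : Set ℕ} {v : List ℕ} (hv : IsWord D v) (hR : RMin D T J v) :
    ∀ (n : ℕ) (a : List ℕ), (negSet D T a).card ≤ n → InW D J a → ∀ {y : GL D.Idx F}, y ∈ D.borelSubgroup F →
      wnu C F v * y * wnu C F a ∈ bCell C F (v ++ a) := by
  intro n
  induction n using Nat.strong_induction_on with
  | _ n ih =>
    intro a hn ha y hy
    by_cases hmin : RMin D T J a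
    · have hd : wnu C F a ∈ D.borelSubgroup F := Subgroup.mem_sup_right (by
        have := same_of_perm C K (F := F) (fun _ h => absurd h List.not_mem_nil) ha.1
          fun k hk => (inW_nil_of_min C K ha hmin _ (C.spec.simp_lt k hk)).symm
        rwa [show wnu C F ([] : List ℕ) = 1 from List.prod_nil, inv_one, one_mul] at this)
      refine bCell_congr C K hv (hv.append ha.1) (fun s hs => ?_)
        ⟨1, one_mem _, _, mul_mem hy hd, by group⟩
      rw [wperm_append, inW_nil_of_min C K ha hmin s hs]; rfl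
    · rw [RMin] at hmin
      push Not at hmin
      obtain ⟨k, hkJ, hk, hneg⟩ := hmin
      have hw' := ha.append (inW_single hk hkJ)
      have hlt : (negSet D T (a ++ [k])).card < n :=
        lt_of_lt_of_le (by have := card_descent_right C K hk ha.1 hneg; omega) hn
      obtain ⟨x1, hx1, y1, hy1, e⟩ := ih _ hlt (a ++ [k]) le_rfl hw' hy
      have hpos : D.nroots ≤ 2 * wperm T (v ++ (a ++ [k])) (T.simp' k) := by
        rw [wperm_append]
        refine rmin_pos C K hv hR (inW_inRootSub C hw' (inRootSub_simple C hk hkJ)) ?_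
        rw [wperm_append, show wperm T [k] (T.simp' k) = T.neg (T.simp' k) from C.spec.refl_simple k hk,
          wperm_neg C ha.1 (C.spec.simp_lt k hk)]
        exact (K.neg_pos_iff (wperm_lt C ha.1 (C.spec.simp_lt k hk))).2 hneg
      obtain ⟨hh, hhB, e1, -⟩ := nu_inv_borel C (F := F) hk
      have hnk : wnu C F a = wnu C F (a ++ [k]) * (nu C k)⁻¹ := by
        rw [wnu_append, show wnu C F [k] = nu C k by simp [wnu]]; group
      have h2 := bCell_add_one C K hk (hv.append hw'.1) hpos hy1
      have h3 : wnu C F v * y * wnu C F a ∈ bCell C F ((v ++ (a ++ [k])) ++ [k]) := by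
        have := bCell_mul C hx1 hhB h2
        rw [show wnu C F v * y * wnu C F a = x1 * (wnu C F (v ++ (a ++ [k])) * y1 * nu C k) * hh by
          rw [hnk, e1, ← mul_assoc, e]; group]
        exact this
      refine bCell_congr C K ((hv.append hw'.1).append fun i hi => (List.mem_singleton.1 hi) ▸ hk)
        (hv.append ha.1) (fun s hs => ?_) h3
      rw [List.append_assoc, List.append_assoc, List.singleton_append, wperm_append, wperm_append (v := a),
        samePerm_double C hk (fun _ h => absurd h List.not_mem_nil) s hs, wperm_append]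
      rfl

theorem pCells_left {J K' : Set ℕ} {v : List ℕ} (hv : IsWord D v) {g p : GL D.Idx F}
    (hg : g ∈ pCells C F J v K') (hp : p ∈ D.parabolicSubgroup F J) : p * g ∈ pCells C F J v K' := by
  suffices h : ∀ p ∈ D.parabolicSubgroup F J, ∀ g ∈ pCells C F J v K',
      p * g ∈ pCells C F J v K' ∧ p⁻¹ * g ∈ pCells C F J v K' from (h p hp g hg).1
  have hB : ∀ x ∈ D.borelSubgroup F, ∀ g ∈ pCells C F J v K', x * g ∈ pCells C F J v K' := by
    rintro x hx g ⟨a, b, ha, hb, hg⟩
    refine ⟨a, b, ha, hb, ?_⟩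
    have := bCell_mul C hx (one_mem _) hg
    rwa [mul_one] at this
  have hnu : ∀ j ∈ J, j < D.rank → ∀ g ∈ pCells C F J v K', nu C j * g ∈ pCells C F J v K' := by
    rintro j hj hjr g ⟨a, b, ha, hb, hg⟩
    rcases bCell_nu_left C K hjr (ha.1.append (hv.append hb.1)) hg with h | h
    · exact ⟨a, b, ha, hb, h⟩
    · exact ⟨j :: a, b, ha.cons hjr hj, hb, h⟩
  intro p hp
  rw [ChevalleyDatum.parabolicSubgroup, Subgroup.sup_eq_closure] at hp
  induction hp using Subgroup.closure_induction with
  | mem x hx =>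
    intro g hg
    rcases hx with hx | hx
    · exact ⟨hB x hx g hg, hB _ (inv_mem hx) g hg⟩
    · rw [SetLike.mem_coe] at hx
      induction hx using Subgroup.closure_induction generalizing g with
      | mem y hy =>
        obtain ⟨j, hj, hjr, e⟩ := hy
        rw [(eq_nu_iff C hjr).1 e]
        obtain ⟨h, hh, -, e1⟩ := nu_inv_borel C (F := F) hjr
        exact ⟨hnu j hj hjr g hg, by rw [e1, mul_assoc]; exact hB h hh _ (hnu j hj hjr g hg)⟩
      | one => exact ⟨by rwa [one_mul], by rwa [inv_one, one_mul]⟩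
      | mul a b _ _ iha ihb =>
        exact ⟨by rw [mul_assoc]; exact (iha _ (ihb g hg).1).1,
          by rw [mul_inv_rev, mul_assoc]; exact (ihb _ (iha g hg).2).2⟩
      | inv a _ iha => exact ⟨(iha g hg).2, by rw [inv_inv]; exact (iha g hg).1⟩
  | one => exact fun g hg => ⟨by rwa [one_mul], by rwa [inv_one, one_mul]⟩
  | mul a b _ _ iha ihb =>
    exact fun g hg => ⟨by rw [mul_assoc]; exact (iha _ (ihb g hg).1).1,
      by rw [mul_inv_rev, mul_assoc]; exact (ihb _ (iha g hg).2).2⟩
  | inv a _ iha => exact fun g hg => ⟨(iha g hg).2, by rw [inv_inv]; exact (iha g hg).1⟩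

theorem pCells_right {J K' : Set ℕ} {v : List ℕ} (hv : IsWord D v) {g p : GL D.Idx F}
    (hg : g ∈ pCells C F J v K') (hp : p ∈ D.parabolicSubgroup F K') : g * p ∈ pCells C F J v K' := by
  suffices h : ∀ p ∈ D.parabolicSubgroup F K', ∀ g ∈ pCells C F J v K',
      g * p ∈ pCells C F J v K' ∧ g * p⁻¹ ∈ pCells C F J v K' from (h p hp g hg).1
  have hB : ∀ x ∈ D.borelSubgroup F, ∀ g ∈ pCells C F J v K', g * x ∈ pCells C F J v K' := by
    rintro x hx g ⟨a, b, ha, hb, hg⟩
    refine ⟨a, b, ha, hb, ?_⟩
    have := bCell_mul C (one_mem _) hx hg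
    rwa [one_mul] at this
  have hnu : ∀ j ∈ K', j < D.rank → ∀ g ∈ pCells C F J v K', g * nu C j ∈ pCells C F J v K' := by
    rintro j hj hjr g ⟨a, b, ha, hb, hg⟩
    rcases bCell_nu_right C K hjr (ha.1.append (hv.append hb.1)) hg with h | h
    · exact ⟨a, b, ha, hb, h⟩
    · exact ⟨a, b ++ [j], ha, hb.append (inW_single hjr hj), by simpa [List.append_assoc] using h⟩
  intro p hp
  rw [ChevalleyDatum.parabolicSubgroup, Subgroup.sup_eq_closure] at hp
  induction hp using Subgroup.closure_induction with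
  | mem x hx =>
    intro g hg
    rcases hx with hx | hx
    · exact ⟨hB x hx g hg, hB _ (inv_mem hx) g hg⟩
    · rw [SetLike.mem_coe] at hx
      induction hx using Subgroup.closure_induction generalizing g with
      | mem y hy =>
        obtain ⟨j, hj, hjr, e⟩ := hy
        rw [(eq_nu_iff C hjr).1 e]
        obtain ⟨h, hh, e1, -⟩ := nu_inv_borel C (F := F) hjr
        exact ⟨hnu j hj hjr g hg, by rw [e1, ← mul_assoc]; exact hB h hh _ (hnu j hj hjr g hg)⟩
      | one => exact ⟨by rwa [mul_one], by rwa [inv_one, mul_one]⟩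
      | mul a b _ _ iha ihb =>
        exact ⟨by rw [← mul_assoc]; exact (ihb _ (iha g hg).1).1,
          by rw [mul_inv_rev, ← mul_assoc]; exact (iha _ (ihb g hg).2).2⟩
      | inv a _ iha => exact ⟨(iha g hg).2, by rw [inv_inv]; exact (iha g hg).1⟩
  | one => exact fun g hg => ⟨by rwa [mul_one], by rwa [inv_one, mul_one]⟩
  | mul a b _ _ iha ihb =>
    exact fun g hg => ⟨by rw [← mul_assoc]; exact (ihb _ (iha g hg).1).1,
      by rw [mul_inv_rev, ← mul_assoc]; exact (iha _ (ihb g hg).2).2⟩
  | inv a _ iha => exact fun g hg => ⟨(iha g hg).2, by rw [inv_inv]; exact (iha g hg).1⟩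

theorem mem_parabolic_of_word {J : Set ℕ} {a : List ℕ} (ha : InW D J a) :
    wnu C F a ∈ D.parabolicSubgroup F J := by
  induction a with
  | nil => rw [show wnu C F ([] : List ℕ) = 1 from List.prod_nil]; exact one_mem _
  | cons i a ih =>
    rw [wnu_cons]
    exact mul_mem (Subgroup.mem_sup_right (Subgroup.subset_closure
      ⟨i, ha.2 i (List.mem_cons_self ..), ha.1 i (List.mem_cons_self ..),
        (eq_nu_iff C (ha.1 i (List.mem_cons_self ..))).2 rfl⟩))
      (ih ⟨ha.1.tail.2, fun x hx => ha.2 x (List.mem_cons_of_mem _ hx)⟩)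

/-- Every element lies in the double coset of a minimal word. -/
theorem exists_min_word (J K' : Set ℕ) {g : GL D.Idx F} (hg : g ∈ D.group F) :
    ∃ v, IsWord D v ∧ RMin D T K' v ∧ RMin D T J v.reverse ∧
      ∃ p ∈ D.parabolicSubgroup F J, ∃ q ∈ D.parabolicSubgroup F K', g = p * wnu C F v * q := by
  classical
  have hex : ∃ n v, IsWord D v ∧ (negSet D T v).card = n ∧
      ∃ p ∈ D.parabolicSubgroup F J, ∃ q ∈ D.parabolicSubgroup F K', g = p * wnu C F v * q := by
    obtain ⟨w, hw, b, hb, c, hc, e⟩ := bruhat_normal C K hg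
    exact ⟨_, w, hw, rfl, b, Subgroup.mem_sup_left hb, c,
      Subgroup.mem_sup_left (signPart_le_borel C K _ _ hc), e⟩
  obtain ⟨v, hv, hn, p, hp, q, hq, e⟩ := Nat.find_spec hex
  refine ⟨v, hv, ?_, ?_, p, hp, q, hq, e⟩
  · intro k hkK hk
    by_contra hneg
    push Not at hneg
    have := card_descent_right C K hk hv hneg
    refine Nat.find_min hex (m := (negSet D T (v ++ [k])).card) (by omega)
      ⟨v ++ [k], hv.append (inW_single (J := K') hk hkK).1, rfl, p, hp, (nu C k)⁻¹ * q,
        mul_mem (inv_mem (by simpa [wnu] using mem_parabolic_of_word C K (F := F) (inW_single hk hkK))) hq, ?_⟩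
    rw [wnu_append, show wnu C F [k] = nu C k by simp [wnu], e]; group
  · intro k hkJ hk
    by_contra hneg
    push Not at hneg
    have := card_descent_left C K hk hv hneg
    refine Nat.find_min hex (m := (negSet D T (k :: v)).card) (by omega)
      ⟨k :: v, hv.cons hk, rfl, p * (nu C k)⁻¹,
        mul_mem hp (inv_mem (by simpa [wnu] using mem_parabolic_of_word C K (F := F) (inW_single hk hkJ))), q, hq, ?_⟩
    rw [wnu_cons, e]; group

theorem min_word_unique {J K' : Set ℕ} {v v' : List ℕ} (hv : IsWord D v) (hv' : IsWord D v')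
    (hR : RMin D T K' v) (hL : RMin D T J v.reverse) (hR' : RMin D T K' v') (hL' : RMin D T J v'.reverse)
    {p q : GL D.Idx F} (hp : p ∈ D.parabolicSubgroup F J) (hq : q ∈ D.parabolicSubgroup F K')
    (e : wnu C F v' = p * wnu C F v * q) : SamePerm D T v v' := by
  have h0 : wnu C F v ∈ pCells C F J v K' :=
    ⟨[], [], inW_nil J, inW_nil K', 1, one_mem _, 1, one_mem _, by simp⟩
  obtain ⟨a, b, ha, hb, hcell⟩ := e ▸ pCells_right C K hv (pCells_left C K hv h0 hp) hq
  exact two_sided_unique C K hv hv' hR hL hR' hL' _ a b le_rfl ha hb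
    (bCell_disjoint C K hv' (ha.1.append (hv.append hb.1)) ⟨1, one_mem _, 1, one_mem _, by simp⟩ hcell)

/-- A minimal word meets a coset of the parabolic subgroup in one coset of `B`. -/
theorem min_cell_inj {K' : Set ℕ} {v : List ℕ} (hv : IsWord D v) (hR : RMin D T K' v) {β : GL D.Idx F}
    (hβ : β ∈ D.borelSubgroup F) (h : (wnu C F v)⁻¹ * β * wnu C F v ∈ D.parabolicSubgroup F K') :
    (wnu C F v)⁻¹ * β * wnu C F v ∈ D.borelSubgroup F := by
  have h0 : (1 : GL D.Idx F) ∈ pCells C F K' [] (∅ : Set ℕ) :=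
    ⟨[], [], inW_nil _, inW_nil _, 1, one_mem _, 1, one_mem _, by simp [wnu]⟩
  obtain ⟨a, b, ha, hb, x, hx, y, hy, e⟩ := by
    have := pCells_left C K (fun _ h => absurd h List.not_mem_nil) h0 h
    rwa [mul_one] at this
  obtain rfl : b = [] := by
    cases b with
    | nil => rfl
    | cons i b => exact absurd (hb.2 i (List.mem_cons_self ..)) (Set.notMem_empty i)
  simp only [List.nil_append, List.append_nil] at e
  have h1 := bCell_mul C (one_mem (D.borelSubgroup F)) hy (bCell_add C K hv hR _ a le_rfl ha hx)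
  rw [one_mul, show wnu C F v * x * wnu C F a * y = wnu C F v * (x * wnu C F a * y) by group, ← e,
    show wnu C F v * ((wnu C F v)⁻¹ * β * wnu C F v) = β * wnu C F v by group] at h1
  have hsame := bCell_disjoint C K hv (hv.append ha.1) ⟨β, hβ, 1, one_mem _, by group⟩ h1
  have ha1 : ∀ s < D.nroots, wperm T a s = s := fun s hs => by
    have := hsame s hs
    rw [wperm_append] at this
    exact (wperm_inj C hv hs (wperm_lt C ha.1 hs) this).symm
  have hd : wnu C F a ∈ D.borelSubgroup F := Subgroup.mem_sup_right (by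
    have := same_of_perm C K (F := F) (fun _ h => absurd h List.not_mem_nil) ha.1
      fun k hk => (ha1 _ (C.spec.simp_lt k hk)).symm
    rwa [show wnu C F ([] : List ℕ) = 1 from List.prod_nil, inv_one, one_mul] at this)
  rw [e]
  exact mul_mem (mul_mem hx hd) hy

end Cells

end Cfsg.Lib.Chev
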