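import Mathlib
import Cfsg.Agent.Lib.Chev.BN

/-!
Perfectness.
-/

set_option autoImplicit false

namespace Cfsg.Lib.Chev

open Cfsg.Lie
open scoped commutatorElement

theorem ne_of_beq_false {a b : ℕ} (h : Nat.beq a b = false) : a ≠ b := by
  rintro rfl
  rw [Nat.beq_refl] at h
  exact Bool.noConfusion h

variable {D : ChevalleyDatum} {T : Tbl} {F : Type*} [Field F] (C : Cert D T)
include C

/-- A root whose root elements are products of commutators. -/
def InDerived (_C : Cert D T) (F : Type*) [Field F] (r : ℕ) : Prop :=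
  ∀ t : F, xg _C r t ∈ ⁅D.group F, D.group F⁆

theorem comm_xg_prod (K : CommCert D T) {r s : ℕ} (hr : r < D.nroots) (hs : s < D.nroots) (h1 : s ≠ r)
    (h2 : s ≠ T.neg r) (t u : F) :
    ⁅(xg C s u)⁻¹, (xg C r t)⁻¹⁆ =
      ((tTerms T r s).map fun c => xg C c.1 ((c.2.1 : F) * (-t) ^ c.2.2.1 * u ^ c.2.2.2)).prod := by
  have e : ∀ l : List (ℕ × F),
      (((l.map fun p => xg C p.1 p.2).prod : GL D.Idx F) : Matrix D.Idx D.Idx F) = D.wordMat F l := by
    intro l
    induction l with
    | nil => rfl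
    | cons p l ih => rw [List.map_cons, List.prod_cons, Units.val_mul, ih, coe_xg, wordMat_cons]
  have key : xg C s u * xg C r t = xg C r t * xg C s u * ((D.commWord F r s t u).map fun p => xg C p.1 p.2).prod := by
    refine Units.ext ?_
    rw [Units.val_mul, Units.val_mul, Units.val_mul, e, coe_xg, coe_xg]
    exact comm_formula K hr hs h1 h2 t u
  have hw : ((D.commWord F r s t u).map fun p => xg C p.1 p.2) =
      (tTerms T r s).map fun c => xg C c.1 ((c.2.1 : F) * (-t) ^ c.2.2.1 * u ^ c.2.2.2) := by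
    rw [ChevalleyDatum.commWord, commTerms_eq C hr hs, List.map_map]
    rfl
  rw [← hw, commutatorElement_def, inv_inv, inv_inv]
  calc (xg C s u)⁻¹ * (xg C r t)⁻¹ * xg C s u * xg C r t
      = (xg C r t * xg C s u)⁻¹ * (xg C s u * xg C r t) := by group
    _ = _ := by rw [key]; group

theorem inDerived_of_terms (K : CommCert D T) {r s k : ℕ} {c : ℤ} {rest : List (ℕ × ℤ × ℕ × ℕ)}
    (hr : r < D.nroots) (hs : s < D.nroots) (h1 : s ≠ r) (h2 : s ≠ T.neg r)
    (e : tTerms T r s = (k, c, 1, 1) :: rest) (hc : (c : F) ≠ 0)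
    (hrest : ∀ p ∈ rest, (p.2.1 : F) = 0 ∨ InDerived C F p.1) : InDerived C F k := by
  intro a
  have h := Subgroup.commutator_mem_commutator (inv_mem (xg_mem_group C s (1 : F)))
    (inv_mem (xg_mem_group C r (-(a * (c : F)⁻¹))))
  rw [comm_xg_prod C K hr hs h1 h2, e, List.map_cons, List.prod_cons] at h
  rw [Subgroup.mul_mem_cancel_right _ (list_prod_mem fun x hx => by
    obtain ⟨p, hp, rfl⟩ := List.mem_map.1 hx
    rcases hrest p hp with h0 | h0
    · rw [h0, zero_mul, zero_mul, xg_zero]; exact one_mem _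
    · exact h0 _)] at h
  have e' : (c : F) * (- -(a * (c : F)⁻¹)) ^ 1 * (1 : F) ^ 1 = a := by
    rw [neg_neg]; field_simp
  rwa [e'] at h

theorem inDerived_refl {i r : ℕ} (hi : i < D.rank) (hr : r < D.nroots) (h : InDerived C F r) :
    InDerived C F (T.refl' i r) := by
  intro t
  have e := nu_conj_xg C hi hr ((T.eta' i r : ℤ) * t : F)
  rw [← mul_assoc, eta_sq, one_mul] at e
  rw [← e]
  have hν : (nu C i : GL D.Idx F) ∈ D.group F := ng_mem_group C _ _
  have hx : xg C r ((T.eta' i r : ℤ) * t : F) ∈ ⁅D.group F, D.group F⁆ := h _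
  have hc := Subgroup.commutator_mem_commutator hν (xg_mem_group C r ((T.eta' i r : ℤ) * t : F))
  rw [commutatorElement_def] at hc
  simpa using mul_mem hc hx

theorem inDerived_of_sq {a : F} (ha : a ≠ 0) (ha2 : a ^ 2 ≠ 1) {r : ℕ} (hr : r < D.nroots) :
    InDerived C F r := by
  intro t
  have hh : hg C r a ∈ D.group F := diag_le_group C (hg_mem C hr ha)
  have h := Subgroup.commutator_mem_commutator hh (xg_mem_group C r (t / (a ^ 2 - 1)))
  rw [commutatorElement_def, hg_conj_xg C hr ha, xg_inv, xg_add] at h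
  have hd : a ^ 2 - 1 ≠ 0 := sub_ne_zero.2 ha2
  have e : a ^ 2 * (t / (a ^ 2 - 1)) + -(t / (a ^ 2 - 1)) = t := by field_simp; ring
  rwa [e] at h

theorem perfect_of_simple (h : ∀ i < D.rank, InDerived C F (T.simp' i)) : commutator ↥(D.group F) = ⊤ := by
  have hall : ∀ r < D.nroots, InDerived C F r :=
    C.root_induction h fun i hi r hr hr' => inDerived_refl C hi hr hr'
  have hle : D.group F ≤ ⁅D.group F, D.group F⁆ := by
    conv_lhs => rw [ChevalleyDatum.group]
    refine (Subgroup.closure_le _).2 ?_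
    rintro g ⟨r, t, e⟩
    rw [eq_xg C (show (g : Matrix D.Idx D.Idx F) = D.x F r.1 t from e.trans (by rw [ChevalleyDatum.x, dif_pos r.2]))]
    exact hall r.1 r.2 t
  refine Subgroup.map_injective (D.group F).subtype_injective ?_
  rw [commutator_def, Subgroup.map_commutator, ← MonoidHom.range_eq_map, Subgroup.range_subtype]
  exact le_antisymm ((Subgroup.commutator_le).2 fun a ha b hb => by
    rw [commutatorElement_def]; exact mul_mem (mul_mem (mul_mem ha hb) (inv_mem ha)) (inv_mem hb)) hle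

/-- One term with unit coefficient for each fundamental root. -/
noncomputable def chkClean (T : Tbl) (w : List (ℕ × ℕ)) : Bool :=
  allBelow (fun i =>
    let rs := w.getD i (0, 0)
    Nat.blt rs.1 T.nroots && (Nat.blt rs.2 T.nroots && (!Nat.beq rs.2 rs.1 && (!Nat.beq rs.2 (T.neg rs.1) &&
      (decide (tTerms T rs.1 rs.2 = [(T.simp' i, 1, 1, 1)]) ||
        decide (tTerms T rs.1 rs.2 = [(T.simp' i, -1, 1, 1)])))))) T.rank

theorem perfect_of_clean (K : CommCert D T) {w : List (ℕ × ℕ)} (h : chkClean T w = true) :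
    commutator ↥(D.group F) = ⊤ := by
  refine perfect_of_simple C fun i hi => ?_
  have := allBelow_iff.1 h i (C.spec.shape.rank_eq ▸ hi)
  simp only [Bool.and_eq_true, Bool.or_eq_true, Nat.blt_eq, Bool.not_eq_true', decide_eq_true_eq,
    C.spec.shape.nroots_eq] at this
  obtain ⟨hr, hs, h1, h2, he⟩ := this
  rcases he with he | he
  · exact inDerived_of_terms C K hr hs (ne_of_beq_false h1) (ne_of_beq_false h2) he (by simp) (by simp)
  · exact inDerived_of_terms C K hr hs (ne_of_beq_false h1) (ne_of_beq_false h2) he (by simp) (by simp)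

omit C in
theorem field_dichotomy (hF : ∃ a : F, a ≠ 0 ∧ a ≠ 1) : (∃ a : F, a ≠ 0 ∧ a ^ 2 ≠ 1) ∨ (3 : F) = 0 := by
  by_cases h : ∃ a : F, a ≠ 0 ∧ a ^ 2 ≠ 1
  · exact Or.inl h
  · push Not at h
    refine Or.inr ?_
    obtain ⟨a, ha, ha1⟩ := hF
    have hneg : a = -1 := (sq_eq_one_iff.1 (h a ha)).resolve_left ha1
    have h2 : (2 : F) ≠ 0 := fun e => ha1 (hneg.trans (by linear_combination -e))
    rcases sq_eq_one_iff.1 (h 2 h2) with e | e
    · exact absurd (show (1 : F) = 0 by linear_combination e) one_ne_zero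
    · linear_combination e

end Cfsg.Lib.Chev
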