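import Mathlib
import Cfsg.Agent.Lib.Chev.Perfect
import Cfsg.Agent.Lib.Chev.Borel

/-!
Checkers for the commutator quotient of the unipotent group.
-/

set_option autoImplicit false

namespace Cfsg.Lib.Chev

open Cfsg.Lie

/-- The coefficient vanishes in characteristic class `p` (`0` stands for all characteristics above `3`). -/
def wcZero (p : ℕ) (c : ℤ) : Bool := decide (c % (p : ℤ) = 0)

/-- The coefficient is a unit in characteristic class `p`. -/
def wcUnit (p : ℕ) (c : ℤ) : Bool := bif Nat.beq p 0 then decide (c ∈ [1, -1, 2, -2, 3, -3]) else !wcZero p c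

/-- The monomial of these exponents takes all values. -/
def wcCover (i j : ℕ) : Bool := Nat.beq i 1 || Nat.beq j 1 || Nat.beq i (j + 1) || Nat.beq j (i + 1)

/-- The terms not yet known to vanish. -/
def wcUnknown (p : ℕ) (known : List ℕ) (l : List (ℕ × ℤ × ℕ × ℕ)) : List (ℕ × ℤ × ℕ × ℕ) :=
  l.filter fun x => !wcZero p x.2.1 && !known.any (Nat.beq x.1)

/-- The first of two terms can be isolated by scaling. -/
def wcTwo (m : ℕ) (x y : ℕ × ℤ × ℕ × ℕ) : Bool :=
  let a := x.2.2.1 * y.2.2.2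
  let b := y.2.2.1 * x.2.2.2
  (Nat.blt a b && Nat.ble (b - a) m) || (Nat.blt b a && Nat.ble (a - b) m)

/-- One step: the root `k` dies in the commutator quotient. -/
def wcStep (T : Tbl) (p m : ℕ) (known : List ℕ) (e : ℕ × ℕ × ℕ) : Bool :=
  Nat.blt e.2.1 T.nroots && (Nat.blt e.2.2 T.nroots && (Nat.ble T.nroots (2 * e.2.1) &&
    (Nat.ble T.nroots (2 * e.2.2) && (!Nat.beq e.2.2 e.2.1 &&
      match wcUnknown p known (tTerms T e.2.1 e.2.2) with
      | [x] => Nat.beq x.1 e.1 && (wcUnit p x.2.1 && wcCover x.2.2.1 x.2.2.2)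
      | [x, y] =>
        (Nat.beq x.1 e.1 && (wcUnit p x.2.1 && (wcCover x.2.2.1 x.2.2.2 && wcTwo m x y))) ||
          (Nat.beq y.1 e.1 && (wcUnit p y.2.1 && (wcCover y.2.2.1 y.2.2.2 && wcTwo m y x)))
      | _ => false))))

/-- All non-fundamental positive roots die. -/
noncomputable def chkWC (T : Tbl) (p m : ℕ) : List (ℕ × ℕ × ℕ) → List ℕ → Bool
  | [], known => allBelow (fun r => Nat.blt (2 * r) T.nroots || (known.any (Nat.beq r) ||
      anyBelow (fun i => Nat.beq (T.simp' i) r) T.rank)) T.nroots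
  | e :: l, known => wcStep T p m known e && chkWC T p m l (e.1 :: known)

/-- Cocharacters separating two fundamental roots. -/
noncomputable def chkSep (T : Tbl) (m : ℕ) (l : List (ℕ × ℕ × List ℤ)) : Bool :=
  allBelow (fun j => allBelow (fun k => Nat.beq j k || l.any fun e => Nat.beq e.1 j && (Nat.beq e.2.1 k &&
    (decide (fval T e.2.2 (T.simp' k) = 0) && (Nat.ble 1 (fval T e.2.2 (T.simp' j)).natAbs &&
      Nat.ble (fval T e.2.2 (T.simp' j)).natAbs m)))) T.rank) T.rank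

/-- The data for weakly closed subgroups. -/
structure WCCert (T : Tbl) (m : ℕ) : Prop where
  two : ∃ l, chkWC T 2 m l [] = true
  three : ∃ l, chkWC T 3 m l [] = true
  zero : ∃ l, chkWC T 0 m l [] = true
  sep : ∃ l, chkSep T m l = true

variable {F : Type*} [Field F]

/-- The class of the characteristic. -/
def CharClass (F : Type*) [Field F] (p : ℕ) : Prop :=
  (p = 2 ∧ (2 : F) = 0) ∨ (p = 3 ∧ (3 : F) = 0) ∨ (p = 0 ∧ (2 : F) ≠ 0 ∧ (3 : F) ≠ 0)

theorem exists_charClass (F : Type*) [Field F] : ∃ p, CharClass F p := by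
  by_cases h2 : (2 : F) = 0
  · exact ⟨2, Or.inl ⟨rfl, h2⟩⟩
  by_cases h3 : (3 : F) = 0
  · exact ⟨3, Or.inr (Or.inl ⟨rfl, h3⟩)⟩
  exact ⟨0, Or.inr (Or.inr ⟨rfl, h2, h3⟩)⟩

theorem cast_eq_zero_of_wcZero {p : ℕ} (hp : CharClass F p) {c : ℤ} (h : wcZero p c = true) : (c : F) = 0 := by
  simp only [wcZero, decide_eq_true_eq] at h
  rcases hp with ⟨rfl, h'⟩ | ⟨rfl, h'⟩ | ⟨rfl, -, -⟩
  · obtain ⟨d, rfl⟩ := Int.dvd_of_emod_eq_zero h
    push_cast
    rw [h', zero_mul]
  · obtain ⟨d, rfl⟩ := Int.dvd_of_emod_eq_zero h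
    push_cast
    rw [h', zero_mul]
  · simp at h; simp [h]

theorem cast_ne_zero_of_wcUnit {p : ℕ} (hp : CharClass F p) {c : ℤ} (h : wcUnit p c = true) : (c : F) ≠ 0 := by
  rcases hp with ⟨rfl, h'⟩ | ⟨rfl, h'⟩ | ⟨rfl, h2, h3⟩
  · have h : c % 2 ≠ 0 := by simpa [wcUnit, wcZero] using h
    have e : c = 2 * (c / 2) + 1 := by omega
    rw [e]
    push_cast
    rw [h', zero_mul, zero_add]
    exact one_ne_zero
  · have h : c % 3 ≠ 0 := by simpa [wcUnit, wcZero] using h
    rcases (show c = 3 * (c / 3) + 1 ∨ c = 3 * (c / 3 + 1) - 1 by omega) with e | e <;> rw [e] <;> push_cast <;>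
      rw [h', zero_mul]
    · rw [zero_add]; exact one_ne_zero
    · rw [zero_sub]; exact neg_ne_zero.2 one_ne_zero
  · have h : c ∈ [(1 : ℤ), -1, 2, -2, 3, -3] := by simpa [wcUnit] using h
    simp only [List.mem_cons, List.not_mem_nil, or_false] at h
    rcases h with rfl | rfl | rfl | rfl | rfl | rfl <;> push_cast <;> simp [h2, h3]

theorem exists_mono_eq {i j : ℕ} (h : wcCover i j = true) {a : F} (ha : a ≠ 0) : ∃ x y : F, x ^ i * y ^ j = a := by
  simp only [wcCover, Bool.or_eq_true, Nat.beq_eq] at h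
  rcases h with ((rfl | rfl) | rfl) | rfl
  · exact ⟨a, 1, by simp⟩
  · exact ⟨1, a, by simp⟩
  · exact ⟨a, a⁻¹, by rw [pow_succ', inv_pow, mul_assoc, mul_inv_cancel₀ (pow_ne_zero _ ha), mul_one]⟩
  · exact ⟨a⁻¹, a, by rw [pow_succ, inv_pow, ← mul_assoc, inv_mul_cancel₀ (pow_ne_zero _ ha), one_mul]⟩

theorem exists_pow_ne_one [Finite F] {m : ℕ} (hm : 1 ≤ m) (h : m + 1 < Nat.card F) :
    ∃ l : F, l ≠ 0 ∧ l ^ m ≠ 1 := by
  obtain ⟨g, hg⟩ := IsCyclic.exists_ofOrder_eq_natCard (α := Fˣ)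
  refine ⟨g, g.ne_zero, fun e => ?_⟩
  have e' : g ^ m = 1 := Units.ext (by rw [Units.val_pow_eq_pow_val, e, Units.val_one])
  have := Nat.le_of_dvd hm (orderOf_dvd_of_pow_eq_one e')
  rw [hg, Nat.card_units] at this
  omega

theorem exists_sq_add_sq [Fintype F] (b : F) : ∃ x y : F, x ^ 2 + y ^ 2 = b := by
  by_cases h2 : ringChar F = 2
  · obtain ⟨x, hx⟩ := FiniteField.isSquare_of_char_two h2 b
    exact ⟨x, 0, by rw [hx]; ring⟩
  · obtain ⟨x, y, hxy⟩ := FiniteField.exists_root_sum_quadratic (f := (Polynomial.X ^ 2 : Polynomial F))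
      (g := Polynomial.X ^ 2 - Polynomial.C b) (Polynomial.degree_X_pow 2)
      (Polynomial.degree_X_pow_sub_C (by decide) _) (FiniteField.odd_card_of_char_ne_two h2)
    simp only [Polynomial.eval_sub, Polynomial.eval_pow, Polynomial.eval_X, Polynomial.eval_C] at hxy
    exact ⟨x, y, by linear_combination hxy⟩

end Cfsg.Lib.Chev
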