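import Mathlib
import Cfsg.Agent.Lib.Chev.WeakClosedChk
import Cfsg.Agent.Lib.Chev.ParabCosets
import Cfsg.Agent.Lib.PGroup.Basic

/-!
Weakly closed subgroups of the unipotent group.
-/

set_option autoImplicit false
set_option linter.unusedSectionVars false

namespace Cfsg.Lib.Chev

open Cfsg.Lie
open scoped commutatorElement

variable {D : ChevalleyDatum} {T : Tbl} {F : Type*} [Field F]

/-- A word in `W_J` making all positive roots of the subsystem negative. -/
theorem exists_long_inW (C : Cert D T) (K : FullCert D T) (J : Set ℕ) :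
    ∃ a, InW D J a ∧ ∀ s, D.InRootSub J s → D.nroots ≤ 2 * s → 2 * wperm T a s < D.nroots := by
  suffices h : ∀ (N : ℕ) (a : List ℕ), InW D J a → D.nroots - (negSet D T a).card = N →
      ∃ v, InW D J v ∧ ∀ s, D.InRootSub J s → D.nroots ≤ 2 * s → 2 * wperm T v s < D.nroots from
    h _ [] (inW_nil J) rfl
  intro N
  induction N using Nat.strong_induction_on with
  | _ N ih =>
    intro a ha hN
    by_cases hk : ∃ k ∈ J, k < D.rank ∧ D.nroots ≤ 2 * wperm T a (T.simp' k)
    · obtain ⟨k, hkJ, hk, hkp⟩ := hk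
      have ha' : InW D J (a ++ [k]) := ha.append (inW_single hk hkJ)
      refine ih _ ?_ (a ++ [k]) ha' rfl
      have hs := C.spec.simp_lt k hk
      have hneg : 2 * wperm T (a ++ [k]) (T.simp' k) < D.nroots := by
        rw [wperm_append, show wperm T [k] (T.simp' k) = T.neg (T.simp' k) from C.spec.refl_simple k hk,
          wperm_neg C ha.1 hs]
        by_contra hn
        have := (K.neg_pos_iff (wperm_lt C ha.1 hs)).1 (le_of_not_gt hn)
        omega
      have e := card_descent_right C K hk ha'.1 hneg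
      have hsame : SamePerm D T (a ++ [k] ++ [k]) a := fun s hs => by
        rw [List.append_assoc, wperm_append]
        exact congrArg (wperm T a) (C.spec.refl_refl k hk s hs)
      rw [negSet_congr hsame] at e
      have hle : (negSet D T (a ++ [k])).card ≤ D.nroots :=
        (Finset.card_filter_le _ _).trans (Finset.card_range _).le
      omega
    · push Not at hk
      refine ⟨a, ha, fun s hs hp => neg_of_forall C (wperm_lt C ha.1 hs.1) fun m hm => ?_⟩
      rw [coroot_wperm C ha.1 hs.1 m hm]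
      refine Finset.sum_nonpos fun k hkr => ?_
      rw [Finset.mem_range] at hkr
      by_cases hkJ : k ∈ J
      · exact mul_nonpos_of_nonneg_of_nonpos (coroot_nonneg C hs.1 hp hkr)
          (coroot_nonpos C (wperm_lt C ha.1 (C.spec.simp_lt k hkr)) (hk k hkJ hkr) hm)
      · rw [((inRootSub_iff C).1 hs).2 k hkr hkJ, zero_mul]

section

variable (C : Cert D T)
include C

theorem torusHom_conj_xg_weakClosed (c : Fin D.rank → Fˣ) {r : ℕ} (hr : r < D.nroots) (t : F) :
    torusHom D T F c * xg C r t * (torusHom D T F c)⁻¹ = xg C r (chr T D (extend' c) r * t) := by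
  rw [mul_inv_eq_iff_eq_mul]
  refine Units.ext ?_
  rw [Units.val_mul, Units.val_mul, coe_torusHom, coe_xg, coe_xg,
    scal_mul_x C.spec (extend' c) (fun j _ => extend'_ne c j) hr]

theorem chr_cochar (φ : List ℤ) (l : Fˣ) (r : ℕ) :
    chr T D (extend' fun i : Fin D.rank => l ^ φ.getD i 0) r = (l : F) ^ fval T φ r := by
  have key : ∀ n, n ≤ D.rank → ∏ j ∈ Finset.range n, extend' (fun i : Fin D.rank => l ^ φ.getD i 0) j ^ T.cartan j r =
      (l : F) ^ ((List.range n).map fun j => φ.getD j 0 * T.cartan j r).sum := by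
    intro n
    induction n with
    | zero => simp
    | succ n ih =>
      intro hn
      rw [Finset.prod_range_succ, ih (by omega), List.range_succ, List.map_append, List.sum_append, List.map_singleton,
        List.sum_singleton, extend', dif_pos (show n < D.rank by omega), Units.val_zpow_eq_zpow_val, ← zpow_mul,
        ← zpow_add₀ l.ne_zero]
  rw [chr, key _ le_rfl, fval, C.spec.shape.rank_eq]

/-- Root elements of positive roots inside `U`. -/
noncomputable def posElt (F : Type*) [Field F] (r : ℕ) (t : F) : ↥(D.posUnipotent F) :=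
  if h : r < D.nroots ∧ D.nroots ≤ 2 * r then ⟨xg C r t, xg_mem_pos C h.1 h.2 t⟩ else 1

theorem coe_posElt {r : ℕ} (h1 : r < D.nroots) (h2 : D.nroots ≤ 2 * r) (t : F) :
    (posElt C F r t : GL D.Idx F) = xg C r t := by rw [posElt, dif_pos ⟨h1, h2⟩]

theorem posElt_add (r : ℕ) (t u : F) : posElt C F r (t + u) = posElt C F r t * posElt C F r u := by
  unfold posElt
  split_ifs with h
  · exact Subtype.ext (xg_add C r t u).symm
  · exact (one_mul 1).symm

/-- Root elements in the commutator quotient of `U`. -/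
noncomputable def xiHom (F : Type*) [Field F] (r : ℕ) : F →+ Additive (Abelianization ↥(D.posUnipotent F)) :=
  AddMonoidHom.mk' (fun t => Additive.ofMul (Abelianization.of (posElt C F r t))) fun t u => by
    rw [posElt_add, map_mul, ofMul_mul]

theorem xiHom_apply (r : ℕ) (t : F) : xiHom C F r t = Additive.ofMul (Abelianization.of (posElt C F r t)) := rfl

theorem xi_rel (K : FullCert D T) {r s : ℕ} (hr : r < D.nroots) (hs : s < D.nroots) (hrp : D.nroots ≤ 2 * r)
    (hsp : D.nroots ≤ 2 * s) (hne : s ≠ r) (t u : F) :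
    ((tTerms T r s).map fun c => xiHom C F c.1 ((c.2.1 : F) * t ^ c.2.2.1 * u ^ c.2.2.2)).sum = 0 := by
  have h2 : s ≠ T.neg r := fun e => by
    rw [e, K.neg_pos_iff hr] at hsp
    omega
  have hpos : ∀ c ∈ tTerms T r s, c.1 < D.nroots ∧ D.nroots ≤ 2 * c.1 := by
    intro c hc
    obtain ⟨h1, h2, h3, h4⟩ := tTerms_lt C hr hs c hc
    refine ⟨h1, ?_⟩
    by_contra hn
    have hneg := fun'_neg' C h1 (by omega)
    have hf := fun'_linear C h4
    have f1 := fun'_pos C hr hrp
    have f2 := fun'_pos C hs hsp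
    have : (1 : ℤ) ≤ c.2.2.1 := by exact_mod_cast h2
    have : (1 : ℤ) ≤ c.2.2.2 := by exact_mod_cast h3
    nlinarith
  have e : ∀ l : List (ℕ × ℤ × ℕ × ℕ), (∀ c ∈ l, c.1 < D.nroots ∧ D.nroots ≤ 2 * c.1) →
      (((l.map fun c => posElt C F c.1 ((c.2.1 : F) * t ^ c.2.2.1 * u ^ c.2.2.2)).prod : ↥(D.posUnipotent F)) :
        GL D.Idx F) = (l.map fun c => xg C c.1 ((c.2.1 : F) * t ^ c.2.2.1 * u ^ c.2.2.2)).prod := by
    intro l
    induction l with
    | nil => intro _; rfl
    | cons c l ih =>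
      intro hl
      rw [List.map_cons, List.prod_cons, List.map_cons, List.prod_cons, Subgroup.coe_mul,
        coe_posElt C (hl c (List.mem_cons_self ..)).1 (hl c (List.mem_cons_self ..)).2,
        ih fun d hd => hl d (List.mem_cons_of_mem _ hd)]
  have key : ⁅(posElt C F s u)⁻¹, (posElt C F r (-t))⁻¹⁆ =
      ((tTerms T r s).map fun c => posElt C F c.1 ((c.2.1 : F) * t ^ c.2.2.1 * u ^ c.2.2.2)).prod := by
    refine Subtype.ext ?_
    have h := comm_xg_prod C K.comm hr hs hne h2 (-t) u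
    simp only [neg_neg] at h
    rw [e _ hpos, ← h, commutatorElement_def, commutatorElement_def]
    simp only [Subgroup.coe_mul, Subgroup.coe_inv, coe_posElt C hr hrp, coe_posElt C hs hsp]
  have h0 : Abelianization.of ⁅(posElt C F s u)⁻¹, (posElt C F r (-t))⁻¹⁆ = 1 := by
    rw [map_commutatorElement, commutatorElement_eq_one_iff_mul_comm, mul_comm]
  rw [key] at h0
  have hsum : ∀ l : List (ℕ × ℤ × ℕ × ℕ),
      (l.map fun c => xiHom C F c.1 ((c.2.1 : F) * t ^ c.2.2.1 * u ^ c.2.2.2)).sum = Additive.ofMul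
        (Abelianization.of ((l.map fun c => posElt C F c.1 ((c.2.1 : F) * t ^ c.2.2.1 * u ^ c.2.2.2)).prod)) := by
    intro l
    induction l with
    | nil => simp
    | cons c l ih => rw [List.map_cons, List.sum_cons, List.map_cons, List.prod_cons, ih, xiHom_apply, map_mul Abelianization.of, ofMul_mul]
  rw [hsum, h0, ofMul_one]

theorem xi_step (K : FullCert D T) {p m : ℕ} (hp : CharClass F p)
    (hm : ∀ n, 1 ≤ n → n ≤ m → ∃ l : F, l ≠ 0 ∧ l ^ n ≠ 1) {known : List ℕ}
    (hk : ∀ r ∈ known, ∀ a, xiHom C F r a = 0) {e : ℕ × ℕ × ℕ} (h : wcStep T p m known e = true) :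
    ∀ a, xiHom C F e.1 a = 0 := by
  obtain ⟨k, r, s⟩ := e
  simp only [wcStep, Bool.and_eq_true, Nat.blt_eq, Nat.ble_eq, Bool.not_eq_true', C.spec.shape.nroots_eq] at h
  obtain ⟨hr, hs, hrp, hsp, hne, h⟩ := h
  have hne := ne_of_beq_false hne
  have hred : ∀ t u : F, ((wcUnknown p known (tTerms T r s)).map fun c =>
      xiHom C F c.1 ((c.2.1 : F) * t ^ c.2.2.1 * u ^ c.2.2.2)).sum = 0 := by
    intro t u
    rw [← xi_rel C K hr hs hrp hsp hne t u]
    generalize tTerms T r s = l
    induction l with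
    | nil => rfl
    | cons c l ih =>
      rw [List.map_cons, List.sum_cons, ← ih, wcUnknown, List.filter_cons]
      split_ifs with hc
      · rw [List.map_cons, List.sum_cons]; rfl
      · have h0 : xiHom C F c.1 ((c.2.1 : F) * t ^ c.2.2.1 * u ^ c.2.2.2) = 0 := by
          simp only [Bool.and_eq_true, Bool.not_eq_true', not_and, Bool.not_eq_false] at hc
          cases hz : wcZero p c.2.1
          · obtain ⟨x, hx, hxe⟩ := List.any_eq_true.1 (hc hz)
            rw [Nat.eq_of_beq_eq_true hxe]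
            exact hk x hx _
          · rw [cast_eq_zero_of_wcZero hp hz, zero_mul, zero_mul, map_zero]
        rw [h0, zero_add]; rfl
  have single : ∀ (x : ℕ × ℤ × ℕ × ℕ) (b : F), wcUnit p x.2.1 = true → wcCover x.2.2.1 x.2.2.2 = true → b ≠ 0 →
      (∀ t u : F, xiHom C F x.1 ((x.2.1 : F) * b * (t ^ x.2.2.1 * u ^ x.2.2.2)) = 0) → ∀ a, xiHom C F x.1 a = 0 := by
    intro x b hu hc hb hx a
    rcases eq_or_ne a 0 with rfl | ha
    · exact map_zero _
    have hcne := mul_ne_zero (cast_ne_zero_of_wcUnit hp hu) hb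
    obtain ⟨t, u, htu⟩ := exists_mono_eq hc (div_ne_zero ha hcne)
    have := hx t u
    rwa [htu, mul_div_cancel₀ _ hcne] at this
  have two : ∀ x y : ℕ × ℤ × ℕ × ℕ, wcUnit p x.2.1 = true → wcCover x.2.2.1 x.2.2.2 = true → wcTwo m x y = true →
      (∀ t u : F, xiHom C F x.1 ((x.2.1 : F) * t ^ x.2.2.1 * u ^ x.2.2.2) +
        xiHom C F y.1 ((y.2.1 : F) * t ^ y.2.2.1 * u ^ y.2.2.2) = 0) → ∀ a, xiHom C F x.1 a = 0 := by
    intro x y hu hc h2 hxy
    simp only [wcTwo, Bool.or_eq_true, Bool.and_eq_true, Nat.blt_eq, Nat.ble_eq] at h2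
    set α := x.2.2.1 * y.2.2.2 with hα
    set β := y.2.2.1 * x.2.2.2 with hβ
    obtain ⟨n, hn1, hn2, hn⟩ : ∃ n, 1 ≤ n ∧ n ≤ m ∧ (α = β + n ∨ β = α + n) := by
      rcases h2 with ⟨h1, h2⟩ | ⟨h1, h2⟩
      · exact ⟨β - α, by omega, h2, Or.inr (by omega)⟩
      · exact ⟨α - β, by omega, h2, Or.inl (by omega)⟩
    obtain ⟨l, hl, hl1⟩ := hm n hn1 hn2
    have hd : l ^ α - l ^ β ≠ 0 := by
      rw [sub_ne_zero]
      rcases hn with e | e <;> rw [e, pow_add] <;> intro e'
      · exact hl1 (by simpa using (mul_left_cancel₀ (pow_ne_zero β hl) (e'.trans (mul_one _).symm)))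
      · exact hl1 (by simpa using (mul_left_cancel₀ (pow_ne_zero α hl) (e'.symm.trans (mul_one _).symm)))
    refine single x _ hu hc hd fun t u => ?_
    have h1 := hxy (l ^ y.2.2.2 * t) u
    have h3 := hxy t (l ^ y.2.2.1 * u)
    rw [mul_pow, ← pow_mul] at h1 h3
    rw [mul_pow, ← pow_mul] at h1 h3
    have e1 : (x.2.1 : F) * (l ^ (y.2.2.2 * x.2.2.1) * t ^ x.2.2.1) * u ^ x.2.2.2 -
        (x.2.1 : F) * t ^ x.2.2.1 * (l ^ (y.2.2.1 * x.2.2.2) * u ^ x.2.2.2) =
        (x.2.1 : F) * (l ^ α - l ^ β) * (t ^ x.2.2.1 * u ^ x.2.2.2) := by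
      rw [hα, hβ, mul_comm y.2.2.2]; ring
    have e2 : (y.2.1 : F) * (l ^ (y.2.2.2 * y.2.2.1) * t ^ y.2.2.1) * u ^ y.2.2.2 =
        (y.2.1 : F) * t ^ y.2.2.1 * (l ^ (y.2.2.1 * y.2.2.2) * u ^ y.2.2.2) := by
      rw [mul_comm y.2.2.2]; ring
    rw [← e1, map_sub, sub_eq_zero]
    rw [e2] at h1
    exact add_right_cancel (h1.trans h3.symm)
  revert h hred
  generalize wcUnknown p known (tTerms T r s) = l
  intro h hred
  rcases l with _ | ⟨x, _ | ⟨y, _ | ⟨z, l⟩⟩⟩
  · exact absurd h Bool.false_ne_true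
  · simp only [Bool.and_eq_true, Nat.beq_eq] at h
    obtain ⟨rfl, hu, hc⟩ := h
    refine single x 1 hu hc one_ne_zero fun t u => ?_
    have := hred t u
    rw [List.map_singleton, List.sum_singleton] at this
    rw [mul_one, ← mul_assoc]; exact this
  · simp only [Bool.or_eq_true, Bool.and_eq_true, Nat.beq_eq] at h
    rcases h with ⟨rfl, hu, hc, h2⟩ | ⟨rfl, hu, hc, h2⟩
    · exact two x y hu hc h2 fun t u => by simpa using hred t u
    · exact two y x hu hc h2 fun t u => by rw [add_comm]; simpa using hred t u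
  · exact absurd h Bool.false_ne_true

theorem xi_zero (K : FullCert D T) {p m : ℕ} (hp : CharClass F p)
    (hm : ∀ n, 1 ≤ n → n ≤ m → ∃ l : F, l ≠ 0 ∧ l ^ n ≠ 1) :
    ∀ (l : List (ℕ × ℕ × ℕ)) (known : List ℕ), (∀ r ∈ known, ∀ a, xiHom C F r a = 0) →
      chkWC T p m l known = true →
      ∀ r < D.nroots, D.nroots ≤ 2 * r → (∀ i < D.rank, T.simp' i ≠ r) → ∀ a, xiHom C F r a = 0
  | [], known, hk, h => by
    intro r hr hp hs
    simp only [chkWC, allBelow_iff, Bool.or_eq_true, Nat.blt_eq, C.spec.shape.nroots_eq, C.spec.shape.rank_eq] at h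
    rcases h r hr with h | h | h
    · omega
    · obtain ⟨x, hx, hxe⟩ := List.any_eq_true.1 h
      rw [Nat.eq_of_beq_eq_true hxe]
      exact hk x hx
    · obtain ⟨i, hi, he⟩ := exists_of_anyBelow h
      exact absurd (Nat.eq_of_beq_eq_true he) (hs i hi)
  | e :: l, known, hk, h => by
    rw [chkWC, Bool.and_eq_true] at h
    refine xi_zero K hp hm l (e.1 :: known) (fun r hr => ?_) h.2
    rcases List.mem_cons.1 hr with rfl | hr
    · exact xi_step C K hp hm hk h.1
    · exact hk r hr

theorem exists_simple_coord (K : FullCert D T) {j : ℕ} (hj : j < D.rank) :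
    ∃ π : ↥(D.posUnipotent F) →* Multiplicative F,
      (∀ u : ↥(D.posUnipotent F), π u = 1 → (u : GL D.Idx F) ∈ D.unipotentRadical F {j}) ∧
      (∀ r t, r ≠ T.simp' j → π (posElt C F r t) = 1) ∧
      ∀ t, π (posElt C F (T.simp' j) t) = Multiplicative.ofAdd t := by
  classical
  have hs := C.spec.simp_lt j hj
  have hJ := inRootSub_simple C hj (Set.mem_singleton j)
  have uniq : ∀ (v v' : GL D.Idx F) (t t' : F), v ∈ D.unipotentRadical F {j} → v' ∈ D.unipotentRadical F {j} →
      v * xg C (T.simp' j) t = v' * xg C (T.simp' j) t' → t = t' := by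
    intro v v' t t' hv hv' e
    have e' : v'⁻¹ * v = xg C (T.simp' j) (t' + -t) := by
      rw [← xg_add, ← xg_inv, eq_mul_inv_iff_mul_eq, mul_assoc, e, inv_mul_cancel_left]
    have h1 : xg C (T.simp' j) (t' + -t) = 1 := (Subgroup.eq_bot_iff_forall _).1 (radical_inf_levi C K {j}) _
      ⟨e' ▸ Subgroup.mul_mem _ (Subgroup.inv_mem _ hv') hv, xg_mem_levi C hJ _⟩
    linear_combination -(xg_eq_one C hs h1)
  let f : ↥(D.posUnipotent F) → F := fun u => (pos_decomp C K hj u.2).choose_spec.2.choose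
  have hf : ∀ u : ↥(D.posUnipotent F), ∃ v ∈ D.unipotentRadical F {j}, (u : GL D.Idx F) = v * xg C (T.simp' j) (f u) :=
    fun u => ⟨_, (pos_decomp C K hj u.2).choose_spec.1, (pos_decomp C K hj u.2).choose_spec.2.choose_spec⟩
  have hadd : ∀ u u', f (u * u') = f u + f u' := by
    intro u u'
    obtain ⟨v, hv, e⟩ := hf u
    obtain ⟨v', hv', e'⟩ := hf u'
    obtain ⟨w, hw, e''⟩ := hf (u * u')
    refine uniq w (v * (xg C (T.simp' j) (f u) * v' * (xg C (T.simp' j) (f u))⁻¹)) _ _ hw
      (mul_mem hv (xg_conj_radical C K hJ _ hv')) ?_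
    rw [← e'', Subgroup.coe_mul, e, e', ← xg_add]
    group
  refine ⟨MonoidHom.mk' (fun u => Multiplicative.ofAdd (f u)) (fun u u' => by rw [hadd, ofAdd_add]), ?_, ?_, ?_⟩
  · intro u hu
    have hu' : f u = 0 := hu
    obtain ⟨v, hv, e⟩ := hf u
    rw [e, hu', xg_zero, mul_one]; exact hv
  · intro r t hr
    show Multiplicative.ofAdd (f _) = 1
    rw [ofAdd_eq_one]
    obtain ⟨v, hv, e⟩ := hf (posElt C F r t)
    by_cases h : r < D.nroots ∧ D.nroots ≤ 2 * r
    · rw [coe_posElt C h.1 h.2] at e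
      refine uniq v (xg C r t) _ _ hv ?_ (by rw [xg_zero, mul_one, ← e])
      exact xg_mem_radical C h.1 h.2 (fun hJ' => hr (inRootSub_singleton C K hj hJ' h.2)) t
    · rw [posElt, dif_neg h, Subgroup.coe_one] at e
      exact uniq v 1 _ _ hv (one_mem _) (by rw [posElt, dif_neg h, xg_zero, mul_one, ← e])
  · intro t
    show Multiplicative.ofAdd (f _) = Multiplicative.ofAdd t
    obtain ⟨v, hv, e⟩ := hf (posElt C F (T.simp' j) t)
    rw [coe_posElt C hs (K.simple_pos hj)] at e
    exact congrArg Multiplicative.ofAdd (uniq v 1 _ t hv (one_mem _) (by rw [one_mul, ← e]))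

/-- The combination of fundamental root elements in the commutator quotient. -/
noncomputable def psiHom (F : Type*) [Field F] :
    (Fin D.rank → F) →+ Additive (Abelianization ↥(D.posUnipotent F)) :=
  ∑ k : Fin D.rank, (xiHom C F (T.simp' k)).comp (Pi.evalAddMonoidHom (fun _ : Fin D.rank => F) k)

theorem psiHom_apply (v : Fin D.rank → F) : psiHom C F v = ∑ k : Fin D.rank, xiHom C F (T.simp' k) (v k) := by
  simp [psiHom, AddMonoidHom.finsetSum_apply]

theorem psiHom_single (j : Fin D.rank) (t : F) : psiHom C F (Pi.single j t) = xiHom C F (T.simp' j) t := by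
  rw [psiHom_apply, Finset.sum_eq_single j]
  · rw [Pi.single_eq_same]
  · intro b _ hb; rw [Pi.single_eq_of_ne hb, map_zero]
  · simp

theorem psiHom_surj
    (hξ : ∀ r < D.nroots, D.nroots ≤ 2 * r → (∀ i < D.rank, T.simp' i ≠ r) → ∀ a : F, xiHom C F r a = 0)
    (u : ↥(D.posUnipotent F)) : ∃ v, psiHom C F v = Additive.ofMul (Abelianization.of u) := by
  suffices h : ∀ (x : GL D.Idx F) (hx : x ∈ D.posUnipotent F),
      Additive.ofMul (Abelianization.of ⟨x, hx⟩) ∈ (psiHom C F).range from h u.1 u.2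
  intro x hx
  induction hx using Subgroup.closure_induction with
  | mem x hx =>
    obtain ⟨r, t, hr, e⟩ := hx
    have hp := (C.isPos_iff hr.1).1 hr
    have he : (⟨x, Subgroup.subset_closure ⟨r, t, hr, e⟩⟩ : ↥(D.posUnipotent F)) = posElt C F r t :=
      Subtype.ext (by rw [coe_posElt C hr.1 hp]; exact eq_xg C e)
    rw [he, ← xiHom_apply]
    by_cases hs : ∀ i < D.rank, T.simp' i ≠ r
    · rw [hξ r hr.1 hp hs]; exact zero_mem _
    · push Not at hs
      obtain ⟨i, hi, rfl⟩ := hs
      exact ⟨Pi.single ⟨i, hi⟩ t, psiHom_single C ⟨i, hi⟩ t⟩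
  | one => exact zero_mem _
  | mul a b ha hb ha' hb' =>
    have := add_mem ha' hb'
    rwa [← ofMul_mul, ← map_mul] at this
  | inv a ha ha' =>
    have := neg_mem ha'
    rwa [← ofMul_inv, ← map_inv] at this

end

section Main

variable (C : Cert D T) (K : FullCert D T)
include C K

/-- The fundamental root elements outside `J` lie in `X` modulo the commutator subgroup. -/
theorem xi_mem_image [Fintype F] {m : ℕ} (hsep : ∃ l, chkSep T m l = true)
    (hm : ∀ n, 1 ≤ n → n ≤ m → ∃ l : F, l ≠ 0 ∧ l ^ n ≠ 1)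
    (hξ : ∀ r < D.nroots, D.nroots ≤ 2 * r → (∀ i < D.rank, T.simp' i ≠ r) → ∀ a : F, xiHom C F r a = 0)
    {X : Subgroup (GL D.Idx F)} (hXU : X ≤ D.posUnipotent F)
    (hHX : D.diagonalSubgroup F ≤ Subgroup.normalizer (X : Set (GL D.Idx F))) (j : Fin D.rank)
    (hj : ¬ X ≤ D.unipotentRadical F {(j : ℕ)}) (t : F) :
    xiHom C F (T.simp' j) t ∈
      Subgroup.toAddSubgroup ((X.subgroupOf (D.posUnipotent F)).map Abelianization.of) := by
  classical
  set W := (Subgroup.toAddSubgroup ((X.subgroupOf (D.posUnipotent F)).map Abelianization.of)).comap (psiHom C F)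
    with hW
  have scale : ∀ (c : Fin D.rank → Fˣ) (v : Fin D.rank → F), v ∈ W →
      (fun k : Fin D.rank => chr T D (extend' c) (T.simp' k) * v k) ∈ W := by
    intro c v hv
    obtain ⟨x, hx, hxe⟩ := Subgroup.mem_map.1 (show Additive.toMul (psiHom C F v) ∈ _ from hv)
    have hh : torusHom D T F c ∈ D.diagonalSubgroup F := by rw [← torusHom_range C]; exact ⟨c, rfl⟩
    let σ : ↥(D.posUnipotent F) →* ↥(D.posUnipotent F) := MonoidHom.mk'
      (fun u => ⟨torusHom D T F c * (u : GL D.Idx F) * (torusHom D T F c)⁻¹,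
        (Subgroup.mem_normalizer_iff.1 (diag_le_normalizer C hh) u).1 u.2⟩)
      (fun u u' => Subtype.ext (by simp only [Subgroup.coe_mul]; group))
    have hσ : ∀ (k : ℕ), k < D.rank → ∀ a : F,
        σ (posElt C F (T.simp' k) a) = posElt C F (T.simp' k) (chr T D (extend' c) (T.simp' k) * a) := by
      intro k hk a
      refine Subtype.ext ?_
      show torusHom D T F c * (posElt C F (T.simp' k) a : GL D.Idx F) * (torusHom D T F c)⁻¹ = _
      rw [coe_posElt C (C.spec.simp_lt k hk) (K.simple_pos hk), coe_posElt C (C.spec.simp_lt k hk) (K.simple_pos hk),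
        torusHom_conj_xg_weakClosed C c (C.spec.simp_lt k hk)]
    have hmap : psiHom C F (fun k : Fin D.rank => chr T D (extend' c) (T.simp' k) * v k) =
        MonoidHom.toAdditive (Abelianization.map σ) (psiHom C F v) := by
      rw [psiHom_apply, psiHom_apply, map_sum]
      refine Finset.sum_congr rfl fun k _ => ?_
      rw [xiHom_apply, xiHom_apply]
      show _ = Additive.ofMul (Abelianization.map σ (Abelianization.of _))
      rw [Abelianization.map_of, hσ k k.2]
    rw [hW, AddSubgroup.mem_comap, hmap]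
    show Additive.toMul (MonoidHom.toAdditive (Abelianization.map σ) (psiHom C F v)) ∈
      (X.subgroupOf (D.posUnipotent F)).map Abelianization.of
    refine Subgroup.mem_map.2 ⟨σ x, ?_, ?_⟩
    · exact (Subgroup.mem_normalizer_iff.1 (hHX hh) x).1 hx
    · show _ = Abelianization.map σ (Additive.toMul (psiHom C F v))
      rw [← hxe, Abelianization.map_of]
  obtain ⟨π, hπ0, hπ1, hπ2⟩ := exists_simple_coord (F := F) C K j.2
  obtain ⟨x, hx, hxn⟩ := SetLike.not_le_iff_exists.1 hj
  obtain ⟨v, hv⟩ := psiHom_surj C hξ ⟨x, hXU hx⟩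
  have hvW : v ∈ W := by
    rw [hW, AddSubgroup.mem_comap, hv]
    show Additive.toMul (Additive.ofMul (Abelianization.of _)) ∈ (X.subgroupOf (D.posUnipotent F)).map Abelianization.of
    exact Subgroup.mem_map.2 ⟨⟨x, hXU hx⟩, hx, rfl⟩
  have hvj : v j ≠ 0 := by
    intro h0
    apply hxn
    refine hπ0 ⟨x, hXU hx⟩ ?_
    have e := congrArg (MonoidHom.toAdditive (Abelianization.lift π)) hv
    rw [psiHom_apply, map_sum, Finset.sum_eq_zero] at e
    · exact e.symm
    · intro k _
      show Additive.ofMul (Abelianization.lift π (Abelianization.of (posElt C F (T.simp' k) (v k)))) = 0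
      rw [Abelianization.lift_apply_of]
      by_cases hk : k = j
      · subst hk; rw [hπ2, h0]; rfl
      · rw [hπ1 _ _ fun e => hk (Fin.ext (simp_inj C k.2 j.2 e))]; rfl
  obtain ⟨L, hL⟩ := hsep
  simp only [chkSep, allBelow_iff, Bool.or_eq_true, Nat.beq_eq, List.any_eq_true, Bool.and_eq_true, decide_eq_true_eq,
    Nat.ble_eq, C.spec.shape.rank_eq] at hL
  have iso : ∀ s : Finset (Fin D.rank), j ∉ s → ∃ w ∈ W, w j ≠ 0 ∧ ∀ k ∈ s, w k = 0 := by
    intro s
    induction s using Finset.induction with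
    | empty => exact fun _ => ⟨v, hvW, hvj, fun k hk => absurd hk (Finset.notMem_empty k)⟩
    | insert k s hks ih =>
      intro hjs
      obtain ⟨w, hw, hwj, hw0⟩ := ih fun h => hjs (Finset.mem_insert_of_mem h)
      have hjk : (j : ℕ) ≠ (k : ℕ) := fun e => hjs (by rw [Fin.ext e]; exact Finset.mem_insert_self ..)
      obtain ⟨e, -, -, -, hek, hej1, hej2⟩ := (hL j j.2 k k.2).resolve_left hjk
      obtain ⟨l, hl, hl1⟩ := hm _ hej1 hej2
      have hlz : l ^ fval T e.2.2 (T.simp' j) ≠ 1 := by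
        rcases Int.natAbs_eq (fval T e.2.2 (T.simp' j)) with e' | e' <;> rw [e']
        · rwa [zpow_natCast]
        · rwa [zpow_neg, zpow_natCast, ne_eq, inv_eq_one]
      let c : Fin D.rank → Fˣ := fun i => Units.mk0 l hl ^ e.2.2.getD i 0
      have hc : ∀ i : Fin D.rank, chr T D (extend' c) (T.simp' i) = l ^ fval T e.2.2 (T.simp' i) := fun i =>
        chr_cochar C e.2.2 (Units.mk0 l hl) (T.simp' i)
      refine ⟨_, sub_mem (scale c w hw) hw, ?_, fun i hi => ?_⟩
      · rw [Pi.sub_apply, hc, ← sub_one_mul]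
        exact mul_ne_zero (sub_ne_zero.2 hlz) hwj
      · rw [Pi.sub_apply, hc]
        rcases Finset.mem_insert.1 hi with rfl | hi
        · rw [hek, zpow_zero, one_mul, sub_self]
        · rw [hw0 i hi, mul_zero, sub_self]
  obtain ⟨w, hw, hwj, hw0⟩ := iso (Finset.univ.erase j) (Finset.notMem_erase j _)
  have hsq : ∀ μ : F, Pi.single j (μ ^ 2 * w j) ∈ W := by
    intro μ
    rcases eq_or_ne μ 0 with rfl | hμ
    · rw [zero_pow two_ne_zero, zero_mul, Pi.single_zero]; exact zero_mem _
    let c : Fin D.rank → Fˣ := fun i => if i = j then Units.mk0 μ hμ else 1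
    convert scale c w hw using 1
    funext k
    by_cases hk : k = j
    · subst hk
      rw [Pi.single_eq_same, chr, Finset.prod_eq_single (k : ℕ)]
      · simp only [extend', dif_pos k.2, c, Fin.eta, if_true, Units.val_mk0, C.spec.cart_simple _ k.2]
        rw [zpow_ofNat]
      · intro i hi hik
        rw [Finset.mem_range] at hi
        simp only [extend', dif_pos hi, c]
        rw [if_neg (fun e => hik (congrArg Fin.val e)), Units.val_one, one_zpow]
      · intro h; exact absurd (Finset.mem_range.2 k.2) h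
    · rw [Pi.single_eq_of_ne hk, hw0 k (Finset.mem_erase.2 ⟨hk, Finset.mem_univ k⟩), mul_zero]
  obtain ⟨a, b, hab⟩ := exists_sq_add_sq (t / w j)
  have htW : Pi.single j t ∈ W := by
    have := add_mem (hsq a) (hsq b)
    rwa [← Pi.single_add, ← add_mul, hab, div_mul_cancel₀ _ hwj] at this
  have := AddSubgroup.mem_comap.1 htW
  rwa [psiHom_single] at this

theorem weakly_closed_eq_radical [Fintype F] {m : ℕ} (hW : WCCert T m)
    (hm : ∀ n, 1 ≤ n → n ≤ m → ∃ l : F, l ≠ 0 ∧ l ^ n ≠ 1) (X : Subgroup (GL D.Idx F))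
    (hXU : X ≤ D.posUnipotent F)
    (hwc : ∀ g ∈ D.group F, X.map (MulAut.conj g).toMonoidHom ≤ D.posUnipotent F →
      X.map (MulAut.conj g).toMonoidHom = X) :
    ∃ J : Set ℕ, (∀ j ∈ J, j < D.rank) ∧ X = D.unipotentRadical F J := by
  classical
  have norm_of : ∀ g ∈ D.group F, (∀ x ∈ X, g * x * g⁻¹ ∈ D.posUnipotent F) →
      g ∈ Subgroup.normalizer (X : Set (GL D.Idx F)) := by
    intro g hg h
    have e := hwc g hg (by rintro _ ⟨x, hx, rfl⟩; exact h x hx)
    refine Subgroup.mem_normalizer_iff.2 fun y => ⟨fun hy => ?_, fun hy => ?_⟩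
    · have := Subgroup.mem_map_of_mem (MulAut.conj g).toMonoidHom hy
      rw [e] at this
      exact this
    · rw [← e] at hy
      obtain ⟨z, hz, hze⟩ := hy
      have : z = y := by
        have hze : g * z * g⁻¹ = g * y * g⁻¹ := hze
        exact mul_left_cancel (mul_right_cancel hze)
      rw [← this]; exact hz
  have hBU : D.borelSubgroup F ≤ Subgroup.normalizer (D.posUnipotent F : Set (GL D.Idx F)) :=
    sup_le Subgroup.le_normalizer (diag_le_normalizer C)
  have hBX : D.borelSubgroup F ≤ Subgroup.normalizer (X : Set (GL D.Idx F)) := fun b hb =>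
    norm_of b (borel_le_group C hb) fun x hx => (Subgroup.mem_normalizer_iff.1 (hBU hb) x).1 (hXU hx)
  let J : Set ℕ := {j | j < D.rank ∧ (nu C j : GL D.Idx F) ∈ Subgroup.normalizer (X : Set (GL D.Idx F))}
  refine ⟨J, fun j hj => hj.1, ?_⟩
  -- `X` lies in the radical
  have hle : X ≤ D.unipotentRadical F J := by
    obtain ⟨a, ha, hneg⟩ := exists_long_inW C K J
    have haX : wnu C F a ∈ Subgroup.normalizer (X : Set (GL D.Idx F)) := by
      refine list_prod_mem fun y hy => ?_
      obtain ⟨i, hi, rfl⟩ := List.mem_map.1 hy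
      exact (ha.2 i hi).2
    intro x hx
    have hev := nroots_even C
    have hxU := hXU hx
    rw [posUnipotent_eq C] at hxU
    obtain ⟨y, hy, c, hc, rfl⟩ := upper_split C K a (D.nroots / 2) (k := D.nroots / 2) (by omega) (by omega) hxU
    have h1 := (signPart_conj C K ha.1).2 hy
    have h2 := (signPart_conj C K ha.1).1 hc
    have h3 := hXU ((Subgroup.mem_normalizer_iff.1 haX _).1 hx)
    have h4 : wnu C F a * c * (wnu C F a)⁻¹ ∈ D.posUnipotent F := by
      have := mul_mem (inv_mem h1) h3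
      simpa [mul_assoc] using this
    have hc1 : c = 1 := by
      have := (Subgroup.eq_bot_iff_forall _).1 (borel_inf_neg C) _ ⟨Subgroup.mem_sup_left h4, h2⟩
      simpa using this
    rw [hc1, mul_one]
    refine (Subgroup.closure_le _).2 ?_ hy
    rintro _ ⟨r, t, hr1, hr2, hr3, rfl⟩
    refine xg_mem_radical C hr2 (by omega) (fun hJ => ?_) t
    have := hneg r hJ (by omega)
    have := of_decide_eq_false hr3
    omega
  refine le_antisymm hle ?_
  -- the commutator quotient
  obtain ⟨p, hp⟩ := exists_charClass F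
  have hξ : ∀ r < D.nroots, D.nroots ≤ 2 * r → (∀ i < D.rank, T.simp' i ≠ r) → ∀ a : F, xiHom C F r a = 0 := by
    obtain ⟨l, hl⟩ : ∃ l, chkWC T p m l [] = true := by
      rcases hp with ⟨rfl, -⟩ | ⟨rfl, -⟩ | ⟨rfl, -, -⟩
      exacts [hW.two, hW.three, hW.zero]
    exact xi_zero C K hp hm l [] (fun r hr => absurd hr List.not_mem_nil) hl
  set U := D.posUnipotent F with hU
  set X' := X.subgroupOf U with hX'
  set L' := (D.leviSubgroup F J).subgroupOf U with hL'
  have hgen : ∀ u : ↥U, u ∈ X' ⊔ L' ⊔ commutator ↥U := by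
    intro u
    rw [← Abelianization.ker_of, ← Subgroup.comap_map_eq, Subgroup.mem_comap]
    obtain ⟨v, hv⟩ := psiHom_surj C hξ u
    have : Additive.ofMul (Abelianization.of u) ∈ Subgroup.toAddSubgroup ((X' ⊔ L').map Abelianization.of) := by
      rw [← hv, psiHom_apply]
      refine sum_mem fun k _ => ?_
      by_cases hk : (k : ℕ) ∈ J
      · show Additive.toMul (xiHom C F (T.simp' k) (v k)) ∈ (X' ⊔ L').map Abelianization.of
        refine Subgroup.mem_map.2 ⟨posElt C F (T.simp' k) (v k), Subgroup.mem_sup_right ?_, rfl⟩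
        show (posElt C F (T.simp' k) (v k) : GL D.Idx F) ∈ D.leviSubgroup F J
        rw [coe_posElt C (C.spec.simp_lt k k.2) (K.simple_pos k.2)]
        exact xg_mem_levi C (inRootSub_simple C k.2 hk) _
      · have hk' : ¬ X ≤ D.unipotentRadical F {(k : ℕ)} := fun h => hk ⟨k.2, by
          refine norm_of _ (ng_mem_group C _ _) fun x hx => ?_
          exact radical_le_pos C _ ((Subgroup.mem_normalizer_iff.1
            (levi_le_normalizer C K _ (nu_mem_levi C k.2 (Set.mem_singleton _))) x).1 (h hx))⟩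
        show Additive.toMul (xiHom C F (T.simp' k) (v k)) ∈ (X' ⊔ L').map Abelianization.of
        exact Subgroup.map_mono le_sup_left
          (xi_mem_image C K hW.sep hm hξ hXU (le_sup_right.trans hBX) k hk' (v k))
    exact this
  -- Frattini
  obtain ⟨q, hq⟩ := CharP.exists F
  have : Fact q.Prime := ⟨CharP.char_is_prime F q⟩
  have hpg : IsPGroup q ↥U := by
    obtain ⟨n, -, hn⟩ := FiniteField.card F q
    refine IsPGroup.of_card (n := (n : ℕ) * (D.nroots / 2)) ?_
    rw [hU, card_pos C K, Nat.card_eq_fintype_card, hn, ← pow_mul]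
  have htop : X' ⊔ L' = ⊤ := frattini_nongenerating (top_le_iff.1 fun u _ =>
    sup_le_sup_left (Cfsg.Lib.PGroup.commutator_le_frattini hpg) _ (hgen u))
  have hnorm : X'.Normal := ⟨fun x hx g =>
    (Subgroup.mem_normalizer_iff.1 (hBX (Subgroup.mem_sup_left g.2)) x).1 hx⟩
  intro u hu
  have hmem : (⟨u, radical_le_pos C J hu⟩ : ↥U) ∈ X' ⊔ L' := by rw [htop]; exact Subgroup.mem_top _
  rw [Subgroup.mem_sup_of_normal_left] at hmem
  obtain ⟨x, hx, l, hl, e⟩ := hmem
  have e' : u = (x : GL D.Idx F) * (l : GL D.Idx F) := by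
    rw [← Subgroup.coe_mul, e]
  have hl1 : (l : GL D.Idx F) = 1 := (Subgroup.eq_bot_iff_forall _).1 (radical_inf_levi C K J) _
    ⟨by
      have := Subgroup.mul_mem _ (Subgroup.inv_mem _ (hle (show (x : GL D.Idx F) ∈ X from hx))) hu
      rwa [e', inv_mul_cancel_left] at this, hl⟩
  rw [e', hl1, mul_one]
  exact hx

end Main

end Cfsg.Lib.Chev
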