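import Mathlib
import Cfsg.Agent.Lib.Chev.NormalForm

/-!
Field automorphisms of finite fields and of the groups.
-/

set_option autoImplicit false
set_option linter.unusedSectionVars false

namespace Cfsg.Lib.Chev

open Cfsg.Lie

universe u

/-- A bare finite carrier for transported fields. -/
structure FinCarrier (n : ℕ) : Type where
  /-- The index. -/
  idx : Fin n

/-- The carrier as `Fin n`. -/
def finCarrierEquiv (n : ℕ) : FinCarrier n ≃ Fin n :=
  ⟨FinCarrier.idx, FinCarrier.mk, fun _ => rfl, fun _ => rfl⟩

/-- The fixed field of an automorphism of a finite field, with its degree. -/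
theorem exists_fixed_field {F : Type u} [Field F] [Fintype F] (σ : RingAut F) :
    ∃ (F₀ : Type) (_ : Field F₀) (_ : Fintype F₀) (ι : F₀ →+* F),
      (∀ t, σ t = t ↔ t ∈ ι.range) ∧ Fintype.card F = Fintype.card F₀ ^ orderOf σ := by
  classical
  have : Finite (RingAut F) := Finite.of_injective (fun e : RingAut F => (e : F → F)) DFunLike.coe_injective
  let G := Subgroup.zpowers σ
  have : Fintype ↥G := Fintype.ofFinite _
  let S : Subfield F := FixedPoints.subfield ↥G F
  have : Fintype ↥S := Fintype.ofFinite _
  let e := (finCarrierEquiv (Fintype.card ↥S)).trans (Fintype.equivFin ↥S).symm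
  letI : Field (FinCarrier (Fintype.card ↥S)) := e.field
  letI : Fintype (FinCarrier (Fintype.card ↥S)) := Fintype.ofEquiv _ e.symm
  refine ⟨FinCarrier (Fintype.card ↥S), inferInstance, inferInstance, S.subtype.comp e.ringEquiv.toRingHom, fun t => ?_, ?_⟩
  · constructor
    · intro ht
      have hS : t ∈ S := by
        show ∀ g : ↥G, g • t = t
        rintro ⟨g, n, rfl⟩
        show (σ ^ n) • t = t
        have h1 : σ ∈ MulAction.stabilizer (RingAut F) t := ht
        exact zpow_mem h1 n
      exact ⟨e.ringEquiv.symm ⟨t, hS⟩, by simp⟩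
    · rintro ⟨s, rfl⟩
      exact (e.ringEquiv s).2 ⟨σ, Subgroup.mem_zpowers σ⟩
  · have h1 : Module.finrank ↥S F = Fintype.card ↥G := FixedPoints.finrank_eq_card ↥G F
    have h2 := Module.card_eq_pow_finrank (K := ↥S) (V := F)
    rw [h2, h1, Fintype.card_congr e, ← Nat.card_eq_fintype_card (α := ↥G), Nat.card_zpowers]

variable {D : ChevalleyDatum} {T : Tbl} {F : Type*} [Field F] (C : Cert D T)
include C

theorem xg_injective {r : ℕ} (hr : r < D.nroots) : Function.Injective (xg C r : F → GL D.Idx F) := fun t u h => by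
  refine sub_eq_zero.1 (coroot_primitive C hr fun m hm => ?_)
  have e := congrArg (fun g : GL D.Idx F => (g : Matrix D.Idx D.Idx F) (Sum.inl ⟨m, hm⟩)
    (Sum.inr ⟨_, C.spec.neg_lt _ hr⟩)) h
  simp only [coe_xg] at e
  rw [x_inl_inr C.spec hr, if_pos rfl, x_inl_inr C.spec hr, if_pos rfl] at e
  linear_combination e

end Cfsg.Lib.Chev
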