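import Mathlib
import Cfsg.Prelude.Def_ChevAutomorphisms
import Cfsg.Agent.Lib.Chev.FullAll
import Cfsg.Agent.Lib.Chev.Descent
import Cfsg.Agent.Lib.Chev.DescentField

/-!
Fixed points of field automorphisms of the Chevalley groups.
-/

set_option autoImplicit false
set_option linter.unusedSectionVars false

namespace Cfsg.Lib.Chev

open Cfsg.Lie

variable {D : ChevalleyDatum} {T : Tbl} {F : Type*} [Field F] (C : Cert D T)
include C

/-- The data of a field automorphism. -/
theorem fieldAut_eq_map {φ : ↥(D.group F) ≃* ↥(D.group F)} {σ : F ≃+* F}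
    (hσ : ∀ (g : ↥(D.group F)) (r : ℕ) (t : F), r < D.nroots →
      ((g : GL D.Idx F) : Matrix D.Idx D.Idx F) = D.x F r t →
        ((φ g : GL D.Idx F) : Matrix D.Idx D.Idx F) = D.x F r (σ t))
    (g : ↥(D.group F)) : (φ g : GL D.Idx F) = Matrix.GeneralLinearGroup.map σ.toRingHom (g : GL D.Idx F) := by
  obtain ⟨g, hg⟩ := g
  induction hg using Subgroup.closure_induction with
  | mem x hx =>
    obtain ⟨r, t, e⟩ := hx
    have hx' : x = xg C r.1 t := eq_xg C (e.trans (by rw [ChevalleyDatum.x, dif_pos r.2]))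
    subst hx'
    exact (eq_xg C (hσ _ r.1 t r.2 rfl)).trans (map_xg C σ.toRingHom r.1 t).symm
  | one => exact (congrArg Subtype.val (map_one φ)).trans (map_one _).symm
  | mul a b ha hb iha ihb =>
    rw [show (⟨a * b, mul_mem ha hb⟩ : ↥(D.group F)) = ⟨a, ha⟩ * ⟨b, hb⟩ from rfl, map_mul, Subgroup.coe_mul, iha, ihb]
    exact (map_mul _ a b).symm
  | inv a ha iha =>
    rw [show (⟨a⁻¹, inv_mem ha⟩ : ↥(D.group F)) = ⟨a, ha⟩⁻¹ from rfl, map_inv, Subgroup.coe_inv, iha]
    exact (map_inv _ a).symm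

theorem fieldAut_pow {φ : MulAut ↥(D.group F)} {σ : RingAut F}
    (hφ : ∀ g : ↥(D.group F), (φ g : GL D.Idx F) = Matrix.GeneralLinearGroup.map σ.toRingHom (g : GL D.Idx F))
    (n : ℕ) : ∀ g : ↥(D.group F),
      ((φ ^ n) g : GL D.Idx F) = Matrix.GeneralLinearGroup.map (σ ^ n).toRingHom (g : GL D.Idx F) := by
  induction n with
  | zero => intro g; exact Units.ext (Matrix.ext fun _ _ => rfl)
  | succ n ih =>
    intro g
    rw [pow_succ, pow_succ, MulAut.mul_apply, ih, hφ]
    exact Units.ext (Matrix.ext fun _ _ => rfl)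

theorem fieldAut_orderOf (hn : 0 < D.nroots) {φ : MulAut ↥(D.group F)} {σ : RingAut F}
    (hφ : ∀ g : ↥(D.group F), (φ g : GL D.Idx F) = Matrix.GeneralLinearGroup.map σ.toRingHom (g : GL D.Idx F)) :
    orderOf σ = orderOf φ := by
  refine orderOf_eq_orderOf_iff.2 fun n => ⟨fun h => ?_, fun h => ?_⟩
  · ext g i j
    rw [fieldAut_pow C hφ, h]
    rfl
  · refine RingEquiv.ext fun t => ?_
    have e := fieldAut_pow C hφ n ⟨xg C 0 t, xg_mem_group C 0 t⟩
    rw [h, map_xg] at e
    exact (xg_injective C hn e).symm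

variable (K : FullCert D T)
include K

/-- The fixed subgroup of a field automorphism with injective torus parameters. -/
theorem fieldAut_fixed_equiv [Fintype F] (hn : 0 < D.nroots) (hinj : Function.Injective (torusHom D T F))
    {φ : MulAut ↥(D.group F)} (hφ : D.IsFieldAut φ) :
    ∃ (F₀ : Type) (_ : Field F₀) (_ : Fintype F₀), Fintype.card F = Fintype.card F₀ ^ orderOf φ ∧
      ∀ S : Subgroup ↥(D.group F), (∀ g, g ∈ S ↔ φ g = g) → Nonempty (↥S ≃* ↥(D.group F₀)) := by
  obtain ⟨σ, hσ⟩ := hφ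
  have hmap := fieldAut_eq_map C hσ
  obtain ⟨F₀, i1, i2, ι, hι, hcard⟩ := exists_fixed_field σ
  refine ⟨F₀, i1, i2, by rw [← fieldAut_orderOf C hn hmap]; exact hcard, fun S hS => ?_⟩
  have hι' : ∀ t, σ.toRingHom t = t ↔ t ∈ ι.range := hι
  have e : S.map (D.group F).subtype = (D.group F₀).map (Matrix.GeneralLinearGroup.map ι) := by
    rw [← fixedRoots_eq_map C σ.toRingHom ι hι']
    refine le_antisymm ?_ fun g hg => ?_
    · rintro _ ⟨g, hg, rfl⟩
      exact (fixed_eq C σ.toRingHom K hinj).2 ⟨g.2, (hmap g).symm.trans (congrArg Subtype.val ((hS g).1 hg))⟩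
    · obtain ⟨h1, h2⟩ := (fixed_eq C σ.toRingHom K hinj).1 hg
      exact ⟨⟨g, h1⟩, (hS _).2 (Subtype.ext ((hmap _).trans h2)), rfl⟩
  exact ⟨((S.equivMapOfInjective (D.group F).subtype Subtype.val_injective).trans (MulEquiv.subgroupCongr e)).trans
    ((D.group F₀).equivMapOfInjective (Matrix.GeneralLinearGroup.map ι) (map_gl_injective ι)).symm⟩

omit K in
/-- An integral matrix inverting the Cartan matrix up to a scalar `N` bounds the kernel of the parametrisation. -/
theorem torusHom_injective_scalar {M : Matrix (Fin D.rank) (Fin D.rank) ℤ} {N : ℕ}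
    (hM : M * cartanMat D T = Matrix.diagonal fun _ => (N : ℤ)) (hN : ∀ x : Fˣ, x ^ N = 1 → x = 1) :
    Function.Injective (torusHom D T F) := by
  rw [injective_iff_map_eq_one]
  intro z hz
  have h : z ∈ (torusHom D T F).ker := hz
  rw [torusHom_ker C, MonoidHom.mem_ker] at h
  have h2 : powHom (M * cartanMat D T) z = 1 := by rw [powHom_mul, MonoidHom.comp_apply, h, map_one]
  rw [hM] at h2
  funext i
  exact hN _ ((powHom_diagonal (fun _ => N) z i).symm.trans (congrFun h2 i))

omit K C in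
/-- The root coefficients as a matrix. -/
def phiMat (D : ChevalleyDatum) (l : List (List ℤ)) : Matrix (Fin D.rank) (Fin D.rank) ℤ :=
  Matrix.of fun i j => (l.getD i []).getD j 0

omit K C

theorem inv_E8 : phiMat chevE8 phiE8 * cartanMat chevE8 tblE8 = Matrix.diagonal fun _ => ((1 : ℕ) : ℤ) := by
  decide +kernel

theorem inv_G2 : (phiMat chevG2 phiG2).transpose * cartanMat chevG2 tblG2 = Matrix.diagonal fun _ => ((1 : ℕ) : ℤ) := by
  decide +kernel

theorem inv_F4 : (phiMat chevF4 phiF4).transpose * cartanMat chevF4 tblF4 = Matrix.diagonal fun _ => ((1 : ℕ) : ℤ) := by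
  decide +kernel

theorem inv_B2 : (phiMat chevB2 phiB2).transpose * cartanMat chevB2 tblB2 = Matrix.diagonal fun _ => ((2 : ℕ) : ℤ) := by
  decide +kernel

theorem inv_D4 : phiMat chevD4 phiD4 * cartanMat chevD4 tblD4 = Matrix.diagonal fun _ => ((2 : ℕ) : ℤ) := by
  decide +kernel

theorem inv_E7 : phiMat chevE7 phiE7 * cartanMat chevE7 tblE7 = Matrix.diagonal fun _ => ((2 : ℕ) : ℤ) := by
  decide +kernel

end Cfsg.Lib.Chev
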