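import Cfsg.Agent.Lib.Chev.TorusData
import Cfsg.Agent.Lib.Chev.BN
import Cfsg.Agent.Lib.Chev.DescentField
import Cfsg.Agent.Lib.Chev.Sylow

/-!
Automorphisms of a finite Chevalley group: after an inner adjustment the two maximal unipotent subgroups are fixed, and
then the root subgroups of the fundamental roots and their negatives are permuted.
-/

set_option autoImplicit false
set_option linter.unusedSectionVars false

namespace Cfsg.Lib.Chev

open Cfsg.Lie

variable {D : ChevalleyDatum} {T : Tbl} {F : Type*} [Field F]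

/-- An element of a root subgroup inside the group. -/
noncomputable def autEl (C : Cert D T) (r : ℕ) (t : F) : ↥(D.group F) := ⟨xg C r t, xg_mem_group C r t⟩

/-- The automorphism keeps membership in `S`. -/
def AutKeeps {G : Type*} [Group G] (θ : G ≃* G) (S : Subgroup G) : Prop := ∀ g, θ g ∈ S ↔ g ∈ S

theorem AutKeeps.normalizer {G : Type*} [Group G] {θ : G ≃* G} {S : Subgroup G} (h : AutKeeps θ S) :
    AutKeeps θ (Subgroup.normalizer (S : Set G)) := fun g => by
  rw [Subgroup.mem_normalizer_iff, Subgroup.mem_normalizer_iff]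
  refine ⟨fun hg x => ?_, fun hg x => ?_⟩
  · rw [← h x, hg (θ x), ← h (g * x * g⁻¹), map_mul, map_mul, map_inv]
  · obtain ⟨y, rfl⟩ := θ.surjective x
    rw [h y, hg y, ← map_inv, ← map_mul, ← map_mul, h]

theorem AutKeeps.inf {G : Type*} [Group G] {θ : G ≃* G} {S S' : Subgroup G} (h : AutKeeps θ S) (h' : AutKeeps θ S') :
    AutKeeps θ (S ⊓ S') := fun g => by rw [Subgroup.mem_inf, Subgroup.mem_inf, h g, h' g]

/-- Conjugation carries a generated subgroup into a subgroup containing the images of the generators. -/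
theorem conj_closure_mem {G : Type*} [Group G] {a : G} {gens : Set G} {S : Subgroup G}
    (h : ∀ g ∈ gens, a * g * a⁻¹ ∈ S) {y : G} (hy : y ∈ Subgroup.closure gens) : a * y * a⁻¹ ∈ S :=
  (Subgroup.closure_le (K := S.comap (MulAut.conj a).toMonoidHom)).2 h hy

/-- An opposition word with the induced permutation of the nodes. -/
structure OppWord (D : ChevalleyDatum) (T : Tbl) (w : List ℕ) (τ : Fin D.rank → Fin D.rank) : Prop where
  word : IsWord D w
  simple : ∀ i : Fin D.rank, wperm T w (T.simp' i) = T.neg (T.simp' (τ i))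

section

variable (C : Cert D T)
include C

theorem OppWord.tau_injective {w : List ℕ} {τ : Fin D.rank → Fin D.rank} (O : OppWord D T w τ) :
    Function.Injective τ := fun i j h =>
  Fin.ext (simp_inj C i.2 j.2 (wperm_inj C O.word (C.spec.simp_lt i i.2) (C.spec.simp_lt j j.2)
    (by rw [O.simple i, O.simple j, h])))

variable (K : FullCert D T)
include K

theorem OppWord.all_neg {w : List ℕ} {τ : Fin D.rank → Fin D.rank} (O : OppWord D T w τ) {s : ℕ} (hs : s < D.nroots)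
    (hp : D.nroots ≤ 2 * s) : 2 * wperm T w s < D.nroots := by
  refine all_neg_of_simple C O.word (fun k hk => ?_) (s := s) hs hp
  have h := O.simple ⟨k, hk⟩
  rw [h]
  exact lt_of_not_ge fun hle =>
    absurd ((K.neg_pos_iff (C.spec.simp_lt _ (τ ⟨k, hk⟩).2)).1 hle) (not_lt.2 (K.simple_pos (τ ⟨k, hk⟩).2))

/-- A word sending every positive root to a negative one exchanges `U` and `V`. -/
theorem allNeg_conj {w : List ℕ} (hw : IsWord D w)
    (hneg : ∀ s < D.nroots, D.nroots ≤ 2 * s → 2 * wperm T w s < D.nroots) {x : GL D.Idx F} :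
    (x ∈ D.posUnipotent F → wnu C F w * x * (wnu C F w)⁻¹ ∈ D.negUnipotent F) ∧
    (x ∈ D.negUnipotent F → wnu C F w * x * (wnu C F w)⁻¹ ∈ D.posUnipotent F) ∧
    (x ∈ D.posUnipotent F → (wnu C F w)⁻¹ * x * wnu C F w ∈ D.negUnipotent F) ∧
    (x ∈ D.negUnipotent F → (wnu C F w)⁻¹ * x * wnu C F w ∈ D.posUnipotent F) := by
  have hev := nroots_even C
  have hrev : ∀ s < D.nroots, D.nroots ≤ 2 * s → 2 * wperm T w.reverse s < D.nroots := fun s hs hp => by
    by_contra hn
    have h := hneg _ (wperm_lt C hw.reverse hs) (by omega)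
    have e := wperm_reverse C hw.reverse hs
    rw [List.reverse_reverse] at e
    rw [e] at h
    omega
  have hnegneg : ∀ (v : List ℕ), IsWord D v → (∀ s < D.nroots, D.nroots ≤ 2 * s → 2 * wperm T v s < D.nroots) →
      ∀ s < D.nroots, 2 * s < D.nroots → D.nroots ≤ 2 * wperm T v s := fun v hv h s hs hn => by
    have h' := h _ (C.spec.neg_lt s hs) ((K.neg_pos_iff hs).2 hn)
    rw [wperm_neg C hv hs] at h'
    by_contra hc
    have := (K.neg_pos_iff (wperm_lt C hv hs)).2 (by omega)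
    omega
  have hUV : ∀ y ∈ D.posUnipotent F, wnu C F w * y * (wnu C F w)⁻¹ ∈ D.negUnipotent F := fun y hy => by
    refine conj_closure_mem ?_ hy
    rintro g ⟨r, t, hr, e⟩
    obtain ⟨c, -, hct⟩ := wnu_conj_xg C (F := F) hw hr.1
    rw [eq_xg C e, hct]
    exact xg_mem_neg C (wperm_lt C hw hr.1) (hneg r hr.1 ((C.isPos_iff hr.1).1 hr)) _
  have hVU : ∀ y ∈ D.negUnipotent F, wnu C F w * y * (wnu C F w)⁻¹ ∈ D.posUnipotent F := fun y hy => by
    refine conj_closure_mem ?_ hy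
    rintro g ⟨r, t, hr, e⟩
    obtain ⟨c, -, hct⟩ := wnu_conj_xg C (F := F) hw hr.1
    rw [eq_xg C e, hct]
    exact xg_mem_pos C (wperm_lt C hw hr.1) (hnegneg w hw hneg r hr.1 ((C.isNeg_iff hr.1).1 hr)) _
  have hinv : ∀ {S S' : Subgroup (GL D.Idx F)} (gens : Set (GL D.Idx F)), S = Subgroup.closure gens →
      (∀ g ∈ gens, (wnu C F w)⁻¹ * g * wnu C F w ∈ S') → ∀ y ∈ S, (wnu C F w)⁻¹ * y * wnu C F w ∈ S' := by
    intro S S' gens hS hg y hy
    have : S ≤ S'.comap (MulAut.conj (wnu C F w)⁻¹).toMonoidHom := by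
      rw [hS, Subgroup.closure_le]
      intro g hg'
      show (wnu C F w)⁻¹ * g * (wnu C F w)⁻¹⁻¹ ∈ S'
      rw [inv_inv]; exact hg g hg'
    have h := this hy
    simpa using h
  have hpre : ∀ r < D.nroots, ∀ t : F, ∃ t', (wnu C F w)⁻¹ * xg C r t * wnu C F w = xg C (wperm T w.reverse r) t' := by
    intro r hr t
    obtain ⟨c, hc, hct⟩ := wnu_conj_xg C (F := F) hw (wperm_lt C hw.reverse hr)
    refine ⟨c * t, ?_⟩
    have e := wperm_reverse C hw.reverse hr
    rw [List.reverse_reverse] at e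
    have := hct (c * t)
    rw [← mul_assoc, hc, one_mul, e] at this
    rw [← this]; group
  refine ⟨hUV x, hVU x, hinv _ rfl ?_ x, hinv _ rfl ?_ x⟩
  · rintro g ⟨r, t, hr, e⟩
    obtain ⟨t', h⟩ := hpre r hr.1 t
    rw [eq_xg C e, h]
    exact xg_mem_neg C (wperm_lt C hw.reverse hr.1) (hrev r hr.1 ((C.isPos_iff hr.1).1 hr)) _
  · rintro g ⟨r, t, hr, e⟩
    obtain ⟨t', h⟩ := hpre r hr.1 t
    rw [eq_xg C e, h]
    exact xg_mem_pos C (wperm_lt C hw.reverse hr.1) (hnegneg _ hw.reverse hrev r hr.1 ((C.isNeg_iff hr.1).1 hr)) _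

theorem normalizer_posG :
    Subgroup.normalizer (((D.posUnipotent F).subgroupOf (D.group F) : Subgroup ↥(D.group F)) : Set ↥(D.group F)) =
      (D.borelSubgroup F).subgroupOf (D.group F) := by
  ext g
  rw [Subgroup.mem_subgroupOf, ← normalizer_pos C K, Subgroup.mem_inf, Subgroup.mem_normalizer_iff,
    Subgroup.mem_normalizer_iff]
  refine ⟨fun h => ⟨fun x => ⟨fun hx => (h ⟨x, pos_le_group C hx⟩).1 hx, fun hx => ?_⟩, g.2⟩,
    fun h x => h.1 x⟩
  have hxG : x ∈ D.group F := by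
    have := mul_mem (mul_mem (inv_mem g.2) (pos_le_group C hx)) g.2
    simpa [mul_assoc] using this
  exact (h ⟨x, hxG⟩).2 hx

variable [Finite F]

/-- After an inner adjustment both maximal unipotent subgroups are fixed. -/
theorem exists_inner_normalise {w : List ℕ} {τ : Fin D.rank → Fin D.rank} (O : OppWord D T w τ)
    (θ : MulAut ↥(D.group F)) : ∃ x : ↥(D.group F),
      AutKeeps (MulAut.conj x * θ) ((D.posUnipotent F).subgroupOf (D.group F)) ∧
      AutKeeps (MulAut.conj x * θ) ((D.negUnipotent F).subgroupOf (D.group F)) := by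
  classical
  obtain ⟨p, hp⟩ := CharP.exists F
  haveI : Fact p.Prime := ⟨(CharP.char_is_prime_or_zero F p).resolve_right (CharP.char_ne_zero_of_finite F p)⟩
  obtain ⟨P, hP⟩ := exists_sylow C K p (F := F)
  obtain ⟨x₁, hx₁⟩ := MulAction.exists_smul_eq ↥(D.group F) (θ • P) P
  let θ₁ : MulAut ↥(D.group F) := MulAut.conj x₁ * θ
  have hsm : (θ₁ • P : Sylow p ↥(D.group F)) = P := by
    show (MulAut.conj x₁ * θ) • P = P
    rw [mul_smul]; exact hx₁
  have hU : AutKeeps θ₁ ((D.posUnipotent F).subgroupOf (D.group F)) := fun g => by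
    rw [← hP]
    have h : θ₁ g ∈ ((θ₁ • P : Sylow p ↥(D.group F)) : Subgroup ↥(D.group F)) ↔
        g ∈ (P : Subgroup ↥(D.group F)) := Subgroup.smul_mem_pointwise_smul_iff
    rwa [hsm] at h
  let U := (D.posUnipotent F).subgroupOf (D.group F)
  let V := (D.negUnipotent F).subgroupOf (D.group F)
  let W : ↥(D.group F) := ⟨wnu C F w, wnu_mem_group C O.word⟩
  have hW := fun (x : GL D.Idx F) => allNeg_conj C K O.word (fun s hs hp => O.all_neg C K hs hp) (x := x)
  let g := θ₁ W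
  obtain ⟨u, hu, n, hn, v, hv, eg⟩ := bruhat C K g.2
  obtain ⟨w', hw', d, hd, en⟩ := (mem_monomial C).1 hn
  have hneg' : ∀ r < D.nroots, D.nroots ≤ 2 * r → 2 * wperm T w' r < D.nroots := fun r hr hrp => by
    by_contra hc
    let y : GL D.Idx F := v⁻¹ * (d⁻¹ * xg C r 1 * d) * v
    have hdx : d⁻¹ * xg C r 1 * d ∈ D.posUnipotent F := by
      have := (Subgroup.mem_normalizer_iff.1 (diag_le_normalizer C (inv_mem hd)) _).1 (xg_mem_pos C hr hrp (1 : F))
      rwa [inv_inv] at this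
    have hy : y ∈ D.posUnipotent F := mul_mem (mul_mem (inv_mem hv) hdx) hv
    obtain ⟨c, -, hct⟩ := wnu_conj_xg C (F := F) hw' hr
    have hgy : (g : GL D.Idx F) * y * (g : GL D.Idx F)⁻¹ ∈ D.posUnipotent F := by
      have e : (g : GL D.Idx F) * y * (g : GL D.Idx F)⁻¹ = u * (wnu C F w' * xg C r 1 * (wnu C F w')⁻¹) * u⁻¹ := by
        simp only [y, eg, en]; group
      rw [e, hct]
      exact mul_mem (mul_mem hu (xg_mem_pos C (wperm_lt C hw' hr) (by omega) _)) (inv_mem hu)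
    obtain ⟨y₀, hy₀⟩ := θ₁.surjective ⟨y, pos_le_group C hy⟩
    have h1 : y₀ ∈ U := (hU y₀).1 (by rw [hy₀]; exact hy)
    have h2 : W * y₀ * W⁻¹ ∈ U := (hU _).1 (by
      rw [map_mul, map_mul, map_inv, hy₀]; exact hgy)
    have h3 : W * y₀ * W⁻¹ = 1 := Subtype.ext (((Subgroup.eq_bot_iff_forall _).1 (borel_inf_neg C) _ ⟨Subgroup.mem_sup_left h2, (hW _).1 h1⟩))
    have h4 : y₀ = 1 := by
      rwa [mul_inv_eq_one, mul_eq_left] at h3
    rw [h4, map_one] at hy₀
    have h5 : y = 1 := (congrArg Subtype.val hy₀).symm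
    have h6 : xg C r (1 : F) = 1 := by
      have : xg C r (1 : F) = d * v * y * v⁻¹ * d⁻¹ := by simp only [y]; group
      rw [this, h5]; group
    exact one_ne_zero (xg_eq_one C hr h6)
  have hW' := fun (x : GL D.Idx F) => allNeg_conj C K hw' hneg' (x := x)
  have hgV : ∀ x : GL D.Idx F, ((g : GL D.Idx F)⁻¹ * x * (g : GL D.Idx F) ∈ D.posUnipotent F ↔
      u⁻¹ * x * u ∈ D.negUnipotent F) := fun x => by
    have e : (g : GL D.Idx F)⁻¹ * x * (g : GL D.Idx F) =
        v⁻¹ * (d⁻¹ * ((wnu C F w')⁻¹ * (u⁻¹ * x * u) * wnu C F w') * d) * v := by rw [eg, en]; group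
    rw [e, Subgroup.mul_mem_cancel_right _ hv, Subgroup.mul_mem_cancel_left _ (inv_mem hv)]
    have hn' := Subgroup.mem_normalizer_iff.1 (diag_le_normalizer C (inv_mem hd))
      ((wnu C F w')⁻¹ * (u⁻¹ * x * u) * wnu C F w')
    rw [inv_inv] at hn'
    rw [← hn']
    refine ⟨fun h => ?_, fun h => (hW' _).2.2.2 h⟩
    have := (hW' _).1 h
    simpa [mul_assoc] using this
  refine ⟨⟨u, pos_le_group C hu⟩⁻¹ * x₁, ?_, ?_⟩ <;>
    rw [map_mul, mul_assoc] <;> intro y
  · show ((⟨u, pos_le_group C hu⟩ : ↥(D.group F))⁻¹ * θ₁ y * _⁻¹ ∈ U) ↔ y ∈ U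
    rw [inv_inv, ← hU y, Subgroup.mul_mem_cancel_right _ (show (⟨u, pos_le_group C hu⟩ : ↥(D.group F)) ∈ U from hu),
      Subgroup.mul_mem_cancel_left _ (inv_mem (show (⟨u, pos_le_group C hu⟩ : ↥(D.group F)) ∈ U from hu))]
  · show ((⟨u, pos_le_group C hu⟩ : ↥(D.group F))⁻¹ * θ₁ y * _⁻¹ ∈ V) ↔ y ∈ V
    rw [inv_inv]
    show u⁻¹ * (θ₁ y : GL D.Idx F) * u ∈ D.negUnipotent F ↔ (y : GL D.Idx F) ∈ D.negUnipotent F
    rw [← hgV]
    have e : θ₁ (W⁻¹ * y * W) = g⁻¹ * θ₁ y * g := by rw [map_mul, map_mul, map_inv]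
    have := hU (W⁻¹ * y * W)
    rw [e] at this
    refine (this : _ ↔ _).trans ⟨fun h => ?_, fun h => (hW _).2.2.2 h⟩
    have := (hW _).1 (show (wnu C F w)⁻¹ * (y : GL D.Idx F) * wnu C F w ∈ D.posUnipotent F from h)
    simpa [mul_assoc] using this

end

section Permute

variable (C : Cert D T) (K : FullCert D T)
include C K

theorem parabolic_inf_neg {w : List ℕ} {τ : Fin D.rank → Fin D.rank} (O : OppWord D T w τ) (i : Fin D.rank)
    {x : GL D.Idx F} (hx : x ∈ D.parabolicSubgroup F {(i : ℕ)}) (hxV : x ∈ D.negUnipotent F) :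
    ∃ t, x = xg C (T.neg (T.simp' i)) t := by
  classical
  obtain ⟨a, hlin, ha⟩ := exists_coef C K
  let f : ℕ → ℤ := fun s => ∑ k ∈ (Finset.range D.rank).filter (fun k => k ≠ (i : ℕ)), a k s
  have hf : IsLin D T f := fun r s q i j h => by
    simp only [f, hlin _ r s q i j h, Finset.sum_add_distrib, Finset.mul_sum]
  have hf' : IsLin D T fun s => -f s := fun r s q i j h => by
    show -f q = _ * -f r + _ * -f s
    rw [hf r s q i j h]; ring
  have hmem : ∀ k, k ∈ (Finset.range D.rank).filter (fun k => k ≠ (i : ℕ)) ↔ k < D.rank ∧ k ≠ (i : ℕ) := by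
    intro k; simp
  have hsimp : f (T.simp' i) = 0 := Finset.sum_eq_zero fun k hk => by
    rw [hmem] at hk
    refine (ha _ (C.spec.simp_lt i i.2) k hk.1).1.1 ?_
    rw [C.spec.cor_simple i i.2 k hk.1, if_neg hk.2]
  have hnsimp : f (T.neg (T.simp' i)) = 0 := by rw [isLin_neg C hf (C.spec.simp_lt i i.2), hsimp, neg_zero]
  have hfpos : ∀ r < D.nroots, D.nroots ≤ 2 * r → 0 ≤ f r ∧ (r ≠ T.simp' i → 1 ≤ f r) := by
    intro r hr hp
    have hnn : ∀ k ∈ (Finset.range D.rank).filter (fun k => k ≠ (i : ℕ)), 0 ≤ a k r := fun k hk => by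
      rw [hmem] at hk
      exact (ha r hr k hk.1).2.1 (coroot_nonneg C hr hp hk.1)
    refine ⟨Finset.sum_nonneg hnn, fun hne => ?_⟩
    have hnot : ¬ D.InRootSub {(i : ℕ)} r := fun h => hne (inRootSub_singleton C K i.2 h hp)
    rw [inRootSub_iff C] at hnot
    push Not at hnot
    obtain ⟨k, hk, hki, hk0⟩ := hnot hr
    have h1 := Finset.single_le_sum hnn ((hmem k).2 ⟨hk, by simpa using hki⟩)
    have h2 : a k r ≠ 0 := fun e => hk0 ((ha r hr k hk).1.2 e)
    have h3 := hnn k ((hmem k).2 ⟨hk, by simpa using hki⟩)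
    show 1 ≤ f r
    simp only [f]; omega
  have hxi : ∀ t : F, xg C (T.neg (T.simp' i)) t ∈ gshiftGroup D F f 0 le_rfl := fun t =>
    xg_mem_gshift C hf (C.spec.neg_lt _ (C.spec.simp_lt i i.2)) t hnsimp.ge _
  have hP : D.parabolicSubgroup F {(i : ℕ)} ≤ gshiftGroup D F f 0 le_rfl := by
    refine sup_le (sup_le ((Subgroup.closure_le _).2 ?_) fun h hh => diag_mem_gshift C hh) ((Subgroup.closure_le _).2 ?_)
    · rintro g ⟨r, t, hr, e⟩
      rw [eq_xg C e]
      exact xg_mem_gshift C hf hr.1 t (hfpos r hr.1 ((C.isPos_iff hr.1).1 hr)).1 _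
    · rintro g ⟨j, rfl, hj, e⟩
      rw [(eq_nu_iff C hj).1 e, nu, ng, C.spec.shape.neg_eq _ (C.spec.simp_lt i i.2)]
      exact mul_mem (mul_mem (xg_mem_gshift C hf (C.spec.simp_lt i i.2) _ hsimp.ge _) (hxi _))
        (xg_mem_gshift C hf (C.spec.simp_lt i i.2) _ hsimp.ge _)
  obtain ⟨k, hk⟩ := (Finite.injective_iff_bijective.1 (O.tau_injective C)).2 i
  have hW := fun (x : GL D.Idx F) => allNeg_conj C K O.word (fun s hs hp => O.all_neg C K hs hp) (x := x)
  obtain ⟨r, hr, t, hu⟩ := pos_decomp C K k.2 ((hW x).2.2.2 hxV)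
  obtain ⟨c, -, hct⟩ := wnu_conj_xg C (F := F) O.word (C.spec.simp_lt k k.2)
  rw [O.simple k, hk] at hct
  let z := wnu C F w * r * (wnu C F w)⁻¹
  have ex : x = z * xg C (T.neg (T.simp' i)) (c * t) := by
    rw [← hct, show z * (wnu C F w * xg C (T.simp' k) t * (wnu C F w)⁻¹) =
      wnu C F w * (r * xg C (T.simp' k) t) * (wnu C F w)⁻¹ by simp only [z]; group, ← hu]
    group
  have hz0 : z ∈ gshiftGroup D F f 0 le_rfl := by
    have : z = x * (xg C (T.neg (T.simp' i)) (c * t))⁻¹ := by rw [ex, mul_inv_cancel_right]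
    rw [this]; exact mul_mem (hP hx) (inv_mem (hxi _))
  have hz1 : z ∈ gshiftGroup D F (fun s => -f s) 1 zero_le_one := by
    refine conj_closure_mem ?_ hr
    rintro g ⟨s, t, hs, hns, e⟩
    obtain ⟨c', -, hct'⟩ := wnu_conj_xg C (F := F) O.word hs.1
    rw [eq_xg C e, hct']
    have hsp := (C.isPos_iff hs.1).1 hs
    have hws := wperm_lt C O.word hs.1
    refine xg_mem_gshift C hf' hws _ ?_ _
    have hneg := O.all_neg C K hs.1 hsp
    have h := (hfpos _ (C.spec.neg_lt _ hws) ((K.neg_pos_iff hws).2 hneg)).2 fun e' => hns (by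
      have e'' : wperm T w s = wperm T w (T.simp' k) := by
        rw [O.simple k, hk, ← e', C.spec.neg_neg _ hws]
      rw [wperm_inj C O.word hs.1 (C.spec.simp_lt k k.2) e'']
      exact inRootSub_simple C k.2 rfl)
    rw [isLin_neg C hf hws] at h
    exact h
  have hz : z = 1 := by
    refine Units.ext ?_
    rw [Units.val_one]
    ext a b
    by_contra hne
    have hne' : ((z : Matrix D.Idx D.Idx F) - 1) a b ≠ 0 := by rw [Matrix.sub_apply]; exact sub_ne_zero.2 hne
    have e1 := hz0.1 a b hne'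
    have e2 := hz1.1 a b hne'
    rcases a with a | a <;> rcases b with b | b <;> simp only [glev] at e1 e2 <;> omega
  exact ⟨c * t, by rw [ex, hz, one_mul]⟩

theorem xneg_mem_parabolic (i : Fin D.rank) (t : F) :
    xg C (T.neg (T.simp' i)) t ∈ D.parabolicSubgroup F {(i : ℕ)} := by
  rw [parabolic_eq C K]
  exact Subgroup.mem_sup_right (Subgroup.subset_closure
    ⟨_, t, Or.inr (inRootSub_neg C (inRootSub_simple C i.2 rfl)), coe_xg C _ t⟩)

/-- The negative fundamental root subgroups are permuted. -/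
theorem exists_perm_neg {w : List ℕ} {τ : Fin D.rank → Fin D.rank} (O : OppWord D T w τ)
    {θ : MulAut ↥(D.group F)} (hU : AutKeeps θ ((D.posUnipotent F).subgroupOf (D.group F)))
    (hV : AutKeeps θ ((D.negUnipotent F).subgroupOf (D.group F))) :
    ∃ π : Equiv.Perm (Fin D.rank), ∀ (i : Fin D.rank) (g : ↥(D.group F)),
      (θ g : GL D.Idx F) ∈ D.rootSubgroup F (T.neg (T.simp' (π i))) ↔
        (g : GL D.Idx F) ∈ D.rootSubgroup F (T.neg (T.simp' i)) := by
  classical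
  let P := bnPair C K F
  let Pg : Fin D.rank → Subgroup ↥(D.group F) := fun i =>
    (D.parabolicSubgroup F {(i : ℕ)}).subgroupOf (D.group F)
  have hB : AutKeeps θ P.B := by
    have := hU.normalizer
    rw [normalizer_posG C K] at this
    exact this
  have hnuG : ∀ j : Fin D.rank, (nu C (j : ℕ) : GL D.Idx F) ∈ D.group F := fun j =>
    monomial_le_group C (nu_mem C j j.2)
  let N : Fin D.rank → ↥(D.group F) := fun j => ⟨nu C (j : ℕ), hnuG j⟩
  have hNS : ∀ j, N j ∈ P.S := fun j => ⟨j, j.2, (eq_nu_iff C j.2).2 rfl⟩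
  have hNP : ∀ j, N j ∈ Pg j := fun j =>
    Subgroup.mem_sup_right (Subgroup.subset_closure ⟨j, rfl, j.2, (eq_nu_iff C j.2).2 rfl⟩)
  have hidx : ∀ i j, N j ∈ Pg i → j = i := by
    intro i j h
    have hp := C.spec.simp_lt j j.2
    have e := nu_conj_xg C j.2 hp (1 : F)
    rw [C.spec.refl_simple j j.2] at e
    have hmem : xg C (T.neg (T.simp' j)) (((T.eta' j (T.simp' j) : ℤ) : F) * 1) ∈ D.parabolicSubgroup F {(i : ℕ)} := by
      rw [← e]
      exact mul_mem (mul_mem h (Subgroup.mem_sup_left (xg_mem_borel C hp (K.simple_pos j.2) _))) (inv_mem h)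
    obtain ⟨t, ht⟩ := parabolic_inf_neg C K O i hmem (xg_mem_neg C (C.spec.neg_lt _ hp)
      (lt_of_not_ge fun hle => absurd ((K.neg_pos_iff hp).1 hle) (not_lt.2 (K.simple_pos j.2))) _)
    have := xg_index C (C.spec.neg_lt _ hp) (C.spec.neg_lt _ (C.spec.simp_lt i i.2))
      (mul_ne_zero (eta_ne_zero T j (T.simp' j)) one_ne_zero) ht
    have := congrArg T.neg this
    rw [C.spec.neg_neg _ hp, C.spec.neg_neg _ (C.spec.simp_lt i i.2)] at this
    exact Fin.ext (simp_inj C j.2 i.2 this)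
  have hmin : ∀ (θ' : MulAut ↥(D.group F)), AutKeeps θ' P.B → ∀ i, ∃ j, ∀ g, g ∈ Pg j → θ' g ∈ Pg i := by
    intro θ' hB' i
    let M := (Pg i).comap θ'.toMonoidHom
    have hBM : P.B ≤ M := fun g hg => Subgroup.mem_sup_left ((hB' g).2 hg)
    have hM := Cfsg.Lib.Linear.BN.eq_parabolic (P := P) hBM
    obtain ⟨j, hj⟩ : ∃ j, N j ∈ M := by
      by_contra hc
      push Not at hc
      have hle : M ≤ P.B := by
        rw [hM]
        refine sup_le le_rfl ((Subgroup.closure_le _).2 ?_)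
        rintro s ⟨⟨j, hj, e⟩, hsM⟩
        exact absurd (show N ⟨j, hj⟩ ∈ M from (Subtype.ext ((eq_nu_iff C hj).1 e) : s = N ⟨j, hj⟩) ▸ hsM) (hc _)
      obtain ⟨g, hg⟩ := θ'.surjective (N i)
      have : g ∈ M := by show θ' g ∈ Pg i; rw [hg]; exact hNP i
      exact Cfsg.Lib.Linear.BN.not_mem_B (hNS i) (hg ▸ (hB' g).2 (hle this))
    refine ⟨j, fun g hg => ?_⟩
    suffices h : D.parabolicSubgroup F {(j : ℕ)} ≤ M.map (D.group F).subtype by
      obtain ⟨g', hg', e⟩ := h hg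
      rw [← Subtype.ext e]; exact hg'
    refine sup_le (fun b hb => ⟨⟨b, borel_le_group C hb⟩, hBM hb, rfl⟩) ((Subgroup.closure_le _).2 ?_)
    rintro g ⟨k, rfl, hk, e⟩
    exact ⟨N j, hj, ((eq_nu_iff C hk).1 e).symm⟩
  have hBs : AutKeeps θ.symm P.B := fun g => by rw [← hB (θ.symm g), θ.apply_symm_apply]
  have hbij : ∀ i, ∃ j, ∀ g, θ g ∈ Pg j ↔ g ∈ Pg i := by
    intro i
    obtain ⟨j, hj⟩ := hmin θ.symm hBs i
    obtain ⟨k, hk⟩ := hmin θ hB j
    have hkk : k = i := hidx i k (by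
      have := hj _ (hk _ (hNP k))
      rwa [θ.symm_apply_apply] at this)
    subst hkk
    exact ⟨j, fun g => ⟨fun h => by simpa using hj _ h, hk g⟩⟩
  choose π hπ using hbij
  have hinj : Function.Injective π := fun i i' e => by
    refine (hidx i i' ?_).symm
    rw [← hπ i, e, hπ i']
    exact hNP i'
  refine ⟨Equiv.ofBijective π (Finite.injective_iff_bijective.1 hinj), fun i g => ?_⟩
  have key : ∀ (j : Fin D.rank) (g : ↥(D.group F)), (g : GL D.Idx F) ∈ D.rootSubgroup F (T.neg (T.simp' j)) ↔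
      g ∈ Pg j ∧ g ∈ (D.negUnipotent F).subgroupOf (D.group F) := fun j g => by
    refine ⟨fun h => ?_, fun ⟨h1, h2⟩ => ?_⟩
    · obtain ⟨t, e⟩ := (mem_rootSubgroup C).1 h
      have hp := C.spec.simp_lt j j.2
      refine ⟨?_, ?_⟩
      · rw [Subgroup.mem_subgroupOf, e]; exact xneg_mem_parabolic C K j t
      · rw [Subgroup.mem_subgroupOf, e]
        exact xg_mem_neg C (C.spec.neg_lt _ hp)
          (lt_of_not_ge fun hle => absurd ((K.neg_pos_iff hp).1 hle) (not_lt.2 (K.simple_pos j.2))) _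
    · exact (mem_rootSubgroup C).2 (parabolic_inf_neg C K O j h1 h2)
  show (θ g : GL D.Idx F) ∈ D.rootSubgroup F (T.neg (T.simp' (π i))) ↔ _
  rw [key, key, hπ i g, hV g]

/-- The fundamental root subgroups are permuted. -/
theorem exists_perm_pos {w : List ℕ} {τ : Fin D.rank → Fin D.rank} (O : OppWord D T w τ)
    {θ : MulAut ↥(D.group F)} (hU : AutKeeps θ ((D.posUnipotent F).subgroupOf (D.group F)))
    (hV : AutKeeps θ ((D.negUnipotent F).subgroupOf (D.group F))) :
    ∃ π : Equiv.Perm (Fin D.rank), ∀ (i : Fin D.rank) (g : ↥(D.group F)),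
      (θ g : GL D.Idx F) ∈ D.rootSubgroup F (T.simp' (π i)) ↔
        (g : GL D.Idx F) ∈ D.rootSubgroup F (T.simp' i) := by
  classical
  let W : ↥(D.group F) := ⟨wnu C F w, wnu_mem_group C O.word⟩
  have hW := fun (x : GL D.Idx F) => allNeg_conj C K O.word (fun s hs hp => O.all_neg C K hs hp) (x := x)
  let ψ : MulAut ↥(D.group F) := MulAut.conj W * θ * (MulAut.conj W)⁻¹
  have hψ : ∀ g, ψ g = W * θ (W⁻¹ * g * W) * W⁻¹ := fun g => by
    simp [ψ, MulAut.conj_inv_apply]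
  have hflip : ∀ {x : GL D.Idx F}, (wnu C F w * x * (wnu C F w)⁻¹ ∈ D.posUnipotent F ↔ x ∈ D.negUnipotent F) ∧
      (wnu C F w * x * (wnu C F w)⁻¹ ∈ D.negUnipotent F ↔ x ∈ D.posUnipotent F) := fun {x} =>
    ⟨⟨fun h => by simpa [mul_assoc] using (hW _).2.2.1 h, (hW x).2.1⟩,
     ⟨fun h => by simpa [mul_assoc] using (hW _).2.2.2 h, (hW x).1⟩⟩
  have hkeep : AutKeeps ψ ((D.posUnipotent F).subgroupOf (D.group F)) ∧
      AutKeeps ψ ((D.negUnipotent F).subgroupOf (D.group F)) := by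
    constructor <;> intro g <;> rw [hψ]
    · refine (hflip (x := (θ (W⁻¹ * g * W) : GL D.Idx F))).1.trans ((hV (W⁻¹ * g * W)).trans ?_)
      exact ⟨fun h => show (g : GL D.Idx F) ∈ _ by simpa [W, mul_assoc] using (hW _).2.1 h, fun h => (hW (g : GL D.Idx F)).2.2.1 h⟩
    · refine (hflip (x := (θ (W⁻¹ * g * W) : GL D.Idx F))).2.trans ((hU (W⁻¹ * g * W)).trans ?_)
      exact ⟨fun h => show (g : GL D.Idx F) ∈ _ by simpa [W, mul_assoc] using (hW _).1 h, fun h => (hW (g : GL D.Idx F)).2.2.2 h⟩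
  obtain ⟨π', hπ'⟩ := exists_perm_neg C K O hkeep.1 hkeep.2
  let τe := Equiv.ofBijective τ (Finite.injective_iff_bijective.1 (O.tau_injective C))
  refine ⟨(τe.trans π').trans τe.symm, fun i g => ?_⟩
  have hkey : ∀ (j : Fin D.rank) (x : GL D.Idx F),
      wnu C F w * x * (wnu C F w)⁻¹ ∈ D.rootSubgroup F (T.neg (T.simp' (τ j))) ↔ x ∈ D.rootSubgroup F (T.simp' j) := by
    intro j x
    obtain ⟨c, hc, hct⟩ := wnu_conj_xg C (F := F) O.word (C.spec.simp_lt j j.2)
    rw [O.simple j] at hct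
    rw [mem_rootSubgroup C, mem_rootSubgroup C]
    refine ⟨fun ⟨t, e⟩ => ⟨c * t, ?_⟩, fun ⟨t, e⟩ => ⟨c * t, by rw [e, hct]⟩⟩
    rw [← one_mul t, ← hc, mul_assoc c c t, ← hct, mul_left_inj, mul_right_inj] at e
    exact e
  have hτ : τ (τe.symm (π' (τ i))) = π' (τ i) := τe.apply_symm_apply _
  show (θ g : GL D.Idx F) ∈ D.rootSubgroup F (T.simp' (τe.symm (π' (τ i)) : Fin D.rank)) ↔ _
  rw [← hkey, hτ, ← hkey i, show wnu C F w * (g : GL D.Idx F) * (wnu C F w)⁻¹ = ((W * g * W⁻¹ : ↥(D.group F)) : GL D.Idx F) from rfl,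
    ← hπ' (τ i) (W * g * W⁻¹), hψ]
  simp [W, mul_assoc]

end Permute

end Cfsg.Lib.Chev
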