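import Mathlib
import Cfsg.Prelude.Def_ChevAutomorphisms
import Cfsg.Agent.Lib.Chev.Sylow
import Cfsg.Agent.Lib.Chev.FullAll

/-!
Characters of the root lattice and the diagonal matrices they define.
-/

set_option autoImplicit false

namespace Cfsg.Lib.Chev

open Cfsg.Lie
open scoped Matrix

/-- Consecutive roots of a chain differ by the root of the chain. -/
noncomputable def chkStep (D : ChevalleyDatum) (T : Tbl) : Bool :=
  allIdx (fun r a => allIdx (fun _ e => allIdx (fun k q =>
    Nat.ble (T.entry r e.1).length (k + 1) ||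
      List.rec (motive := fun _ => Bool) false (fun x _ _ => Nat.beq x.1 ((T.entry r e.1).getD (k + 1) (0, 0)).1)
        (T.entry r q.1)) (T.entry r e.1) 0) a.toList 0) D.chain.toList 0

theorem chkStep_G2 : chkStep chevG2 tblG2 = true := by decide +kernel
theorem chkStep_B2 : chkStep chevB2 tblB2 = true := by decide +kernel
theorem chkStep_D4 : chkStep chevD4 tblD4 = true := by decide +kernel
theorem chkStep_F4 : chkStep chevF4 tblF4 = true := by decide +kernel
theorem chkStep_E6 : chkStep chevE6 tblE6 = true := by decide +kernel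
theorem chkStep_E7 : chkStep chevE7 tblE7 = true := by decide +kernel
theorem chkStep_E8 : chkStep chevE8 tblE8 = true := by decide +kernel

theorem exists_cert_step {D : ChevalleyDatum}
    (hD : D ∈ [chevG2, chevB2, chevD4, chevF4, chevE6, chevE7, chevE8]) :
    ∃ T, FullCert D T ∧ D.chain.toList.length = D.nroots ∧ chkStep D T = true := by
  simp only [List.mem_cons, List.not_mem_nil, or_false] at hD
  rcases hD with rfl | rfl | rfl | rfl | rfl | rfl | rfl
  exacts [⟨_, fullCertG2, by decide +kernel, chkStep_G2⟩, ⟨_, fullCertB2, by decide +kernel, chkStep_B2⟩,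
    ⟨_, fullCertD4, by decide +kernel, chkStep_D4⟩, ⟨_, fullCertF4, by decide +kernel, chkStep_F4⟩,
    ⟨_, fullCertE6, by decide +kernel, chkStep_E6⟩, ⟨_, fullCertE7, by decide +kernel, chkStep_E7⟩,
    ⟨_, fullCertE8, by decide +kernel, chkStep_E8⟩]

variable {D : ChevalleyDatum} {T : Tbl} {F : Type*} [Field F] (C : Cert D T)
include C

theorem rootChar_entry (hlen : D.chain.toList.length = D.nroots) (hstep : chkStep D T = true) {χ : ℕ → Fˣ}
    (hχ : D.IsRootCharacter χ) {r s : ℕ} (hr : r < D.nroots) (hs : s < D.nroots) :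
    ∀ m q, (T.entry r s)[m]? = some q → (χ q.1 : F) = (χ r : F) ^ (m + 1) * χ s := by
  have hchain : ∀ {x y : ℕ}, x < D.nroots → y < D.nroots → ∀ q, (T.entry x y)[0]? = some q →
      (χ q.1 : F) = χ x * χ y := fun {x y} hx hy q hq => by
    rw [← Units.val_mul]
    refine congrArg Units.val (hχ.2 x y q.1 hx hy ?_)
    unfold ChevalleyDatum.chainRoot
    rw [C.spec.shape.chainEntry_eq hx hy, Nat.sub_self, hq]
    rfl
  intro m
  induction m with
  | zero => intro q hq; rw [pow_one]; exact hchain hr hs q hq
  | succ m ih =>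
    intro q hq
    obtain ⟨hm, hq'⟩ := List.getElem?_eq_some_iff.1 hq
    have hm' : m < (T.entry r s).length := by omega
    have hne : T.entry r s ≠ [] := fun e => by rw [e] at hm; simp at hm
    obtain ⟨hr', k, hk, hks⟩ := mem_chain_of_entry C.spec.shape hlen hr hs hne
    have h1 := (allIdx_iff _ 0).1 ((allIdx_iff _ 0).1 hstep r hr') k hk
    rw [Nat.zero_add, hks] at h1
    have h2 := (allIdx_iff _ 0).1 h1 m hm'
    rw [Nat.zero_add, Bool.or_eq_true, Nat.ble_eq] at h2
    have h3 := h2.resolve_left (by omega)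
    have hp := C.spec.entry_mem r hr s hs m (T.entry r s)[m] (List.getElem?_eq_getElem hm')
    rcases hl : T.entry r (T.entry r s)[m].1 with _ | ⟨x, l⟩
    · rw [hl] at h3; exact absurd h3 Bool.false_ne_true
    · rw [hl] at h3
      simp only [Nat.beq_eq] at h3
      rw [List.getD_eq_getElem _ _ hm, hq'] at h3
      have := hchain hr hp.1 x (by rw [hl]; rfl)
      rw [h3, ih _ (List.getElem?_eq_getElem hm')] at this
      rw [this]; ring

/-- Characters of the root lattice scale the root elements. -/
theorem charDiag_mul_x (hlen : D.chain.toList.length = D.nroots) (hstep : chkStep D T = true) {χ : ℕ → Fˣ}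
    (hχ : D.IsRootCharacter χ) {r : ℕ} (hr : r < D.nroots) (t : F) :
    D.charDiag F χ * D.x F r t * D.charDiag F (fun s => (χ s)⁻¹) = D.x F r ((χ r : F) * t) := by
  have hne : ∀ s, (χ s : F) ≠ 0 := fun s => Units.ne_zero _
  have hneg : (χ (T.neg r) : F) = (χ r : F)⁻¹ := by
    rw [← C.spec.shape.neg_eq r hr, hχ.1 r hr, Units.val_inv_eq_inv_val]
  ext i j
  rw [ChevalleyDatum.charDiag, ChevalleyDatum.charDiag, Matrix.mul_diagonal, Matrix.diagonal_mul]
  rcases i with i' | w <;> rcases j with c | s <;> simp only [Sum.elim_inl, Sum.elim_inr, Units.val_inv_eq_inv_val]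
  · simp [x_inl_inl C.spec hr]
  · rw [x_inl_inr C.spec hr, x_inl_inr C.spec hr]
    split_ifs with h
    · rw [h, hneg, inv_inv]; ring
    · simp
  · rw [x_inr_inl C.spec hr, x_inr_inl C.spec hr]
    split_ifs with h
    · rw [h]; ring
    · simp
  · rw [x_inr_inr C.spec hr, x_inr_inr C.spec hr]
    have key : ∀ (l : List (ℕ × ℤ)) (k : ℕ),
        (∀ m q, l[m]? = some q → (χ q.1 : F) = (χ r : F) ^ (k + m + 1) * χ s.val) →
        (χ w.val : F) * chainVal l k t w * (χ s.val : F)⁻¹ = chainVal l k ((χ r : F) * t) w := by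
      intro l
      induction l with
      | nil => intro k _; simp [chainVal]
      | cons q l ih =>
        intro k hl
        have h' := ih (k + 1) fun m q' hq => by
          have := hl (m + 1) q' (by simpa using hq)
          rw [this]; ring_nf
        simp only [chainVal, List.zipIdx_cons, List.map_cons, List.sum_cons, mul_add, add_mul] at h' ⊢
        rw [h']
        congr 1
        split_ifs with hq
        · rw [← hq, hl 0 q (by simp), mul_pow]
          field_simp [hne s.val]
        · simp
    have hk := key (T.entry r s) 0 fun m q hq => by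
      rw [Nat.zero_add]
      exact rootChar_entry C hlen hstep hχ hr s.2 m q hq
    split_ifs with h1 h2 h3 h4 h5 <;> try simp
    all_goals
      first
        | (rw [h1, h2]; field_simp [hne r])
        | (rw [h4]; field_simp [hne s.val])
        | (rw [h5, h3, hneg, inv_inv]; ring)
        | (obtain rfl : w = s := Fin.ext (by assumption)
           rw [mul_add, add_mul, hk, mul_one, mul_inv_cancel₀ (hne _)])
        | exact hk

theorem charDiag_mem_diagonal (K : FullCert D T) (hlen : D.chain.toList.length = D.nroots)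
    (hstep : chkStep D T = true) {χ : ℕ → Fˣ} (hχ : D.IsRootCharacter χ) {g : GL D.Idx F} (hg' : g ∈ D.group F)
    (hgχ : (g : Matrix D.Idx D.Idx F) = D.charDiag F χ) : g ∈ D.diagonalSubgroup F := by
  have hinv : ((g⁻¹ : GL D.Idx F) : Matrix D.Idx D.Idx F) = D.charDiag F (fun s => (χ s)⁻¹) :=
    Units.inv_eq_of_mul_eq_one_right (by
      rw [hgχ, ChevalleyDatum.charDiag, ChevalleyDatum.charDiag, Matrix.diagonal_mul_diagonal, Matrix.diagonal_eq_one]
      funext i; rcases i with i | i <;> simp)
  have hconj : ∀ {r : ℕ}, r < D.nroots → ∀ t : F, g * xg C r t * g⁻¹ = xg C r ((χ r : F) * t) := fun hr t =>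
    Units.ext (by rw [Units.val_mul, Units.val_mul, hgχ, hinv, coe_xg, coe_xg, charDiag_mul_x C hlen hstep hχ hr t])
  have hN : g ∈ Subgroup.normalizer (D.posUnipotent F : Set (GL D.Idx F)) := by
    refine mem_normalizer_closure ?_ ?_ <;> rintro x ⟨r, t, hr, e⟩ <;> rw [eq_xg C e]
    · rw [hconj hr.1]; exact Subgroup.subset_closure ⟨r, _, hr, coe_xg C r _⟩
    · have := hconj hr.1 ((χ r : F)⁻¹ * t)
      rw [← mul_assoc ((χ r : F)), mul_inv_cancel₀ (Units.ne_zero _), one_mul] at this
      rw [← this]
      simp only [mul_assoc, inv_mul_cancel_left, inv_mul_cancel, mul_one]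
      exact Subgroup.subset_closure ⟨r, _, hr, coe_xg C r _⟩
  have hgB : g ∈ D.borelSubgroup F := by rw [← normalizer_pos C K]; exact Subgroup.mem_inf.2 ⟨hN, hg'⟩
  obtain ⟨u, hu, h, hh, rfl⟩ := (mem_borel C).1 hgB
  have hu1 : u = 1 := by
    refine Units.ext ?_
    obtain ⟨c, hc, eh⟩ := coe_diagonal C hh
    rw [Units.val_mul, eh, ChevalleyDatum.charDiag] at hgχ
    rw [Units.val_one]
    ext i j
    by_contra hne
    have hs := (pos_le_shift C hu).1 i j (by rw [Matrix.sub_apply]; exact sub_ne_zero.2 hne)
    have hij : i ≠ j := fun e => by subst e; simp at hs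
    have e := congrFun (congrFun hgχ i) j
    rw [scal, Matrix.mul_diagonal, Matrix.diagonal_apply_ne _ hij] at e
    rw [Matrix.one_apply_ne hij] at hne
    rcases mul_eq_zero.1 e with e | e
    · exact hne e
    · rcases j with j | j
      · exact one_ne_zero e
      · exact chr_ne_zero c hc j e
  rw [hu1, one_mul]
  exact hh

end Cfsg.Lib.Chev
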