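import Mathlib
import Cfsg.Prelude.Def_ChevAutomorphisms
import Cfsg.Agent.Lib.Chev.Graph
import Cfsg.Agent.Lib.Chev.Borel

/-!
The elements of the fundamental roots and their negatives generate.
-/

set_option autoImplicit false

namespace Cfsg.Lib.Chev

open Cfsg.Lie

variable {D : ChevalleyDatum} {T : Tbl} {F : Type*} [Field F] (C : Cert D T)
include C

theorem hom_ext_simple {G : Type*} [Group G] {f g : ↥(D.group F) →* G}
    (h : ∀ i < D.rank, ∀ (x : ↥(D.group F)) (t : F),
      ((x : GL D.Idx F) = xg C (T.simp' i) t → f x = g x) ∧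
        ((x : GL D.Idx F) = xg C (T.neg (T.simp' i)) t → f x = g x)) : f = g := by
  let E := MonoidHom.eqLocus f g
  have hν : ∀ i < D.rank, (⟨nu C i, by
      exact mul_mem (mul_mem (xg_mem_group C _ _) (xg_mem_group C _ _)) (xg_mem_group C _ _)⟩ : ↥(D.group F)) ∈ E := by
    intro i hi
    have e : (⟨nu C i, by
        exact mul_mem (mul_mem (xg_mem_group C _ _) (xg_mem_group C _ _)) (xg_mem_group C _ _)⟩ : ↥(D.group F)) =
        ⟨xg C (T.simp' i) 1, xg_mem_group C _ _⟩ * ⟨xg C (T.neg (T.simp' i)) (-(1 : F)⁻¹), xg_mem_group C _ _⟩ *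
          ⟨xg C (T.simp' i) 1, xg_mem_group C _ _⟩ := Subtype.ext (by
      show ng C (T.simp' i) (1 : F) = _
      rw [ng, C.spec.shape.neg_eq _ (C.spec.simp_lt i hi)]; rfl)
    rw [e]
    exact mul_mem (mul_mem ((h i hi _ _).1 rfl) ((h i hi _ _).2 rfl)) ((h i hi _ _).1 rfl)
  have hall : ∀ r < D.nroots, ∀ t : F, (⟨xg C r t, xg_mem_group C r t⟩ : ↥(D.group F)) ∈ E := by
    refine C.root_induction (fun i hi t => (h i hi _ t).1 rfl) fun i hi r hr ih t => ?_
    have e := nu_conj_xg C hi hr ((T.eta' i r : ℤ) * t : F)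
    rw [← mul_assoc, eta_sq, one_mul] at e
    have := mul_mem (mul_mem (hν i hi) (ih ((T.eta' i r : ℤ) * t))) (inv_mem (hν i hi))
    convert this using 1
    exact Subtype.ext e.symm
  refine MonoidHom.ext fun x => ?_
  obtain ⟨x, hx⟩ := x
  show (⟨x, hx⟩ : ↥(D.group F)) ∈ E
  induction hx using Subgroup.closure_induction with
  | mem y hy =>
    obtain ⟨r, t, e⟩ := hy
    have hy' : y = xg C r.1 t := eq_xg C (e.trans (by rw [ChevalleyDatum.x, dif_pos r.2]))
    convert hall r.1 r.2 t using 1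
    exact Subtype.ext hy'
  | one => exact one_mem E
  | mul a b ha hb iha ihb => exact mul_mem (iha) (ihb)
  | inv a ha iha => exact inv_mem iha

variable {S : Sym} (h : SymOK D T S)
include h

theorem exists_graphAut :
    ∃ α : ↥(D.group F) ≃* ↥(D.group F), (∀ g, (α g : GL D.Idx F) = h.glHom (g : GL D.Idx F)) ∧
      ∀ (g : ↥(D.group F)) (i : ℕ) (t : F), i < D.rank →
        (((g : GL D.Idx F) : Matrix D.Idx D.Idx F) = D.x F (D.simple i) t →
          ((α g : GL D.Idx F) : Matrix D.Idx D.Idx F) = D.x F (D.simple (S.node i)) t) ∧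
        (((g : GL D.Idx F) : Matrix D.Idx D.Idx F) = D.x F (D.neg (D.simple i)) t →
          ((α g : GL D.Idx F) : Matrix D.Idx D.Idx F) = D.x F (D.neg (D.simple (S.node i))) t) := by
  obtain ⟨α, hα⟩ := h.exists_groupAut (F := F) C
  refine ⟨α, hα, fun g i t hi => ?_⟩
  have hp := C.spec.simp_lt i hi
  have hi' := h.node_lt i hi
  rw [C.spec.shape.simple_eq i hi, C.spec.shape.simple_eq _ hi', C.spec.shape.neg_eq _ hp,
    C.spec.shape.neg_eq _ (C.spec.simp_lt _ hi')]
  refine ⟨fun e => ?_, fun e => ?_⟩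
  · rw [hα, eq_xg C e, h.glHom_xg C hp, h.simple i hi, h.eps_simple i hi]
    simp [coe_xg]
  · rw [hα, eq_xg C e, h.glHom_xg C (C.spec.neg_lt _ hp), h.root_neg _ hp, h.eps_neg _ hp, h.simple i hi,
      h.eps_simple i hi]
    simp [coe_xg]

end Cfsg.Lib.Chev
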