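import Cfsg.Agent.Lib.Chev.AutNorm
import Cfsg.Agent.Lib.Chev.CharDiag
import Cfsg.Agent.Lib.Chev.GraphGen
import Cfsg.Agent.Lib.Chev.Perfect

/-!
Rigidity on the rank one subgroups of the fundamental roots, diagonal adjustment, and what it says about the nodes.
-/

set_option autoImplicit false
set_option linter.unusedSectionVars false

namespace Cfsg.Lib.Chev

open Cfsg.Lie
open scoped commutatorElement

variable {D : ChevalleyDatum} {T : Tbl} {F : Type*} [Field F]

/-- The action on the elements of the fundamental roots and their negatives. -/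
structure RootAct (C : Cert D T) (θ : MulAut ↥(D.group F)) (π : Fin D.rank → Fin D.rank)
    (φ ψ : Fin D.rank → F → F) : Prop where
  pos : ∀ (i : Fin D.rank) (t : F), θ (autEl C (T.simp' i) t) = autEl C (T.simp' (π i)) (φ i t)
  neg : ∀ (i : Fin D.rank) (t : F), θ (autEl C (T.neg (T.simp' i)) t) = autEl C (T.neg (T.simp' (π i))) (ψ i t)

/-- Fundamental roots and distinct negatives commute. -/
noncomputable def chkCommNeg (T : Tbl) : Bool :=
  allBelow (fun i => allBelow (fun l => Nat.beq i l ||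
    ((tTerms T (T.simp' i) (T.neg (T.simp' l))).isEmpty && (!Nat.beq (T.neg (T.simp' l)) (T.simp' i)
      && !Nat.beq (T.neg (T.simp' l)) (T.neg (T.simp' i))))) T.rank) T.rank

variable (C : Cert D T)
include C

theorem autEl_add (r : ℕ) (t u : F) : autEl C r t * autEl C r u = autEl C r (t + u) := Subtype.ext (xg_add C r t u)

theorem autEl_inj {r : ℕ} (hr : r < D.nroots) {t u : F} (h : autEl C r t = autEl C r u) : t = u :=
  xg_injective C hr (congrArg Subtype.val h)

theorem RootAct.comp {θ θ' : MulAut ↥(D.group F)} {π π' : Fin D.rank → Fin D.rank} {φ ψ φ' ψ' : Fin D.rank → F → F}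
    (h : RootAct C θ π φ ψ) (h' : RootAct C θ' π' φ' ψ') :
    RootAct C (θ * θ') (π ∘ π') (fun i t => φ (π' i) (φ' i t)) (fun i t => ψ (π' i) (ψ' i t)) where
  pos i t := by rw [MulAut.mul_apply, h'.pos, h.pos]; rfl
  neg i t := by rw [MulAut.mul_apply, h'.neg, h.neg]; rfl

theorem RootAct.congr {θ : MulAut ↥(D.group F)} {π π' : Fin D.rank → Fin D.rank} {φ ψ φ' ψ' : Fin D.rank → F → F}
    (h : RootAct C θ π φ ψ) (h1 : ∀ i, π i = π' i) (h2 : ∀ i t, φ i t = φ' i t) (h3 : ∀ i t, ψ i t = ψ' i t) :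
    RootAct C θ π' φ' ψ' where
  pos i t := by rw [h.pos, h1, h2]
  neg i t := by rw [h.neg, h1, h3]

theorem RootAct.unique {θ θ' : MulAut ↥(D.group F)} {π : Fin D.rank → Fin D.rank} {φ ψ : Fin D.rank → F → F}
    (h : RootAct C θ π φ ψ) (h' : RootAct C θ' π φ ψ) : θ = θ' := by
  have key : θ.toMonoidHom = θ'.toMonoidHom := hom_ext_simple C fun i hi x t => by
    refine ⟨fun e => ?_, fun e => ?_⟩
    · obtain rfl : x = autEl C (T.simp' i) t := Subtype.ext e
      exact (h.pos ⟨i, hi⟩ t).trans (h'.pos ⟨i, hi⟩ t).symm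
    · obtain rfl : x = autEl C (T.neg (T.simp' i)) t := Subtype.ext e
      exact (h.neg ⟨i, hi⟩ t).trans (h'.neg ⟨i, hi⟩ t).symm
  exact MulEquiv.ext fun x => DFunLike.congr_fun key x

variable (K : FullCert D T)
include K

/-- Conjugating the opposite root subgroup into itself needs a trivial parameter. -/
theorem eq_zero_of_conj_neg {i : ℕ} (hi : i < D.rank) {c s s' : F} (hs : s ≠ 0)
    (h : xg C (T.simp' i) c * xg C (T.neg (T.simp' i)) s * (xg C (T.simp' i) c)⁻¹ = xg C (T.neg (T.simp' i)) s') :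
    c = 0 := by
  have hp := C.spec.simp_lt i hi
  rw [mul_inv_eq_iff_eq_mul] at h
  have hnp := C.spec.neg_lt _ hp
  have hs' : s' ≠ 0 := by
    rintro rfl
    rw [xg_zero, one_mul, mul_eq_left] at h
    exact hs (xg_eq_one C hnp h)
  have hy : ∀ {z : F}, z ≠ 0 → xg C (T.neg (T.simp' i)) z =
      xg C (T.simp' i) z⁻¹ * hg C (T.simp' i) (-z⁻¹) * nu C i * xg C (T.simp' i) z⁻¹ := fun {z} hz => by
    have := (rootRel C (F := F) hp).y_eq hz
    change xg C (T.neg (T.simp' i)) z = xg C (T.simp' i) z⁻¹ * ng C (T.simp' i) (-z⁻¹) * xg C (T.simp' i) z⁻¹ at this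
    rw [this, ng_eq C hp (-z⁻¹)]
    simp only [nu, mul_assoc]
  rw [hy hs, hy hs'] at h
  set a := s⁻¹
  set a' := s'⁻¹
  have e : xg C (T.simp' i) (c + a) * hg C (T.simp' i) (-a) * nu C i * xg C (T.simp' i) a =
      xg C (T.simp' i) a' * hg C (T.simp' i) (-a') * nu C i * xg C (T.simp' i) (a' + c) := by
    rw [← xg_add, ← xg_add]
    simpa [mul_assoc] using h
  have ha : a ≠ 0 := inv_ne_zero hs
  have ha' : a' ≠ 0 := inv_ne_zero hs'
  have hB : ∀ (x : F) {y : F}, y ≠ 0 → xg C (T.simp' i) x * hg C (T.simp' i) (-y) ∈ D.borelSubgroup F := fun x y hy =>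
    mul_mem (xg_mem_borel C hp (K.simple_pos hi) x) (Subgroup.mem_sup_right (hg_mem C hp (neg_ne_zero.2 hy)))
  obtain ⟨e1, e2⟩ := cell_unique C (hB (c + a) ha) (hB a' ha') (by
    rw [xg_inv, xg_add, nu_conj_xg C hi hp, C.spec.refl_simple i hi]
    exact xg_mem_neg C hnp (lt_of_not_ge fun hle => absurd ((K.neg_pos_iff hp).1 hle) (not_lt.2 (K.simple_pos hi))) _) e
  have e3 : a = a' + c := xg_injective C hp e2
  have e4 : xg C (T.simp' i) (-a' + (c + a)) = hg C (T.simp' i) (-a') * (hg C (T.simp' i) (-a))⁻¹ := by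
    rw [← xg_add, ← xg_inv, eq_mul_inv_iff_mul_eq, mul_assoc, e1, inv_mul_cancel_left]
  have e5 := (Subgroup.eq_bot_iff_forall _).1 (pos_inf_diag C) _
    ⟨xg_mem_pos C hp (K.simple_pos hi) _, e4 ▸ mul_mem (hg_mem C hp (neg_ne_zero.2 ha'))
      (inv_mem (hg_mem C hp (neg_ne_zero.2 ha)))⟩
  have e6 : -a' + (c + a) = 0 := xg_eq_one C hp e5
  rw [e5, eq_comm, mul_inv_eq_one] at e4
  have e7 : (-a') ^ 2 * (1 : F) = (-a) ^ 2 * 1 := xg_injective C hp (by
    rw [← hg_conj_xg C hp (neg_ne_zero.2 ha'), ← hg_conj_xg C hp (neg_ne_zero.2 ha), e4])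
  have h2 : (2 : F) * c = 0 := by linear_combination e6 - e3
  have : c ^ 2 = 0 := by
    rw [e3] at e7
    linear_combination -e7 - a' * h2
  exact pow_eq_zero_iff two_ne_zero |>.1 this

theorem comm_neg_ne {i : ℕ} (hi : i < D.rank) {a b : F} (hb : b ≠ 0)
    (h : Commute (xg C (T.simp' i) a) (xg C (T.neg (T.simp' i)) b)) : a = 0 :=
  eq_zero_of_conj_neg C K hi hb (s' := b) (by rw [h.eq, mul_inv_cancel_right])

omit K in
theorem comm_neg_of_chk (Kc : CommCert D T) (hchk : chkCommNeg T = true) {i l : Fin D.rank} (h : i ≠ l) (a b : F) :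
    Commute (xg C (T.simp' i) a) (xg C (T.neg (T.simp' l)) b) := by
  have := allBelow_iff.1 (allBelow_iff.1 hchk i (by rw [C.spec.shape.rank_eq]; exact i.2)) l
    (by rw [C.spec.shape.rank_eq]; exact l.2)
  simp only [Bool.or_eq_true, Bool.and_eq_true, List.isEmpty_iff, Bool.not_eq_true'] at this
  rcases this with h' | ⟨h', h1, h2⟩
  · exact absurd (Fin.ext (Nat.eq_of_beq_eq_true h')) h
  · have e := comm_xg_prod C Kc (C.spec.simp_lt i i.2) (C.spec.neg_lt _ (C.spec.simp_lt l l.2))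
      (fun e => by rw [e, Nat.beq_refl] at h1; exact Bool.noConfusion h1)
      (fun e => by rw [e, Nat.beq_refl] at h2; exact Bool.noConfusion h2) a b
    rw [h', List.map_nil, List.prod_nil, commutatorElement_eq_one_iff_commute, Commute.inv_left_iff,
      Commute.inv_right_iff] at e
    exact e.symm

/-- Hua's identity: additive maps exchanged by inversion come from a field automorphism. -/
theorem exists_ringEquiv_of_hua [Finite F] {f g : F → F} (hf : ∀ a b, f (a + b) = f a + f b)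
    (hg : ∀ a b, g (a + b) = g a + g b) (hinj : Function.Injective f)
    (h : ∀ t, t ≠ 0 → g (-t⁻¹) = -(f t)⁻¹) :
    ∃ (c : F) (σ : F ≃+* F), c ≠ 0 ∧ (∀ t, f t = c * σ t) ∧ ∀ t, g t = c⁻¹ * σ t := by
  have hf0 : f 0 = 0 := by have := hf 0 0; rw [add_zero] at this; exact left_eq_add.1 this
  have hg0 : g 0 = 0 := by have := hg 0 0; rw [add_zero] at this; exact left_eq_add.1 this
  have hfne : ∀ t, t ≠ 0 → f t ≠ 0 := fun t ht e => ht (hinj (e.trans hf0.symm))
  have hgn : ∀ t, g (-t) = -g t := fun t => eq_neg_of_add_eq_zero_left (by rw [← hg, neg_add_cancel, hg0])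
  have hinv : ∀ t, t ≠ 0 → g t⁻¹ = (f t)⁻¹ := fun t ht => by
    have := h t ht
    rwa [hgn, neg_inj] at this
  set c := f 1
  have hc : c ≠ 0 := hfne 1 one_ne_zero
  let s : F → F := fun t => c⁻¹ * f t
  let u : F → F := fun t => c * g t
  have sadd : ∀ a b, s (a + b) = s a + s b := fun a b => by simp only [s, hf, mul_add]
  have uadd : ∀ a b, u (a + b) = u a + u b := fun a b => by simp only [u, hg, mul_add]
  have s0 : s 0 = 0 := by simp [s, hf0]
  have u0 : u 0 = 0 := by simp [u, hg0]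
  have s1 : s 1 = 1 := inv_mul_cancel₀ hc
  have sn : ∀ t, s (-t) = -s t := fun t => eq_neg_of_add_eq_zero_left (by rw [← sadd, neg_add_cancel, s0])
  have sne : ∀ t, t ≠ 0 → s t ≠ 0 := fun t ht => mul_ne_zero (inv_ne_zero hc) (hfne t ht)
  have key : ∀ t, t ≠ 0 → u t⁻¹ = (s t)⁻¹ := fun t ht => by simp only [u, s, hinv t ht, mul_inv, inv_inv]
  have key' : ∀ t, t ≠ 0 → s t⁻¹ = (u t)⁻¹ := fun t ht => by
    have := key t⁻¹ (inv_ne_zero ht)
    rw [inv_inv] at this
    rw [this, inv_inv]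
  have hua : ∀ a b, s (a ^ 2 * b) = s a ^ 2 * u b := by
    intro a b
    by_cases ha : a = 0
    · simp [ha, s0]
    by_cases hb : b = 0
    · simp [hb, s0, u0]
    by_cases hab : a * b = 1
    · have : b = a⁻¹ := eq_inv_of_mul_eq_one_right hab
      subst this
      rw [key a ha, pow_two, mul_assoc, mul_inv_cancel₀ ha, mul_one, pow_two, mul_assoc, mul_inv_cancel₀ (sne a ha),
        mul_one]
    have hd : b⁻¹ + -a ≠ 0 := fun e => hab (by
      rw [← show b⁻¹ = a by linear_combination e, inv_mul_cancel₀ hb])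
    have hd2 : a⁻¹ + (b⁻¹ + -a)⁻¹ ≠ 0 := by
      intro e
      have e1 : (b⁻¹ + -a)⁻¹ = (-a)⁻¹ := by rw [inv_neg]; linear_combination e
      exact inv_ne_zero hb (by linear_combination inv_injective e1)
    have hub : u b ≠ 0 := by
      intro e
      have := key' b hb
      rw [e, inv_zero] at this
      exact sne _ (inv_ne_zero hb) this
    have hd' : (u b)⁻¹ + -s a ≠ 0 := by
      have := sne _ hd
      rwa [sadd, sn, key' b hb] at this
    have hid : ∀ x y : F, x ≠ 0 → y ≠ 0 → y⁻¹ + -x ≠ 0 → x + -(x⁻¹ + (y⁻¹ + -x)⁻¹)⁻¹ = x ^ 2 * y := by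
      intro x y hx hy hxy
      have e : x⁻¹ + (y⁻¹ + -x)⁻¹ = y⁻¹ * (x⁻¹ * (y⁻¹ + -x)⁻¹) := by
        calc x⁻¹ + (y⁻¹ + -x)⁻¹ = x⁻¹ * ((y⁻¹ + -x) * (y⁻¹ + -x)⁻¹) + x * x⁻¹ * (y⁻¹ + -x)⁻¹ := by
              rw [mul_inv_cancel₀ hxy, mul_inv_cancel₀ hx]; ring
          _ = _ := by ring
      rw [e, mul_inv, mul_inv, inv_inv, inv_inv, inv_inv]
      linear_combination -x * (mul_inv_cancel₀ hy)
    rw [← hid a b ha hb hd, sadd, sn, key' _ hd2, uadd, key a ha, key _ hd, sadd, sn, key' b hb,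
      hid (s a) (u b) (sne a ha) hub hd']
  have su : ∀ b, u b = s b := fun b => by have := hua 1 b; rw [one_pow, one_mul, s1, one_pow, one_mul] at this; exact this.symm
  have hsq : ∀ a b, s (a ^ 2 * b) = s a ^ 2 * s b := fun a b => by rw [hua, su]
  have smul : ∀ a b, s (a * b) = s a * s b := by
    intro a b
    by_cases h2 : (2 : F) = 0
    · haveI : CharP F 2 := by
        obtain ⟨p, hp⟩ := CharP.exists F
        have : p ∣ 2 := (CharP.cast_eq_zero_iff F p 2).1 (by push_cast; exact h2)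
        have hp' := (CharP.char_is_prime_or_zero F p).resolve_right (CharP.char_ne_zero_of_finite F p)
        exact ((Nat.prime_dvd_prime_iff_eq hp' Nat.prime_two).1 this) ▸ hp
      obtain ⟨r, rfl⟩ := Finite.surjective_of_injective (frobenius_inj F 2) a
      rw [frobenius_def, hsq, ← mul_one (r ^ 2), hsq, s1, mul_one]
    · have e := hsq (a + 1) b
      have e2 : (a + 1) ^ 2 * b = a ^ 2 * b + (a * b + a * b + b) := by ring
      rw [e2, sadd, sadd, sadd, hsq, sadd, s1] at e
      refine mul_left_cancel₀ h2 ?_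
      linear_combination e
  have sinj : Function.Injective s := fun a b e => hinj (mul_left_cancel₀ (inv_ne_zero hc) e)
  refine ⟨c, RingEquiv.ofBijective ({ toFun := s, map_one' := s1, map_mul' := smul, map_zero' := s0, map_add' := sadd }
    : F →+* F) (Finite.injective_iff_bijective.1 sinj), hc, fun t => ?_, fun t => ?_⟩
  · show f t = c * (c⁻¹ * f t)
    rw [mul_inv_cancel_left₀ hc]
  · show g t = c⁻¹ * s t
    rw [← su, inv_mul_cancel_left₀ hc]

/-- Rigidity: fixed maximal unipotent subgroups give root-wise field automorphisms with scalars. -/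
theorem exists_rootAct [Finite F] {w : List ℕ} {τ : Fin D.rank → Fin D.rank} (O : OppWord D T w τ)
    (hchk : chkCommNeg T = true) {θ : MulAut ↥(D.group F)}
    (hU : AutKeeps θ ((D.posUnipotent F).subgroupOf (D.group F)))
    (hV : AutKeeps θ ((D.negUnipotent F).subgroupOf (D.group F))) :
    ∃ (π : Equiv.Perm (Fin D.rank)) (c : Fin D.rank → Fˣ) (σ : Fin D.rank → F ≃+* F),
      RootAct C θ π (fun i t => c i * σ i t) (fun i t => ((c i)⁻¹ : Fˣ) * σ i t) := by
  classical
  obtain ⟨π, hπ⟩ := exists_perm_pos C K O hU hV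
  obtain ⟨π', hπ'⟩ := exists_perm_neg C K O hU hV
  have hp : ∀ i : Fin D.rank, T.simp' i < D.nroots := fun i => C.spec.simp_lt i i.2
  have hn : ∀ i : Fin D.rank, T.neg (T.simp' i) < D.nroots := fun i => C.spec.neg_lt _ (hp i)
  have hf : ∀ (i : Fin D.rank) (t : F), ∃ a, θ (autEl C (T.simp' i) t) = autEl C (T.simp' (π i)) a := fun i t => by
    obtain ⟨a, ha⟩ := (mem_rootSubgroup C).1 ((hπ i (autEl C (T.simp' i) t)).2 ((mem_rootSubgroup C).2 ⟨t, rfl⟩))
    exact ⟨a, Subtype.ext ha⟩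
  have hg : ∀ (i : Fin D.rank) (t : F), ∃ a, θ (autEl C (T.neg (T.simp' i)) t) = autEl C (T.neg (T.simp' (π' i))) a := fun i t => by
    obtain ⟨a, ha⟩ :=
      (mem_rootSubgroup C).1 ((hπ' i (autEl C (T.neg (T.simp' i)) t)).2 ((mem_rootSubgroup C).2 ⟨t, rfl⟩))
    exact ⟨a, Subtype.ext ha⟩
  choose f hf using hf
  choose g hg using hg
  have hne : ∀ i, f i 1 ≠ 0 ∧ g i 1 ≠ 0 := fun i => by
    have h0 : ∀ r : ℕ, autEl C r (0 : F) = 1 := fun r => Subtype.ext (xg_zero C r)
    refine ⟨fun e => one_ne_zero (α := F) (autEl_inj C (hp i) ?_), fun e => one_ne_zero (α := F) (autEl_inj C (hn i) ?_)⟩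
    · refine θ.injective ?_; rw [hf, e, h0, h0, map_one]
    · refine θ.injective ?_; rw [hg, e, h0, h0, map_one]
  have hsame : ∀ i, π' i = π i := by
    intro i
    by_contra hne'
    obtain ⟨l, hl⟩ := π'.surjective (π i)
    have hil : i ≠ l := fun e => hne' (e ▸ hl)
    have hc : Commute (autEl C (T.simp' i) (1 : F)) (autEl C (T.neg (T.simp' l)) (1 : F)) :=
      Subtype.ext (comm_neg_of_chk C K.comm hchk hil (1 : F) 1).eq
    have h := hc.map θ
    rw [hf, hg, hl] at h
    exact (hne i).1 (comm_neg_ne C K (π i).2 (hne l).2 (congrArg Subtype.val h.eq))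
  have hg' : ∀ (i : Fin D.rank) (t : F), θ (autEl C (T.neg (T.simp' i)) t) = autEl C (T.neg (T.simp' (π i))) (g i t) := fun i t => by
    rw [hg, hsame]
  have hfadd : ∀ i a b, f i (a + b) = f i a + f i b := fun i a b => autEl_inj C (hp (π i)) (by
    rw [← hf, ← autEl_add, map_mul, hf, hf, autEl_add])
  have hgadd : ∀ i a b, g i (a + b) = g i a + g i b := fun i a b => autEl_inj C (hn (π i)) (by
    rw [← hg', ← autEl_add, map_mul, hg', hg', autEl_add])
  have hfinj : ∀ i, Function.Injective (f i) := fun i a b e =>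
    autEl_inj C (hp i) (θ.injective (by rw [hf, hf, e]))
  have hrig : ∀ i t, t ≠ 0 → g i (-t⁻¹) = -(f i t)⁻¹ := by
    intro i t ht
    have hgne : ∀ u, u ≠ 0 → g i u ≠ 0 := fun u hu e => hu (autEl_inj C (hn i) (θ.injective (by
      rw [hg', e, show autEl C (T.neg (T.simp' i)) (0 : F) = 1 from Subtype.ext (xg_zero C _), map_one]
      exact Subtype.ext (xg_zero C _))))
    set j := π i
    set a := f i t
    set b := g i (-t⁻¹)
    have hb : b ≠ 0 := hgne _ (neg_ne_zero.2 (inv_ne_zero ht))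
    have e0 : autEl C (T.simp' i) t * autEl C (T.neg (T.simp' i)) (-t⁻¹) * autEl C (T.simp' i) t *
        autEl C (T.simp' i) 1 * (autEl C (T.simp' i) t * autEl C (T.neg (T.simp' i)) (-t⁻¹) * autEl C (T.simp' i) t)⁻¹ =
        autEl C (T.neg (T.simp' i)) (-1 / t ^ 2) := Subtype.ext (by
      have := ng_conj_xg C (hp i) ht (1 : F)
      rw [ng, C.spec.shape.neg_eq _ (hp i)] at this
      exact this)
    have e1 := congrArg θ e0
    simp only [map_mul, map_inv, hf, hg'] at e1
    have e2 := congrArg Subtype.val e1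
    simp only [Subgroup.coe_mul, Subgroup.coe_inv, autEl] at e2
    have hyb : xg C (T.neg (T.simp' j)) b =
        xg C (T.simp' j) b⁻¹ * ng C (T.simp' j) (-b⁻¹) * xg C (T.simp' j) b⁻¹ := (rootRel C (F := F) (hp j)).y_eq hb
    have hconj := ng_conj_xg C (hp j) (neg_ne_zero.2 (inv_ne_zero hb)) (f i 1)
    set z := a + b⁻¹
    have hm : xg C (T.simp' j) a * xg C (T.neg (T.simp' j)) b * xg C (T.simp' j) a =
        xg C (T.simp' j) z * ng C (T.simp' j) (-b⁻¹) * xg C (T.simp' j) z := by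
      rw [hyb, show xg C (T.simp' j) z = xg C (T.simp' j) a * xg C (T.simp' j) b⁻¹ from (xg_add C _ _ _).symm]
      have hcm : xg C (T.simp' j) b⁻¹ * xg C (T.simp' j) a = xg C (T.simp' j) a * xg C (T.simp' j) b⁻¹ := by
        rw [xg_add, xg_add, add_comm]
      simp only [mul_assoc]
      rw [hcm]
    rw [hm] at e2
    have hcomm : xg C (T.simp' j) z * xg C (T.simp' j) (f i 1) = xg C (T.simp' j) (f i 1) * xg C (T.simp' j) z := by
      rw [xg_add, xg_add, add_comm]
    have e3 : xg C (T.simp' j) z * xg C (T.neg (T.simp' j)) (-f i 1 / (-b⁻¹) ^ 2) * (xg C (T.simp' j) z)⁻¹ =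
        xg C (T.neg (T.simp' j)) (g i (-1 / t ^ 2)) := by
      rw [← hconj, ← e2]
      calc _ = xg C (T.simp' j) z * ng C (T.simp' j) (-b⁻¹) * (xg C (T.simp' j) (f i 1) * xg C (T.simp' j) z) *
            (xg C (T.simp' j) z)⁻¹ * (ng C (T.simp' j) (-b⁻¹))⁻¹ * (xg C (T.simp' j) z)⁻¹ := by group
        _ = _ := by rw [← hcomm]; group; rfl
    have hz : z = 0 := eq_zero_of_conj_neg C K j.2
      (div_ne_zero (neg_ne_zero.2 (hne i).1) (pow_ne_zero 2 (neg_ne_zero.2 (inv_ne_zero hb)))) e3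
    have : a = -b⁻¹ := eq_neg_of_add_eq_zero_left hz
    rw [this, inv_neg, inv_inv, neg_neg]
  choose c σ hc h1 h2 using fun i => exists_ringEquiv_of_hua C K (hfadd i) (hgadd i) (hfinj i) (hrig i)
  exact ⟨π, fun i => Units.mk0 (c i) (hc i), σ,
    { pos := fun i t => by rw [hf, h1]; rfl
      neg := fun i t => by rw [hg', h2, Units.val_inv_eq_inv_val]; rfl }⟩

/-- Coordinates with respect to the fundamental roots. -/
noncomputable def chkDelta (T : Tbl) (Φ : List (List ℤ)) : Bool :=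
  allBelow (fun k =>
    let d := fval T (Φ.getD k []) (T.simp' k)
    decide (d ≠ 0) && allBelow (fun i => Nat.beq i k || decide (fval T (Φ.getD k []) (T.simp' i) = 0)) T.rank &&
      allBelow (fun r => decide (fval T (Φ.getD k []) r % d = 0)) T.nroots) T.rank

omit K in
/-- Every choice of values on the fundamental roots extends to a character of the root lattice. -/
theorem exists_rootCharacter {Φ : List (List ℤ)} (hΦ : chkDelta T Φ = true) (v : Fin D.rank → Fˣ) :
    ∃ χ : ℕ → Fˣ, D.IsRootCharacter χ ∧ ∀ i : Fin D.rank, χ (T.simp' i) = v i := by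
  classical
  simp only [chkDelta, allBelow_iff, Bool.and_eq_true, Bool.or_eq_true, decide_eq_true_eq, C.spec.shape.rank_eq,
    C.spec.shape.nroots_eq] at hΦ
  let L : ℕ → ℕ → ℤ := fun k r => fval T (Φ.getD k []) r
  let e : ℕ → ℕ → ℤ := fun k r => L k r / L k (T.simp' k)
  have hsplit : ∀ k, k < D.rank → ∀ r, r < D.nroots → L k r = e k r * L k (T.simp' k) := fun k hk r hr =>
    (Int.ediv_mul_cancel (Int.dvd_of_emod_eq_zero ((hΦ k hk).2 r hr))).symm
  refine ⟨fun r => ∏ k : Fin D.rank, v k ^ e k r, ⟨fun r hr => ?_, fun r s q hr hs hq => ?_⟩, fun i => ?_⟩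
  · rw [C.spec.shape.neg_eq r hr, ← Finset.prod_inv_distrib]
    refine Finset.prod_congr rfl fun k _ => ?_
    rw [← zpow_neg]
    congr 1
    have h1 : L k (T.neg r) = -L k r := isLin_neg C (fval_isLin C _) hr
    rw [hsplit k k.2 _ (C.spec.neg_lt r hr), hsplit k k.2 _ hr, ← neg_mul] at h1
    exact mul_right_cancel₀ (hΦ k k.2).1.1 h1
  · rw [ChevalleyDatum.chainRoot, C.spec.shape.chainEntry_eq hr hs, Option.map_eq_some_iff] at hq
    obtain ⟨⟨q', m⟩, hq, rfl⟩ := hq
    obtain ⟨hq1, hq2⟩ := C.spec.entry_mem r hr s hs 0 (q', m) hq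
    rw [← Finset.prod_mul_distrib]
    refine Finset.prod_congr rfl fun k _ => ?_
    rw [← zpow_add]
    congr 1
    have h1 : L k q' = 1 * L k r + 1 * L k s :=
      fval_isLin C _ r s q' 1 1 fun j hj => by rw [hq2 j hj]; simp
    rw [one_mul, one_mul, hsplit k k.2 _ hq1, hsplit k k.2 _ hr, hsplit k k.2 _ hs, ← add_mul] at h1
    exact mul_right_cancel₀ (hΦ k k.2).1.1 h1
  · show ∏ k : Fin D.rank, v k ^ e k (T.simp' i) = v i
    rw [Finset.prod_eq_single i (fun k _ hk => ?_) (fun h => absurd (Finset.mem_univ i) h),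
      show e i (T.simp' i) = 1 from Int.ediv_self (hΦ i i.2).1.1, zpow_one]
    rcases (hΦ k k.2).1.2 i i.2 with h | h
    · exact absurd (Fin.ext (Nat.eq_of_beq_eq_true h)).symm hk
    · rw [show e k (T.simp' i) = 0 by show L k (T.simp' i) / _ = 0; rw [show L k (T.simp' i) = 0 from h, Int.zero_ediv],
        zpow_zero]

omit K in
/-- The diagonal automorphism of a character. -/
theorem exists_diagAut (hlen : D.chain.toList.length = D.nroots) (hstep : chkStep D T = true) {χ : ℕ → Fˣ}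
    (hχ : D.IsRootCharacter χ) :
    ∃ δ : MulAut ↥(D.group F), D.IsDiagonalAut δ ∧
      ∀ r < D.nroots, ∀ t, δ (autEl C r t) = autEl C r ((χ r : F) * t) := by
  classical
  let g : GL D.Idx F := ⟨D.charDiag F χ, D.charDiag F (fun r => (χ r)⁻¹), by
    rw [ChevalleyDatum.charDiag, ChevalleyDatum.charDiag, Matrix.diagonal_mul_diagonal, Matrix.diagonal_eq_one]
    funext i; rcases i with i | i <;> simp, by
    rw [ChevalleyDatum.charDiag, ChevalleyDatum.charDiag, Matrix.diagonal_mul_diagonal, Matrix.diagonal_eq_one]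
    funext i; rcases i with i | i <;> simp⟩
  have hconj : ∀ r < D.nroots, ∀ t : F, g * xg C r t * g⁻¹ = xg C r ((χ r : F) * t) := fun r hr t =>
    Units.ext (by
      rw [Units.val_mul, Units.val_mul, coe_xg, coe_xg]
      exact charDiag_mul_x C hlen hstep hχ hr t)
  have hmap : (D.group F).map (MulAut.conj g).toMonoidHom = D.group F := by
    rw [ChevalleyDatum.group, MonoidHom.map_closure]
    congr 1
    ext x
    constructor
    · rintro ⟨y, ⟨r, t, e⟩, rfl⟩
      refine ⟨r, (χ r : F) * t, ?_⟩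
      rw [eq_xg C (e.trans (by rw [ChevalleyDatum.x, dif_pos r.2]))]
      show ((g * xg C r.1 t * g⁻¹ : GL D.Idx F) : Matrix D.Idx D.Idx F) = _
      rw [hconj r r.2, coe_xg, ChevalleyDatum.x, dif_pos r.2]
    · rintro ⟨r, t, e⟩
      refine ⟨xg C r.1 ((χ r : F)⁻¹ * t), ⟨r, _, by rw [coe_xg, ChevalleyDatum.x, dif_pos r.2]⟩, ?_⟩
      show g * xg C r.1 ((χ r : F)⁻¹ * t) * g⁻¹ = x
      rw [hconj r r.2, mul_inv_cancel_left₀ (Units.ne_zero _)]
      exact (eq_xg C (e.trans (by rw [ChevalleyDatum.x, dif_pos r.2]))).symm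
  let δ : MulAut ↥(D.group F) := ((D.group F).equivMapOfInjective (MulAut.conj g).toMonoidHom
    (MulAut.conj g).injective).trans (MulEquiv.subgroupCongr hmap)
  refine ⟨δ, ⟨χ, hχ, fun x => rfl⟩, fun r hr t => Subtype.ext ?_⟩
  show g * xg C r t * g⁻¹ = xg C r ((χ r : F) * t)
  exact hconj r hr t

omit K in
/-- The automorphism on the representatives of the fundamental reflections. -/
theorem RootAct.map_ng {θ : MulAut ↥(D.group F)} {π : Fin D.rank → Fin D.rank} {σ : Fin D.rank → F ≃+* F}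
    (h : RootAct C θ π (fun i t => σ i t) (fun i t => σ i t)) (i : Fin D.rank) (v : F) :
    θ ⟨ng C (T.simp' i) v, ng_mem_group C _ _⟩ = ⟨ng C (T.simp' (π i)) (σ i v), ng_mem_group C _ _⟩ := by
  have e : ∀ (k : Fin D.rank) (u : F), (⟨ng C (T.simp' k) u, ng_mem_group C _ _⟩ : ↥(D.group F)) =
      autEl C (T.simp' k) u * autEl C (T.neg (T.simp' k)) (-u⁻¹) * autEl C (T.simp' k) u := fun k u => Subtype.ext (by
    show ng C (T.simp' k) u = _
    rw [ng, C.spec.shape.neg_eq _ (C.spec.simp_lt k k.2)]; rfl)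
  rw [e, e, map_mul, map_mul, h.pos, h.neg, map_neg, map_inv₀]

omit K in
/-- The field automorphisms on two nodes against the Cartan integers. -/
theorem RootAct.sigma_rel {θ : MulAut ↥(D.group F)} {π : Fin D.rank → Fin D.rank} {σ : Fin D.rank → F ≃+* F}
    (h : RootAct C θ π (fun i t => σ i t) (fun i t => σ i t)) (i j : Fin D.rank) {t : F} (ht : t ≠ 0) :
    σ j (t ^ T.cartan i (T.simp' j)) = σ i t ^ T.cartan (π i) (T.simp' (π j)) := by
  have hh : ∀ {v : F}, v ≠ 0 → ∀ k : Fin D.rank,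
      hg C (T.simp' k) v = ng C (T.simp' k) v * ng C (T.simp' k) (-1) := fun _ _ => rfl
  have e0 : ∀ (k l : Fin D.rank) {v : F}, v ≠ 0 →
      hg C (T.simp' k) v * xg C (T.simp' l) 1 * (hg C (T.simp' k) v)⁻¹ = xg C (T.simp' l) (v ^ T.cartan k (T.simp' l)) :=
    fun k l v hv => by
      rw [mul_inv_eq_iff_eq_mul]
      refine Units.ext ?_
      have := hMat_mul_x C k.2 (C.spec.simp_lt l l.2) hv (1 : F)
      rw [mul_one, C.spec.shape.simple_eq k k.2, C.spec.shape.cartan_eq k k.2 _ (C.spec.simp_lt l l.2)] at this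
      rwa [Units.val_mul, Units.val_mul, coe_hg, coe_xg, coe_xg]
  let Hl : ∀ (k : Fin D.rank) (v : F), ↥(D.group F) := fun k v =>
    ⟨ng C (T.simp' k) v, ng_mem_group C _ _⟩ * ⟨ng C (T.simp' k) (-1), ng_mem_group C _ _⟩
  have e1 : Hl i t * autEl C (T.simp' j) 1 * (Hl i t)⁻¹ = autEl C (T.simp' j) (t ^ T.cartan i (T.simp' j)) :=
    Subtype.ext (e0 i j ht)
  have e2 := congrArg θ e1
  simp only [Hl, map_mul, map_inv, h.map_ng, h.pos, map_neg, map_one] at e2
  have e3 := congrArg Subtype.val e2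
  simp only [Subgroup.coe_mul, Subgroup.coe_inv, autEl] at e3
  rw [← hh (fun e => ht ((σ i).injective (by rw [e, map_zero]))) (π i),
    e0 (π i) (π j) (fun e => ht ((σ i).injective (by rw [e, map_zero])))] at e3
  exact (xg_injective C (C.spec.simp_lt _ (π j).2) e3).symm

end Cfsg.Lib.Chev
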