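import Cfsg.Agent.Lib.Chev.Graph
import Cfsg.Agent.Lib.Chev.FullAll

/-! Diagram symmetries of the types D4 and E6. -/

set_option autoImplicit false
set_option maxRecDepth 4000

namespace Cfsg.Lib.Chev

open Cfsg.Lie

/-- A symmetry of D4. -/
def symD4_0 : Sym :=
  ⟨[0, 1, 2, 3], [0, 1, 2, 3], [0, 1, 2, 3, 4, 5, 6, 7, 8, 9, 10, 11, 12, 13, 14, 15, 16, 17, 18, 19, 20, 21, 22, 23], [0, 1, 2, 3, 4, 5, 6, 7, 8, 9, 10, 11, 12, 13, 14, 15, 16, 17, 18, 19, 20, 21, 22, 23], [1, 1, 1, 1, 1, 1, 1, 1, 1, 1, 1, 1, 1, 1, 1, 1, 1, 1, 1, 1, 1, 1, 1, 1]⟩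

theorem chkSymD4_0 : chkSym tblD4 symD4_0 = true := by decide +kernel

/-- A symmetry of D4. -/
def symD4_1 : Sym :=
  ⟨[0, 1, 3, 2], [0, 1, 3, 2], [0, 1, 3, 2, 4, 5, 6, 8, 7, 9, 11, 10, 13, 12, 14, 16, 15, 17, 18, 19, 21, 20, 22, 23], [0, 1, 3, 2, 4, 5, 6, 8, 7, 9, 11, 10, 13, 12, 14, 16, 15, 17, 18, 19, 21, 20, 22, 23], [1, 1, 1, 1, 1, 1, 1, 1, 1, 1, 1, 1, 1, 1, 1, 1, 1, 1, 1, 1, 1, 1, 1, 1]⟩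

theorem chkSymD4_1 : chkSym tblD4 symD4_1 = true := by decide +kernel

/-- A symmetry of D4. -/
def symD4_2 : Sym :=
  ⟨[2, 1, 0, 3], [2, 1, 0, 3], [0, 1, 2, 6, 7, 10, 3, 4, 8, 9, 5, 11, 12, 18, 14, 15, 19, 20, 13, 16, 17, 21, 22, 23], [0, 1, 2, 6, 7, 10, 3, 4, 8, 9, 5, 11, 12, 18, 14, 15, 19, 20, 13, 16, 17, 21, 22, 23], [1, 1, 1, -1, -1, 1, -1, -1, 1, 1, 1, 1, 1, 1, 1, 1, -1, -1, 1, -1, -1, 1, 1, 1]⟩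

theorem chkSymD4_2 : chkSym tblD4 symD4_2 = true := by decide +kernel

/-- A symmetry of D4. -/
def symD4_3 : Sym :=
  ⟨[2, 1, 3, 0], [3, 1, 0, 2], [0, 1, 6, 2, 7, 10, 3, 8, 4, 9, 11, 5, 18, 12, 14, 19, 15, 20, 13, 16, 21, 17, 22, 23], [0, 1, 3, 6, 8, 11, 2, 4, 7, 9, 5, 10, 13, 18, 14, 16, 19, 21, 12, 15, 17, 20, 22, 23], [1, 1, -1, 1, -1, 1, -1, 1, -1, 1, 1, 1, 1, 1, 1, -1, 1, -1, 1, -1, 1, -1, 1, 1]⟩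

theorem chkSymD4_3 : chkSym tblD4 symD4_3 = true := by decide +kernel

/-- A symmetry of D4. -/
def symD4_4 : Sym :=
  ⟨[3, 1, 0, 2], [2, 1, 3, 0], [0, 1, 3, 6, 8, 11, 2, 4, 7, 9, 5, 10, 13, 18, 14, 16, 19, 21, 12, 15, 17, 20, 22, 23], [0, 1, 6, 2, 7, 10, 3, 8, 4, 9, 11, 5, 18, 12, 14, 19, 15, 20, 13, 16, 21, 17, 22, 23], [1, 1, 1, -1, -1, 1, -1, -1, 1, 1, 1, 1, 1, 1, 1, 1, -1, -1, 1, -1, -1, 1, 1, 1]⟩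

theorem chkSymD4_4 : chkSym tblD4 symD4_4 = true := by decide +kernel

/-- A symmetry of D4. -/
def symD4_5 : Sym :=
  ⟨[3, 1, 2, 0], [3, 1, 2, 0], [0, 1, 6, 3, 8, 11, 2, 7, 4, 9, 10, 5, 18, 13, 14, 19, 16, 21, 12, 15, 20, 17, 22, 23], [0, 1, 6, 3, 8, 11, 2, 7, 4, 9, 10, 5, 18, 13, 14, 19, 16, 21, 12, 15, 20, 17, 22, 23], [1, 1, -1, 1, -1, 1, -1, 1, -1, 1, 1, 1, 1, 1, 1, -1, 1, -1, 1, -1, 1, -1, 1, 1]⟩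

theorem chkSymD4_5 : chkSym tblD4 symD4_5 = true := by decide +kernel

/-- A symmetry of E6. -/
def symE6_0 : Sym :=
  ⟨[0, 1, 2, 3, 4, 5], [0, 1, 2, 3, 4, 5], [0, 1, 2, 3, 4, 5, 6, 7, 8, 9, 10, 11, 12, 13, 14, 15, 16, 17, 18, 19, 20, 21, 22, 23, 24, 25, 26, 27, 28, 29, 30, 31, 32, 33, 34, 35, 36, 37, 38, 39, 40, 41, 42, 43, 44, 45, 46, 47, 48, 49, 50, 51, 52, 53, 54, 55, 56, 57, 58, 59, 60, 61, 62, 63, 64, 65, 66, 67, 68, 69, 70, 71], [0, 1, 2, 3, 4, 5, 6, 7, 8, 9, 10, 11, 12, 13, 14, 15, 16, 17, 18, 19, 20, 21, 22, 23, 24, 25, 26, 27, 28, 29, 30, 31, 32, 33, 34, 35, 36, 37, 38, 39, 40, 41, 42, 43, 44, 45, 46, 47, 48, 49, 50, 51, 52, 53, 54, 55, 56, 57, 58, 59, 60, 61, 62, 63, 64, 65, 66, 67, 68, 69, 70, 71], [1, 1, 1, 1, 1, 1, 1, 1, 1, 1, 1, 1, 1, 1, 1, 1,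 1, 1, 1, 1, 1, 1, 1, 1, 1, 1, 1, 1, 1, 1, 1, 1, 1, 1, 1, 1, 1, 1, 1, 1, 1, 1, 1, 1, 1, 1, 1, 1, 1, 1, 1, 1, 1, 1, 1, 1, 1, 1, 1, 1, 1, 1, 1, 1, 1, 1, 1, 1, 1, 1, 1, 1]⟩

theorem chkSymE6_0 : chkSym tblE6 symE6_0 = true := by decide +kernel

/-- A symmetry of E6. -/
def symE6_1 : Sym :=
  ⟨[5, 1, 4, 3, 2, 0], [5, 1, 4, 3, 2, 0], [0, 1, 2, 5, 16, 3, 6, 17, 8, 19, 22, 11, 26, 30, 33, 35, 4, 7, 18, 9, 20, 23, 10, 21, 24, 25, 12, 27, 31, 34, 13, 28, 32, 14, 29, 15, 56, 42, 57, 39, 43, 58, 37, 40, 44, 59, 46, 47, 50, 61, 48, 51, 62, 53, 64, 67, 36, 38, 41, 45, 60, 49, 52, 63, 54, 65, 68, 55, 66, 69, 70, 71], [0, 1, 2, 5, 16, 3, 6, 17, 8, 19, 22, 11, 26, 30, 33, 35, 4, 7, 18, 9, 20, 23, 10, 21, 24, 25, 12, 27, 31, 34, 13, 28, 32, 14, 29, 15, 56, 42, 57, 39, 43, 58, 37,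 40, 44, 59, 46, 47, 50, 61, 48, 51, 62, 53, 64, 67, 36, 38, 41, 45, 60, 49, 52, 63, 54, 65, 68, 55, 66, 69, 70, 71], [1, 1, 1, 1, -1, 1, 1, -1, 1, -1, -1, 1, -1, 1, -1, 1, -1, -1, 1, -1, 1, 1, -1, 1, 1, 1, -1, 1, -1, 1, 1, -1, 1, -1, 1, 1, 1, 1, -1, 1, -1, 1, 1, -1, 1, -1, 1, 1, 1, -1, 1, 1, -1, 1, -1, -1, 1, -1, 1, -1, 1, -1, -1, 1, -1, 1, 1, -1, 1, 1, 1, 1]⟩

theorem chkSymE6_1 : chkSym tblE6 symE6_1 = true := by decide +kernel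

end Cfsg.Lib.Chev
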