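import Cfsg.Agent.Lib.Chev.Weyl
import Cfsg.Agent.Lib.Chev.FullAll

/-! Coset representatives for the type B2. -/

set_option autoImplicit false
set_option maxRecDepth 100000

namespace Cfsg.Lib.Chev

open Cfsg.Lie

def weylB2_0 : WLevel :=
  ([(0, [], [5, 4]),
    (0, [0], [2, 7])],
   [[1],
    [0]])

def weylB2_1 : WLevel :=
  ([(0, [], [5, 4]),
    (0, [1], [6, 3]),
    (1, [0, 1], [6, 0]),
    (2, [1, 0, 1], [5, 0])],
   [[4, 1],
    [2, 0],
    [1, 3],
    [4, 2]])

def weylB2 : List WLevel := [weylB2_0, weylB2_1]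

theorem chkLevelB2_0 : chkLevel tblB2 weylB2_0 0 = true := by decide +kernel

theorem chkLevelB2_1 : chkLevel tblB2 weylB2_1 1 = true := by decide +kernel

theorem chkWeylB2 : chkWeyl tblB2 weylB2 = true :=
  allBelow_iff.2 fun m hm => by
    change m < 2 at hm
    interval_cases m
    · exact chkLevelB2_0
    · exact chkLevelB2_1

end Cfsg.Lib.Chev
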