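import Cfsg.Agent.Lib.Chev.Order
import Cfsg.Agent.Lib.Chev.WeylB2

/-! The order polynomial and the torus for the type B2. -/

set_option autoImplicit false
set_option maxRecDepth 100000
set_option maxHeartbeats 2000000

namespace Cfsg.Lib.Chev

open Cfsg.Lie
open scoped Matrix

theorem lensB2_0 : (weylB2_0.1.map fun R => R.2.1.length) = [0, 1] := by decide +kernel

/-- The generating function of level 0. -/
def polB2_0 (q : ℕ) : ℕ := (([0, 1] : List ℕ).map fun e => q ^ e).sum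

theorem stepB2_0 (q : ℕ) : ((q : ℤ) - 1) * (1) * (polB2_0 q : ℤ) = ((q : ℤ) ^ 2 - 1) := by
  simp only [polB2_0, List.map_cons, List.map_nil, List.sum_cons, List.sum_nil]
  push_cast
  ring

theorem accB2_0 (q : ℕ) : ((q : ℤ) - 1) ^ 1 * ((polB2_0 q : ℤ)) = ((q : ℤ) ^ 2 - 1) := by
  linear_combination stepB2_0 q

theorem lensB2_1 : (weylB2_1.1.map fun R => R.2.1.length) = [0, 1, 2, 3] := by decide +kernel

/-- The generating function of level 1. -/
def polB2_1 (q : ℕ) : ℕ := (([0, 1, 2, 3] : List ℕ).map fun e => q ^ e).sum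

theorem stepB2_1 (q : ℕ) : ((q : ℤ) - 1) * (1) * (polB2_1 q : ℤ) = ((q : ℤ) ^ 4 - 1) := by
  simp only [polB2_1, List.map_cons, List.map_nil, List.sum_cons, List.sum_nil]
  push_cast
  ring

theorem accB2_1 (q : ℕ) : ((q : ℤ) - 1) ^ 2 * ((polB2_0 q : ℤ) * (polB2_1 q : ℤ)) = ((q : ℤ) ^ 2 - 1) * ((q : ℤ) ^ 4 - 1) := by
  linear_combination (((q : ℤ) - 1) * (polB2_1 q : ℤ)) * accB2_0 q + (((q : ℤ) ^ 2 - 1)) * stepB2_1 q

theorem polyB2 {q : ℕ} (hq : 1 ≤ q) : (q - 1) ^ chevB2.rank * ∏ j ∈ Finset.range chevB2.rank,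
    (((nth ([], []) weylB2 j).1.map fun R => R.2.1.length).map fun e => q ^ e).sum = (q ^ 2 - 1) * (q ^ 4 - 1) := by
  rw [show chevB2.rank = 2 from rfl]
  simp only [Finset.prod_range_succ, Finset.prod_range_zero, one_mul, nth_eq, weylB2, List.getD_cons_zero, List.getD_cons_succ, lensB2_0, lensB2_1]
  change (q - 1) ^ 2 * (polB2_0 q * polB2_1 q) = (q ^ 2 - 1) * (q ^ 4 - 1)
  have h := accB2_1 q
  have h2 : 1 ≤ q ^ 2 := Nat.one_le_pow _ _ hq
  have h4 : 1 ≤ q ^ 4 := Nat.one_le_pow _ _ hq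
  zify [hq, h2, h4]
  linear_combination h

theorem torusCertB2 : TorusCert chevB2 tblB2 (![1, 2] : Fin 2 → ℕ) :=
  ⟨⟨(!![-1, 0; 2, 1] : Matrix (Fin 2) (Fin 2) ℤ), !![-1, 0; 2, 1], !![0, 1; 1, 2], !![-2, 1; 1, 0], by decide +kernel, by decide +kernel, by decide +kernel, by decide +kernel⟩⟩

end Cfsg.Lib.Chev
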