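import Cfsg.Agent.Lib.Chev.Weyl
import Cfsg.Agent.Lib.Chev.FullAll

/-! Coset representatives for the type D4. -/

set_option autoImplicit false
set_option maxRecDepth 100000

namespace Cfsg.Lib.Chev

open Cfsg.Lie

def weylD4_0 : WLevel :=
  ([(0, [], [18, 14, 13, 12]),
    (0, [0], [5, 19, 13, 12])],
   [[1],
    [0]])

def weylD4_1 : WLevel :=
  ([(0, [], [18, 14, 13, 12]),
    (0, [1], [19, 9, 16, 15]),
    (1, [0, 1], [14, 4, 21, 20])],
   [[3, 1],
    [2, 0],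
    [1, 3]])

def weylD4_2 : WLevel :=
  ([(0, [], [18, 14, 13, 12]),
    (0, [2], [18, 16, 10, 12]),
    (1, [1, 2], [19, 13, 7, 15]),
    (2, [0, 1, 2], [14, 13, 2, 20])],
   [[4, 5, 1],
    [4, 2, 0],
    [3, 1, 5],
    [2, 4, 5]])

def weylD4_3 : WLevel :=
  ([(0, [], [18, 14, 13, 12]),
    (0, [3], [18, 15, 13, 11]),
    (1, [1, 3], [19, 12, 16, 8]),
    (2, [0, 1, 3], [14, 12, 21, 3]),
    (2, [2, 1, 3], [21, 12, 14, 6]),
    (3, [2, 0, 1, 3], [16, 12, 19, 1]),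
    (5, [1, 2, 0, 1, 3], [13, 15, 18, 0]),
    (6, [3, 1, 2, 0, 1, 3], [13, 14, 18, 0])],
   [[8, 9, 10, 1],
    [8, 2, 10, 0],
    [3, 1, 4, 9],
    [2, 8, 5, 9],
    [5, 10, 2, 9],
    [4, 6, 3, 9],
    [10, 5, 8, 7],
    [10, 9, 8, 6]])

def weylD4 : List WLevel := [weylD4_0, weylD4_1, weylD4_2, weylD4_3]

theorem chkLevelD4_0 : chkLevel tblD4 weylD4_0 0 = true := by decide +kernel

theorem chkLevelD4_1 : chkLevel tblD4 weylD4_1 1 = true := by decide +kernel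

theorem chkLevelD4_2 : chkLevel tblD4 weylD4_2 2 = true := by decide +kernel

theorem chkLevelD4_3 : chkLevel tblD4 weylD4_3 3 = true := by decide +kernel

theorem chkWeylD4 : chkWeyl tblD4 weylD4 = true :=
  allBelow_iff.2 fun m hm => by
    change m < 4 at hm
    interval_cases m
    · exact chkLevelD4_0
    · exact chkLevelD4_1
    · exact chkLevelD4_2
    · exact chkLevelD4_3

end Cfsg.Lib.Chev
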