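import Cfsg.Agent.Lib.Chev.Order
import Cfsg.Agent.Lib.Chev.WeylD4

/-! The order polynomial and the torus for the type D4. -/

set_option autoImplicit false
set_option maxRecDepth 100000
set_option maxHeartbeats 2000000

namespace Cfsg.Lib.Chev

open Cfsg.Lie
open scoped Matrix

theorem lensD4_0 : (weylD4_0.1.map fun R => R.2.1.length) = [0, 1] := by decide +kernel

/-- The generating function of level 0. -/
def polD4_0 (q : ℕ) : ℕ := (([0, 1] : List ℕ).map fun e => q ^ e).sum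

theorem stepD4_0 (q : ℕ) : ((q : ℤ) - 1) * (1) * (polD4_0 q : ℤ) = ((q : ℤ) ^ 2 - 1) := by
  simp only [polD4_0, List.map_cons, List.map_nil, List.sum_cons, List.sum_nil]
  push_cast
  ring

theorem accD4_0 (q : ℕ) : ((q : ℤ) - 1) ^ 1 * ((polD4_0 q : ℤ)) = ((q : ℤ) ^ 2 - 1) := by
  linear_combination stepD4_0 q

theorem lensD4_1 : (weylD4_1.1.map fun R => R.2.1.length) = [0, 1, 2] := by decide +kernel

/-- The generating function of level 1. -/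
def polD4_1 (q : ℕ) : ℕ := (([0, 1, 2] : List ℕ).map fun e => q ^ e).sum

theorem stepD4_1 (q : ℕ) : ((q : ℤ) - 1) * (1) * (polD4_1 q : ℤ) = ((q : ℤ) ^ 3 - 1) := by
  simp only [polD4_1, List.map_cons, List.map_nil, List.sum_cons, List.sum_nil]
  push_cast
  ring

theorem accD4_1 (q : ℕ) : ((q : ℤ) - 1) ^ 2 * ((polD4_0 q : ℤ) * (polD4_1 q : ℤ)) = ((q : ℤ) ^ 2 - 1) * ((q : ℤ) ^ 3 - 1) := by
  linear_combination (((q : ℤ) - 1) * (polD4_1 q : ℤ)) * accD4_0 q + (((q : ℤ) ^ 2 - 1)) * stepD4_1 q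

theorem lensD4_2 : (weylD4_2.1.map fun R => R.2.1.length) = [0, 1, 2, 3] := by decide +kernel

/-- The generating function of level 2. -/
def polD4_2 (q : ℕ) : ℕ := (([0, 1, 2, 3] : List ℕ).map fun e => q ^ e).sum

theorem stepD4_2 (q : ℕ) : ((q : ℤ) - 1) * (1) * (polD4_2 q : ℤ) = ((q : ℤ) ^ 4 - 1) := by
  simp only [polD4_2, List.map_cons, List.map_nil, List.sum_cons, List.sum_nil]
  push_cast
  ring

theorem accD4_2 (q : ℕ) : ((q : ℤ) - 1) ^ 3 * ((polD4_0 q : ℤ) * (polD4_1 q : ℤ) * (polD4_2 q : ℤ)) = ((q : ℤ) ^ 2 - 1) * ((q : ℤ) ^ 3 - 1) * ((q : ℤ) ^ 4 - 1) := by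
  linear_combination (((q : ℤ) - 1) * (polD4_2 q : ℤ)) * accD4_1 q + (((q : ℤ) ^ 2 - 1) * ((q : ℤ) ^ 3 - 1)) * stepD4_2 q

theorem lensD4_3 : (weylD4_3.1.map fun R => R.2.1.length) = [0, 1, 2, 3, 3, 4, 5, 6] := by decide +kernel

/-- The generating function of level 3. -/
def polD4_3 (q : ℕ) : ℕ := (([0, 1, 2, 3, 3, 4, 5, 6] : List ℕ).map fun e => q ^ e).sum

theorem stepD4_3 (q : ℕ) : ((q : ℤ) - 1) * (((q : ℤ) ^ 3 - 1)) * (polD4_3 q : ℤ) = ((q : ℤ) ^ 4 - 1) * ((q : ℤ) ^ 6 - 1) := by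
  simp only [polD4_3, List.map_cons, List.map_nil, List.sum_cons, List.sum_nil]
  push_cast
  ring

theorem accD4_3 (q : ℕ) : ((q : ℤ) - 1) ^ 4 * ((polD4_0 q : ℤ) * (polD4_1 q : ℤ) * (polD4_2 q : ℤ) * (polD4_3 q : ℤ)) = ((q : ℤ) ^ 2 - 1) * ((q : ℤ) ^ 4 - 1) * ((q : ℤ) ^ 4 - 1) * ((q : ℤ) ^ 6 - 1) := by
  linear_combination (((q : ℤ) - 1) * (polD4_3 q : ℤ)) * accD4_2 q + (((q : ℤ) ^ 2 - 1) * ((q : ℤ) ^ 4 - 1)) * stepD4_3 q

theorem polyD4 {q : ℕ} (hq : 1 ≤ q) : (q - 1) ^ chevD4.rank * ∏ j ∈ Finset.range chevD4.rank,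
    (((nth ([], []) weylD4 j).1.map fun R => R.2.1.length).map fun e => q ^ e).sum = (q ^ 2 - 1) * (q ^ 4 - 1) * (q ^ 4 - 1) * (q ^ 6 - 1) := by
  rw [show chevD4.rank = 4 from rfl]
  simp only [Finset.prod_range_succ, Finset.prod_range_zero, one_mul, nth_eq, weylD4, List.getD_cons_zero, List.getD_cons_succ, lensD4_0, lensD4_1, lensD4_2, lensD4_3]
  change (q - 1) ^ 4 * (polD4_0 q * polD4_1 q * polD4_2 q * polD4_3 q) = (q ^ 2 - 1) * (q ^ 4 - 1) * (q ^ 4 - 1) * (q ^ 6 - 1)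
  have h := accD4_3 q
  have h2 : 1 ≤ q ^ 2 := Nat.one_le_pow _ _ hq
  have h4 : 1 ≤ q ^ 4 := Nat.one_le_pow _ _ hq
  have h6 : 1 ≤ q ^ 6 := Nat.one_le_pow _ _ hq
  zify [hq, h2, h4, h6]
  linear_combination h

theorem torusCertD4 : TorusCert chevD4 tblD4 (![1, 1, 2, 2] : Fin 4 → ℕ) :=
  ⟨⟨(!![-1, 0, 0, 0; -2, -1, 0, 0; -3, -2, -1, 0; 2, 2, 1, 1] : Matrix (Fin 4) (Fin 4) ℤ), !![-1, 0, 0, 0; 2, -1, 0, 0; -1, 2, -1, 0; -1, 0, 1, 1], !![0, 0, 0, 1; 1, 0, 0, 2; 0, 1, -1, 1; 0, 0, 1, 2], !![-2, 1, 0, 0; -3, 0, 1, 1; -2, 0, 0, 1; 1, 0, 0, 0], by decide +kernel, by decide +kernel, by decide +kernel, by decide +kernel⟩⟩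

end Cfsg.Lib.Chev
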