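import Cfsg.Agent.Lib.Chev.Weyl
import Cfsg.Agent.Lib.Chev.FullAll

/-! Coset representatives for the type E6. -/

set_option autoImplicit false
set_option maxRecDepth 100000

namespace Cfsg.Lib.Chev

open Cfsg.Lie

def weylE6_0 : WLevel :=
  ([(0, [], [56, 46, 42, 39, 37, 36]),
    (0, [0], [15, 46, 57, 39, 37, 36])],
   [[1],
    [0]])

def weylE6_1 : WLevel :=
  ([(0, [], [56, 46, 42, 39, 37, 36]),
    (0, [1], [56, 25, 42, 47, 37, 36])],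
   [[2, 1],
    [2, 0]])

def weylE6_2 : WLevel :=
  ([(0, [], [56, 46, 42, 39, 37, 36]),
    (0, [2], [57, 46, 29, 43, 37, 36]),
    (1, [0, 2], [42, 46, 14, 58, 37, 36])],
   [[3, 4, 1],
    [2, 4, 0],
    [1, 4, 3]])

def weylE6_3 : WLevel :=
  ([(0, [], [56, 46, 42, 39, 37, 36]),
    (0, [3], [56, 47, 43, 32, 40, 36]),
    (1, [1, 3], [56, 39, 50, 24, 48, 36]),
    (1, [2, 3], [57, 50, 39, 28, 44, 36]),
    (2, [2, 1, 3], [57, 43, 47, 21, 51, 36]),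
    (3, [0, 2, 3], [42, 61, 39, 13, 59, 36]),
    (4, [0, 2, 1, 3], [42, 58, 47, 10, 62, 36]),
    (4, [3, 2, 1, 3], [58, 42, 46, 21, 53, 36]),
    (6, [3, 0, 2, 1, 3], [43, 57, 46, 10, 64, 36]),
    (8, [2, 3, 0, 2, 1, 3], [39, 56, 46, 10, 67, 36])],
   [[10, 11, 12, 1],
    [10, 2, 3, 0],
    [10, 1, 4, 11],
    [5, 4, 1, 12],
    [6, 3, 2, 7],
    [3, 6, 10, 12],
    [4, 5, 10, 8],
    [8, 12, 11, 4],
    [7, 12, 9, 6],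
    [11, 12, 8, 10]])

def weylE6_4 : WLevel :=
  ([(0, [], [56, 46, 42, 39, 37, 36]),
    (0, [4], [56, 46, 42, 40, 34, 38]),
    (1, [3, 4], [56, 47, 43, 37, 31, 41]),
    (2, [1, 3, 4], [56, 39, 50, 37, 23, 49]),
    (2, [2, 3, 4], [57, 50, 39, 37, 27, 45]),
    (3, [2, 1, 3, 4], [57, 43, 47, 37, 20, 52]),
    (4, [0, 2, 3, 4], [42, 61, 39, 37, 12, 60]),
    (5, [0, 2, 1, 3, 4], [42, 58, 47, 37, 9, 63]),
    (5, [3, 2, 1, 3, 4], [58, 42, 46, 40, 18, 54]),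
    (7, [3, 0, 2, 1, 3, 4], [43, 57, 46, 40, 7, 65]),
    (8, [4, 3, 2, 1, 3, 4], [59, 42, 46, 39, 18, 55]),
    (9, [2, 3, 0, 2, 1, 3, 4], [39, 56, 46, 44, 4, 68]),
    (9, [4, 3, 0, 2, 1, 3, 4], [44, 57, 46, 39, 7, 66]),
    (11, [4, 2, 3, 0, 2, 1, 3, 4], [40, 56, 46, 43, 4, 69]),
    (13, [3, 4, 2, 3, 0, 2, 1, 3, 4], [37, 56, 47, 42, 4, 70]),
    (14, [1, 3, 4, 2, 3, 0, 2, 1, 3, 4], [37, 56, 39, 42, 4, 71])],
   [[16, 17, 18, 19, 1],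
    [16, 17, 18, 2, 0],
    [16, 3, 4, 1, 19],
    [16, 2, 5, 17, 19],
    [6, 5, 2, 18, 19],
    [7, 4, 3, 8, 19],
    [4, 7, 16, 18, 19],
    [5, 6, 16, 9, 19],
    [9, 18, 17, 5, 10],
    [8, 18, 11, 7, 12],
    [12, 18, 17, 19, 8],
    [17, 18, 9, 16, 13],
    [10, 18, 13, 19, 9],
    [17, 18, 12, 14, 11],
    [17, 15, 19, 13, 16],
    [17, 14, 19, 18, 16]])

def weylE6_5 : WLevel :=
  ([(0, [], [56, 46, 42, 39, 37, 36]),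
    (0, [5], [56, 46, 42, 39, 38, 35]),
    (1, [4, 5], [56, 46, 42, 40, 36, 33]),
    (2, [3, 4, 5], [56, 47, 43, 37, 36, 30]),
    (3, [1, 3, 4, 5], [56, 39, 50, 37, 36, 22]),
    (3, [2, 3, 4, 5], [57, 50, 39, 37, 36, 26]),
    (4, [2, 1, 3, 4, 5], [57, 43, 47, 37, 36, 19]),
    (5, [0, 2, 3, 4, 5], [42, 61, 39, 37, 36, 11]),
    (6, [0, 2, 1, 3, 4, 5], [42, 58, 47, 37, 36, 8]),
    (6, [3, 2, 1, 3, 4, 5], [58, 42, 46, 40, 36, 17]),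
    (8, [3, 0, 2, 1, 3, 4, 5], [43, 57, 46, 40, 36, 6]),
    (9, [4, 3, 2, 1, 3, 4, 5], [59, 42, 46, 39, 38, 16]),
    (10, [2, 3, 0, 2, 1, 3, 4, 5], [39, 56, 46, 44, 36, 3]),
    (10, [4, 3, 0, 2, 1, 3, 4, 5], [44, 57, 46, 39, 38, 5]),
    (11, [5, 4, 3, 2, 1, 3, 4, 5], [60, 42, 46, 39, 37, 16]),
    (12, [4, 2, 3, 0, 2, 1, 3, 4, 5], [40, 56, 46, 43, 38, 2]),
    (13, [5, 4, 3, 0, 2, 1, 3, 4, 5], [45, 57, 46, 39, 37, 5]),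
    (15, [3, 4, 2, 3, 0, 2, 1, 3, 4, 5], [37, 56, 47, 42, 41, 1]),
    (15, [5, 4, 2, 3, 0, 2, 1, 3, 4, 5], [41, 56, 46, 43, 37, 2]),
    (17, [1, 3, 4, 2, 3, 0, 2, 1, 3, 4, 5], [37, 56, 39, 42, 49, 0]),
    (17, [5, 3, 4, 2, 3, 0, 2, 1, 3, 4, 5], [38, 56, 47, 42, 40, 1]),
    (19, [5, 1, 3, 4, 2, 3, 0, 2, 1, 3, 4, 5], [38, 56, 39, 42, 48, 0]),
    (20, [4, 5, 3, 4, 2, 3, 0, 2, 1, 3, 4, 5], [36, 56, 48, 42, 39, 1]),
    (21, [4, 5, 1, 3, 4, 2, 3, 0, 2, 1, 3, 4, 5], [36, 56, 40, 42, 47, 0]),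
    (23, [3, 4, 5, 1, 3, 4, 2, 3, 0, 2, 1, 3, 4, 5], [36, 56, 37, 43, 46, 0]),
    (24, [2, 3, 4, 5, 1, 3, 4, 2, 3, 0, 2, 1, 3, 4, 5], [36, 57, 37, 39, 46, 0]),
    (25, [0, 2, 3, 4, 5, 1, 3, 4, 2, 3, 0, 2, 1, 3, 4, 5], [36, 42, 37, 39, 46, 0])],
   [[27, 28, 29, 30, 31, 1],
    [27, 28, 29, 30, 2, 0],
    [27, 28, 29, 3, 1, 31],
    [27, 4, 5, 2, 30, 31],
    [27, 3, 6, 28, 30, 31],
    [7, 6, 3, 29, 30, 31],
    [8, 5, 4, 9, 30, 31],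
    [5, 8, 27, 29, 30, 31],
    [6, 7, 27, 10, 30, 31],
    [10, 29, 28, 6, 11, 31],
    [9, 29, 12, 8, 13, 31],
    [13, 29, 28, 30, 9, 14],
    [28, 29, 10, 27, 15, 31],
    [11, 29, 15, 30, 10, 16],
    [16, 29, 28, 30, 31, 11],
    [28, 29, 13, 17, 12, 18],
    [14, 29, 18, 30, 31, 13],
    [28, 19, 30, 15, 27, 20],
    [28, 29, 16, 20, 31, 15],
    [28, 17, 30, 29, 27, 21],
    [28, 21, 30, 18, 22, 17],
    [28, 20, 30, 29, 23, 19],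
    [28, 23, 30, 31, 20, 27],
    [28, 22, 30, 24, 21, 27],
    [28, 31, 25, 23, 29, 27],
    [26, 31, 24, 30, 29, 27],
    [25, 31, 28, 30, 29, 27]])

def weylE6 : List WLevel := [weylE6_0, weylE6_1, weylE6_2, weylE6_3, weylE6_4, weylE6_5]

theorem chkLevelE6_0 : chkLevel tblE6 weylE6_0 0 = true := by decide +kernel

theorem chkLevelE6_1 : chkLevel tblE6 weylE6_1 1 = true := by decide +kernel

theorem chkLevelE6_2 : chkLevel tblE6 weylE6_2 2 = true := by decide +kernel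

theorem chkLevelE6_3 : chkLevel tblE6 weylE6_3 3 = true := by decide +kernel

theorem chkLevelE6_4 : chkLevel tblE6 weylE6_4 4 = true := by decide +kernel

theorem chkLevelE6_5 : chkLevel tblE6 weylE6_5 5 = true := by decide +kernel

theorem chkWeylE6 : chkWeyl tblE6 weylE6 = true :=
  allBelow_iff.2 fun m hm => by
    change m < 6 at hm
    interval_cases m
    · exact chkLevelE6_0
    · exact chkLevelE6_1
    · exact chkLevelE6_2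
    · exact chkLevelE6_3
    · exact chkLevelE6_4
    · exact chkLevelE6_5

end Cfsg.Lib.Chev
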