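import Cfsg.Agent.Lib.Chev.Order
import Cfsg.Agent.Lib.Chev.WeylE6

/-! The order polynomial and the torus for the type E6. -/

set_option autoImplicit false
set_option maxRecDepth 100000
set_option maxHeartbeats 2000000

namespace Cfsg.Lib.Chev

open Cfsg.Lie
open scoped Matrix

theorem lensE6_0 : (weylE6_0.1.map fun R => R.2.1.length) = [0, 1] := by decide +kernel

/-- The generating function of level 0. -/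
def polE6_0 (q : ℕ) : ℕ := (([0, 1] : List ℕ).map fun e => q ^ e).sum

theorem stepE6_0 (q : ℕ) : ((q : ℤ) - 1) * (1) * (polE6_0 q : ℤ) = ((q : ℤ) ^ 2 - 1) := by
  simp only [polE6_0, List.map_cons, List.map_nil, List.sum_cons, List.sum_nil]
  push_cast
  ring

theorem accE6_0 (q : ℕ) : ((q : ℤ) - 1) ^ 1 * ((polE6_0 q : ℤ)) = ((q : ℤ) ^ 2 - 1) := by
  linear_combination stepE6_0 q

theorem lensE6_1 : (weylE6_1.1.map fun R => R.2.1.length) = [0, 1] := by decide +kernel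

/-- The generating function of level 1. -/
def polE6_1 (q : ℕ) : ℕ := (([0, 1] : List ℕ).map fun e => q ^ e).sum

theorem stepE6_1 (q : ℕ) : ((q : ℤ) - 1) * (1) * (polE6_1 q : ℤ) = ((q : ℤ) ^ 2 - 1) := by
  simp only [polE6_1, List.map_cons, List.map_nil, List.sum_cons, List.sum_nil]
  push_cast
  ring

theorem accE6_1 (q : ℕ) : ((q : ℤ) - 1) ^ 2 * ((polE6_0 q : ℤ) * (polE6_1 q : ℤ)) = ((q : ℤ) ^ 2 - 1) * ((q : ℤ) ^ 2 - 1) := by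
  linear_combination (((q : ℤ) - 1) * (polE6_1 q : ℤ)) * accE6_0 q + (((q : ℤ) ^ 2 - 1)) * stepE6_1 q

theorem lensE6_2 : (weylE6_2.1.map fun R => R.2.1.length) = [0, 1, 2] := by decide +kernel

/-- The generating function of level 2. -/
def polE6_2 (q : ℕ) : ℕ := (([0, 1, 2] : List ℕ).map fun e => q ^ e).sum

theorem stepE6_2 (q : ℕ) : ((q : ℤ) - 1) * (1) * (polE6_2 q : ℤ) = ((q : ℤ) ^ 3 - 1) := by
  simp only [polE6_2, List.map_cons, List.map_nil, List.sum_cons, List.sum_nil]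
  push_cast
  ring

theorem accE6_2 (q : ℕ) : ((q : ℤ) - 1) ^ 3 * ((polE6_0 q : ℤ) * (polE6_1 q : ℤ) * (polE6_2 q : ℤ)) = ((q : ℤ) ^ 2 - 1) * ((q : ℤ) ^ 2 - 1) * ((q : ℤ) ^ 3 - 1) := by
  linear_combination (((q : ℤ) - 1) * (polE6_2 q : ℤ)) * accE6_1 q + (((q : ℤ) ^ 2 - 1) * ((q : ℤ) ^ 2 - 1)) * stepE6_2 q

theorem lensE6_3 : (weylE6_3.1.map fun R => R.2.1.length) = [0, 1, 2, 2, 3, 3, 4, 4, 5, 6] := by decide +kernel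

/-- The generating function of level 3. -/
def polE6_3 (q : ℕ) : ℕ := (([0, 1, 2, 2, 3, 3, 4, 4, 5, 6] : List ℕ).map fun e => q ^ e).sum

theorem stepE6_3 (q : ℕ) : ((q : ℤ) - 1) * (((q : ℤ) ^ 2 - 1)) * (polE6_3 q : ℤ) = ((q : ℤ) ^ 4 - 1) * ((q : ℤ) ^ 5 - 1) := by
  simp only [polE6_3, List.map_cons, List.map_nil, List.sum_cons, List.sum_nil]
  push_cast
  ring

theorem accE6_3 (q : ℕ) : ((q : ℤ) - 1) ^ 4 * ((polE6_0 q : ℤ) * (polE6_1 q : ℤ) * (polE6_2 q : ℤ) * (polE6_3 q : ℤ)) = ((q : ℤ) ^ 2 - 1) * ((q : ℤ) ^ 3 - 1) * ((q : ℤ) ^ 4 - 1) * ((q : ℤ) ^ 5 - 1) := by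
  linear_combination (((q : ℤ) - 1) * (polE6_3 q : ℤ)) * accE6_2 q + (((q : ℤ) ^ 2 - 1) * ((q : ℤ) ^ 3 - 1)) * stepE6_3 q

theorem lensE6_4 : (weylE6_4.1.map fun R => R.2.1.length) = [0, 1, 2, 3, 3, 4, 4, 5, 5, 6, 6, 7, 7, 8, 9, 10] := by decide +kernel

/-- The generating function of level 4. -/
def polE6_4 (q : ℕ) : ℕ := (([0, 1, 2, 3, 3, 4, 4, 5, 5, 6, 6, 7, 7, 8, 9, 10] : List ℕ).map fun e => q ^ e).sum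

theorem stepE6_4 (q : ℕ) : ((q : ℤ) - 1) * (((q : ℤ) ^ 3 - 1)) * (polE6_4 q : ℤ) = ((q : ℤ) ^ 6 - 1) * ((q : ℤ) ^ 8 - 1) := by
  simp only [polE6_4, List.map_cons, List.map_nil, List.sum_cons, List.sum_nil]
  push_cast
  ring

theorem accE6_4 (q : ℕ) : ((q : ℤ) - 1) ^ 5 * ((polE6_0 q : ℤ) * (polE6_1 q : ℤ) * (polE6_2 q : ℤ) * (polE6_3 q : ℤ) * (polE6_4 q : ℤ)) = ((q : ℤ) ^ 2 - 1) * ((q : ℤ) ^ 4 - 1) * ((q : ℤ) ^ 5 - 1) * ((q : ℤ) ^ 6 - 1) * ((q : ℤ) ^ 8 - 1) := by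
  linear_combination (((q : ℤ) - 1) * (polE6_4 q : ℤ)) * accE6_3 q + (((q : ℤ) ^ 2 - 1) * ((q : ℤ) ^ 4 - 1) * ((q : ℤ) ^ 5 - 1)) * stepE6_4 q

theorem lensE6_5 : (weylE6_5.1.map fun R => R.2.1.length) = [0, 1, 2, 3, 4, 4, 5, 5, 6, 6, 7, 7, 8, 8, 8, 9, 9, 10, 10, 11, 11, 12, 12, 13, 14, 15, 16] := by decide +kernel

/-- The generating function of level 5. -/
def polE6_5 (q : ℕ) : ℕ := (([0, 1, 2, 3, 4, 4, 5, 5, 6, 6, 7, 7, 8, 8, 8, 9, 9, 10, 10, 11, 11, 12, 12, 13, 14, 15, 16] : List ℕ).map fun e => q ^ e).sum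

theorem stepE6_5 (q : ℕ) : ((q : ℤ) - 1) * (((q : ℤ) ^ 4 - 1)) * (polE6_5 q : ℤ) = ((q : ℤ) ^ 9 - 1) * ((q : ℤ) ^ 12 - 1) := by
  simp only [polE6_5, List.map_cons, List.map_nil, List.sum_cons, List.sum_nil]
  push_cast
  ring

theorem accE6_5 (q : ℕ) : ((q : ℤ) - 1) ^ 6 * ((polE6_0 q : ℤ) * (polE6_1 q : ℤ) * (polE6_2 q : ℤ) * (polE6_3 q : ℤ) * (polE6_4 q : ℤ) * (polE6_5 q : ℤ)) = ((q : ℤ) ^ 2 - 1) * ((q : ℤ) ^ 5 - 1) * ((q : ℤ) ^ 6 - 1) * ((q : ℤ) ^ 8 - 1) * ((q : ℤ) ^ 9 - 1) * ((q : ℤ) ^ 12 - 1) := by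
  linear_combination (((q : ℤ) - 1) * (polE6_5 q : ℤ)) * accE6_4 q + (((q : ℤ) ^ 2 - 1) * ((q : ℤ) ^ 5 - 1) * ((q : ℤ) ^ 6 - 1) * ((q : ℤ) ^ 8 - 1)) * stepE6_5 q

theorem polyE6 {q : ℕ} (hq : 1 ≤ q) : (q - 1) ^ chevE6.rank * ∏ j ∈ Finset.range chevE6.rank,
    (((nth ([], []) weylE6 j).1.map fun R => R.2.1.length).map fun e => q ^ e).sum = (q ^ 2 - 1) * (q ^ 5 - 1) * (q ^ 6 - 1) * (q ^ 8 - 1) * (q ^ 9 - 1) * (q ^ 12 - 1) := by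
  rw [show chevE6.rank = 6 from rfl]
  simp only [Finset.prod_range_succ, Finset.prod_range_zero, one_mul, nth_eq, weylE6, List.getD_cons_zero, List.getD_cons_succ, lensE6_0, lensE6_1, lensE6_2, lensE6_3, lensE6_4, lensE6_5]
  change (q - 1) ^ 6 * (polE6_0 q * polE6_1 q * polE6_2 q * polE6_3 q * polE6_4 q * polE6_5 q) = (q ^ 2 - 1) * (q ^ 5 - 1) * (q ^ 6 - 1) * (q ^ 8 - 1) * (q ^ 9 - 1) * (q ^ 12 - 1)
  have h := accE6_5 q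
  have h2 : 1 ≤ q ^ 2 := Nat.one_le_pow _ _ hq
  have h5 : 1 ≤ q ^ 5 := Nat.one_le_pow _ _ hq
  have h6 : 1 ≤ q ^ 6 := Nat.one_le_pow _ _ hq
  have h8 : 1 ≤ q ^ 8 := Nat.one_le_pow _ _ hq
  have h9 : 1 ≤ q ^ 9 := Nat.one_le_pow _ _ hq
  have h12 : 1 ≤ q ^ 12 := Nat.one_le_pow _ _ hq
  zify [hq, h2, h5, h6, h8, h9, h12]
  linear_combination h

theorem torusCertE6 : TorusCert chevE6 tblE6 (![1, 1, 1, 1, 1, 3] : Fin 6 → ℕ) :=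
  ⟨⟨(!![-1, 0, 0, 0, 0, 0; 0, -1, 0, 0, 0, 0; 1, -2, 0, -1, 0, 0; 2, -3, 0, -2, -1, 0; -2, 1, -1, 0, 0, 0; -5, 0, -4, -3, -2, -1] : Matrix (Fin 6) (Fin 6) ℤ), !![-1, 0, 0, 0, 0, 0; 0, -1, 0, 0, 0, 0; 2, -1, 0, 0, -1, 0; -1, 2, -1, 0, 0, 0; 0, -1, 2, -1, 0, 0; 0, 0, -1, 2, 4, -1], !![0, 0, 0, 0, 1, -2; 0, 0, 0, 0, 2, -3; 1, 0, 0, 0, 2, -4; 0, 1, 0, 0, 4, -6; 0, 0, 1, 0, 4, -5; 0, 0, 0, 1, 4, -4], !![-2, 0, 1, 0, 0, 0; 0, -2, 0, 1, 0, 0; 2, -3, 0, 0, 1, 0; 4, -4, 0, 0, 0, 1; -3, 2, 0, 0, 0, 0; -2, 1, 0, 0, 0, 0], by decide +kernel, by decide +kernel, by decide +kernel, by decide +kernel⟩⟩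

end Cfsg.Lib.Chev
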