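import Cfsg.Agent.Lib.Chev.Weyl
import Cfsg.Agent.Lib.Chev.FullAll

/-! Coset representatives for the type E7. -/

set_option autoImplicit false
set_option maxRecDepth 100000

namespace Cfsg.Lib.Chev

open Cfsg.Lie

def weylE7_0 : WLevel :=
  ([(0, [], [93, 78, 73, 69, 66, 64, 63]),
    (0, [0], [32, 78, 94, 69, 66, 64, 63])],
   [[1],
    [0]])

def weylE7_1 : WLevel :=
  ([(0, [], [93, 78, 73, 69, 66, 64, 63]),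
    (0, [1], [93, 47, 73, 79, 66, 64, 63])],
   [[2, 1],
    [2, 0]])

def weylE7_2 : WLevel :=
  ([(0, [], [93, 78, 73, 69, 66, 64, 63]),
    (0, [2], [94, 78, 52, 74, 66, 64, 63]),
    (1, [0, 2], [73, 78, 31, 95, 66, 64, 63])],
   [[3, 4, 1],
    [2, 4, 0],
    [1, 4, 3]])

def weylE7_3 : WLevel :=
  ([(0, [], [93, 78, 73, 69, 66, 64, 63]),
    (0, [3], [93, 79, 74, 56, 70, 64, 63]),
    (1, [1, 3], [93, 69, 83, 46, 80, 64, 63]),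
    (1, [2, 3], [94, 83, 69, 51, 75, 64, 63]),
    (2, [2, 1, 3], [94, 74, 79, 42, 84, 64, 63]),
    (3, [0, 2, 3], [73, 99, 69, 30, 96, 64, 63]),
    (4, [0, 2, 1, 3], [73, 95, 79, 26, 100, 64, 63]),
    (4, [3, 2, 1, 3], [95, 73, 78, 42, 87, 64, 63]),
    (6, [3, 0, 2, 1, 3], [74, 94, 78, 26, 103, 64, 63]),
    (8, [2, 3, 0, 2, 1, 3], [69, 93, 78, 26, 109, 64, 63])],
   [[10, 11, 12, 1],
    [10, 2, 3, 0],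
    [10, 1, 4, 11],
    [5, 4, 1, 12],
    [6, 3, 2, 7],
    [3, 6, 10, 12],
    [4, 5, 10, 8],
    [8, 12, 11, 4],
    [7, 12, 9, 6],
    [11, 12, 8, 10]])

def weylE7_4 : WLevel :=
  ([(0, [], [93, 78, 73, 69, 66, 64, 63]),
    (0, [4], [93, 78, 73, 70, 59, 67, 63]),
    (1, [3, 4], [93, 79, 74, 66, 55, 71, 63]),
    (2, [1, 3, 4], [93, 69, 83, 66, 45, 81, 63]),
    (2, [2, 3, 4], [94, 83, 69, 66, 50, 76, 63]),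
    (3, [2, 1, 3, 4], [94, 74, 79, 66, 41, 85, 63]),
    (4, [0, 2, 3, 4], [73, 99, 69, 66, 29, 97, 63]),
    (5, [0, 2, 1, 3, 4], [73, 95, 79, 66, 25, 101, 63]),
    (5, [3, 2, 1, 3, 4], [95, 73, 78, 70, 38, 88, 63]),
    (7, [3, 0, 2, 1, 3, 4], [74, 94, 78, 70, 22, 104, 63]),
    (8, [4, 3, 2, 1, 3, 4], [96, 73, 78, 69, 38, 90, 63]),
    (9, [2, 3, 0, 2, 1, 3, 4], [69, 93, 78, 75, 16, 110, 63]),
    (9, [4, 3, 0, 2, 1, 3, 4], [75, 94, 78, 69, 22, 106, 63]),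
    (11, [4, 2, 3, 0, 2, 1, 3, 4], [70, 93, 78, 74, 16, 112, 63]),
    (13, [3, 4, 2, 3, 0, 2, 1, 3, 4], [66, 93, 79, 73, 16, 115, 63]),
    (14, [1, 3, 4, 2, 3, 0, 2, 1, 3, 4], [66, 93, 69, 73, 16, 119, 63])],
   [[16, 17, 18, 19, 1],
    [16, 17, 18, 2, 0],
    [16, 3, 4, 1, 19],
    [16, 2, 5, 17, 19],
    [6, 5, 2, 18, 19],
    [7, 4, 3, 8, 19],
    [4, 7, 16, 18, 19],
    [5, 6, 16, 9, 19],
    [9, 18, 17, 5, 10],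
    [8, 18, 11, 7, 12],
    [12, 18, 17, 19, 8],
    [17, 18, 9, 16, 13],
    [10, 18, 13, 19, 9],
    [17, 18, 12, 14, 11],
    [17, 15, 19, 13, 16],
    [17, 14, 19, 18, 16]])

def weylE7_5 : WLevel :=
  ([(0, [], [93, 78, 73, 69, 66, 64, 63]),
    (0, [5], [93, 78, 73, 69, 67, 61, 65]),
    (1, [4, 5], [93, 78, 73, 70, 64, 58, 68]),
    (2, [3, 4, 5], [93, 79, 74, 66, 64, 54, 72]),
    (3, [1, 3, 4, 5], [93, 69, 83, 66, 64, 44, 82]),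
    (3, [2, 3, 4, 5], [94, 83, 69, 66, 64, 49, 77]),
    (4, [2, 1, 3, 4, 5], [94, 74, 79, 66, 64, 40, 86]),
    (5, [0, 2, 3, 4, 5], [73, 99, 69, 66, 64, 28, 98]),
    (6, [0, 2, 1, 3, 4, 5], [73, 95, 79, 66, 64, 24, 102]),
    (6, [3, 2, 1, 3, 4, 5], [95, 73, 78, 70, 64, 37, 89]),
    (8, [3, 0, 2, 1, 3, 4, 5], [74, 94, 78, 70, 64, 21, 105]),
    (9, [4, 3, 2, 1, 3, 4, 5], [96, 73, 78, 69, 67, 35, 91]),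
    (10, [2, 3, 0, 2, 1, 3, 4, 5], [69, 93, 78, 75, 64, 15, 111]),
    (10, [4, 3, 0, 2, 1, 3, 4, 5], [75, 94, 78, 69, 67, 19, 107]),
    (11, [5, 4, 3, 2, 1, 3, 4, 5], [97, 73, 78, 69, 66, 35, 92]),
    (12, [4, 2, 3, 0, 2, 1, 3, 4, 5], [70, 93, 78, 74, 67, 13, 113]),
    (13, [5, 4, 3, 0, 2, 1, 3, 4, 5], [76, 94, 78, 69, 66, 19, 108]),
    (15, [3, 4, 2, 3, 0, 2, 1, 3, 4, 5], [66, 93, 79, 73, 71, 10, 116]),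
    (15, [5, 4, 2, 3, 0, 2, 1, 3, 4, 5], [71, 93, 78, 74, 66, 13, 114]),
    (17, [1, 3, 4, 2, 3, 0, 2, 1, 3, 4, 5], [66, 93, 69, 73, 81, 6, 120]),
    (17, [5, 3, 4, 2, 3, 0, 2, 1, 3, 4, 5], [67, 93, 79, 73, 70, 10, 117]),
    (19, [5, 1, 3, 4, 2, 3, 0, 2, 1, 3, 4, 5], [67, 93, 69, 73, 80, 6, 121]),
    (20, [4, 5, 3, 4, 2, 3, 0, 2, 1, 3, 4, 5], [64, 93, 80, 73, 69, 10, 118]),
    (21, [4, 5, 1, 3, 4, 2, 3, 0, 2, 1, 3, 4, 5], [64, 93, 70, 73, 79, 6, 122]),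
    (23, [3, 4, 5, 1, 3, 4, 2, 3, 0, 2, 1, 3, 4, 5], [64, 93, 66, 74, 78, 6, 123]),
    (24, [2, 3, 4, 5, 1, 3, 4, 2, 3, 0, 2, 1, 3, 4, 5], [64, 94, 66, 69, 78, 6, 124]),
    (25, [0, 2, 3, 4, 5, 1, 3, 4, 2, 3, 0, 2, 1, 3, 4, 5], [64, 73, 66, 69, 78, 6, 125])],
   [[27, 28, 29, 30, 31, 1],
    [27, 28, 29, 30, 2, 0],
    [27, 28, 29, 3, 1, 31],
    [27, 4, 5, 2, 30, 31],
    [27, 3, 6, 28, 30, 31],
    [7, 6, 3, 29, 30, 31],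
    [8, 5, 4, 9, 30, 31],
    [5, 8, 27, 29, 30, 31],
    [6, 7, 27, 10, 30, 31],
    [10, 29, 28, 6, 11, 31],
    [9, 29, 12, 8, 13, 31],
    [13, 29, 28, 30, 9, 14],
    [28, 29, 10, 27, 15, 31],
    [11, 29, 15, 30, 10, 16],
    [16, 29, 28, 30, 31, 11],
    [28, 29, 13, 17, 12, 18],
    [14, 29, 18, 30, 31, 13],
    [28, 19, 30, 15, 27, 20],
    [28, 29, 16, 20, 31, 15],
    [28, 17, 30, 29, 27, 21],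
    [28, 21, 30, 18, 22, 17],
    [28, 20, 30, 29, 23, 19],
    [28, 23, 30, 31, 20, 27],
    [28, 22, 30, 24, 21, 27],
    [28, 31, 25, 23, 29, 27],
    [26, 31, 24, 30, 29, 27],
    [25, 31, 28, 30, 29, 27]])

def weylE7_6 : WLevel :=
  ([(0, [], [93, 78, 73, 69, 66, 64, 63]),
    (0, [6], [93, 78, 73, 69, 66, 65, 62]),
    (1, [5, 6], [93, 78, 73, 69, 67, 63, 60]),
    (2, [4, 5, 6], [93, 78, 73, 70, 64, 63, 57]),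
    (3, [3, 4, 5, 6], [93, 79, 74, 66, 64, 63, 53]),
    (4, [1, 3, 4, 5, 6], [93, 69, 83, 66, 64, 63, 43]),
    (4, [2, 3, 4, 5, 6], [94, 83, 69, 66, 64, 63, 48]),
    (5, [2, 1, 3, 4, 5, 6], [94, 74, 79, 66, 64, 63, 39]),
    (6, [0, 2, 3, 4, 5, 6], [73, 99, 69, 66, 64, 63, 27]),
    (7, [0, 2, 1, 3, 4, 5, 6], [73, 95, 79, 66, 64, 63, 23]),
    (7, [3, 2, 1, 3, 4, 5, 6], [95, 73, 78, 70, 64, 63, 36]),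
    (9, [3, 0, 2, 1, 3, 4, 5, 6], [74, 94, 78, 70, 64, 63, 20]),
    (10, [4, 3, 2, 1, 3, 4, 5, 6], [96, 73, 78, 69, 67, 63, 34]),
    (11, [2, 3, 0, 2, 1, 3, 4, 5, 6], [69, 93, 78, 75, 64, 63, 14]),
    (11, [4, 3, 0, 2, 1, 3, 4, 5, 6], [75, 94, 78, 69, 67, 63, 18]),
    (12, [5, 4, 3, 2, 1, 3, 4, 5, 6], [97, 73, 78, 69, 66, 65, 33]),
    (13, [4, 2, 3, 0, 2, 1, 3, 4, 5, 6], [70, 93, 78, 74, 67, 63, 12]),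
    (14, [5, 4, 3, 0, 2, 1, 3, 4, 5, 6], [76, 94, 78, 69, 66, 65, 17]),
    (15, [6, 5, 4, 3, 2, 1, 3, 4, 5, 6], [98, 73, 78, 69, 66, 64, 33]),
    (16, [3, 4, 2, 3, 0, 2, 1, 3, 4, 5, 6], [66, 93, 79, 73, 71, 63, 9]),
    (16, [5, 4, 2, 3, 0, 2, 1, 3, 4, 5, 6], [71, 93, 78, 74, 66, 65, 11]),
    (17, [6, 5, 4, 3, 0, 2, 1, 3, 4, 5, 6], [77, 94, 78, 69, 66, 64, 17]),
    (19, [1, 3, 4, 2, 3, 0, 2, 1, 3, 4, 5, 6], [66, 93, 69, 73, 81, 63, 5]),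
    (19, [5, 3, 4, 2, 3, 0, 2, 1, 3, 4, 5, 6], [67, 93, 79, 73, 70, 65, 8]),
    (20, [6, 5, 4, 2, 3, 0, 2, 1, 3, 4, 5, 6], [72, 93, 78, 74, 66, 64, 11]),
    (22, [5, 1, 3, 4, 2, 3, 0, 2, 1, 3, 4, 5, 6], [67, 93, 69, 73, 80, 65, 4]),
    (23, [4, 5, 3, 4, 2, 3, 0, 2, 1, 3, 4, 5, 6], [64, 93, 80, 73, 69, 68, 7]),
    (23, [6, 5, 3, 4, 2, 3, 0, 2, 1, 3, 4, 5, 6], [68, 93, 79, 73, 70, 64, 8]),
    (25, [4, 5, 1, 3, 4, 2, 3, 0, 2, 1, 3, 4, 5, 6], [64, 93, 70, 73, 79, 68, 3]),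
    (25, [6, 5, 1, 3, 4, 2, 3, 0, 2, 1, 3, 4, 5, 6], [68, 93, 69, 73, 80, 64, 4]),
    (26, [6, 4, 5, 3, 4, 2, 3, 0, 2, 1, 3, 4, 5, 6], [65, 93, 80, 73, 69, 67, 7]),
    (28, [3, 4, 5, 1, 3, 4, 2, 3, 0, 2, 1, 3, 4, 5, 6], [64, 93, 66, 74, 78, 72, 2]),
    (28, [6, 4, 5, 1, 3, 4, 2, 3, 0, 2, 1, 3, 4, 5, 6], [65, 93, 70, 73, 79, 67, 3]),
    (30, [5, 6, 4, 5, 3, 4, 2, 3, 0, 2, 1, 3, 4, 5, 6], [63, 93, 81, 73, 69, 66, 7]),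
    (31, [2, 3, 4, 5, 1, 3, 4, 2, 3, 0, 2, 1, 3, 4, 5, 6], [64, 94, 66, 69, 78, 77, 1]),
    (31, [6, 3, 4, 5, 1, 3, 4, 2, 3, 0, 2, 1, 3, 4, 5, 6], [65, 93, 66, 74, 78, 71, 2]),
    (32, [5, 6, 4, 5, 1, 3, 4, 2, 3, 0, 2, 1, 3, 4, 5, 6], [63, 93, 71, 73, 79, 66, 3]),
    (34, [0, 2, 3, 4, 5, 1, 3, 4, 2, 3, 0, 2, 1, 3, 4, 5, 6], [64, 73, 66, 69, 78, 98, 0]),
    (34, [6, 2, 3, 4, 5, 1, 3, 4, 2, 3, 0, 2, 1, 3, 4, 5, 6], [65, 94, 66, 69, 78, 76, 1]),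
    (35, [5, 6, 3, 4, 5, 1, 3, 4, 2, 3, 0, 2, 1, 3, 4, 5, 6], [63, 93, 67, 74, 78, 70, 2]),
    (37, [6, 0, 2, 3, 4, 5, 1, 3, 4, 2, 3, 0, 2, 1, 3, 4, 5, 6], [65, 73, 66, 69, 78, 97, 0]),
    (38, [5, 6, 2, 3, 4, 5, 1, 3, 4, 2, 3, 0, 2, 1, 3, 4, 5, 6], [63, 94, 67, 69, 78, 75, 1]),
    (39, [4, 5, 6, 3, 4, 5, 1, 3, 4, 2, 3, 0, 2, 1, 3, 4, 5, 6], [63, 93, 64, 75, 78, 69, 2]),
    (40, [5, 6, 0, 2, 3, 4, 5, 1, 3, 4, 2, 3, 0, 2, 1, 3, 4, 5, 6], [63, 73, 67, 69, 78, 96, 0]),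
    (41, [4, 5, 6, 2, 3, 4, 5, 1, 3, 4, 2, 3, 0, 2, 1, 3, 4, 5, 6], [63, 94, 64, 70, 78, 74, 1]),
    (43, [4, 5, 6, 0, 2, 3, 4, 5, 1, 3, 4, 2, 3, 0, 2, 1, 3, 4, 5, 6], [63, 73, 64, 70, 78, 95, 0]),
    (44, [3, 4, 5, 6, 2, 3, 4, 5, 1, 3, 4, 2, 3, 0, 2, 1, 3, 4, 5, 6], [63, 95, 64, 66, 79, 73, 1]),
    (45, [3, 4, 5, 6, 0, 2, 3, 4, 5, 1, 3, 4, 2, 3, 0, 2, 1, 3, 4, 5, 6], [63, 74, 64, 66, 79, 94, 0]),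
    (46, [1, 3, 4, 5, 6, 2, 3, 4, 5, 1, 3, 4, 2, 3, 0, 2, 1, 3, 4, 5, 6], [63, 99, 64, 66, 69, 73, 1]),
    (47, [1, 3, 4, 5, 6, 0, 2, 3, 4, 5, 1, 3, 4, 2, 3, 0, 2, 1, 3, 4, 5, 6], [63, 83, 64, 66, 69, 94, 0]),
    (47, [2, 3, 4, 5, 6, 0, 2, 3, 4, 5, 1, 3, 4, 2, 3, 0, 2, 1, 3, 4, 5, 6], [63, 69, 64, 66, 83, 93, 0]),
    (49, [2, 1, 3, 4, 5, 6, 0, 2, 3, 4, 5, 1, 3, 4, 2, 3, 0, 2, 1, 3, 4, 5, 6], [63, 79, 64, 66, 74, 93, 0]),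
    (51, [3, 2, 1, 3, 4, 5, 6, 0, 2, 3, 4, 5, 1, 3, 4, 2, 3, 0, 2, 1, 3, 4, 5, 6], [63, 78, 64, 70, 73, 93, 0]),
    (52, [4, 3, 2, 1, 3, 4, 5, 6, 0, 2, 3, 4, 5, 1, 3, 4, 2, 3, 0, 2, 1, 3, 4, 5, 6], [63, 78, 67, 69, 73, 93, 0]),
    (53, [5, 4, 3, 2, 1, 3, 4, 5, 6, 0, 2, 3, 4, 5, 1, 3, 4, 2, 3, 0, 2, 1, 3, 4, 5, 6], [65, 78, 66, 69, 73, 93, 0]),
    (54, [6, 5, 4, 3, 2, 1, 3, 4, 5, 6, 0, 2, 3, 4, 5, 1, 3, 4, 2, 3, 0, 2, 1, 3, 4, 5, 6], [64, 78, 66, 69, 73, 93, 0])],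
   [[56, 57, 58, 59, 60, 61, 1],
    [56, 57, 58, 59, 60, 2, 0],
    [56, 57, 58, 59, 3, 1, 61],
    [56, 57, 58, 4, 2, 60, 61],
    [56, 5, 6, 3, 59, 60, 61],
    [56, 4, 7, 57, 59, 60, 61],
    [8, 7, 4, 58, 59, 60, 61],
    [9, 6, 5, 10, 59, 60, 61],
    [6, 9, 56, 58, 59, 60, 61],
    [7, 8, 56, 11, 59, 60, 61],
    [11, 58, 57, 7, 12, 60, 61],
    [10, 58, 13, 9, 14, 60, 61],
    [14, 58, 57, 59, 10, 15, 61],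
    [57, 58, 11, 56, 16, 60, 61],
    [12, 58, 16, 59, 11, 17, 61],
    [17, 58, 57, 59, 60, 12, 18],
    [57, 58, 14, 19, 13, 20, 61],
    [15, 58, 20, 59, 60, 14, 21],
    [21, 58, 57, 59, 60, 61, 15],
    [57, 22, 59, 16, 56, 23, 61],
    [57, 58, 17, 23, 60, 16, 24],
    [18, 58, 24, 59, 60, 61, 17],
    [57, 19, 59, 58, 56, 25, 61],
    [57, 25, 59, 20, 26, 19, 27],
    [57, 58, 21, 27, 60, 61, 20],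
    [57, 23, 59, 58, 28, 22, 29],
    [57, 28, 59, 60, 23, 56, 30],
    [57, 29, 59, 24, 30, 61, 23],
    [57, 26, 59, 31, 25, 56, 32],
    [57, 27, 59, 58, 32, 61, 25],
    [57, 32, 59, 60, 27, 33, 26],
    [57, 60, 34, 28, 58, 56, 35],
    [57, 30, 59, 35, 29, 36, 28],
    [57, 36, 59, 60, 61, 30, 56],
    [37, 60, 31, 59, 58, 56, 38],
    [57, 60, 38, 32, 58, 39, 31],
    [57, 33, 59, 39, 61, 32, 56],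
    [34, 60, 57, 59, 58, 56, 40],
    [40, 60, 35, 59, 58, 41, 34],
    [57, 60, 41, 36, 42, 35, 56],
    [38, 60, 57, 59, 58, 43, 37],
    [43, 60, 39, 59, 44, 38, 56],
    [57, 60, 44, 61, 39, 58, 56],
    [41, 60, 57, 59, 45, 40, 56],
    [45, 60, 42, 46, 41, 58, 56],
    [44, 60, 57, 47, 43, 58, 56],
    [47, 48, 61, 44, 59, 58, 56],
    [46, 49, 50, 45, 59, 58, 56],
    [49, 46, 61, 60, 59, 58, 56],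
    [48, 47, 51, 60, 59, 58, 56],
    [61, 51, 47, 57, 59, 58, 56],
    [61, 50, 49, 52, 59, 58, 56],
    [61, 57, 60, 51, 53, 58, 56],
    [61, 57, 60, 59, 52, 54, 56],
    [61, 57, 60, 59, 58, 53, 55],
    [61, 57, 60, 59, 58, 56, 54]])

def weylE7 : List WLevel := [weylE7_0, weylE7_1, weylE7_2, weylE7_3, weylE7_4, weylE7_5, weylE7_6]

theorem chkLevelE7_0 : chkLevel tblE7 weylE7_0 0 = true := by decide +kernel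

theorem chkLevelE7_1 : chkLevel tblE7 weylE7_1 1 = true := by decide +kernel

theorem chkLevelE7_2 : chkLevel tblE7 weylE7_2 2 = true := by decide +kernel

theorem chkLevelE7_3 : chkLevel tblE7 weylE7_3 3 = true := by decide +kernel

theorem chkLevelE7_4 : chkLevel tblE7 weylE7_4 4 = true := by decide +kernel

theorem chkLevelE7_5 : chkLevel tblE7 weylE7_5 5 = true := by decide +kernel

theorem chkLevelE7_6 : chkLevel tblE7 weylE7_6 6 = true := by decide +kernel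

theorem chkWeylE7 : chkWeyl tblE7 weylE7 = true :=
  allBelow_iff.2 fun m hm => by
    change m < 7 at hm
    interval_cases m
    · exact chkLevelE7_0
    · exact chkLevelE7_1
    · exact chkLevelE7_2
    · exact chkLevelE7_3
    · exact chkLevelE7_4
    · exact chkLevelE7_5
    · exact chkLevelE7_6

end Cfsg.Lib.Chev
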