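import Cfsg.Agent.Lib.Chev.Order
import Cfsg.Agent.Lib.Chev.WeylE8

/-! The order polynomial and the torus for the type E8. -/

set_option autoImplicit false
set_option maxRecDepth 100000
set_option maxHeartbeats 2000000

namespace Cfsg.Lib.Chev

open Cfsg.Lie
open scoped Matrix

theorem lensE8_0 : (weylE8_0.1.map fun R => R.2.1.length) = [0, 1] := by decide +kernel

/-- The generating function of level 0. -/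
def polE8_0 (q : ℕ) : ℕ := (([0, 1] : List ℕ).map fun e => q ^ e).sum

theorem stepE8_0 (q : ℕ) : ((q : ℤ) - 1) * (1) * (polE8_0 q : ℤ) = ((q : ℤ) ^ 2 - 1) := by
  simp only [polE8_0, List.map_cons, List.map_nil, List.sum_cons, List.sum_nil]
  push_cast
  ring

theorem accE8_0 (q : ℕ) : ((q : ℤ) - 1) ^ 1 * ((polE8_0 q : ℤ)) = ((q : ℤ) ^ 2 - 1) := by
  linear_combination stepE8_0 q

theorem lensE8_1 : (weylE8_1.1.map fun R => R.2.1.length) = [0, 1] := by decide +kernel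

/-- The generating function of level 1. -/
def polE8_1 (q : ℕ) : ℕ := (([0, 1] : List ℕ).map fun e => q ^ e).sum

theorem stepE8_1 (q : ℕ) : ((q : ℤ) - 1) * (1) * (polE8_1 q : ℤ) = ((q : ℤ) ^ 2 - 1) := by
  simp only [polE8_1, List.map_cons, List.map_nil, List.sum_cons, List.sum_nil]
  push_cast
  ring

theorem accE8_1 (q : ℕ) : ((q : ℤ) - 1) ^ 2 * ((polE8_0 q : ℤ) * (polE8_1 q : ℤ)) = ((q : ℤ) ^ 2 - 1) * ((q : ℤ) ^ 2 - 1) := by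
  linear_combination (((q : ℤ) - 1) * (polE8_1 q : ℤ)) * accE8_0 q + (((q : ℤ) ^ 2 - 1)) * stepE8_1 q

theorem lensE8_2 : (weylE8_2.1.map fun R => R.2.1.length) = [0, 1, 2] := by decide +kernel

/-- The generating function of level 2. -/
def polE8_2 (q : ℕ) : ℕ := (([0, 1, 2] : List ℕ).map fun e => q ^ e).sum

theorem stepE8_2 (q : ℕ) : ((q : ℤ) - 1) * (1) * (polE8_2 q : ℤ) = ((q : ℤ) ^ 3 - 1) := by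
  simp only [polE8_2, List.map_cons, List.map_nil, List.sum_cons, List.sum_nil]
  push_cast
  ring

theorem accE8_2 (q : ℕ) : ((q : ℤ) - 1) ^ 3 * ((polE8_0 q : ℤ) * (polE8_1 q : ℤ) * (polE8_2 q : ℤ)) = ((q : ℤ) ^ 2 - 1) * ((q : ℤ) ^ 2 - 1) * ((q : ℤ) ^ 3 - 1) := by
  linear_combination (((q : ℤ) - 1) * (polE8_2 q : ℤ)) * accE8_1 q + (((q : ℤ) ^ 2 - 1) * ((q : ℤ) ^ 2 - 1)) * stepE8_2 q

theorem lensE8_3 : (weylE8_3.1.map fun R => R.2.1.length) = [0, 1, 2, 2, 3, 3, 4, 4, 5, 6] := by decide +kernel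

/-- The generating function of level 3. -/
def polE8_3 (q : ℕ) : ℕ := (([0, 1, 2, 2, 3, 3, 4, 4, 5, 6] : List ℕ).map fun e => q ^ e).sum

theorem stepE8_3 (q : ℕ) : ((q : ℤ) - 1) * (((q : ℤ) ^ 2 - 1)) * (polE8_3 q : ℤ) = ((q : ℤ) ^ 4 - 1) * ((q : ℤ) ^ 5 - 1) := by
  simp only [polE8_3, List.map_cons, List.map_nil, List.sum_cons, List.sum_nil]
  push_cast
  ring

theorem accE8_3 (q : ℕ) : ((q : ℤ) - 1) ^ 4 * ((polE8_0 q : ℤ) * (polE8_1 q : ℤ) * (polE8_2 q : ℤ) * (polE8_3 q : ℤ)) = ((q : ℤ) ^ 2 - 1) * ((q : ℤ) ^ 3 - 1) * ((q : ℤ) ^ 4 - 1) * ((q : ℤ) ^ 5 - 1) := by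
  linear_combination (((q : ℤ) - 1) * (polE8_3 q : ℤ)) * accE8_2 q + (((q : ℤ) ^ 2 - 1) * ((q : ℤ) ^ 3 - 1)) * stepE8_3 q

theorem lensE8_4 : (weylE8_4.1.map fun R => R.2.1.length) = [0, 1, 2, 3, 3, 4, 4, 5, 5, 6, 6, 7, 7, 8, 9, 10] := by decide +kernel

/-- The generating function of level 4. -/
def polE8_4 (q : ℕ) : ℕ := (([0, 1, 2, 3, 3, 4, 4, 5, 5, 6, 6, 7, 7, 8, 9, 10] : List ℕ).map fun e => q ^ e).sum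

theorem stepE8_4 (q : ℕ) : ((q : ℤ) - 1) * (((q : ℤ) ^ 3 - 1)) * (polE8_4 q : ℤ) = ((q : ℤ) ^ 6 - 1) * ((q : ℤ) ^ 8 - 1) := by
  simp only [polE8_4, List.map_cons, List.map_nil, List.sum_cons, List.sum_nil]
  push_cast
  ring

theorem accE8_4 (q : ℕ) : ((q : ℤ) - 1) ^ 5 * ((polE8_0 q : ℤ) * (polE8_1 q : ℤ) * (polE8_2 q : ℤ) * (polE8_3 q : ℤ) * (polE8_4 q : ℤ)) = ((q : ℤ) ^ 2 - 1) * ((q : ℤ) ^ 4 - 1) * ((q : ℤ) ^ 5 - 1) * ((q : ℤ) ^ 6 - 1) * ((q : ℤ) ^ 8 - 1) := by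
  linear_combination (((q : ℤ) - 1) * (polE8_4 q : ℤ)) * accE8_3 q + (((q : ℤ) ^ 2 - 1) * ((q : ℤ) ^ 4 - 1) * ((q : ℤ) ^ 5 - 1)) * stepE8_4 q

theorem lensE8_5 : (weylE8_5.1.map fun R => R.2.1.length) = [0, 1, 2, 3, 4, 4, 5, 5, 6, 6, 7, 7, 8, 8, 8, 9, 9, 10, 10, 11, 11, 12, 12, 13, 14, 15, 16] := by decide +kernel

/-- The generating function of level 5. -/
def polE8_5 (q : ℕ) : ℕ := (([0, 1, 2, 3, 4, 4, 5, 5, 6, 6, 7, 7, 8, 8, 8, 9, 9, 10, 10, 11, 11, 12, 12, 13, 14, 15, 16] : List ℕ).map fun e => q ^ e).sum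

theorem stepE8_5 (q : ℕ) : ((q : ℤ) - 1) * (((q : ℤ) ^ 4 - 1)) * (polE8_5 q : ℤ) = ((q : ℤ) ^ 9 - 1) * ((q : ℤ) ^ 12 - 1) := by
  simp only [polE8_5, List.map_cons, List.map_nil, List.sum_cons, List.sum_nil]
  push_cast
  ring

theorem accE8_5 (q : ℕ) : ((q : ℤ) - 1) ^ 6 * ((polE8_0 q : ℤ) * (polE8_1 q : ℤ) * (polE8_2 q : ℤ) * (polE8_3 q : ℤ) * (polE8_4 q : ℤ) * (polE8_5 q : ℤ)) = ((q : ℤ) ^ 2 - 1) * ((q : ℤ) ^ 5 - 1) * ((q : ℤ) ^ 6 - 1) * ((q : ℤ) ^ 8 - 1) * ((q : ℤ) ^ 9 - 1) * ((q : ℤ) ^ 12 - 1) := by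
  linear_combination (((q : ℤ) - 1) * (polE8_5 q : ℤ)) * accE8_4 q + (((q : ℤ) ^ 2 - 1) * ((q : ℤ) ^ 5 - 1) * ((q : ℤ) ^ 6 - 1) * ((q : ℤ) ^ 8 - 1)) * stepE8_5 q

theorem lensE8_6 : (weylE8_6.1.map fun R => R.2.1.length) = [0, 1, 2, 3, 4, 5, 5, 6, 6, 7, 7, 8, 8, 9, 9, 9, 10, 10, 10, 11, 11, 11, 12, 12, 12, 13, 13, 13, 14, 14, 14, 15, 15, 15, 16, 16, 16, 17, 17, 17, 18, 18, 18, 19, 19, 20, 20, 21, 21, 22, 22, 23, 24, 25, 26, 27] := by decide +kernel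

/-- The generating function of level 6. -/
def polE8_6 (q : ℕ) : ℕ := (([0, 1, 2, 3, 4, 5, 5, 6, 6, 7, 7, 8, 8, 9, 9, 9, 10, 10, 10, 11, 11, 11, 12, 12, 12, 13, 13, 13, 14, 14, 14, 15, 15, 15, 16, 16, 16, 17, 17, 17, 18, 18, 18, 19, 19, 20, 20, 21, 21, 22, 22, 23, 24, 25, 26, 27] : List ℕ).map fun e => q ^ e).sum

theorem stepE8_6 (q : ℕ) : ((q : ℤ) - 1) * (((q : ℤ) ^ 5 - 1) * ((q : ℤ) ^ 9 - 1)) * (polE8_6 q : ℤ) = ((q : ℤ) ^ 10 - 1) * ((q : ℤ) ^ 14 - 1) * ((q : ℤ) ^ 18 - 1) := by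
  simp only [polE8_6, List.map_cons, List.map_nil, List.sum_cons, List.sum_nil]
  push_cast
  ring

theorem accE8_6 (q : ℕ) : ((q : ℤ) - 1) ^ 7 * ((polE8_0 q : ℤ) * (polE8_1 q : ℤ) * (polE8_2 q : ℤ) * (polE8_3 q : ℤ) * (polE8_4 q : ℤ) * (polE8_5 q : ℤ) * (polE8_6 q : ℤ)) = ((q : ℤ) ^ 2 - 1) * ((q : ℤ) ^ 6 - 1) * ((q : ℤ) ^ 8 - 1) * ((q : ℤ) ^ 10 - 1) * ((q : ℤ) ^ 12 - 1) * ((q : ℤ) ^ 14 - 1) * ((q : ℤ) ^ 18 - 1) := by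
  linear_combination (((q : ℤ) - 1) * (polE8_6 q : ℤ)) * accE8_5 q + (((q : ℤ) ^ 2 - 1) * ((q : ℤ) ^ 6 - 1) * ((q : ℤ) ^ 8 - 1) * ((q : ℤ) ^ 12 - 1)) * stepE8_6 q

theorem lensE8_7 : (weylE8_7.1.map fun R => R.2.1.length) = [0, 1, 2, 3, 4, 5, 6, 6, 7, 7, 8, 8, 9, 9, 10, 10, 10, 11, 11, 11, 12, 12, 12, 12, 13, 13, 13, 13, 14, 14, 14, 14, 15, 15, 15, 15, 16, 16, 16, 16, 16, 17, 17, 17, 17, 17, 18, 18, 18, 18, 18, 18, 19, 19, 19, 19, 19, 19, 20, 20, 20, 20, 20, 20, 21, 21, 21, 21, 21, 21, 22, 22, 22, 22, 22, 22, 22, 23, 23, 23, 23, 23, 23, 23, 24, 24, 24, 24, 24, 24, 24, 25, 25, 25, 25, 25, 25, 25, 26, 26, 26, 26, 26, 26, 26, 27, 27, 27, 27, 27, 27, 27, 28, 28, 28, 28, 28, 28, 28, 28, 29, 29, 29, 29, 29, 29, 29, 29, 30, 30, 30, 30, 30, 30, 30, 31, 31, 31, 31, 31, 31, 31, 32, 32, 32, 32, 32,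 32, 32, 33, 33, 33, 33, 33, 33, 33, 34, 34, 34, 34, 34, 34, 34, 35, 35, 35, 35, 35, 35, 35, 36, 36, 36, 36, 36, 36, 37, 37, 37, 37, 37, 37, 38, 38, 38, 38, 38, 38, 39, 39, 39, 39, 39, 39, 40, 40, 40, 40, 40, 41, 41, 41, 41, 41, 42, 42, 42, 42, 43, 43, 43, 43, 44, 44, 44, 44, 45, 45, 45, 45, 46, 46, 46, 47, 47, 47, 48, 48, 49, 49, 50, 50, 51, 51, 52, 53, 54, 55, 56, 57] := by decide +kernel

/-- The generating function of level 7. -/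
def polE8_7 (q : ℕ) : ℕ := (([0, 1, 2, 3, 4, 5, 6, 6, 7, 7, 8, 8, 9, 9, 10, 10, 10, 11, 11, 11, 12, 12, 12, 12, 13, 13, 13, 13, 14, 14, 14, 14, 15, 15, 15, 15, 16, 16, 16, 16, 16, 17, 17, 17, 17, 17, 18, 18, 18, 18, 18, 18, 19, 19, 19, 19, 19, 19, 20, 20, 20, 20, 20, 20, 21, 21, 21, 21, 21, 21, 22, 22, 22, 22, 22, 22, 22, 23, 23, 23, 23, 23, 23, 23, 24, 24, 24, 24, 24, 24, 24, 25, 25, 25, 25, 25, 25, 25, 26, 26, 26, 26, 26, 26, 26, 27, 27, 27, 27, 27, 27, 27, 28, 28, 28, 28, 28, 28, 28, 28, 29, 29, 29, 29, 29, 29, 29, 29, 30, 30, 30, 30, 30, 30, 30, 31, 31, 31, 31, 31, 31, 31, 32, 32, 32, 32, 32, 32, 32, 33, 33, 33, 33, 33, 33, 33, 34, 34, 34, 34, 34, 34, 34, 35, 35, 35, 35, 35, 35, 35, 36, 36, 36, 36, 36, 36, 37, 37, 37, 37, 37, 37, 38, 38, 38, 38, 38, 38, 39, 39, 39, 39, 39, 39, 40, 40,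 40, 40, 40, 41, 41, 41, 41, 41, 42, 42, 42, 42, 43, 43, 43, 43, 44, 44, 44, 44, 45, 45, 45, 45, 46, 46, 46, 47, 47, 47, 48, 48, 49, 49, 50, 50, 51, 51, 52, 53, 54, 55, 56, 57] : List ℕ).map fun e => q ^ e).sum

theorem stepE8_7 (q : ℕ) : ((q : ℤ) - 1) * (((q : ℤ) ^ 6 - 1) * ((q : ℤ) ^ 10 - 1)) * (polE8_7 q : ℤ) = ((q : ℤ) ^ 20 - 1) * ((q : ℤ) ^ 24 - 1) * ((q : ℤ) ^ 30 - 1) := by
  simp only [polE8_7, List.map_cons, List.map_nil, List.sum_cons, List.sum_nil]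
  push_cast
  ring

theorem accE8_7 (q : ℕ) : ((q : ℤ) - 1) ^ 8 * ((polE8_0 q : ℤ) * (polE8_1 q : ℤ) * (polE8_2 q : ℤ) * (polE8_3 q : ℤ) * (polE8_4 q : ℤ) * (polE8_5 q : ℤ) * (polE8_6 q : ℤ) * (polE8_7 q : ℤ)) = ((q : ℤ) ^ 2 - 1) * ((q : ℤ) ^ 8 - 1) * ((q : ℤ) ^ 12 - 1) * ((q : ℤ) ^ 14 - 1) * ((q : ℤ) ^ 18 - 1) * ((q : ℤ) ^ 20 - 1) * ((q : ℤ) ^ 24 - 1) * ((q : ℤ) ^ 30 - 1) := by
  linear_combination (((q : ℤ) - 1) * (polE8_7 q : ℤ)) * accE8_6 q + (((q : ℤ) ^ 2 - 1) * ((q : ℤ) ^ 8 - 1) * ((q : ℤ) ^ 12 - 1) * ((q : ℤ) ^ 14 - 1) * ((q : ℤ) ^ 18 - 1)) * stepE8_7 q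

theorem polyE8 {q : ℕ} (hq : 1 ≤ q) : (q - 1) ^ chevE8.rank * ∏ j ∈ Finset.range chevE8.rank,
    (((nth ([], []) weylE8 j).1.map fun R => R.2.1.length).map fun e => q ^ e).sum = (q ^ 2 - 1) * (q ^ 8 - 1) * (q ^ 12 - 1) * (q ^ 14 - 1) * (q ^ 18 - 1) * (q ^ 20 - 1) * (q ^ 24 - 1) * (q ^ 30 - 1) := by
  rw [show chevE8.rank = 8 from rfl]
  simp only [Finset.prod_range_succ, Finset.prod_range_zero, one_mul, nth_eq, weylE8, List.getD_cons_zero, List.getD_cons_succ, lensE8_0, lensE8_1, lensE8_2, lensE8_3, lensE8_4, lensE8_5, lensE8_6, lensE8_7]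
  change (q - 1) ^ 8 * (polE8_0 q * polE8_1 q * polE8_2 q * polE8_3 q * polE8_4 q * polE8_5 q * polE8_6 q * polE8_7 q) = (q ^ 2 - 1) * (q ^ 8 - 1) * (q ^ 12 - 1) * (q ^ 14 - 1) * (q ^ 18 - 1) * (q ^ 20 - 1) * (q ^ 24 - 1) * (q ^ 30 - 1)
  have h := accE8_7 q
  have h2 : 1 ≤ q ^ 2 := Nat.one_le_pow _ _ hq
  have h8 : 1 ≤ q ^ 8 := Nat.one_le_pow _ _ hq
  have h12 : 1 ≤ q ^ 12 := Nat.one_le_pow _ _ hq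
  have h14 : 1 ≤ q ^ 14 := Nat.one_le_pow _ _ hq
  have h18 : 1 ≤ q ^ 18 := Nat.one_le_pow _ _ hq
  have h20 : 1 ≤ q ^ 20 := Nat.one_le_pow _ _ hq
  have h24 : 1 ≤ q ^ 24 := Nat.one_le_pow _ _ hq
  have h30 : 1 ≤ q ^ 30 := Nat.one_le_pow _ _ hq
  zify [hq, h2, h8, h12, h14, h18, h20, h24, h30]
  linear_combination h

theorem torusCertE8 : TorusCert chevE8 tblE8 (![1, 1, 1, 1, 1, 1, 1, 1] : Fin 8 → ℕ) :=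
  ⟨⟨(!![-1, 0, 0, 0, 0, 0, 0, 0; 0, -1, 0, 0, 0, 0, 0, 0; 1, -2, 0, -1, 0, 0, 0, 0; 2, -3, 0, -2, -1, 0, 0, 0; 3, -4, 0, -3, -2, -1, 0, 0; 4, -5, 0, -4, -3, -2, -1, 0; -2, 1, -1, 0, 0, 0, 0, 0; -3, -2, -4, -5, -4, -3, -2, -1] : Matrix (Fin 8) (Fin 8) ℤ), !![-1, 0, 0, 0, 0, 0, 0, 0; 0, -1, 0, 0, 0, 0, 0, 0; 2, -1, 0, 0, 0, 0, -1, 0; -1, 2, -1, 0, 0, 0, 0, 0; 0, -1, 2, -1, 0, 0, 0, 0; 0, 0, -1, 2, -1, 0, 0, 0; 0, 0, 0, -1, 2, -1, 0, 0; 0, 0, 0, 0, -1, 2, 4, -1], !![0, 0, 0, 0, 0, 0, 1, -2; 0, 0, 0, 0, 0, 0, 2, -3; 1, 0, 0, 0, 0, 0, 2, -4; 0, 1, 0, 0, 0, 0, 4, -6; 0, 0, 1, 0, 0, 0, 4, -5; 0, 0, 0, 1, 0, 0, 4, -4; 0, 0, 0, 0, 1, 0, 4, -3; 0, 0, 0, 0, 0, 1, 4, -2], !![-2, 0, 1, 0, 0, 0, 0, 0; 0, -2, 0, 1, 0, 0, 0, 0; 2, -3, 0, 0, 1, 0, 0, 0; 4, -4, 0, 0, 0, 1, 0, 0; 6, -5, 0, 0, 0, 0, 1, 0; 8,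 -6, 0, 0, 0, 0, 0, 1; -3, 2, 0, 0, 0, 0, 0, 0; -2, 1, 0, 0, 0, 0, 0, 0], by decide +kernel, by decide +kernel, by decide +kernel, by decide +kernel⟩⟩

end Cfsg.Lib.Chev
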