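import Cfsg.Agent.Lib.Chev.Weyl
import Cfsg.Agent.Lib.Chev.FullAll

/-! Coset representatives for the type G2. -/

set_option autoImplicit false
set_option maxRecDepth 100000

namespace Cfsg.Lib.Chev

open Cfsg.Lie

def weylG2_0 : WLevel :=
  ([(0, [], [7, 6]),
    (0, [0], [4, 10])],
   [[1],
    [0]])

def weylG2_1 : WLevel :=
  ([(0, [], [7, 6]),
    (0, [1], [8, 5]),
    (1, [0, 1], [9, 1]),
    (2, [1, 0, 1], [9, 0]),
    (3, [0, 1, 0, 1], [8, 0]),
    (4, [1, 0, 1, 0, 1], [7, 1])],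
   [[6, 1],
    [2, 0],
    [1, 3],
    [4, 2],
    [3, 5],
    [6, 4]])

def weylG2 : List WLevel := [weylG2_0, weylG2_1]

theorem chkLevelG2_0 : chkLevel tblG2 weylG2_0 0 = true := by decide +kernel

theorem chkLevelG2_1 : chkLevel tblG2 weylG2_1 1 = true := by decide +kernel

theorem chkWeylG2 : chkWeyl tblG2 weylG2 = true :=
  allBelow_iff.2 fun m hm => by
    change m < 2 at hm
    interval_cases m
    · exact chkLevelG2_0
    · exact chkLevelG2_1

end Cfsg.Lib.Chev
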