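import Cfsg.Agent.Lib.Chev.Special
import Cfsg.Agent.Lib.Chev.FullAll

/-! The exceptional symmetry of B2. -/

set_option autoImplicit false
set_option maxRecDepth 100000

namespace Cfsg.Lib.Chev

open Cfsg.Lie

/-- The exceptional symmetry of B2. -/
def esymB2 : ESym where
  p := 2
  phi := [1, 0, 3, 2, 5, 4, 7, 6, 9, 8]
  lng := [false, true, true, false, false, true, true, false, false, true]

/-- Long fundamental roots as sums of short roots. -/
def esymSpanB2 : List (List (ℕ × ℤ)) := [[], [(2, 1), (6, 1)]]

theorem chkESymB2 : chkESym tblB2 esymB2 = true := by decide +kernel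

theorem chkESymBlockB2 : chkESymBlock tblB2 esymB2 = true := by decide +kernel

theorem chkESymSwapB2 : chkESymSwap tblB2 esymB2 = true := by decide +kernel

theorem chkESymSpanB2 : chkESymSpan tblB2 esymB2 esymSpanB2 = true := by decide +kernel

theorem eSymOKB2 : ESymOK chevB2 tblB2 esymB2 :=
  eSymOK_of_chk fullCertB2.comm.cert.spec.shape chkESymB2 chkESymBlockB2 chkESymSwapB2 chkESymSpanB2

end Cfsg.Lib.Chev
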