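import Cfsg.Agent.Lib.Chev.Special
import Cfsg.Agent.Lib.Chev.FullAll

/-! The exceptional symmetry of F4. -/

set_option autoImplicit false
set_option maxRecDepth 100000

namespace Cfsg.Lib.Chev

open Cfsg.Lie

/-- The exceptional symmetry of F4. -/
def esymF4 : ESym where
  p := 2
  phi := [3, 2, 1, 0, 7, 11, 12, 4, 13, 15, 22, 5, 6, 8, 19, 9, 20, 25, 27, 14, 16, 23, 10, 21, 26, 17, 24, 18, 37, 31, 38, 29, 34, 45, 32, 39, 41, 28, 30, 35, 46, 36, 47, 49, 50, 33, 40, 42, 51, 43, 44, 48]
  lng := [false, false, true, true, true, true, true, false, true, true, true, false, false, false, false, false, false, false, false, true, true, true, false, false, false, true, true, true, true, true, true, false, false, false, true, true, true, false, false, false, false, false, false, false, false, true, true, true, false, true, true, true]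

/-- Long fundamental roots as sums of short roots. -/
def esymSpanF4 : List (List (ℕ × ℤ)) := [[], [], [(9, 1), (39, 1)], [(10, 1), (38, 1)]]

theorem chkESymF4 : chkESym tblF4 esymF4 = true := by decide +kernel

theorem chkESymBlockF4 : chkESymBlock tblF4 esymF4 = true := by decide +kernel

theorem chkESymSwapF4 : chkESymSwap tblF4 esymF4 = true := by decide +kernel

theorem chkESymSpanF4 : chkESymSpan tblF4 esymF4 esymSpanF4 = true := by decide +kernel

theorem eSymOKF4 : ESymOK chevF4 tblF4 esymF4 :=
  eSymOK_of_chk fullCertF4.comm.cert.spec.shape chkESymF4 chkESymBlockF4 chkESymSwapF4 chkESymSpanF4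

end Cfsg.Lib.Chev
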