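import Cfsg.Agent.Lib.Chev.Special
import Cfsg.Agent.Lib.Chev.FullAll

/-! The exceptional symmetry of G2. -/

set_option autoImplicit false
set_option maxRecDepth 100000

namespace Cfsg.Lib.Chev

open Cfsg.Lie

/-- The exceptional symmetry of G2. -/
def esymG2 : ESym where
  p := 3
  phi := [1, 0, 4, 5, 2, 3, 7, 6, 9, 8, 12, 13, 10, 11]
  lng := [false, true, true, true, false, false, false, true, true, false, false, false, true, true]

/-- Long fundamental roots as sums of short roots. -/
def esymSpanG2 : List (List (ℕ × ℤ)) := [[], [(4, 1), (8, 1)]]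

theorem chkESymG2 : chkESym tblG2 esymG2 = true := by decide +kernel

theorem chkESymBlockG2 : chkESymBlock tblG2 esymG2 = true := by decide +kernel

theorem chkESymSwapG2 : chkESymSwap tblG2 esymG2 = true := by decide +kernel

theorem chkESymSpanG2 : chkESymSpan tblG2 esymG2 esymSpanG2 = true := by decide +kernel

theorem eSymOKG2 : ESymOK chevG2 tblG2 esymG2 :=
  eSymOK_of_chk fullCertG2.comm.cert.spec.shape chkESymG2 chkESymBlockG2 chkESymSwapG2 chkESymSpanG2

end Cfsg.Lib.Chev
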