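import Cfsg.Agent.Lib.Chev.AutOut
import Cfsg.Agent.Lib.Chev.GraphAll
import Cfsg.Agent.Lib.Chev.SpecialB2
import Cfsg.Agent.Lib.Chev.SpecialF4
import Cfsg.Agent.Lib.Chev.SpecialG2
import Cfsg.Agent.Lib.Chev.OrderG2
import Cfsg.Agent.Lib.Chev.OrderB2
import Cfsg.Agent.Lib.Chev.OrderD4
import Cfsg.Agent.Lib.Chev.OrderF4
import Cfsg.Agent.Lib.Chev.OrderE6
import Cfsg.Agent.Lib.Chev.OrderE7
import Cfsg.Agent.Lib.Chev.OrderE8

/-!
The automorphisms of the seven types: data, graph automorphisms, orders of the outer automorphism groups.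
-/

set_option autoImplicit false
set_option linter.unusedSectionVars false
set_option maxRecDepth 100000

namespace Cfsg.Lib.Chev

open Cfsg.Lie
open scoped commutatorElement

universe u

/-! ### The data -/

/-- The check of an opposition word. -/
noncomputable def chkOpp (T : Tbl) (w τ : List ℕ) : Bool :=
  (w.all fun i => Nat.blt i T.rank) &&
    allBelow (fun i => Nat.blt (nth 0 τ i) T.rank && Nat.beq (wperm T w (T.simp' i)) (T.neg (T.simp' (nth 0 τ i)))) T.rank

theorem oppWord_of_chk {D : ChevalleyDatum} {T : Tbl} (C : Cert D T) {w τ : List ℕ} (h : chkOpp T w τ = true) :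
    ∃ w τ, OppWord D T w τ := by
  simp only [chkOpp, Bool.and_eq_true, List.all_eq_true, Nat.blt_eq, allBelow_iff, C.spec.shape.rank_eq] at h
  exact ⟨w, fun i => ⟨_, (h.2 i i.2).1⟩, h.1, fun i => Nat.eq_of_beq_eq_true (h.2 i i.2).2⟩

theorem chkOppG2 : chkOpp tblG2 (List.replicate 3 [0, 1]).flatten [0, 1] = true := by decide +kernel
theorem chkOppB2 : chkOpp tblB2 (List.replicate 2 [0, 1]).flatten [0, 1] = true := by decide +kernel
theorem chkOppD4 : chkOpp tblD4 (List.replicate 3 [0, 1, 2, 3]).flatten [0, 1, 2, 3] = true := by decide +kernel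
theorem chkOppF4 : chkOpp tblF4 (List.replicate 6 [0, 1, 2, 3]).flatten [0, 1, 2, 3] = true := by decide +kernel
theorem chkOppE6 : chkOpp tblE6 (List.replicate 6 [0, 3, 5, 2, 1, 4]).flatten [5, 1, 4, 3, 2, 0] = true := by
  decide +kernel
theorem chkOppE7 : chkOpp tblE7 (List.replicate 9 [0, 1, 2, 3, 4, 5, 6]).flatten [0, 1, 2, 3, 4, 5, 6] = true := by
  decide +kernel
theorem chkOppE8 : chkOpp tblE8 (List.replicate 15 [0, 1, 2, 3, 4, 5, 6, 7]).flatten [0, 1, 2, 3, 4, 5, 6, 7] = true := by
  decide +kernel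

theorem autDataG2 : AutData chevG2 tblG2 where
  full := fullCertG2
  opp := oppWord_of_chk fullCertG2.comm.cert chkOppG2
  commNeg := by decide +kernel
  delta := ⟨phiG2, by decide +kernel⟩
  hlen := by decide +kernel
  step := chkStep_G2
  bond := by decide +kernel
  tree := ⟨[0, 0], by decide +kernel⟩
  rank_pos := by decide

theorem autDataB2 : AutData chevB2 tblB2 where
  full := fullCertB2
  opp := oppWord_of_chk fullCertB2.comm.cert chkOppB2
  commNeg := by decide +kernel
  delta := ⟨phiB2, by decide +kernel⟩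
  hlen := by decide +kernel
  step := chkStep_B2
  bond := by decide +kernel
  tree := ⟨[0, 0], by decide +kernel⟩
  rank_pos := by decide

theorem autDataD4 : AutData chevD4 tblD4 where
  full := fullCertD4
  opp := oppWord_of_chk fullCertD4.comm.cert chkOppD4
  commNeg := by decide +kernel
  delta := ⟨phiD4, by decide +kernel⟩
  hlen := by decide +kernel
  step := chkStep_D4
  bond := by decide +kernel
  tree := ⟨[0, 0, 1, 1], by decide +kernel⟩
  rank_pos := by decide

theorem autDataF4 : AutData chevF4 tblF4 where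
  full := fullCertF4
  opp := oppWord_of_chk fullCertF4.comm.cert chkOppF4
  commNeg := by decide +kernel
  delta := ⟨phiF4, by decide +kernel⟩
  hlen := by decide +kernel
  step := chkStep_F4
  bond := by decide +kernel
  tree := ⟨[0, 0, 1, 2], by decide +kernel⟩
  rank_pos := by decide

theorem autDataE6 : AutData chevE6 tblE6 where
  full := fullCertE6
  opp := oppWord_of_chk fullCertE6.comm.cert chkOppE6
  commNeg := by decide +kernel
  delta := ⟨phiE6, by decide +kernel⟩
  hlen := by decide +kernel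
  step := chkStep_E6
  bond := by decide +kernel
  tree := ⟨[0, 3, 0, 2, 3, 4], by decide +kernel⟩
  rank_pos := by decide

theorem autDataE7 : AutData chevE7 tblE7 where
  full := fullCertE7
  opp := oppWord_of_chk fullCertE7.comm.cert chkOppE7
  commNeg := by decide +kernel
  delta := ⟨phiE7, by decide +kernel⟩
  hlen := by decide +kernel
  step := chkStep_E7
  bond := by decide +kernel
  tree := ⟨[0, 3, 0, 2, 3, 4, 5], by decide +kernel⟩
  rank_pos := by decide

theorem autDataE8 : AutData chevE8 tblE8 where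
  full := fullCertE8
  opp := oppWord_of_chk fullCertE8.comm.cert chkOppE8
  commNeg := by decide +kernel
  delta := ⟨phiE8, by decide +kernel⟩
  hlen := by decide +kernel
  step := chkStep_E8
  bond := by decide +kernel
  tree := ⟨[0, 3, 0, 2, 3, 4, 5, 6], by decide +kernel⟩
  rank_pos := by decide

/-! ### The diagram symmetries -/

/-- The bonds from the tables. -/
noncomputable def bondT (T : Tbl) (a b : ℕ) : ℤ := T.cartan a (T.simp' b) * T.cartan b (T.simp' a)

/-- The partial symmetries of the diagram on the first `k` nodes. -/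
noncomputable def symExt (T : Tbl) : ℕ → List (List ℕ)
  | 0 => [[]]
  | k + 1 => (symExt T k).flatMap fun l => ((List.range T.rank).filter fun x =>
      (l.all fun y => !Nat.beq y x) && allBelow (fun a => decide (bondT T (nth 0 l a) x = bondT T a k)) k).map fun x => l ++ [x]

/-- The node images as a list. -/
def permList {n : ℕ} (π : Equiv.Perm (Fin n)) : List ℕ := List.ofFn fun i => (π i : ℕ)

theorem permList_injective {n : ℕ} : Function.Injective (permList (n := n)) := fun _ _ h =>
  Equiv.ext fun i => Fin.ext (congrFun (List.ofFn_injective h) i)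

theorem permList_getD {n : ℕ} {π : Equiv.Perm (Fin n)} {l : List ℕ} (h : permList π = l) (i : Fin n) :
    (π i : ℕ) = l.getD i 0 := by
  subst h
  rw [permList, List.getD_eq_getElem _ _ (by rw [List.length_ofFn]; exact i.2), List.getElem_ofFn]

section Generic

variable {D : ChevalleyDatum} {T : Tbl} (C : Cert D T)
include C

theorem permList_mem_symExt {π : Equiv.Perm (Fin D.rank)} (h : D.IsDiagramSymmetry π) :
    permList π ∈ symExt T D.rank := by
  have key : ∀ k, k ≤ D.rank → (permList π).take k ∈ symExt T k := by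
    intro k
    induction k with
    | zero => intro; simp [symExt]
    | succ k ih =>
      intro hk
      have hlen : k < (permList π).length := by rw [permList, List.length_ofFn]; omega
      rw [symExt, List.mem_flatMap]
      refine ⟨_, ih (by omega), List.mem_map.2 ⟨(π ⟨k, hk⟩ : ℕ), List.mem_filter.2 ⟨?_, ?_⟩, ?_⟩⟩
      · rw [List.mem_range, C.spec.shape.rank_eq]; exact (π ⟨k, hk⟩).2
      · rw [Bool.and_eq_true, List.all_eq_true, allBelow_iff]
        refine ⟨fun y hy => ?_, fun a ha => decide_eq_true ?_⟩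
        · obtain ⟨a, ha, rfl⟩ := List.getElem_of_mem hy
          rw [List.length_take] at ha
          rw [List.getElem_take, Bool.not_eq_true', ← Bool.not_eq_true]
          intro e
          have e' := Nat.eq_of_beq_eq_true e
          simp only [permList, List.getElem_ofFn] at e'
          have := congrArg Fin.val (π.injective (Fin.ext e'))
          simp at this
          omega
        · rw [nth_eq, List.getD_eq_getElem _ _ (by rw [List.length_take]; omega), List.getElem_take]
          simp only [permList, List.getElem_ofFn]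
          have hb : ∀ x y : Fin D.rank, D.bonds x y = bondT T x y := fun x y => by
            rw [ChevalleyDatum.bonds, bondT, C.spec.shape.simple_eq _ x.2, C.spec.shape.simple_eq _ y.2,
              C.spec.shape.cartan_eq _ x.2 _ (C.spec.simp_lt _ y.2), C.spec.shape.cartan_eq _ y.2 _ (C.spec.simp_lt _ x.2)]
          have := h ⟨a, by omega⟩ ⟨k, hk⟩ fun e => by simp at e; omega
          rw [hb, hb] at this
          exact this
      · rw [List.take_succ_eq_append_getElem hlen]
        simp [permList]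
  have := key D.rank le_rfl
  rwa [List.take_of_length_le (by simp [permList])] at this

variable {F : Type u} [Field F]

theorem isGraphAut_of_rootAct {γ : MulAut ↥(D.group F)} {π : Equiv.Perm (Fin D.rank)} (hsym : D.IsDiagramSymmetry π)
    (h : RootAct C γ π (fun i t => t ^ D.graphExp (ringChar F) i (π i)) (fun i t => t ^ D.graphExp (ringChar F) i (π i))) :
    D.IsGraphAut γ := by
  refine ⟨π, hsym, fun g i t => ?_⟩
  have hp := C.spec.simp_lt i i.2
  rw [C.spec.shape.simple_eq _ i.2, C.spec.shape.simple_eq _ (π i).2, C.spec.shape.neg_eq _ hp,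
    C.spec.shape.neg_eq _ (C.spec.simp_lt _ (π i).2)]
  refine ⟨fun e => ?_, fun e => ?_⟩
  · obtain rfl : g = autEl C (T.simp' i) t := Subtype.ext (eq_xg C e)
    rw [h.pos]; exact coe_xg C _ _
  · obtain rfl : g = autEl C (T.neg (T.simp' i)) t := Subtype.ext (eq_xg C e)
    rw [h.neg]; exact coe_xg C _ _

theorem graphOK_one : GraphOK C (1 : MulAut ↥(D.group F)) 1 (fun _ => RingEquiv.refl F) where
  act := ⟨fun i t => rfl, fun i t => rfl⟩
  keepU g := Iff.rfl
  keepV g := Iff.rfl
  isGraph := isGraphAut_of_rootAct C (π := 1) (fun i j _ => rfl) ⟨fun i t => by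
      show autEl C (T.simp' i) t = autEl C (T.simp' i) (t ^ D.graphExp (ringChar F) i i)
      rw [ChevalleyDatum.graphExp, Bool.and_not_self]; simp,
    fun i t => by
      show autEl C (T.neg (T.simp' i)) t = autEl C (T.neg (T.simp' i)) (t ^ D.graphExp (ringChar F) i i)
      rw [ChevalleyDatum.graphExp, Bool.and_not_self]; simp⟩

/-- Positivity of a root map and one root length. -/
noncomputable def chkSymPos (T : Tbl) (D : ChevalleyDatum) (rt : ℕ → ℕ) : Bool :=
  allBelow (fun r => Nat.ble T.nroots (2 * r) == Nat.ble T.nroots (2 * rt r)) T.nroots &&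
    allBelow (fun i => !D.isLong (D.simple i)) T.rank

theorem graphOK_sym [Finite F] {S : Sym} (hS : SymOK D T S) (hchk : chkSymPos T D S.root = true)
    {π : Equiv.Perm (Fin D.rank)} (hπ : ∀ i : Fin D.rank, (π i : ℕ) = S.node i) (hsym : D.IsDiagramSymmetry π) :
    ∃ (γ : MulAut ↥(D.group F)) (ε : Fin D.rank → F ≃+* F), GraphOK C γ π ε := by
  obtain ⟨α, hα⟩ := hS.exists_groupAut C (F := F)
  simp only [chkSymPos, Bool.and_eq_true, allBelow_iff, C.spec.shape.rank_eq, C.spec.shape.nroots_eq,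
    Bool.not_eq_true', beq_iff_eq] at hchk
  have hall : ∀ r < D.nroots, ∀ t : F, α (autEl C r t) = autEl C (S.root r) ((S.eps r : ℤ) * t) := fun r hr t =>
    Subtype.ext ((hα _).trans (hS.glHom_xg C hr t))
  have hact : RootAct C α π (fun _ t => t) (fun _ t => t) := by
    refine ⟨fun i t => ?_, fun i t => ?_⟩
    · rw [hall _ (C.spec.simp_lt i i.2), hS.simple i i.2, hS.eps_simple i i.2, hπ i]; simp
    · rw [hall _ (C.spec.neg_lt _ (C.spec.simp_lt i i.2)), hS.root_neg _ (C.spec.simp_lt i i.2), hS.simple i i.2,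
        hS.eps_neg _ (C.spec.simp_lt i i.2), hS.eps_simple i i.2, hπ i]; simp
  have hk := autKeeps_of_rootwise C (θ := α) S.root (fun r hr => ⟨hS.root_lt r hr, fun h => ?_, fun h => ?_⟩)
    fun r hr t => ⟨_, hall r hr t⟩
  rotate_left
  · have := hchk.1 r hr; rw [Bool.eq_iff_iff, Nat.ble_eq, Nat.ble_eq] at this; exact this.1 h
  · have := hchk.1 r hr; rw [Bool.eq_iff_iff, Nat.ble_eq, Nat.ble_eq] at this
    by_contra hc
    have := this.2 (by omega)
    omega
  refine ⟨α, fun _ => RingEquiv.refl F, hact, hk.1, hk.2, isGraphAut_of_rootAct C hsym (hact.congr C (fun _ => rfl)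
    (fun i t => ?_) fun i t => ?_)⟩ <;>
    simp [ChevalleyDatum.graphExp, hchk.2 _ (π i).2]

/-- The exponents of an exceptional symmetry on the fundamental roots. -/
noncomputable def chkESymNode (T : Tbl) (D : ChevalleyDatum) (S : ESym) : Bool :=
  allBelow (fun i => Nat.beq (S.lam T (T.simp' i)) (bif D.isLong (D.simple (S.pos i)) && !D.isLong (D.simple i) then S.p else 1) &&
    Nat.beq (S.lam T (T.neg (T.simp' i))) (S.lam T (T.simp' i))) T.rank

theorem graphOK_special [Finite F] (K : FullCert D T) {S : ESym} (hS : ESymOK D T S) [CharP F S.p] [Fact S.p.Prime]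
    (hchk : chkESymNode T D S = true) {π : Equiv.Perm (Fin D.rank)} (hπ : ∀ i : Fin D.rank, (π i : ℕ) = S.pos i)
    (hsym : D.IsDiagramSymmetry π) :
    ∃ (γ : MulAut ↥(D.group F)) (ε : Fin D.rank → F ≃+* F), GraphOK C γ π ε := by
  classical
  obtain ⟨α, hα⟩ := hS.exists_aut C K (F := F) fun x => Finite.surjective_of_injective (frobenius_inj F S.p) x
  simp only [chkESymNode, Bool.and_eq_true, allBelow_iff, C.spec.shape.rank_eq] at hchk
  have hall : ∀ r < D.nroots, ∀ t : F, α (autEl C r t) = autEl C (S.root T r) (t ^ S.lam T r) := fun r hr t =>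
    Subtype.ext (eq_xg C (hα (autEl C r t) r t hr (coe_xg C r t)))
  let e : Fin D.rank → ℕ := fun i => S.lam T (T.simp' i)
  have hact : RootAct C α π (fun i t => t ^ e i) (fun i t => t ^ e i) := by
    refine ⟨fun i t => ?_, fun i t => ?_⟩
    · rw [hall _ (C.spec.simp_lt i i.2), hS.root_simple i i.2, hπ i]
    · rw [hall _ (C.spec.neg_lt _ (C.spec.simp_lt i i.2)), hS.root_neg _ (C.spec.simp_lt i i.2),
        hS.root_simple i i.2, hπ i, Nat.eq_of_beq_eq_true (hchk i i.2).2]
  have hk := autKeeps_of_rootwise C (θ := α) (S.root T) (fun r hr => ⟨(hS.root_lt hr C.spec.shape).2,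
    (hS.root_pos r hr).2, fun h => lt_of_not_ge fun h' => absurd ((hS.root_pos r hr).1 h') (not_le.2 h)⟩)
    fun r hr t => ⟨_, hall r hr t⟩
  refine ⟨α, fun i => if e i = 1 then RingEquiv.refl F else frobeniusEquiv F S.p, hact.congr C (fun _ => rfl) ?_ ?_,
    hk.1, hk.2, isGraphAut_of_rootAct C hsym (hact.congr C (fun _ => rfl) ?_ ?_)⟩
  iterate 2
    intro i t
    by_cases he : e i = 1
    · simp [he]
    · rw [if_neg he, frobeniusEquiv_def]
      congr 1
      have := Nat.eq_of_beq_eq_true (hchk i i.2).1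
      rcases Bool.eq_false_or_eq_true (D.isLong (D.simple (S.pos i)) && !D.isLong (D.simple i)) with hb | hb
      · rw [hb] at this; exact this
      · rw [hb] at this; exact absurd this he
  iterate 2
    intro i t
    congr 1
    show S.lam T (T.simp' i) = _
    rw [Nat.eq_of_beq_eq_true (hchk i i.2).1, ringChar.eq F S.p, ChevalleyDatum.graphExp, hπ i]
    exact Bool.cond_eq_ite _ _ _

omit C in
/-- The candidates are the graph permutations. -/
theorem card_graphPerm {F : Type u} [Field F] (C : Cert D T) (L : List (List ℕ)) (hnd : L.Nodup)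
    (h1 : ∀ (π : Equiv.Perm (Fin D.rank)) (γ : MulAut ↥(D.group F)) (ε : Fin D.rank → F ≃+* F),
      GraphOK C γ π ε → permList π ∈ L)
    (h2 : ∀ l ∈ L, ∃ π : Equiv.Perm (Fin D.rank), permList π = l ∧
      ∃ (γ : MulAut ↥(D.group F)) (ε : Fin D.rank → F ≃+* F), GraphOK C γ π ε) :
    Nat.card (GraphPerm C F) = L.length := by
  classical
  let f : GraphPerm C F → {l // l ∈ L.toFinset} := fun π => ⟨permList π.1, by
    obtain ⟨γ, ε, h⟩ := π.2; exact List.mem_toFinset.2 (h1 _ γ ε h)⟩
  have hf : Function.Bijective f :=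
    ⟨fun a b e => Subtype.ext (permList_injective (congrArg Subtype.val e)), fun l => by
      obtain ⟨π, e, h⟩ := h2 l.1 (List.mem_toFinset.1 l.2)
      exact ⟨⟨π, h⟩, Subtype.ext e⟩⟩
  rw [Nat.card_congr (Equiv.ofBijective f hf), Nat.card_eq_fintype_card, Fintype.card_coe,
    List.toFinset_card_of_nodup hnd]

theorem perm_of_node {p : ℕ → ℕ} (h : ∀ i < D.rank, p i < D.rank) (hinj : ∀ i < D.rank, ∀ j < D.rank, p i = p j → i = j) :
    ∃ π : Equiv.Perm (Fin D.rank), ∀ i : Fin D.rank, (π i : ℕ) = p i :=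
  ⟨Equiv.ofBijective (fun i => ⟨p i, h i i.2⟩) (Finite.injective_iff_bijective.1 fun i j e =>
    Fin.ext (hinj i i.2 j j.2 (congrArg Fin.val e))), fun i => rfl⟩

theorem exists_graph_sym_perm [Finite F] {S : Sym} (hS : SymOK D T S) (hchk : chkSymPos T D S.root = true)
    (hsym : ∀ i < D.rank, ∀ j < D.rank, i ≠ j → bondT T (S.node i) (S.node j) = bondT T i j) :
    ∃ π : Equiv.Perm (Fin D.rank), permList π = (List.range D.rank).map S.node ∧
      ∃ (γ : MulAut ↥(D.group F)) (ε : Fin D.rank → F ≃+* F), GraphOK C γ π ε := by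
  obtain ⟨π, hπ⟩ := perm_of_node C hS.node_lt fun i hi j hj e => by
    rw [← hS.node_inv i hi, e, hS.node_inv j hj]
  have hb : ∀ x y : Fin D.rank, D.bonds x y = bondT T x y := fun x y => by
    rw [ChevalleyDatum.bonds, bondT, C.spec.shape.simple_eq _ x.2, C.spec.shape.simple_eq _ y.2,
      C.spec.shape.cartan_eq _ x.2 _ (C.spec.simp_lt _ y.2), C.spec.shape.cartan_eq _ y.2 _ (C.spec.simp_lt _ x.2)]
  refine ⟨π, List.ext_getElem (by simp [permList]) fun n h1 h2 => by simp [permList, hπ],
    graphOK_sym C hS hchk hπ fun i j hij => ?_⟩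
  rw [hb, hb, hπ, hπ]
  exact hsym i i.2 j j.2 fun e => hij (Fin.ext e)

omit C in
/-- The swap of two nodes joined by a multiple bond needs the exceptional characteristic. -/
theorem char_of_swap [Finite F] {C : Cert D T} {θ : MulAut ↥(D.group F)} {π : Equiv.Perm (Fin D.rank)}
    {σ : Fin D.rank → F ≃+* F} (h : RootAct C θ π (fun i t => σ i t) (fun i t => σ i t)) (i j : Fin D.rank) {k : ℕ}
    (h1 : T.cartan i (T.simp' j) = -1) (h2 : T.cartan (π i) (T.simp' (π j)) = -(k : ℤ)) (hk : k ≠ 0) :
    ∀ s t : F, (s + t) ^ k = s ^ k + t ^ k := by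
  have hkey : ∀ t : F, σ j t = σ i t ^ k := by
    intro t
    by_cases ht : t = 0
    · simp [ht, hk]
    have := h.sigma_rel C i j ht
    rw [h1, h2, zpow_neg_one, map_inv₀, zpow_neg, inv_inj, zpow_natCast] at this
    exact this
  intro s t
  obtain ⟨s, rfl⟩ := (σ i).surjective s
  obtain ⟨t, rfl⟩ := (σ i).surjective t
  rw [← map_add, ← hkey, map_add, hkey, hkey]

/-- A commuting pair that a swap would send to a non-commuting one. -/
noncomputable def chkCommExcl (T : Tbl) (i : ℕ) (w : List ℕ) (pi : List ℕ) : Bool :=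
  let r := T.simp' i
  let s := wperm T w r
  let r' := T.simp' (nth 0 pi i)
  let s' := wperm T (w.map fun a => nth 0 pi a) r'
  Nat.blt i T.rank && ((w.all fun a => Nat.blt a T.rank) &&
  ((tTerms T r s).all fun c => decide (c.2.1 % 2 = 0)) && ((!Nat.beq s r && !Nat.beq s (T.neg r)) &&
  ((!Nat.beq s' r' && !Nat.beq s' (T.neg r')) && (Nat.beq (tTerms T r' s').length 1 &&
    ((tTerms T r' s').all fun c => decide (c.2.1 % 2 = 1))))))

theorem no_swap_two [CharP F 2] (K : CommCert D T) {θ : MulAut ↥(D.group F)} {π : Equiv.Perm (Fin D.rank)}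
    {σ : Fin D.rank → F ≃+* F} (h : RootAct C θ π (fun i t => σ i t) (fun i t => σ i t)) {i : ℕ} {w pi : List ℕ}
    (hπ : permList π = pi) (hchk : chkCommExcl T i w pi = true) : False := by
  simp only [chkCommExcl, Bool.and_eq_true, Nat.blt_eq, List.all_eq_true, decide_eq_true_eq, Bool.not_eq_true',
    C.spec.shape.rank_eq] at hchk
  obtain ⟨hi, ⟨⟨hw, hcomm⟩, ⟨n1, n2⟩, ⟨n3, n4⟩, hlen, hodd⟩⟩ := hchk
  have ne : ∀ {x y : ℕ}, Nat.beq x y = false → x ≠ y := fun h e => by
    rw [e, Nat.beq_refl] at h; exact Bool.noConfusion h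
  let k : Fin D.rank := ⟨i, hi⟩
  let wf : List (Fin D.rank) := w.attach.map fun a => ⟨a.1, hw a.1 a.2⟩
  have hwf : wf.map (·.val) = w := by simp [wf, Function.comp_def]
  have hwf' : (wf.map π).map (·.val) = w.map fun a => nth 0 pi a := by
    rw [List.map_map]
    conv_rhs => rw [← hwf, List.map_map]
    exact List.map_congr_left fun a _ => by
      show (π a : ℕ) = nth 0 pi a
      rw [nth_eq]; exact permList_getD hπ a
  have hwd : ∀ v : List (Fin D.rank), IsWord D (v.map (·.val)) := fun v a ha => by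
    obtain ⟨b, -, rfl⟩ := List.mem_map.1 ha; exact b.2
  have hp := C.spec.simp_lt i hi
  have hq := C.spec.simp_lt _ (π k).2
  have hpi : nth 0 pi i = (π k : ℕ) := by rw [nth_eq]; exact (permList_getD hπ k).symm
  rw [hpi] at n3 n4 hlen hodd
  rw [← hwf'] at n3 n4 hlen hodd
  rw [← hwf] at n1 n2 hcomm
  set s := wperm T (wf.map (·.val)) (T.simp' i)
  set s' := wperm T ((wf.map π).map (·.val)) (T.simp' (π k))
  let W : List (Fin D.rank) → ↥(D.group F) := fun v => ⟨wnu C F (v.map (·.val)), wnu_mem_group C (hwd v)⟩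
  have hW : ∀ v, θ (W v) = W (v.map π) := by
    intro v
    induction v with
    | nil =>
      have : W [] = 1 := Subtype.ext (by simp [W, wnu])
      rw [this, map_one]; exact this.symm
    | cons a v ih =>
      have e : ∀ (a : Fin D.rank) v, W (a :: v) = ⟨ng C (T.simp' a) (1 : F), ng_mem_group C _ _⟩ * W v := fun a v =>
        Subtype.ext (wnu_cons C (a : ℕ) (v.map (·.val)))
      rw [e, map_mul, ih, h.map_ng, map_one, List.map_cons, e]
  obtain ⟨c, -, hct⟩ := wnu_conj_xg C (F := F) (hwd wf) hp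
  obtain ⟨c', hc', hct'⟩ := wnu_conj_xg C (F := F) (hwd (wf.map π)) hq
  have hc : Commute (autEl C (T.simp' i) (1 : F)) (W wf * autEl C (T.simp' i) 1 * (W wf)⁻¹) := by
    refine Subtype.ext ?_
    show xg C (T.simp' i) (1 : F) * (wnu C F _ * xg C (T.simp' i) 1 * (wnu C F _)⁻¹) =
      wnu C F _ * xg C (T.simp' i) 1 * (wnu C F _)⁻¹ * xg C (T.simp' i) 1
    rw [hct]
    have e := comm_xg_prod C K hp (wperm_lt C (hwd wf) hp) (ne n1) (ne n2) (1 : F) (c * 1)
    have h0 : (List.map (fun d => xg C d.1 ((d.2.1 : F) * (-(1 : F)) ^ d.2.2.1 * (c * 1) ^ d.2.2.2)) (tTerms T (T.simp' i) s)).prod = 1 :=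
      List.prod_eq_one fun y hy => by
        obtain ⟨d, hd, rfl⟩ := List.mem_map.1 hy
        rw [(CharP.intCast_eq_zero_iff F 2 d.2.1).2 (Int.dvd_of_emod_eq_zero (hcomm d hd)), zero_mul, zero_mul, xg_zero]
    rw [h0, commutatorElement_eq_one_iff_commute, Commute.inv_left_iff, Commute.inv_right_iff] at e
    exact e.eq.symm
  have hc2 := hc.map θ
  rw [map_mul, map_mul, map_inv, hW, h.pos k (1 : F)] at hc2
  have hc3 : Commute (xg C (T.simp' (π k)) (σ k 1)) (xg C s' (c' * σ k 1)) := by
    have := congrArg Subtype.val hc2.eq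
    show _ = _
    rw [← hct']
    exact this
  have e := comm_xg_prod C K hq (wperm_lt C (hwd (wf.map π)) hq) (ne n3) (ne n4) (σ k 1) (c' * σ k 1)
  obtain ⟨d, hd⟩ := List.length_eq_one_iff.1 (Nat.eq_of_beq_eq_true hlen)
  rw [hd, List.map_singleton, List.prod_singleton,
    commutatorElement_eq_one_iff_commute.2 (hc3.symm.inv_left.inv_right)] at e
  have hd' := tTerms_lt C hq (wperm_lt C (hwd (wf.map π)) hq) d (by rw [hd]; exact List.mem_singleton_self d)
  refine one_ne_zero (α := F) ?_
  have h0 := xg_eq_one C hd'.1 e.symm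
  have hm : ((d.2.1 : ℤ) : F) ≠ 0 := fun e0 => by
    have h1 := (CharP.intCast_eq_zero_iff F 2 d.2.1).1 e0
    have h2 := hodd d (by rw [hd]; exact List.mem_singleton_self d)
    omega
  have hcne : c' ≠ 0 := fun e0 => one_ne_zero (α := F) (by rw [← hc', e0, mul_zero])
  simp [map_one, hm, hcne] at h0

end Generic

/-! ### The graph automorphisms of each type -/

theorem symExtG2 : symExt tblG2 2 = [[0, 1], [1, 0]] := by decide +kernel
theorem symExtB2 : symExt tblB2 2 = [[0, 1], [1, 0]] := by decide +kernel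
theorem symExtF4 : symExt tblF4 4 = [[0, 1, 2, 3], [3, 2, 1, 0]] := by decide +kernel
theorem symExtE6 : symExt tblE6 6 = [[0, 1, 2, 3, 4, 5], [5, 1, 4, 3, 2, 0]] := by decide +kernel
theorem symExtE7 : symExt tblE7 7 = [[0, 1, 2, 3, 4, 5, 6]] := by decide +kernel
theorem symExtE8 : symExt tblE8 8 = [[0, 1, 2, 3, 4, 5, 6, 7]] := by decide +kernel
theorem symExtD4 : symExt tblD4 4 =
    [[0, 1, 2, 3], [0, 1, 3, 2], [2, 1, 0, 3], [2, 1, 3, 0], [3, 1, 0, 2], [3, 1, 2, 0]] := by decide +kernel

section Types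

variable {F : Type u} [Field F] [Finite F]

omit [Finite F] in
theorem perm_one_of_list {n : ℕ} {π : Equiv.Perm (Fin n)} (h : permList π = List.range n) : π = 1 :=
  permList_injective (h.trans (List.ext_getElem (by simp [permList]) fun m h1 h2 => by simp [permList]))

theorem symList_D4 : ∀ l ∈ symExt tblD4 4, ∃ S ∈ [symD4_0, symD4_1, symD4_2, symD4_3, symD4_4, symD4_5],
    l = S.p ∧ chkSym tblD4 S = true ∧ chkSymPos tblD4 chevD4 S.root = true := by
  rw [symExtD4]; decide +kernel

theorem graphOK_D4 (l : List ℕ) (hl : l ∈ symExt tblD4 4) :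
    ∃ π : Equiv.Perm (Fin 4), permList π = l ∧
      ∃ (γ : MulAut ↥(chevD4.group F)) (ε : Fin 4 → F ≃+* F), GraphOK fullCertD4.comm.cert γ π ε := by
  obtain ⟨S, hS, rfl, h1, h2⟩ := symList_D4 l hl
  have hb : ∀ i < 4, ∀ j < 4, i ≠ j → bondT tblD4 (S.node i) (S.node j) = bondT tblD4 i j := by
    revert hl
    simp only [List.mem_cons, List.not_mem_nil, or_false] at hS
    rcases hS with rfl | rfl | rfl | rfl | rfl | rfl <;> intro _ <;> decide +kernel
  obtain ⟨π, e, h⟩ := exists_graph_sym_perm fullCertD4.comm.cert (F := F)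
    (symOK_of_chk fullCertD4.comm.cert.spec.shape h1) h2 hb
  refine ⟨π, e.trans ?_, h⟩
  simp only [List.mem_cons, List.not_mem_nil, or_false] at hS
  rcases hS with rfl | rfl | rfl | rfl | rfl | rfl <;> decide +kernel

theorem graphOK_E6 (l : List ℕ) (hl : l ∈ symExt tblE6 6) :
    ∃ π : Equiv.Perm (Fin 6), permList π = l ∧
      ∃ (γ : MulAut ↥(chevE6.group F)) (ε : Fin 6 → F ≃+* F), GraphOK fullCertE6.comm.cert γ π ε := by
  rw [symExtE6] at hl
  simp only [List.mem_cons, List.not_mem_nil, or_false] at hl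
  rcases hl with rfl | rfl
  · exact ⟨1, by simp [permList], 1, _, graphOK_one fullCertE6.comm.cert⟩
  · have hb : ∀ i < 6, ∀ j < 6, i ≠ j → bondT tblE6 (symE6_1.node i) (symE6_1.node j) = bondT tblE6 i j := by
      decide +kernel
    obtain ⟨π, e, h⟩ := exists_graph_sym_perm fullCertE6.comm.cert (F := F)
      (symOK_of_chk fullCertE6.comm.cert.spec.shape chkSymE6_1) (by decide +kernel) hb
    exact ⟨π, e.trans (by decide +kernel), h⟩

theorem graphData_of_all {D : ChevalleyDatum} {T : Tbl} {C : Cert D T}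
    (h : ∀ l ∈ symExt T D.rank, ∃ π : Equiv.Perm (Fin D.rank), permList π = l ∧
      ∃ (γ : MulAut ↥(D.group F)) (ε : Fin D.rank → F ≃+* F), GraphOK C γ π ε) : GraphData C F :=
  fun _ π _ _ hsym => by
    obtain ⟨π', e, h'⟩ := h _ (permList_mem_symExt C hsym)
    exact permList_injective e ▸ h'

theorem graphPerm_of_all {D : ChevalleyDatum} {T : Tbl} {C : Cert D T} (A : AutData D T)
    (h : ∀ l ∈ symExt T D.rank, ∃ π : Equiv.Perm (Fin D.rank), permList π = l ∧
      ∃ (γ : MulAut ↥(D.group F)) (ε : Fin D.rank → F ≃+* F), GraphOK C γ π ε) {L : List (List ℕ)}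
    (hL : symExt T D.rank = L) (hnd : L.Nodup) : Nat.card (GraphPerm C F) = L.length :=
  card_graphPerm C L hnd (fun π γ ε hγ => hL ▸ permList_mem_symExt C (isDiagramSymmetry_of_rootAct C A hγ.act))
    fun l hl => h l (hL ▸ hl)

theorem all_E7 : ∀ l ∈ symExt tblE7 chevE7.rank, ∃ π : Equiv.Perm (Fin chevE7.rank), permList π = l ∧
    ∃ (γ : MulAut ↥(chevE7.group F)) (ε : Fin chevE7.rank → F ≃+* F), GraphOK fullCertE7.comm.cert γ π ε := by
  intro l hl
  rw [show chevE7.rank = 7 from rfl, symExtE7, List.mem_singleton] at hl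
  subst hl
  exact ⟨1, by simp [permList, show chevE7.rank = 7 from rfl], 1, _, graphOK_one fullCertE7.comm.cert⟩

theorem all_E8 : ∀ l ∈ symExt tblE8 chevE8.rank, ∃ π : Equiv.Perm (Fin chevE8.rank), permList π = l ∧
    ∃ (γ : MulAut ↥(chevE8.group F)) (ε : Fin chevE8.rank → F ≃+* F), GraphOK fullCertE8.comm.cert γ π ε := by
  intro l hl
  rw [show chevE8.rank = 8 from rfl, symExtE8, List.mem_singleton] at hl
  subst hl
  exact ⟨1, by simp [permList, show chevE8.rank = 8 from rfl], 1, _, graphOK_one fullCertE8.comm.cert⟩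

theorem swap_mem_G2 {θ : MulAut ↥(chevG2.group F)} {π : Equiv.Perm (Fin chevG2.rank)}
    {σ : Fin chevG2.rank → F ≃+* F} (h : RootAct fullCertG2.comm.cert θ π (fun i t => σ i t) (fun i t => σ i t))
    (hl : permList π = [1, 0]) : CharP F 3 := by
  have h0 : (π ⟨0, by decide⟩ : ℕ) = 1 := (permList_getD hl _).trans rfl
  have h1 : (π ⟨1, by decide⟩ : ℕ) = 0 := (permList_getD hl _).trans rfl
  obtain ⟨p, hp⟩ := CharP.exists F
  have hpp := (CharP.char_is_prime_or_zero F p).resolve_right (CharP.char_ne_zero_of_finite F p)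
  have h6 : ((6 : ℕ) : F) = 0 := by
    have hcase : (tblG2.cartan 0 (tblG2.simp' 1) = -1 ∧ tblG2.cartan 1 (tblG2.simp' 0) = -((3 : ℕ) : ℤ)) ∨
        (tblG2.cartan 1 (tblG2.simp' 0) = -1 ∧ tblG2.cartan 0 (tblG2.simp' 1) = -((3 : ℕ) : ℤ)) := by decide +kernel
    have hadd : ∀ s t : F, (s + t) ^ 3 = s ^ 3 + t ^ 3 := by
      rcases hcase with ⟨e1, e2⟩ | ⟨e1, e2⟩
      · exact char_of_swap h ⟨0, by decide⟩ ⟨1, by decide⟩ e1 (by rw [h0, h1]; exact e2) (by decide)
      · exact char_of_swap h ⟨1, by decide⟩ ⟨0, by decide⟩ e1 (by rw [h0, h1]; exact e2) (by decide)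
    have := hadd 1 1
    push_cast
    linear_combination this
  have hdvd := (CharP.cast_eq_zero_iff F p 6).1 h6
  rcases (Nat.Prime.dvd_mul hpp).1 (show p ∣ 2 * 3 from hdvd) with h2 | h3
  · obtain rfl := (Nat.prime_dvd_prime_iff_eq hpp Nat.prime_two).1 h2
    exfalso
    have hchk : ((List.range 2).any fun i => [[0], [1], [0, 1], [1, 0], [0, 1, 0], [1, 0, 1], [0, 1, 0, 1], [1, 0, 1, 0],
        [0, 1, 0, 1, 0], [1, 0, 1, 0, 1]].any fun w => chkCommExcl tblG2 i w [1, 0]) = true := by decide +kernel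
    simp only [List.any_eq_true] at hchk
    obtain ⟨i, -, w, -, hw⟩ := hchk
    exact no_swap_two fullCertG2.comm.cert fullCertG2.comm h hl hw
  · obtain rfl := (Nat.prime_dvd_prime_iff_eq hpp Nat.prime_three).1 h3
    exact hp

theorem swap_mem_B2 {θ : MulAut ↥(chevB2.group F)} {π : Equiv.Perm (Fin chevB2.rank)}
    {σ : Fin chevB2.rank → F ≃+* F} (h : RootAct fullCertB2.comm.cert θ π (fun i t => σ i t) (fun i t => σ i t))
    (hl : permList π = [1, 0]) : CharP F 2 := by
  have h0 : (π ⟨0, by decide⟩ : ℕ) = 1 := (permList_getD hl _).trans rfl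
  have h1 : (π ⟨1, by decide⟩ : ℕ) = 0 := (permList_getD hl _).trans rfl
  have hcase : (tblB2.cartan 0 (tblB2.simp' 1) = -1 ∧ tblB2.cartan 1 (tblB2.simp' 0) = -((2 : ℕ) : ℤ)) ∨
      (tblB2.cartan 1 (tblB2.simp' 0) = -1 ∧ tblB2.cartan 0 (tblB2.simp' 1) = -((2 : ℕ) : ℤ)) := by decide +kernel
  have hadd : ∀ s t : F, (s + t) ^ 2 = s ^ 2 + t ^ 2 := by
    rcases hcase with ⟨e1, e2⟩ | ⟨e1, e2⟩
    · exact char_of_swap h ⟨0, by decide⟩ ⟨1, by decide⟩ e1 (by rw [h0, h1]; exact e2) (by decide)
    · exact char_of_swap h ⟨1, by decide⟩ ⟨0, by decide⟩ e1 (by rw [h0, h1]; exact e2) (by decide)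
  have := hadd 1 1
  exact CharTwo.of_one_ne_zero_of_two_eq_zero one_ne_zero (by linear_combination this)

theorem swap_mem_F4 {θ : MulAut ↥(chevF4.group F)} {π : Equiv.Perm (Fin chevF4.rank)}
    {σ : Fin chevF4.rank → F ≃+* F} (h : RootAct fullCertF4.comm.cert θ π (fun i t => σ i t) (fun i t => σ i t))
    (hl : permList π = [3, 2, 1, 0]) : CharP F 2 := by
  have h1 : (π ⟨1, by decide⟩ : ℕ) = 2 := (permList_getD hl _).trans rfl
  have h2 : (π ⟨2, by decide⟩ : ℕ) = 1 := (permList_getD hl _).trans rfl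
  have hcase : (tblF4.cartan 1 (tblF4.simp' 2) = -1 ∧ tblF4.cartan 2 (tblF4.simp' 1) = -((2 : ℕ) : ℤ)) ∨
      (tblF4.cartan 2 (tblF4.simp' 1) = -1 ∧ tblF4.cartan 1 (tblF4.simp' 2) = -((2 : ℕ) : ℤ)) := by decide +kernel
  have hadd : ∀ s t : F, (s + t) ^ 2 = s ^ 2 + t ^ 2 := by
    rcases hcase with ⟨e1, e2⟩ | ⟨e1, e2⟩
    · exact char_of_swap h ⟨1, by decide⟩ ⟨2, by decide⟩ e1 (by rw [h1, h2]; exact e2) (by decide)
    · exact char_of_swap h ⟨2, by decide⟩ ⟨1, by decide⟩ e1 (by rw [h1, h2]; exact e2) (by decide)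
  have := hadd 1 1
  exact CharTwo.of_one_ne_zero_of_two_eq_zero one_ne_zero (by linear_combination this)

/-- Two possible permutations, the second one only in characteristic `p`. -/
theorem two_perm_special {D : ChevalleyDatum} {T : Tbl} (C : Cert D T) (A : AutData D T) {S : ESym}
    (hS : ESymOK D T S) (hp : S.p.Prime) (hnode : chkESymNode T D S = true) {l₁ : List ℕ}
    (hsym : symExt T D.rank = [List.range D.rank, l₁]) (hl : l₁ = (List.range D.rank).map S.pos)
    (hne : List.range D.rank ≠ l₁)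
    (hchar : ∀ (θ : MulAut ↥(D.group F)) (π : Equiv.Perm (Fin D.rank)) (σ : Fin D.rank → F ≃+* F),
      RootAct C θ π (fun i t => σ i t) (fun i t => σ i t) → permList π = l₁ → CharP F S.p)
    (hb : ∀ i < D.rank, ∀ j < D.rank, i ≠ j → bondT T (S.pos i) (S.pos j) = bondT T i j) :
    GraphData C F ∧ ∀ p : ℕ, CharP F p → Nat.card (GraphPerm C F) = if p = S.p then 2 else 1 := by
  classical
  haveI := Fact.mk hp
  obtain ⟨π₁, hπ₁⟩ := perm_of_node C (p := S.pos) (fun i hi => (hS.pos_rank i (by omega)).1 hi) fun i hi j hj e => by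
    rw [← hS.pos_pos i (by omega), e, hS.pos_pos j (by omega)]
  have hlist : permList π₁ = l₁ := hl ▸ List.ext_getElem (by simp [permList]) fun n h1 h2 => by simp [permList, hπ₁]
  have hone : ∀ π : Equiv.Perm (Fin D.rank), permList π = List.range D.rank →
      ∃ (γ : MulAut ↥(D.group F)) (ε : Fin D.rank → F ≃+* F), GraphOK C γ π ε := fun π e =>
    perm_one_of_list e ▸ ⟨1, _, graphOK_one C⟩
  have hswap : CharP F S.p → ∃ (γ : MulAut ↥(D.group F)) (ε : Fin D.rank → F ≃+* F), GraphOK C γ π₁ ε := fun hc =>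
    graphOK_special C A.full hS hnode hπ₁ fun i j hij => by
      have hbb : ∀ x y : Fin D.rank, D.bonds x y = bondT T x y := fun x y => by
        rw [ChevalleyDatum.bonds, bondT, C.spec.shape.simple_eq _ x.2, C.spec.shape.simple_eq _ y.2,
          C.spec.shape.cartan_eq _ x.2 _ (C.spec.simp_lt _ y.2), C.spec.shape.cartan_eq _ y.2 _ (C.spec.simp_lt _ x.2)]
      rw [hbb, hbb, hπ₁, hπ₁]
      exact hb i i.2 j j.2 fun e => hij (Fin.ext e)
  refine ⟨fun θ π σ hact hs => ?_, fun p hpc => ?_⟩
  · have := permList_mem_symExt C hs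
    rw [hsym] at this
    simp only [List.mem_cons, List.not_mem_nil, or_false] at this
    rcases this with e | e
    · exact hone π e
    · exact permList_injective (hlist.trans e.symm) ▸ hswap (hchar θ π σ hact e)
  · have hmem : ∀ (π : Equiv.Perm (Fin D.rank)) (γ : MulAut ↥(D.group F)) (ε : Fin D.rank → F ≃+* F),
        GraphOK C γ π ε → permList π = List.range D.rank ∨ (permList π = l₁ ∧ CharP F S.p) := fun π γ ε h => by
      have := permList_mem_symExt C (isDiagramSymmetry_of_rootAct C A h.act)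
      rw [hsym] at this
      simp only [List.mem_cons, List.not_mem_nil, or_false] at this
      exact this.imp id fun e => ⟨e, hchar γ π ε h.act e⟩
    have h1 : ∃ π : Equiv.Perm (Fin D.rank), permList π = List.range D.rank :=
      ⟨1, List.ext_getElem (by simp [permList]) fun m h1 h2 => by simp [permList]⟩
    by_cases hps : p = S.p
    · subst hps
      rw [if_pos rfl]
      refine card_graphPerm C [List.range D.rank, l₁] (by simp [hne]) (fun π γ ε h => ?_) fun l hl' => ?_
      · rcases hmem π γ ε h with e | ⟨e, -⟩ <;> simp [e]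
      · simp only [List.mem_cons, List.not_mem_nil, or_false] at hl'
        rcases hl' with rfl | rfl
        · obtain ⟨π, e⟩ := h1; exact ⟨π, e, hone π e⟩
        · exact ⟨π₁, hlist, hswap hpc⟩
    · rw [if_neg hps]
      refine card_graphPerm C [List.range D.rank] (by simp) (fun π γ ε h => ?_) fun l hl' => ?_
      · rcases hmem π γ ε h with e | ⟨-, hc⟩
        · simp [e]
        · exact absurd (CharP.eq F hpc hc) hps
      · rw [List.mem_singleton] at hl'
        subst hl'
        obtain ⟨π, e⟩ := h1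
        exact ⟨π, e, hone π e⟩

theorem special_G2 : GraphData fullCertG2.comm.cert F ∧
    ∀ p : ℕ, CharP F p → Nat.card (GraphPerm fullCertG2.comm.cert F) = if p = 3 then 2 else 1 :=
  two_perm_special fullCertG2.comm.cert autDataG2 eSymOKG2 Nat.prime_three (by decide +kernel) (l₁ := [1, 0])
    symExtG2 (by decide +kernel) (by decide) (fun _ _ _ h e => swap_mem_G2 h e) (by decide +kernel)

theorem special_B2 : GraphData fullCertB2.comm.cert F ∧
    ∀ p : ℕ, CharP F p → Nat.card (GraphPerm fullCertB2.comm.cert F) = if p = 2 then 2 else 1 :=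
  two_perm_special fullCertB2.comm.cert autDataB2 eSymOKB2 Nat.prime_two (by decide +kernel) (l₁ := [1, 0])
    symExtB2 (by decide +kernel) (by decide) (fun _ _ _ h e => swap_mem_B2 h e) (by decide +kernel)

theorem special_F4 : GraphData fullCertF4.comm.cert F ∧
    ∀ p : ℕ, CharP F p → Nat.card (GraphPerm fullCertF4.comm.cert F) = if p = 2 then 2 else 1 :=
  two_perm_special fullCertF4.comm.cert autDataF4 eSymOKF4 Nat.prime_two (by decide +kernel) (l₁ := [3, 2, 1, 0])
    symExtF4 (by decide +kernel) (by decide) (fun _ _ _ h e => swap_mem_F4 h e) (by decide +kernel)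

/-- The number of classes of diagonal automorphisms. -/
theorem card_ker_cartan {D : ChevalleyDatum} {T : Tbl} {d : Fin D.rank → ℕ} (h : TorusCert D T d) :
    Nat.card ↥(powHom (cartanMat D T) : (Fin D.rank → Fˣ) →* _).ker = ∏ k, (Nat.card F - 1).gcd (d k) := by
  obtain ⟨P, P', Q, Q', h1, h2, h3, h4⟩ := h.exists_snf
  rw [card_ker_powHom (G := Fˣ) h1 h2 h3 h4, Nat.card_units]

/-- All seven types. -/
theorem autDecomp_all {D : ChevalleyDatum} (hD : D ∈ [chevG2, chevB2, chevD4, chevF4, chevE6, chevE7, chevE8]) :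
    ∃ (T : Tbl) (C : Cert D T), AutData D T ∧ GraphData C F ∧
      (Nat.card (GraphPerm C F) = 1 ∨ Nat.card (GraphPerm C F) = 2 ∨
        (Nat.card (GraphPerm C F) = 6 ∧ ∃ a b : GraphPerm C F, a.1 * b.1 ≠ b.1 * a.1)) := by
  obtain ⟨p, hp⟩ := CharP.exists F
  simp only [List.mem_cons, List.not_mem_nil, or_false] at hD
  rcases hD with rfl | rfl | rfl | rfl | rfl | rfl | rfl
  · refine ⟨_, _, autDataG2, special_G2.1, ?_⟩
    have := special_G2 (F := F).2 p hp
    split_ifs at this <;> simp [this]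
  · refine ⟨_, _, autDataB2, special_B2.1, ?_⟩
    have := special_B2 (F := F).2 p hp
    split_ifs at this <;> simp [this]
  · refine ⟨_, fullCertD4.comm.cert, autDataD4, graphData_of_all graphOK_D4, Or.inr (Or.inr ⟨?_, ?_⟩)⟩
    · exact graphPerm_of_all autDataD4 graphOK_D4 symExtD4 (by decide)
    · obtain ⟨a, ea, ha⟩ := graphOK_D4 (F := F) [0, 1, 3, 2] (by rw [symExtD4]; decide)
      obtain ⟨b, eb, hb⟩ := graphOK_D4 (F := F) [2, 1, 0, 3] (by rw [symExtD4]; decide)
      refine ⟨⟨a, ha⟩, ⟨b, hb⟩, fun e => ?_⟩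
      have h : ((a (b 0) : Fin 4) : ℕ) = ((b (a 0) : Fin 4) : ℕ) := by
        have := congrArg (fun π : Equiv.Perm (Fin 4) => ((π (0 : Fin 4) : Fin 4) : ℕ)) e
        exact this
      rw [permList_getD ea, permList_getD eb, permList_getD eb, permList_getD ea] at h
      exact absurd h (by decide)
  · refine ⟨_, _, autDataF4, special_F4.1, ?_⟩
    have := special_F4 (F := F).2 p hp
    split_ifs at this <;> simp [this]
  · exact ⟨_, fullCertE6.comm.cert, autDataE6, graphData_of_all graphOK_E6,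
      Or.inr (Or.inl (graphPerm_of_all autDataE6 graphOK_E6 symExtE6 (by decide)))⟩
  · exact ⟨_, fullCertE7.comm.cert, autDataE7, graphData_of_all all_E7,
      Or.inl (graphPerm_of_all autDataE7 all_E7 symExtE7 (by decide))⟩
  · exact ⟨_, fullCertE8.comm.cert, autDataE8, graphData_of_all all_E8,
      Or.inl (graphPerm_of_all autDataE8 all_E8 symExtE8 (by decide))⟩

end Types

end Cfsg.Lib.Chev
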