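import Cfsg.Agent.Lib.Chev.B2Sp
import Cfsg.Agent.S0301

/-!
The image of the symplectic group of dimension four in the five dimensional orthogonal group, over any field with
more than two elements, is the commutator subgroup of that orthogonal group.
-/

set_option autoImplicit false
set_option linter.unusedSectionVars false

namespace Cfsg.Lib.Chev.B2Orth

open Cfsg.Lie Matrix Cfsg.Agent
open scoped commutatorElement

variable {F : Type*} [Field F]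

/-- The coordinates. -/
abbrev I5 : Type := Unit ⊕ (Fin 2 ⊕ Fin 2)

local notation "Q₅" => Cfsg.quadFormOdd 2 F
local notation "O₅" => Cfsg.isometryGroup F Q₅
local notation "Sp" => Matrix.symplecticGroup (Fin 2) F

/-- A vector by its coordinates. -/
def mk5 (z x0 x1 y0 y1 : F) : I5 → F := Sum.elim (fun _ => z) (Sum.elim ![x0, x1] ![y0, y1])

theorem mk5_eta (v : I5 → F) :
    v = mk5 (v (.inl ())) (v (.inr (.inl 0))) (v (.inr (.inl 1))) (v (.inr (.inr 0))) (v (.inr (.inr 1))) := by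
  funext j
  rcases j with j | j | j
  · rfl
  all_goals fin_cases j <;> rfl

theorem quad_mk5 (z x0 x1 y0 y1 : F) : Q₅ (mk5 z x0 x1 y0 y1) = z ^ 2 + (x0 * y0 + x1 * y1) := by
  simp [Cfsg.quadFormOdd, mk5, Fin.sum_univ_two]

theorem sp_conj (g : Sp) : ((g : Matrix (Fin 2 ⊕ Fin 2) (Fin 2 ⊕ Fin 2) F).submatrix S0301.e4 S0301.e4)ᵀ * S0301.J4 *
    (g : Matrix (Fin 2 ⊕ Fin 2) (Fin 2 ⊕ Fin 2) F).submatrix S0301.e4 S0301.e4 = S0301.J4 := by
  rw [S0301.J4, Matrix.transpose_submatrix, Matrix.submatrix_mul_equiv, Matrix.submatrix_mul_equiv,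
    SymplecticGroup.mem_iff'.mp g.2]

theorem exists_phi : ∃ φ : Sp →* GL I5 F, ∀ (g : Sp) (v : I5 → F), (φ g).1 *ᵥ v =
    S0301.co5 ((g : Matrix (Fin 2 ⊕ Fin 2) (Fin 2 ⊕ Fin 2) F).submatrix S0301.e4 S0301.e4 * S0302.wedgeX (S0301.emb v) *
      ((g : Matrix (Fin 2 ⊕ Fin 2) (Fin 2 ⊕ Fin 2) F).submatrix S0301.e4 S0301.e4)ᵀ) := by
  let A : Sp → Matrix (Fin 4) (Fin 4) F := fun g =>
    (g : Matrix (Fin 2 ⊕ Fin 2) (Fin 2 ⊕ Fin 2) F).submatrix S0301.e4 S0301.e4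
  have hcl : ∀ g v, S0302.wedgeX (S0301.emb (S0301.co5 (A g * S0302.wedgeX (S0301.emb v) * (A g)ᵀ))) =
      A g * S0302.wedgeX (S0301.emb v) * (A g)ᵀ := fun g v => by
    rw [S0301.emb_co5 _ (S0301.closed5 (sp_conj g) v), S0302.closed]
  have hmul : ∀ g h : Sp, A (g * h) = A g * A h := fun g h => (Matrix.submatrix_mul_equiv _ _ _ _ _).symm
  obtain ⟨φ, hφ⟩ := Cfsg.Lib.Linear.SmallIso.exists_hom (G := Sp)
    (S0302.wedgeX.comp (S0301.emb (F := F))) S0301.co5 S0301.co5_X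
    (fun g => (LinearMap.mulLeft F (A g)).comp (LinearMap.mulRight F (A g)ᵀ))
    (fun M => by simp [A, Submonoid.coe_one, Matrix.submatrix_one_equiv])
    (fun g h M => by simp [hmul, Matrix.transpose_mul, Matrix.mul_assoc])
    (fun g v => by
      have := hcl g v
      simpa [Matrix.mul_assoc] using this)
  refine ⟨φ, fun g v => ?_⟩
  have h := congrArg (S0301.co5 (F := F)) (hφ g v)
  simp only [LinearMap.comp_apply, LinearMap.mulLeft_apply, LinearMap.mulRight_apply, S0301.co5_X, ← Matrix.mul_assoc] at h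
  exact h

/-- The map of the symplectic group into five dimensions. -/
noncomputable def phi : Sp →* GL I5 F := exists_phi.choose

theorem phi_apply (g : Sp) (v : I5 → F) : (phi g).1 *ᵥ v =
    S0301.co5 ((g : Matrix (Fin 2 ⊕ Fin 2) (Fin 2 ⊕ Fin 2) F).submatrix S0301.e4 S0301.e4 * S0302.wedgeX (S0301.emb v) *
      ((g : Matrix (Fin 2 ⊕ Fin 2) (Fin 2 ⊕ Fin 2) F).submatrix S0301.e4 S0301.e4)ᵀ) :=
  (exists_phi (F := F)).choose_spec g v

theorem sp4_submatrix (a00 a01 a02 a03 a10 a11 a12 a13 a20 a21 a22 a23 a30 a31 a32 a33 : F) :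
    (B2Sp.sp4 a00 a01 a02 a03 a10 a11 a12 a13 a20 a21 a22 a23 a30 a31 a32 a33).submatrix S0301.e4 S0301.e4 =
      !![a00, a01, a02, a03; a10, a11, a12, a13; a20, a21, a22, a23; a30, a31, a32, a33] := by
  ext i j
  fin_cases i <;> fin_cases j <;> rfl

/-- The root group. -/
noncomputable def rootGrp (F : Type*) [Field F] : Subgroup (GL I5 F) :=
  ((phi (F := F)).comp B2Sp.spHom).range

/-- The formula of the image of a root element. -/
def act5 : ℕ → F → F → F → F → F → F → I5 → F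
  | 0, t, z, x0, x1, y0, y1 => mk5 z x0 x1 (y0 + t * x1) (y1 - t * x0)
  | 1, t, z, x0, x1, y0, y1 => mk5 (z + t * x0) x0 x1 (y0 - 2 * t * z - t ^ 2 * x0) y1
  | 2, t, z, x0, x1, y0, y1 => mk5 (z - t * x1) x0 x1 y0 (y1 + 2 * t * z - t ^ 2 * x1)
  | 3, t, z, x0, x1, y0, y1 => mk5 z x0 (x1 - t * x0) (y0 + t * y1) y1
  | 4, t, z, x0, x1, y0, y1 => mk5 z (x0 - t * x1) x1 y0 (y1 + t * y0)
  | 5, t, z, x0, x1, y0, y1 => mk5 (z + t * y1) x0 (x1 - 2 * t * z - t ^ 2 * y1) y0 y1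
  | 6, t, z, x0, x1, y0, y1 => mk5 (z - t * y0) (x0 + 2 * t * z - t ^ 2 * y0) x1 y0 y1
  | 7, t, z, x0, x1, y0, y1 => mk5 z (x0 - t * y1) (x1 + t * y0) y0 y1
  | _, _, z, x0, x1, y0, y1 => mk5 z x0 x1 y0 y1

/-- The image of a root element. -/
noncomputable def el (r : ℕ) (t : F) : GL I5 F := phi (B2Sp.spHom (chevB2.stGen F r t))

theorem el_mem (r : ℕ) (t : F) : el r t ∈ rootGrp F := ⟨chevB2.stGen F r t, rfl⟩

theorem co5_mk5 (N : Matrix (Fin 4) (Fin 4) F) : S0301.co5 N = mk5 (N 0 2) (N 0 1) (N 0 3) (N 2 3) (N 1 2) := rfl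

theorem el_apply {r : ℕ} (hr : r < 8) (t z x0 x1 y0 y1 : F) :
    (el r t).1 *ᵥ mk5 z x0 x1 y0 y1 = act5 r t z x0 x1 y0 y1 := by
  rw [el, phi_apply, B2Sp.spHom_gen hr, co5_mk5]
  interval_cases r <;>
    (simp only [B2Sp.spX, sp4_submatrix]
     rw [S0302.entry, S0302.entry, S0302.entry, S0302.entry, S0302.entry]
     simp only [S0301.emb, act5, mk5, LinearMap.coe_mk, AddHom.coe_mk]
     congr 1 <;> (first | skip) <;> simp <;> ring)

theorem rootGrp_eq_closure : rootGrp F =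
    Subgroup.closure {g | ∃ (r : ℕ) (t : F), r < 8 ∧ g = el r t} := by
  refine le_antisymm ?_ ((Subgroup.closure_le _).2 fun g ⟨r, t, _, e⟩ => e ▸ el_mem r t)
  rw [rootGrp, MonoidHom.range_eq_map, ← PresentedGroup.closure_range_of, MonoidHom.map_closure, Subgroup.closure_le]
  rintro _ ⟨_, ⟨⟨r, t⟩, rfl⟩, rfl⟩
  refine Subgroup.subset_closure ⟨r, t, r.2, ?_⟩
  rw [el, ChevalleyDatum.stGen, ChevalleyDatum.stX, dif_pos r.2]
  rfl

theorem mem_isom {g : GL I5 F} : g ∈ O₅ ↔ ∀ v : I5 → F, Q₅ (g.1 *ᵥ v) = Q₅ v :=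
  ⟨fun h v => h v v, fun h u _ => h u⟩

theorem rootGrp_le : rootGrp F ≤ O₅ := by
  rw [rootGrp_eq_closure, Subgroup.closure_le]
  rintro _ ⟨r, t, hr, rfl⟩
  refine mem_isom.2 fun v => ?_
  rw [mk5_eta v, el_apply hr]
  interval_cases r <;> simp only [act5, quad_mk5] <;> ring

/-! ### Decomposition -/

/-- Reachable by the root group. -/
def Moves (v w : I5 → F) : Prop := ∃ s ∈ rootGrp F, s.1 *ᵥ v = w

theorem Moves.trans {u v w : I5 → F} (h : Moves u v) (h' : Moves v w) : Moves u w := by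
  obtain ⟨s, hs, e⟩ := h
  obtain ⟨s', hs', e'⟩ := h'
  exact ⟨s' * s, mul_mem hs' hs, by rw [Units.val_mul, ← Matrix.mulVec_mulVec, e, e']⟩

theorem moves_el {r : ℕ} (hr : r < 8) (t z x0 x1 y0 y1 : F) : Moves (mk5 z x0 x1 y0 y1) (act5 r t z x0 x1 y0 y1) :=
  ⟨el r t, el_mem r t, el_apply hr t z x0 x1 y0 y1⟩

theorem moves_first {v : I5 → F} (h0 : v ≠ 0) (hq : Q₅ v = 0) : Moves v (mk5 0 1 0 0 0) := by
  obtain ⟨z, x0, x1, y0, y1, rfl⟩ : ∃ z x0 x1 y0 y1, v = mk5 z x0 x1 y0 y1 := ⟨_, _, _, _, _, mk5_eta v⟩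
  rw [quad_mk5] at hq
  have key : ∀ z x0 x1 y0 y1 : F, x0 ≠ 0 → z ^ 2 + (x0 * y0 + x1 * y1) = 0 →
      Moves (mk5 z x0 x1 y0 y1) (mk5 0 1 0 0 0) := by
    intro z x0 x1 y0 y1 hx hq
    have m1 := moves_el (r := 3) (by norm_num) (x1 / x0) z x0 x1 y0 y1
    simp only [act5, div_mul_cancel₀ _ hx, sub_self] at m1
    refine m1.trans ?_
    have m2 := moves_el (r := 0) (by norm_num) (y1 / x0) z x0 0 (y0 + x1 / x0 * y1) y1
    simp only [act5, div_mul_cancel₀ _ hx, sub_self, mul_zero, add_zero] at m2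
    refine m2.trans ?_
    have m3 := moves_el (r := 1) (by norm_num) (-z / x0) z x0 0 (y0 + x1 / x0 * y1) 0
    simp only [act5, div_mul_cancel₀ _ hx, add_neg_cancel] at m3
    have hy : y0 + x1 / x0 * y1 - 2 * (-z / x0) * z - (-z / x0) ^ 2 * x0 = 0 := by
      field_simp
      linear_combination hq
    rw [hy] at m3
    refine m3.trans ?_
    have m4 := moves_el (r := 3) (by norm_num) (-1) 0 x0 0 0 0
    simp only [act5, neg_mul, one_mul, sub_neg_eq_add, zero_add, mul_zero, add_zero] at m4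
    refine m4.trans ?_
    have m5 := moves_el (r := 4) (by norm_num) ((x0 - 1) / x0) 0 x0 x0 0 0
    simp only [act5, div_mul_cancel₀ _ hx, sub_sub_cancel, mul_zero, add_zero] at m5
    refine m5.trans ?_
    have m6 := moves_el (r := 3) (by norm_num) x0 0 1 x0 0 0
    simpa only [act5, mul_one, sub_self, mul_zero, add_zero] using m6
  by_cases hx : x0 = 0
  · subst hx
    by_cases hx1 : x1 = 0
    · subst hx1
      have hz : z = 0 := by
        simp only [zero_mul, mul_zero, add_zero] at hq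
        exact pow_eq_zero_iff (n := 2) two_ne_zero |>.1 hq
      subst hz
      by_cases hy1 : y1 = 0
      · subst hy1
        have hy0 : y0 ≠ 0 := fun e => h0 (by
          rw [e]; funext j; rcases j with j | j | j
          · rfl
          all_goals fin_cases j <;> rfl)
        refine (moves_el (r := 6) (by norm_num) 1 0 0 0 y0 0).trans ?_
        refine key _ _ _ _ _ (by simpa using hy0) ?_
        ring
      · refine (moves_el (r := 7) (by norm_num) 1 0 0 0 y0 y1).trans ?_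
        refine key _ _ _ _ _ (by simpa using hy1) ?_
        ring
    · refine (moves_el (r := 4) (by norm_num) 1 z 0 x1 y0 y1).trans ?_
      refine key _ _ _ _ _ (by simpa using hx1) ?_
      linear_combination hq
  · exact key z x0 x1 y0 y1 hx hq

theorem fix_e0 {t : F} {r : ℕ} (hr : r = 4 ∨ r = 6 ∨ r = 7 ∨ r = 5 ∨ r = 2) :
    (el r t).1 *ᵥ mk5 0 1 0 0 0 = mk5 0 1 0 0 0 := by
  rcases hr with rfl | rfl | rfl | rfl | rfl <;> rw [el_apply (by norm_num)] <;> simp [act5]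

theorem fix_f0 {t : F} {r : ℕ} (hr : r = 5 ∨ r = 2) : (el r t).1 *ᵥ mk5 0 0 0 1 0 = mk5 0 0 0 1 0 := by
  rcases hr with rfl | rfl <;> rw [el_apply (by norm_num)] <;> simp [act5]

theorem second {z x0 x1 y1 : F} (hq : z ^ 2 + (x0 * 1 + x1 * y1) = 0) :
    ∃ s ∈ rootGrp F, s.1 *ᵥ mk5 0 1 0 0 0 = mk5 0 1 0 0 0 ∧ s.1 *ᵥ mk5 z x0 x1 1 y1 = mk5 0 0 0 1 0 := by
  refine ⟨el 6 z * el 7 (-x1) * el 4 (-y1), mul_mem (mul_mem (el_mem _ _) (el_mem _ _)) (el_mem _ _), ?_, ?_⟩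
  · simp only [Units.val_mul, ← Matrix.mulVec_mulVec]
    rw [fix_e0 (by simp), fix_e0 (by simp), fix_e0 (by simp)]
  · simp only [Units.val_mul, ← Matrix.mulVec_mulVec]
    simp only [el_apply (by norm_num : 4 < 8), act5]
    simp only [el_apply (by norm_num : 7 < 8), act5]
    simp only [el_apply (by norm_num : 6 < 8), act5]
    simp only [mul_one, add_neg_cancel, mul_zero, sub_zero, sub_self]
    congr 1
    linear_combination hq

/-- The polar form. -/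
def polar5 (u v : I5 → F) : F := 2 * (u (.inl ()) * v (.inl ())) +
  ∑ i : Fin 2, (u (.inr (.inl i)) * v (.inr (.inr i)) + u (.inr (.inr i)) * v (.inr (.inl i)))

theorem polar5_eq (u v : I5 → F) : polar5 u v = Q₅ (u + v) - Q₅ u - Q₅ v := by
  simp only [polar5, Cfsg.quadFormOdd, Fin.sum_univ_two, Pi.add_apply]
  ring

theorem polar5_map {g : GL I5 F} (hg : g ∈ O₅) (u v : I5 → F) : polar5 (g.1 *ᵥ u) (g.1 *ᵥ v) = polar5 u v := by
  rw [polar5_eq, polar5_eq, ← Matrix.mulVec_add, mem_isom.1 hg, mem_isom.1 hg, mem_isom.1 hg]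

theorem polar_mk5 (z x0 x1 y0 y1 z' x0' x1' y0' y1' : F) : polar5 (mk5 z x0 x1 y0 y1) (mk5 z' x0' x1' y0' y1') =
    2 * (z * z') + (x0 * y0' + y0 * x0' + (x1 * y1' + y1 * x1')) := by
  simp [polar5, mk5, Fin.sum_univ_two]

theorem mulVec_ne (g : GL I5 F) {v : I5 → F} (hv : v ≠ 0) : g.1 *ᵥ v ≠ 0 := fun h => hv (by
  have := congrArg ((g⁻¹ : GL I5 F).1 *ᵥ ·) h
  simpa [Matrix.mulVec_mulVec, ← Units.val_mul] using this)

theorem mk5_ne {z x0 x1 y0 y1 : F} (h : x0 ≠ 0 ∨ x1 ≠ 0 ∨ y1 ≠ 0) : mk5 z x0 x1 y0 y1 ≠ 0 := fun e => by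
  rcases h with h | h | h
  · exact h (congrFun e (.inr (.inl 0)))
  · exact h (congrFun e (.inr (.inl 1)))
  · exact h (congrFun e (.inr (.inr 1)))

/-- The diagonal elements outside. -/
def ddF (a b : Fˣ) : I5 → F := mk5 (b : F) 1 a 1 ((a⁻¹ : Fˣ) : F)

theorem ddF_mul (a b a' b' : Fˣ) : (fun i => ddF a b i * ddF a' b' i) = ddF (a * a') (b * b') := by
  funext j
  rcases j with j | j | j
  · simp [ddF, mk5]
  all_goals fin_cases j <;> simp [ddF, mk5, mul_comm]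

theorem ddF_one : ddF (1 : Fˣ) 1 = 1 := by
  funext j
  rcases j with j | j | j
  · simp [ddF, mk5]
  all_goals fin_cases j <;> simp [ddF, mk5]

/-- The diagonal elements. -/
def dd (a b : Fˣ) : GL I5 F where
  val := Matrix.diagonal (ddF a b)
  inv := Matrix.diagonal (ddF a⁻¹ b⁻¹)
  val_inv := by rw [Matrix.diagonal_mul_diagonal', ddF_mul, mul_inv_cancel, mul_inv_cancel, ddF_one, Matrix.diagonal_one']
  inv_val := by rw [Matrix.diagonal_mul_diagonal', ddF_mul, inv_mul_cancel, inv_mul_cancel, ddF_one, Matrix.diagonal_one']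

theorem dd_mk5 (a b : Fˣ) (z x0 x1 y0 y1 : F) :
    (dd a b).1 *ᵥ mk5 z x0 x1 y0 y1 = mk5 ((b : F) * z) x0 ((a : F) * x1) y0 (((a⁻¹ : Fˣ) : F) * y1) := by
  funext j
  show (Matrix.diagonal (ddF a b) *ᵥ _) j = _
  rw [Matrix.mulVec_diagonal]
  rcases j with j | j | j
  · simp [ddF, mk5]
  all_goals fin_cases j <;> simp [ddF, mk5]

theorem eq_of_basis {g h : GL I5 F} (e1 : g.1 *ᵥ mk5 0 1 0 0 0 = h.1 *ᵥ mk5 0 1 0 0 0)
    (e2 : g.1 *ᵥ mk5 0 0 1 0 0 = h.1 *ᵥ mk5 0 0 1 0 0) (e3 : g.1 *ᵥ mk5 0 0 0 1 0 = h.1 *ᵥ mk5 0 0 0 1 0)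
    (e4 : g.1 *ᵥ mk5 0 0 0 0 1 = h.1 *ᵥ mk5 0 0 0 0 1) (e5 : g.1 *ᵥ mk5 1 0 0 0 0 = h.1 *ᵥ mk5 1 0 0 0 0) : g = h := by
  refine Units.ext (Matrix.ext fun i j => ?_)
  have key : ∀ (c : I5 → F), c = Pi.single j 1 → g.1 *ᵥ c = h.1 *ᵥ c → g.1 i j = h.1 i j := fun c hc e => by
    subst hc
    have := congrFun e i
    simpa using this
  rcases j with j | j | j
  · exact key _ (by funext k; rcases k with k | k | k <;> [skip; fin_cases k; fin_cases k] <;> simp [mk5]) e5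
  · fin_cases j
    · exact key _ (by funext k; rcases k with k | k | k <;> [skip; fin_cases k; fin_cases k] <;> simp [mk5]) e1
    · exact key _ (by funext k; rcases k with k | k | k <;> [skip; fin_cases k; fin_cases k] <;> simp [mk5]) e2
  · fin_cases j
    · exact key _ (by funext k; rcases k with k | k | k <;> [skip; fin_cases k; fin_cases k] <;> simp [mk5]) e3
    · exact key _ (by funext k; rcases k with k | k | k <;> [skip; fin_cases k; fin_cases k] <;> simp [mk5]) e4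

theorem decomp {g : GL I5 F} (hg : g ∈ O₅) : ∃ s ∈ rootGrp F, ∃ a b : Fˣ, (b : F) ^ 2 = 1 ∧ g = s * dd a b := by
  obtain ⟨s1, hs1, e1⟩ := moves_first (mulVec_ne g (mk5_ne (z := 0) (x0 := 1) (x1 := 0) (y0 := 0) (y1 := 0) (Or.inl one_ne_zero)))
    (by rw [mem_isom.1 hg, quad_mk5]; ring)
  set g1 := s1 * g with hg1
  have hm1 : g1 ∈ O₅ := mul_mem (rootGrp_le hs1) hg
  have he0 : g1.1 *ᵥ mk5 0 1 0 0 0 = mk5 0 1 0 0 0 := by rw [hg1, Units.val_mul, ← Matrix.mulVec_mulVec, e1]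
  obtain ⟨z, x0, x1, y0, y1, hw⟩ : ∃ z x0 x1 y0 y1, g1.1 *ᵥ mk5 0 0 0 1 0 = mk5 z x0 x1 y0 y1 :=
    ⟨_, _, _, _, _, mk5_eta _⟩
  have hy0 : y0 = 1 := by
    have h := polar5_map hm1 (mk5 0 1 0 0 0) (mk5 0 0 0 1 0)
    rw [he0, hw, polar_mk5, polar_mk5] at h
    simpa using h
  subst hy0
  obtain ⟨s2, hs2, e2a, e2b⟩ := second (z := z) (x0 := x0) (x1 := x1) (y1 := y1) (by
    have h := mem_isom.1 hm1 (mk5 0 0 0 1 0)
    rw [hw, quad_mk5, quad_mk5] at h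
    simpa using h)
  set g2 := s2 * g1 with hg2
  have hm2 : g2 ∈ O₅ := mul_mem (rootGrp_le hs2) hm1
  have he0' : g2.1 *ᵥ mk5 0 1 0 0 0 = mk5 0 1 0 0 0 := by
    rw [hg2, Units.val_mul, ← Matrix.mulVec_mulVec, he0, e2a]
  have hf0' : g2.1 *ᵥ mk5 0 0 0 1 0 = mk5 0 0 0 1 0 := by
    rw [hg2, Units.val_mul, ← Matrix.mulVec_mulVec, hw, e2b]
  have above : ∀ {z x1 y1 : F}, ∃ z' x1' y1', g2.1 *ᵥ mk5 z 0 x1 0 y1 = mk5 z' 0 x1' 0 y1' := fun {z x1 y1} => by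
    obtain ⟨z', x0', x1', y0', y1', hv⟩ : ∃ z' x0' x1' y0' y1', g2.1 *ᵥ mk5 z 0 x1 0 y1 = mk5 z' x0' x1' y0' y1' :=
      ⟨_, _, _, _, _, mk5_eta _⟩
    have h1 := polar5_map hm2 (mk5 0 1 0 0 0) (mk5 z 0 x1 0 y1)
    have h2 := polar5_map hm2 (mk5 0 0 0 1 0) (mk5 z 0 x1 0 y1)
    rw [he0', hv, polar_mk5, polar_mk5] at h1
    rw [hf0', hv, polar_mk5, polar_mk5] at h2
    simp only [zero_mul, mul_zero, one_mul, zero_add, add_zero] at h1 h2
    subst h1 h2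
    exact ⟨_, _, _, hv⟩
  obtain ⟨zu, xu, yu, hu⟩ := above (z := 0) (x1 := 1) (y1 := 0)
  have hqu : zu ^ 2 + xu * yu = 0 := by
    have h := mem_isom.1 hm2 (mk5 0 0 1 0 0)
    rw [hu, quad_mk5, quad_mk5] at h
    simpa using h
  obtain ⟨s3, hs3, a, ha, hf3a, hf3b, hu3⟩ : ∃ s ∈ rootGrp F, ∃ a : F, a ≠ 0 ∧
      s.1 *ᵥ mk5 0 1 0 0 0 = mk5 0 1 0 0 0 ∧ s.1 *ᵥ mk5 0 0 0 1 0 = mk5 0 0 0 1 0 ∧
      s.1 *ᵥ mk5 zu 0 xu 0 yu = mk5 0 0 a 0 0 := by
    have key : ∀ z x y : F, x ≠ 0 → z ^ 2 + x * y = 0 → (el 2 (z / x)).1 *ᵥ mk5 z 0 x 0 y = mk5 0 0 x 0 0 := by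
      intro z x y hx hq
      rw [el_apply (by norm_num)]
      simp only [act5, div_mul_cancel₀ _ hx, sub_self]
      congr 1
      field_simp
      linear_combination hq
    by_cases hx : xu = 0
    · subst hx
      have hz : zu = 0 := by simpa using hqu
      subst hz
      have hy : yu ≠ 0 := fun e => mulVec_ne g2 (mk5_ne (z := 0) (x0 := 0) (x1 := 1) (y0 := 0) (y1 := 0)
        (Or.inr (Or.inl one_ne_zero))) (by
        rw [hu, e]; funext j; rcases j with j | j | j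
        · rfl
        all_goals fin_cases j <;> rfl)
      refine ⟨el 2 (yu / -yu) * el 5 1, mul_mem (el_mem _ _) (el_mem _ _), -yu, neg_ne_zero.2 hy, ?_, ?_, ?_⟩
      · simp only [Units.val_mul, ← Matrix.mulVec_mulVec]; rw [fix_e0 (by simp), fix_e0 (by simp)]
      · simp only [Units.val_mul, ← Matrix.mulVec_mulVec]; rw [fix_f0 (by simp), fix_f0 (by simp)]
      · simp only [Units.val_mul, ← Matrix.mulVec_mulVec]
        rw [el_apply (by norm_num : 5 < 8), show act5 5 (1 : F) 0 0 0 0 yu = mk5 yu 0 (-yu) 0 yu by simp [act5]]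
        exact key _ _ _ (neg_ne_zero.2 hy) (by ring)
    · exact ⟨el 2 (zu / xu), el_mem _ _, xu, hx, fix_e0 (by simp), fix_f0 (by simp), key _ _ _ hx hqu⟩
  set g3 := s3 * g2 with hg3
  have hm3 : g3 ∈ O₅ := mul_mem (rootGrp_le hs3) hm2
  obtain ⟨z4, x04, x14, y04, y14, hw4⟩ : ∃ z' x0' x1' y0' y1', g3.1 *ᵥ mk5 0 0 0 0 1 = mk5 z' x0' x1' y0' y1' :=
    ⟨_, _, _, _, _, mk5_eta _⟩
  have g3e0 : g3.1 *ᵥ mk5 0 1 0 0 0 = mk5 0 1 0 0 0 := by rw [hg3, Units.val_mul, ← Matrix.mulVec_mulVec, he0', hf3a]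
  have g3f0 : g3.1 *ᵥ mk5 0 0 0 1 0 = mk5 0 0 0 1 0 := by rw [hg3, Units.val_mul, ← Matrix.mulVec_mulVec, hf0', hf3b]
  have g3e1 : g3.1 *ᵥ mk5 0 0 1 0 0 = mk5 0 0 a 0 0 := by rw [hg3, Units.val_mul, ← Matrix.mulVec_mulVec, hu, hu3]
  have h41 := polar5_map hm3 (mk5 0 1 0 0 0) (mk5 0 0 0 0 1)
  rw [g3e0, hw4, polar_mk5, polar_mk5] at h41
  have h42 := polar5_map hm3 (mk5 0 0 0 1 0) (mk5 0 0 0 0 1)
  rw [g3f0, hw4, polar_mk5, polar_mk5] at h42
  simp only [zero_mul, mul_zero, one_mul, zero_add, add_zero] at h41 h42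
  subst h41 h42
  have h43 := polar5_map hm3 (mk5 0 0 1 0 0) (mk5 0 0 0 0 1)
  rw [g3e1, hw4, polar_mk5, polar_mk5] at h43
  simp only [zero_mul, mul_zero, one_mul, mul_one, zero_add, add_zero] at h43
  have hy14 : y14 = a⁻¹ := eq_inv_of_mul_eq_one_right h43
  subst hy14
  have hq4 : z4 ^ 2 + x14 * a⁻¹ = 0 := by
    have h := mem_isom.1 hm3 (mk5 0 0 0 0 1)
    rw [hw4, quad_mk5, quad_mk5] at h
    simpa using h
  set s4 := el 5 (-z4 * a) with hs4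
  have hm4 : s4 * g3 ∈ O₅ := mul_mem (rootGrp_le (el_mem _ _)) hm3
  have g4e0 : (s4 * g3).1 *ᵥ mk5 0 1 0 0 0 = mk5 0 1 0 0 0 := by
    rw [Units.val_mul, ← Matrix.mulVec_mulVec, g3e0, fix_e0 (by simp)]
  have g4f0 : (s4 * g3).1 *ᵥ mk5 0 0 0 1 0 = mk5 0 0 0 1 0 := by
    rw [Units.val_mul, ← Matrix.mulVec_mulVec, g3f0, fix_f0 (by simp)]
  have g4e1 : (s4 * g3).1 *ᵥ mk5 0 0 1 0 0 = mk5 0 0 a 0 0 := by
    rw [Units.val_mul, ← Matrix.mulVec_mulVec, g3e1, el_apply (by norm_num)]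
    simp [act5]
  have g4f1 : (s4 * g3).1 *ᵥ mk5 0 0 0 0 1 = mk5 0 0 0 0 a⁻¹ := by
    rw [Units.val_mul, ← Matrix.mulVec_mulVec, hw4, el_apply (by norm_num)]
    simp only [act5]
    congr 1
    · field_simp; ring
    · have : x14 = -(z4 ^ 2 * a) := by field_simp at hq4 ⊢; linear_combination hq4
      rw [this]; field_simp; ring
  obtain ⟨b, x05, x15, y05, y15, hv5⟩ : ∃ z' x0' x1' y0' y1',
      (s4 * g3).1 *ᵥ mk5 1 0 0 0 0 = mk5 z' x0' x1' y0' y1' := ⟨_, _, _, _, _, mk5_eta _⟩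
  have h51 := polar5_map hm4 (mk5 0 1 0 0 0) (mk5 1 0 0 0 0)
  rw [g4e0, hv5, polar_mk5, polar_mk5] at h51
  have h52 := polar5_map hm4 (mk5 0 0 0 1 0) (mk5 1 0 0 0 0)
  rw [g4f0, hv5, polar_mk5, polar_mk5] at h52
  have h53 := polar5_map hm4 (mk5 0 0 1 0 0) (mk5 1 0 0 0 0)
  rw [g4e1, hv5, polar_mk5, polar_mk5] at h53
  have h54 := polar5_map hm4 (mk5 0 0 0 0 1) (mk5 1 0 0 0 0)
  rw [g4f1, hv5, polar_mk5, polar_mk5] at h54
  simp only [zero_mul, mul_zero, one_mul, zero_add, add_zero, mul_eq_zero, ha, inv_eq_zero, false_or] at h51 h52 h53 h54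
  subst h51 h52 h53 h54
  have hb2 : b ^ 2 = 1 := by
    have h := mem_isom.1 hm4 (mk5 1 0 0 0 0)
    rw [hv5, quad_mk5, quad_mk5] at h
    simpa using h
  have hb0 : b ≠ 0 := fun e => by rw [e] at hb2; simp at hb2
  have hd : s4 * g3 = dd (Units.mk0 a ha) (Units.mk0 b hb0) := by
    refine eq_of_basis ?_ ?_ ?_ ?_ ?_
    · rw [g4e0, dd_mk5]; simp
    · rw [g4e1, dd_mk5]; simp
    · rw [g4f0, dd_mk5]; simp
    · rw [g4f1, dd_mk5]; simp
    · rw [hv5, dd_mk5]; simp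
  refine ⟨(s4 * s3 * s2 * s1)⁻¹, inv_mem (mul_mem (mul_mem (mul_mem (el_mem _ _) hs3) hs2) hs1),
    Units.mk0 a ha, Units.mk0 b hb0, hb2, eq_inv_mul_iff_mul_eq.2 ?_⟩
  rw [← hd, hg3, hg2, hg1]
  simp only [mul_assoc]

end Cfsg.Lib.Chev.B2Orth
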