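import Cfsg.Agent.Lib.Chev.PerfectAll
import Cfsg.Agent.Lib.Chev.Solvable
import Cfsg.Agent.S0319

/-! Simplicity of the Chevalley groups. -/

set_option autoImplicit false

namespace Cfsg.Lib.Chev

open Cfsg.Lie in
theorem simple_of_perfect {F : Type*} [Field F] {D : ChevalleyDatum} {T : Tbl} (K : FullCert D T)
    {dist : List ℕ} (hl : chkLinked T dist = true) (hr : 0 < D.rank) (hperf : commutator ↥(D.group F) = ⊤) :
    IsSimpleGroup ↥(D.group F) ∧ ¬ IsMulCommutative ↥(D.group F) := by
  have C := K.comm.cert
  have hnc := group_not_isMulCommutative C K hr hperf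
  have : Nontrivial ↥(D.group F) := by
    by_contra h
    rw [not_nontrivial_iff_subsingleton] at h
    exact hnc ⟨⟨fun a b => Subsingleton.elim _ _⟩⟩
  refine ⟨Cfsg.Agent.S0319.result (bnPair C K F) (bnPair_irreducible C K hl) ?_ hperf
    (borel_core_eq_bot C K), hnc⟩
  have := borel_isSolvable C (F := F) K.comm
  show Group.IsSolvable ↥((D.borelSubgroup F).subgroupOf (D.group F))
  have e := (Subgroup.subgroupOfEquivOfLe (borel_le_group C (F := F))).symm
  exact Group.isSolvable_of_surjective (f := e.toMonoidHom) e.surjective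

end Cfsg.Lib.Chev
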