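import Cfsg.Agent.Lib.Chev.B2Orth
import Cfsg.Agent.S1056

/-!
The Chevalley group of type B2 is the projective commutator subgroup of the five dimensional orthogonal group,
over every field with more than two elements.
-/

set_option autoImplicit false
set_option linter.unusedSectionVars false

namespace Cfsg.Lib.Chev.B2Orth

open Cfsg.Lie Matrix Cfsg.Agent
open scoped commutatorElement

variable {F : Type*} [Field F]

local notation "Q₅" => Cfsg.quadFormOdd 2 F
local notation "O₅" => Cfsg.isometryGroup F Q₅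
local notation "Sp" => Matrix.symplecticGroup (Fin 2) F
local notation "St" => chevB2.SteinbergGroup F

theorem dd_norm (a b : Fˣ) (hb : (b : F) ^ 2 = 1) {r : ℕ} (hr : r < 8) (t : F) :
    dd a b * el r t * (dd a b)⁻¹ ∈ rootGrp F := by
  have ha := a.ne_zero
  have hb2 : (b : F) * b = 1 := by rw [← sq]; exact hb
  obtain ⟨t', h⟩ : ∃ t' : F, ∀ v : I5 → F, (dd a b).1 *ᵥ ((el r t).1 *ᵥ v) = (el r t').1 *ᵥ ((dd a b).1 *ᵥ v) := by
    refine ⟨t * ![((a⁻¹ : Fˣ) : F), (b : F), ((a⁻¹ : Fˣ) : F) * b, (a : F), ((a⁻¹ : Fˣ) : F), (a : F) * b, (b : F),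
      (a : F)] ⟨r, hr⟩, fun v => ?_⟩
    rw [mk5_eta v, el_apply hr, dd_mk5, el_apply hr]
    interval_cases r <;> simp only [act5, dd_mk5, Units.val_inv_eq_inv_val] <;>
      simp <;> congr 1 <;> field_simp <;> grind
  refine (?_ : dd a b * el r t * (dd a b)⁻¹ = el r t') ▸ el_mem r t'
  rw [mul_inv_eq_iff_eq_mul]
  refine eq_of_basis ?_ ?_ ?_ ?_ ?_ <;> simp only [Units.val_mul, ← Matrix.mulVec_mulVec, h]

theorem conj_mem (a b : Fˣ) (hb : (b : F) ^ 2 = 1) {s : GL I5 F} (hs : s ∈ rootGrp F) :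
    dd a b * s * (dd a b)⁻¹ ∈ rootGrp F := by
  have hle : Subgroup.closure {g | ∃ (r : ℕ) (t : F), r < 8 ∧ g = el r t} ≤
      (rootGrp F).comap (MulAut.conj (dd a b)).toMonoidHom := by
    rw [Subgroup.closure_le]
    rintro _ ⟨r, t, hr, rfl⟩
    exact dd_norm a b hb hr t
  rw [rootGrp_eq_closure] at hs
  exact hle hs

theorem dd_mul (a b a' b' : Fˣ) : dd a b * dd a' b' = dd (a * a') (b * b') := Units.ext (by
  show Matrix.diagonal (ddF a b) * Matrix.diagonal (ddF a' b') = Matrix.diagonal (ddF (a * a') (b * b'))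
  rw [Matrix.diagonal_mul_diagonal', ddF_mul])

theorem normal_mem {g : GL I5 F} (hg : g ∈ O₅) {s : GL I5 F} (hs : s ∈ rootGrp F) : g * s * g⁻¹ ∈ rootGrp F := by
  obtain ⟨s₀, hs₀, a, b, hb, rfl⟩ := decomp hg
  have := mul_mem (mul_mem hs₀ (conj_mem a b hb hs)) (inv_mem hs₀)
  simpa [mul_assoc] using this

theorem comm_le : ∀ g ∈ (O₅), ∀ h ∈ (O₅), ⁅g, h⁆ ∈ rootGrp F := by
  intro g hg h hh
  let N := (rootGrp F).subgroupOf O₅
  haveI : N.Normal := ⟨fun n hn k => normal_mem k.2 hn⟩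
  let π := QuotientGroup.mk' N
  have key : ∀ x : ↥(O₅), ∃ (a b : Fˣ) (hd : dd a b ∈ O₅), π x = π ⟨dd a b, hd⟩ := fun x => by
    obtain ⟨s, hs, a, b, -, e⟩ := decomp x.2
    have hd : dd a b ∈ O₅ := by
      rw [show dd a b = s⁻¹ * x from eq_inv_mul_iff_mul_eq.2 e.symm]
      exact mul_mem (inv_mem (rootGrp_le hs)) x.2
    refine ⟨a, b, hd, ?_⟩
    have hsN : (⟨s, rootGrp_le hs⟩ : ↥(O₅)) ∈ N := hs
    rw [show x = ⟨s, rootGrp_le hs⟩ * ⟨dd a b, hd⟩ from Subtype.ext e, map_mul,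
      show π ⟨s, rootGrp_le hs⟩ = 1 from (QuotientGroup.eq_one_iff _).2 hsN, one_mul]
  obtain ⟨a, b, hd, e⟩ := key ⟨g, hg⟩
  obtain ⟨a', b', hd', e'⟩ := key ⟨h, hh⟩
  have hc : Commute (π ⟨g, hg⟩) (π ⟨h, hh⟩) := by
    rw [e, e', commute_iff_eq, ← map_mul, ← map_mul]
    congr 1
    exact Subtype.ext (by show dd a b * dd a' b' = dd a' b' * dd a b; rw [dd_mul, dd_mul, mul_comm a, mul_comm b])
  have : π ⁅(⟨g, hg⟩ : ↥(O₅)), ⟨h, hh⟩⁆ = 1 := by
    rw [map_commutatorElement, commutatorElement_eq_one_iff_commute]; exact hc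
  exact (QuotientGroup.eq_one_iff (N := N) _).1 this

theorem sp_perfect (hF : ∃ a : F, a ≠ 0 ∧ a ≠ 1) : commutator Sp = ⊤ := by
  obtain ⟨a, ha0, ha1⟩ := hF
  have h : (2 : F) ≠ 0 ∨ ∃ a : F, a ≠ 0 ∧ a ^ 2 ≠ 1 := by
    by_cases h2 : (2 : F) = 0
    · refine Or.inr ⟨a, ha0, fun e => ha1 ?_⟩
      have : (a - 1) ^ 2 = 0 := by linear_combination e + (1 - a) * h2
      exact sub_eq_zero.1 (pow_eq_zero_iff (n := 2) two_ne_zero |>.1 this)
    · exact Or.inl h2
  have hperf := Cfsg.Lib.Linear.Symp.commutator_eq_top (Cfsg.Lib.Linear.Symp.spB_nondegenerate 2 F)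
    (Cfsg.Lib.Linear.Symp.spB_isAlt 2 F) (Or.inr (Or.inl ⟨by rw [Cfsg.Lib.Linear.Symp.finrank_space], h⟩))
  let e := Cfsg.Lib.Linear.Symp.spEquiv (m := 2) (F := F)
  refine Subgroup.map_injective (f := e.toMonoidHom) e.injective ?_
  rw [commutator_def, Subgroup.map_commutator, Subgroup.map_top_of_surjective e.toMonoidHom e.surjective,
    ← commutator_def, hperf]

theorem map_center_le' {G H : Type*} [Group G] [Group H] (f : G →* H) (hf : Function.Surjective f) {g : G}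
    (hg : g ∈ Subgroup.center G) : f g ∈ Subgroup.center H :=
  Subgroup.mem_center_iff.2 fun h => by
    obtain ⟨a, rfl⟩ := hf h
    rw [← map_mul, ← map_mul, Subgroup.mem_center_iff.1 hg a]

theorem nonempty_equiv (hF : ∃ a : F, a ≠ 0 ∧ a ≠ 1) :
    Nonempty (↥(chevB2.group F) ≃* Cfsg.POmega F Q₅) := by
  let ρ : St →* ↥(O₅) := ((phi (F := F)).comp B2Sp.spHom).codRestrict _ fun g => rootGrp_le ⟨g, rfl⟩
  have homega : ∀ x : ↥(O₅), x ∈ Cfsg.Omega F Q₅ ↔ ∃ g, ρ g = x := fun x => by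
    constructor
    · intro hx
      have hle : commutator ↥(O₅) ≤ (rootGrp F).subgroupOf O₅ := by
        rw [commutator_def, Subgroup.commutator_le]
        intro g _ h _
        rw [Subgroup.mem_subgroupOf]
        have e : ((⁅g, h⁆ : ↥(O₅)) : GL I5 F) = ⁅(g : GL I5 F), (h : GL I5 F)⁆ :=
          map_commutatorElement (O₅).subtype g h
        rw [e]
        exact comm_le _ g.2 _ h.2
      obtain ⟨g, hg⟩ := hle hx
      exact ⟨g, Subtype.ext hg⟩
    · rintro ⟨g, rfl⟩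
      let τ : Sp →* ↥(O₅) := (phi (F := F)).codRestrict _ fun s => by
        obtain ⟨g, rfl⟩ := B2Sp.spHom_surjective s
        exact rootGrp_le ⟨g, rfl⟩
      have h1 : τ (B2Sp.spHom g) ∈ (commutator Sp).map τ :=
        Subgroup.mem_map_of_mem _ (by rw [sp_perfect hF]; exact Subgroup.mem_top _)
      rw [commutator_def, Subgroup.map_commutator] at h1
      exact Subgroup.commutator_mono le_top le_top h1
  let σ : St →* ↥(Cfsg.Omega F Q₅) := ρ.codRestrict _ fun g => (homega _).2 ⟨g, rfl⟩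
  have hσ : Function.Surjective σ := fun y => by
    obtain ⟨g, hg⟩ := (homega y).1 y.2
    exact ⟨g, Subtype.ext hg⟩
  let ψ := (QuotientGroup.mk' (Subgroup.center ↥(Cfsg.Omega F Q₅))).comp σ
  have hψ : Function.Surjective ψ := (QuotientGroup.mk'_surjective _).comp hσ
  let C := fullCertB2.comm.cert
  let π := (stHom C fullCertB2.comm (F := F))
  have hπ : ∀ r < chevB2.nroots, ∀ t, π (chevB2.stGen F r t) = xg C r t := fun r hr t =>
    stHom_gen C fullCertB2.comm hr t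
  let π' : St →* ↥(chevB2.group F) := π.codRestrict _ fun g => (stHom_range C fullCertB2 π hπ).le ⟨g, rfl⟩
  have hsurj : Function.Surjective π' := fun y => by
    obtain ⟨g, hg⟩ := (stHom_range C fullCertB2 π hπ).ge y.2
    exact ⟨g, Subtype.ext hg⟩
  have hker : π'.ker ≤ ψ.ker := fun g hg => by
    have hg' : π g = 1 := congrArg Subtype.val hg
    exact (QuotientGroup.eq_one_iff _).2
      (map_center_le' _ hσ (st_ker_le C fullCertB2 (by decide +kernel) π hπ hg').2)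
  let f := π'.liftOfSurjective hsurj ⟨ψ, hker⟩
  have hf : Function.Surjective f := fun y => by
    obtain ⟨g, rfl⟩ := hψ y
    exact ⟨π' g, MonoidHom.liftOfRightInverse_comp_apply _ _ _ _ g⟩
  haveI := (Cfsg.Agent.S1056.result hF).1
  rcases (IsSimpleGroup.eq_bot_or_eq_top_of_normal f.ker inferInstance) with hb | ht
  · exact ⟨MulEquiv.ofBijective f ⟨(MonoidHom.ker_eq_bot_iff f).1 hb, hf⟩⟩
  · exfalso
    have hall : ∀ g : St, σ g ∈ Subgroup.center _ := fun g => by
      have h1 : f (π' g) = 1 := MonoidHom.mem_ker.1 (by rw [ht]; exact Subgroup.mem_top _)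
      rw [MonoidHom.liftOfRightInverse_comp_apply] at h1
      exact (QuotientGroup.eq_one_iff _).1 h1
    -- two long root elements and a short one do not commute
    have h := congrArg (fun z : ↥(Cfsg.Omega F Q₅) => (((z : ↥(O₅)) : GL I5 F) : Matrix I5 I5 F) *ᵥ mk5 0 0 0 0 1)
      (Subgroup.mem_center_iff.1 (hall (chevB2.stGen F 5 1)) (σ (chevB2.stGen F 4 1)))
    change (el 4 (1 : F) * el 5 1).1 *ᵥ mk5 0 0 0 0 1 = (el 5 (1 : F) * el 4 1).1 *ᵥ mk5 0 0 0 0 1 at h
    simp only [Units.val_mul, ← Matrix.mulVec_mulVec, el_apply (by norm_num : 4 < 8), el_apply (by norm_num : 5 < 8),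
      act5] at h
    have h' := congrFun h (.inr (.inl 0))
    simp [mk5] at h'

end Cfsg.Lib.Chev.B2Orth
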