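import Cfsg.Agent.Lib.Chev.B2SpMat
import Cfsg.Agent.S1056
import Cfsg.Agent.S1060
import Cfsg.Agent.S0245
import Cfsg.Agent.S0246
import Cfsg.Agent.Lib.Chev.Presentation.Steinberg
import Cfsg.Agent.Lib.Linear.AutPSp.Basic
import Cfsg.Agent.Lib.Chev.FullB2

/-!
The Chevalley group of type B2 is the projective symplectic group in dimension four.
-/

set_option autoImplicit false
set_option linter.unusedSectionVars false
set_option maxRecDepth 10000

namespace Cfsg.Lib.Chev.B2Sp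

open Cfsg.Lie Matrix

variable {F : Type*} [Field F]

local notation "Sp" => Matrix.symplecticGroup (Fin 2) F

/-- The generators in the symplectic group. -/
def spGen (p : Fin chevB2.nroots × F) : Sp := ⟨spX p.1 p.2, spX_mem p.1.2 p.2⟩

theorem coe_lift_stX {r : ℕ} (hr : r < 8) (t : F) :
    ((FreeGroup.lift spGen (chevB2.stX r t) : Sp) : Matrix (Fin 2 ⊕ Fin 2) (Fin 2 ⊕ Fin 2) F) = spX r t := by
  rw [ChevalleyDatum.stX, dif_pos (show r < chevB2.nroots from hr), FreeGroup.lift_apply_of]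
  rfl

theorem coe_lift_stWord : ∀ w : List (ℕ × F), (∀ p ∈ w, p.1 < 8) →
    ((FreeGroup.lift spGen (chevB2.stWord w) : Sp) : Matrix (Fin 2 ⊕ Fin 2) (Fin 2 ⊕ Fin 2) F) =
      (w.map fun p => spX p.1 p.2).prod
  | [], _ => by simp [ChevalleyDatum.stWord]
  | p :: w, h => by
    have := coe_lift_stWord w fun q hq => h q (List.mem_cons_of_mem _ hq)
    rw [ChevalleyDatum.stWord] at this ⊢
    rw [List.map_cons, List.prod_cons, map_mul, Submonoid.coe_mul, coe_lift_stX (h p List.mem_cons_self), this,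
      List.map_cons, List.prod_cons]

theorem terms_lt : ∀ r : Fin 8, ∀ s : Fin 8, ∀ c ∈ chevB2.commTerms r s, c.1 < 8 := by decide +kernel

theorem spX_zero {r : ℕ} (hr : r < 8) : (spX r (0 : F)) = 1 := by
  interval_cases r <;> simp only [spX, neg_zero] <;> exact sp4_one

theorem spX_inv {r : ℕ} (hr : r < 8) (t : F) :
    ((⟨spX r t, spX_mem hr t⟩ : Sp))⁻¹ = ⟨spX r (-t), spX_mem hr _⟩ := by
  refine inv_eq_of_mul_eq_one_right (Subtype.ext ?_)
  show spX r t * spX r (-t) = 1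
  rw [spX_add hr, add_neg_cancel, spX_zero hr]

theorem coe_lift_stH {r : ℕ} (hr : r < 8) {v : F} (hv : v ≠ 0) :
    ((FreeGroup.lift spGen (chevB2.stH r v) : Sp) : Matrix (Fin 2 ⊕ Fin 2) (Fin 2 ⊕ Fin 2) F) = spD r v := by
  rw [ChevalleyDatum.stH, coe_lift_stWord]
  · rw [← spH_eq hr hv]
    simp [ChevalleyDatum.hWord, ChevalleyDatum.nWord, neg_eq r hr, spN, mul_assoc]
  · simp [ChevalleyDatum.hWord, ChevalleyDatum.nWord, neg_eq r hr]
    omega

theorem spGen_rels : ∀ g ∈ chevB2.steinbergRels F, FreeGroup.lift spGen g = (1 : Sp) := by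
  rintro g ((⟨r, t, u, hr, rfl⟩ | ⟨r, s, t, u, hr, hs, h1, h2, rfl⟩) | ⟨r, v, w, hr, hv, hw, rfl⟩)
  · rw [map_mul, map_mul, map_inv, mul_inv_eq_one]
    refine Subtype.ext ?_
    rw [Submonoid.coe_mul, coe_lift_stX hr, coe_lift_stX hr, coe_lift_stX hr, spX_add hr]
  · rw [map_mul, map_inv, mul_inv_eq_one]
    refine Subtype.ext ?_
    have e : ∀ {k : ℕ} (hk : k < 8) (z : F), (FreeGroup.lift spGen (chevB2.stX k z) : Sp) = ⟨spX k z, spX_mem hk z⟩ :=
      fun hk z => Subtype.ext (coe_lift_stX hk z)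
    rw [map_mul, map_mul, map_mul, map_inv, map_inv, e hs, e hr, spX_inv hs, spX_inv hr, coe_lift_stWord]
    · rw [neg_eq r hr] at h2
      exact spX_comm hr hs h1 h2 t u
    · intro p hp
      simp only [ChevalleyDatum.commWord, List.mem_map] at hp
      obtain ⟨c, hc, rfl⟩ := hp
      exact terms_lt ⟨r, hr⟩ ⟨s, hs⟩ c hc
  · rw [map_mul, map_mul, map_inv, mul_inv_eq_one]
    refine Subtype.ext ?_
    rw [Submonoid.coe_mul, coe_lift_stH hr hv, coe_lift_stH hr hw, coe_lift_stH hr (mul_ne_zero hv hw), spD_mul hr]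

/-- The map of the Steinberg group onto the symplectic group. -/
noncomputable def spHom : chevB2.SteinbergGroup F →* Sp := PresentedGroup.toGroup spGen_rels

theorem spHom_gen {r : ℕ} (hr : r < 8) (t : F) :
    ((spHom (chevB2.stGen F r t) : Sp) : Matrix (Fin 2 ⊕ Fin 2) (Fin 2 ⊕ Fin 2) F) = spX r t := by
  rw [ChevalleyDatum.stGen, ChevalleyDatum.stX, dif_pos (show r < chevB2.nroots from hr)]
  exact congrArg Subtype.val (PresentedGroup.toGroup.of spGen_rels)

theorem sp4_mulVec (a00 a01 a02 a03 a10 a11 a12 a13 a20 a21 a22 a23 a30 a31 a32 a33 : F) (v : Fin 2 ⊕ Fin 2 → F) :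
    sp4 a00 a01 a02 a03 a10 a11 a12 a13 a20 a21 a22 a23 a30 a31 a32 a33 *ᵥ v =
      Sum.elim ![a00 * v (.inl 0) + a01 * v (.inl 1) + a02 * v (.inr 0) + a03 * v (.inr 1),
          a10 * v (.inl 0) + a11 * v (.inl 1) + a12 * v (.inr 0) + a13 * v (.inr 1)]
        ![a20 * v (.inl 0) + a21 * v (.inl 1) + a22 * v (.inr 0) + a23 * v (.inr 1),
          a30 * v (.inl 0) + a31 * v (.inl 1) + a32 * v (.inr 0) + a33 * v (.inr 1)] := by
  funext i
  rcases i with i | i <;> fin_cases i <;>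
    simp [sp4, Matrix.mulVec, dotProduct, Fintype.sum_sum_type, Fin.sum_univ_two] <;> ring

open Cfsg.Lib.Linear.AutPSp in
theorem tS_mem_range (v : Fin 2 ⊕ Fin 2 → F) (c : F) : tS v c ∈ (spHom (F := F)).range := by
  set S := (spHom (F := F)).range with hS
  have hgen : ∀ {r : ℕ} (hr : r < 8) (t : F), (⟨spX r t, spX_mem hr t⟩ : Sp) ∈ S := fun hr t =>
    ⟨_, Subtype.ext (spHom_gen hr t)⟩
  have hconj : ∀ (g : Sp), g ∈ S → ∀ (w : Fin 2 ⊕ Fin 2 → F) (d : F), tS w d ∈ S → tS (g.1 *ᵥ w) d ∈ S :=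
    fun g hg w d h => by
      rw [← conj_tS]; exact S.mul_mem (S.mul_mem hg h) (S.inv_mem hg)
  let e0 : Fin 2 ⊕ Fin 2 → F := Sum.elim ![1, 0] ![0, 0]
  have hbase : ∀ d : F, tS e0 d ∈ S := fun d => by
    have : tS e0 d = ⟨spX 7 d, spX_mem (by norm_num) d⟩ := Cfsg.Lib.Linear.AutPSp.sp_ext fun x => by
      rw [tS_mulVec]
      simp only [spX, sp4_mulVec]
      funext i
      rcases i with i | i <;> fin_cases i <;>
        simp [e0, Cfsg.Lib.Linear.Symp.spB_apply, Cfsg.sympForm, Matrix.J, Matrix.mulVec, dotProduct,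
          Fintype.sum_sum_type, Fin.sum_univ_two, Matrix.one_apply] <;> ring
    rw [this]; exact hgen (r := 7) (by norm_num) d
  have hone : ∀ (w : Fin 2 ⊕ Fin 2 → F) (d : F), w (.inl 0) = 1 → tS w d ∈ S := fun w d hw => by
    have h1 : tS (spX 2 (w (.inl 1)) *ᵥ e0) d ∈ S := hconj _ (hgen (r := 2) (by norm_num) _) _ _ (hbase d)
    have h2 : tS (spX 1 (w (.inr 1)) *ᵥ (spX 2 (w (.inl 1)) *ᵥ e0)) d ∈ S :=
      hconj _ (hgen (r := 1) (by norm_num) _) _ _ h1
    have h3 : tS (spX 0 (w (.inr 0) - w (.inl 1) * w (.inr 1)) *ᵥ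
        (spX 1 (w (.inr 1)) *ᵥ (spX 2 (w (.inl 1)) *ᵥ e0))) d ∈ S :=
      hconj _ (hgen (r := 0) (by norm_num) _) _ _ h2
    convert h3 using 2
    funext i
    rcases i with i | i <;> fin_cases i <;> simp [spX, sp4_mulVec, e0, hw] <;> ring
  have hfirst : ∀ (w : Fin 2 ⊕ Fin 2 → F) (d : F), w (.inl 0) ≠ 0 → tS w d ∈ S := fun w d hw => by
    have h := hone ((w (.inl 0))⁻¹ • w) (w (.inl 0) ^ 2 * d) (by simp [hw])
    rw [← tS_smul, smul_smul, mul_inv_cancel₀ hw, one_smul] at h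
    exact h
  by_cases h0 : v (.inl 0) ≠ 0
  · exact hfirst v c h0
  push Not at h0
  have hmove : ∀ {r : ℕ} (hr : r < 8), (spX r (1 : F) *ᵥ v) (.inl 0) ≠ 0 → tS v c ∈ S := fun {r} hr h => by
    have hm := hconj _ (S.inv_mem (hgen hr 1)) _ _ (hfirst _ c h)
    rwa [show spX r (1 : F) *ᵥ v = (⟨spX r 1, spX_mem hr 1⟩ : Sp).1 *ᵥ v from rfl, inv_mulVec_cancel] at hm
  by_cases h1 : v (.inl 1) ≠ 0
  · exact hmove (r := 5) (by norm_num) (by simpa [spX, sp4_mulVec, h0] using h1)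
  by_cases h2 : v (.inr 0) ≠ 0
  · exact hmove (r := 7) (by norm_num) (by simpa [spX, sp4_mulVec, h0] using h2)
  by_cases h3 : v (.inr 1) ≠ 0
  · exact hmove (r := 6) (by norm_num) (by simpa [spX, sp4_mulVec, h0] using h3)
  push Not at h1 h2 h3
  have hv : v = 0 := by
    funext i
    rcases i with i | i <;> fin_cases i <;> first | exact h0 | exact h1 | exact h2 | exact h3
  have : tS v c = 1 := Cfsg.Lib.Linear.AutPSp.sp_ext fun x => by
    rw [tS_mulVec, hv]; simp
  rw [this]; exact S.one_mem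

theorem spHom_surjective : Function.Surjective (spHom (F := F)) := by
  rw [← MonoidHom.range_eq_top, eq_top_iff]
  intro g _
  let e := Cfsg.Lib.Linear.Symp.spEquiv (m := 2) (F := F)
  have h : e g ∈ Subgroup.closure {t | ∃ v c, t = Cfsg.Lib.Linear.Symp.tvG (Cfsg.Lib.Linear.Symp.spB_isAlt 2 F) v c} := by
    rw [Cfsg.Lib.Linear.Symp.closure_tvG (Cfsg.Lib.Linear.Symp.spB_nondegenerate 2 F)]; exact Subgroup.mem_top _
  have h' : e g ∈ (spHom (F := F)).range.map e.toMonoidHom := by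
    refine (Subgroup.closure_le _).2 ?_ h
    rintro _ ⟨v, c, rfl⟩
    refine ⟨_, tS_mem_range v c, Subtype.ext (LinearEquiv.ext fun x => ?_)⟩
    show (Cfsg.Lib.Linear.AutPSp.tS v c).1 *ᵥ x = _
    rw [Cfsg.Lib.Linear.AutPSp.tS_mulVec]
    rfl
  rw [Subgroup.mem_map_equiv] at h'
  simpa using h'

theorem map_center_le {G H : Type*} [Group G] [Group H] (f : G →* H) (hf : Function.Surjective f) {g : G}
    (hg : g ∈ Subgroup.center G) : f g ∈ Subgroup.center H :=
  Subgroup.mem_center_iff.2 fun h => by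
    obtain ⟨a, rfl⟩ := hf h
    rw [← map_mul, ← map_mul, Subgroup.mem_center_iff.1 hg a]

/-- The surjection of the Chevalley group onto the projective group. -/
theorem exists_toPSp : ∃ f : ↥(chevB2.group F) →* Cfsg.PSp 2 F, Function.Surjective f := by
  let C := fullCertB2.comm.cert
  let π := (stHom C fullCertB2.comm (F := F))
  have hπ : ∀ r < chevB2.nroots, ∀ t, π (chevB2.stGen F r t) = xg C r t := fun r hr t =>
    stHom_gen C fullCertB2.comm hr t
  let π' : chevB2.SteinbergGroup F →* ↥(chevB2.group F) := π.codRestrict _ fun g =>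
    (stHom_range C fullCertB2 π hπ).le ⟨g, rfl⟩
  have hsurj : Function.Surjective π' := fun y => by
    obtain ⟨g, hg⟩ := (stHom_range C fullCertB2 π hπ).ge y.2
    exact ⟨g, Subtype.ext hg⟩
  let ψ := (QuotientGroup.mk' (Subgroup.center Sp)).comp (spHom (F := F))
  have hψ : Function.Surjective ψ := (QuotientGroup.mk'_surjective _).comp spHom_surjective
  have hker : π'.ker ≤ ψ.ker := fun g hg => by
    have hg' : π g = 1 := congrArg Subtype.val hg
    have hc := (st_ker_le C fullCertB2 (by decide +kernel) π hπ hg').2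
    exact (QuotientGroup.eq_one_iff _).2 (map_center_le _ spHom_surjective hc)
  refine ⟨π'.liftOfSurjective hsurj ⟨ψ, hker⟩, fun y => ?_⟩
  obtain ⟨g, rfl⟩ := hψ y
  exact ⟨π' g, MonoidHom.liftOfRightInverse_comp_apply _ _ _ _ g⟩

/-- The Chevalley group of type B2 over a finite field is the projective symplectic group. -/
theorem nonempty_equiv_psp [Finite F] : Nonempty (↥(chevB2.group F) ≃* Cfsg.PSp 2 F) := by
  classical
  haveI := Fintype.ofFinite F
  obtain ⟨f, hf⟩ := exists_toPSp (F := F)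
  refine ⟨MulEquiv.ofBijective f ((Nat.bijective_iff_surjective_and_card f).2 ⟨hf, ?_⟩)⟩
  have h1 := Cfsg.Agent.S1060.result (F := F) rfl
  have h2 := Cfsg.Agent.S0245.result (F := F) rfl 2
  have h3 := Cfsg.Agent.S0246.result (F := F) rfl 2 (by norm_num)
  have h4 := Subgroup.card_eq_card_quotient_mul_card_subgroup (Subgroup.center Sp)
  rw [h2, h3] at h4
  simp only [Finset.prod_range_succ, Finset.prod_range_zero] at h4
  refine Nat.eq_of_mul_eq_mul_left (Nat.gcd_pos_of_pos_left (Fintype.card F - 1) (by norm_num : 0 < 2)) ?_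
  rw [h1, mul_comm _ (Nat.card (Cfsg.PSp 2 F)), ← h4]
  ring

end Cfsg.Lib.Chev.B2Sp
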