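import Cfsg.Prelude.Def_Steinberg
import Cfsg.Prelude.Def_ChevB2

/-!
The Chevalley group of type B2 is the projective symplectic group in dimension four.
-/

set_option autoImplicit false
set_option linter.unusedSectionVars false
set_option maxRecDepth 10000

namespace Cfsg.Lib.Chev.B2Sp

open Cfsg.Lie Matrix

variable {F : Type*} [Field F]

local notation "Sp" => Matrix.symplecticGroup (Fin 2) F

/-- A matrix of size four given by rows. -/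
def sp4 (a00 a01 a02 a03 a10 a11 a12 a13 a20 a21 a22 a23 a30 a31 a32 a33 : F) : Matrix (Fin 2 ⊕ Fin 2) (Fin 2 ⊕ Fin 2) F :=
  fromBlocks !![a00, a01; a10, a11] !![a02, a03; a12, a13] !![a20, a21; a30, a31] !![a22, a23; a32, a33]

theorem sp4_one : (sp4 1 0 0 0  0 1 0 0  0 0 1 0  0 0 0 1 : Matrix (Fin 2 ⊕ Fin 2) (Fin 2 ⊕ Fin 2) F) = 1 := by
  rw [sp4, ← fromBlocks_one]
  congr 1 <;> ext i j <;> fin_cases i <;> fin_cases j <;> simp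

theorem sp4_mul (a00 a01 a02 a03 a10 a11 a12 a13 a20 a21 a22 a23 a30 a31 a32 a33 b00 b01 b02 b03 b10 b11 b12 b13 b20 b21 b22 b23 b30 b31 b32 b33 : F) :
    sp4 a00 a01 a02 a03 a10 a11 a12 a13 a20 a21 a22 a23 a30 a31 a32 a33 * sp4 b00 b01 b02 b03 b10 b11 b12 b13 b20 b21 b22 b23 b30 b31 b32 b33 =
      sp4 (a00 * b00 + a01 * b10 + a02 * b20 + a03 * b30) (a00 * b01 + a01 * b11 + a02 * b21 + a03 * b31) (a00 * b02 + a01 * b12 + a02 * b22 + a03 * b32) (a00 * b03 + a01 * b13 + a02 * b23 + a03 * b33) (a10 * b00 + a11 * b10 + a12 * b20 + a13 * b30) (a10 * b01 + a11 * b11 + a12 * b21 + a13 * b31) (a10 * b02 + a11 * b12 + a12 * b22 + a13 * b32) (a10 * b03 + a11 * b13 + a12 * b23 + a13 * b33) (a20 * b00 + a21 * b10 + a22 * b20 + a23 * b30) (a20 * b01 + a21 * b11 + a22 * b21 + a23 * b31) (a20 * b02 + a21 * b12 + a22 * b22 + a23 *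 b32) (a20 * b03 + a21 * b13 + a22 * b23 + a23 * b33) (a30 * b00 + a31 * b10 + a32 * b20 + a33 * b30) (a30 * b01 + a31 * b11 + a32 * b21 + a33 * b31) (a30 * b02 + a31 * b12 + a32 * b22 + a33 * b32) (a30 * b03 + a31 * b13 + a32 * b23 + a33 * b33) := by
  rw [sp4, sp4, sp4, fromBlocks_multiply]
  congr 1 <;> ext i j <;> fin_cases i <;> fin_cases j <;> simp [Matrix.mul_apply, Fin.sum_univ_two] <;> ring

theorem sp4_transpose (a00 a01 a02 a03 a10 a11 a12 a13 a20 a21 a22 a23 a30 a31 a32 a33 : F) :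
    (sp4 a00 a01 a02 a03 a10 a11 a12 a13 a20 a21 a22 a23 a30 a31 a32 a33)ᵀ = sp4 a00 a10 a20 a30 a01 a11 a21 a31 a02 a12 a22 a32 a03 a13 a23 a33 := by
  rw [sp4, sp4, fromBlocks_transpose]
  congr 1 <;> ext i j <;> fin_cases i <;> fin_cases j <;> simp

theorem J_eq : Matrix.J (Fin 2) F = sp4 0 0 (-1) 0  0 0 0 (-1)  1 0 0 0  0 1 0 0 := by
  rw [Matrix.J, sp4]
  congr 1 <;> ext i j <;> fin_cases i <;> fin_cases j <;> simp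

/-- The root elements in dimension four. -/
def spX : ℕ → F → Matrix (Fin 2 ⊕ Fin 2) (Fin 2 ⊕ Fin 2) F
  | 0, t => sp4 1 0 0 0  0 1 0 0  t 0 1 0  0 0 0 1
  | 1, t => sp4 1 0 0 0  0 1 0 0  0 t 1 0  t 0 0 1
  | 2, t => sp4 1 0 0 0  t 1 0 0  0 0 1 (-t)  0 0 0 1
  | 3, t => sp4 1 0 0 0  0 1 0 0  0 0 1 0  0 (-t) 0 1
  | 4, t => sp4 1 0 0 0  0 1 0 (-t)  0 0 1 0  0 0 0 1
  | 5, t => sp4 1 t 0 0  0 1 0 0  0 0 1 0  0 0 (-t) 1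
  | 6, t => sp4 1 0 0 t  0 1 t 0  0 0 1 0  0 0 0 1
  | 7, t => sp4 1 0 t 0  0 1 0 0  0 0 1 0  0 0 0 1
  | _, _ => 1

/-- The terms of the commutator formula. -/
def b2Terms : ℕ → ℕ → List (ℕ × ℤ × ℕ × ℕ)
  | 0, 5 => [(1, 1, 1, 1), (3, -1, 1, 2)]
  | 0, 6 => [(2, -1, 1, 1), (4, 1, 1, 2)]
  | 1, 2 => [(0, 2, 1, 1)]
  | 1, 4 => [(2, 1, 1, 1), (0, 1, 2, 1)]
  | 1, 5 => [(3, -2, 1, 1)]
  | 1, 7 => [(5, -1, 1, 1), (3, 1, 2, 1)]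
  | 2, 1 => [(0, -2, 1, 1)]
  | 2, 3 => [(1, 1, 1, 1), (0, -1, 2, 1)]
  | 2, 6 => [(4, -2, 1, 1)]
  | 2, 7 => [(6, 1, 1, 1), (4, -1, 2, 1)]
  | 3, 2 => [(1, -1, 1, 1), (0, -1, 1, 2)]
  | 3, 6 => [(5, 1, 1, 1), (7, 1, 1, 2)]
  | 4, 1 => [(2, -1, 1, 1), (0, 1, 1, 2)]
  | 4, 5 => [(6, 1, 1, 1), (7, -1, 1, 2)]
  | 5, 0 => [(1, -1, 1, 1), (3, -1, 2, 1)]
  | 5, 1 => [(3, 2, 1, 1)]
  | 5, 4 => [(6, -1, 1, 1), (7, -1, 2, 1)]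
  | 5, 6 => [(7, 2, 1, 1)]
  | 6, 0 => [(2, 1, 1, 1), (4, 1, 2, 1)]
  | 6, 2 => [(4, 2, 1, 1)]
  | 6, 3 => [(5, -1, 1, 1), (7, 1, 2, 1)]
  | 6, 5 => [(7, -2, 1, 1)]
  | 7, 1 => [(5, 1, 1, 1), (3, 1, 1, 2)]
  | 7, 2 => [(6, -1, 1, 1), (4, -1, 1, 2)]
  | _, _ => []

theorem commTerms_eq : ∀ r : Fin 8, ∀ s : Fin 8, chevB2.commTerms r s = b2Terms r s := by decide +kernel

theorem neg_eq : ∀ r < 8, chevB2.neg r = 7 - r := by decide +kernel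

theorem spX_mem {r : ℕ} (hr : r < 8) (t : F) : spX r t ∈ Sp := by
  rw [SymplecticGroup.mem_iff, J_eq]
  interval_cases r <;> simp only [spX, sp4_transpose, sp4_mul] <;> congr 1 <;> ring

theorem spX_add {r : ℕ} (hr : r < 8) (t u : F) : spX r t * spX r u = spX r (t + u) := by
  interval_cases r <;> simp only [spX, sp4_mul] <;> congr 1 <;> ring

theorem spX_comm {r s : ℕ} (hr : r < 8) (hs : s < 8) (h1 : s ≠ r) (h2 : s ≠ 7 - r) (t u : F) :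
    spX s (-u) * spX r (-t) * spX s u * spX r t =
      ((chevB2.commWord F r s t u).map fun p => spX p.1 p.2).prod := by
  rw [ChevalleyDatum.commWord, show chevB2.commTerms r s = b2Terms r s from commTerms_eq ⟨r, hr⟩ ⟨s, hs⟩]
  interval_cases r <;> interval_cases s <;> first
    | omega
    | (simp only [b2Terms, List.map, List.prod_cons, List.prod_nil, mul_one, spX, sp4_mul]
       try rw [← sp4_one]
       congr 1 <;> push_cast <;> ring)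

/-- The product giving `n̄`. -/
def spN (r : ℕ) (v : F) : Matrix (Fin 2 ⊕ Fin 2) (Fin 2 ⊕ Fin 2) F := spX r v * spX (7 - r) (-v⁻¹) * spX r v

/-- Its value. -/
def spNv : ℕ → F → Matrix (Fin 2 ⊕ Fin 2) (Fin 2 ⊕ Fin 2) F
  | 0, v => sp4 0 0 (-v⁻¹) 0  0 1 0 0  v 0 0 0  0 0 0 1
  | 1, v => sp4 0 0 0 (-v⁻¹)  0 0 (-v⁻¹) 0  0 v 0 0  v 0 0 0
  | 2, v => sp4 0 (-v⁻¹) 0 0  v 0 0 0  0 0 0 (-v)  0 0 v⁻¹ 0
  | 3, v => sp4 1 0 0 0  0 0 0 v⁻¹  0 0 1 0  0 (-v) 0 0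
  | 4, v => sp4 1 0 0 0  0 0 0 (-v)  0 0 1 0  0 v⁻¹ 0 0
  | 5, v => sp4 0 v 0 0  (-v⁻¹) 0 0 0  0 0 0 v⁻¹  0 0 (-v) 0
  | 6, v => sp4 0 0 0 v  0 0 v 0  0 (-v⁻¹) 0 0  (-v⁻¹) 0 0 0
  | 7, v => sp4 0 0 v 0  0 1 0 0  (-v⁻¹) 0 0 0  0 0 0 1
  | _, _ => 1

/-- The diagonal elements. -/
def spD : ℕ → F → Matrix (Fin 2 ⊕ Fin 2) (Fin 2 ⊕ Fin 2) F
  | 0, v => sp4 v⁻¹ 0 0 0  0 1 0 0  0 0 v 0  0 0 0 1
  | 1, v => sp4 v⁻¹ 0 0 0  0 v⁻¹ 0 0  0 0 v 0  0 0 0 v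
  | 2, v => sp4 v⁻¹ 0 0 0  0 v 0 0  0 0 v 0  0 0 0 v⁻¹
  | 3, v => sp4 1 0 0 0  0 v⁻¹ 0 0  0 0 1 0  0 0 0 v
  | 4, v => sp4 1 0 0 0  0 v 0 0  0 0 1 0  0 0 0 v⁻¹
  | 5, v => sp4 v 0 0 0  0 v⁻¹ 0 0  0 0 v⁻¹ 0  0 0 0 v
  | 6, v => sp4 v 0 0 0  0 v 0 0  0 0 v⁻¹ 0  0 0 0 v⁻¹
  | 7, v => sp4 v 0 0 0  0 1 0 0  0 0 v⁻¹ 0  0 0 0 1
  | _, _ => 1

theorem spN_eq {r : ℕ} (hr : r < 8) {v : F} (hv : v ≠ 0) : spN r v = spNv r v := by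
  have h1 : v * v⁻¹ = 1 := mul_inv_cancel₀ hv
  interval_cases r <;> simp only [spN, spNv, Nat.reduceSub, spX, sp4_mul] <;> congr 1 <;>
    simp [h1, inv_mul_cancel₀ hv, mul_assoc]

theorem spH_eq {r : ℕ} (hr : r < 8) {v : F} (hv : v ≠ 0) : spN r v * spN r (-1) = spD r v := by
  rw [spN_eq hr hv, spN_eq hr (neg_ne_zero.2 one_ne_zero)]
  interval_cases r <;> simp only [spNv, spD, sp4_mul] <;> congr 1 <;> simp

theorem spD_mul {r : ℕ} (hr : r < 8) (v w : F) : spD r v * spD r w = spD r (v * w) := by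
  interval_cases r <;> simp only [spD, sp4_mul] <;> congr 1 <;> simp [mul_comm]


end Cfsg.Lib.Chev.B2Sp
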