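import Cfsg.Agent.Lib.Chev.Sparse

/-! Packed tables for the type G2. -/

set_option autoImplicit false
set_option maxRecDepth 4000

namespace Cfsg.Lib.Chev

def tblG2Chain : BT := (.node (.node (.node (.node (.leaf 0x305000000303000000502000000000000000501000000000000000000000000000000000000000000000000000000) (.leaf 0x70b00000000000070b60900000000030b309307000000706000000000000106204000000000506504302)) (.leaf 0x506308509000706208000000106000000000000000000301502503000000000000101602000000101000000000000000000)) (.node (.node (.leaf 0x301304308500503307000000000000701604000100203000000000000000000000000701000000700000000000000000000000000000) (.leaf 0x30b000000000000000309000000000000000507000000000000000505)) (.leaf 0x50b000000000000000000000000508000000000000000000000000000000000304000000000000000000000000301))) (.node (.node (.node (.leaf 0x306000000000000000304000000000000000502000000000000000500000000000000000000000000000000000000000000000) (.leaf 0x10b00000010a00000000000000000000010b60800070a20700000000030b50850450a307503)) (.leaf 0x50a000000000000000000000000507000000000000000000000000000000000303000000000000000000000000300000000000)) (.node (.node (.leaf 0x305507509000000000000105607000000000000000105500302504000000000000700202000000000000000100000000000000000000)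 (.leaf 0x30a000000000000000309000000508000000506000000000)) (.leaf 0x70a00010a20900000000050a509308000000000000000000000000705000705603305303302000000000))))

def tblG2 : Tbl where
  rank := 2
  nroots := 12
  width := 3
  simpleP := 1543
  negP := 0x102030405060708090a0b
  chain := tblG2Chain
  cart := (.node (.leaf 0x8b97a5b69758) (.leaf 0x97897a697897))
  cor := (.node (.node (.node (.node (.leaf 103) (.leaf 185)) (.leaf 135)) (.node (.node (.leaf 86) (.leaf 153)) (.leaf 152))) (.node (.node (.node (.leaf 119) (.leaf 186)) (.leaf 120)) (.node (.node (.leaf 87) (.leaf 169)) (.leaf 137))))
  refl := (.node (.leaf 0xb060809040a010702030500) (.leaf 0xa0b09070805060304020001))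
  eta := (.node (.leaf 1686) (.leaf 2409))

end Cfsg.Lib.Chev
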