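import Cfsg.Prelude.Def_ChevG2
import Cfsg.Agent.Lib.Chev.Spec
import Cfsg.Agent.Lib.Chev.TblG2

/-! The certificate of the table for type G2. -/

set_option autoImplicit false

namespace Cfsg.Lib.Chev

theorem chkBase_G2 : chkBase Cfsg.Lie.chevG2 tblG2 = true := by decide +kernel

theorem chkRefl_G2 : chkRefl Cfsg.Lie.chevG2 tblG2 = true := by decide +kernel

theorem chkChain_G2 : chkChain Cfsg.Lie.chevG2 tblG2 = true := by decide +kernel

theorem chkRoots_G2 : chkRoots tblG2 = true := by decide +kernel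

theorem chkWeights_G2 : chkWeights Cfsg.Lie.chevG2 tblG2 = true := by decide +kernel

theorem chkEquiv_G2_0 : chkEquiv Cfsg.Lie.chevG2 tblG2 0 = true := by decide +kernel

theorem chkEquiv_G2_1 : chkEquiv Cfsg.Lie.chevG2 tblG2 1 = true := by decide +kernel

theorem specG2 : Spec Cfsg.Lie.chevG2 tblG2 :=
  spec_of_chk chkBase_G2 chkRefl_G2 chkChain_G2 chkRoots_G2 chkWeights_G2 fun i hi => by
    rw [show tblG2.rank = 2 from rfl] at hi
    interval_cases i
    · exact chkEquiv_G2_0
    · exact chkEquiv_G2_1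

end Cfsg.Lib.Chev
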