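import Cfsg.Prelude.Def_Steinberg
import Cfsg.Agent.Lib.Chev.Sparse

/-!
Homomorphisms from the presented Chevalley group over the field with two or three elements, from checked codes of
the images of the root elements.
-/

set_option autoImplicit false
set_option linter.unusedSectionVars false

namespace Cfsg.Lib.Chev.CodeHom

open Cfsg.Lie

/-- Codes for elements of a group. -/
structure Code (G : Type*) [Group G] where
  mul : ℕ → ℕ → ℕ
  one : ℕ
  good : ℕ → Prop
  ev : ℕ → G
  one_good : good one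
  ev_one : ev one = 1
  mul_spec : ∀ x y, good x → good y → good (mul x y) ∧ ev (mul x y) = ev x * ev y

/-- The code of an element given by a table. -/
def tblAt (L : List (List ℕ)) (r a : ℕ) : ℕ := (L.getD r []).getD a 0

/-- The code of a word with integer entries. -/
def wordC (mul : ℕ → ℕ → ℕ) (one : ℕ) (p : ℕ) (L : List (List ℕ)) (w : List (ℕ × ℤ)) : ℕ :=
  w.foldr (fun x t => mul (tblAt L x.1 (x.2 % (p : ℤ)).toNat) t) one

/-- The word of `n_r(z)` for a self-inverse `z`. -/
def nWordZ (D : ChevalleyDatum) (r : ℕ) (z : ℤ) : List (ℕ × ℤ) := [(r, z), (D.neg r, -z), (r, z)]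

/-- The word of `h_r(z)`. -/
def hWordZ (D : ChevalleyDatum) (r : ℕ) (z : ℤ) : List (ℕ × ℤ) := nWordZ D r z ++ nWordZ D r (-1)

/-- The relators hold for the codes. -/
noncomputable def chkRels (D : ChevalleyDatum) (mul : ℕ → ℕ → ℕ) (one : ℕ) (good : ℕ → Bool) (p : ℕ)
    (L : List (List ℕ)) : Bool :=
  (List.range D.nroots).all (fun r => Nat.beq (tblAt L r 0) one && Nat.blt (D.neg r) D.nroots &&
    (List.range p).all fun a => good (tblAt L r a) &&
      (List.range p).all fun b => Nat.beq (mul (tblAt L r a) (tblAt L r b)) (tblAt L r ((a + b) % p))) &&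
  (List.range D.nroots).all (fun r => (List.range D.nroots).all fun s => Nat.beq s r || (Nat.beq s (D.neg r) ||
    (List.range p).all fun a => (List.range p).all fun b =>
      (D.commTerms r s).all (fun c => Nat.blt c.1 D.nroots) &&
      Nat.beq (wordC mul one p L [(s, -(b : ℤ)), (r, -(a : ℤ)), (s, (b : ℤ)), (r, (a : ℤ))])
        (wordC mul one p L ((D.commTerms r s).map fun c => (c.1, c.2.1 * (-(a : ℤ)) ^ c.2.2.1 * (b : ℤ) ^ c.2.2.2))))) &&
  (List.range D.nroots).all (fun r => (List.range p).all fun a => (List.range p).all fun b =>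
    Nat.beq a 0 || (Nat.beq b 0 ||
      Nat.beq (wordC mul one p L (hWordZ D r (a : ℤ) ++ hWordZ D r (b : ℤ)))
        (wordC mul one p L (hWordZ D r (((a * b) % p : ℕ) : ℤ)))))

variable {G : Type*} [Group G] {D : ChevalleyDatum} {K : Type*} [Field K] [Fintype K] {p : ℕ}

theorem exists_lift (hp : p.Prime) (hK : Fintype.card K = p) :
    ∃ num : K → ℕ, (∀ t, num t < p) ∧ (∀ t, ((num t : ℕ) : K) = t) ∧ ∀ a < p, num (a : K) = a := by
  haveI : Fact p.Prime := ⟨hp⟩
  haveI : CharP K p := charP_of_card_eq_prime hK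
  obtain ⟨e⟩ : Nonempty (ZMod p ≃+* K) := ⟨ZMod.ringEquiv K hK⟩
  refine ⟨fun t => (e.symm t).val, fun t => ZMod.val_lt _, fun t => ?_, fun a ha => ?_⟩
  · rw [← map_natCast e, ZMod.natCast_zmod_val, RingEquiv.apply_symm_apply]
  · show (e.symm (a : K)).val = a
    rw [map_natCast, ZMod.val_natCast, Nat.mod_eq_of_lt ha]

/-- Checked codes give a homomorphism of the presented group. -/
theorem exists_stHom (X : Code G) (L : List (List ℕ)) (hp : p.Prime) (hp3 : p ≤ 3) (hK : Fintype.card K = p)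
    {gb : ℕ → Bool} (hgb : ∀ x, gb x = true → X.good x)
    (h : chkRels D X.mul X.one gb p L = true) :
    ∃ φ : D.SteinbergGroup K →* G, ∀ r < D.nroots, ∀ a < p,
      φ (D.stGen K r (a : K)) = X.ev (tblAt L r a) ∧ X.good (tblAt L r a) := by
  classical
  obtain ⟨num, hlt, hnum, hnum'⟩ := exists_lift hp hK
  haveI : CharP K p := by
    haveI : Fact p.Prime := ⟨hp⟩
    exact charP_of_card_eq_prime hK
  have hp2 := hp.two_le
  simp only [chkRels, Bool.and_eq_true, List.all_eq_true, List.mem_range, Nat.beq_eq, Bool.or_eq_true,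
    Nat.blt_eq] at h
  obtain ⟨⟨hadd, hcomm⟩, hmul⟩ := h
  have hcast : ∀ z : ℤ, ((z % (p : ℤ)).toNat : K) = (z : K) ∧ (z % (p : ℤ)).toNat < p := by
    intro z
    have h0 : 0 ≤ z % (p : ℤ) := Int.emod_nonneg _ (by exact_mod_cast hp.ne_zero)
    have h1 : z % (p : ℤ) < p := Int.emod_lt_of_pos _ (by exact_mod_cast hp.pos)
    refine ⟨?_, by omega⟩
    rw [show (((z % (p : ℤ)).toNat : ℕ) : K) = ((((z % (p : ℤ)).toNat : ℕ) : ℤ) : K) by norm_cast,
      Int.toNat_of_nonneg h0]
    conv_rhs => rw [← Int.emod_add_mul_ediv z (p : ℤ)]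
    simp [CharP.cast_eq_zero]
  have hinv : ∀ a < p, ((a : K))⁻¹ = (a : K) := by
    intro a ha
    rcases Nat.eq_zero_or_pos a with rfl | h0
    · simp
    refine inv_eq_of_mul_eq_one_right ?_
    rw [← Nat.cast_mul, ← Nat.cast_one, CharP.natCast_eq_natCast K p]
    have : p = 2 ∨ p = 3 := by omega
    rcases this with rfl | rfl <;> interval_cases a <;> decide
  let gen : Fin D.nroots × K → G := fun x => X.ev (tblAt L x.1 (num x.2))
  have hgood : ∀ r < D.nroots, ∀ a < p, X.good (tblAt L r a) := fun r hr a ha =>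
    hgb _ ((hadd r hr).2 a ha).1
  have hX : ∀ r < D.nroots, ∀ t : K, FreeGroup.lift gen (D.stX r t) = X.ev (tblAt L r (num t)) := fun r hr t => by
    rw [ChevalleyDatum.stX, dif_pos hr, FreeGroup.lift_apply_of]
  have hword : ∀ w : List (ℕ × ℤ), (∀ x ∈ w, x.1 < D.nroots) →
      X.good (wordC X.mul X.one p L w) ∧
        FreeGroup.lift gen (D.stWord (w.map fun x => (x.1, (x.2 : K)))) = X.ev (wordC X.mul X.one p L w) := by
    intro w
    induction w with
    | nil => intro _; simp [ChevalleyDatum.stWord, wordC, X.one_good, X.ev_one]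
    | cons x w ih =>
      intro hw
      obtain ⟨h1, h2⟩ := ih fun y hy => hw y (List.mem_cons_of_mem _ hy)
      have hr := hw x (List.mem_cons_self ..)
      obtain ⟨hc1, hc2⟩ := hcast x.2
      obtain ⟨h3, h4⟩ := X.mul_spec _ _ (hgood x.1 hr _ hc2) h1
      refine ⟨h3, ?_⟩
      simp only [ChevalleyDatum.stWord, List.map_cons, List.prod_cons, map_mul] at h2 ⊢
      rw [h2, hX _ hr, ← hc1, hnum' _ hc2]
      exact h4.symm
  have hzero : ∀ r < D.nroots, X.ev (tblAt L r 0) = 1 := fun r hr => by rw [(hadd r hr).1.1, X.ev_one]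
  have haddG : ∀ r < D.nroots, ∀ t u : K,
      X.ev (tblAt L r (num t)) * X.ev (tblAt L r (num u)) = X.ev (tblAt L r (num (t + u))) := by
    intro r hr t u
    have e := ((hadd r hr).2 _ (hlt t)).2 _ (hlt u)
    have hn : num (t + u) = (num t + num u) % p := by
      have : ((num t + num u) % p : ℕ) = (t + u : K) := by
        rw [← CharP.natCast_eq_natCast' K p (Nat.mod_modEq _ _).symm, Nat.cast_add, hnum, hnum]
      rw [← this, hnum' _ (Nat.mod_lt _ hp.pos)]
    rw [hn, ← e, (X.mul_spec _ _ (hgood r hr _ (hlt t)) (hgood r hr _ (hlt u))).2]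
  have hrels : ∀ g ∈ D.steinbergRels K, FreeGroup.lift gen g = 1 := by
    rintro g ((⟨r, t, u, hr, rfl⟩ | ⟨r, s, t, u, hr, hs, h1, h2, rfl⟩) | ⟨r, a, b, hr, ha, hb, rfl⟩)
    · rw [map_mul, map_inv, mul_inv_eq_one, map_mul, hX r hr, hX r hr, hX r hr]
      exact haddG r hr t u
    · rw [map_mul, map_inv, mul_inv_eq_one, map_mul, map_mul, map_mul, map_inv, map_inv]
      obtain ⟨htms, e⟩ := ((hcomm r hr s hs).resolve_left h1).resolve_left h2 _ (hlt t) _ (hlt u)
      have hinvX : ∀ r < D.nroots, ∀ t : K,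
          (FreeGroup.lift gen (D.stX r t))⁻¹ = FreeGroup.lift gen (D.stX r (-t)) := by
        intro r hr t
        refine inv_eq_of_mul_eq_one_right ?_
        rw [hX r hr, hX r hr, haddG r hr, add_neg_cancel,
          show num (0 : K) = 0 by simpa using hnum' 0 hp.pos, hzero r hr]
      rw [hinvX s hs, hinvX r hr]
      obtain ⟨-, e1⟩ := hword [(s, -(num u : ℤ)), (r, -(num t : ℤ)), (s, (num u : ℤ)), (r, (num t : ℤ))] (by
        simp [hr, hs])
      obtain ⟨-, e2⟩ := hword ((D.commTerms r s).map fun c =>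
        (c.1, c.2.1 * (-(num t : ℤ)) ^ c.2.2.1 * (num u : ℤ) ^ c.2.2.2)) (by
        intro x hx
        obtain ⟨c, hc, rfl⟩ := List.mem_map.1 hx
        exact htms c hc)
      rw [e] at e1
      rw [← e2] at e1
      simp only [List.map_cons, List.map_nil, List.map_map, ChevalleyDatum.stWord, List.prod_cons, List.prod_nil,
        mul_one, map_mul, Int.cast_neg, Int.cast_natCast, hnum] at e1
      rw [mul_assoc, mul_assoc, e1]
      simp [ChevalleyDatum.stWord, ChevalleyDatum.commWord, Function.comp_def, hnum]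
    · rw [map_mul, map_inv, mul_inv_eq_one, map_mul]
      have hnr := (hadd r hr).1.2
      have hw : ∀ c : K, D.hWord r c = (hWordZ D r (num c : ℤ)).map fun x => (x.1, (x.2 : K)) := fun c => by
        have hc := hinv _ (hlt c)
        rw [hnum] at hc
        simp [ChevalleyDatum.hWord, ChevalleyDatum.nWord, hWordZ, nWordZ, hnum, hc, inv_neg]
      have hne : ∀ c : K, c ≠ 0 → num c ≠ 0 := fun c hc h0 => hc (by rw [← hnum c, h0, Nat.cast_zero])
      have e := ((hmul r hr _ (hlt a) _ (hlt b)).resolve_left (hne a ha)).resolve_left (hne b hb)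
      have hn : num (a * b) = (num a * num b) % p := by
        have : ((num a * num b) % p : ℕ) = (a * b : K) := by
          rw [← CharP.natCast_eq_natCast' K p (Nat.mod_modEq _ _).symm, Nat.cast_mul, hnum, hnum]
        rw [← this, hnum' _ (Nat.mod_lt _ hp.pos)]
      have hlt' : ∀ c : ℤ, ∀ x ∈ hWordZ D r c, x.1 < D.nroots := by
        intro c x hx
        simp only [hWordZ, nWordZ, List.mem_append, List.mem_cons, List.not_mem_nil, or_false] at hx
        rcases hx with (rfl | rfl | rfl) | (rfl | rfl | rfl) <;> assumption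
      obtain ⟨-, e1⟩ := hword (hWordZ D r (num a : ℤ) ++ hWordZ D r (num b : ℤ)) fun x hx =>
        (List.mem_append.1 hx).elim (hlt' _ x) (hlt' _ x)
      obtain ⟨-, e2⟩ := hword (hWordZ D r ((num (a * b) : ℕ) : ℤ)) (hlt' _)
      rw [e, ← hn, ← e2, List.map_append, ← hw, ← hw, ← hw] at e1
      simpa [ChevalleyDatum.stH, ChevalleyDatum.stWord, map_mul] using e1
  refine ⟨PresentedGroup.toGroup hrels, fun r hr a ha => ?_⟩
  refine ⟨?_, hgood r hr a ha⟩
  show FreeGroup.lift gen (D.stX r (a : K)) = _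
  rw [hX r hr, hnum' a ha]

end Cfsg.Lib.Chev.CodeHom
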