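import Cfsg.Agent.Lib.Chev.CommFormula
import Cfsg.Agent.Lib.Chev.FullB2

/-! The commutator certificate for type B2. -/

set_option autoImplicit false
set_option maxRecDepth 4000

namespace Cfsg.Lib.Chev

noncomputable def pathsB2 : BT := (.node (.node (.node (.node (.leaf 530) (.leaf 0)) (.node (.leaf 0) (.leaf 530))) (.node (.node (.leaf 0) (.leaf 0)) (.node (.leaf 0) (.leaf 530)))) (.node (.node (.node (.leaf 0) (.leaf 0)) (.node (.leaf 0) (.leaf 289))) (.node (.node (.leaf 289) (.leaf 0)) (.node (.leaf 0) (.leaf 289)))))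

def repsB2 : List (ℕ × ℕ) := [(5, 4), (5, 1), (5, 3), (4, 5), (4, 0), (4, 2)]

theorem commChk_B2_0 : commChk tblB2 5 4 = true := by decide +kernel

theorem commChk_B2_1 : commChk tblB2 5 1 = true := by decide +kernel

theorem commChk_B2_2 : commChk tblB2 5 3 = true := by decide +kernel

theorem commChk_B2_3 : commChk tblB2 4 5 = true := by decide +kernel

theorem commChk_B2_4 : commChk tblB2 4 0 = true := by decide +kernel

theorem commChk_B2_5 : commChk tblB2 4 2 = true := by decide +kernel

theorem chkThree_B2 : chkThree Cfsg.Lie.chevB2 tblB2 = true := by decide +kernel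

theorem chkPaths_B2 : chkPaths tblB2 repsB2 pathsB2 = true := by decide +kernel

theorem commCertB2 : CommCert Cfsg.Lie.chevB2 tblB2 where
  cert := certB2
  three := chkThree_B2
  base := by
    refine ⟨repsB2, fun q hq => ?_, pathsB2, chkPaths_B2⟩
    simp only [repsB2, List.mem_cons, List.not_mem_nil, or_false] at hq
    rcases hq with rfl | rfl | rfl | rfl | rfl | rfl
    · exact ⟨by decide +kernel, by decide +kernel, commChk_B2_0⟩
    · exact ⟨by decide +kernel, by decide +kernel, commChk_B2_1⟩
    · exact ⟨by decide +kernel, by decide +kernel, commChk_B2_2⟩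
    · exact ⟨by decide +kernel, by decide +kernel, commChk_B2_3⟩
    · exact ⟨by decide +kernel, by decide +kernel, commChk_B2_4⟩
    · exact ⟨by decide +kernel, by decide +kernel, commChk_B2_5⟩

end Cfsg.Lib.Chev
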