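import Cfsg.Agent.Lib.Chev.CommFormula
import Cfsg.Agent.Lib.Chev.FullD4

/-! The commutator certificate for type D4. -/

set_option autoImplicit false
set_option maxRecDepth 4000

namespace Cfsg.Lib.Chev

noncomputable def pathsD4 : BT := (.node (.node (.node (.node (.node (.node (.node (.leaf 0) (.leaf 3)) (.leaf 3)) (.node (.node (.leaf 0x21321421324) (.leaf 0x2132421324)) (.leaf 0))) (.node (.node (.node (.leaf 0x2132421324) (.leaf 0)) (.leaf 3)) (.node (.node (.leaf 0) (.leaf 0x21321421324)) (.leaf 0)))) (.node (.node (.node (.node (.leaf 0x213242132) (.leaf 52)) (.leaf 52)) (.node (.node (.leaf 0) (.leaf 0x2132142132)) (.leaf 0))) (.node (.node (.node (.leaf 0x2132142132) (.leaf 0x213242132)) (.leaf 4)) (.node (.node (.leaf 4) (.leaf 0x213242132)) (.leaf 4))))) (.node (.node (.node (.node (.node (.leaf 270642) (.leaf 270642)) (.leaf 135969)) (.node (.node (.leaf 135972) (.leaf 0x342132)) (.leaf 135972))) (.node (.node (.node (.leaf 8498) (.leaf 8498)) (.leaf 0)) (.node (.node (.leaf 0x213214) (.leaf 0x3421324)) (.leaf 0x421324))))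 (.node (.node (.node (.node (.leaf 135972) (.leaf 0x421324)) (.leaf 0x213214)) (.node (.node (.leaf 135969) (.leaf 0x342132)) (.leaf 0))) (.node (.node (.node (.leaf 8498) (.leaf 0x3421324)) (.leaf 8498)) (.node (.node (.leaf 135969) (.leaf 8498)) (.leaf 270642)))))) (.node (.node (.node (.node (.node (.node (.leaf 0x2132423) (.leaf 0x21321423)) (.leaf 0x21321423)) (.node (.node (.leaf 33) (.leaf 33)) (.leaf 1057))) (.node (.node (.node (.leaf 801) (.leaf 0x321421324)) (.leaf 1057)) (.node (.node (.leaf 33) (.leaf 13345)) (.leaf 0)))) (.node (.node (.node (.node (.leaf 33) (.leaf 0x2132423)) (.leaf 0)) (.node (.node (.leaf 0x2132423) (.leaf 33)) (.leaf 801))) (.node (.node (.node (.leaf 1057) (.leaf 13345)) (.leaf 801)) (.node (.node (.leaf 0x21421324) (.leaf 0x321421324)) (.leaf 0x21421324))))) (.node (.node (.node (.node (.node (.leaf 205122) (.leaf 205122)) (.leaf 136225)) (.node (.node (.leaf 136227) (.leaf 0x321421)) (.leaf 0))) (.node (.node (.node (.leaf 8514) (.leaf 8514)) (.leaf 8514)) (.node (.node (.leaf 0x214213)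 (.leaf 0x3214213)) (.leaf 0x321423)))) (.node (.node (.node (.node (.leaf 136227) (.leaf 0x321423)) (.leaf 0x214213)) (.node (.node (.leaf 136225) (.leaf 0x321421)) (.leaf 136227))) (.node (.node (.node (.leaf 8514) (.leaf 0x3214213)) (.leaf 0)) (.node (.node (.leaf 136225) (.leaf 8514)) (.leaf 205122)))))))

def repsD4 : List (ℕ × ℕ) := [(18, 12), (18, 13), (18, 14), (18, 0), (18, 6)]

theorem commChk_D4_0 : commChk tblD4 18 12 = true := by decide +kernel

theorem commChk_D4_1 : commChk tblD4 18 13 = true := by decide +kernel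

theorem commChk_D4_2 : commChk tblD4 18 14 = true := by decide +kernel

theorem commChk_D4_3 : commChk tblD4 18 0 = true := by decide +kernel

theorem commChk_D4_4 : commChk tblD4 18 6 = true := by decide +kernel

theorem chkThree_D4 : chkThree Cfsg.Lie.chevD4 tblD4 = true := by decide +kernel

theorem chkPaths_D4 : chkPaths tblD4 repsD4 pathsD4 = true := by decide +kernel

theorem commCertD4 : CommCert Cfsg.Lie.chevD4 tblD4 where
  cert := certD4
  three := chkThree_D4
  base := by
    refine ⟨repsD4, fun q hq => ?_, pathsD4, chkPaths_D4⟩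
    simp only [repsD4, List.mem_cons, List.not_mem_nil, or_false] at hq
    rcases hq with rfl | rfl | rfl | rfl | rfl
    · exact ⟨by decide +kernel, by decide +kernel, commChk_D4_0⟩
    · exact ⟨by decide +kernel, by decide +kernel, commChk_D4_1⟩
    · exact ⟨by decide +kernel, by decide +kernel, commChk_D4_2⟩
    · exact ⟨by decide +kernel, by decide +kernel, commChk_D4_3⟩
    · exact ⟨by decide +kernel, by decide +kernel, commChk_D4_4⟩

end Cfsg.Lib.Chev
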