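import Cfsg.Agent.Lib.Chev.CommFormula
import Cfsg.Agent.Lib.Chev.FullE6

/-! The commutator certificate for type E6. -/

set_option autoImplicit false
set_option maxRecDepth 4000

namespace Cfsg.Lib.Chev

noncomputable def pathsE6 : BT := (.node (.node (.node (.node (.node (.node (.node (.node (.node (.leaf 0x31423465423143542) (.leaf 0x31543654)) (.node (.leaf 0x3142314542345) (.leaf 0x3154231436542314354))) (.node (.node (.leaf 0x31543654) (.leaf 0x314234542346)) (.leaf 345684))) (.node (.node (.node (.leaf 49) (.leaf 21542)) (.node (.leaf 0x31436543) (.leaf 0x5423143654231435465))) (.node (.node (.leaf 0) (.leaf 0x42314354231)) (.leaf 12630)))) (.node (.node (.node (.node (.leaf 0x3142345426543) (.leaf 0x3154231465423456)) (.node (.leaf 0x546542) (.leaf 0x542314354654231456))) (.node (.node (.leaf 0x5465431) (.leaf 0)) (.leaf 0))) (.node (.node (.node (.leaf 0x314231454231436) (.leaf 0x423143543)) (.leaf 0)) (.node (.node (.leaf 0x5426542314354) (.leaf 0x5423165)) (.leaf 1350))))) (.node (.node (.node (.node (.node (.leaf 0x31436542314354) (.leaf 69))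 (.node (.leaf 0x31436542) (.leaf 0x4254316))) (.node (.node (.leaf 0x314231435423143) (.leaf 0x4231543654)) (.leaf 12645))) (.node (.node (.node (.leaf 0x3143543) (.leaf 0x423156)) (.node (.leaf 344677) (.leaf 0x542314354))) (.node (.node (.leaf 0x314234654234) (.leaf 0x315423146542314356)) (.leaf 0x3143543165423456)))) (.node (.node (.node (.node (.leaf 0x314234565423143) (.leaf 0x314234542654)) (.node (.leaf 0x542654231) (.leaf 0x3142345423143))) (.node (.node (.leaf 0x3154365431) (.leaf 0x54265431)) (.leaf 0))) (.node (.node (.node (.leaf 0x5654231) (.leaf 16982)) (.leaf 0x3143654)) (.node (.node (.leaf 1350) (.leaf 0x5423143654231)) (.leaf 274774)))))) (.node (.node (.node (.node (.node (.node (.leaf 0x65423143542) (.leaf 0x31542314654234)) (.node (.leaf 25922) (.leaf 0x54231436543))) (.node (.node (.leaf 414769) (.leaf 271686)) (.leaf 0x31543165423))) (.node (.node (.node (.leaf 0x31423454231436) (.leaf 0x54231436542)) (.node (.leaf 0x3142314354234) (.leaf 0x314234542314354))) (.node (.node (.leaf 0x3142314542654) (.leaf 344854)) (.leaf 5)))) (.node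 (.node (.node (.node (.leaf 0x314234542346) (.leaf 0x542654)) (.node (.leaf 0x3154316543) (.leaf 0x54231436542314354))) (.node (.node (.leaf 0x31423143542314354) (.leaf 0x3154316543)) (.leaf 790))) (.node (.node (.node (.leaf 0x3143654231) (.leaf 0x3154231436542345)) (.leaf 1620)) (.node (.node (.leaf 0x3142314542346) (.leaf 0x315423143654231435)) (.leaf 0x5423143654))))) (.node (.node (.node (.node (.node (.leaf 0x314234654231435) (.leaf 0x54231436543)) (.node (.leaf 344854) (.leaf 0x315423143654231435465))) (.node (.node (.leaf 0x314354) (.leaf 0x314234542345)) (.leaf 1381))) (.node (.node (.node (.leaf 12630) (.leaf 66)) (.node (.leaf 0x3154316542) (.leaf 0x31435423143542))) (.node (.node (.leaf 86) (.leaf 0x31435431)) (.leaf 1073)))) (.node (.node (.node (.node (.leaf 0x56542314354) (.leaf 16945)) (.node (.leaf 1346) (.leaf 0x423154316543))) (.node (.node (.leaf 0x3154234654234) (.leaf 0x3154231465423143)) (.leaf 0x431543654))) (.node (.node (.node (.leaf 0x314231454231435) (.leaf 0x31435423)) (.leaf 0x542316)) (.node (.node (.leaf 0x31431542) (.leaf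 344625)) (.leaf 0))))))) (.node (.node (.node (.node (.node (.node (.node (.leaf 0x314365423143542) (.leaf 4)) (.node (.leaf 0x315431654) (.leaf 0x425431))) (.node (.node (.leaf 0x3142314354231436) (.leaf 0x542314365431)) (.leaf 0x5423165))) (.node (.node (.node (.leaf 0x314234542654) (.leaf 271125)) (.node (.leaf 21542) (.leaf 0x5423143546542314356))) (.node (.node (.leaf 0x3142346542345) (.leaf 0x31542314654231435)) (.leaf 0)))) (.node (.node (.node (.node (.leaf 0x31423465423143) (.leaf 0x3143543)) (.node (.leaf 0x543165) (.leaf 0x31423454231436))) (.node (.node (.leaf 0x315436542) (.leaf 0x423143542314354)) (.leaf 6))) (.node (.node (.node (.leaf 0x654231) (.leaf 1061)) (.leaf 0x315436543)) (.node (.node (.leaf 84) (.leaf 0x4231435431)) (.leaf 17173))))) (.node (.node (.node (.node (.node (.leaf 0x6542314354) (.leaf 0x315423146542345)) (.node (.leaf 353602) (.leaf 0x42315431654))) (.node (.node (.leaf 0x565431) (.leaf 0x425465)) (.leaf 0x31423143542654))) (.node (.node (.node (.leaf 0x3142345423143) (.leaf 0x3143542)) (.node (.leaf 0x31423143542345) (.leaf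 0x3142345423143542))) (.node (.node (.leaf 0x31435431) (.leaf 21553)) (.leaf 21605)))) (.node (.node (.node (.node (.leaf 0x31423454234) (.leaf 344677)) (.node (.leaf 0x3142345426542) (.leaf 0x542314365423143546))) (.node (.node (.leaf 0) (.leaf 0x315431654)) (.leaf 49))) (.node (.node (.node (.leaf 0x3143542) (.leaf 0x31542314365423456)) (.leaf 22100)) (.node (.node (.leaf 0x314231454234) (.leaf 0x3154231436542314356)) (.leaf 0x314354)))))) (.node (.node (.node (.node (.node (.node (.leaf 0x3142346542314354) (.leaf 0x4231435423)) (.node (.leaf 21553) (.leaf 0x31542314365423143546))) (.node (.node (.leaf 0x314365431) (.leaf 0x31423454234)) (.leaf 101))) (.node (.node (.node (.leaf 789) (.leaf 1346)) (.node (.leaf 0x3143154) (.leaf 0x3143542314354))) (.node (.node (.leaf 5) (.leaf 0x542314365431)) (.leaf 789)))) (.node (.node (.node (.node (.leaf 0x314354) (.leaf 0x54265431)) (.node (.leaf 0x5426542) (.leaf 0x5423143654))) (.node (.node (.leaf 49) (.leaf 0x315423465423143)) (.leaf 0x542314354))) (.node (.node (.node (.leaf 0x31423145423143) (.leaf 0x542314365423))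 (.leaf 344625)) (.node (.node (.leaf 0x314365423) (.leaf 0x542316)) (.leaf 84))))) (.node (.node (.node (.node (.node (.leaf 0x3142345423465) (.leaf 1110)) (.node (.leaf 0x314315423) (.leaf 0x42543165))) (.node (.node (.leaf 0x3142314354231435) (.leaf 0x54231435465423456)) (.leaf 202085))) (.node (.node (.node (.leaf 0x546542314354) (.leaf 0x315423143654234)) (.node (.leaf 0x542654) (.leaf 0x5423143542))) (.node (.node (.leaf 0x3142345654234) (.leaf 0x31542314365423143)) (.leaf 0x423143542)))) (.node (.node (.node (.node (.leaf 0x314234542314365) (.leaf 0x42314354)) (.node (.leaf 0x31423143542346) (.leaf 0x31423454231435))) (.node (.node (.leaf 0x31543165431) (.leaf 0x543165)) (.leaf 86))) (.node (.node (.node (.leaf 0x54654231) (.leaf 16980)) (.leaf 0x31431543)) (.node (.node (.leaf 21605) (.leaf 0x314354231)) (.leaf 0)))))))) (.node (.node (.node (.node (.node (.node (.node (.node (.leaf 0x31423454234654234) (.leaf 0x3143543654)) (.node (.leaf 0x54265423143) (.leaf 0x315423146))) (.node (.node (.leaf 0x314354654231) (.leaf 0x54231436542345)) (.leaf 0x31542314365)))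 (.node (.node (.node (.leaf 0x314365423145) (.leaf 0x54316542345)) (.node (.leaf 0x314315465) (.leaf 0x4254316543))) (.node (.node (.leaf 0x316542345) (.leaf 0x3143543165)) (.leaf 0x431543)))) (.node (.node (.node (.node (.leaf 0x5654231435465) (.leaf 202051)) (.node (.leaf 0x31423143) (.leaf 0x5423143546543))) (.node (.node (.leaf 12611) (.leaf 0x5431654234)) (.leaf 0x31435431654234))) (.node (.node (.node (.leaf 0x31423456) (.leaf 0x3143542365)) (.leaf 0x315423146542)) (.node (.node (.leaf 0x3143543165) (.leaf 0x542316543)) (.leaf 0x43154234))))) (.node (.node (.node (.node (.node (.leaf 0x314234542346543) (.leaf 0x423154234)) (.node (.leaf 0x31431542365) (.leaf 0x5423143654231456))) (.node (.node (.leaf 0x31542346) (.leaf 0x542314354654234)) (.leaf 0x5423143))) (.node (.node (.node (.leaf 0x3143542654) (.leaf 0x314234542)) (.node (.leaf 0x3154231465) (.leaf 0x54231435465))) (.node (.node (.leaf 0x31423145426) (.leaf 0x42315423146)) (.leaf 0x54231435465)))) (.node (.node (.node (.node (.leaf 0x31565423143) (.leaf 0x3143542654)) (.node (.leaf 0x54316543)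 (.leaf 0x315423143))) (.node (.node (.leaf 0x314354365431) (.leaf 0x4231435423145)) (.leaf 0x314234))) (.node (.node (.node (.leaf 0x315436) (.leaf 0x5423165423456)) (.leaf 0x3143154365)) (.node (.node (.leaf 0x31423145) (.leaf 0x423143543165)) (.leaf 0x31543165423456)))))) (.node (.node (.node (.node (.node (.node (.leaf 0x6542314354265) (.leaf 0x542316543)) (.node (.leaf 0x3142314356) (.leaf 0x4231435431654))) (.node (.node (.leaf 0x3165431) (.leaf 0x3154234)) (.leaf 0x314354654))) (.node (.node (.node (.leaf 0x316542314) (.leaf 0x4231435465)) (.node (.leaf 0x3156543) (.leaf 0x425431654234))) (.node (.node (.leaf 0x542654231435465) (.leaf 0x3154316)) (.leaf 0x3142345)))) (.node (.node (.node (.node (.leaf 0x65423143) (.leaf 0)) (.node (.leaf 0x3143546542) (.leaf 0x54231436))) (.node (.node (.leaf 0x543165423143) (.leaf 0x314354316543)) (.leaf 201782))) (.node (.node (.node (.leaf 0x314354265) (.leaf 0x4231543)) (.leaf 0x315423143)) (.node (.node (.leaf 0x315431) (.leaf 0x5423165423145)) (.leaf 0x42314354265))))) (.node (.node (.node (.node (.node (.leaf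 0x31654231435) (.leaf 0x423143542365)) (.node (.leaf 0x31423456542) (.leaf 0x315423145))) (.node (.node (.leaf 0x31435436542) (.leaf 0x3143542345)) (.leaf 0x314234565))) (.node (.node (.node (.leaf 0x314234542) (.leaf 0x54231654234)) (.node (.leaf 0x3143546543) (.leaf 0x315423143542))) (.node (.node (.leaf 0x315654234) (.leaf 0x54231435465431)) (.leaf 0)))) (.node (.node (.node (.node (.leaf 0x31435465) (.leaf 0x3154231436542)) (.node (.leaf 0x31542314) (.leaf 0x54231435465423143))) (.node (.node (.leaf 0x543165431) (.leaf 0x42315423145)) (.leaf 0))) (.node (.node (.node (.leaf 0x314234) (.leaf 0x54231435465423)) (.leaf 0x31423143542)) (.node (.node (.leaf 0x31435431654) (.leaf 0x423154316)) (.leaf 0x542316542314))))))) (.node (.node (.node (.node (.node (.node (.node (.leaf 0x3165423143542) (.leaf 0x4231542345)) (.node (.leaf 0x31435465423) (.leaf 0x542314365423145))) (.node (.node (.leaf 0x3154234) (.leaf 0x423143543654)) (.leaf 0))) (.node (.node (.node (.leaf 0x54654231435465) (.leaf 0x3142345426)) (.node (.leaf 0x315423146) (.leaf 0x542314354654))) (.node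 (.node (.leaf 0x31436542345) (.leaf 0x4231542314)) (.leaf 0x423143542654)))) (.node (.node (.node (.node (.leaf 0x3165423143) (.leaf 0x5423143546543)) (.node (.leaf 0x31431542345) (.leaf 0x3154231436))) (.node (.node (.leaf 0x31435465431) (.leaf 0x54316543)) (.leaf 0x3142346))) (.node (.node (.node (.leaf 202051) (.leaf 0x542316542345)) (.leaf 0x31435436543)) (.node (.node (.leaf 0x314231456) (.leaf 0x31435423165)) (.leaf 0x3154316542345))))) (.node (.node (.node (.node (.node (.leaf 0x654231435465) (.leaf 0x315436)) (.node (.leaf 0x314231435) (.leaf 0x5423143546542314))) (.node (.node (.leaf 0x31565431) (.leaf 0x31542345)) (.leaf 0x31431543654))) (.node (.node (.node (.leaf 0x3156542314) (.leaf 0x5423143546542)) (.node (.leaf 201777) (.leaf 0x54231435465423143542654))) (.node (.node (.leaf 0x31431542654) (.leaf 0x315431)) (.leaf 0x431542345)))) (.node (.node (.node (.node (.leaf 0x565423143) (.leaf 0x5431654234)) (.node (.leaf 0x31435426542) (.leaf 0x5423143))) (.node (.node (.leaf 0x54316542314) (.leaf 0x31435431654)) (.leaf 12611))) (.node (.node (.node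 (.leaf 0x3143543654) (.leaf 0x42315436)) (.leaf 0x3154231436)) (.node (.node (.leaf 0x3154316) (.leaf 0x54231654231456)) (.leaf 0x542314354654)))))) (.node (.node (.node (.node (.node (.node (.leaf 0x314234) (.leaf 0x314354365)) (.node (.leaf 0x3142346542) (.leaf 0x31542314))) (.node (.node (.leaf 0x31435465) (.leaf 0x542314365423456)) (.leaf 0x31423465))) (.node (.node (.node (.leaf 0x3142345426) (.leaf 0x543165423456)) (.node (.leaf 0x314354316542) (.leaf 0x542314354654231435465))) (.node (.node (.leaf 0x31654234) (.leaf 0x4231435423165)) (.leaf 0x4315436)))) (.node (.node (.node (.node (.leaf 0x31435426543) (.leaf 0x423143)) (.node (.leaf 0) (.leaf 0x42314354316543))) (.node (.node (.leaf 0x31542346542) (.leaf 0x54231654234)) (.leaf 0))) (.node (.node (.node (.leaf 0x3142345) (.leaf 0x42314354365)) (.leaf 0x314231435426)) (.node (.node (.leaf 0x3143154265) (.leaf 0x42315431)) (.leaf 0x431542346))))) (.node (.node (.node (.node (.node (.leaf 12611) (.leaf 0x4231542346)) (.node (.leaf 0x314354316543) (.leaf 0x31435423145))) (.node (.node (.leaf 0x315423465)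 (.leaf 0x54231435465431)) (.leaf 0x54231436))) (.node (.node (.node (.leaf 0x314354365) (.leaf 0x5423165431)) (.node (.leaf 0x5423165423143) (.leaf 0x542314354265))) (.node (.node (.leaf 0x3142314542) (.leaf 0x542316542314)) (.leaf 0x31435465)))) (.node (.node (.node (.node (.leaf 0x3165423145) (.leaf 0x314354265)) (.node (.leaf 0x316543) (.leaf 0x3154231435))) (.node (.node (.leaf 0x3143543165431) (.leaf 0x5423165431)) (.leaf 0x31423456))) (.node (.node (.node (.leaf 0x5465423143) (.leaf 0x31542346)) (.leaf 0x3143543165423)) (.node (.node (.leaf 0x3142314) (.leaf 0x542314354654231)) (.leaf 0x423143542345)))))))))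

def repsE6 : List (ℕ × ℕ) := [(56, 36), (56, 42), (56, 16)]

theorem commChk_E6_0 : commChk tblE6 56 36 = true := by decide +kernel

theorem commChk_E6_1 : commChk tblE6 56 42 = true := by decide +kernel

theorem commChk_E6_2 : commChk tblE6 56 16 = true := by decide +kernel

theorem chkThree_E6 : chkThree Cfsg.Lie.chevE6 tblE6 = true := by decide +kernel

theorem chkPaths_E6 : chkPaths tblE6 repsE6 pathsE6 = true := by decide +kernel

theorem commCertE6 : CommCert Cfsg.Lie.chevE6 tblE6 where
  cert := certE6
  three := chkThree_E6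
  base := by
    refine ⟨repsE6, fun q hq => ?_, pathsE6, chkPaths_E6⟩
    simp only [repsE6, List.mem_cons, List.not_mem_nil, or_false] at hq
    rcases hq with rfl | rfl | rfl
    · exact ⟨by decide +kernel, by decide +kernel, commChk_E6_0⟩
    · exact ⟨by decide +kernel, by decide +kernel, commChk_E6_1⟩
    · exact ⟨by decide +kernel, by decide +kernel, commChk_E6_2⟩

end Cfsg.Lib.Chev
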