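import Cfsg.Agent.Lib.Chev.CommFormula
import Cfsg.Agent.Lib.Chev.FullF4

/-! The commutator certificate for type F4. -/

set_option autoImplicit false
set_option maxRecDepth 4000

namespace Cfsg.Lib.Chev

noncomputable def pathsF4 : BT := (.node (.node (.node (.node (.node (.node (.node (.node (.leaf 0x2143213234) (.leaf 0x32143213243)) (.leaf 3)) (.node (.node (.leaf 0) (.leaf 0x321432132)) (.leaf 0))) (.node (.node (.node (.leaf 0) (.leaf 0x2132343213234)) (.leaf 0x213213243)) (.node (.node (.leaf 0x2132132) (.leaf 0x21321324321323432132)) (.leaf 3)))) (.node (.node (.node (.node (.leaf 0x21432132) (.leaf 0x21323432132)) (.leaf 0x2132132)) (.node (.node (.leaf 52) (.leaf 0x3214321324)) (.leaf 3))) (.node (.node (.node (.leaf 52) (.leaf 0x3214321324)) (.leaf 835)) (.node (.node (.leaf 0) (.leaf 0x21321323)) (.leaf 0x321432132))))) (.node (.node (.node (.node (.node (.leaf 0x214321323) (.leaf 0)) (.leaf 52)) (.node (.node (.leaf 3) (.leaf 0x321432132)) (.leaf 52))) (.node (.node (.node (.leaf 3) (.leaf 0x321432132)) (.leaf 67)) (.node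 (.node (.leaf 0x21321323) (.leaf 0x2132132)) (.leaf 52)))) (.node (.node (.node (.node (.leaf 0x21323432132) (.leaf 0x213234321323)) (.leaf 0x21321324)) (.node (.node (.leaf 0x21321324) (.leaf 0x32143213243)) (.leaf 0))) (.node (.node (.node (.leaf 0) (.leaf 0x32143213243)) (.leaf 4)) (.node (.node (.leaf 0) (.leaf 0x213213234)) (.leaf 0x3214321324)))))) (.node (.node (.node (.node (.node (.node (.leaf 0) (.leaf 0x213213243234)) (.leaf 8993)) (.node (.node (.leaf 0x232143234) (.leaf 0x23243234)) (.leaf 0))) (.node (.node (.node (.leaf 0x432134) (.leaf 274996)) (.leaf 0x432134)) (.node (.node (.leaf 8993) (.leaf 0x232432134)) (.leaf 0x432132432)))) (.node (.node (.node (.node (.leaf 0) (.leaf 1)) (.leaf 0x1432134)) (.node (.node (.leaf 4658) (.leaf 8993)) (.leaf 0x232143234))) (.node (.node (.node (.leaf 274996) (.leaf 0x143234)) (.leaf 0)) (.node (.node (.leaf 1) (.leaf 0x2132132432132432)) (.leaf 0x432132432))))) (.node (.node (.node (.node (.node (.leaf 0x432132432) (.leaf 0)) (.leaf 0x432134)) (.node (.node (.leaf 0) (.leaf 0x4321324321))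 (.leaf 0))) (.node (.node (.node (.leaf 562) (.leaf 562)) (.leaf 0x23243234)) (.node (.node (.leaf 274996) (.leaf 0x2132132)) (.leaf 0x432134)))) (.node (.node (.node (.node (.leaf 0x1232432134) (.leaf 0x4321324321)) (.leaf 562)) (.node (.node (.leaf 0x143234) (.leaf 0x2132132432134)) (.leaf 0))) (.node (.node (.node (.leaf 0x123243234) (.leaf 0x432132343213234)) (.leaf 0x2132132)) (.node (.node (.leaf 274996) (.leaf 0x432132343213234)) (.leaf 562))))))) (.node (.node (.node (.node (.node (.node (.node (.leaf 0x43213234) (.leaf 135971)) (.leaf 801)) (.node (.node (.leaf 33) (.leaf 0x213213243213234323)) (.leaf 33))) (.node (.node (.node (.leaf 33) (.leaf 12820)) (.leaf 0)) (.node (.node (.leaf 0x213234) (.leaf 0x3214321324321)) (.leaf 0x3214323)))) (.node (.node (.node (.node (.leaf 33) (.leaf 0x21321324321)) (.leaf 801)) (.node (.node (.leaf 135971) (.leaf 801)) (.leaf 0x32143234))) (.node (.node (.node (.leaf 213793) (.leaf 0x213213243213234)) (.leaf 12820)) (.node (.node (.leaf 0x213234323) (.leaf 0x321323)) (.leaf 0x3214323))))) (.node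 (.node (.node (.node (.node (.leaf 0x4321323) (.leaf 0x321323)) (.leaf 12820)) (.node (.node (.leaf 0x213234) (.leaf 12820)) (.leaf 0x3214323))) (.node (.node (.node (.leaf 17185) (.leaf 0x21321324321323)) (.leaf 801)) (.node (.node (.leaf 33) (.leaf 0x3214321324321)) (.leaf 0x32143234)))) (.node (.node (.node (.node (.leaf 33) (.leaf 801)) (.leaf 12820)) (.node (.node (.leaf 135971) (.leaf 0x3214321324321)) (.leaf 0))) (.node (.node (.node (.leaf 0x213234323) (.leaf 0x3214323)) (.leaf 532)) (.node (.node (.leaf 0x214323) (.leaf 0x3213234)) (.leaf 0x32143234)))))) (.node (.node (.node (.node (.node (.node (.leaf 0x43213234323) (.leaf 0x43213234323)) (.leaf 1074)) (.node (.node (.leaf 0x123243) (.leaf 0x232432)) (.leaf 0))) (.node (.node (.node (.leaf 1074) (.leaf 0x432132343213)) (.leaf 82721)) (.node (.node (.leaf 1074) (.leaf 0x2324321)) (.leaf 67)))) (.node (.node (.node (.node (.leaf 67) (.leaf 1074)) (.leaf 143939)) (.node (.node (.leaf 67) (.leaf 0x21321324321)) (.leaf 0x213213243))) (.node (.node (.node (.leaf 143939) (.leaf 0x4321323432132))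 (.leaf 0x2321432)) (.node (.node (.leaf 323) (.leaf 0x213213243)) (.leaf 143939))))) (.node (.node (.node (.node (.node (.leaf 67) (.leaf 67)) (.leaf 0x232143)) (.node (.node (.leaf 0x2321432) (.leaf 0x232143)) (.leaf 0x232432))) (.node (.node (.node (.leaf 17185) (.leaf 5170)) (.leaf 67)) (.node (.node (.leaf 5170) (.leaf 0x4321323432132)) (.leaf 0x43213234323)))) (.node (.node (.node (.node (.leaf 0x12324321) (.leaf 323)) (.leaf 17185)) (.node (.node (.leaf 0x232143) (.leaf 0x432132343213)) (.leaf 17185))) (.node (.node (.node (.leaf 0x1232432) (.leaf 143939)) (.leaf 0)) (.node (.node (.leaf 17185) (.leaf 0x213213243213234323)) (.leaf 0x2132132432))))))))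

def repsF4 : List (ℕ × ℕ) := [(33, 24), (33, 27), (33, 4), (33, 7), (33, 8), (33, 15), (25, 24), (25, 27), (25, 33), (25, 0), (25, 2), (25, 9)]

theorem commChk_F4_0 : commChk tblF4 33 24 = true := by decide +kernel

theorem commChk_F4_1 : commChk tblF4 33 27 = true := by decide +kernel

theorem commChk_F4_2 : commChk tblF4 33 4 = true := by decide +kernel

theorem commChk_F4_3 : commChk tblF4 33 7 = true := by decide +kernel

theorem commChk_F4_4 : commChk tblF4 33 8 = true := by decide +kernel

theorem commChk_F4_5 : commChk tblF4 33 15 = true := by decide +kernel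

theorem commChk_F4_6 : commChk tblF4 25 24 = true := by decide +kernel

theorem commChk_F4_7 : commChk tblF4 25 27 = true := by decide +kernel

theorem commChk_F4_8 : commChk tblF4 25 33 = true := by decide +kernel

theorem commChk_F4_9 : commChk tblF4 25 0 = true := by decide +kernel

theorem commChk_F4_10 : commChk tblF4 25 2 = true := by decide +kernel

theorem commChk_F4_11 : commChk tblF4 25 9 = true := by decide +kernel

theorem chkThree_F4 : chkThree Cfsg.Lie.chevF4 tblF4 = true := by decide +kernel

theorem chkPaths_F4 : chkPaths tblF4 repsF4 pathsF4 = true := by decide +kernel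

theorem commCertF4 : CommCert Cfsg.Lie.chevF4 tblF4 where
  cert := certF4
  three := chkThree_F4
  base := by
    refine ⟨repsF4, fun q hq => ?_, pathsF4, chkPaths_F4⟩
    simp only [repsF4, List.mem_cons, List.not_mem_nil, or_false] at hq
    rcases hq with rfl | rfl | rfl | rfl | rfl | rfl | rfl | rfl | rfl | rfl | rfl | rfl
    · exact ⟨by decide +kernel, by decide +kernel, commChk_F4_0⟩
    · exact ⟨by decide +kernel, by decide +kernel, commChk_F4_1⟩
    · exact ⟨by decide +kernel, by decide +kernel, commChk_F4_2⟩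
    · exact ⟨by decide +kernel, by decide +kernel, commChk_F4_3⟩
    · exact ⟨by decide +kernel, by decide +kernel, commChk_F4_4⟩
    · exact ⟨by decide +kernel, by decide +kernel, commChk_F4_5⟩
    · exact ⟨by decide +kernel, by decide +kernel, commChk_F4_6⟩
    · exact ⟨by decide +kernel, by decide +kernel, commChk_F4_7⟩
    · exact ⟨by decide +kernel, by decide +kernel, commChk_F4_8⟩
    · exact ⟨by decide +kernel, by decide +kernel, commChk_F4_9⟩
    · exact ⟨by decide +kernel, by decide +kernel, commChk_F4_10⟩
    · exact ⟨by decide +kernel, by decide +kernel, commChk_F4_11⟩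

end Cfsg.Lib.Chev
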