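import Cfsg.Agent.Lib.Chev.Basic
import Cfsg.Agent.Lib.Chev.CertG2
import Cfsg.Agent.Lib.Chev.EvalG2

/-! The certified table for type G2. -/

set_option autoImplicit false

namespace Cfsg.Lib.Chev

theorem chkDesc_G2 : chkDesc tblG2 = true := by decide +kernel

theorem chkOrd_G2 : chkOrd Cfsg.Lie.chevG2 tblG2 [15, 23] = true := by decide +kernel

theorem certG2 : Cert Cfsg.Lie.chevG2 tblG2 where
  spec := specG2
  nOK i hi := by
    rw [show Cfsg.Lie.chevG2.rank = 2 from rfl] at hi
    interval_cases i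
    · exact nChk_G2_0
    · exact nChk_G2_1
  addOK i hi := by
    rw [show Cfsg.Lie.chevG2.rank = 2 from rfl] at hi
    interval_cases i
    · exact addChk_G2_0
    · exact addChk_G2_1
  desc := chkDesc_G2
  ord := ⟨_, chkOrd_G2⟩

end Cfsg.Lib.Chev
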