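import Cfsg.Agent.Lib.Chev.CommFormula
import Cfsg.Agent.Lib.Chev.FullG2

/-! The commutator certificate for type G2. -/

set_option autoImplicit false
set_option maxRecDepth 4000

namespace Cfsg.Lib.Chev

noncomputable def pathsG2 : BT := (.node (.node (.node (.node (.node (.leaf 0) (.leaf 135698)) (.leaf 0)) (.node (.node (.leaf 0) (.leaf 135698)) (.leaf 0))) (.node (.node (.node (.leaf 135698) (.leaf 135698)) (.leaf 0)) (.node (.node (.leaf 0) (.leaf 135698)) (.leaf 0)))) (.node (.node (.node (.node (.leaf 0) (.leaf 74017)) (.leaf 0)) (.node (.node (.leaf 0) (.leaf 74017)) (.leaf 0))) (.node (.node (.node (.leaf 0) (.leaf 74017)) (.leaf 0)) (.node (.node (.leaf 74017) (.leaf 74017)) (.leaf 0)))))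

def repsG2 : List (ℕ × ℕ) := [(7, 6), (7, 0), (7, 2), (7, 3), (7, 5), (6, 7), (6, 0), (6, 1), (6, 2), (6, 4)]

theorem commChk_G2_0 : commChk tblG2 7 6 = true := by decide +kernel

theorem commChk_G2_1 : commChk tblG2 7 0 = true := by decide +kernel

theorem commChk_G2_2 : commChk tblG2 7 2 = true := by decide +kernel

theorem commChk_G2_3 : commChk tblG2 7 3 = true := by decide +kernel

theorem commChk_G2_4 : commChk tblG2 7 5 = true := by decide +kernel

theorem commChk_G2_5 : commChk tblG2 6 7 = true := by decide +kernel

theorem commChk_G2_6 : commChk tblG2 6 0 = true := by decide +kernel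

theorem commChk_G2_7 : commChk tblG2 6 1 = true := by decide +kernel

theorem commChk_G2_8 : commChk tblG2 6 2 = true := by decide +kernel

theorem commChk_G2_9 : commChk tblG2 6 4 = true := by decide +kernel

theorem chkThree_G2 : chkThree Cfsg.Lie.chevG2 tblG2 = true := by decide +kernel

theorem chkPaths_G2 : chkPaths tblG2 repsG2 pathsG2 = true := by decide +kernel

theorem commCertG2 : CommCert Cfsg.Lie.chevG2 tblG2 where
  cert := certG2
  three := chkThree_G2
  base := by
    refine ⟨repsG2, fun q hq => ?_, pathsG2, chkPaths_G2⟩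
    simp only [repsG2, List.mem_cons, List.not_mem_nil, or_false] at hq
    rcases hq with rfl | rfl | rfl | rfl | rfl | rfl | rfl | rfl | rfl | rfl
    · exact ⟨by decide +kernel, by decide +kernel, commChk_G2_0⟩
    · exact ⟨by decide +kernel, by decide +kernel, commChk_G2_1⟩
    · exact ⟨by decide +kernel, by decide +kernel, commChk_G2_2⟩
    · exact ⟨by decide +kernel, by decide +kernel, commChk_G2_3⟩
    · exact ⟨by decide +kernel, by decide +kernel, commChk_G2_4⟩
    · exact ⟨by decide +kernel, by decide +kernel, commChk_G2_5⟩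
    · exact ⟨by decide +kernel, by decide +kernel, commChk_G2_6⟩
    · exact ⟨by decide +kernel, by decide +kernel, commChk_G2_7⟩
    · exact ⟨by decide +kernel, by decide +kernel, commChk_G2_8⟩
    · exact ⟨by decide +kernel, by decide +kernel, commChk_G2_9⟩

end Cfsg.Lib.Chev
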