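import Mathlib
import Cfsg.Prelude.Def_LieExceptional
import Cfsg.Agent.Lib.Linear.BNPair

/-!
The exchange condition implies a Coxeter presentation, and the Weyl group of a `(B, N)`-pair satisfies
the exchange condition.
-/

set_option autoImplicit false

namespace Cfsg.Lib.Chev

section Exchange

variable {ι W : Type*} [Group W] (S : ι → W)

/-- The product of a word. -/
def wprod (a : List ι) : W := (a.map S).prod

theorem wprod_cons (i : ι) (a : List ι) : wprod S (i :: a) = S i * wprod S a := by simp [wprod]

theorem wprod_append (a b : List ι) : wprod S (a ++ b) = wprod S a * wprod S b := by simp [wprod]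

/-- A word is reduced. -/
def WReduced (a : List ι) : Prop := ∀ b : List ι, wprod S b = wprod S a → a.length ≤ b.length

/-- The exchange condition. -/
def Exchange : Prop := ∀ (i : ι) (a : List ι), WReduced S a → ¬ WReduced S (i :: a) →
  ∃ k < a.length, wprod S (i :: a) = wprod S (a.eraseIdx k)

/-- The alternating word starting with `i`. -/
def altW (i j : ι) : ℕ → List ι
  | 0 => []
  | n + 1 => i :: altW j i n

theorem altW_length (i j : ι) : ∀ n, (altW i j n).length = n
  | 0 => rfl
  | n + 1 => by simp [altW, altW_length j i n]

theorem mul_pow_mul {G : Type*} [Group G] (x y : G) : ∀ m : ℕ, x * (y * x) ^ m * y = (x * y) ^ (m + 1)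
  | 0 => by simp
  | m + 1 => by
    rw [pow_succ (y * x) m, pow_succ (x * y) (m + 1), ← mul_pow_mul x y m]
    simp only [mul_assoc]

theorem altW_prod_quot {G : Type*} [Group G] (T : ι → G) (hT : ∀ i, T i * T i = 1) :
    ∀ (n : ℕ) (i j : ι), wprod T (altW i j n) * (wprod T (altW j i n))⁻¹ = (T i * T j) ^ n
  | 0, i, j => by simp [altW, wprod]
  | n + 1, i, j => by
    have hi : ∀ a, (T a)⁻¹ = T a := fun a => inv_eq_of_mul_eq_one_left (hT a)
    rw [← mul_pow_mul, ← altW_prod_quot T hT n j i]
    simp only [altW, wprod_cons, mul_inv_rev, hi, mul_assoc]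

variable {S}
variable {G : Type*} [Group G] {T : ι → G} (hS : ∀ i, S i * S i = 1) (hT : ∀ i, T i * T i = 1)
  (hrel : ∀ i j n, (S i * S j) ^ n = 1 → (T i * T j) ^ n = 1) (hex : Exchange S)

theorem WReduced.tail {i : ι} {a : List ι} (h : WReduced S (i :: a)) : WReduced S a := fun b hb => by
  have := h (i :: b) (by rw [wprod_cons, wprod_cons, hb])
  simpa using this

include hS hT hrel hex

/-- Words of the same element, both reduced, agree in every group satisfying the relations. -/
theorem reduced_agree : ∀ (k : ℕ) (a b : List ι), a.length = k → WReduced S a → WReduced S b →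
    wprod S a = wprod S b → wprod T a = wprod T b := by
  intro k
  induction k with
  | zero =>
    intro a b ha _ hb e
    obtain rfl := List.length_eq_zero_iff.1 ha
    obtain rfl : b = [] := List.length_eq_zero_iff.1 (Nat.le_zero.1 (hb [] e))
    rfl
  | succ k ih =>
    have same : ∀ (i : ι) (a b : List ι), a.length = k → WReduced S (i :: a) → WReduced S (i :: b) →
        wprod S (i :: a) = wprod S (i :: b) → wprod T (i :: a) = wprod T (i :: b) := fun i a b ha h1 h2 e => by
      rw [wprod_cons, wprod_cons] at e
      rw [wprod_cons, wprod_cons, ih a b ha h1.tail h2.tail (mul_left_cancel e)]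
    have step : ∀ (n : ℕ), 0 < n → ∀ (i j : ι) (a b : List ι),
        (altW i j n ++ a).length = k + 1 → WReduced S (altW i j n ++ a) → WReduced S (j :: b) →
        wprod S (altW i j n ++ a) = wprod S (j :: b) →
        (∀ a' : List ι, a'.length < a.length → (altW j i (n + 1) ++ a').length = k + 1 →
          WReduced S (altW j i (n + 1) ++ a') → ∀ b' : List ι, WReduced S (i :: b') →
          wprod S (altW j i (n + 1) ++ a') = wprod S (i :: b') → wprod T (altW j i (n + 1) ++ a') = wprod T (i :: b')) →
        wprod T (altW i j n ++ a) = wprod T (j :: b) := by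
      intro n hn0 i j a b hl h1 h2 e hrec
      have hbk : b.length = k := by
        have x1 := h2 _ e
        have x2 := h1 _ e.symm
        simp [altW_length] at x1 x2 hl
        omega
      have hnr : ¬ WReduced S (j :: (altW i j n ++ a)) := fun hr => by
        have := hr b (by rw [wprod_cons S j (altW i j n ++ a), e, wprod_cons, ← mul_assoc, hS, one_mul])
        simp [altW_length] at this hl
        omega
      obtain ⟨m, hm, em⟩ := hex j _ h1 hnr
      rw [wprod_cons] at em
      by_cases hmn : m < n
      · -- the deleted letter lies in the alternating part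
        rw [List.eraseIdx_append_of_lt_length (by rwa [altW_length]), wprod_append, wprod_append, ← mul_assoc] at em
        have eu : wprod S (altW i j n) = wprod S (j :: (altW i j n).eraseIdx m) := by
          rw [wprod_cons, ← mul_right_cancel em, ← mul_assoc, hS, one_mul]
        have hu : WReduced S (altW i j n) := fun c hc => by
          have := h1 (c ++ a) (by rw [wprod_append, wprod_append, hc])
          simp [altW_length] at this ⊢
          omega
        -- reduced words in two letters alternate
        have halt : ∀ (c : List ι) (x y : ι), (∀ z ∈ c, z = x ∨ z = y) → WReduced S (x :: c) →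
            x :: c = altW x y (c.length + 1) := by
          intro c
          induction c with
          | nil => intro x y _ _; rfl
          | cons z c ihc =>
            intro x y hz hr
            rcases hz z (List.mem_cons_self ..) with rfl | rfl
            · have := hr c (by rw [wprod_cons, wprod_cons, ← mul_assoc, hS, one_mul])
              simp at this
            · have := ihc z x (fun w hw => (hz w (List.mem_cons_of_mem _ hw)).symm) hr.tail
              rw [show x :: z :: c = x :: altW z x (c.length + 1) by rw [this]]
              rfl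
        have hlen : (j :: (altW i j n).eraseIdx m).length = n := by
          rw [List.length_cons, List.length_eraseIdx_of_lt (by rwa [altW_length]), altW_length]; omega
        have hred : WReduced S (j :: (altW i j n).eraseIdx m) := fun c hc => by
          rw [hlen, ← altW_length i j n]; exact hu c (hc.trans eu.symm)
        have hmem : ∀ (n : ℕ) (x y : ι), ∀ z ∈ altW x y n, z = x ∨ z = y := by
          intro n
          induction n with
          | zero => intro x y z hz; simp [altW] at hz
          | succ n ihn =>
            intro x y z hz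
            rcases List.mem_cons.1 hz with rfl | hz
            · exact Or.inl rfl
            · exact (ihn y x z hz).symm
        have hshape := halt _ j i (fun z hz => (hmem n i j z (List.eraseIdx_subset hz)).symm) hred
        have hlen' : ((altW i j n).eraseIdx m).length + 1 = n := by rw [← List.length_cons (a := j)]; exact hlen
        rw [hlen'] at hshape
        rw [hshape] at eu
        have hpow : (S i * S j) ^ n = 1 := by rw [← altW_prod_quot S hS, eu, mul_inv_cancel]
        have hTe : wprod T (altW i j n) = wprod T (altW j i n) := by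
          rw [← mul_inv_eq_one, altW_prod_quot T hT]; exact hrel i j n hpow
        rw [wprod_append, hTe, ← wprod_append]
        obtain ⟨n', rfl⟩ : ∃ n', n = n' + 1 := ⟨n - 1, by omega⟩
        refine same j (altW i j n' ++ a) b ?_ ?_ h2 ?_
        · simp [altW_length] at hl ⊢; omega
        · intro c hc
          have := h1 c (by rw [hc, ← List.cons_append, ← altW, wprod_append, wprod_append, eu])
          simpa [altW_length, altW] using this
        · rw [← List.cons_append, ← altW, wprod_append, ← eu, ← wprod_append]; exact e
      · -- the deleted letter lies behind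
        rw [List.eraseIdx_append_of_length_le (by rw [altW_length]; omega)] at em
        have hm' : m - (altW i j n).length < a.length := by
          simp [altW_length] at hm ⊢; omega
        set a' := a.eraseIdx (m - (altW i j n).length) with ha'
        have hla : a'.length + 1 = a.length := by
          rw [ha', List.length_eraseIdx_of_lt hm']; omega
        have ev : wprod S (altW j i (n + 1) ++ a') = wprod S (altW i j n ++ a) := by
          rw [altW, List.cons_append, wprod_cons, ← em, ← mul_assoc, hS, one_mul]
        have hl' : (altW j i (n + 1) ++ a').length = k + 1 := by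
          simp [altW_length] at hl ⊢; omega
        have hr' : WReduced S (altW j i (n + 1) ++ a') := fun c hc => by
          rw [hl', ← hl]; exact h1 c (hc.trans ev)
        obtain ⟨n', rfl⟩ : ∃ n', n = n' + 1 := ⟨n - 1, by omega⟩
        have h3 := hrec a' (by omega) hl' hr' (altW j i n' ++ a) h1 ev
        have h4 := same j (altW i j (n' + 1) ++ a') b (by simp [altW, altW_length] at hl' ⊢; omega) hr' h2 (ev.trans e)
        exact h3.symm.trans h4
    have main : ∀ (d n : ℕ), d + n = k + 1 → 0 < n → ∀ (i j : ι) (a b : List ι),
        (altW i j n ++ a).length = k + 1 → WReduced S (altW i j n ++ a) → WReduced S (j :: b) →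
        wprod S (altW i j n ++ a) = wprod S (j :: b) → wprod T (altW i j n ++ a) = wprod T (j :: b) := by
      intro d
      induction d with
      | zero =>
        intro n hn hn0 i j a b hl h1 h2 e
        exact step n hn0 i j a b hl h1 h2 e fun a' hlt => by
          simp [altW_length] at hl
          omega
      | succ d ihd =>
        intro n hn hn0 i j a b hl h1 h2 e
        exact step n hn0 i j a b hl h1 h2 e fun a' _ hl' h1' b' h2' e' =>
          ihd (n + 1) (by omega) (by omega) j i a' b' hl' h1' h2' e'
    intro a b ha h1 h2 e
    obtain ⟨i, a, rfl⟩ := List.exists_cons_of_length_eq_add_one ha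
    have hbl : b.length = k + 1 := le_antisymm (ha ▸ h2 _ e) (ha ▸ h1 _ e.symm)
    obtain ⟨j, b, rfl⟩ := List.exists_cons_of_length_eq_add_one hbl
    exact main k 1 (by omega) one_pos i j a b ha h1 h2 e

end Exchange

section System

variable {ι W : Type*} [Group W] {S : ι → W}

theorem exists_wreduced (hS : ∀ i, S i * S i = 1) (hgen : Subgroup.closure (Set.range S) = ⊤) (w : W) :
    ∃ a : List ι, WReduced S a ∧ wprod S a = w := by
  have hi : ∀ a, (S a)⁻¹ = S a := fun a => inv_eq_of_mul_eq_one_left (hS a)
  have h : ∃ a : List ι, wprod S a = w := by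
    have hw : w ∈ Subgroup.closure (Set.range S) := by rw [hgen]; exact Subgroup.mem_top w
    induction hw using Subgroup.closure_induction with
    | mem x hx => obtain ⟨i, rfl⟩ := hx; exact ⟨[i], by simp [wprod]⟩
    | one => exact ⟨[], rfl⟩
    | mul x y _ _ hx hy =>
      obtain ⟨a, rfl⟩ := hx
      obtain ⟨b, rfl⟩ := hy
      exact ⟨a ++ b, wprod_append S a b⟩
    | inv x _ hx =>
      obtain ⟨a, rfl⟩ := hx
      refine ⟨a.reverse, ?_⟩
      induction a with
      | nil => simp [wprod]
      | cons i a ih =>
        have hm : wprod S a ∈ Subgroup.closure (Set.range S) := hgen ▸ Subgroup.mem_top _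
        rw [List.reverse_cons, wprod_append, ih hm, wprod_cons, wprod_cons, mul_inv_rev, hi]
        simp [wprod]
  classical
  have hne : ∃ n, ∃ a : List ι, wprod S a = w ∧ a.length = n := ⟨_, h.choose, h.choose_spec, rfl⟩
  obtain ⟨a, ha, hl⟩ := Nat.find_spec hne
  exact ⟨a, fun b hb => hl ▸ Nat.find_le ⟨b, hb.trans ha, rfl⟩, ha⟩

/-- Under the exchange condition the generators satisfy no relations beyond the Coxeter relations. -/
theorem exists_hom {G : Type*} [Group G] {T : ι → G} (hS : ∀ i, S i * S i = 1) (hT : ∀ i, T i * T i = 1)
    (hgen : Subgroup.closure (Set.range S) = ⊤) (hrel : ∀ i j n, (S i * S j) ^ n = 1 → (T i * T j) ^ n = 1)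
    (hex : Exchange S) : ∃ φ : W →* G, ∀ i, φ (S i) = T i := by
  choose red hred hprod using exists_wreduced hS hgen
  have agree : ∀ a, WReduced S a → wprod T (red (wprod S a)) = wprod T a := fun a ha =>
    reduced_agree hS hT hrel hex _ _ _ rfl (hred _) ha (hprod _)
  have hmul : ∀ (i : ι) (w : W), wprod T (red (S i * w)) = T i * wprod T (red w) := by
    intro i w
    have e : wprod S (i :: red w) = S i * w := by rw [wprod_cons, hprod]
    by_cases h : WReduced S (i :: red w)
    · rw [← e, agree _ h, wprod_cons]
    · obtain ⟨k, hk, ek⟩ := hex i _ (hred w) h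
      set c := (red w).eraseIdx k
      have hcl : c.length + 1 = (red w).length := by
        rw [List.length_eraseIdx_of_lt hk]; omega
      have hc2 : wprod S (i :: c) = w := by
        rw [wprod_cons, ← ek, e, ← mul_assoc, hS, one_mul]
      have hr2 : WReduced S (i :: c) := fun b hb => by
        have := hred w b ((hb.trans hc2).trans (hprod w).symm)
        simp only [List.length_cons]; omega
      have h1 := agree _ hr2
      rw [hc2, wprod_cons] at h1
      have h2 := agree _ hr2.tail
      rw [← ek, e] at h2
      rw [h2, h1, ← mul_assoc, hT, one_mul]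
  have hnil : wprod T (red 1) = 1 := agree [] fun _ _ => Nat.zero_le _
  have hword : ∀ (a : List ι) (w : W), wprod T (red (wprod S a * w)) = wprod T a * wprod T (red w) := by
    intro a
    induction a with
    | nil => intro w; simp [wprod]
    | cons i a ih => intro w; rw [wprod_cons, mul_assoc, hmul, ih, wprod_cons, mul_assoc]
  refine ⟨MonoidHom.mk' (fun w => wprod T (red w)) fun v w => ?_, fun i => ?_⟩
  · conv_lhs => rw [← hprod v]
    exact hword _ _
  · show wprod T (red (S i)) = T i
    rw [← mul_one (S i), hmul, hnil, mul_one]

/-- The Coxeter system given by the orders of the products of the generators. -/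
theorem exists_coxeterSystem (M : CoxeterMatrix ι) (hS : ∀ i, S i * S i = 1)
    (hgen : Subgroup.closure (Set.range S) = ⊤) (hM : ∀ i j, orderOf (S i * S j) = M i j) (hex : Exchange S) :
    ∃ cs : CoxeterSystem M W, ∀ i, cs.simple i = S i := by
  obtain ⟨φ, hφ⟩ := exists_hom (T := M.toCoxeterSystem.simple) hS M.toCoxeterSystem.simple_mul_simple_self hgen
    (fun i j n h => by
      obtain ⟨k, hk⟩ := orderOf_dvd_of_pow_eq_one h
      rw [hk, hM, pow_mul, M.toCoxeterSystem.simple_mul_simple_pow, one_pow]) hex
  have hlift : M.IsLiftable S := fun i j => by rw [← hM]; exact pow_orderOf_eq_one _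
  set ψ := M.toCoxeterSystem.lift ⟨S, hlift⟩
  have hψ : ∀ i, ψ (M.toCoxeterSystem.simple i) = S i := fun i => M.toCoxeterSystem.lift_apply_simple hlift i
  have h1 : ψ.comp φ = MonoidHom.id W := by
    refine MonoidHom.eq_of_eqOn_dense hgen ?_
    rintro _ ⟨i, rfl⟩
    rw [MonoidHom.comp_apply, hφ, hψ, MonoidHom.id_apply]
  have h2 : φ.comp ψ = MonoidHom.id M.Group := M.toCoxeterSystem.ext_simple fun i => by
    rw [MonoidHom.comp_apply, hψ, hφ, MonoidHom.id_apply]
  refine ⟨⟨φ.toMulEquiv ψ h1 h2⟩, fun i => ?_⟩
  exact hψ i

end System

section Weyl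

open Cfsg

variable {G : Type*} [Group G] (P : BNPair G) [hN : ((P.B ⊓ P.N).subgroupOf P.N).Normal]

/-- The Weyl group of a `(B, N)`-pair. -/
abbrev WeylQ : Type _ := P.N ⧸ (P.B ⊓ P.N).subgroupOf P.N

/-- The distinguished involutions of the Weyl group. -/
def weylS (s : P.S) : WeylQ P := QuotientGroup.mk (⟨(s : G), P.subset s.2⟩ : P.N)

variable {P}

theorem mk_eq_mk {a b : P.N} : (QuotientGroup.mk a : WeylQ P) = QuotientGroup.mk b ↔
    Linear.BN.Same P (a : G) (b : G) := by
  rw [QuotientGroup.eq, Subgroup.mem_subgroupOf]
  rfl

theorem wprod_weylS (a : List P.S) : wprod (weylS P) a =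
    QuotientGroup.mk (⟨(a.map Subtype.val).prod, Linear.BN.prod_mem_N fun r hr => by
      obtain ⟨x, -, rfl⟩ := List.mem_map.1 hr; exact x.2⟩ : P.N) := by
  induction a with
  | nil => rfl
  | cons s a ih =>
    rw [wprod_cons, ih, weylS, ← QuotientGroup.mk_mul]
    rfl

theorem weylS_sq (s : P.S) : weylS P s * weylS P s = 1 := by
  rw [weylS, ← QuotientGroup.mk_mul, QuotientGroup.eq_one_iff, Subgroup.mem_subgroupOf]
  exact Linear.BN.sq_mem_T s.2

theorem weylS_injective : Function.Injective (weylS P) := fun s t h =>
  Subtype.ext (P.inj s s.2 t t.2 (mk_eq_mk.1 h).1)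

theorem closure_weylS : Subgroup.closure (Set.range (weylS P)) = ⊤ := by
  rw [eq_top_iff]
  intro x _
  induction x using QuotientGroup.induction_on with
  | _ n =>
    obtain ⟨l, hl, h⟩ := Linear.BN.exists_word_N n.2
    lift l to List P.S using hl
    rw [← mk_eq_mk.2 (show Linear.BN.Same P ((⟨(l.map Subtype.val).prod, Linear.BN.prod_mem_N fun r hr => by
      obtain ⟨x, -, rfl⟩ := List.mem_map.1 hr; exact x.2⟩ : P.N) : G) (n : G) from h), ← wprod_weylS]
    exact list_prod_mem fun y hy => by
      obtain ⟨s, -, rfl⟩ := List.mem_map.1 hy
      exact Subgroup.subset_closure ⟨s, rfl⟩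

theorem wreduced_iff (a : List P.S) :
    WReduced (weylS P) a ↔ Linear.BN.len P (a.map Subtype.val).prod = a.length := by
  have hS : ∀ (a : List P.S) (r : G), r ∈ a.map Subtype.val → r ∈ P.S := fun a r hr => by
    obtain ⟨x, -, rfl⟩ := List.mem_map.1 hr; exact x.2
  have hN' := Linear.BN.prod_mem_N (hS a)
  constructor
  · intro h
    obtain ⟨l, hl, hlS, hsame⟩ := Linear.BN.exists_reduced hN'
    lift l to List P.S using hlS
    have := h l (by rw [wprod_weylS, wprod_weylS]; exact mk_eq_mk.2 hsame)
    have h1 := Linear.BN.len_le (hS a) Linear.BN.Same.rfl'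
    simp only [List.length_map] at hl h1
    omega
  · intro h b hb
    rw [wprod_weylS, wprod_weylS, mk_eq_mk] at hb
    have := Linear.BN.len_le (hS b) hb
    simp only [List.length_map] at this
    omega

theorem weyl_exchange : Exchange (weylS P) := by
  intro s a ha hna
  rw [wreduced_iff] at ha hna
  have hS : ∀ r ∈ a.map Subtype.val, r ∈ P.S := fun r hr => by
    obtain ⟨x, -, rfl⟩ := List.mem_map.1 hr; exact x.2
  have hlt : Linear.BN.len P ((s : G) * (a.map Subtype.val).prod) < (a.map Subtype.val).length := by
    have h1 := Linear.BN.len_mul_cases s.2 (Linear.BN.prod_mem_N hS)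
    simp only [List.map_cons, List.prod_cons, List.length_cons] at hna
    rw [List.length_map]
    omega
  obtain ⟨k, hk, h⟩ := Linear.BN.exchange _ hS (by rw [List.length_map]; exact ha) s s.2 hlt
  rw [List.length_map] at hk
  refine ⟨k, hk, ?_⟩
  rw [wprod_weylS, wprod_weylS, mk_eq_mk]
  show Linear.BN.Same P (List.map Subtype.val (s :: a)).prod (List.map Subtype.val (a.eraseIdx k)).prod
  rw [List.map_cons, List.prod_cons, ← List.eraseIdx_map]
  exact h.symm

variable (P) in
/-- The Coxeter matrix of the Weyl group. -/
noncomputable def weylM : CoxeterMatrix P.S where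
  M s t := orderOf (weylS P s * weylS P t)
  isSymm := by
    have hi : ∀ s, (weylS P s)⁻¹ = weylS P s := fun s => inv_eq_of_mul_eq_one_left (weylS_sq s)
    refine Matrix.IsSymm.ext fun s t => ?_
    rw [← orderOf_inv (weylS P s * weylS P t), mul_inv_rev, hi, hi]
  diagonal s := by rw [weylS_sq, orderOf_one]
  off_diagonal s t hne h := by
    rw [orderOf_eq_one_iff] at h
    exact hne (weylS_injective (mul_right_cancel (b := weylS P t) (h.trans (weylS_sq t).symm)))

variable (P) in
theorem weyl_coxeterSystem : ∃ cs : CoxeterSystem (weylM P) (WeylQ P), ∀ s, cs.simple s = weylS P s :=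
  exists_coxeterSystem (weylM P) weylS_sq closure_weylS (fun _ _ => rfl) weyl_exchange

end Weyl

end Cfsg.Lib.Chev
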