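import Cfsg.Agent.Lib.Chev.CoxeterTypes

/-!
Centres of finite Coxeter groups from certificates.
-/

set_option autoImplicit false

namespace Cfsg.Lib.Chev

open Cfsg.Lie

/-- Only `±αⱼ` are negated by the reflection in `αⱼ`; coordinates of roots; a root of full support. -/
noncomputable def chkRootData (T : Tbl) : Bool :=
  allBelow (fun j => allBelow (fun x =>
      !decide (T.refl' j x = T.neg x) || (decide (x = T.simp' j) || decide (x = T.neg (T.simp' j)))) T.nroots &&
    allBelow (fun k => decide (T.coroot (T.simp' j) k = if j = k then 1 else 0) &&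
      decide (T.coroot (T.neg (T.simp' j)) k = if j = k then -1 else 0)) T.rank) T.rank &&
  !allBelow (fun r => !allBelow (fun k => decide (T.coroot r k ≠ 0)) T.rank) T.nroots

/-- The word sends every root to its negative. -/
noncomputable def chkMinusOne (T : Tbl) (c : List ℕ) : Bool :=
  allBelow (fun s => decide (wperm T c s = T.neg s)) T.nroots

/-- The word sends all fundamental roots to negative roots, not all to their own negatives. -/
noncomputable def chkNoMinusOne (T : Tbl) (w : List ℕ) : Bool :=
  allBelow (fun k => decide (2 * wperm T w (T.simp' k) < T.nroots)) T.rank &&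
    !allBelow (fun k => decide (wperm T w (T.simp' k) = T.neg (T.simp' k))) T.rank

variable {D : ChevalleyDatum} {T : Tbl} (C : Cert D T) (K : FullCert D T)
include C K

/-- A word with no negated positive root is trivial. -/
theorem eq_nil_of_negSet {Ls : List WLevel} (hW : chkWeyl T Ls = true) :
    ∀ m ≤ D.rank, ∀ u ∈ allW (nth ([], []) Ls) m, (negSet D T u).card = 0 → u = [] := by
  intro m
  induction m with
  | zero => intro _ u hu _; simpa [allW] using hu
  | succ m ih =>
    intro hm u hu h0
    obtain ⟨a, ha, v, hv, rfl⟩ := (mem_allW_succ C K hW).1 hu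
    obtain ⟨hb, -, hlen, hpos⟩ := rep_spec C K hW hm a ha
    rw [negSet_append C K (Nat.le_of_succ_le hm) (hb.isWord hm)
      (allW_below C K hW m (Nat.le_of_succ_le hm) v hv) hpos, hlen] at h0
    rw [ih (Nat.le_of_succ_le hm) v hv (by omega), List.append_nil]
    exact List.length_eq_zero_iff.1 (by omega)

theorem samePerm_nil_of_simple_pos {Ls : List WLevel} (hW : chkWeyl T Ls = true) {u : List ℕ} (hu : IsWord D u)
    (h : ∀ k < D.rank, D.nroots ≤ 2 * wperm T u (T.simp' k)) : SamePerm D T u [] := by
  obtain ⟨v, hv, hvs⟩ := allW_complete C K hW D.rank le_rfl u hu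
  have h0 : (negSet D T u).card = 0 := by
    rw [Finset.card_eq_zero, Finset.eq_empty_iff_forall_notMem]
    intro s hs
    obtain ⟨hs1, hs2, hs3⟩ := mem_negSet.1 hs
    have : D.nroots ≤ 2 * wperm T u s := pos_of_forall C (wperm_lt C hu hs1) fun q hq => by
      rw [coroot_wperm C hu hs1 q hq]
      exact Finset.sum_nonneg fun k hk => mul_nonneg (coroot_nonneg C hs1 hs2 (Finset.mem_range.1 hk))
        (coroot_nonneg C (wperm_lt C hu (C.spec.simp_lt k (Finset.mem_range.1 hk))) (h k (Finset.mem_range.1 hk)) hq)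
    omega
  rw [← negSet_congr hvs] at h0
  have := eq_nil_of_negSet C K hW D.rank le_rfl v hv h0
  rw [this] at hvs
  exact hvs.symm

variable {M : CoxeterMatrix (Fin D.rank)}
  (hM : chkCox T (fun i : Fin D.rank => [i.val]) (fun i j => M i j) = true)
include hM

/-- The dictionary between words and elements of the Coxeter group. -/
theorem exists_dictionary :
    ∃ π : List ℕ → M.Group, (∀ y, ∃ w, IsWord D w ∧ π w = y) ∧
      (∀ v w, IsWord D v → IsWord D w → (π v = π w ↔ SamePerm D T v w)) ∧
      (∀ v w, IsWord D v → IsWord D w → π (v ++ w) = π v * π w) ∧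
      π [] = 1 ∧ (∀ i : Fin D.rank, π [i.val] = M.simple i) := by
  classical
  obtain ⟨φ, hsurj, hker, hφ⟩ := exists_monomial_hom C K ℚ M hM
  let π : List ℕ → M.Group := fun w => if h : IsWord D w then φ ⟨wnu C ℚ w, wnu_mem C h⟩ else 1
  have hπ : ∀ w (h : IsWord D w), π w = φ ⟨wnu C ℚ w, wnu_mem C h⟩ := fun w h => dif_pos h
  refine ⟨π, fun y => ?_, fun v w hv hw => ?_, fun v w hv hw => ?_, ?_, fun i => ?_⟩
  · obtain ⟨g, rfl⟩ := hsurj y
    obtain ⟨w, hw, d, hd, e⟩ := (mem_monomial C).1 g.2
    refine ⟨w, hw, ?_⟩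
    rw [hπ w hw, ← inv_mul_eq_one, ← map_inv, ← map_mul, ← MonoidHom.mem_ker, hker, Subgroup.mem_subgroupOf]
    show (wnu C ℚ w)⁻¹ * (g : GL D.Idx ℚ) ∈ _
    rw [e, inv_mul_cancel_left]
    exact hd
  · rw [hπ v hv, hπ w hw, ← inv_mul_eq_one, ← map_inv, ← map_mul, ← MonoidHom.mem_ker, hker, Subgroup.mem_subgroupOf]
    exact ⟨fun h s hs => perm_of_same C hv hw h hs, fun h => same_of_perm C K hv hw fun k hk => h _ (C.spec.simp_lt k hk)⟩
  · rw [hπ v hv, hπ w hw, hπ _ (hv.append hw), ← map_mul]
    exact congrArg φ (Subtype.ext (wnu_append C v w))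
  · rw [hπ [] (fun i hi => absurd hi List.not_mem_nil)]
    exact map_one φ
  · have hw : IsWord D [i.val] := IsWord.cons i.2 fun j hj => absurd hj List.not_mem_nil
    rw [hπ _ hw]
    exact hφ i _ ((eq_nu_iff C i.2).2 (by simp [wnu]))

variable {Ls : List WLevel}

/-- A central word fixes all fundamental roots or negates all of them. -/
theorem central_cases (hR : chkRootData T = true) {w : List ℕ} (hw : IsWord D w)
    (hc : ∀ j < D.rank, SamePerm D T (w ++ [j]) ([j] ++ w)) :
    (∀ k < D.rank, wperm T w (T.simp' k) = T.simp' k) ∨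
      (∀ k < D.rank, wperm T w (T.simp' k) = T.neg (T.simp' k)) := by
  simp only [chkRootData, Bool.and_eq_true, allBelow_iff, C.spec.shape.rank_eq, C.spec.shape.nroots_eq,
    Bool.or_eq_true, decide_eq_true_eq, Bool.not_eq_true', decide_eq_false_iff_not] at hR
  obtain ⟨hj, hr⟩ := hR
  have hpm : ∀ j < D.rank, wperm T w (T.simp' j) = T.simp' j ∨ wperm T w (T.simp' j) = T.neg (T.simp' j) := by
    intro j hjr
    have hs := C.spec.simp_lt j hjr
    have h := hc j hjr _ hs
    rw [wperm_append, wperm_append] at h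
    change wperm T w (T.refl' j (T.simp' j)) = T.refl' j (wperm T w (T.simp' j)) at h
    rw [C.spec.refl_simple j hjr, wperm_neg C hw hs] at h
    exact ((hj j hjr).1 _ (wperm_lt C hw hs)).resolve_left fun hne => hne h.symm
  obtain ⟨r, hrn, hsupp⟩ : ∃ r < D.nroots, ∀ k < D.rank, T.coroot r k ≠ 0 := by
    by_contra hcon
    push Not at hcon
    rw [← Bool.not_eq_true, allBelow_iff] at hr
    refine hr fun r hrn => ?_
    obtain ⟨k, hk, hk0⟩ := hcon r hrn
    rw [Bool.not_eq_true', ← Bool.not_eq_true, allBelow_iff]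
    exact fun hall => by simpa [hk0] using hall k hk
  by_contra hcon
  push Not at hcon
  obtain ⟨⟨k₁, hk₁, hn₁⟩, ⟨k₂, hk₂, hn₂⟩⟩ := hcon
  have h₁ : wperm T w (T.simp' k₁) = T.neg (T.simp' k₁) := (hpm k₁ hk₁).resolve_left hn₁
  have h₂ : wperm T w (T.simp' k₂) = T.simp' k₂ := (hpm k₂ hk₂).resolve_right hn₂
  have hcoord : ∀ q < D.rank, ∀ ε : ℤ, (∀ k < D.rank, T.coroot (wperm T w (T.simp' k)) q = if k = q then ε else 0) →
      T.coroot (wperm T w r) q = ε * T.coroot r q := by
    intro q hq ε hε
    rw [coroot_wperm C hw hrn q hq, Finset.sum_eq_single q]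
    · rw [hε q hq, if_pos rfl, mul_comm]
    · intro k hk hkq
      rw [hε k (Finset.mem_range.1 hk), if_neg hkq, mul_zero]
    · exact fun h => absurd (Finset.mem_range.2 hq) h
  have hk : ∀ q < D.rank, ∀ ε : ℤ, (wperm T w (T.simp' q) = T.simp' q ∧ ε = 1) ∨
      (wperm T w (T.simp' q) = T.neg (T.simp' q) ∧ ε = -1) →
      ∀ k < D.rank, T.coroot (wperm T w (T.simp' k)) q = if k = q then ε else 0 := by
    intro q hq ε hε k hk
    by_cases hkq : k = q
    · subst hkq
      rw [if_pos rfl]
      rcases hε with ⟨e, rfl⟩ | ⟨e, rfl⟩ <;> rw [e]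
      · simpa using ((hj k hk).2 k hk).1
      · simpa using ((hj k hk).2 k hk).2
    · rw [if_neg hkq]
      rcases hpm k hk with e | e <;> rw [e]
      · simpa [hkq] using ((hj k hk).2 q hq).1
      · simpa [hkq] using ((hj k hk).2 q hq).2
  have c₁ := hcoord k₁ hk₁ (-1) (hk k₁ hk₁ (-1) (Or.inr ⟨h₁, rfl⟩))
  have c₂ := hcoord k₂ hk₂ 1 (hk k₂ hk₂ 1 (Or.inl ⟨h₂, rfl⟩))
  have hs := hsupp k₁ hk₁
  have hs' := hsupp k₂ hk₂
  have hw' := wperm_lt C hw hrn
  rcases Nat.lt_or_ge (2 * r) D.nroots with hneg | hpos
  · have := coroot_nonpos C hrn hneg hk₁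
    have := coroot_nonpos C hrn hneg hk₂
    rcases Nat.lt_or_ge (2 * wperm T w r) D.nroots with h | h
    · have := coroot_nonpos C hw' h hk₁; omega
    · have := coroot_nonneg C hw' h hk₂; omega
  · have := coroot_nonneg C hrn hpos hk₁
    have := coroot_nonneg C hrn hpos hk₂
    rcases Nat.lt_or_ge (2 * wperm T w r) D.nroots with h | h
    · have := coroot_nonpos C hw' h hk₂; omega
    · have := coroot_nonneg C hw' h hk₁; omega

omit hM in
theorem commute_of_central (π : List ℕ → M.Group)
    (h1 : ∀ v w, IsWord D v → IsWord D w → (π v = π w ↔ SamePerm D T v w))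
    (h2 : ∀ v w, IsWord D v → IsWord D w → π (v ++ w) = π v * π w)
    (h4 : ∀ i : Fin D.rank, π [i.val] = M.simple i) {y : M.Group} (hy : y ∈ Subgroup.center M.Group)
    {w : List ℕ} (hw : IsWord D w) (hwy : π w = y) : ∀ j < D.rank, SamePerm D T (w ++ [j]) ([j] ++ w) := by
  intro j hj
  have hjw : IsWord D [j] := IsWord.cons hj fun k hk => absurd hk List.not_mem_nil
  refine (h1 _ _ (hw.append hjw) (hjw.append hw)).1 ?_
  rw [h2 _ _ hw hjw, h2 _ _ hjw hw, hwy]
  exact (Subgroup.mem_center_iff.1 hy _).symm

/-- The centre is trivial when `-1` is not in the group. -/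
theorem center_eq_bot (hW : chkWeyl T Ls = true) (hR : chkRootData T = true) {u : List ℕ} (hu : IsWord D u)
    (hN : chkNoMinusOne T u = true) : Subgroup.center M.Group = ⊥ := by
  obtain ⟨π, hsurj, h1, h2, h3, h4⟩ := exists_dictionary C K hM
  rw [Subgroup.eq_bot_iff_forall]
  intro y hy
  obtain ⟨w, hw, rfl⟩ := hsurj y
  have h0 : IsWord D ([] : List ℕ) := fun i hi => absurd hi List.not_mem_nil
  rw [← h3, h1 _ _ hw h0]
  rcases central_cases C K hM hR hw (commute_of_central C K π h1 h2 h4 hy hw rfl) with h | h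
  · exact samePerm_of_simple C K hw h0 h
  exfalso
  simp only [chkNoMinusOne, Bool.and_eq_true, allBelow_iff, C.spec.shape.rank_eq, C.spec.shape.nroots_eq,
    decide_eq_true_eq, Bool.not_eq_true'] at hN
  obtain ⟨hneg, hne⟩ := hN
  rw [← Bool.not_eq_true, allBelow_iff] at hne
  refine hne fun k hk => decide_eq_true ?_
  have hs := C.spec.simp_lt k hk
  have hpos : ∀ k < D.rank, D.nroots ≤ 2 * wperm T (u ++ w) (T.simp' k) := fun k hk => by
    rw [wperm_append, h k hk, wperm_neg C hu (C.spec.simp_lt k hk),
      K.neg_pos_iff (wperm_lt C hu (C.spec.simp_lt k hk))]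
    exact hneg k hk
  have := samePerm_nil_of_simple_pos C K hW (hu.append hw) hpos _ hs
  rw [wperm_append, h k hk, wperm_neg C hu hs] at this
  change T.neg (wperm T u (T.simp' k)) = T.simp' k at this
  conv_lhs => rw [← C.spec.neg_neg _ (wperm_lt C hu hs), this]

/-- The centre when a power of the Coxeter element is `-1`. -/
theorem center_card_two (hR : chkRootData T = true) {h : ℕ}
    (hN : chkMinusOne T (rep (List.range D.rank) h) = true)
    (hne : isIdW T (rep (List.range D.rank) h) = false) :
    Nat.card (Subgroup.center M.Group) = 2 ∧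
      Subgroup.center M.Group ≤ Subgroup.zpowers ((List.finRange D.rank).map M.simple).prod := by
  obtain ⟨π, hsurj, h1, h2, h3, h4⟩ := exists_dictionary C K hM
  set c := ((List.finRange D.rank).map M.simple).prod
  have hrange : IsWord D (List.range D.rank) := fun i hi => List.mem_range.1 hi
  have hrep : ∀ k, IsWord D (rep (List.range D.rank) k) := fun k => by
    induction k with
    | zero => exact fun i hi => absurd hi List.not_mem_nil
    | succ k ih => exact hrange.append ih
  have hlist : ∀ l : List (Fin D.rank), π (l.map Fin.val) = (l.map M.simple).prod := fun l => by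
    induction l with
    | nil => exact h3
    | cons i l ih =>
      rw [List.map_cons, List.map_cons, List.prod_cons, ← ih, ← h4 i,
        ← h2 _ _ (IsWord.cons i.2 fun j hj => absurd hj List.not_mem_nil)
          (fun j hj => by obtain ⟨i', -, rfl⟩ := List.mem_map.1 hj; exact i'.2)]
      rfl
  have hpow : ∀ k, π (rep (List.range D.rank) k) = c ^ k := fun k => by
    induction k with
    | zero => rw [rep, h3, pow_zero]
    | succ k ih =>
      rw [rep, h2 _ _ hrange (hrep k), ih, pow_succ', ← List.map_coe_finRange_eq_range, hlist]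
  set z := rep (List.range D.rank) h
  simp only [chkMinusOne, allBelow_iff, C.spec.shape.nroots_eq, decide_eq_true_eq] at hN
  have h0 : IsWord D ([] : List ℕ) := fun i hi => absurd hi List.not_mem_nil
  have hzw := hrep h
  -- the word is central
  have hzneg : ∀ s < D.nroots, wperm T z s = T.neg s := hN
  have hzc : c ^ h ∈ Subgroup.center M.Group := by
    rw [Subgroup.mem_center_iff]
    intro y
    obtain ⟨w, hw, rfl⟩ := hsurj y
    rw [← hpow, ← h2 _ _ hw hzw, ← h2 _ _ hzw hw, h1 _ _ (hw.append hzw) (hzw.append hw)]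
    intro s hs
    rw [wperm_append, wperm_append, hzneg s hs, wperm_neg C hw hs, hzneg _ (wperm_lt C hw hs)]
  have hz1 : c ^ h ≠ 1 := fun e => by
    rw [← hpow, ← h3, h1 _ _ hzw h0] at e
    have : isIdW T z = true := by
      rw [isIdW, allBelow_iff]
      intro k hk
      exact decide_eq_true (e _ (C.spec.simp_lt k (C.spec.shape.rank_eq ▸ hk)))
    rw [this] at hne
    exact Bool.noConfusion hne
  have hall : ∀ y ∈ Subgroup.center M.Group, y = 1 ∨ y = c ^ h := by
    intro y hy
    obtain ⟨w, hw, rfl⟩ := hsurj y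
    rcases central_cases C K hM hR hw (commute_of_central C K π h1 h2 h4 hy hw rfl) with e | e
    · left
      rw [← h3, h1 _ _ hw h0]
      exact samePerm_of_simple C K hw h0 e
    · right
      rw [← hpow, h1 _ _ hw hzw]
      exact samePerm_of_simple C K hw hzw fun k hk => (e k hk).trans (hN _ (C.spec.simp_lt k hk)).symm
  refine ⟨?_, fun y hy => ?_⟩
  · rw [Nat.card_eq_two_iff]
    refine ⟨1, ⟨_, hzc⟩, fun e => hz1 (congrArg Subtype.val e).symm, Set.eq_univ_of_forall fun y => ?_⟩
    rcases hall y y.2 with e | e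
    · exact Or.inl (Subtype.ext e)
    · exact Or.inr (Subtype.ext e)
  · rcases hall y hy with rfl | rfl
    · exact one_mem _
    · exact Subgroup.npow_mem_zpowers c h

end Cfsg.Lib.Chev

namespace Cfsg.Lib.Chev

open Cfsg.Lie

/-- The word of an expression in the Coxeter element (`0`), its inverse (`1`) and the fundamental
reflections `ts` (`j + 2`). -/
def exprWord (n : ℕ) (ts : List ℕ) : List ℕ → List ℕ
  | [] => []
  | 0 :: e => List.range n ++ exprWord n ts e
  | 1 :: e => (List.range n).reverse ++ exprWord n ts e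
  | (j + 2) :: e => bif decide (j < ts.length) then [ts.getD j 0] ++ exprWord n ts e else exprWord n ts e

/-- The `i`th expression gives the `i`th fundamental reflection; the reflections `ts` are distinct. -/
noncomputable def chkGen (T : Tbl) (n : ℕ) (ts : List ℕ) (es : List (List ℕ)) : Bool :=
  allBelow (fun i => isIdW T (exprWord n ts (es.getD i []) ++ [i])) n &&
    allBelow (fun j => decide (ts.getD j 0 < n) &&
      allBelow (fun k => !isIdW T [ts.getD j 0, ts.getD k 0]) j) ts.length && decide (0 < ts.length)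

variable {D : ChevalleyDatum} {T : Tbl} (C : Cert D T) (K : FullCert D T)
include C K

variable {M : CoxeterMatrix (Fin D.rank)}
  (hM : chkCox T (fun i : Fin D.rank => [i.val]) (fun i j => M i j) = true)
include hM

/-- Generation by the Coxeter element and some fundamental reflections. -/
theorem exists_generators {k : ℕ} (ts : List ℕ) (es : List (List ℕ)) (hk : ts.length = k)
    (h : chkGen T D.rank ts es = true) :
    ∃ R : Finset M.Group, R.card = k ∧
      (∀ t ∈ R, ∃ (g : M.Group) (i : Fin D.rank), t = g * M.simple i * g⁻¹) ∧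
      Subgroup.closure (({((List.finRange D.rank).map M.simple).prod} : Set M.Group) ∪ ↑R) = ⊤ := by
  classical
  obtain ⟨π, hsurj, h1, h2, h3, h4⟩ := exists_dictionary C K hM
  simp only [chkGen, Bool.and_eq_true, allBelow_iff, decide_eq_true_eq, Bool.not_eq_true'] at h
  obtain ⟨⟨he, ht⟩, hpos⟩ := h
  set c := ((List.finRange D.rank).map M.simple).prod
  have hrange : IsWord D (List.range D.rank) := fun i hi => List.mem_range.1 hi
  have h0 : IsWord D ([] : List ℕ) := fun i hi => absurd hi List.not_mem_nil
  have hsing : ∀ i < D.rank, IsWord D [i] := fun i hi => IsWord.cons hi h0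
  have hlist : ∀ l : List (Fin D.rank), π (l.map Fin.val) = (l.map M.simple).prod := fun l => by
    induction l with
    | nil => exact h3
    | cons i l ih =>
      rw [List.map_cons, List.map_cons, List.prod_cons, ← ih, ← h4 i,
        ← h2 _ _ (hsing _ i.2) (fun j hj => by obtain ⟨i', -, rfl⟩ := List.mem_map.1 hj; exact i'.2)]
      rfl
  have hc : π (List.range D.rank) = c := by rw [← List.map_coe_finRange_eq_range, hlist]
  have hc' : π (List.range D.rank).reverse = c⁻¹ := by
    refine eq_inv_of_mul_eq_one_left ?_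
    rw [← hc, ← h2 _ _ hrange.reverse hrange, ← h3, h1 _ _ (hrange.reverse.append hrange) h0]
    intro s hs
    rw [wperm_append, wperm_reverse C hrange hs]
    rfl
  have htlt : ∀ j < ts.length, ts.getD j 0 < D.rank := fun j hj => (ht j hj).1
  let f : Fin ts.length → M.Group := fun j => M.simple ⟨ts.getD j.val 0, htlt j j.2⟩
  have hf : Function.Injective f := by
    have key : ∀ j k : Fin ts.length, k.val < j.val → f j ≠ f k := fun j k hlt e => by
      have hb := (ht j j.2).2 k hlt
      rw [← Bool.not_eq_true] at hb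
      apply hb
      simp only [f] at e
      rw [← h4, ← h4, h1 _ _ (hsing _ (htlt j j.2)) (hsing _ (htlt k k.2))] at e
      rw [isIdW, allBelow_iff]
      intro q hq
      have hq' := C.spec.simp_lt q (C.spec.shape.rank_eq ▸ hq)
      refine decide_eq_true ?_
      show T.refl' (ts.getD j.val 0) (T.refl' (ts.getD k.val 0) (T.simp' q)) = T.simp' q
      have e1 := e _ hq'
      simp only [wperm, List.foldr_cons, List.foldr_nil] at e1
      rw [← e1]
      exact wperm_reverse C (hsing _ (htlt j j.2)) hq'
    intro j k e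
    rcases lt_trichotomy j.val k.val with hl | hl | hl
    · exact absurd e.symm (key k j hl)
    · exact Fin.ext hl
    · exact absurd e (key j k hl)
  refine ⟨Finset.univ.image f, by rw [Finset.card_image_of_injective _ hf]; simpa using hk, ?_, ?_⟩
  · intro t ht'
    obtain ⟨j, -, rfl⟩ := Finset.mem_image.1 ht'
    exact ⟨1, ⟨ts.getD j.val 0, htlt j j.2⟩, by rw [one_mul, inv_one, mul_one]⟩
  set H := Subgroup.closure (({c} : Set M.Group) ∪ ↑(Finset.univ.image f))
  have hcH : c ∈ H := Subgroup.subset_closure (Or.inl rfl)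
  have hexpr : ∀ e : List ℕ, IsWord D (exprWord D.rank ts e) ∧ π (exprWord D.rank ts e) ∈ H := by
    intro e
    induction e with
    | nil => exact ⟨h0, by rw [exprWord, h3]; exact one_mem _⟩
    | cons a e ih =>
      rcases a with _ | _ | j
      · rw [exprWord, h2 _ _ hrange ih.1, hc]
        exact ⟨hrange.append ih.1, mul_mem hcH ih.2⟩
      · rw [exprWord, h2 _ _ hrange.reverse ih.1, hc']
        exact ⟨hrange.reverse.append ih.1, mul_mem (inv_mem hcH) ih.2⟩
      · by_cases hj : j < ts.length
        · rw [exprWord, decide_eq_true hj, cond_true, h2 _ _ (hsing _ (htlt j hj)) ih.1, h4 ⟨_, htlt j hj⟩]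
          exact ⟨(hsing _ (htlt j hj)).append ih.1,
            mul_mem (Subgroup.subset_closure (Or.inr (Finset.mem_image_of_mem f (Finset.mem_univ ⟨j, hj⟩)))) ih.2⟩
        · rw [exprWord, decide_eq_false hj, cond_false]
          exact ih
  rw [eq_top_iff, ← (CoxeterSystem.subgroup_closure_range_simple M.toCoxeterSystem), Subgroup.closure_le]
  rintro _ ⟨i, rfl⟩
  have hw := (hexpr (es.getD i.val [])).1
  have hid : π (exprWord D.rank ts (es.getD i.val []) ++ [i.val]) = 1 := by
    rw [← h3, h1 _ _ (hw.append (hsing _ i.2)) h0]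
    have := he i.val i.2
    rw [isIdW, allBelow_iff] at this
    exact samePerm_of_simple C K (hw.append (hsing _ i.2)) h0 fun q hq =>
      of_decide_eq_true (this q (C.spec.shape.rank_eq.symm ▸ hq))
  rw [h2 _ _ hw (hsing _ i.2), h4] at hid
  show M.toCoxeterSystem.simple i ∈ H
  rw [CoxeterMatrix.toCoxeterSystem_simple]
  rw [eq_inv_of_mul_eq_one_right hid]
  exact inv_mem (hexpr _).2

end Cfsg.Lib.Chev
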