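import Cfsg.Agent.Lib.Chev.Coxeter
import Cfsg.Agent.Lib.Chev.BN
import Cfsg.Agent.Lib.Chev.Weyl
import Cfsg.Agent.Lib.Chev.NormalForm

/-!
The Weyl group of a Chevalley group is the Coxeter group of its type.
-/

set_option autoImplicit false

namespace Cfsg.Lib.Chev

open Cfsg.Lie

/-- The exchange condition is invariant under renaming of the generators. -/
theorem Exchange.comp {ι κ W : Type*} [Group W] {S : ι → W} (h : Exchange S) (e : κ ≃ ι) :
    Exchange (S ∘ e) := by
  have hw : ∀ a : List κ, wprod (S ∘ e) a = wprod S (a.map e) := fun a => by simp [wprod, List.map_map]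
  have hr : ∀ a : List κ, WReduced (S ∘ e) a ↔ WReduced S (a.map e) := fun a => by
    constructor
    · intro ha b hb
      have := ha (b.map e.symm) (by rw [hw, hw, ← hb, List.map_map]; simp)
      simpa using this
    · intro ha b hb
      simpa using ha (b.map e) (by rw [← hw, ← hw, hb])
  intro i a ha hna
  obtain ⟨k, hk, ek⟩ := h (e i) (a.map e) ((hr a).1 ha) fun hh => hna ((hr _).2 hh)
  refine ⟨k, by simpa using hk, ?_⟩
  rw [hw, hw, List.map_cons, ek, List.eraseIdx_map]

/-- The `k`th power of a product of two words. -/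
def pw (u v : List ℕ) : ℕ → List ℕ
  | 0 => []
  | k + 1 => u ++ v ++ pw u v k

/-- The word acts trivially on the fundamental roots. -/
noncomputable def isIdW (T : Tbl) (w : List ℕ) : Bool :=
  allBelow (fun k => decide (wperm T w (T.simp' k) = T.simp' k)) T.rank

/-- The products of the words of `ws` have the orders given by `M`. -/
noncomputable def chkCox (T : Tbl) {n : ℕ} (ws : Fin n → List ℕ) (M : Fin n → Fin n → ℕ) : Bool :=
  (List.finRange n).all fun i => (List.finRange n).all fun j =>
    decide (0 < M i j) && isIdW T (pw (ws i) (ws j) (M i j)) &&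
      (List.range' 1 (M i j - 1)).all fun k => !isIdW T (pw (ws i) (ws j) k)

variable {D : ChevalleyDatum} {T : Tbl} (C : Cert D T)
include C

omit C in
theorem pw_word {u v : List ℕ} (hu : IsWord D u) (hv : IsWord D v) : ∀ k, IsWord D (pw u v k)
  | 0 => fun i hi => absurd hi List.not_mem_nil
  | k + 1 => (hu.append hv).append (pw_word hu hv k)

theorem isIdW_iff (K : FullCert D T) (F : Type*) [Field F] {w : List ℕ} (hw : IsWord D w) :
    isIdW T w = true ↔ wnu C F w ∈ D.diagonalSubgroup F := by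
  rw [isIdW, allBelow_iff, show T.rank = D.rank from C.spec.shape.rank_eq]
  have h0 : IsWord D ([] : List ℕ) := fun i hi => absurd hi List.not_mem_nil
  constructor
  · intro h
    have := same_of_perm C K (F := F) h0 hw fun k hk => (of_decide_eq_true (h k hk)).symm
    simpa [wnu] using this
  · intro h k hk
    exact decide_eq_true (perm_of_same C h0 hw (by simpa [wnu] using h) (C.spec.simp_lt k hk)).symm

/-- A Coxeter system from a certificate of the orders, for a pair whose `B ⊓ N` is `H` and whose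
representatives lie in the classes of the words `ws`. -/
theorem exists_coxeter_of_chk (K : FullCert D T) {F : Type*} [Field F] {G : Subgroup (GL D.Idx F)}
    (P : Cfsg.BNPair ↥G) [hN : ((P.B ⊓ P.N).subgroupOf P.N).Normal] {n : ℕ} (M : CoxeterMatrix (Fin n))
    (ws : Fin n → List ℕ) (hws : ∀ i, IsWord D (ws i)) (e : Fin n ≃ P.S)
    (hrep : ∀ i, (wnu C F (ws i))⁻¹ * (((e i : ↥G)) : GL D.Idx F) ∈ D.diagonalSubgroup F)
    (hT : ∀ x : ↥G, x ∈ P.N → (x ∈ P.B ↔ (x : GL D.Idx F) ∈ D.diagonalSubgroup F))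
    (hM : chkCox T ws (fun i j => M i j) = true) :
    ∃ cs : CoxeterSystem M (WeylQ P), ∀ i, cs.simple i = weylS P (e i) := by
  refine exists_coxeterSystem (S := weylS P ∘ e) M (fun i => weylS_sq (e i)) ?_ ?_ (weyl_exchange.comp e)
  · rw [EquivLike.range_comp]; exact closure_weylS
  intro i j
  -- the representative of the power
  have key : ∀ k : ℕ, ((weylS P (e i) * weylS P (e j)) ^ k = 1 ↔ isIdW T (pw (ws i) (ws j) k) = true) := by
    intro k
    rw [isIdW_iff C K F (pw_word (hws i) (hws j) k), weylS, weylS, ← QuotientGroup.mk_mul, ← QuotientGroup.mk_pow,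
      QuotientGroup.eq_one_iff, Subgroup.mem_subgroupOf, Subgroup.mem_inf]
    set x : ↥P.N := (⟨(e i : ↥G), P.subset (e i).2⟩ * ⟨(e j : ↥G), P.subset (e j).2⟩) ^ k
    rw [and_iff_left x.2, hT _ x.2]
    have hx : (wnu C F (pw (ws i) (ws j) k))⁻¹ * ((x : ↥G) : GL D.Idx F) ∈ D.diagonalSubgroup F := by
      show (wnu C F (pw (ws i) (ws j) k))⁻¹ *
        ((((e i : ↥G) * (e j : ↥G)) ^ k : ↥G) : GL D.Idx F) ∈ D.diagonalSubgroup F
      induction k with
      | zero => simp [pw, wnu]
      | succ k ih =>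
        have h1 := mul_mem (conj_mem_diag C (wnu_mem C (F := F) (hws j)) (hrep i)).2 (hrep j)
        have h2 := mul_mem (conj_mem_diag C (wnu_mem C (F := F) (pw_word (hws i) (hws j) k)) h1).2 ih
        rw [pw, pow_succ', wnu_append, wnu_append]
        simpa [mul_assoc] using h2
    constructor
    · intro hd
      have := mul_mem hd (inv_mem hx)
      simpa using this
    · intro hd
      have := mul_mem hd hx
      simpa using this
  simp only [chkCox, List.all_eq_true, Bool.and_eq_true, Bool.not_eq_true', decide_eq_true_eq] at hM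
  obtain ⟨⟨h0, h1⟩, h2⟩ := hM i (List.mem_finRange i) j (List.mem_finRange j)
  refine (orderOf_eq_iff h0).2 ⟨(key _).2 h1, fun m hm hm0 hcon => ?_⟩
  have := h2 m (List.mem_range'_1.2 ⟨hm0, by omega⟩)
  rw [(key m).1 hcon] at this
  exact Bool.noConfusion this

variable (K : FullCert D T) (F : Type*) [Field F]
include K

/-- The Weyl group of a Chevalley group as a Coxeter group. -/
theorem exists_monomial_hom (M : CoxeterMatrix (Fin D.rank))
    (hM : chkCox T (fun i : Fin D.rank => [i.val]) (fun i j => M i j) = true) :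
    ∃ φ : ↥(D.monomialSubgroup F) →* M.Group, Function.Surjective φ ∧
      φ.ker = (D.diagonalSubgroup F).subgroupOf (D.monomialSubgroup F) ∧
      ∀ (i : Fin D.rank) (g : ↥(D.monomialSubgroup F)),
        ((g : GL D.Idx F) : Matrix D.Idx D.Idx F) = D.nMat F (D.simple i) 1 → φ g = M.simple i := by
  classical
  let P := bnPair C K F
  have hT : ∀ x : ↥(D.group F), x ∈ P.N → (x ∈ P.B ↔ (x : GL D.Idx F) ∈ D.diagonalSubgroup F) := by
    intro x hx
    rw [← borel_inf_monomial C]
    exact ⟨fun h => ⟨h, hx⟩, fun h => h.1⟩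
  haveI : ((P.B ⊓ P.N).subgroupOf P.N).Normal :=
    ⟨fun t ht g => ⟨P.conj_mem _ g.2 _ ⟨ht.1, t.2⟩, (g * t * g⁻¹).2⟩⟩
  let e0 : Fin D.rank → P.S := fun i =>
    ⟨⟨nu C i.val, monomial_le_group C (nu_mem C i.val i.2)⟩, ⟨i.val, i.2, (eq_nu_iff C i.2).2 rfl⟩⟩
  have he0 : Function.Bijective e0 := by
    refine ⟨fun i j h => Fin.ext (nu_inj C K i.2 j.2 (F := F) ?_), fun s => ?_⟩
    · rw [show (nu C i.val : GL D.Idx F) = nu C j.val from congrArg (fun s : P.S => ((s : ↥(D.group F)) : GL D.Idx F)) h,
        inv_mul_cancel]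
      exact one_mem _
    · obtain ⟨i, hi, e⟩ := s.2
      exact ⟨⟨i, hi⟩, Subtype.ext (Subtype.ext ((eq_nu_iff C hi).1 e).symm)⟩
  obtain ⟨cs, hcs⟩ := exists_coxeter_of_chk C K P M (fun i => [i.val])
    (fun i => IsWord.cons i.2 fun j hj => absurd hj List.not_mem_nil) (Equiv.ofBijective e0 he0)
    (fun i => by simp [e0, wnu]) hT hM
  let E : ↥P.N ≃* ↥(D.monomialSubgroup F) := Subgroup.subgroupOfEquivOfLe (monomial_le_group C)
  let q : ↥P.N →* WeylQ P := QuotientGroup.mk' _
  refine ⟨cs.mulEquiv.toMonoidHom.comp (q.comp E.symm.toMonoidHom), ?_, ?_, fun i g hg => ?_⟩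
  · exact cs.mulEquiv.surjective.comp ((QuotientGroup.mk'_surjective _).comp E.symm.surjective)
  · ext g
    rw [MonoidHom.mem_ker, Subgroup.mem_subgroupOf, MonoidHom.comp_apply, MonoidHom.comp_apply]
    show cs.mulEquiv (QuotientGroup.mk (E.symm g)) = 1 ↔ _
    rw [MulEquiv.map_eq_one_iff, QuotientGroup.eq_one_iff, Subgroup.mem_subgroupOf, Subgroup.mem_inf,
      and_iff_left (E.symm g).2, hT _ (E.symm g).2]
    rfl
  · show cs.mulEquiv (QuotientGroup.mk (E.symm g)) = _
    have h : cs.simple i = QuotientGroup.mk (E.symm g) := by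
      rw [hcs]
      refine congrArg QuotientGroup.mk (Subtype.ext (Subtype.ext ?_))
      exact ((eq_nu_iff C i.2).1 hg).symm
    rw [← h]
    exact cs.mulEquiv.apply_symm_apply _

end Cfsg.Lib.Chev
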