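import Cfsg.Agent.Lib.Chev.CoxeterChev

/-!
Orders of Coxeter groups and Coxeter elements from certificates.
-/

set_option autoImplicit false

namespace Cfsg.Lib.Chev

open Cfsg.Lie

/-- The number of coset representatives. -/
noncomputable def wlenProd (Ls : List WLevel) : ℕ → ℕ
  | 0 => 1
  | m + 1 => (nth ([], []) Ls m).1.length * wlenProd Ls m

theorem allW_length (Ls : List WLevel) : ∀ m, (allW (nth ([], []) Ls) m).length = wlenProd Ls m
  | 0 => rfl
  | m + 1 => by
    rw [wlenProd, ← allW_length Ls m]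
    simp [allW, List.length_flatMap, Function.comp_def]

/-- The word repeated `k` times. -/
def rep (w : List ℕ) : ℕ → List ℕ
  | 0 => []
  | k + 1 => w ++ rep w k

/-- The word has order `h`. -/
noncomputable def chkWordOrder (T : Tbl) (w : List ℕ) (h : ℕ) : Bool :=
  decide (0 < h) && isIdW T (rep w h) && (List.range' 1 (h - 1)).all fun k => !isIdW T (rep w k)

variable {D : ChevalleyDatum} {T : Tbl} (C : Cert D T) (K : FullCert D T) {M : CoxeterMatrix (Fin D.rank)}
  (hM : chkCox T (fun i : Fin D.rank => [i.val]) (fun i j => M i j) = true)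
include C K hM

theorem card_coxeter {Ls : List WLevel} (hW : chkWeyl T Ls = true) :
    Nat.card M.Group = wlenProd Ls D.rank := by
  obtain ⟨φ, hsurj, hker, -⟩ := exists_monomial_hom C K ℚ M hM
  set L := allW (nth ([], []) Ls) D.rank with hL
  have hword : ∀ k : Fin L.length, IsWord D L[k] := fun k =>
    (allW_below C K hW D.rank le_rfl _ (List.getElem_mem k.2)).isWord le_rfl
  let f : Fin L.length → M.Group := fun k => φ ⟨wnu C ℚ L[k], wnu_mem C (hword k)⟩
  have hf : Function.Bijective f := by
    constructor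
    · intro a b h
      by_contra hne
      have h' : (⟨wnu C ℚ L[a], wnu_mem C (hword a)⟩ : ↥(D.monomialSubgroup ℚ))⁻¹ *
          ⟨wnu C ℚ L[b], wnu_mem C (hword b)⟩ ∈ φ.ker := by
        rw [MonoidHom.mem_ker, map_mul, map_inv, show φ _ = φ _ from h, inv_mul_cancel]
      rw [hker, Subgroup.mem_subgroupOf] at h'
      have hs : SamePerm D T L[a] L[b] := fun s hs => perm_of_same C (hword a) (hword b) h' hs
      have hp := List.pairwise_iff_getElem.1 (allW_pairwise C K hW D.rank le_rfl)
      rcases lt_trichotomy a.val b.val with hlt | heq | hlt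
      · exact hp a.val b.val a.2 b.2 hlt hs
      · exact hne (Fin.ext heq)
      · exact hp b.val a.val b.2 a.2 hlt hs.symm
    · intro y
      obtain ⟨g, rfl⟩ := hsurj y
      obtain ⟨w, hw, d, hd, e⟩ := (mem_monomial C).1 g.2
      obtain ⟨u, hu, hs⟩ := allW_complete C K hW D.rank le_rfl w hw
      obtain ⟨k, hk, rfl⟩ := List.getElem_of_mem hu
      refine ⟨⟨k, hk⟩, ?_⟩
      have h' : (⟨wnu C ℚ L[(⟨k, hk⟩ : Fin L.length)], wnu_mem C (hword ⟨k, hk⟩)⟩ : ↥(D.monomialSubgroup ℚ))⁻¹ * g ∈
          φ.ker := by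
        rw [hker, Subgroup.mem_subgroupOf]
        have := mul_mem (same_of_perm C K (F := ℚ) (hword ⟨k, hk⟩) hw fun j hj => hs _ (C.spec.simp_lt j hj)) hd
        rw [mul_assoc, ← e] at this
        exact this
      rw [MonoidHom.mem_ker, map_mul, map_inv, inv_mul_eq_one] at h'
      exact h'
  rw [← Nat.card_eq_of_bijective f hf, Nat.card_fin, hL, allW_length]

theorem orderOf_coxeterElement {h : ℕ} (hh : chkWordOrder T (List.range D.rank) h = true) :
    orderOf ((List.finRange D.rank).map M.simple).prod = h := by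
  obtain ⟨φ, -, hker, hφ⟩ := exists_monomial_hom C K ℚ M hM
  have hw : IsWord D (List.range D.rank) := fun i hi => List.mem_range.1 hi
  have hrep : ∀ k, IsWord D (rep (List.range D.rank) k) := fun k => by
    induction k with
    | zero => exact fun i hi => absurd hi List.not_mem_nil
    | succ k ih => exact hw.append ih
  have key : ∀ (l : List (Fin D.rank)) (hl : IsWord D (l.map Fin.val)),
      φ ⟨wnu C ℚ (l.map Fin.val), wnu_mem C hl⟩ = (l.map M.simple).prod := by
    intro l
    induction l with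
    | nil => intro hl; exact map_one φ
    | cons i l ih =>
      intro hl
      have e : (⟨wnu C ℚ ((i :: l).map Fin.val), wnu_mem C hl⟩ : ↥(D.monomialSubgroup ℚ)) =
          ⟨nu C i.val, nu_mem C i.val i.2⟩ * ⟨wnu C ℚ (l.map Fin.val), wnu_mem C hl.tail.2⟩ :=
        Subtype.ext (wnu_cons C i.val _)
      rw [e, map_mul, ih hl.tail.2, List.map_cons, List.prod_cons, hφ i _ ((eq_nu_iff C i.2).2 rfl)]
  have e1 := key (List.finRange D.rank) (by rw [List.map_coe_finRange_eq_range]; exact hw)
  rw [← e1]
  have hpow : ∀ k, (φ ⟨_, wnu_mem C (F := ℚ) (by rw [List.map_coe_finRange_eq_range]; exact hw :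
      IsWord D ((List.finRange D.rank).map Fin.val))⟩) ^ k = 1 ↔ isIdW T (rep (List.range D.rank) k) = true := by
    intro k
    rw [← map_pow, ← MonoidHom.mem_ker, hker, Subgroup.mem_subgroupOf, isIdW_iff C K ℚ (hrep k)]
    have hk : ((⟨wnu C ℚ ((List.finRange D.rank).map Fin.val), wnu_mem C (by
        rw [List.map_coe_finRange_eq_range]; exact hw)⟩ : ↥(D.monomialSubgroup ℚ)) ^ k : GL D.Idx ℚ) =
        wnu C ℚ (rep (List.range D.rank) k) := by
      induction k with
      | zero => simp [rep, wnu]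
      | succ k ih => rw [pow_succ', rep, wnu_append, ← ih]; simp [List.map_coe_finRange_eq_range]
    rw [SubgroupClass.coe_pow]
    exact Iff.of_eq (congrArg (· ∈ D.diagonalSubgroup ℚ) hk)
  simp only [chkWordOrder, List.all_eq_true, Bool.and_eq_true, Bool.not_eq_true', decide_eq_true_eq] at hh
  obtain ⟨⟨h0, h1⟩, h2⟩ := hh
  refine (orderOf_eq_iff h0).2 ⟨(hpow h).2 h1, fun m hm hm0 hcon => ?_⟩
  have := h2 m (List.mem_range'_1.2 ⟨hm0, by omega⟩)
  rw [(hpow m).1 hcon] at this
  exact Bool.noConfusion this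

end Cfsg.Lib.Chev
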