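import Cfsg.Prelude.Def_ChevStructure
import Cfsg.Agent.Lib.Chev.CoxeterOrders
import Cfsg.Agent.Lib.Chev.FullAll

/-!
The Coxeter matrices of the seven types.
-/

set_option autoImplicit false
set_option maxRecDepth 100000

namespace Cfsg.Lib.Chev

open Cfsg.Lie

theorem chkCox_G2 : chkCox tblG2 (fun i : Fin 2 => [i.val]) (fun i j => CoxeterMatrix.G₂ i j) = true := by
  decide +kernel

theorem chkCox_B2 : chkCox tblB2 (fun i : Fin 2 => [i.val]) (fun i j => CoxeterMatrix.B 2 i j) = true := by
  decide +kernel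

theorem chkCox_D4 : chkCox tblD4 (fun i : Fin 4 => [i.val]) (fun i j => coxeterD4 i j) = true := by
  decide +kernel

theorem chkCox_F4 : chkCox tblF4 (fun i : Fin 4 => [i.val]) (fun i j => CoxeterMatrix.F₄ i j) = true := by
  decide +kernel

theorem chkCox_E6 : chkCox tblE6 (fun i : Fin 6 => [i.val]) (fun i j => CoxeterMatrix.E₆ i j) = true := by
  decide +kernel

theorem chkCox_E7 : chkCox tblE7 (fun i : Fin 7 => [i.val]) (fun i j => CoxeterMatrix.E₇ i j) = true := by
  decide +kernel

theorem chkCox_E8 : chkCox tblE8 (fun i : Fin 8 => [i.val]) (fun i j => CoxeterMatrix.E₈ i j) = true := by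
  decide +kernel

end Cfsg.Lib.Chev
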