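import Cfsg.Agent.Lib.Chev.D4Orth
import Cfsg.Agent.Lib.Chev.Presentation.Steinberg
import Cfsg.Agent.Lib.Chev.FullD4
import Cfsg.Agent.S1054

/-!
The Chevalley group of type D4 is the projective commutator subgroup of the orthogonal group of plus type.
-/

set_option autoImplicit false
set_option linter.unusedSectionVars false
set_option maxRecDepth 100000

namespace Cfsg.Lib.Chev.D4Orth

open Cfsg.Lie Matrix
open scoped commutatorElement

variable {F : Type*} [Field F]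

local notation "Q₈" => Cfsg.quadFormPlus 4 F
local notation "O₈" => Cfsg.isometryGroup F Q₈
local notation "St" => chevD4.SteinbergGroup F

/-- The exponent of the outer diagonal element at a coordinate. -/
def dl : ℕ → ℤ
  | 3 => 1
  | 7 => -1
  | _ => 0

theorem ddF_zpow (a : Fˣ) (b : I8) : ddF a b = (a : F) ^ dl (cd b) := by
  rcases b with b | b <;> fin_cases b <;> simp [ddF, dl, cd, _root_.zpow_neg]

theorem dl_root : ∀ r : Fin 24, ∃ e : Fin 5, ∀ x y : Fin 8, ent (d4L r) x y ≠ 0 → dl x - dl y = (e : ℤ) - 2 := by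
  decide +kernel

theorem ww_root : ∀ r : Fin 24, ∃ r' : Fin 24, eqL (smulL lW (d4L r)) (smulL (d4L r') lW) = true ∨
    eqL (smulL lW (d4L r)) ((smulL (d4L r') lW).map fun p => (p.1, p.2.1, -1 * p.2.2)) = true := by decide +kernel

theorem rootGrp_eq_closure : rootGrp F =
    Subgroup.closure (Set.range fun p : Fin 24 × F => MatRep.repHom repOK_D4 (chevD4.stGen F p.1 p.2)) := by
  rw [rootGrp, MonoidHom.range_eq_map, ← PresentedGroup.closure_range_of, MonoidHom.map_closure, ← Set.range_comp]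
  congr 1
  ext g
  constructor
  · rintro ⟨⟨r, t⟩, rfl⟩
    refine ⟨(r, t), ?_⟩
    show MatRep.repHom repOK_D4 (chevD4.stGen F r t) = _
    rw [ChevalleyDatum.stGen, ChevalleyDatum.stX, dif_pos r.2]
    rfl
  · rintro ⟨⟨r, t⟩, rfl⟩
    refine ⟨(r, t), ?_⟩
    show _ = MatRep.repHom repOK_D4 (chevD4.stGen F r t)
    rw [ChevalleyDatum.stGen, ChevalleyDatum.stX, dif_pos (show (r : ℕ) < chevD4.nroots from r.2)]
    rfl

theorem coe_gen (r : Fin 24) (t : F) : ((MatRep.repHom repOK_D4 (chevD4.stGen F r t) : GL I8 F) : Matrix I8 I8 F) =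
    1 + t • mM F (d4L r) :=
  MatRep.repHom_gen repOK_D4 (show (r : ℕ) < chevD4.nroots from r.2) t

theorem conj_gen_mem (g : GL I8 F) (r : Fin 24) (t : F) {r' : Fin 24} {t' : F}
    (h : g.1 * (t • mM F (d4L r)) = (t' • mM F (d4L r')) * g.1) :
    g * MatRep.repHom repOK_D4 (chevD4.stGen F r t) * g⁻¹ ∈ rootGrp F := by
  refine ⟨chevD4.stGen F r' t', (eq_mul_inv_iff_mul_eq).2 (Units.ext ?_)⟩
  rw [Units.val_mul, Units.val_mul, coe_gen, coe_gen, mul_add, add_mul, h, one_mul, mul_one]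

theorem dd_norm (a : Fˣ) (r : Fin 24) (t : F) :
    dd a * MatRep.repHom repOK_D4 (chevD4.stGen F r t) * (dd a)⁻¹ ∈ rootGrp F := by
  obtain ⟨e, he⟩ := dl_root r
  refine conj_gen_mem _ r t (r' := r) (t' := (a : F) ^ ((e : ℤ) - 2) * t) ?_
  show Matrix.diagonal (ddF a) * _ = _ * Matrix.diagonal (ddF a)
  ext x y
  simp only [Matrix.diagonal_mul, Matrix.mul_diagonal, Matrix.smul_apply, smul_eq_mul]
  show ddF a x * (t * ((ent (d4L r) (cd x) (cd y) : ℤ) : F)) =
    (a : F) ^ ((e : ℤ) - 2) * t * ((ent (d4L r) (cd x) (cd y) : ℤ) : F) * ddF a y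
  by_cases h0 : ent (d4L r) (cd x) (cd y) = 0
  · simp [h0]
  · have := he ⟨cd x, cd_lt x⟩ ⟨cd y, cd_lt y⟩ h0
    simp only at this
    rw [ddF_zpow, ddF_zpow, show dl (cd x) = ((e : ℤ) - 2) + dl (cd y) by omega, zpow_add₀ a.ne_zero]
    ring

theorem ww_norm (r : Fin 24) (t : F) :
    ww * MatRep.repHom repOK_D4 (chevD4.stGen F r t) * ww⁻¹ ∈ rootGrp F := by
  have ok : ∀ r : Fin 24, okL (d4L r) = true := by decide +kernel
  obtain ⟨r', h | h⟩ := ww_root r
  · refine conj_gen_mem _ r t (r' := r') (t' := t) ?_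
    show mM F lW * _ = _ * mM F lW
    rw [mul_smul_comm, smul_mul_assoc, mM, mM, mM, ← map_mul, ← map_mul, toM_mul (by decide), toM_mul (ok r'),
      toM_of_eqL h]
  · refine conj_gen_mem _ r t (r' := r') (t' := -t) ?_
    show mM F lW * _ = _ * mM F lW
    rw [mul_smul_comm, smul_mul_assoc, mM, mM, mM, ← map_mul, ← map_mul, toM_mul (by decide), toM_mul (ok r'),
      toM_of_eqL h, ← toM_smul, map_zsmul, neg_one_zsmul, smul_neg, neg_smul]

theorem conj_mem_of_gen {g : GL I8 F}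
    (h : ∀ (r : Fin 24) (t : F), g * MatRep.repHom repOK_D4 (chevD4.stGen F r t) * g⁻¹ ∈ rootGrp F) {s : GL I8 F}
    (hs : s ∈ rootGrp F) : g * s * g⁻¹ ∈ rootGrp F := by
  have hle : Subgroup.closure (Set.range fun p : Fin 24 × F => MatRep.repHom repOK_D4 (chevD4.stGen F p.1 p.2)) ≤
      (rootGrp F).comap (MulAut.conj g).toMonoidHom := by
    rw [Subgroup.closure_le]
    rintro _ ⟨⟨r, t⟩, rfl⟩
    exact h r t
  rw [rootGrp_eq_closure] at hs
  exact hle hs

theorem normal_mem {g : GL I8 F} (hg : g ∈ O₈) {s : GL I8 F} (hs : s ∈ rootGrp F) : g * s * g⁻¹ ∈ rootGrp F := by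
  obtain ⟨s₀, hs₀, a, rfl | rfl⟩ := decomp hg
  · have := mul_mem (mul_mem hs₀ (conj_mem_of_gen (dd_norm a) hs)) (inv_mem hs₀)
    simpa [mul_assoc] using this
  · have := mul_mem (mul_mem hs₀ (conj_mem_of_gen (dd_norm a) (conj_mem_of_gen ww_norm hs))) (inv_mem hs₀)
    simpa [mul_assoc] using this

theorem h_lists : (∀ q ∈ [(12, 11, [(2, 2, (1 : ℤ)), (3, 3, 1)], [(6, 6, 1), (7, 7, 1)]),
    (10, 13, [(3, 3, 1), (6, 6, 1)], [(2, 2, 1), (7, 7, 1)])],
    chevD4.neg q.1 = q.2.1 ∧ eqL (smulL (d4L q.1) (d4L q.2.1)) q.2.2.1 = true ∧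
      eqL (smulL (d4L q.2.1) (d4L q.1)) q.2.2.2 = true) := by decide +kernel

theorem exists_torus {r n : ℕ} (hr : r < 24) {P N : List (ℕ × ℕ × ℤ)} (hn : chevD4.neg r = n)
    (hP : eqL (smulL (d4L r) (d4L n)) P = true) (hN : eqL (smulL (d4L n) (d4L r)) N = true) (a : Fˣ) :
    ∃ s ∈ rootGrp F, (s : GL I8 F).1 = 1 - (mM F P + mM F N) + (a : F) • mM F P + (a : F)⁻¹ • mM F N := by
  subst hn
  have hn' : chevD4.neg r < 24 := (repOK_D4.neg_lt r hr).1
  have ok : ∀ r : Fin 24, okL (d4L r) = true := by decide +kernel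
  refine ⟨_, ⟨PresentedGroup.mk _ (chevD4.stH r (a : F)), rfl⟩, ?_⟩
  have e : MatRep.repHom repOK_D4 (PresentedGroup.mk (chevD4.steinbergRels F) (chevD4.stH r (a : F))) =
      FreeGroup.lift (MatRep.repGen repOK_D4) (chevD4.stH r (a : F)) := rfl
  rw [e, MatRep.coe_lift_stH repOK_D4 hr a.ne_zero]
  simp only [MatRep.mE, d4E, mM, ← map_mul, toM_mul (ok ⟨r, hr⟩), toM_mul (ok ⟨_, hn'⟩), toM_of_eqL hP, toM_of_eqL hN]

theorem dd_sq_mem (a : Fˣ) : dd (a * a) ∈ rootGrp F := by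
  obtain ⟨hn1, hP1, hN1⟩ := h_lists (12, 11, [(2, 2, 1), (3, 3, 1)], [(6, 6, 1), (7, 7, 1)]) (by simp)
  obtain ⟨hn2, hP2, hN2⟩ := h_lists (10, 13, [(3, 3, 1), (6, 6, 1)], [(2, 2, 1), (7, 7, 1)]) (by simp)
  obtain ⟨s1, hs1, e1⟩ := exists_torus (by norm_num) hn1 hP1 hN1 a
  obtain ⟨s2, hs2, e2⟩ := exists_torus (by norm_num) hn2 hP2 hN2 a
  have pair : ∀ x y : I8, mM F [(cd x, cd x, 1), (cd y, cd y, 1)] =
      Matrix.diagonal (Pi.single x (1 : F)) + Matrix.diagonal (Pi.single y (1 : F)) := fun x y => by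
    ext b c
    by_cases hbc : b = c
    · subst hbc
      by_cases hx : x = b <;> by_cases hy : y = b <;>
        simp [mM, toM, ent, cd_injective.eq_iff, hx, hy, Pi.single_apply, eq_comm (a := b)] <;> norm_num
    · have h1 : ¬ (x = b ∧ x = c) := fun h => hbc (h.1 ▸ h.2)
      have h2 : ¬ (y = b ∧ y = c) := fun h => hbc (h.1 ▸ h.2)
      simp [mM, toM, ent, cd_injective.eq_iff, h1, h2, hbc]
  have hd : dd (a * a) = s1 * s2 := Units.ext (by
    rw [Units.val_mul, e1, e2]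
    rw [show ([(2, 2, 1), (3, 3, 1)] : List (ℕ × ℕ × ℤ)) = [(cd (.inl 2), cd (.inl 2), 1), (cd (.inl 3), cd (.inl 3), 1)] from rfl,
      show ([(6, 6, 1), (7, 7, 1)] : List (ℕ × ℕ × ℤ)) = [(cd (.inr 2), cd (.inr 2), 1), (cd (.inr 3), cd (.inr 3), 1)] from rfl,
      show ([(3, 3, 1), (6, 6, 1)] : List (ℕ × ℕ × ℤ)) = [(cd (.inl 3), cd (.inl 3), 1), (cd (.inr 2), cd (.inr 2), 1)] from rfl,
      show ([(2, 2, 1), (7, 7, 1)] : List (ℕ × ℕ × ℤ)) = [(cd (.inl 2), cd (.inl 2), 1), (cd (.inr 3), cd (.inr 3), 1)] from rfl,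
      pair, pair, pair, pair, ← Matrix.diagonal_one]
    simp only [Matrix.diagonal_add, Matrix.diagonal_sub, ← Matrix.diagonal_smul, Matrix.diagonal_mul_diagonal]
    show Matrix.diagonal (ddF (a * a)) = _
    congr 1
    funext b
    rcases b with b | b <;> fin_cases b <;> simp [ddF, Pi.single_apply])
  rw [hd]
  exact mul_mem hs1 hs2

theorem ww_dd (a : Fˣ) : ww * dd a * ww⁻¹ = dd a⁻¹ := by
  rw [mul_inv_eq_iff_eq_mul]
  refine eq_of_bv fun c => funext fun b => ?_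
  simp only [Units.val_mul, ← Matrix.mulVec_mulVec, ww_mulVec, dd_mulVec]
  rcases b with b | b <;> fin_cases b <;> simp [ddF]

theorem dd_mul (a b : Fˣ) : dd a * dd b = dd (a * b) := Units.ext (by
  show Matrix.diagonal (ddF a) * Matrix.diagonal (ddF b) = Matrix.diagonal (ddF (a * b))
  rw [← ddF_mul, Matrix.diagonal_mul_diagonal']
  rfl)

theorem dd_inv (a : Fˣ) : (dd a)⁻¹ = dd a⁻¹ := Units.ext rfl

theorem dd_mem (a : Fˣ) : dd a ∈ O₈ := mem_isom.2 fun v => by
  simp only [Cfsg.quadFormPlus, dd_mulVec]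
  refine Finset.sum_congr rfl fun i _ => ?_
  fin_cases i <;> simp [ddF]
  field_simp

theorem ww_mem : (ww : GL I8 F) ∈ O₈ := mem_isom.2 fun v => by
  simp only [Cfsg.quadFormPlus, ww_mulVec]
  refine Finset.sum_congr rfl fun i _ => ?_
  fin_cases i <;> simp [mul_comm]

theorem comm_le : ∀ g ∈ (O₈), ∀ h ∈ (O₈), ⁅g, h⁆ ∈ rootGrp F := by
  intro g hg h hh
  let N := (rootGrp F).subgroupOf O₈
  haveI : N.Normal := ⟨fun n hn k => normal_mem k.2 hn⟩
  let π := QuotientGroup.mk' N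
  let P : Fˣ → ↥(O₈) ⧸ N := fun a => π ⟨dd a, dd_mem a⟩
  let w := π ⟨ww, ww_mem⟩
  have hPP : ∀ a b, Commute (P a) (P b) := fun a b => by
    rw [commute_iff_eq, ← map_mul, ← map_mul]
    congr 1
    exact Subtype.ext (by show dd a * dd b = dd b * dd a; rw [dd_mul, dd_mul, mul_comm])
  have hPw : ∀ a, Commute w (P a) := fun a => by
    rw [commute_iff_eq, ← map_mul, ← map_mul, QuotientGroup.mk'_eq_mk']
    refine ⟨⟨ww⁻¹ * dd (a * a) * ww, mul_mem (mul_mem (inv_mem ww_mem) (dd_mem _)) ww_mem⟩, ?_, ?_⟩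
    · show ww⁻¹ * dd (a * a) * ww ∈ rootGrp F
      have := normal_mem (inv_mem ww_mem) (dd_sq_mem a)
      rwa [inv_inv] at this
    · refine Subtype.ext ?_
      show ww * dd a * (ww⁻¹ * dd (a * a) * ww) = dd a * ww
      rw [show ww * dd a * (ww⁻¹ * dd (a * a) * ww) = ww * dd a * ww⁻¹ * dd (a * a) * ww by group, ww_dd, dd_mul,
        inv_mul_cancel_left]
  have key : ∀ x : ↥(O₈), ∃ a, π x = P a ∨ π x = P a * w := fun x => by
    obtain ⟨s, hs, a, e | e⟩ := decomp x.2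
    · refine ⟨a, Or.inl ?_⟩
      have hsN : (⟨s, rootGrp_le hs⟩ : ↥(O₈)) ∈ N := hs
      rw [show x = ⟨s, rootGrp_le hs⟩ * ⟨dd a, dd_mem a⟩ from Subtype.ext e, map_mul,
        show π ⟨s, rootGrp_le hs⟩ = 1 from (QuotientGroup.eq_one_iff _).2 hsN, one_mul]
    · refine ⟨a, Or.inr ?_⟩
      have hsN : (⟨s, rootGrp_le hs⟩ : ↥(O₈)) ∈ N := hs
      rw [show x = ⟨s, rootGrp_le hs⟩ * (⟨dd a, dd_mem a⟩ * ⟨ww, ww_mem⟩) from Subtype.ext e, map_mul,
        show π ⟨s, rootGrp_le hs⟩ = 1 from (QuotientGroup.eq_one_iff _).2 hsN, one_mul, map_mul]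
  obtain ⟨a, ha⟩ := key ⟨g, hg⟩
  obtain ⟨b, hb⟩ := key ⟨h, hh⟩
  have hc : Commute (π ⟨g, hg⟩) (π ⟨h, hh⟩) := by
    have e1 : Commute (P a) (P b * w) := (hPP a b).mul_right (hPw a).symm
    have e2 : Commute w (P b * w) := (hPw b).mul_right (Commute.refl w)
    rcases ha with e | e <;> rcases hb with e' | e' <;> rw [e, e']
    · exact hPP a b
    · exact e1
    · exact (hPP a b).mul_left (hPw b)
    · exact e1.mul_left e2
  have : π ⁅(⟨g, hg⟩ : ↥(O₈)), ⟨h, hh⟩⁆ = 1 := by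
    rw [map_commutatorElement, commutatorElement_eq_one_iff_commute]; exact hc
  exact (QuotientGroup.eq_one_iff (N := N) _).1 this

theorem root_comm : ∀ k : Fin 24, ∃ r : Fin 24, ∃ s : Fin 24, (s : ℕ) ≠ r ∧ (s : ℕ) ≠ chevD4.neg r ∧
    (chevD4.commTerms r s = [((k : ℕ), 1, 1, 1)] ∨ chevD4.commTerms r s = [((k : ℕ), -1, 1, 1)]) := by decide +kernel

theorem gen_comm (k : Fin 24) (z : F) : ∃ x y : St, chevD4.stGen F k z = ⁅x, y⁆ := by
  obtain ⟨r, s, h1, h2, h⟩ := root_comm k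
  have key : ∀ t u : F, (chevD4.stGen F s u)⁻¹ * (chevD4.stGen F r t)⁻¹ * chevD4.stGen F s u * chevD4.stGen F r t =
      PresentedGroup.mk _ (chevD4.stWord (chevD4.commWord F r s t u)) := fun t u => by
    have := PresentedGroup.one_of_mem (rels := chevD4.steinbergRels F)
      (x := (chevD4.stX s u)⁻¹ * (chevD4.stX r t)⁻¹ * chevD4.stX s u * chevD4.stX r t *
        (chevD4.stWord (chevD4.commWord F r s t u))⁻¹)
      (Or.inl (Or.inr ⟨r, s, t, u, r.2, s.2, h1, h2, rfl⟩))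
    simp only [map_mul, map_inv, mul_inv_eq_one] at this
    exact this
  rcases h with h | h
  · refine ⟨(chevD4.stGen F s 1)⁻¹, (chevD4.stGen F r (-z))⁻¹, ?_⟩
    rw [commutatorElement_def, inv_inv, inv_inv, key]
    simp [ChevalleyDatum.commWord, h, ChevalleyDatum.stWord, ChevalleyDatum.stGen]
  · refine ⟨(chevD4.stGen F s 1)⁻¹, (chevD4.stGen F r z)⁻¹, ?_⟩
    rw [commutatorElement_def, inv_inv, inv_inv, key]
    simp [ChevalleyDatum.commWord, h, ChevalleyDatum.stWord, ChevalleyDatum.stGen]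

theorem st_perfect : commutator St = ⊤ := by
  rw [eq_top_iff, ← PresentedGroup.closure_range_of, Subgroup.closure_le]
  rintro _ ⟨⟨r, t⟩, rfl⟩
  obtain ⟨x, y, h⟩ := gen_comm (F := F) r t
  rw [ChevalleyDatum.stGen, ChevalleyDatum.stX, dif_pos r.2] at h
  show (PresentedGroup.of (r, t) : St) ∈ commutator St
  rw [show (PresentedGroup.of (r, t) : St) = ⁅x, y⁆ from h, commutator_def]
  exact Subgroup.commutator_mem_commutator (Subgroup.mem_top _) (Subgroup.mem_top _)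

theorem omega_eq : Cfsg.Omega F Q₈ = (rootGrp F).subgroupOf O₈ := by
  refine le_antisymm ?_ ?_
  · show commutator ↥(O₈) ≤ _
    rw [commutator_def, Subgroup.commutator_le]
    intro g _ h _
    rw [Subgroup.mem_subgroupOf]
    have e : ((⁅g, h⁆ : ↥(O₈)) : GL I8 F) = ⁅(g : GL I8 F), (h : GL I8 F)⁆ :=
      map_commutatorElement (O₈).subtype g h
    rw [e]
    exact comm_le _ g.2 _ h.2
  · intro x hx
    obtain ⟨g, hg⟩ := hx
    let ρ : St →* ↥(O₈) := (MatRep.repHom repOK_D4).codRestrict _ fun g => rootGrp_le ⟨g, rfl⟩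
    have : ρ g ∈ commutator ↥(O₈) := by
      have h1 : ρ g ∈ (commutator St).map ρ := Subgroup.mem_map_of_mem _ (by rw [st_perfect]; exact Subgroup.mem_top g)
      rw [commutator_def, Subgroup.map_commutator] at h1
      rw [commutator_def]
      exact Subgroup.commutator_mono le_top le_top h1
    rwa [show x = ρ g from Subtype.ext hg.symm]

theorem map_center_le' {G H : Type*} [Group G] [Group H] (f : G →* H) (hf : Function.Surjective f) {g : G}
    (hg : g ∈ Subgroup.center G) : f g ∈ Subgroup.center H :=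
  Subgroup.mem_center_iff.2 fun h => by
    obtain ⟨a, rfl⟩ := hf h
    rw [← map_mul, ← map_mul, Subgroup.mem_center_iff.1 hg a]

theorem d4L_ne_zero : ∀ r : Fin 24, ∃ x y : Fin 8, ent (d4L r) x y = 1 ∨ ent (d4L r) x y = -1 := by decide +kernel

theorem nonempty_equiv : Nonempty (↥(chevD4.group F) ≃* Cfsg.POmega F Q₈) := by
  let C := fullCertD4.comm.cert
  let π := (stHom C fullCertD4.comm (F := F))
  have hπ : ∀ r < chevD4.nroots, ∀ t, π (chevD4.stGen F r t) = xg C r t := fun r hr t =>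
    stHom_gen C fullCertD4.comm hr t
  let π' : St →* ↥(chevD4.group F) := π.codRestrict _ fun g => (stHom_range C fullCertD4 π hπ).le ⟨g, rfl⟩
  have hsurj : Function.Surjective π' := fun y => by
    obtain ⟨g, hg⟩ := (stHom_range C fullCertD4 π hπ).ge y.2
    exact ⟨g, Subtype.ext hg⟩
  let ρ : St →* ↥(O₈) := (MatRep.repHom repOK_D4).codRestrict _ fun g => rootGrp_le ⟨g, rfl⟩
  let σ : St →* ↥(Cfsg.Omega F Q₈) := ρ.codRestrict _ fun g => by rw [omega_eq]; exact ⟨g, rfl⟩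
  have hσ : Function.Surjective σ := fun y => by
    have hy : ((y : ↥(O₈)) : GL I8 F) ∈ rootGrp F := by
      have h := y.2
      simp only [omega_eq] at h
      exact h
    obtain ⟨g, hg⟩ := hy
    exact ⟨g, Subtype.ext (Subtype.ext hg)⟩
  let ψ := (QuotientGroup.mk' (Subgroup.center ↥(Cfsg.Omega F Q₈))).comp σ
  have hψ : Function.Surjective ψ := (QuotientGroup.mk'_surjective _).comp hσ
  have hker : π'.ker ≤ ψ.ker := fun g hg => by
    have hg' : π g = 1 := congrArg Subtype.val hg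
    exact (QuotientGroup.eq_one_iff _).2
      (map_center_le' _ hσ (st_ker_le C fullCertD4 (by decide +kernel) π hπ hg').2)
  let f := π'.liftOfSurjective hsurj ⟨ψ, hker⟩
  have hf : Function.Surjective f := fun y => by
    obtain ⟨g, rfl⟩ := hψ y
    exact ⟨π' g, MonoidHom.liftOfRightInverse_comp_apply _ _ _ _ g⟩
  have hsimple := (Cfsg.Agent.S1054.result (F := F) chevD4 (by simp)).1
  rcases (hsimple.eq_bot_or_eq_top_of_normal f.ker inferInstance) with hb | ht
  · exact ⟨MulEquiv.ofBijective f ⟨(MonoidHom.ker_eq_bot_iff f).1 hb, hf⟩⟩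
  · exfalso
    have hall : ∀ g : St, σ g ∈ Subgroup.center _ := fun g => by
      have h1 : f (π' g) = 1 := MonoidHom.mem_ker.1 (by rw [ht]; exact Subgroup.mem_top _)
      rw [MonoidHom.liftOfRightInverse_comp_apply] at h1
      exact (QuotientGroup.eq_one_iff _).1 h1
    obtain ⟨x, y, hxy⟩ := gen_comm (F := F) 0 1
    have h1 : σ (chevD4.stGen F (0 : Fin 24) 1) = 1 := by
      rw [hxy, map_commutatorElement, commutatorElement_eq_one_iff_commute]
      exact (Subgroup.mem_center_iff.1 (hall y) (σ x))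
    have h2 : ((MatRep.repHom repOK_D4 (chevD4.stGen F (0 : Fin 24) 1) : GL I8 F) : Matrix I8 I8 F) = 1 :=
      congrArg (fun z : ↥(Cfsg.Omega F Q₈) => (((z : ↥(O₈)) : GL I8 F) : Matrix I8 I8 F)) h1
    rw [coe_gen, one_smul, add_eq_left] at h2
    obtain ⟨x, y, hxy⟩ := d4L_ne_zero 0
    obtain ⟨a, ha⟩ := exists_cd x.2
    obtain ⟨b, hb⟩ := exists_cd y.2
    have h3 := congrFun (congrFun h2 a) b
    have h4 : ((ent (d4L ((0 : Fin 24) : ℕ)) x y : ℤ) : F) = 0 := by rw [← ha, ← hb]; exact h3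
    rcases hxy with e | e <;> rw [e] at h4 <;> simp at h4

end Cfsg.Lib.Chev.D4Orth
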