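import Cfsg.Agent.Lib.Chev.D4Rep

/-!
The image of the Steinberg group of type D4 is the commutator subgroup of the orthogonal group, over any field.
-/

set_option autoImplicit false
set_option linter.unusedSectionVars false
set_option maxRecDepth 100000

namespace Cfsg.Lib.Chev.D4Orth

open Cfsg.Lie Matrix
open scoped commutatorElement

variable {F : Type*} [Field F]

local notation "Q₈" => Cfsg.quadFormPlus 4 F
local notation "O₈" => Cfsg.isometryGroup F Q₈

/-- The matrix over the field. -/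
def mM (F : Type*) [Field F] (l : List (ℕ × ℕ × ℤ)) : Matrix I8 I8 F := (Int.castRingHom F).mapMatrix (toM l)

theorem mM_single (a b : I8) (c : ℤ) (v : I8 → F) :
    mM F [(cd a, cd b, c)] *ᵥ v = Pi.single a ((c : F) * v b) := by
  funext x
  rw [Matrix.mulVec, dotProduct, Finset.sum_eq_single b]
  · by_cases h : x = a
    · subst h; simp [mM, toM, ent]
    · have : cd a ≠ cd x := fun e => h (cd_injective e).symm
      simp [mM, toM, ent, h, this]
  · intro y _ hy
    have : cd b ≠ cd y := fun e => hy (cd_injective e).symm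
    simp [mM, toM, ent, this]
  · intro h; exact absurd (Finset.mem_univ _) h

theorem mM_pair (a b a' b' : I8) (c c' : ℤ) (v : I8 → F) :
    mM F [(cd a, cd b, c), (cd a', cd b', c')] *ᵥ v =
      Pi.single a ((c : F) * v b) + Pi.single a' ((c' : F) * v b') := by
  rw [← mM_single, ← mM_single, ← Matrix.add_mulVec]
  congr 1
  rw [mM, mM, mM, ← map_add, ← toM_append]
  rfl

/-- The three kinds of root matrices: `ε_i - ε_j`, `ε_i + ε_j`, `-ε_i - ε_j`. -/
def lA (i j : Fin 4) : List (ℕ × ℕ × ℤ) :=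
  [(cd (.inl i), cd (.inl j), 1), (cd (.inr j), cd (.inr i), -1)]
/-- See `lA`. -/
def lP (i j : Fin 4) : List (ℕ × ℕ × ℤ) :=
  [(cd (.inl i), cd (.inr j), 1), (cd (.inl j), cd (.inr i), -1)]
/-- See `lA`. -/
def lN (i j : Fin 4) : List (ℕ × ℕ × ℤ) :=
  [(cd (.inr i), cd (.inl j), 1), (cd (.inr j), cd (.inl i), -1)]

/-- The group of the root elements. -/
noncomputable def rootGrp (F : Type*) [Field F] : Subgroup (GL I8 F) := (MatRep.repHom repOK_D4 (F := F)).range

theorem gen_exists : ∀ i j : Fin 4, i ≠ j → ∀ l ∈ [lA i j, lP i j, lN i j], ∃ r : Fin 24,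
    eqL (d4L r) l = true ∨ eqL (d4L r) (l.map fun p => (p.1, p.2.1, -1 * p.2.2)) = true := by decide +kernel

theorem exists_el {i j : Fin 4} (hij : i ≠ j) {l : List (ℕ × ℕ × ℤ)} (hl : l ∈ [lA i j, lP i j, lN i j]) (t : F) :
    ∃ s ∈ rootGrp F, ∀ v : I8 → F, (s : GL I8 F).1 *ᵥ v = v + t • (mM F l *ᵥ v) := by
  obtain ⟨r, h | h⟩ := gen_exists i j hij l hl
  · refine ⟨_, ⟨chevD4.stGen F r t, rfl⟩, fun v => ?_⟩
    rw [MatRep.repHom_gen repOK_D4 (show (r : ℕ) < chevD4.nroots from r.2), MatRep.repX, MatRep.mE, d4E, toM_of_eqL h,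
      Matrix.add_mulVec, Matrix.one_mulVec, Matrix.smul_mulVec, mM]
  · refine ⟨_, ⟨chevD4.stGen F r (-t), rfl⟩, fun v => ?_⟩
    rw [MatRep.repHom_gen repOK_D4 (show (r : ℕ) < chevD4.nroots from r.2), MatRep.repX, MatRep.mE, d4E, toM_of_eqL h,
      ← toM_smul, map_zsmul, neg_one_zsmul, smul_neg, neg_smul, neg_neg, Matrix.add_mulVec, Matrix.one_mulVec,
      Matrix.smul_mulVec, mM]

theorem exists_A {i j : Fin 4} (hij : i ≠ j) (t : F) : ∃ s ∈ rootGrp F, ∀ v : I8 → F,
    (s : GL I8 F).1 *ᵥ v = v + Pi.single (.inl i) (t * v (.inl j)) + Pi.single (.inr j) (-(t * v (.inr i))) := by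
  obtain ⟨s, hs, h⟩ := exists_el hij (l := lA i j) (by simp) t
  refine ⟨s, hs, fun v => ?_⟩
  rw [h, lA, mM_pair, smul_add, ← add_assoc, ← Pi.single_smul, ← Pi.single_smul]
  simp

theorem exists_P {i j : Fin 4} (hij : i ≠ j) (t : F) : ∃ s ∈ rootGrp F, ∀ v : I8 → F,
    (s : GL I8 F).1 *ᵥ v = v + Pi.single (.inl i) (t * v (.inr j)) + Pi.single (.inl j) (-(t * v (.inr i))) := by
  obtain ⟨s, hs, h⟩ := exists_el hij (l := lP i j) (by simp) t
  refine ⟨s, hs, fun v => ?_⟩
  rw [h, lP, mM_pair, smul_add, ← add_assoc, ← Pi.single_smul, ← Pi.single_smul]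
  simp

theorem exists_N {i j : Fin 4} (hij : i ≠ j) (t : F) : ∃ s ∈ rootGrp F, ∀ v : I8 → F,
    (s : GL I8 F).1 *ᵥ v = v + Pi.single (.inr i) (t * v (.inl j)) + Pi.single (.inr j) (-(t * v (.inl i))) := by
  obtain ⟨s, hs, h⟩ := exists_el hij (l := lN i j) (by simp) t
  refine ⟨s, hs, fun v => ?_⟩
  rw [h, lN, mM_pair, smul_add, ← add_assoc, ← Pi.single_smul, ← Pi.single_smul]
  simp

/-! ### The root group consists of isometries -/

theorem mem_isom {g : GL I8 F} : g ∈ O₈ ↔ ∀ v : I8 → F, Q₈ (g.1 *ᵥ v) = Q₈ v :=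
  ⟨fun h v => h v v, fun h u _ => h u⟩

theorem ints_isom : ∀ r : Fin 24, ∀ a b : Fin 8, ((ent (d4L r) ((a + 4) % 8 : ℕ) b + ent (d4L r) ((b + 4) % 8 : ℕ) a = 0) ∧
    (∀ c : Fin 4, ent (d4L r) c b * ent (d4L r) (c + 4 : ℕ) a + ent (d4L r) c a * ent (d4L r) (c + 4 : ℕ) b = 0)) := by
  decide +kernel

theorem ints_shape : ∀ r : Fin 24, ∃ i j : Fin 4, i ≠ j ∧ ∃ l ∈ [lA i j, lP i j, lN i j],
    eqL (d4L r) l = true ∨ eqL (d4L r) (l.map fun p => (p.1, p.2.1, -1 * p.2.2)) = true := by decide +kernel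

theorem quad_add_single {v : I8 → F} {a b : I8} {x y : F} (hab : a ≠ b) :
    Q₈ (v + Pi.single a x + Pi.single b y) = ∑ k : Fin 4,
      (v (.inl k) + Pi.single (M := fun _ => F) a x (.inl k) + Pi.single (M := fun _ => F) b y (.inl k)) *
        (v (.inr k) + Pi.single (M := fun _ => F) a x (.inr k) + Pi.single (M := fun _ => F) b y (.inr k)) := rfl

theorem repGen_isom (r : Fin 24) (t : F) : (MatRep.repHom repOK_D4 (chevD4.stGen F r t) : GL I8 F) ∈ O₈ := by
  rw [mem_isom]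
  intro v
  rw [MatRep.repHom_gen repOK_D4 (show (r : ℕ) < chevD4.nroots from r.2), MatRep.repX, MatRep.mE, d4E,
    Matrix.add_mulVec, Matrix.one_mulVec, Matrix.smul_mulVec]
  obtain ⟨i, j, hij, l, hl, h⟩ := ints_shape r
  have key : ∀ s : F, Q₈ (v + s • (mM F l *ᵥ v)) = Q₈ v := fun s => by
    simp only [List.mem_cons, List.not_mem_nil, or_false] at hl
    rcases hl with rfl | rfl | rfl <;>
      (simp only [lA, lP, lN]
       rw [mM_pair, smul_add, ← Pi.single_smul, ← Pi.single_smul]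
       simp only [Cfsg.quadFormPlus, Fin.sum_univ_four, Pi.add_apply, smul_eq_mul, Int.cast_one, Int.cast_neg, one_mul,
         neg_mul, mul_neg]
       fin_cases i <;> fin_cases j <;> first | (exfalso; exact hij rfl) | (simp <;> ring))
  rcases h with h | h
  · rw [toM_of_eqL h]; exact key t
  · rw [toM_of_eqL h, ← toM_smul, map_zsmul, neg_one_zsmul, Matrix.neg_mulVec, smul_neg, ← neg_smul]; exact key (-t)

theorem rootGrp_le : rootGrp F ≤ O₈ := by
  rintro _ ⟨g, rfl⟩
  have hg : g ∈ Subgroup.closure (Set.range (PresentedGroup.of (rels := chevD4.steinbergRels F))) := by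
    rw [PresentedGroup.closure_range_of]; exact Subgroup.mem_top g
  have hle : Subgroup.closure (Set.range (PresentedGroup.of (rels := chevD4.steinbergRels F))) ≤
      (O₈).comap (MatRep.repHom repOK_D4) := by
    rw [Subgroup.closure_le]
    rintro _ ⟨⟨r, t⟩, rfl⟩
    have := repGen_isom (F := F) r t
    rwa [ChevalleyDatum.stGen, ChevalleyDatum.stX, dif_pos r.2] at this
  exact hle hg

/-! ### Moving hyperbolic pairs -/

/-- The coordinate vectors. -/
def bv (a : I8) : I8 → F := Pi.single a 1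

/-- Supported on the pairs from `k` on. -/
def Above (k : Fin 4) (v : I8 → F) : Prop := ∀ l < k, v (.inl l) = 0 ∧ v (.inr l) = 0

/-- Fixes the pairs before `k`. -/
def FixBelow (k : Fin 4) (s : GL I8 F) : Prop :=
  ∀ l < k, s.1 *ᵥ bv (.inl l) = bv (.inl l) ∧ s.1 *ᵥ bv (.inr l) = bv (.inr l)

theorem fixBelow_mul {k : Fin 4} {s s' : GL I8 F} (h : FixBelow k s) (h' : FixBelow k s') : FixBelow k (s * s') :=
  fun l hl => by
    simp only [Units.val_mul, ← Matrix.mulVec_mulVec, (h' l hl).1, (h' l hl).2, (h l hl).1, (h l hl).2, and_self]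

theorem fixBelow_one {k : Fin 4} : FixBelow k (1 : GL I8 F) := fun l _ => by simp

theorem fixBelow_of {k : Fin 4} {s : GL I8 F} {a b a' b' : I8} {t : F}
    (h : ∀ v : I8 → F, s.1 *ᵥ v = v + Pi.single a (t * v b) + Pi.single a' (-(t * v b')))
    (hb : ∀ l < k, b ≠ .inl l ∧ b ≠ .inr l ∧ b' ≠ .inl l ∧ b' ≠ .inr l) : FixBelow k s := fun l hl => by
  obtain ⟨h1, h2, h3, h4⟩ := hb l hl
  simp [h, bv, h1, h2, h3, h4]

/-- `s` moves `v` to `w` inside the stabiliser of the pairs before `k`. -/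
def Moves (k : Fin 4) (v w : I8 → F) : Prop := ∃ s ∈ rootGrp F, FixBelow k s ∧ s.1 *ᵥ v = w

theorem Moves.trans {k : Fin 4} {u v w : I8 → F} (h : Moves k u v) (h' : Moves k v w) : Moves k u w := by
  obtain ⟨s, hs, hf, e⟩ := h
  obtain ⟨s', hs', hf', e'⟩ := h'
  exact ⟨s' * s, mul_mem hs' hs, fixBelow_mul hf' hf, by rw [Units.val_mul, ← Matrix.mulVec_mulVec, e, e']⟩

theorem Moves.refl {k : Fin 4} (v : I8 → F) : Moves k v v := ⟨1, one_mem _, fixBelow_one, by simp⟩

theorem moves_A {k i j : Fin 4} (hij : i ≠ j) (hi : k ≤ i) (hj : k ≤ j) (t : F) (v : I8 → F) :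
    Moves k v (v + Pi.single (.inl i) (t * v (.inl j)) + Pi.single (.inr j) (-(t * v (.inr i)))) := by
  obtain ⟨s, hs, h⟩ := exists_A hij t
  exact ⟨s, hs, fixBelow_of h fun l hl => ⟨fun e => absurd (Sum.inl_injective e) (hl.trans_le hj).ne', by simp,
    by simp, fun e => absurd (Sum.inr_injective e) (hl.trans_le hi).ne'⟩, h v⟩

theorem moves_P {k i j : Fin 4} (hij : i ≠ j) (hi : k ≤ i) (hj : k ≤ j) (t : F) (v : I8 → F) :
    Moves k v (v + Pi.single (.inl i) (t * v (.inr j)) + Pi.single (.inl j) (-(t * v (.inr i)))) := by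
  obtain ⟨s, hs, h⟩ := exists_P hij t
  exact ⟨s, hs, fixBelow_of h fun l hl => ⟨by simp, fun e => absurd (Sum.inr_injective e) (hl.trans_le hj).ne',
    by simp, fun e => absurd (Sum.inr_injective e) (hl.trans_le hi).ne'⟩, h v⟩

theorem moves_N {k i j : Fin 4} (hij : i ≠ j) (hi : k ≤ i) (hj : k ≤ j) (t : F) (v : I8 → F) :
    Moves k v (v + Pi.single (.inr i) (t * v (.inl j)) + Pi.single (.inr j) (-(t * v (.inl i)))) := by
  obtain ⟨s, hs, h⟩ := exists_N hij t
  exact ⟨s, hs, fixBelow_of h fun l hl => ⟨fun e => absurd (Sum.inl_injective e) (hl.trans_le hj).ne', by simp,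
    fun e => absurd (Sum.inl_injective e) (hl.trans_le hi).ne', by simp⟩, h v⟩

theorem Moves.quad {k : Fin 4} {v w : I8 → F} (h : Moves k v w) : Q₈ w = Q₈ v := by
  obtain ⟨s, hs, -, rfl⟩ := h
  exact mem_isom.1 (rootGrp_le hs) v

/-- Only the pair `k` carries entries. -/
theorem quad_only {k : Fin 4} {v : I8 → F} (h : ∀ j, j ≠ k → v (.inl j) = 0 ∧ v (.inr j) = 0) :
    Q₈ v = v (.inl k) * v (.inr k) := by
  rw [Cfsg.quadFormPlus, Finset.sum_eq_single k (fun j _ hj => by simp [(h j hj).1]) (by simp)]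

/-- The pairs after `k` can be cleared when the coordinate at `k` is not zero. -/
theorem clear_after {k : Fin 4} (L : List (Fin 4)) (hL : ∀ j ∈ L, k < j) (hnd : L.Nodup) :
    ∀ v : I8 → F, v (.inl k) ≠ 0 → ∃ w, Moves k v w ∧ w (.inl k) = v (.inl k) ∧
      (∀ j ∈ L, w (.inl j) = 0 ∧ w (.inr j) = 0) ∧
      (∀ j, j ∉ L → j ≠ k → w (.inl j) = v (.inl j) ∧ w (.inr j) = v (.inr j)) := by
  induction L with
  | nil => exact fun v _ => ⟨v, Moves.refl v, rfl, by simp, fun j _ _ => ⟨rfl, rfl⟩⟩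
  | cons j L ih =>
    intro v hv
    have hkj : k < j := hL j List.mem_cons_self
    obtain ⟨hjL, hnd'⟩ := List.nodup_cons.1 hnd
    obtain ⟨w, hw, hwk, hwL, hwo⟩ := ih (fun i hi => hL i (List.mem_cons_of_mem _ hi)) hnd' v hv
    have hwk0 : w (.inl k) ≠ 0 := hwk ▸ hv
    have m1 := moves_A (k := k) hkj.ne' hkj.le le_rfl (-(w (.inl j) / w (.inl k))) w
    set w1 := w + Pi.single (.inl j) (-(w (.inl j) / w (.inl k)) * w (.inl k)) +
      Pi.single (.inr k) (-(-(w (.inl j) / w (.inl k)) * w (.inr j))) with hw1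
    have m2 := moves_N (k := k) hkj.ne' hkj.le le_rfl (-(w (.inr j) / w (.inl k))) w1
    refine ⟨_, (hw.trans m1).trans m2, ?_, ?_, ?_⟩
    · simp [hw1, hwk, hkj.ne]
    · intro i hi
      rcases List.mem_cons.1 hi with rfl | hi
      · constructor <;> simp [hw1, hkj.ne', hwk0]
      · have hij : i ≠ j := fun e => hjL (e ▸ hi)
        have hik : i ≠ k := (hL i (List.mem_cons_of_mem _ hi)).ne'
        constructor <;> simp [hw1, hij, hik, (hwL i hi).1, (hwL i hi).2]
    · intro i hi hik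
      simp only [List.mem_cons, not_or] at hi
      constructor <;> simp [hw1, hi.1, hik, (hwo i hi.2 hik).1, (hwo i hi.2 hik).2]

/-- The nonzero singular vectors form one class. -/
theorem moves_bv {k : Fin 4} (hk : k ≠ 3) {v : I8 → F} (hv : Above k v) (h0 : v ≠ 0) (hq : Q₈ v = 0) :
    Moves k v (bv (.inl k)) := by
  obtain ⟨j, hj⟩ : ∃ j, k < j := ⟨3, lt_of_le_of_ne (Fin.le_last k) hk⟩
  obtain ⟨w0, hm0, ha0, hw0⟩ : ∃ w0, Moves k v w0 ∧ Above k w0 ∧ w0 (.inl k) ≠ 0 := by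
    by_cases hx : v (.inl k) ≠ 0
    · exact ⟨v, Moves.refl v, hv, hx⟩
    push Not at hx
    have above : ∀ {a b : I8} {x y : F}, (∀ l < k, a ≠ .inl l ∧ a ≠ .inr l ∧ b ≠ .inl l ∧ b ≠ .inr l) →
        ∀ u : I8 → F, Above k u → Above k (u + Pi.single (M := fun _ => F) a x + Pi.single (M := fun _ => F) b y) := fun {a b x y} hab u hu l hl => by
      obtain ⟨e1, e2, e3, e4⟩ := hab l hl
      constructor <;> simp [(hu l hl).1, (hu l hl).2, e1.symm, e2.symm, e3.symm, e4.symm]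
    by_cases h1 : ∃ i, k < i ∧ v (.inl i) ≠ 0
    · obtain ⟨i, hi, hvi⟩ := h1
      refine ⟨_, moves_A hi.ne le_rfl hi.le 1 v, above (fun l hl => ⟨?_, by simp, by simp, ?_⟩) v hv, ?_⟩
      · exact fun e => absurd (Sum.inl_injective e) hl.ne'
      · exact fun e => absurd (Sum.inr_injective e) (hl.trans hi).ne'
      · simp [hx, hvi]
    push Not at h1
    by_cases h2 : ∃ i, k < i ∧ v (.inr i) ≠ 0
    · obtain ⟨i, hi, hvi⟩ := h2
      refine ⟨_, moves_P hi.ne le_rfl hi.le 1 v, above (fun l hl => ⟨?_, by simp, ?_, by simp⟩) v hv, ?_⟩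
      · exact fun e => absurd (Sum.inl_injective e) hl.ne'
      · exact fun e => absurd (Sum.inl_injective e) (hl.trans hi).ne'
      · simp [hx, hvi, hi.ne]
    push Not at h2
    have hy : v (.inr k) ≠ 0 := fun hy => h0 <| funext fun a => by
      rcases a with a | a <;> rcases lt_trichotomy a k with h | h | h
      · exact (hv a h).1
      · exact h ▸ hx
      · exact h1 a h
      · exact (hv a h).2
      · exact h ▸ hy
      · exact h2 a h
    have hA : ∀ l < k, (Sum.inl k : I8) ≠ .inl l ∧ (Sum.inl k : I8) ≠ .inr l ∧ (Sum.inr j : I8) ≠ .inl l ∧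
        (Sum.inr j : I8) ≠ .inr l := fun l hl =>
      ⟨fun e => absurd (Sum.inl_injective e) hl.ne', by simp, by simp,
        fun e => absurd (Sum.inr_injective e) (hl.trans hj).ne'⟩
    have hP : ∀ l < k, (Sum.inl k : I8) ≠ .inl l ∧ (Sum.inl k : I8) ≠ .inr l ∧ (Sum.inl j : I8) ≠ .inl l ∧
        (Sum.inl j : I8) ≠ .inr l := fun l hl =>
      ⟨fun e => absurd (Sum.inl_injective e) hl.ne', by simp,
        fun e => absurd (Sum.inl_injective e) (hl.trans hj).ne', by simp⟩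
    refine ⟨_, (moves_A hj.ne le_rfl hj.le 1 v).trans (moves_P hj.ne le_rfl hj.le 1 _),
      above hP _ (above hA v hv), ?_⟩
    simp [hx, h1 j hj, h2 j hj, hy, hj.ne]
  obtain ⟨w, hm, hwk, hwL, hwo⟩ := clear_after ((List.finRange 4).filter fun i => decide (k < i))
    (fun i hi => by simpa using hi) ((List.nodup_finRange 4).filter _) w0 hw0
  have honly : ∀ i, i ≠ k → w (.inl i) = 0 ∧ w (.inr i) = 0 := fun i hi => by
    rcases lt_or_gt_of_ne hi with h | h
    · have := hwo i (by simp [h.le]) hi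
      rw [this.1, this.2]; exact ha0 i h
    · exact hwL i (by simp [h])
  have hyk : w (.inr k) = 0 := by
    have h := quad_only honly
    rw [(hm0.trans hm).quad, hq, hwk] at h
    exact (mul_eq_zero.1 h.symm).resolve_left hw0
  set a := w (.inl k) with ha
  have hane : a ≠ 0 := fun e => hw0 (hwk ▸ e)
  refine (hm0.trans hm).trans ?_
  have m1 := moves_A (k := k) hj.ne' hj.le le_rfl 1 w
  set w1 := w + Pi.single (.inl j) (1 * w (.inl k)) + Pi.single (.inr k) (-(1 * w (.inr j))) with hw1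
  have m2 := moves_A (k := k) hj.ne le_rfl hj.le ((1 - a) / a) w1
  set w2 := w1 + Pi.single (.inl k) ((1 - a) / a * w1 (.inl j)) +
    Pi.single (.inr j) (-((1 - a) / a * w1 (.inr k))) with hw2
  have m3 := moves_A (k := k) hj.ne' hj.le le_rfl (-a) w2
  convert (m1.trans m2).trans m3 using 1
  obtain ⟨hj1, hj2⟩ := honly j hj.ne'
  have e : a + (1 - a) / a * a = 1 := by field_simp; ring
  funext b
  rcases b with b | b <;> by_cases hb : b = k
  · subst hb; simp [bv, hw1, hw2, hj.ne, hj1, ← ha, e]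
  · by_cases hbj : b = j
    · subst hbj; simp [bv, hw1, hw2, hb, hj.ne, hj1, ← ha, e]
    · simp [bv, hw1, hw2, hb, hbj, (honly b hb).1]
  · subst hb; simp [bv, hw1, hw2, hyk, hj2, hj.ne]
  · by_cases hbj : b = j
    · subst hbj; simp [bv, hw1, hw2, hb, hj2, hyk, hj.ne]
    · simp [bv, hw1, hw2, hb, hbj, (honly b hb).2]

/-- Moving inside the stabiliser of the pairs before `k` and of the vector `e_k`. -/
def MovesE (k : Fin 4) (v w : I8 → F) : Prop :=
  ∃ s ∈ rootGrp F, FixBelow k s ∧ s.1 *ᵥ bv (.inl k) = bv (.inl k) ∧ s.1 *ᵥ v = w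

theorem MovesE.trans {k : Fin 4} {u v w : I8 → F} (h : MovesE k u v) (h' : MovesE k v w) : MovesE k u w := by
  obtain ⟨s, hs, hf, he, e⟩ := h
  obtain ⟨s', hs', hf', he', e'⟩ := h'
  exact ⟨s' * s, mul_mem hs' hs, fixBelow_mul hf' hf, by rw [Units.val_mul, ← Matrix.mulVec_mulVec, he, he'],
    by rw [Units.val_mul, ← Matrix.mulVec_mulVec, e, e']⟩

theorem MovesE.moves {k : Fin 4} {v w : I8 → F} (h : MovesE k v w) : Moves k v w := by
  obtain ⟨s, hs, hf, -, e⟩ := h; exact ⟨s, hs, hf, e⟩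

/-- The stabiliser of `e_k` is transitive on the singular vectors forming a hyperbolic pair with it. -/
theorem movesE_bv {k : Fin 4} (v : I8 → F) (hv : Above k v) (hy : v (.inr k) = 1) (hq : Q₈ v = 0) :
    MovesE k v (bv (.inr k)) := by
  have key : ∀ (L : List (Fin 4)), (∀ j ∈ L, k < j) → L.Nodup → ∀ v : I8 → F, v (.inr k) = 1 →
      ∃ w, MovesE k v w ∧ w (.inr k) = 1 ∧ (∀ j ∈ L, w (.inl j) = 0 ∧ w (.inr j) = 0) ∧
        (∀ j, j ∉ L → j ≠ k → w (.inl j) = v (.inl j) ∧ w (.inr j) = v (.inr j)) := by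
    intro L hL hnd
    induction L with
    | nil => exact fun v hv => ⟨v, ⟨1, one_mem _, fixBelow_one, by simp, by simp⟩, hv, by simp, fun j _ _ => ⟨rfl, rfl⟩⟩
    | cons j L ih =>
      intro v hv1
      have hkj : k < j := hL j List.mem_cons_self
      obtain ⟨hjL, hnd'⟩ := List.nodup_cons.1 hnd
      obtain ⟨w, hw, hwk, hwL, hwo⟩ := ih (fun i hi => hL i (List.mem_cons_of_mem _ hi)) hnd' v hv1
      obtain ⟨sP, hsP, hP⟩ := exists_P hkj.ne' (-(w (.inl j)))
      obtain ⟨sA, hsA, hA⟩ := exists_A hkj.ne (w (.inr j))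
      have eP : sP.1 *ᵥ bv (.inl k) = bv (.inl k) := by simp [hP, bv]
      have eA : sA.1 *ᵥ bv (.inl k) = bv (.inl k) := by simp [hA, bv, hkj.ne']
      have fP : FixBelow k sP := fixBelow_of hP fun l hl => ⟨by simp, fun e => absurd (Sum.inr_injective e) hl.ne',
        by simp, fun e => absurd (Sum.inr_injective e) (hl.trans hkj).ne'⟩
      have fA : FixBelow k sA := fixBelow_of hA fun l hl =>
        ⟨fun e => absurd (Sum.inl_injective e) (hl.trans hkj).ne', by simp, by simp,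
          fun e => absurd (Sum.inr_injective e) hl.ne'⟩
      have m1 : MovesE k w (sP.1 *ᵥ w) := ⟨sP, hsP, fP, eP, rfl⟩
      have m2 : MovesE k (sP.1 *ᵥ w) (sA.1 *ᵥ (sP.1 *ᵥ w)) := ⟨sA, hsA, fA, eA, rfl⟩
      refine ⟨_, (hw.trans m1).trans m2, ?_, ?_, ?_⟩
      · simp [hA, hP, hwk, hkj.ne]
      · intro i hi
        rcases List.mem_cons.1 hi with rfl | hi
        · constructor <;> simp [hA, hP, hkj.ne', hwk]
        · have hij : i ≠ j := fun e => hjL (e ▸ hi)
          have hik : i ≠ k := (hL i (List.mem_cons_of_mem _ hi)).ne'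
          constructor <;> simp [hA, hP, hij, hik, (hwL i hi).1, (hwL i hi).2]
      · intro i hi hik
        simp only [List.mem_cons, not_or] at hi
        constructor <;> simp [hA, hP, hi.1, hik, (hwo i hi.2 hik).1, (hwo i hi.2 hik).2]
  obtain ⟨w, hm, hwk, hwL, hwo⟩ := key ((List.finRange 4).filter fun i => decide (k < i))
    (fun i hi => by simpa using hi) ((List.nodup_finRange 4).filter _) v hy
  have honly : ∀ i, i ≠ k → w (.inl i) = 0 ∧ w (.inr i) = 0 := fun i hi => by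
    rcases lt_or_gt_of_ne hi with h | h
    · have := hwo i (by simp [h.le]) hi
      rw [this.1, this.2]; exact hv i h
    · exact hwL i (by simp [h])
  have hxk : w (.inl k) = 0 := by
    have h := quad_only honly
    rw [hm.moves.quad, hq, hwk, mul_one] at h
    exact h.symm
  convert hm using 1
  funext b
  rcases b with b | b <;> by_cases hb : b = k
  · subst hb; simp [bv, hxk]
  · simp [bv, (honly b hb).1]
  · subst hb; simp [bv, hwk]
  · simp [bv, hb, (honly b hb).2]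

/-! ### The decomposition -/

/-- The polar form. -/
def polar8 (u v : I8 → F) : F := ∑ i : Fin 4, (u (.inl i) * v (.inr i) + u (.inr i) * v (.inl i))

theorem polar8_eq (u v : I8 → F) : polar8 u v = Q₈ (u + v) - Q₈ u - Q₈ v := by
  rw [polar8, Cfsg.quadFormPlus, Cfsg.quadFormPlus, Cfsg.quadFormPlus, ← Finset.sum_sub_distrib, ← Finset.sum_sub_distrib]
  exact Finset.sum_congr rfl fun i _ => by simp only [Pi.add_apply]; ring

theorem polar8_map {g : GL I8 F} (hg : g ∈ O₈) (u v : I8 → F) : polar8 (g.1 *ᵥ u) (g.1 *ᵥ v) = polar8 u v := by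
  rw [polar8_eq, polar8_eq, ← Matrix.mulVec_add, mem_isom.1 hg, mem_isom.1 hg, mem_isom.1 hg]

theorem quad_bv (a : I8) : Q₈ (bv a : I8 → F) = 0 := by
  rcases a with a | a <;> simp [Cfsg.quadFormPlus, bv]

theorem polar8_inl (i : Fin 4) (v : I8 → F) : polar8 (bv (.inl i)) v = v (.inr i) := by
  rw [polar8, Finset.sum_eq_single i] <;> simp +contextual [bv]

theorem polar8_inr (i : Fin 4) (v : I8 → F) : polar8 (bv (.inr i)) v = v (.inl i) := by
  rw [polar8, Finset.sum_eq_single i] <;> simp +contextual [bv]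

theorem mulVec_ne_zero' (g : GL I8 F) {v : I8 → F} (hv : v ≠ 0) : g.1 *ᵥ v ≠ 0 := fun h => hv (by
  have := congrArg ((g⁻¹ : GL I8 F).1 *ᵥ ·) h
  simpa [Matrix.mulVec_mulVec, ← Units.val_mul] using this)

theorem bv_ne_zero (a : I8) : (bv a : I8 → F) ≠ 0 := fun h => by simpa [bv] using congrFun h a

theorem above_of_fix {g : GL I8 F} (hg : g ∈ O₈) {k : Fin 4} (hf : FixBelow k g) {u : I8 → F} (hu : Above k u) :
    Above k (g.1 *ᵥ u) := fun l hl => by
  constructor
  · rw [← polar8_inr l (g.1 *ᵥ u), ← (hf l hl).2, polar8_map hg, polar8_inr]; exact (hu l hl).1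
  · rw [← polar8_inl l (g.1 *ᵥ u), ← (hf l hl).1, polar8_map hg, polar8_inl]; exact (hu l hl).2

theorem above_bv {k : Fin 4} {a : I8} (ha : a = .inl k ∨ a = .inr k) : Above k (bv a : I8 → F) := fun l hl => by
  rcases ha with rfl | rfl <;> constructor <;> simp [bv, hl.ne]

theorem fix_step {g : GL I8 F} (hg : g ∈ O₈) {k : Fin 4} (hk : k ≠ 3) (hf : FixBelow k g) :
    ∃ s ∈ rootGrp F, ∀ l ≤ k, (s * g).1 *ᵥ bv (.inl l) = bv (.inl l) ∧ (s * g).1 *ᵥ bv (.inr l) = bv (.inr l) := by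
  obtain ⟨s, hs, hsf, hse⟩ := moves_bv hk (above_of_fix hg hf (above_bv (Or.inl rfl)))
    (mulVec_ne_zero' g (bv_ne_zero _)) (by rw [mem_isom.1 hg, quad_bv])
  set g1 := s * g with hg1
  have hg1m : g1 ∈ O₈ := mul_mem (rootGrp_le hs) hg
  have hg1f : FixBelow k g1 := fixBelow_mul hsf hf
  have hg1e : g1.1 *ᵥ bv (.inl k) = bv (.inl k) := by rw [hg1, Units.val_mul, ← Matrix.mulVec_mulVec, hse]
  obtain ⟨s', hs', hs'f, hs'e, hs'v⟩ := movesE_bv (k := k) (g1.1 *ᵥ bv (.inr k))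
    (above_of_fix hg1m hg1f (above_bv (Or.inr rfl)))
    (by rw [← polar8_inl k (g1.1 *ᵥ _), ← hg1e, polar8_map hg1m, polar8_inl]; simp [bv])
    (by rw [mem_isom.1 hg1m, quad_bv])
  refine ⟨s' * s, mul_mem hs' hs, fun l hl => ?_⟩
  rw [mul_assoc, ← hg1]
  rcases hl.lt_or_eq with h | rfl
  · exact fixBelow_mul hs'f hg1f l h
  · simp only [Units.val_mul, ← Matrix.mulVec_mulVec, hg1e, hs'e, hs'v, and_self]

theorem fix_three {g : GL I8 F} (hg : g ∈ O₈) : ∃ s ∈ rootGrp F, FixBelow 3 (s * g) := by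
  have key : ∀ (n : ℕ) (h : n < 4), ∃ s ∈ rootGrp F, FixBelow ⟨n, h⟩ (s * g) := by
    intro n
    induction n with
    | zero => exact fun h => ⟨1, one_mem _, fun l hl => absurd hl (Nat.not_lt_zero _)⟩
    | succ n ih =>
      intro h
      obtain ⟨s, hs, hf⟩ := ih (by omega)
      obtain ⟨s', hs', hf'⟩ := fix_step (mul_mem (rootGrp_le hs) hg) (k := ⟨n, by omega⟩)
        (fun e => by have := congrArg Fin.val e; simp at this; omega) hf
      exact ⟨s' * s, mul_mem hs' hs, fun l hl => by rw [mul_assoc]; exact hf' l (Fin.le_def.2 (Nat.lt_succ_iff.1 hl))⟩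
  exact key 3 (by norm_num)

/-- The entries of the outer diagonal element. -/
def ddF (a : Fˣ) : I8 → F := fun b => if b = .inl 3 then (a : F) else if b = .inr 3 then ((a⁻¹ : Fˣ) : F) else 1

theorem ddF_mul (a b : Fˣ) : ddF a * ddF b = ddF (a * b) := by
  funext x
  simp only [Pi.mul_apply, ddF]
  split_ifs <;> simp [mul_comm]

theorem ddF_one : ddF (1 : Fˣ) = 1 := by funext x; simp [ddF]

/-- The diagonal element on the last pair. -/
def dd (a : Fˣ) : GL I8 F where
  val := Matrix.diagonal (ddF a)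
  inv := Matrix.diagonal (ddF a⁻¹)
  val_inv := by rw [Matrix.diagonal_mul_diagonal', show (fun i => ddF a i * ddF a⁻¹ i) = ddF a * ddF a⁻¹ from rfl, ddF_mul, mul_inv_cancel, ddF_one, Matrix.diagonal_one']
  inv_val := by rw [Matrix.diagonal_mul_diagonal', show (fun i => ddF a⁻¹ i * ddF a i) = ddF a⁻¹ * ddF a from rfl, ddF_mul, inv_mul_cancel, ddF_one, Matrix.diagonal_one']

/-- The swap of the last pair. -/
def lW : List (ℕ × ℕ × ℤ) := [(0, 0, 1), (1, 1, 1), (2, 2, 1), (4, 4, 1), (5, 5, 1), (6, 6, 1), (3, 7, 1), (7, 3, 1)]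

theorem lW_sq : eqL (smulL lW lW) ((List.range 8).map fun i => (i, i, 1)) = true := by decide +kernel

theorem one_list : ∀ a b : I8, ent ((List.range 8).map fun i => (i, i, (1 : ℤ))) (cd a) (cd b) = if a = b then 1 else 0 := by
  decide +kernel

theorem mM_lW_sq : mM F lW * mM F lW = 1 := by
  rw [mM, ← map_mul, toM_mul (by decide), toM_of_eqL lW_sq,
    show toM ((List.range 8).map fun i => (i, i, (1 : ℤ))) = 1 from Matrix.ext fun a b =>
      (one_list a b).trans (Matrix.one_apply).symm, map_one]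

/-- The swap as a group element. -/
def ww : GL I8 F := ⟨mM F lW, mM F lW, mM_lW_sq, mM_lW_sq⟩

theorem lW_apply : ∀ a b : I8, ent lW (cd a) (cd b) =
    if b = (if a = .inl 3 then .inr 3 else if a = .inr 3 then .inl 3 else a) then 1 else 0 := by decide +kernel

theorem ww_mulVec (v : I8 → F) (a : I8) : ((ww : GL I8 F).1 *ᵥ v) a =
    v (if a = .inl 3 then .inr 3 else if a = .inr 3 then .inl 3 else a) := by
  show (mM F lW *ᵥ v) a = _
  rw [Matrix.mulVec, dotProduct, Finset.sum_eq_single (if a = .inl 3 then .inr 3 else if a = .inr 3 then .inl 3 else a)]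
  · simp [mM, toM, lW_apply]
  · intro b _ hb; simp [mM, toM, lW_apply, hb]
  · intro h; exact absurd (Finset.mem_univ _) h

theorem dd_mulVec (c : Fˣ) (v : I8 → F) (a : I8) : ((dd c).1 *ᵥ v) a = ddF c a * v a :=
  Matrix.mulVec_diagonal _ _ _

theorem eq_of_bv {g h : GL I8 F} (e : ∀ a, g.1 *ᵥ bv a = h.1 *ᵥ bv a) : g = h :=
  Units.ext (Matrix.ext fun i j => by
    have := congrFun (e j) i
    simpa [bv] using this)

theorem last_pair {g : GL I8 F} (hg : g ∈ O₈) (hf : FixBelow 3 g) : ∃ a : Fˣ, g = dd a ∨ g = dd a * ww := by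
  have hu := above_of_fix hg hf (above_bv (k := (3 : Fin 4)) (Or.inl rfl))
  have hw := above_of_fix hg hf (above_bv (k := (3 : Fin 4)) (Or.inr rfl))
  set u := g.1 *ᵥ bv (.inl 3) with hudef
  set w := g.1 *ᵥ bv (.inr 3) with hwdef
  have h3 : ∀ {x : I8 → F}, Above 3 x → ∀ i, i ≠ 3 → x (.inl i) = 0 ∧ x (.inr i) = 0 := fun hx i hi =>
    hx i (lt_of_le_of_ne (Fin.le_last i) hi)
  have hqu : u (.inl 3) * u (.inr 3) = 0 := by
    rw [← quad_only (h3 hu), hudef, mem_isom.1 hg, quad_bv]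
  have hqw : w (.inl 3) * w (.inr 3) = 0 := by
    rw [← quad_only (h3 hw), hwdef, mem_isom.1 hg, quad_bv]
  have hb : u (.inl 3) * w (.inr 3) + u (.inr 3) * w (.inl 3) = 1 := by
    have h := polar8_map hg (bv (.inl 3)) (bv (.inr 3))
    rw [polar8_inl, ← hudef, ← hwdef, polar8, Finset.sum_eq_single 3 (fun i _ hi => by
      simp [(h3 hu i hi).1, (h3 hu i hi).2]) (by simp)] at h
    simpa [bv] using h
  have hfix : ∀ a : I8, a ≠ .inl 3 → a ≠ .inr 3 → g.1 *ᵥ bv a = bv a := fun a h1 h2 => by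
    rcases a with i | i
    · exact (hf i (lt_of_le_of_ne (Fin.le_last i) fun e => h1 (by rw [e]))).1
    · exact (hf i (lt_of_le_of_ne (Fin.le_last i) fun e => h2 (by rw [e]))).2
  by_cases hy : u (.inr 3) = 0
  · rw [hy, zero_mul, add_zero] at hb
    have hx : u (.inl 3) ≠ 0 := left_ne_zero_of_mul (hb ▸ one_ne_zero)
    have hwx : w (.inl 3) = 0 := (mul_eq_zero.1 hqw).resolve_right (right_ne_zero_of_mul (hb ▸ one_ne_zero))
    refine ⟨Units.mk0 _ hx, Or.inl (eq_of_bv fun a => funext fun b => ?_)⟩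
    rw [dd_mulVec]
    by_cases h1 : a = .inl 3
    · subst h1; rw [← hudef]
      rcases b with b | b <;> by_cases hb3 : b = 3
      · subst hb3; simp [ddF, bv]
      · simp [ddF, bv, hb3, (h3 hu b hb3).1]
      · subst hb3; simp [ddF, bv, hy]
      · simp [ddF, bv, hb3, (h3 hu b hb3).2]
    by_cases h2 : a = .inr 3
    · subst h2; rw [← hwdef]
      have hwy : w (.inr 3) = (u (.inl 3))⁻¹ := eq_inv_of_mul_eq_one_right hb
      rcases b with b | b <;> by_cases hb3 : b = 3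
      · subst hb3; simp [ddF, bv, hwx]
      · simp [ddF, bv, hb3, (h3 hw b hb3).1]
      · subst hb3; simp [ddF, bv, hwy]
      · simp [ddF, bv, hb3, (h3 hw b hb3).2]
    rw [hfix a h1 h2]
    by_cases hab : b = a
    · subst hab; simp [ddF, bv, h1, h2]
    · simp [bv, hab]
  · have hx : u (.inl 3) = 0 := (mul_eq_zero.1 hqu).resolve_right hy
    rw [hx, zero_mul, zero_add] at hb
    have hwx : w (.inl 3) ≠ 0 := right_ne_zero_of_mul (hb ▸ one_ne_zero)
    have hwy : w (.inr 3) = 0 := (mul_eq_zero.1 hqw).resolve_left hwx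
    have huy : u (.inr 3) = (w (.inl 3))⁻¹ := eq_inv_of_mul_eq_one_left hb
    refine ⟨Units.mk0 _ hwx, Or.inr (eq_of_bv fun a => funext fun b => ?_)⟩
    rw [Units.val_mul, ← Matrix.mulVec_mulVec, dd_mulVec, ww_mulVec]
    by_cases h1 : a = .inl 3
    · subst h1; rw [← hudef]
      rcases b with b | b <;> by_cases hb3 : b = 3
      · subst hb3; simp [ddF, bv, hx]
      · simp [ddF, bv, hb3, (h3 hu b hb3).1]
      · subst hb3; simp [ddF, bv, huy]
      · simp [ddF, bv, hb3, (h3 hu b hb3).2]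
    by_cases h2 : a = .inr 3
    · subst h2; rw [← hwdef]
      rcases b with b | b <;> by_cases hb3 : b = 3
      · subst hb3; simp [ddF, bv]
      · simp [ddF, bv, hb3, (h3 hw b hb3).1]
      · subst hb3; simp [ddF, bv, hwy]
      · simp [ddF, bv, hb3, (h3 hw b hb3).2]
    rw [hfix a h1 h2]
    by_cases h1' : b = .inl 3
    · subst h1'; simp [bv, Ne.symm h1, Ne.symm h2]
    by_cases h2' : b = .inr 3
    · subst h2'; simp [bv, Ne.symm h1, Ne.symm h2]
    simp [ddF, h1', h2']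

theorem decomp {g : GL I8 F} (hg : g ∈ O₈) : ∃ s ∈ rootGrp F, ∃ a : Fˣ, g = s * dd a ∨ g = s * (dd a * ww) := by
  obtain ⟨s, hs, hf⟩ := fix_three hg
  obtain ⟨a, h | h⟩ := last_pair (mul_mem (rootGrp_le hs) hg) hf
  · exact ⟨s⁻¹, inv_mem hs, a, Or.inl (eq_inv_mul_iff_mul_eq.2 h)⟩
  · exact ⟨s⁻¹, inv_mem hs, a, Or.inr (eq_inv_mul_iff_mul_eq.2 h)⟩

end Cfsg.Lib.Chev.D4Orth
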