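import Cfsg.Agent.Lib.Chev.MatRep
import Cfsg.Prelude.Def_ChevD4
import Cfsg.Prelude.Def_Classical

/-!
The natural module of type D4: sparse integer matrices satisfying the Steinberg relations.
-/

set_option autoImplicit false
set_option maxRecDepth 100000

namespace Cfsg.Lib.Chev.D4Orth

open Cfsg.Lie Matrix

/-- The coordinates. -/
abbrev I8 : Type := Fin 4 ⊕ Fin 4

/-- The number of a coordinate. -/
def cd : I8 → ℕ
  | .inl i => i.1
  | .inr i => i.1 + 4

/-- Entries of a sparse matrix. -/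
def ent : List (ℕ × ℕ × ℤ) → ℕ → ℕ → ℤ
  | [], _, _ => 0
  | (i, j, c) :: l, a, b => (if i = a ∧ j = b then c else 0) + ent l a b

/-- A sparse matrix. -/
def toM (l : List (ℕ × ℕ × ℤ)) : Matrix I8 I8 ℤ := Matrix.of fun a b => ent l (cd a) (cd b)

/-- The product of two sparse matrices. -/
def smulL (l l' : List (ℕ × ℕ × ℤ)) : List (ℕ × ℕ × ℤ) :=
  l.flatMap fun p => (l'.filter fun q => p.2.1 == q.1).map fun q => (p.1, q.2.1, p.2.2 * q.2.2)

/-- The entries agree. -/
def eqL (l l' : List (ℕ × ℕ × ℤ)) : Bool :=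
  (List.range 8).all fun a => (List.range 8).all fun b => decide (ent l a b = ent l' a b)

theorem ent_append (l l' : List (ℕ × ℕ × ℤ)) (a b : ℕ) : ent (l ++ l') a b = ent l a b + ent l' a b := by
  induction l with
  | nil => simp [ent]
  | cons p l ih => obtain ⟨i, j, c⟩ := p; simp [ent, ih, add_assoc]

theorem cd_lt (a : I8) : cd a < 8 := by rcases a with a | a <;> simp only [cd] <;> omega

theorem cd_injective : Function.Injective cd := by
  rintro (a | a) (b | b) h <;> simp only [cd] at h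
  · exact congrArg _ (Fin.ext h)
  · omega
  · omega
  · exact congrArg _ (Fin.ext (by omega))

theorem toM_of_eqL {l l' : List (ℕ × ℕ × ℤ)} (h : eqL l l' = true) : toM l = toM l' := by
  simp only [eqL, List.all_eq_true, List.mem_range, decide_eq_true_eq] at h
  exact Matrix.ext fun a b => h _ (cd_lt a) _ (cd_lt b)

theorem toM_append (l l' : List (ℕ × ℕ × ℤ)) : toM (l ++ l') = toM l + toM l' :=
  Matrix.ext fun a b => ent_append l l' _ _

theorem toM_nil : toM [] = 0 := rfl

theorem exists_cd {k : ℕ} (hk : k < 8) : ∃ a : I8, cd a = k := by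
  rcases Nat.lt_or_ge k 4 with h | h
  · exact ⟨.inl ⟨k, h⟩, rfl⟩
  · exact ⟨.inr ⟨k - 4, by omega⟩, by simp [cd]; omega⟩

/-- All indices are in range. -/
def okL (l : List (ℕ × ℕ × ℤ)) : Bool := l.all fun p => Nat.blt p.2.1 8

theorem toM_mul : ∀ {l : List (ℕ × ℕ × ℤ)}, okL l = true → ∀ (l' : List (ℕ × ℕ × ℤ)),
    toM l * toM l' = toM (smulL l l')
  | [], _, l' => by simp [toM_nil, smulL]
  | (i, j, c) :: l, h, l' => by
    simp only [okL, List.all_cons, Bool.and_eq_true, Nat.blt_eq] at h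
    have hl : okL l = true := h.2
    have e1 : toM ((i, j, c) :: l) = toM [(i, j, c)] + toM l := toM_append [(i, j, c)] l
    have e2 : smulL ((i, j, c) :: l) l' =
        ((l'.filter fun q => j == q.1).map fun q => (i, q.2.1, c * q.2.2)) ++ smulL l l' := by
      simp [smulL]
    rw [e1, add_mul, toM_mul hl, e2, toM_append]
    congr 1
    obtain ⟨m, hm⟩ := exists_cd h.1
    refine Matrix.ext fun a b => ?_
    rw [Matrix.mul_apply, Finset.sum_eq_single m]
    · show ent [(i, j, c)] (cd a) (cd m) * ent l' (cd m) (cd b) =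
        ent ((l'.filter fun q => j == q.1).map fun q => (i, q.2.1, c * q.2.2)) (cd a) (cd b)
      rw [hm]
      clear e1 e2
      induction l' with
      | nil => simp [ent]
      | cons q l' ih =>
        obtain ⟨i', j', c'⟩ := q
        by_cases hj : j = i'
        · subst hj
          simp only [List.filter_cons, beq_self_eq_true, if_true, List.map_cons, ent, true_and, mul_add]
          rw [← ih]
          by_cases hi : i = cd a <;> by_cases hj' : j' = cd b <;> simp [hi, hj', ent]
        · have hb : (j == i') = false := beq_eq_false_iff_ne.2 hj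
          simp only [List.filter_cons, hb, Bool.false_eq_true, if_false, ent]
          rw [← ih]
          simp [ent, Ne.symm hj]
    · intro x _ hx
      have : j ≠ cd x := fun e => hx (cd_injective (e.symm.trans hm.symm))
      show ent [(i, j, c)] (cd a) (cd x) * _ = 0
      simp [ent, this]
    · intro h'; exact absurd (Finset.mem_univ _) h'

theorem toM_smul (c : ℤ) (l : List (ℕ × ℕ × ℤ)) : c • toM l = toM (l.map fun p => (p.1, p.2.1, c * p.2.2)) := by
  refine Matrix.ext fun a b => ?_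
  show c * ent l (cd a) (cd b) = ent (l.map fun p => (p.1, p.2.1, c * p.2.2)) (cd a) (cd b)
  induction l with
  | nil => simp [ent]
  | cons p l ih =>
    obtain ⟨i, j, d⟩ := p
    simp only [List.map_cons, ent, mul_add, ih]
    split_ifs <;> simp

/-- The root elements of the natural module. -/
def d4L : ℕ → List (ℕ × ℕ × ℤ)
  | 0 => [(4, 1, -1), (5, 0, 1)]
  | 1 => [(4, 2, -1), (6, 0, 1)]
  | 2 => [(3, 0, 1), (4, 7, -1)]
  | 3 => [(4, 3, -1), (7, 0, 1)]
  | 4 => [(2, 0, -1), (4, 6, 1)]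
  | 5 => [(1, 0, 1), (4, 5, -1)]
  | 6 => [(5, 2, 1), (6, 1, -1)]
  | 7 => [(3, 1, -1), (5, 7, 1)]
  | 8 => [(5, 3, 1), (7, 1, -1)]
  | 9 => [(2, 1, 1), (5, 6, -1)]
  | 10 => [(3, 2, 1), (6, 7, -1)]
  | 11 => [(6, 3, -1), (7, 2, 1)]
  | 12 => [(2, 7, 1), (3, 6, -1)]
  | 13 => [(2, 3, 1), (7, 6, -1)]
  | 14 => [(1, 2, 1), (6, 5, -1)]
  | 15 => [(1, 7, -1), (3, 5, 1)]
  | 16 => [(1, 3, -1), (7, 5, 1)]
  | 17 => [(1, 6, -1), (2, 5, 1)]
  | 18 => [(0, 1, 1), (5, 4, -1)]
  | 19 => [(0, 2, -1), (6, 4, 1)]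
  | 20 => [(0, 7, 1), (3, 4, -1)]
  | 21 => [(0, 3, 1), (7, 4, -1)]
  | 22 => [(0, 6, 1), (2, 4, -1)]
  | 23 => [(0, 5, 1), (1, 4, -1)]
  | _ => []

/-- The check of the relations. -/
def chkD4At (r : ℕ) : Bool :=
  let n := chevD4.neg r
  okL (d4L r) && Nat.blt n 24 && Nat.beq (chevD4.neg n) r && eqL (smulL (d4L r) (d4L r)) [] &&
    eqL (smulL (smulL (d4L r) (d4L n)) (d4L r)) (d4L r) &&
    (List.range 24).all fun s => Nat.beq s r || Nat.beq s n ||
      (eqL (smulL (smulL (d4L s) (d4L r)) (d4L s)) [] &&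
        match chevD4.commTerms r s with
        | [] => eqL (smulL (d4L s) (d4L r)) (smulL (d4L r) (d4L s))
        | [(k, c, 1, 1)] => Nat.blt k 24 &&
            eqL (smulL (d4L s) (d4L r)) (((d4L k).map fun p => (p.1, p.2.1, -c * p.2.2)) ++ smulL (d4L r) (d4L s))
        | _ => false)

theorem chkD4_true : (List.range 24).all chkD4At = true := by decide +kernel

theorem okL_smulL {l l' : List (ℕ × ℕ × ℤ)} (h : okL l' = true) : okL (smulL l l') = true := by
  simp only [okL, smulL, List.all_eq_true, List.mem_flatMap, List.mem_map, List.mem_filter] at h ⊢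
  rintro p ⟨q, -, q', ⟨hq', -⟩, rfl⟩
  exact h q' hq'

/-- The representation. -/
def d4E (r : ℕ) : Matrix I8 I8 ℤ := toM (d4L r)

theorem repOK_D4 : MatRep.RepOK chevD4 d4E := by
  have H : ∀ r < 24, chkD4At r = true := by
    have := chkD4_true
    simp only [List.all_eq_true, List.mem_range] at this
    exact this
  have ok : ∀ r < 24, okL (d4L r) = true := fun r hr => by
    have := H r hr
    simp only [chkD4At, Bool.and_eq_true] at this
    exact this.1.1.1.1.1
  refine ⟨fun r hr => ?_, fun r hr => ?_, fun r hr => ?_, fun r hr s hs h1 h2 => ?_, fun r hr s hs h1 h2 => ?_⟩ <;>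
    have hc := H r hr <;> simp only [chkD4At, Bool.and_eq_true, List.all_eq_true, List.mem_range, Bool.or_eq_true,
      Nat.blt_eq] at hc
  · exact ⟨hc.1.1.1.1.2, Nat.eq_of_beq_eq_true hc.1.1.1.2⟩
  · rw [d4E, toM_mul (ok r hr), toM_of_eqL hc.1.1.2, toM_nil]
  · rw [d4E, d4E, toM_mul (ok r hr), toM_mul (okL_smulL (ok _ hc.1.1.1.1.2)), toM_of_eqL hc.1.2]
  · rcases hc.2 s hs with (e | e) | e
    · exact absurd (Nat.eq_of_beq_eq_true e) h1
    · exact absurd (Nat.eq_of_beq_eq_true e) h2
    · rw [d4E, d4E, toM_mul (ok s hs), toM_mul (okL_smulL (ok r hr)), toM_of_eqL e.1, toM_nil]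
  · rcases hc.2 s hs with (e | e) | e
    · exact absurd (Nat.eq_of_beq_eq_true e) h1
    · exact absurd (Nat.eq_of_beq_eq_true e) h2
    · obtain ⟨-, e⟩ := e
      split at e
      · rename_i he
        refine Or.inl ⟨he, ?_⟩
        rw [d4E, d4E, toM_mul (ok s hs), toM_mul (ok r hr), toM_of_eqL e, sub_self]
      · rename_i k c he
        rw [Bool.and_eq_true, Nat.blt_eq] at e
        refine Or.inr ⟨k, c, he, e.1, ?_⟩
        rw [d4E, d4E, d4E, toM_mul (ok s hs), toM_mul (ok r hr), toM_of_eqL e.2, toM_append, toM_smul,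
          add_sub_cancel_right]
      · exact absurd e Bool.false_ne_true

end Cfsg.Lib.Chev.D4Orth
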