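import Mathlib
import Cfsg.Prelude.Def_ParabolicCharacters
import Cfsg.Agent.Lib.Chev.ParabCosets
import Cfsg.Agent.Lib.Perm.PermCharacter
import Cfsg.Agent.Lib.Char.SignedIrr
import Cfsg.Agent.Lib.Char.Induced
import Cfsg.Agent.Lib.Block.RegInt
import Cfsg.Agent.Lib.Block.SecondMain
import Cfsg.Agent.Lib.Block.DefectApps

/-!
The Steinberg character: restriction to the Borel subgroup, degree, irreducibility, vanishing.
-/

set_option autoImplicit false
set_option linter.unusedSectionVars false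

namespace Cfsg.Lib.Chev

open Cfsg Cfsg.Lie Cfsg.Lib.Char MulAction
open scoped ComplexConjugate

section orbit

variable {G : Type*} [Group G]

theorem sum_fixedPoint_subgroup [Finite G] (P Q : Subgroup G) [Fintype ↥P] :
    ∑ x : ↥P, fixedPointCharacter Q (x : G) =
      (Nat.card ↥P : ℂ) * (Nat.card (orbitRel.Quotient ↥P (G ⧸ Q)) : ℂ) := by
  classical
  letI := Fintype.ofFinite (G ⧸ Q)
  letI := Fintype.ofFinite (orbitRel.Quotient ↥P (G ⧸ Q))
  have h : ∀ x : ↥P, fixedPointCharacter Q (x : G) = ((Fintype.card (fixedBy (G ⧸ Q) x) : ℕ) : ℂ) := fun x => by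
    rw [fixedPointCharacter, ← Nat.card_eq_fintype_card]; rfl
  rw [Finset.sum_congr rfl (fun x _ => h x), ← Nat.cast_sum, sum_card_fixedBy_eq_card_orbits_mul_card_group,
    ← Nat.card_eq_fintype_card, ← Nat.card_eq_fintype_card, Nat.cast_mul, mul_comm]

theorem sum_fixedPoint_mul [Fintype G] (Q : Subgroup G) [Fintype ↥Q] {χ : G → ℂ}
    (hχ : ∀ g x, χ (x * g * x⁻¹) = χ g) :
    ∑ g, fixedPointCharacter Q g * χ g = (Q.index : ℂ) * ∑ x : ↥Q, χ (x : G) := by
  classical
  letI := Fintype.ofFinite (G ⧸ Q)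
  have h : ∀ g, fixedPointCharacter Q g * χ g = ∑ x : G ⧸ Q, if g • x = x then χ g else 0 := fun g => by
    rw [fixedPointCharacter, Nat.card_eq_fintype_card, Finset.sum_ite, Finset.sum_const_zero, add_zero, Finset.sum_const,
      nsmul_eq_mul]
    congr 2
    exact Fintype.card_of_subtype _ fun x => by simp [fixedBy]
  rw [Finset.sum_congr rfl (fun g _ => h g), Finset.sum_comm]
  have h2 : ∀ x : G ⧸ Q, (∑ g, if g • x = x then χ g else 0) = ∑ q : ↥Q, χ (q : G) := by
    intro x
    induction x using QuotientGroup.induction_on with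
    | H a =>
      rw [← Finset.sum_filter]
      refine Finset.sum_bij' (fun g hg => ⟨a⁻¹ * g * a, ?_⟩) (fun q _ => a * q * a⁻¹) ?_ ?_ ?_ ?_ ?_
      · have := (Finset.mem_filter.1 hg).2
        rw [MulAction.Quotient.smul_coe, QuotientGroup.eq, smul_eq_mul, mul_inv_rev] at this
        simpa [mul_assoc] using Q.inv_mem this
      · intros; exact Finset.mem_univ _
      · intro q _
        refine Finset.mem_filter.2 ⟨Finset.mem_univ _, ?_⟩
        rw [MulAction.Quotient.smul_coe, QuotientGroup.eq, smul_eq_mul]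
        simpa [mul_assoc] using Q.inv_mem q.2
      · intro g _; group
      · intro q _; exact Subtype.ext (by group)
      · intro g _
        show χ g = χ (a⁻¹ * g * a)
        conv_rhs => rw [show a⁻¹ * g * a = a⁻¹ * g * a⁻¹⁻¹ by group, hχ]
  rw [Finset.sum_congr rfl (fun x _ => h2 x), Finset.sum_const, nsmul_eq_mul, Finset.card_univ,
    ← Nat.card_eq_fintype_card, Subgroup.index]

/-- Fixed cosets inside one cell. -/
theorem card_fixed_cell (P B H : Subgroup G) (n : G)
    (hfib : ∀ β ∈ B, ∀ β' ∈ B, (β * n)⁻¹ * (β' * n) ∈ P ↔ β⁻¹ * β' ∈ H) (b : ↥B) :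
    Nat.card (fixedBy (↥B ⧸ H.subgroupOf B) b) =
      Nat.card {x : G ⧸ P // (b : G) • x = x ∧ ∃ β ∈ B, x = ((β * n : G) : G ⧸ P)} := by
  let φ : ↥B ⧸ H.subgroupOf B → G ⧸ P := Quotient.lift (fun β : ↥B => (((β : G) * n : G) : G ⧸ P))
    fun β β' hr => QuotientGroup.eq.2 ((hfib β β.2 β' β'.2).2 ((QuotientGroup.leftRel_apply (s := H.subgroupOf B)).1 hr))
  have hinj : Function.Injective φ := by
    intro x y
    induction x using QuotientGroup.induction_on with
    | H β =>
      induction y using QuotientGroup.induction_on with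
      | H β' => exact fun e => QuotientGroup.eq.2 ((hfib β β.2 β' β'.2).1 (QuotientGroup.eq.1 e))
  have heq : ∀ x, φ (b • x) = (b : G) • φ x := by
    intro x
    induction x using QuotientGroup.induction_on with
    | H β =>
      show (((((b * β : ↥B) : G)) * n : G) : G ⧸ P) = (((b : G) * ((β : G) * n) : G) : G ⧸ P)
      rw [Subgroup.coe_mul, mul_assoc]
  have hcell : ∀ x, ∃ β ∈ B, φ x = ((β * n : G) : G ⧸ P) := by
    intro x
    induction x using QuotientGroup.induction_on with
    | H β => exact ⟨β, β.2, rfl⟩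
  refine Nat.card_eq_of_bijective (fun x => ⟨φ x.1, by rw [← heq, x.2], hcell x.1⟩)
    ⟨fun x y e => Subtype.ext (hinj (congrArg Subtype.val e)), fun y => ?_⟩
  obtain ⟨y, hy, β, hβ, e⟩ := y
  exact ⟨⟨((⟨β, hβ⟩ : ↥B) : ↥B ⧸ H.subgroupOf B), hinj (by rw [heq]; exact (e ▸ hy : (b : G) • ((β * n : G) : G ⧸ P) = _))⟩,
    Subtype.ext e.symm⟩

theorem card_fixed_one (H : Subgroup G) : Nat.card (fixedBy (G ⧸ H) (1 : G)) = H.index :=
  Nat.card_congr (Equiv.subtypeUnivEquiv (one_smul G))

/-- An element of order prime to a subgroup fixes none of its cosets. -/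
theorem no_fixed_coset [Finite G] (H : Subgroup G) {p : ℕ} {y : G} (hy : orderOf y = p) (hp : ¬ p ∣ Nat.card ↥H) :
    Nat.card (fixedBy (G ⧸ H) y) = 0 := by
  refine Nat.card_eq_zero.2 (Or.inl ⟨fun x => ?_⟩)
  obtain ⟨x, hx⟩ := x
  induction x using QuotientGroup.induction_on with
  | H β =>
    have h1 : (y * β)⁻¹ * β ∈ H := QuotientGroup.eq.1 hx
    refine hp ?_
    have h2 : orderOf ((y * β)⁻¹ * β) = p := by
      rw [show (y * β)⁻¹ * β = β⁻¹ * y⁻¹ * β⁻¹⁻¹ by group, ← MulAut.conj_apply,
        MulEquiv.orderOf_eq, orderOf_inv, hy]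
    have : orderOf (⟨_, h1⟩ : ↥H) = p := (Subgroup.orderOf_coe _).symm.trans h2
    rw [← this]
    exact orderOf_dvd_natCard _

theorem fixedPointCharacter_conj (Q : Subgroup G) (g x : G) :
    fixedPointCharacter Q (x * g * x⁻¹) = fixedPointCharacter Q g := by
  rw [fixedPointCharacter, fixedPointCharacter]
  congr 1
  refine Nat.card_congr ((MulAction.toPerm x⁻¹).subtypeEquiv fun y => ?_)
  show (x * g * x⁻¹) • y = y ↔ g • x⁻¹ • y = x⁻¹ • y
  rw [mul_smul, mul_smul]
  constructor
  · intro h; conv_rhs => rw [← h]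
    rw [inv_smul_smul]
  · intro h; rw [h, smul_inv_smul]

theorem quotientMap_smul {P Q : Subgroup G} (h : P ≤ Q) (b : G) (x : G ⧸ P) :
    Subgroup.quotientMapOfLE h (b • x) = b • Subgroup.quotientMapOfLE h x := by
  induction x using QuotientGroup.induction_on with
  | H g => rfl

theorem isGeneralizedCharacter_fixedPts [Fintype G] (H : Subgroup G) :
    IsGeneralizedCharacter G (fixedPointCharacter H) := by
  classical
  let := Fintype.ofFinite (G ⧸ H)
  refine ⟨(Cfsg.permRep ℂ G (G ⧸ H)).character, 0, isCharacter_character _, isCharacter_zero, ?_⟩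
  rw [sub_zero, Cfsg.Agent.PermCharacter.character_permRep]
  rfl

end orbit

/-- The elements of the Weyl group as functions on the roots. -/
def WElt (D : ChevalleyDatum) (T : Tbl) : Type :=
  {p : Fin D.nroots → ℕ // ∃ w, IsWord D w ∧ ∀ s : Fin D.nroots, p s = wperm T w s}

variable {D : ChevalleyDatum} {T : Tbl} (C : Cert D T) (K : FullCert D T)

/-- A word of an element. -/
noncomputable def WElt.word (p : WElt D T) : List ℕ := p.2.choose

theorem WElt.isWord (p : WElt D T) : IsWord D p.word := p.2.choose_spec.1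

theorem WElt.ext_word {p p' : WElt D T} (h : SamePerm D T p.word p'.word) : p = p' :=
  Subtype.ext (funext fun s => by rw [p.2.choose_spec.2 s, p'.2.choose_spec.2 s]; exact h s s.2)

theorem WElt.exists_of_word {v : List ℕ} (hv : IsWord D v) : ∃ p : WElt D T, SamePerm D T p.word v := by
  let p : WElt D T := ⟨fun s => wperm T v s, v, hv, fun _ => rfl⟩
  exact ⟨p, fun s hs => (p.2.choose_spec.2 ⟨s, hs⟩).symm⟩

include C in
theorem WElt.finite : Finite (WElt D T) :=
  Finite.of_injective (fun p : WElt D T => fun s : Fin D.nroots => (⟨p.1 s, by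
      rw [p.2.choose_spec.2 s]; exact wperm_lt C p.isWord s.2⟩ : Fin D.nroots))
    fun p p' h => Subtype.ext (funext fun s => congrArg Fin.val (congrFun h s))

/-- The fundamental roots kept positive. -/
noncomputable def ascSet (D : ChevalleyDatum) (T : Tbl) (v : List ℕ) : Finset ℕ :=
  (Finset.range D.rank).filter fun k => D.nroots ≤ 2 * wperm T v (T.simp' k)

theorem subset_ascSet {K' : Finset ℕ} (hK : K' ⊆ Finset.range D.rank) {v : List ℕ} :
    K' ⊆ ascSet D T v ↔ RMin D T (↑K' : Set ℕ) v :=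
  ⟨fun h _ hk _ => (Finset.mem_filter.1 (h hk)).2,
    fun h k hk => Finset.mem_filter.2 ⟨hK hk, h k hk (Finset.mem_range.1 (hK hk))⟩⟩

theorem sum_powerset_signs {n : ℕ} (A : Finset ℕ) (hA : A ⊆ Finset.range n) :
    ∑ J ∈ (Finset.range n).powerset, (-1 : ℂ) ^ J.card * (if J ⊆ A then 1 else 0) = if A = ∅ then 1 else 0 := by
  simp only [mul_ite, mul_one, mul_zero]
  rw [← Finset.sum_filter, show ((Finset.range n).powerset.filter fun J => J ⊆ A) = A.powerset by
    ext J; simp only [Finset.mem_filter, Finset.mem_powerset]; exact ⟨fun h => h.2, fun h => ⟨h.trans hA, h⟩⟩]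
  have := Finset.sum_powerset_neg_one_pow_card (x := A)
  have h2 : ((∑ J ∈ A.powerset, (-1 : ℤ) ^ J.card : ℤ) : ℂ) = ((if A = ∅ then 1 else 0 : ℤ) : ℂ) := by rw [this]
  push_cast at h2
  split_ifs at h2 ⊢ <;> simpa using h2

include C K

theorem ascSet_congr {v v' : List ℕ} (h : SamePerm D T v v') : ascSet D T v = ascSet D T v' :=
  Finset.filter_congr fun k hk => by rw [h _ (C.spec.simp_lt k (Finset.mem_range.1 hk))]

theorem long_inv {v : List ℕ} (hv : IsWord D v)
    (hneg : ∀ s < D.nroots, D.nroots ≤ 2 * s → 2 * wperm T v s < D.nroots) {s : ℕ} (hs : s < D.nroots)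
    (hp : D.nroots ≤ 2 * s) : 2 * wperm T v.reverse s < D.nroots := by
  by_contra h
  have := hneg _ (wperm_lt C hv.reverse hs) (le_of_not_gt h)
  rw [wperm_rev C hv hs] at this
  omega

theorem long_unique_steinberg {v v' : List ℕ} (hv : IsWord D v) (hv' : IsWord D v')
    (h : ascSet D T v = ∅) (h' : ascSet D T v' = ∅) : SamePerm D T v v' := by
  have key : ∀ w, IsWord D w → ascSet D T w = ∅ → ∀ s < D.nroots, D.nroots ≤ 2 * s → 2 * wperm T w s < D.nroots := by
    intro w hw h s hs hp
    refine all_neg_of_simple C hw (fun k hk => ?_) hs hp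
    by_contra hn
    have : k ∈ ascSet D T w := Finset.mem_filter.2 ⟨Finset.mem_range.2 hk, le_of_not_gt hn⟩
    rw [h] at this
    exact absurd this (Finset.notMem_empty k)
  have hu : SamePerm D T (v'.reverse ++ v) [] := samePerm_nil C K (hv'.reverse.append hv) fun k hk => by
    rw [wperm_append]
    have hlt := wperm_lt C hv (C.spec.simp_lt k hk)
    have hn := key v hv h _ (C.spec.simp_lt k hk) (K.simple_pos hk)
    have h2 := long_inv C K hv' (key v' hv' h') (C.spec.neg_lt _ hlt) ((K.neg_pos_iff hlt).2 hn)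
    rw [wperm_neg C hv'.reverse hlt] at h2
    by_contra hlt2
    push Not at hlt2
    have := (K.neg_pos_iff (wperm_lt C hv'.reverse hlt)).2 hlt2
    omega
  intro s hs
  have := hu s hs
  rw [wperm_append] at this
  rw [← wperm_rev C hv' (wperm_lt C hv hs), this]; rfl

theorem exists_long_word : ∃ v, IsWord D v ∧ ascSet D T v = ∅ ∧ ascSet D T v.reverse = ∅ ∧
    ∀ s < D.nroots, D.nroots ≤ 2 * s → 2 * wperm T v.reverse s < D.nroots := by
  obtain ⟨v, hv, hneg⟩ := exists_long C K
  refine ⟨v, hv, ?_, ?_, fun s hs hp => long_inv C K hv hneg hs hp⟩ <;>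
    refine Finset.filter_eq_empty_iff.2 fun k hk => not_le.2 ?_ <;> rw [Finset.mem_range] at hk
  · exact hneg _ (C.spec.simp_lt k hk) (K.simple_pos hk)
  · exact long_inv C K hv hneg (C.spec.simp_lt k hk) (K.simple_pos hk)

variable {F : Type*} [Field F]

omit K in
theorem parabolicIn_empty : D.parabolicIn F ∅ = (D.borelSubgroup F).subgroupOf (D.group F) := by
  rw [ChevalleyDatum.parabolicIn, Finset.coe_empty, parabolic_empty]

theorem card_orbits [Finite F] (J K' : Finset ℕ) :
    Nat.card (orbitRel.Quotient ↥(D.parabolicIn F J) (↥(D.group F) ⧸ D.parabolicIn F K')) =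
      Nat.card {p : WElt D T // RMin D T (↑K' : Set ℕ) p.word ∧ RMin D T (↑J : Set ℕ) p.word.reverse} := by
  classical
  haveI := WElt.finite C
  let q : {p : WElt D T // RMin D T (↑K' : Set ℕ) p.word ∧ RMin D T (↑J : Set ℕ) p.word.reverse} →
      orbitRel.Quotient ↥(D.parabolicIn F J) (↥(D.group F) ⧸ D.parabolicIn F K') := fun p =>
    Quotient.mk'' ((⟨wnu C F p.1.word, wnu_mem_group C p.1.isWord⟩ : ↥(D.group F)) : ↥(D.group F) ⧸ D.parabolicIn F K')
  refine (Nat.card_eq_of_bijective q ⟨fun p p' h => ?_, fun o => ?_⟩).symm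
  · obtain ⟨⟨a, ha⟩, e⟩ := Quotient.eq''.1 h
    change ((a * ⟨wnu C F p'.1.word, _⟩ : ↥(D.group F)) : ↥(D.group F) ⧸ D.parabolicIn F K') = _ at e
    rw [QuotientGroup.eq] at e
    have e' : ((a * (⟨wnu C F p'.1.word, wnu_mem_group C p'.1.isWord⟩ : ↥(D.group F)))⁻¹ *
        ⟨wnu C F p.1.word, wnu_mem_group C p.1.isWord⟩ : ↥(D.group F)).1 ∈ D.parabolicSubgroup F (↑K' : Set ℕ) := e
    refine Subtype.ext (WElt.ext_word ?_)
    refine (min_word_unique C K p'.1.isWord p.1.isWord p'.2.1 p'.2.2 p.2.1 p.2.2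
      (show (a : GL D.Idx F) ∈ D.parabolicSubgroup F (↑J : Set ℕ) from ha) e' ?_).symm
    simp only [Subgroup.coe_mul, InvMemClass.coe_inv]
    group
  · induction o using Quotient.inductionOn' with
    | h z =>
      induction z using QuotientGroup.induction_on with
      | H g =>
        obtain ⟨v, hv, hR, hL, a, ha, b, hb, e⟩ := exists_min_word C K (F := F) (↑J : Set ℕ) (↑K' : Set ℕ) g.2
        obtain ⟨p, hp⟩ := WElt.exists_of_word (T := T) hv
        refine ⟨⟨p, hR.congr C hp.symm, hL.congr C (samePerm_reverse C p.isWord hv hp).symm⟩, ?_⟩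
        refine Quotient.eq''.2 ?_
        have haG : a ∈ D.group F := by
          rw [← normalizer_radical C K] at ha; exact ha.2
        have hd : (wnu C F p.word)⁻¹ * wnu C F v ∈ D.parabolicSubgroup F (↑K' : Set ℕ) :=
          Subgroup.mem_sup_left (Subgroup.mem_sup_right
            (same_of_perm C K p.isWord hv fun k hk => hp _ (C.spec.simp_lt k hk)))
        refine ⟨⟨(⟨a, haG⟩ : ↥(D.group F))⁻¹, inv_mem (show a ∈ D.parabolicSubgroup F (↑J : Set ℕ) from ha)⟩, ?_⟩
        show (((⟨a, haG⟩ : ↥(D.group F))⁻¹ * g : ↥(D.group F)) : ↥(D.group F) ⧸ D.parabolicIn F K') = _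
        refine QuotientGroup.eq.2 ?_
        show ((((⟨a, haG⟩ : ↥(D.group F))⁻¹ * g)⁻¹ * ⟨wnu C F p.word, _⟩ : ↥(D.group F)) : GL D.Idx F) ∈
          D.parabolicSubgroup F (↑K' : Set ℕ)
        simp only [Subgroup.coe_mul, InvMemClass.coe_inv]
        rw [e, show (a⁻¹ * (a * wnu C F v * b))⁻¹ * wnu C F p.word =
          b⁻¹ * ((wnu C F p.word)⁻¹ * wnu C F v)⁻¹ by group]
        exact mul_mem (inv_mem hb) (inv_mem hd)

/-- The sets `asc` of the cosets of `B`. -/
theorem exists_cosetAsc : ∃ asc : (↥(D.group F) ⧸ D.parabolicIn F ∅) → Finset ℕ,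
    (∀ x, asc x ⊆ Finset.range D.rank) ∧ ∀ (g : ↥(D.group F)) (v : List ℕ), IsWord D v →
      (g : GL D.Idx F) ∈ bCell C F v → asc g = ascSet D T v := by
  have hex : ∀ g : ↥(D.group F), ∃ v, IsWord D v ∧ (g : GL D.Idx F) ∈ bCell C F v := fun g => by
    obtain ⟨w, hw, b, hb, c, hc, e⟩ := bruhat_normal C K g.2
    exact ⟨w, hw, b, hb, c, signPart_le_borel C K _ _ hc, e⟩
  refine ⟨fun x => ascSet D T (hex x.out).choose, fun x => Finset.filter_subset _ _, fun g v hv hg => ?_⟩
  obtain ⟨⟨u, hu⟩, e⟩ := QuotientGroup.mk_out_eq_mul (D.parabolicIn F ∅) g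
  obtain ⟨h1, h2⟩ := (hex (g : ↥(D.group F) ⧸ D.parabolicIn F ∅).out).choose_spec
  refine ascSet_congr C K (bCell_disjoint C K h1 hv h2 ?_)
  rw [e]
  rw [parabolicIn_empty C] at hu
  have := bCell_mul C (one_mem _) (show (u : GL D.Idx F) ∈ D.borelSubgroup F from hu) hg
  rwa [one_mul] at this

/-- Minimal cosets of `B` lying in one coset of a parabolic subgroup are equal. -/
theorem minCoset_eq {g g' : GL D.Idx F} {v v' : List ℕ} {S : Set ℕ} (hv : IsWord D v) (hv' : IsWord D v')
    (hg : g ∈ bCell C F v) (hg' : g' ∈ bCell C F v') (hx : RMin D T S v) (hy : RMin D T S v')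
    (hz : g⁻¹ * g' ∈ D.parabolicSubgroup F S) : g⁻¹ * g' ∈ D.borelSubgroup F := by
  obtain ⟨x1, hx1, y1, hy1, e1⟩ := hg
  obtain ⟨x2, hx2, y2, hy2, e2⟩ := hg'
  have hBP : D.borelSubgroup F ≤ D.parabolicSubgroup F S := le_sup_left
  have hsame : SamePerm D T v v' := by
    refine min_word_unique C K (J := (∅ : Set ℕ)) hv hv' hx (fun j hj => absurd hj (Set.notMem_empty j)) hy
      (fun j hj => absurd hj (Set.notMem_empty j))
      (p := x2⁻¹ * x1) (q := y1 * (g⁻¹ * g') * y2⁻¹) ?_
      (mul_mem (mul_mem (hBP hy1) hz) (inv_mem (hBP hy2))) ?_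
    · rw [parabolic_empty]; exact mul_mem (inv_mem hx2) hx1
    · rw [e1, e2]; group
  have hd : (wnu C F v)⁻¹ * wnu C F v' ∈ D.borelSubgroup F :=
    Subgroup.mem_sup_right (same_of_perm C K hv hv' fun k hk => hsame _ (C.spec.simp_lt k hk))
  set d := (wnu C F v)⁻¹ * wnu C F v' with hdd
  have hβ := min_cell_inj C K hv hx (mul_mem (inv_mem hx1) hx2) (by
    rw [show (wnu C F v)⁻¹ * (x1⁻¹ * x2) * wnu C F v = y1 * (g⁻¹ * g') * (d * y2)⁻¹ by
      rw [e1, e2, hdd]; group]
    exact mul_mem (mul_mem (hBP hy1) hz) (inv_mem (hBP (mul_mem hd hy2))))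
  rw [show g⁻¹ * g' = y1⁻¹ * ((wnu C F v)⁻¹ * (x1⁻¹ * x2) * wnu C F v) * (d * y2) by
    rw [e1, e2, hdd]; group]
  exact mul_mem (mul_mem (inv_mem hy1) hβ) (mul_mem hd hy2)

theorem card_fixed_parabolic [Finite F] {asc : (↥(D.group F) ⧸ D.parabolicIn F ∅) → Finset ℕ}
    (hasc : ∀ (g : ↥(D.group F)) (v : List ℕ), IsWord D v → (g : GL D.Idx F) ∈ bCell C F v → asc g = ascSet D T v)
    {b : ↥(D.group F)} (hb : (b : GL D.Idx F) ∈ D.borelSubgroup F) {K' : Finset ℕ} (hK : K' ⊆ Finset.range D.rank) :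
    fixedPointCharacter (D.parabolicIn F K') b =
      (Nat.card {x : ↥(D.group F) ⧸ D.parabolicIn F ∅ // b • x = x ∧ K' ⊆ asc x} : ℂ) := by
  classical
  have hle : D.parabolicIn F ∅ ≤ D.parabolicIn F K' := by
    rw [parabolicIn_empty C]; intro x hx; exact Subgroup.mem_sup_left hx
  let π : (↥(D.group F) ⧸ D.parabolicIn F ∅) → ↥(D.group F) ⧸ D.parabolicIn F K' := Subgroup.quotientMapOfLE hle
  have hcell : ∀ g : ↥(D.group F), ∃ v, IsWord D v ∧ (g : GL D.Idx F) ∈ bCell C F v := fun g => by
    obtain ⟨w, hw, x, hx, c, hc, e⟩ := bruhat_normal C K g.2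
    exact ⟨w, hw, x, hx, c, signPart_le_borel C K _ _ hc, e⟩
  have hinj : ∀ x y, K' ⊆ asc x → K' ⊆ asc y → π x = π y → x = y := by
    intro x y hx hy e
    induction x using QuotientGroup.induction_on with
    | H g =>
      induction y using QuotientGroup.induction_on with
      | H g' =>
        obtain ⟨v, hv, hg⟩ := hcell g
        obtain ⟨v', hv', hg'⟩ := hcell g'
        rw [hasc g v hv hg, subset_ascSet hK] at hx
        rw [hasc g' v' hv' hg', subset_ascSet hK] at hy
        have e' : g⁻¹ * g' ∈ D.parabolicIn F K' := QuotientGroup.eq.1 e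
        rw [ChevalleyDatum.parabolicIn, Subgroup.mem_subgroupOf, Subgroup.coe_mul, InvMemClass.coe_inv] at e'
        refine QuotientGroup.eq.2 ?_
        rw [parabolicIn_empty C, Subgroup.mem_subgroupOf, Subgroup.coe_mul, InvMemClass.coe_inv]
        exact minCoset_eq C K hv hv' hg hg' hx hy e'
  have hstab : ∀ x, asc (b • x) = asc x := by
    intro x
    induction x using QuotientGroup.induction_on with
    | H g =>
      obtain ⟨v, hv, hg⟩ := hcell g
      have h2 := bCell_mul C hb (one_mem _) hg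
      rw [mul_one] at h2
      rw [MulAction.Quotient.smul_coe, smul_eq_mul, hasc g v hv hg]
      exact hasc (b * g) v hv (by rw [Subgroup.coe_mul]; exact h2)
  have heq : ∀ x, π (b • x) = b • π x := fun x => quotientMap_smul hle b x
  rw [fixedPointCharacter]
  congr 1
  refine (Nat.card_eq_of_bijective (fun x : {x : ↥(D.group F) ⧸ D.parabolicIn F ∅ // b • x = x ∧ K' ⊆ asc x} =>
    (⟨π x.1, by show b • π x.1 = π x.1; rw [← heq, x.2.1]⟩ : fixedBy (↥(D.group F) ⧸ D.parabolicIn F K') b))
    ⟨fun x y e => Subtype.ext (hinj _ _ x.2.2 y.2.2 (congrArg Subtype.val e)), fun y => ?_⟩).symm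
  obtain ⟨y, hy⟩ := y
  induction y using QuotientGroup.induction_on with
  | H g =>
    obtain ⟨v, hv, hR, -, p, hp, q, hq, e⟩ := exists_min_word C K (F := F) (∅ : Set ℕ) (↑K' : Set ℕ) g.2
    rw [parabolic_empty] at hp
    let h : ↥(D.group F) := ⟨p * wnu C F v, mul_mem (borel_le_group C hp) (wnu_mem_group C hv)⟩
    have hh : asc h = ascSet D T v := hasc h v hv ⟨p, hp, 1, one_mem _, by simp [h]⟩
    have hπ : π h = g := QuotientGroup.eq.2 (by
      show ((h⁻¹ * g : ↥(D.group F)) : GL D.Idx F) ∈ D.parabolicSubgroup F (↑K' : Set ℕ)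
      simp only [Subgroup.coe_mul, InvMemClass.coe_inv, h]
      rw [e, show (p * wnu C F v)⁻¹ * (p * wnu C F v * q) = q by group]
      exact hq)
    have hsub : K' ⊆ asc h := by rw [hh]; exact (subset_ascSet hK).2 hR
    refine ⟨⟨h, hinj _ _ (by rw [hstab]; exact hsub) hsub ?_, hsub⟩, Subtype.ext hπ⟩
    rw [heq, hπ]; exact hy

/-- The restriction to the Borel subgroup. -/
theorem steinberg_borel [Finite F] {b : ↥((D.borelSubgroup F).subgroupOf (D.group F))} :
    D.steinbergCharacter F (b : ↥(D.group F)) =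
      fixedPointCharacter (((D.diagonalSubgroup F).subgroupOf (D.group F)).subgroupOf
        ((D.borelSubgroup F).subgroupOf (D.group F))) b := by
  classical
  letI := Fintype.ofFinite (↥(D.group F) ⧸ D.parabolicIn F ∅)
  obtain ⟨asc, hascr, hasc⟩ := exists_cosetAsc C K (F := F)
  have hbB : ((b : ↥(D.group F)) : GL D.Idx F) ∈ D.borelSubgroup F := b.2
  rw [ChevalleyDatum.steinbergCharacter]
  have h1 : ∀ J ∈ (Finset.range D.rank).powerset,
      (-1 : ℂ) ^ J.card * fixedPointCharacter (D.parabolicIn F J) (b : ↥(D.group F)) =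
      ∑ x ∈ Finset.univ.filter (fun x : ↥(D.group F) ⧸ D.parabolicIn F ∅ => (b : ↥(D.group F)) • x = x),
        (-1 : ℂ) ^ J.card * (if J ⊆ asc x then 1 else 0) := by
    intro J hJ
    rw [card_fixed_parabolic C K hasc hbB (Finset.mem_powerset.1 hJ), ← Finset.mul_sum, Finset.sum_boole,
      Finset.filter_filter, Nat.card_eq_fintype_card, Fintype.card_subtype]
  rw [Finset.sum_congr rfl h1, Finset.sum_comm, Finset.sum_congr rfl fun x _ => sum_powerset_signs (asc x) (hascr x),
    Finset.sum_boole, Finset.filter_filter, ← Fintype.card_subtype, ← Nat.card_eq_fintype_card, fixedPointCharacter]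
  congr 1
  obtain ⟨v, hv, hv0, -, hrev⟩ := exists_long_word C K
  obtain ⟨n, hn⟩ : ∃ n : ↥(D.group F), (n : GL D.Idx F) = wnu C F v := ⟨⟨_, wnu_mem_group C hv⟩, rfl⟩
  refine (Nat.card_congr (Equiv.subtypeEquivRight fun x => and_congr_right fun _ => ?_)).trans
    (card_fixed_cell (D.parabolicIn F ∅) ((D.borelSubgroup F).subgroupOf (D.group F))
      ((D.diagonalSubgroup F).subgroupOf (D.group F)) n (fun β hβ β' hβ' => ?_) b).symm
  · constructor
    · intro hx0
      induction x using QuotientGroup.induction_on with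
      | H g =>
        obtain ⟨w, hw, x, hx, c, hc, e⟩ := bruhat_normal C K g.2
        have hcB := signPart_le_borel C K w true hc
        rw [hasc g w hw ⟨x, hx, c, hcB, e⟩] at hx0
        have hd : (wnu C F v)⁻¹ * wnu C F w ∈ D.borelSubgroup F := Subgroup.mem_sup_right
          (same_of_perm C K hv hw fun k hk => long_unique_steinberg C K hv hw hv0 hx0 _ (C.spec.simp_lt k hk))
        refine ⟨⟨x, borel_le_group C hx⟩, hx, (QuotientGroup.eq.2 ?_).symm⟩
        rw [parabolicIn_empty C, Subgroup.mem_subgroupOf, Subgroup.coe_mul, InvMemClass.coe_inv, Subgroup.coe_mul,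
          Subgroup.coe_mk, hn, e,
          show (x * wnu C F v)⁻¹ * (x * wnu C F w * c) = ((wnu C F v)⁻¹ * wnu C F w) * c by group]
        exact mul_mem hd hcB
    · rintro ⟨β, hβ, rfl⟩
      refine (hasc _ v hv ⟨(β : GL D.Idx F), hβ, 1, one_mem _, ?_⟩).trans hv0
      rw [mul_one, Subgroup.coe_mul, hn]
  · rw [parabolicIn_empty C, Subgroup.mem_subgroupOf, Subgroup.mem_subgroupOf]
    rw [Subgroup.mem_subgroupOf] at hβ hβ'
    simp only [Subgroup.coe_mul, InvMemClass.coe_inv, hn]
    set z := (β : GL D.Idx F)⁻¹ * (β' : GL D.Idx F) with hz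
    have hzB : z ∈ D.borelSubgroup F := mul_mem (inv_mem hβ) hβ'
    rw [show ((β : GL D.Idx F) * wnu C F v)⁻¹ * ((β' : GL D.Idx F) * wnu C F v) =
      (wnu C F v)⁻¹ * z * wnu C F v by rw [hz]; group]
    refine ⟨fun h => ?_, fun h => Subgroup.mem_sup_right (conj_mem_diag C (wnu_mem C hv) h).2⟩
    obtain ⟨u, hu, d, hd, e⟩ := (mem_borel C).1 hzB
    have hd' := (conj_mem_diag C (wnu_mem C (F := F) hv) hd).2
    have hx : (wnu C F v)⁻¹ * u * wnu C F v ∈ D.borelSubgroup F := by
      have := mul_mem h (inv_mem (Subgroup.mem_sup_right (S := D.posUnipotent F) hd'))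
      rwa [e, show (wnu C F v)⁻¹ * (u * d) * wnu C F v * ((wnu C F v)⁻¹ * d * wnu C F v)⁻¹ =
        (wnu C F v)⁻¹ * u * wnu C F v by group] at this
    have hsp : u ∈ signPart C K F v.reverse true (D.nroots / 2) := by
      rw [posUnipotent_eq C] at hu
      refine (Subgroup.closure_le _).2 ?_ hu
      rintro y ⟨r, t, hr1, hr2, rfl⟩
      have := nroots_even C
      exact xg_mem_signPart C K hr1 hr2 (decide_eq_true (hrev r hr2 (by omega))) t
    have hV := (signPart_conj C K hv.reverse).1 hsp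
    have hdd := wnu_reverse_mul C (F := F) hv
    have hV' : (wnu C F v)⁻¹ * u * wnu C F v ∈ D.negUnipotent F := by
      have := (Subgroup.mem_normalizer_iff.1 (neg_conj_diag C (inv_mem hdd)) _).1 hV
      rwa [show (wnu C F v.reverse * wnu C F v)⁻¹ * (wnu C F v.reverse * u * (wnu C F v.reverse)⁻¹) *
        (wnu C F v.reverse * wnu C F v)⁻¹⁻¹ = (wnu C F v)⁻¹ * u * wnu C F v by group] at this
    have h1 := (Subgroup.eq_bot_iff_forall _).1 (borel_inf_neg C) _ ⟨hx, hV'⟩
    have hu1 : u = 1 := by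
      calc u = wnu C F v * ((wnu C F v)⁻¹ * u * wnu C F v) * (wnu C F v)⁻¹ := by group
        _ = 1 := by rw [h1]; group
    rw [e, hu1, one_mul]; exact hd

theorem steinberg_one [Finite F] : D.steinbergCharacter F 1 = (Nat.card F : ℂ) ^ (D.nroots / 2) := by
  have h := steinberg_borel C K (F := F) (b := 1)
  rw [OneMemClass.coe_one] at h
  rw [h, fixedPointCharacter, card_fixed_one, ← Nat.cast_pow]
  congr 1
  have hHB : (D.diagonalSubgroup F).subgroupOf (D.group F) ≤ (D.borelSubgroup F).subgroupOf (D.group F) :=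
    fun x hx => Subgroup.mem_sup_right hx
  have h1 := Subgroup.card_mul_index (((D.diagonalSubgroup F).subgroupOf (D.group F)).subgroupOf
    ((D.borelSubgroup F).subgroupOf (D.group F)))
  rw [Nat.card_congr (Subgroup.subgroupOfEquivOfLe hHB).toEquiv,
    Nat.card_congr (Subgroup.subgroupOfEquivOfLe (diag_le_group C (F := F))).toEquiv,
    Nat.card_congr (Subgroup.subgroupOfEquivOfLe (borel_le_group C (F := F))).toEquiv,
    card_borel C, card_pos C K, mul_comm (Nat.card F ^ _)] at h1
  exact Nat.eq_of_mul_eq_mul_left Nat.card_pos h1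

theorem steinberg_sum_parabolic [Finite F] {J : Finset ℕ} (hJ : J ⊆ Finset.range D.rank)
    [Fintype ↥(D.parabolicIn F J)] :
    ∑ x : ↥(D.parabolicIn F J), D.steinbergCharacter F (x : ↥(D.group F)) =
      if J = ∅ then (Nat.card ↥(D.parabolicIn F J) : ℂ) else 0 := by
  classical
  haveI := WElt.finite C
  letI := Fintype.ofFinite (WElt D T)
  simp only [ChevalleyDatum.steinbergCharacter]
  rw [Finset.sum_comm]
  have h1 : ∀ K' ∈ (Finset.range D.rank).powerset,
      ∑ x : ↥(D.parabolicIn F J), (-1 : ℂ) ^ K'.card * fixedPointCharacter (D.parabolicIn F K') (x : ↥(D.group F)) =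
      (Nat.card ↥(D.parabolicIn F J) : ℂ) *
        ∑ p ∈ Finset.univ.filter (fun p : WElt D T => J ⊆ ascSet D T p.word.reverse),
          (-1 : ℂ) ^ K'.card * (if K' ⊆ ascSet D T p.word then 1 else 0) := by
    intro K' hK'
    rw [← Finset.mul_sum, sum_fixedPoint_subgroup, card_orbits C K, ← Finset.mul_sum, Finset.sum_boole,
      Finset.filter_filter, Nat.card_eq_fintype_card (α := {p : WElt D T // _}), Fintype.card_subtype]
    rw [mul_left_comm]
    congr 3
    refine congrArg Finset.card (Finset.filter_congr fun p _ => ?_)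
    rw [subset_ascSet (Finset.mem_powerset.1 hK'), subset_ascSet hJ, and_comm]
  rw [Finset.sum_congr rfl h1, ← Finset.mul_sum, Finset.sum_comm,
    Finset.sum_congr rfl fun p _ => sum_powerset_signs (ascSet D T p.word) (Finset.filter_subset _ _),
    Finset.sum_boole, Finset.filter_filter]
  obtain ⟨v, hv, hv0, hv0', -⟩ := exists_long_word C K
  obtain ⟨p0, hp0⟩ := WElt.exists_of_word (T := T) hv
  have hset : ∀ p : WElt D T, ascSet D T p.word = ∅ → p = p0 := fun p hp =>
    WElt.ext_word ((long_unique_steinberg C K p.isWord hv hp hv0).trans hp0.symm)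
  have hrev : ascSet D T p0.word.reverse = ∅ := by
    rw [ascSet_congr C K (samePerm_reverse C p0.isWord hv hp0), hv0']
  have h0 : ascSet D T p0.word = ∅ := by rw [ascSet_congr C K hp0, hv0]
  split_ifs with hJ0
  · rw [Finset.filter_congr (q := fun p => p = p0) (fun p _ =>
      ⟨fun h => hset p h.2, fun h => ⟨by rw [hJ0]; exact Finset.empty_subset _, h ▸ h0⟩⟩)]
    rw [Finset.filter_eq' Finset.univ p0, if_pos (Finset.mem_univ _), Finset.card_singleton]
    simp
  · rw [Finset.filter_eq_empty_iff.2 fun p _ h => hJ0 (Finset.subset_empty.1 (by rw [← hrev, ← hset p h.2]; exact h.1))]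
    simp

theorem steinberg_irr [Finite F] : IsIrrCharacter ↥(D.group F) (D.steinbergCharacter F) := by
  classical
  letI := Fintype.ofFinite ↥(D.group F)
  have hgen : IsGeneralizedCharacter ↥(D.group F) (D.steinbergCharacter F) := by
    have e : D.steinbergCharacter F = ∑ J ∈ (Finset.range D.rank).powerset,
        (((-1 : ℤ) ^ J.card : ℤ) : ℂ) • fixedPointCharacter (D.parabolicIn F J) := by
      funext g
      simp [ChevalleyDatum.steinbergCharacter]
    rw [e]
    exact IsGeneralizedCharacter.sum _ _ fun J _ => (isGeneralizedCharacter_fixedPts _).intCast_smul _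
  have hcl : ∀ g x, D.steinbergCharacter F (x * g * x⁻¹) = D.steinbergCharacter F g := fun g x => by
    simp only [ChevalleyDatum.steinbergCharacter, fixedPointCharacter_conj]
  have hn : classInner (D.steinbergCharacter F) (D.steinbergCharacter F) = 1 := by
    have hreal : ∀ g, conj (D.steinbergCharacter F g) = D.steinbergCharacter F g := fun g => by
      simp [ChevalleyDatum.steinbergCharacter, fixedPointCharacter]
    simp only [classInner, hreal]
    have h2 : ∑ g, D.steinbergCharacter F g * D.steinbergCharacter F g = (Nat.card ↥(D.group F) : ℂ) := by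
      conv_lhs =>
        enter [2, g]
        arg 1
        rw [ChevalleyDatum.steinbergCharacter]
      simp only [Finset.sum_mul]
      rw [Finset.sum_comm, Finset.sum_eq_single ∅]
      · simp only [Finset.card_empty, pow_zero, one_mul]
        letI := Fintype.ofFinite ↥(D.parabolicIn F ∅)
        rw [sum_fixedPoint_mul _ hcl, steinberg_sum_parabolic C K (Finset.empty_subset _), if_pos rfl, ← Nat.cast_mul,
          Subgroup.index_mul_card]
      · intro J hJ hne
        letI := Fintype.ofFinite ↥(D.parabolicIn F J)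
        simp only [mul_assoc, ← Finset.mul_sum]
        rw [sum_fixedPoint_mul _ hcl, steinberg_sum_parabolic C K (Finset.mem_powerset.1 hJ), if_neg hne]
        simp
      · exact fun h => absurd (Finset.mem_powerset.2 (Finset.empty_subset _)) h
    rw [h2, inv_mul_cancel₀ (Nat.cast_ne_zero.2 Nat.card_pos.ne')]
  obtain ⟨ε, μ, hε, e⟩ := exists_signed_irr_of_norm_one hgen hn
  rcases hε with rfl | rfl
  · rw [e, Int.cast_one, one_smul]; exact μ.2
  · exfalso
    obtain ⟨d, hd0, hd⟩ := μ.2.exists_degree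
    have h1 := steinberg_one C K (F := F)
    rw [e, Pi.smul_apply, hd] at h1
    simp only [Int.cast_neg, Int.cast_one, smul_eq_mul, neg_one_mul, neg_eq_iff_add_eq_zero] at h1
    rw [← Nat.cast_pow, ← Nat.cast_add, Nat.cast_eq_zero] at h1
    omega

theorem steinberg_vanish [Finite F] (p : ℕ) [Fact p.Prime] [CharP F p] (g : ↥(D.group F)) (hg : p ∣ orderOf g) :
    D.steinbergCharacter F g = 0 := by
  classical
  letI := Fintype.ofFinite ↥(D.group F)
  obtain ⟨M, hM⟩ := Cfsg.Lib.Block.exists_isPModular (Fact.out : p.Prime)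
  have hirr := steinberg_irr C K (F := F)
  let χ : IrrCharacter ↥(D.group F) := ⟨_, hirr⟩
  have hvan : ∀ z : ↥(D.group F), orderOf z = p → (χ : ↥(D.group F) → ℂ) z = 0 := by
    intro z hz
    obtain ⟨P, hP⟩ := exists_sylow C K (F := F) p
    have hzp : IsPGroup p ↥(Subgroup.zpowers z) := IsPGroup.of_card (n := 1) (by rw [Nat.card_zpowers, hz, pow_one])
    obtain ⟨R, hR⟩ := hzp.exists_le_sylow
    obtain ⟨a, ha⟩ := MulAction.exists_smul_eq ↥(D.group F) R P
    have hmem : a * z * a⁻¹ ∈ (P : Subgroup ↥(D.group F)) := by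
      rw [← ha, Sylow.coe_subgroup_smul]
      exact ⟨z, hR (Subgroup.mem_zpowers z), rfl⟩
    rw [hP] at hmem
    have hcl : D.steinbergCharacter F (a * z * a⁻¹) = D.steinbergCharacter F z := by
      simp only [ChevalleyDatum.steinbergCharacter, fixedPointCharacter_conj]
    show D.steinbergCharacter F z = 0
    rw [← hcl]
    rw [Subgroup.mem_subgroupOf] at hmem
    have hu : a * z * a⁻¹ ∈ (D.borelSubgroup F).subgroupOf (D.group F) := Subgroup.mem_sup_left hmem
    have hb := steinberg_borel C K (F := F) (b := ⟨a * z * a⁻¹, hu⟩)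
    refine hb.trans ?_
    rw [fixedPointCharacter, no_fixed_coset (p := p), Nat.cast_zero]
    · rw [← Subgroup.orderOf_coe]
      show orderOf (a * z * a⁻¹) = p
      rw [← MulAut.conj_apply, MulEquiv.orderOf_eq, hz]
    · intro hd
      have hle : Nat.card ↥(((D.diagonalSubgroup F).subgroupOf (D.group F)).subgroupOf
          ((D.borelSubgroup F).subgroupOf (D.group F))) = Nat.card ↥(D.diagonalSubgroup F) := by
        have hHB : (D.diagonalSubgroup F).subgroupOf (D.group F) ≤ (D.borelSubgroup F).subgroupOf (D.group F) :=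
          fun x hx => Subgroup.mem_sup_right hx
        rw [Nat.card_congr (Subgroup.subgroupOfEquivOfLe hHB).toEquiv,
          Nat.card_congr (Subgroup.subgroupOfEquivOfLe (diag_le_group C (F := F))).toEquiv]
      have h3 := (Fact.out : p.Prime).dvd_of_dvd_pow ((hle ▸ hd).trans (card_diagonal_dvd C (F := F)))
      haveI := Fintype.ofFinite F
      obtain ⟨n, -, hn⟩ := FiniteField.card F p
      rw [← Nat.card_eq_fintype_card] at hn
      have hpn : p ∣ Nat.card F := hn ▸ dvd_pow_self p n.pos.ne'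
      have h1le : 1 ≤ Nat.card F := Nat.card_pos
      have := Nat.dvd_sub hpn h3
      rw [Nat.sub_sub_self h1le] at this
      exact (Fact.out : p.Prime).ne_one (Nat.dvd_one.1 this)
  have hdef := Cfsg.Lib.Block.blockDefect_eq_zero_of_vanish hM χ hvan
  refine Cfsg.Lib.Block.char_eq_zero_of_pPt_notMem hM χ fun E hE hmem => ?_
  have hcard := Cfsg.Lib.Block.card_defectGroup hM (Cfsg.Lib.Block.isPBlock_blockOf χ) hE
  rw [hdef, pow_zero] at hcard
  rw [Subgroup.eq_bot_of_card_eq E hcard, Subgroup.mem_bot] at hmem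
  exact (Cfsg.Lib.Block.pPt_eq_one_iff g).1 hmem hg

end Cfsg.Lib.Chev
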