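import Mathlib
import Cfsg.Agent.Lib.Chev.WeakClosed
import Cfsg.Agent.Lib.Chev.Steinberg

/-!
The number of unipotent elements, by induction over the standard parabolic subgroups.
-/

set_option autoImplicit false
set_option linter.unusedSectionVars false

namespace Cfsg.Lib.Chev

open Cfsg Cfsg.Lie MulAction

variable {D : ChevalleyDatum} {T : Tbl} {F : Type*} [Field F]

/-- The positive roots of a root subsystem. -/
noncomputable def posSub (D : ChevalleyDatum) (S : Set ℕ) : Finset ℕ := by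
  classical exact (Finset.range D.nroots).filter fun s => D.nroots ≤ 2 * s ∧ D.InRootSub S s

theorem mem_posSub {S : Set ℕ} {s : ℕ} : s ∈ posSub D S ↔ D.nroots ≤ 2 * s ∧ D.InRootSub S s := by
  classical
  simp only [posSub, Finset.mem_filter, Finset.mem_range]
  exact ⟨fun h => h.2, fun h => ⟨h.2.1, h⟩⟩

/-- The element of the Weyl group lies in `W_S`. -/
def WInS (S : Set ℕ) (p : WElt D T) : Prop := ∃ w, InW D S w ∧ SamePerm D T p.word w

/-- The coset of `P_J` meets `P_S`. -/
def CosetIn (D : ChevalleyDatum) (F : Type*) [Field F] (S J : Finset ℕ)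
    (y : ↥(D.group F) ⧸ D.parabolicIn F J) : Prop :=
  ∃ g ∈ D.parabolicIn F S, (g : ↥(D.group F) ⧸ D.parabolicIn F J) = y

section

variable (C : Cert D T) (K : FullCert D T)
include C K

theorem parabolicIn_mono {J S : Finset ℕ} (h : J ⊆ S) : D.parabolicIn F J ≤ D.parabolicIn F S := by
  intro g hg
  have hmono : D.parabolicSubgroup F (↑J : Set ℕ) ≤ D.parabolicSubgroup F (↑S : Set ℕ) :=
    sup_le_sup_left (Subgroup.closure_mono (by rintro g ⟨j, hj, h'⟩; exact ⟨j, h hj, h'⟩)) _
  exact hmono hg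

theorem long_inW_neg {S : Set ℕ} {a : List ℕ} (ha : InW D S a)
    (hneg : ∀ s, D.InRootSub S s → D.nroots ≤ 2 * s → 2 * wperm T a s < D.nroots) :
    negSet D T a = posSub D S := by
  ext s
  rw [mem_negSet, mem_posSub]
  refine ⟨fun ⟨h1, h2, h3⟩ => ⟨h2, ?_⟩, fun ⟨h1, h2⟩ => ⟨h2.1, h1, hneg s h2 h1⟩⟩
  by_contra hn
  have := (inW_outside C K ha h1 hn).2 h2
  omega

theorem long_inW_reverse {S : Set ℕ} {a : List ℕ} (ha : InW D S a)
    (hneg : ∀ s, D.InRootSub S s → D.nroots ≤ 2 * s → 2 * wperm T a s < D.nroots) :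
    ∀ s, D.InRootSub S s → D.nroots ≤ 2 * s → 2 * wperm T a.reverse s < D.nroots := by
  intro s hs hp
  by_contra hn
  have := hneg _ (inW_inRootSub C ha.reverse hs) (le_of_not_gt hn)
  rw [wperm_rev C ha.1 hs.1] at this
  omega

theorem long_inW_asc {S : Set ℕ} {a : List ℕ} (ha : IsWord D a)
    (h : ∀ k ∈ S, k < D.rank → 2 * wperm T a (T.simp' k) < D.nroots) {s : ℕ} (hs : D.InRootSub S s)
    (hp : D.nroots ≤ 2 * s) : 2 * wperm T a s < D.nroots := by
  refine neg_of_forall C (wperm_lt C ha hs.1) fun m hm => ?_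
  rw [coroot_wperm C ha hs.1 m hm]
  refine Finset.sum_nonpos fun k hk => ?_
  rw [Finset.mem_range] at hk
  by_cases hkS : k ∈ S
  · exact mul_nonpos_of_nonneg_of_nonpos (coroot_nonneg C hs.1 hp hk)
      (coroot_nonpos C (wperm_lt C ha (C.spec.simp_lt k hk)) (h k hkS hk) hm)
  · rw [((inRootSub_iff C).1 hs).2 k hk hkS, zero_mul]

/-- Lengths add along the longest word of a subsystem. -/
theorem card_negSet_long {J : Set ℕ} {v a : List ℕ} (hv : IsWord D v) (hR : RMin D T J v) (ha : InW D J a)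
    (hneg : ∀ s, D.InRootSub J s → D.nroots ≤ 2 * s → 2 * wperm T a s < D.nroots) :
    (negSet D T (v ++ a)).card = (negSet D T v).card + (posSub D J).card := by
  classical
  have hsub : posSub D J ⊆ negSet D T (v ++ a) := by
    intro s hs
    obtain ⟨h1, h2⟩ := mem_posSub.1 hs
    refine mem_negSet.2 ⟨h2.1, h1, ?_⟩
    rw [wperm_append]
    exact rmin_neg C K hv hR (inW_inRootSub C ha h2) (hneg s h2 h1)
  have hout : ∀ s ∈ negSet D T v, ¬ D.InRootSub J s := by
    intro s hs hJ
    obtain ⟨h1, h2, h3⟩ := mem_negSet.1 hs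
    have := rmin_pos C K hv hR hJ h2
    omega
  rw [← Finset.card_sdiff_add_card_eq_card hsub]
  congr 1
  refine Finset.card_bij (fun s _ => wperm T a s) ?_ ?_ ?_
  · intro s hs
    obtain ⟨h1, h2⟩ := Finset.mem_sdiff.1 hs
    obtain ⟨g1, g2, g3⟩ := mem_negSet.1 h1
    have hJ : ¬ D.InRootSub J s := fun h => h2 (mem_posSub.2 ⟨g2, h⟩)
    rw [wperm_append] at g3
    exact mem_negSet.2 ⟨wperm_lt C ha.1 g1, (inW_outside C K ha g1 hJ).2 g2, g3⟩
  · intro s hs s' hs' e
    exact wperm_inj C ha.1 (mem_negSet.1 (Finset.mem_sdiff.1 hs).1).1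
      (mem_negSet.1 (Finset.mem_sdiff.1 hs').1).1 e
  · intro t ht
    obtain ⟨g1, g2, g3⟩ := mem_negSet.1 ht
    obtain ⟨h1, h2⟩ := inW_outside C K ha.reverse g1 (hout t ht)
    refine ⟨wperm T a.reverse t, Finset.mem_sdiff.2 ⟨mem_negSet.2 ⟨wperm_lt C ha.1.reverse g1, h2 g2, ?_⟩,
      fun h => h1 (mem_posSub.1 h).2⟩, wperm_rev C ha.1 g1⟩
    rw [wperm_append, wperm_rev C ha.1 g1]
    exact g3

/-- Membership of a parabolic subgroup through cells. -/
theorem exists_inW_cell {S : Set ℕ} {g : GL D.Idx F} (hg : g ∈ D.parabolicSubgroup F S) :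
    ∃ a, InW D S a ∧ g ∈ bCell C F a := by
  have h0 : (1 : GL D.Idx F) ∈ pCells C F S [] (∅ : Set ℕ) :=
    ⟨[], [], inW_nil _, inW_nil _, 1, one_mem _, 1, one_mem _, by simp [wnu]⟩
  obtain ⟨a, b, ha, hb, hcell⟩ := pCells_left C K (fun _ h => absurd h List.not_mem_nil) h0 hg
  obtain rfl : b = [] := by
    cases b with
    | nil => rfl
    | cons i b => exact absurd (hb.2 i (List.mem_cons_self ..)) (Set.notMem_empty i)
  simp only [List.nil_append, List.append_nil, mul_one] at hcell
  exact ⟨a, ha, hcell⟩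

theorem mem_parabolic_of_cell {S : Set ℕ} {a : List ℕ} (ha : InW D S a) {g : GL D.Idx F}
    (hg : g ∈ bCell C F a) : g ∈ D.parabolicSubgroup F S := by
  obtain ⟨x, hx, y, hy, rfl⟩ := hg
  exact mul_mem (mul_mem (Subgroup.mem_sup_left hx) (mem_parabolic_of_word C K ha)) (Subgroup.mem_sup_left hy)

/-- The cell of a coset of the Borel subgroup. -/
theorem exists_cellOf : ∃ cell : (↥(D.group F) ⧸ D.parabolicIn F ∅) → WElt D T,
    ∀ g : ↥(D.group F), (g : GL D.Idx F) ∈ bCell C F (cell g).word := by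
  have hex : ∀ g : ↥(D.group F), ∃ p : WElt D T, (g : GL D.Idx F) ∈ bCell C F p.word := fun g => by
    obtain ⟨w, hw, b, hb, c, hc, e⟩ := bruhat_normal C K g.2
    obtain ⟨p, hp⟩ := WElt.exists_of_word (T := T) hw
    exact ⟨p, bCell_congr C K hw p.isWord hp.symm ⟨b, hb, c, signPart_le_borel C K _ _ hc, e⟩⟩
  refine ⟨fun x => (hex x.out).choose, fun g => ?_⟩
  obtain ⟨⟨u, hu⟩, e⟩ := QuotientGroup.mk_out_eq_mul (D.parabolicIn F ∅) g
  have h := (hex (g : ↥(D.group F) ⧸ D.parabolicIn F ∅).out).choose_spec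
  rw [parabolicIn_empty C] at hu
  have h2 := bCell_mul C (one_mem _) (inv_mem (show (u : GL D.Idx F) ∈ D.borelSubgroup F from hu)) h
  rw [one_mul] at h2
  have he : ((g : ↥(D.group F) ⧸ D.parabolicIn F ∅).out : GL D.Idx F) = (g : GL D.Idx F) * (u : GL D.Idx F) := by
    rw [e, Subgroup.coe_mul]
  exact Eq.subst (motive := fun z => z ∈ bCell C F _) (by rw [he, mul_inv_cancel_right]) h2

/-- The cosets of `B` in a cell, by the normal form of the inverse. -/
theorem exists_cell_param {cell : (↥(D.group F) ⧸ D.parabolicIn F ∅) → WElt D T}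
    (hcell : ∀ g : ↥(D.group F), (g : GL D.Idx F) ∈ bCell C F (cell g).word) (p : WElt D T) :
    ∃ e : ↥(signPart C K F p.word.reverse true (D.nroots / 2)) ≃ {x // cell x = p},
      ∀ c : ↥(signPart C K F p.word.reverse true (D.nroots / 2)),
        ∃ g : ↥(D.group F), (g : GL D.Idx F) = (wnu C F p.word.reverse * (c : GL D.Idx F))⁻¹ ∧
        (e c).1 = (g : ↥(D.group F) ⧸ D.parabolicIn F ∅) := by
  have hv := p.isWord
  have hev := nroots_even C
  have hrev := wnu_reverse_mul C (F := F) hv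
  let g : ↥(signPart C K F p.word.reverse true (D.nroots / 2)) → ↥(D.group F) := fun c =>
    ⟨(wnu C F p.word.reverse * (c : GL D.Idx F))⁻¹, inv_mem (mul_mem (wnu_mem_group C hv.reverse)
      (borel_le_group C (signPart_le_borel C K _ _ c.2)))⟩
  have hg : ∀ c, cell (g c) = p := fun c => by
    refine WElt.ext_word (bCell_disjoint C K (cell (g c)).isWord hv (hcell (g c))
      ⟨(c : GL D.Idx F)⁻¹, inv_mem (signPart_le_borel C K _ _ c.2), _,
        inv_mem (Subgroup.mem_sup_right hrev), ?_⟩)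
    show (wnu C F p.word.reverse * (c : GL D.Idx F))⁻¹ = _
    group
  refine ⟨Equiv.ofBijective (fun c => (⟨_, hg c⟩ : {x // cell x = p})) ⟨fun c c' e => ?_, fun x => ?_⟩,
    fun c => ⟨g c, rfl, rfl⟩⟩
  · have e' := QuotientGroup.eq.1 (congrArg Subtype.val e)
    rw [parabolicIn_empty C, Subgroup.mem_subgroupOf, Subgroup.coe_mul, InvMemClass.coe_inv] at e'
    simp only [g, inv_inv] at e'
    have hbB := e'
    set n := wnu C F p.word.reverse with hn
    set b := n * (c : GL D.Idx F) * (n * (c' : GL D.Idx F))⁻¹ with hb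
    obtain ⟨-, h2⟩ := cell_unique C (one_mem _) hbB
      ((signPart_conj C K hv.reverse (k := D.nroots / 2)).1 (mul_mem c'.2 (inv_mem c.2)))
      (show 1 * n * (c : GL D.Idx F) = b * n * c' by rw [hb]; group)
    exact Subtype.ext h2
  · obtain ⟨x, hx⟩ := x
    induction x using QuotientGroup.induction_on with
    | H y =>
      have h := hcell y
      rw [hx] at h
      obtain ⟨x1, hx1, y1, hy1, e⟩ := h
      obtain ⟨u, hu, d, hd, e1⟩ := (mem_borel C).1 (inv_mem hx1)
      have hu : d⁻¹ * u * d ∈ upper C F (D.nroots / 2) := by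
        have := (Subgroup.mem_normalizer_iff.1 (diag_le_normalizer C (inv_mem hd)) u).1 hu
        rw [inv_inv] at this
        exact (posUnipotent_eq C).le this
      obtain ⟨a, ha, c, hc, e2⟩ := upper_split C K p.word.reverse (D.nroots / 2) (k := D.nroots / 2) (by omega)
        (by omega) hu
      refine ⟨⟨c, hc⟩, Subtype.ext (QuotientGroup.eq.2 ?_)⟩
      rw [parabolicIn_empty C, Subgroup.mem_subgroupOf, Subgroup.coe_mul, InvMemClass.coe_inv]
      show (wnu C F p.word.reverse * c)⁻¹⁻¹ * (y : GL D.Idx F) ∈ D.borelSubgroup F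
      have hn1 := wnu_mem C (F := F) hv.reverse
      set n := wnu C F p.word.reverse with hn
      set m := wnu C F p.word with hm
      have h1 : n * a * n⁻¹ ∈ D.borelSubgroup F := Subgroup.mem_sup_left ((signPart_conj C K hv.reverse).2 ha)
      have h2 : n * d * n⁻¹ ∈ D.borelSubgroup F := Subgroup.mem_sup_right (conj_mem_diag C hn1 hd).1
      have hx1' : x1 = (d * (a * c))⁻¹ := by
        rw [← e2, show d * (d⁻¹ * u * d) = u * d by group, ← e1, inv_inv]
      rw [inv_inv, e, hx1', show n * c * ((d * (a * c))⁻¹ * m * y1) =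
        (n * a * n⁻¹)⁻¹ * (n * d * n⁻¹)⁻¹ * (n * m) * y1 by group]
      exact mul_mem (mul_mem (mul_mem (inv_mem h1) (inv_mem h2)) (Subgroup.mem_sup_right hrev)) hy1

theorem parabolic_pi_bijective {cell : (↥(D.group F) ⧸ D.parabolicIn F ∅) → WElt D T}
    (hcell : ∀ g : ↥(D.group F), (g : GL D.Idx F) ∈ bCell C F (cell g).word) {J : Finset ℕ}
    (hJ : J ⊆ Finset.range D.rank) :
    Function.Bijective fun x : {x : ↥(D.group F) ⧸ D.parabolicIn F ∅ // J ⊆ ascSet D T (cell x).word} =>
      Subgroup.quotientMapOfLE (parabolicIn_mono C K (Finset.empty_subset J)) x.1 := by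
  refine ⟨?_, ?_⟩
  · rintro ⟨x, hx⟩ ⟨y, hy⟩ e
    refine Subtype.ext ?_
    induction x using QuotientGroup.induction_on with
    | H g =>
      induction y using QuotientGroup.induction_on with
      | H g' =>
        rw [subset_ascSet hJ] at hx hy
        have e' : g⁻¹ * g' ∈ D.parabolicIn F J := QuotientGroup.eq.1 e
        rw [ChevalleyDatum.parabolicIn, Subgroup.mem_subgroupOf, Subgroup.coe_mul, InvMemClass.coe_inv] at e'
        refine QuotientGroup.eq.2 ?_
        rw [parabolicIn_empty C, Subgroup.mem_subgroupOf, Subgroup.coe_mul, InvMemClass.coe_inv]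
        exact minCoset_eq C K (cell g).isWord (cell g').isWord (hcell g) (hcell g') hx hy e'
  · intro y
    induction y using QuotientGroup.induction_on with
    | H g =>
      obtain ⟨v, hv, hR, -, p, hp, q, hq, e⟩ := exists_min_word C K (F := F) (∅ : Set ℕ) (↑J : Set ℕ) g.2
      rw [parabolic_empty] at hp
      let h : ↥(D.group F) := ⟨p * wnu C F v, mul_mem (borel_le_group C hp) (wnu_mem_group C hv)⟩
      have hsame : SamePerm D T (cell h).word v :=
        bCell_disjoint C K (cell h).isWord hv (hcell h) ⟨p, hp, 1, one_mem _, by simp [h]⟩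
      refine ⟨⟨h, ?_⟩, QuotientGroup.eq.2 ?_⟩
      · rw [ascSet_congr C K hsame]; exact (subset_ascSet hJ).2 hR
      · show ((h⁻¹ * g : ↥(D.group F)) : GL D.Idx F) ∈ D.parabolicSubgroup F (↑J : Set ℕ)
        simp only [Subgroup.coe_mul, InvMemClass.coe_inv, h]
        rw [e, show (p * wnu C F v)⁻¹ * (p * wnu C F v * q) = q by group]
        exact hq

theorem card_radical_mul [Finite F] (S : Set ℕ) :
    Nat.card ↥(D.unipotentRadical F S) * Nat.card F ^ (posSub D S).card = Nat.card F ^ (D.nroots / 2) := by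
  classical
  have hev := nroots_even C
  obtain ⟨a, ha, hneg⟩ := exists_long_inW C K S
  rw [← card_pos C K, ← long_inW_neg C K ha hneg, ← filter_length_eq C,
    ← card_signPart C K ha.1 (D.nroots / 2) (k := D.nroots / 2) (by omega) (by omega), ← Nat.card_prod]
  have hRB : ∀ x ∈ D.unipotentRadical F S, x ∈ signPart C K F a false (D.nroots / 2) := by
    intro x hx
    refine (Subgroup.closure_le _).2 ?_ hx
    rintro g ⟨r, t, hr, hn, e⟩
    rw [eq_xg C e]
    have hp := (C.isPos_iff hr.1).1 hr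
    exact xg_mem_signPart C K (by omega) hr.1 (decide_eq_false (by have := (inW_outside C K ha hr.1 hn).2 hp; omega)) t
  have hBR : ∀ x ∈ signPart C K F a false (D.nroots / 2), x ∈ D.unipotentRadical F S := by
    intro x hx
    refine (Subgroup.closure_le _).2 ?_ hx
    rintro _ ⟨r, t, h1, h2, h3, rfl⟩
    refine xg_mem_radical C h2 (by omega) (fun hS => ?_) t
    have := hneg r hS (by omega)
    have := of_decide_eq_false h3
    omega
  refine Nat.card_eq_of_bijective (fun z : ↥(D.unipotentRadical F S) × ↥(signPart C K F a true (D.nroots / 2)) =>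
    (⟨(z.1 : GL D.Idx F) * z.2, mul_mem (radical_le_pos C S z.1.2)
      ((signPart_le_upper C K a true _).trans (posUnipotent_eq C).ge z.2.2)⟩ : ↥(D.posUnipotent F))) ⟨?_, ?_⟩
  · rintro ⟨x, c⟩ ⟨y, d⟩ e
    have e' : (x : GL D.Idx F) * c = y * d := congrArg Subtype.val e
    have hy : (y : GL D.Idx F)⁻¹ * x = (d : GL D.Idx F) * (c : GL D.Idx F)⁻¹ := by
      calc (y : GL D.Idx F)⁻¹ * x = (y : GL D.Idx F)⁻¹ * ((x : GL D.Idx F) * c) * (c : GL D.Idx F)⁻¹ := by group
        _ = _ := by rw [e']; group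
    have h1 : (y : GL D.Idx F)⁻¹ * x = 1 := signPart_inter C K ha.1 (k := D.nroots / 2)
      (hRB _ (mul_mem (inv_mem y.2) x.2)) (by rw [hy]; exact (signPart_conj C K ha.1).1 (mul_mem d.2 (inv_mem c.2)))
    obtain rfl : y = x := Subtype.ext (inv_mul_eq_one.1 h1)
    exact Prod.ext rfl (Subtype.ext (mul_left_cancel e'))
  · intro u
    have hu : (u : GL D.Idx F) ∈ upper C F (D.nroots / 2) := (posUnipotent_eq C).le u.2
    obtain ⟨x, hx, c, hc, e⟩ := upper_split C K a (D.nroots / 2) (k := D.nroots / 2) (by omega) (by omega) hu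
    exact ⟨(⟨x, hBR x hx⟩, ⟨c, hc⟩), Subtype.ext e.symm⟩

end

end Cfsg.Lib.Chev
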