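import Mathlib
import Cfsg.Agent.Lib.Chev.Descent
import Cfsg.Agent.Lib.Chev.DescentField

/-!
Centraliser and normaliser of the group generated by fixed root elements.
-/

set_option autoImplicit false
set_option linter.unusedSectionVars false

namespace Cfsg.Lib.Chev

open Cfsg.Lie

variable {D : ChevalleyDatum} {T : Tbl} {F : Type*} [Field F] (C : Cert D T) (K : FullCert D T)
include C K

theorem mem_borel_of_comm {g : GL D.Idx F} (hg : g ∈ D.group F)
    (hc : ∀ r < D.nroots, g * xg C r (1 : F) = xg C r 1 * g) : g ∈ D.borelSubgroup F := by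
  obtain ⟨w, hw, b, hb, c, hcm, rfl⟩ := bruhat_normal C K hg
  have hev := nroots_even C
  have hpos : ∀ r < D.nroots, D.nroots ≤ 2 * r → D.nroots ≤ 2 * wperm T w r := by
    intro r hr hrp
    by_contra hneg
    push Not at hneg
    have hx : xg C r (1 : F) ∈ signPart C K F w true (D.nroots / 2) :=
      xg_mem_signPart C K (by omega) hr (by simp [hneg]) 1
    have hxB : xg C r (1 : F) ∈ D.borelSubgroup F :=
      Subgroup.mem_sup_left (xg_mem_pos C hr hrp _)
    have e : b * wnu C F w * (c * xg C r 1) = xg C r (1 : F) * b * wnu C F w * c := by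
      calc b * wnu C F w * (c * xg C r 1) = b * wnu C F w * c * xg C r 1 := by group
        _ = _ := by rw [hc r hr]; group
    obtain ⟨-, h2⟩ := cell_unique C hb (mul_mem hxB hb)
      ((signPart_conj C K hw).1 (mul_mem hcm (inv_mem (mul_mem hcm hx)))) e
    have h3 : xg C r (1 : F) = xg C r 0 := by
      rw [xg_zero]; exact mul_left_cancel (h2.trans (mul_one c).symm)
    exact one_ne_zero (xg_injective C hr h3)
  have hd : wnu C F w ∈ D.diagonalSubgroup F := word_kernel C K _ rfl hw fun k hk =>
    hpos _ (C.spec.simp_lt k hk) (K.simple_pos hk)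
  exact mul_mem (mul_mem hb (Subgroup.mem_sup_right hd)) (signPart_le_borel C K w true hcm)

/-- An element of the group commuting with the elements `x_r(1)` is trivial. -/
theorem eq_one_of_comm {g : GL D.Idx F} (hg : g ∈ D.group F)
    (hc : ∀ r < D.nroots, g * xg C r (1 : F) = xg C r 1 * g) : g = 1 := by
  obtain ⟨w, hw, hl⟩ := exists_long C K
  have hev := nroots_even C
  have hB := mem_borel_of_comm C K hg hc
  have hB' : wnu C F w * g * (wnu C F w)⁻¹ ∈ D.borelSubgroup F := by
    refine mem_borel_of_comm C K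
      (mul_mem (mul_mem (wnu_mem_group C hw) hg) (inv_mem (wnu_mem_group C hw))) fun r hr => ?_
    obtain ⟨c, hc1, hct⟩ := wnu_conj_xg C (F := F) hw (wperm_lt C hw.reverse hr)
    have hr' : wperm T w (wperm T w.reverse r) = r := by
      have := wperm_reverse C hw.reverse hr
      rwa [List.reverse_reverse] at this
    rw [hr'] at hct
    have hcomm : ∀ u : F, u * u = 1 → g * xg C (wperm T w.reverse r) u = xg C (wperm T w.reverse r) u * g := by
      intro u hu
      rcases mul_self_eq_one_iff.1 hu with rfl | rfl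
      · exact hc _ (wperm_lt C hw.reverse hr)
      · rw [← xg_inv]
        exact ((Commute.inv_right (hc _ (wperm_lt C hw.reverse hr))).eq)
    have e : xg C r (1 : F) = wnu C F w * xg C (wperm T w.reverse r) c * (wnu C F w)⁻¹ := by
      rw [hct, hc1]
    rw [e]
    calc wnu C F w * g * (wnu C F w)⁻¹ * (wnu C F w * xg C (wperm T w.reverse r) c * (wnu C F w)⁻¹)
        = wnu C F w * (g * xg C (wperm T w.reverse r) c) * (wnu C F w)⁻¹ := by group
      _ = _ := by rw [hcomm c hc1]; group
  obtain ⟨u, hu, d, hd, e⟩ := (mem_borel C).1 hB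
  have hmap : wnu C F w * u * (wnu C F w)⁻¹ ∈ D.negUnipotent F := by
    have : u ∈ signPart C K F w true (D.nroots / 2) := by
      rw [posUnipotent_eq C] at hu
      suffices h : upper C F (D.nroots / 2) ≤ signPart C K F w true (D.nroots / 2) from h hu
      refine (Subgroup.closure_le _).2 ?_
      rintro x ⟨r, t, h1, h2, rfl⟩
      exact xg_mem_signPart C K h1 h2 (by simp [hl r h2 (by omega)]) t
    exact (signPart_conj C K hw).1 this
  have hd' := (conj_mem_diag C (F := F) (wnu_mem C hw) hd).1
  have hu1 : wnu C F w * u * (wnu C F w)⁻¹ = 1 := (Subgroup.eq_bot_iff_forall _).1 (borel_inf_neg C) _ ⟨by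
    have : wnu C F w * u * (wnu C F w)⁻¹ = wnu C F w * g * (wnu C F w)⁻¹ * (wnu C F w * d * (wnu C F w)⁻¹)⁻¹ := by
      rw [e]; group
    rw [this]
    exact Subgroup.mul_mem _ hB' (Subgroup.inv_mem _ (Subgroup.mem_sup_right hd')), hmap⟩
  obtain rfl : u = 1 := by simpa using hu1
  rw [one_mul] at e
  subst e
  exact diag_eq_one_of_comm C hd hc

variable (σ : F →+* F)

theorem commutator_fixed_mem {g k : GL D.Idx F} (hg : g ∈ D.group F) (hgf : Matrix.GeneralLinearGroup.map σ g = g)
    (hk : k ∈ D.group F) (hkf : Matrix.GeneralLinearGroup.map σ k = k) :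
    g * k * g⁻¹ * k⁻¹ ∈ fixedRoots C σ := by
  have key : ∀ d ∈ D.diagonalSubgroup F, Matrix.GeneralLinearGroup.map σ d = d → ∀ x ∈ fixedRoots C σ,
      d * x * d⁻¹ ∈ fixedRoots C σ := by
    intro d hd hdf x hx
    obtain ⟨χ, hχ⟩ := diag_conj_xg C hd
    induction hx using Subgroup.closure_induction with
    | mem x hx =>
      obtain ⟨r, t, ht, rfl⟩ := hx
      by_cases hr : r < D.nroots
      · have h := (hχ r hr).2 (t := t)
        have e := congrArg (Matrix.GeneralLinearGroup.map σ) h
        simp only [map_mul, map_inv, hdf, map_xg, ht] at e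
        rw [h] at e ⊢
        exact xg_mem_fixedRoots C σ (by rw [map_mul, ht]; exact (xg_injective C hr e).symm)
      · simp [xg_out C hr]
    | one => simp
    | mul a b _ _ ha hb =>
      have := mul_mem ha hb
      simpa [mul_assoc] using this
    | inv a _ ha =>
      have := inv_mem ha
      simpa [mul_assoc] using this
  have split : ∀ g : GL D.Idx F, g ∈ D.group F → Matrix.GeneralLinearGroup.map σ g = g →
      ∃ l ∈ fixedRoots C σ, ∃ d ∈ D.diagonalSubgroup F, Matrix.GeneralLinearGroup.map σ d = d ∧ g = l * d := by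
    intro g hg hgf
    obtain ⟨u, hu, v, hv, d, hd, hdf, rfl⟩ := fixed_decomp C σ K hg hgf
    exact ⟨u * (d * v * d⁻¹), mul_mem hu (key d hd hdf v hv), d, hd, hdf, by group⟩
  obtain ⟨l, hl, d, hd, hdf, rfl⟩ := split g hg hgf
  obtain ⟨m, hm, e, he, hef, rfl⟩ := split k hk hkf
  have hde : d * e = e * d := by
    rw [← torusHom_range C] at hd he
    obtain ⟨a, rfl⟩ := hd
    obtain ⟨b, rfl⟩ := he
    rw [← map_mul, ← map_mul, mul_comm]
  have : l * d * (m * e) * (l * d)⁻¹ * (m * e)⁻¹ = l * (d * m * d⁻¹) * (e * l⁻¹ * e⁻¹) * m⁻¹ := by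
    calc l * d * (m * e) * (l * d)⁻¹ * (m * e)⁻¹ = l * (d * m * d⁻¹) * (d * e * d⁻¹ * l⁻¹ * e⁻¹) * m⁻¹ := by group
      _ = _ := by rw [hde]; group
  rw [this]
  exact mul_mem (mul_mem (mul_mem hl (key d hd hdf m hm)) (key e he hef _ (inv_mem hl))) (inv_mem hm)

end Cfsg.Lib.Chev
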