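import Cfsg.Prelude.Def_Steinberg

/-!
Homomorphisms of Steinberg groups from square-zero integer matrices satisfying the relations of a simply laced type.
-/

set_option autoImplicit false

namespace Cfsg.Lib.Chev.MatRep

open Cfsg.Lie Matrix

/-! ### The computations in a ring -/

section Ring

variable {R : Type*} [Ring R]

theorem comm_word {A B : R} (hA : A * A = 0) (hB : B * B = 0) (h1 : A * B * A = 0) (h2 : B * A * B = 0) :
    (1 - B) * (1 - A) * (1 + B) * (1 + A) = 1 + (B * A - A * B) := by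
  have hA' : ∀ x, x * A * A = 0 := fun x => by rw [mul_assoc, hA, mul_zero]
  have hB' : ∀ x, x * B * B = 0 := fun x => by rw [mul_assoc, hB, mul_zero]
  have h1' : ∀ x, x * A * B * A = 0 := fun x => by rw [mul_assoc x, mul_assoc x, h1, mul_zero]
  have h2' : ∀ x, x * B * A * B = 0 := fun x => by rw [mul_assoc x, mul_assoc x, h2, mul_zero]
  simp only [sub_eq_add_neg, mul_add, add_mul, one_mul, mul_one, neg_mul, mul_neg, neg_neg, smul_add, smul_neg, neg_smul, smul_mul_assoc, mul_smul_comm, smul_smul, ← mul_assoc, smul_zero, add_zero, zero_add, neg_zero, mul_zero, zero_mul, hA, hB, h1, h2, hA', hB', h1', h2']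
  abel

theorem add_word {F : Type*} [CommRing F] [Algebra F R] {A : R} (hA : A * A = 0) (t u : F) :
    (1 + t • A) * (1 + u • A) = 1 + (t + u) • A := by
  simp only [mul_add, mul_one, add_mul, one_mul, smul_mul_smul_comm, hA, smul_zero, add_zero, add_smul]
  abel

theorem n_word {F : Type*} [Field F] [Algebra F R] {A B : R} (hA : A * A = 0) (hab : A * B * A = A)
    {t : F} (ht : t ≠ 0) :
    (1 + t • A) * (1 + (-t⁻¹) • B) * (1 + t • A) = 1 - (A * B + B * A) + t • A + (-t⁻¹) • B := by
  simp only [sub_eq_add_neg, mul_add, add_mul, one_mul, mul_one, neg_mul, mul_neg, neg_neg, smul_add, smul_neg, neg_smul, smul_mul_assoc, mul_smul_comm, smul_smul, ← mul_assoc, smul_zero, add_zero, zero_add, neg_zero, mul_zero, zero_mul, hA, hab, mul_inv_cancel₀ ht, inv_mul_cancel₀ ht, one_smul]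
  module

theorem h_word {F : Type*} [Field F] [Algebra F R] {A B : R} (hA : A * A = 0) (hB : B * B = 0) (hab : A * B * A = A)
    (hba : B * A * B = B) {t : F} (ht : t ≠ 0) :
    (1 - (A * B + B * A) + t • A + (-t⁻¹) • B) * (1 - (A * B + B * A) + (-1 : F) • A + (-(-1 : F)⁻¹) • B) =
      1 - (A * B + B * A) + t • (A * B) + t⁻¹ • (B * A) := by
  have hA' : ∀ x, x * A * A = 0 := fun x => by rw [mul_assoc, hA, mul_zero]
  have hB' : ∀ x, x * B * B = 0 := fun x => by rw [mul_assoc, hB, mul_zero]
  have hab' : ∀ x, x * A * B * A = x * A := fun x => by rw [mul_assoc x, mul_assoc x, hab]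
  have hba' : ∀ x, x * B * A * B = x * B := fun x => by rw [mul_assoc x, mul_assoc x, hba]
  simp only [sub_eq_add_neg, mul_add, add_mul, one_mul, mul_one, neg_mul, mul_neg, neg_neg, smul_add, smul_neg, neg_smul, smul_mul_assoc, mul_smul_comm, smul_smul, ← mul_assoc, smul_zero, add_zero, zero_add, neg_zero, mul_zero, zero_mul, hA, hB, hab, hba, hA', hB', hab', hba', inv_neg, inv_one, one_smul, mul_inv_cancel₀ ht, inv_mul_cancel₀ ht]
  module

theorem h_mul_word {F : Type*} [Field F] [Algebra F R] {A B : R} (hA : A * A = 0) (hB : B * B = 0)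
    (hab : A * B * A = A) (hba : B * A * B = B) (t u : F) :
    (1 - (A * B + B * A) + t • (A * B) + t⁻¹ • (B * A)) * (1 - (A * B + B * A) + u • (A * B) + u⁻¹ • (B * A)) =
      1 - (A * B + B * A) + (t * u) • (A * B) + (t * u)⁻¹ • (B * A) := by
  have hA' : ∀ x, x * A * A = 0 := fun x => by rw [mul_assoc, hA, mul_zero]
  have hB' : ∀ x, x * B * B = 0 := fun x => by rw [mul_assoc, hB, mul_zero]
  have hab' : ∀ x, x * A * B * A = x * A := fun x => by rw [mul_assoc x, mul_assoc x, hab]
  have hba' : ∀ x, x * B * A * B = x * B := fun x => by rw [mul_assoc x, mul_assoc x, hba]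
  simp only [sub_eq_add_neg, mul_add, add_mul, one_mul, mul_one, neg_mul, mul_neg, neg_neg, smul_add, smul_neg, neg_smul, smul_mul_assoc, mul_smul_comm, smul_smul, ← mul_assoc, smul_zero, add_zero, zero_add, neg_zero, mul_zero, zero_mul, hA, hB, hab, hba, hA', hB', hab', hba', mul_inv]
  module

end Ring

/-! ### Representations -/

/-- Integer matrices satisfying the relations. -/
structure RepOK (D : ChevalleyDatum) {ι : Type*} [Fintype ι] [DecidableEq ι] (E : ℕ → Matrix ι ι ℤ) : Prop where
  neg_lt : ∀ r < D.nroots, D.neg r < D.nroots ∧ D.neg (D.neg r) = r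
  sq : ∀ r < D.nroots, E r * E r = 0
  aba : ∀ r < D.nroots, E r * E (D.neg r) * E r = E r
  bab : ∀ r < D.nroots, ∀ s < D.nroots, s ≠ r → s ≠ D.neg r → E s * E r * E s = 0
  comm : ∀ r < D.nroots, ∀ s < D.nroots, s ≠ r → s ≠ D.neg r →
    (D.commTerms r s = [] ∧ E s * E r - E r * E s = 0) ∨
      ∃ k c, D.commTerms r s = [(k, c, 1, 1)] ∧ k < D.nroots ∧ E s * E r - E r * E s = (-c) • E k

variable {D : ChevalleyDatum} {ι : Type*} [Fintype ι] [DecidableEq ι] {E : ℕ → Matrix ι ι ℤ}
variable {F : Type*} [Field F]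

/-- The matrix over the field. -/
def mE (E : ℕ → Matrix ι ι ℤ) (F : Type*) [Field F] (r : ℕ) : Matrix ι ι F := (Int.castRingHom F).mapMatrix (E r)

variable (h : RepOK D E)
include h

theorem mE_sq {r : ℕ} (hr : r < D.nroots) : mE E F r * mE E F r = 0 := by rw [mE, ← map_mul, h.sq r hr, map_zero]

theorem mE_aba {r : ℕ} (hr : r < D.nroots) : mE E F r * mE E F (D.neg r) * mE E F r = mE E F r := by
  simp only [mE, ← map_mul, h.aba r hr]

omit h in
/-- The root elements. -/
def repX (E : ℕ → Matrix ι ι ℤ) (r : ℕ) (t : F) : Matrix ι ι F := 1 + t • mE E F r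

theorem repX_mul {r : ℕ} (hr : r < D.nroots) (t u : F) : repX E r t * repX E r u = repX E r (t + u) :=
  add_word (mE_sq h hr) t u

theorem repX_zero (r : ℕ) : repX E r (0 : F) = 1 := by simp [repX]

/-- The generators. -/
def repGen (p : Fin D.nroots × F) : GL ι F where
  val := repX E p.1 p.2
  inv := repX E p.1 (-p.2)
  val_inv := by rw [repX_mul h p.1.2, add_neg_cancel, repX_zero h]
  inv_val := by rw [repX_mul h p.1.2, neg_add_cancel, repX_zero h]

theorem coe_lift_stX {r : ℕ} (hr : r < D.nroots) (t : F) :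
    ((FreeGroup.lift (repGen h) (D.stX r t) : GL ι F) : Matrix ι ι F) = repX E r t := by
  rw [ChevalleyDatum.stX, dif_pos hr, FreeGroup.lift_apply_of]
  rfl

theorem lift_stX_inv {r : ℕ} (hr : r < D.nroots) (t : F) :
    ((FreeGroup.lift (repGen h) (D.stX r t))⁻¹ : GL ι F) = FreeGroup.lift (repGen h) (D.stX r (-t)) := by
  refine inv_eq_of_mul_eq_one_right (Units.ext ?_)
  rw [Units.val_mul, coe_lift_stX h hr, coe_lift_stX h hr, repX_mul h hr, add_neg_cancel, repX_zero h, Units.val_one]

theorem coe_lift_stH {r : ℕ} (hr : r < D.nroots) {v : F} (hv : v ≠ 0) :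
    ((FreeGroup.lift (repGen h) (D.stH r v) : GL ι F) : Matrix ι ι F) =
      1 - (mE E F r * mE E F (D.neg r) + mE E F (D.neg r) * mE E F r) + v • (mE E F r * mE E F (D.neg r)) +
        v⁻¹ • (mE E F (D.neg r) * mE E F r) := by
  obtain ⟨hn, hnn⟩ := h.neg_lt r hr
  have hba := mE_aba (F := F) h hn
  rw [hnn] at hba
  simp only [ChevalleyDatum.stH, ChevalleyDatum.stWord, ChevalleyDatum.hWord, ChevalleyDatum.nWord, List.cons_append,
    List.nil_append, List.map_cons, List.map_nil, List.prod_cons, List.prod_nil, mul_one, map_mul, Units.val_mul,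
    coe_lift_stX h hr, coe_lift_stX h hn]
  rw [← h_word (mE_sq h hr) (mE_sq h hn) (mE_aba h hr) hba hv,
    ← n_word (mE_sq h hr) (mE_aba h hr) hv, ← n_word (mE_sq h hr) (mE_aba h hr) (neg_ne_zero.2 one_ne_zero)]
  simp only [repX, mul_assoc]

theorem repGen_rels : ∀ g ∈ D.steinbergRels F, FreeGroup.lift (repGen h) g = 1 := by
  rintro g ((⟨r, t, u, hr, rfl⟩ | ⟨r, s, t, u, hr, hs, h1, h2, rfl⟩) | ⟨r, v, w, hr, hv, hw, rfl⟩)
  · rw [map_mul, map_mul, map_inv, mul_inv_eq_one]
    refine Units.ext ?_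
    rw [Units.val_mul, coe_lift_stX h hr, coe_lift_stX h hr, coe_lift_stX h hr, repX_mul h hr]
  · rw [map_mul, map_inv, mul_inv_eq_one, map_mul, map_mul, map_mul, map_inv, map_inv]
    refine Units.ext ?_
    rw [lift_stX_inv h hs, lift_stX_inv h hr, Units.val_mul, Units.val_mul, Units.val_mul, coe_lift_stX h hs,
      coe_lift_stX h hr, coe_lift_stX h hs, coe_lift_stX h hr]
    have hr' : r ≠ D.neg s := fun e => h2 (by rw [e, (h.neg_lt s hs).2])
    have e1 : (t • mE E F r) * (u • mE E F s) * (t • mE E F r) = 0 := by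
      simp only [smul_mul_smul_comm, mE, ← map_mul, h.bab s hs r hr h1.symm hr', map_zero, smul_zero]
    have e2 : (u • mE E F s) * (t • mE E F r) * (u • mE E F s) = 0 := by
      simp only [smul_mul_smul_comm, mE, ← map_mul, h.bab r hr s hs h1 h2, map_zero, smul_zero]
    have hcw := comm_word (A := t • mE E F r) (B := u • mE E F s)
      (by rw [smul_mul_smul_comm, mE_sq h hr, smul_zero]) (by rw [smul_mul_smul_comm, mE_sq h hs, smul_zero]) e1 e2
    simp only [repX, neg_smul, ← sub_eq_add_neg]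
    rw [hcw, smul_mul_smul_comm, smul_mul_smul_comm, mul_comm t u, ← smul_sub]
    rcases h.comm r hr s hs h1 h2 with ⟨he, hd⟩ | ⟨k, c, he, hk, hd⟩
    · rw [show mE E F s * mE E F r - mE E F r * mE E F s = (0 : Matrix ι ι F) by rw [mE, mE, ← map_mul, ← map_mul, ← map_sub, hd, map_zero]]
      simp [ChevalleyDatum.stWord, ChevalleyDatum.commWord, he]
    · simp only [ChevalleyDatum.stWord, ChevalleyDatum.commWord, he, List.map_cons, List.map_nil, List.prod_cons,
        List.prod_nil, mul_one, pow_one, coe_lift_stX h hk, repX]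
      congr 1
      rw [mE, mE, mE, ← map_mul, ← map_mul, ← map_sub, hd, map_zsmul, ← Int.cast_smul_eq_zsmul F, smul_smul]
      congr 1
      push_cast
      ring
  · rw [map_mul, map_mul, map_inv, mul_inv_eq_one]
    refine Units.ext ?_
    obtain ⟨hn, hnn⟩ := h.neg_lt r hr
    have hba := mE_aba (F := F) h hn
    rw [hnn] at hba
    rw [Units.val_mul, coe_lift_stH h hr hv, coe_lift_stH h hr hw, coe_lift_stH h hr (mul_ne_zero hv hw),
      h_mul_word (mE_sq h hr) (mE_sq h hn) (mE_aba h hr) hba]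

/-- The representation of the Steinberg group. -/
noncomputable def repHom : D.SteinbergGroup F →* GL ι F := PresentedGroup.toGroup (repGen_rels h)

theorem repHom_gen {r : ℕ} (hr : r < D.nroots) (t : F) :
    ((repHom h (D.stGen F r t) : GL ι F) : Matrix ι ι F) = repX E r t := by
  rw [ChevalleyDatum.stGen, ChevalleyDatum.stX, dif_pos hr]
  exact congrArg Units.val (PresentedGroup.toGroup.of (repGen_rels h))

end Cfsg.Lib.Chev.MatRep
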