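import Cfsg.Agent.Lib.Chev.SylowTorus
import Cfsg.Agent.Lib.Chev.FullE7

/-! Twisted tori of type E7, one for each regular number. -/

set_option autoImplicit false
set_option maxRecDepth 100000

namespace Cfsg.Lib.Chev

/-- The torus data for `1`. -/
def sylE7_1 : SylTor := ⟨[], [-1], [[[1], [0], [0], [0], [0], [0], [0]], [[0], [1], [0], [0], [0], [0], [0]], [[0], [0], [1], [0], [0], [0], [0]], [[0], [0], [0], [1], [0], [0], [0]], [[0], [0], [0], [0], [1], [0], [0]], [[0], [0], [0], [0], [0], [1], [0]], [[0], [0], [0], [0], [0], [0], [1]]], [0, 1, 2, 3, 4, 5, 6]⟩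

theorem chkSyl_E7_1 : chkSyl tblE7 7 sylE7_1 = true := by decide +kernel

/-- The torus data for `2`. -/
def sylE7_2 : SylTor := ⟨[0, 1, 2, 3, 4, 5, 6, 0, 1, 2, 3, 4, 5, 6, 0, 1, 2, 3, 4, 5, 6, 0, 1, 2, 3, 4, 5, 6, 0, 1, 2, 3, 4, 5, 6, 0, 1, 2, 3, 4, 5, 6, 0, 1, 2, 3, 4, 5, 6, 0, 1, 2, 3, 4, 5, 6, 0, 1, 2, 3, 4, 5, 6], [1], [[[1], [0], [0], [0], [0], [0], [0]], [[0], [1], [0], [0], [0], [0], [0]], [[0], [0], [1], [0], [0], [0], [0]], [[0], [0], [0], [1], [0], [0], [0]], [[0], [0], [0], [0], [1], [0], [0]], [[0], [0], [0], [0], [0], [1], [0]], [[0], [0], [0], [0], [0], [0], [1]]], [0, 1, 2, 3, 4, 5, 6]⟩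

theorem chkSyl_E7_2 : chkSyl tblE7 7 sylE7_2 = true := by decide +kernel

/-- The torus data for `3`. -/
def sylE7_3 : SylTor := ⟨[0, 1, 2, 3, 4, 5, 6, 0, 1, 2, 3, 4, 5, 6, 0, 1, 2, 3, 4, 5, 6, 0, 1, 2, 3, 4, 5, 6, 0, 1, 2, 3, 4, 5, 6, 0, 1, 2, 3, 4, 5, 6], [1, 1], [[[0, -1], [0, 0], [1, 0], [1, 0], [1, 0], [0, 0], [0, 0]], [[0, 1], [1, 0], [-1, -1], [0, 0], [0, 0], [1, 0], [0, 0]], [[1, 0], [-1, -1], [1, 1], [0, -1], [0, 0], [0, 0], [1, 0]]], [4, 5, 6]⟩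

theorem chkSyl_E7_3 : chkSyl tblE7 3 sylE7_3 = true := by decide +kernel

/-- The torus data for `4`. -/
def sylE7_4 : SylTor := ⟨[1, 3, 5, 5, 1, 0, 2, 6, 5, 5, 5, 6, 1, 5, 6, 0, 2, 5, 4, 1, 3, 5, 5, 1, 0, 2, 6, 5, 5, 5, 6, 1, 5, 6, 0, 2, 5, 4], [1, 0], [[[1, 0], [1, 0], [1, 1], [1, 0], [0, 0], [0, 0], [0, 0]], [[-1, 1], [-1, 0], [-1, -1], [0, 0], [1, 0], [0, 0], [0, 0]]], [3, 4]⟩

theorem chkSyl_E7_4 : chkSyl tblE7 2 sylE7_4 = true := by decide +kernel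

/-- The torus data for `5`. -/
def sylE7_5 : SylTor := ⟨[1, 3, 0, 2], [1, 1, 1, 1], [[[-1, 0, -1, -1], [0, -1, 0, -1], [0, 0, 0, -1], [1, 0, 0, 0], [0, 0, 0, 0], [0, 0, 0, 0], [0, 0, 0, 0]]], [3]⟩

theorem chkSyl_E7_5 : chkSyl tblE7 1 sylE7_5 = true := by decide +kernel

/-- The torus data for `6`. -/
def sylE7_6 : SylTor := ⟨[0, 1, 2, 3, 4, 5, 6, 0, 1, 2, 3, 4, 5, 6, 0, 1, 2, 3, 4, 5, 6], [1, -1], [[[1, -1], [0, 0], [1, 0], [1, 0], [1, 0], [0, 0], [0, 0]], [[-1, 1], [1, 0], [0, -1], [0, 0], [0, 0], [1, 0], [0, 0]], [[1, 0], [0, -1], [0, 1], [1, -1], [0, 0], [0, 0], [1, 0]]], [4, 5, 6]⟩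

theorem chkSyl_E7_6 : chkSyl tblE7 3 sylE7_6 = true := by decide +kernel

/-- The torus data for `7`. -/
def sylE7_7 : SylTor := ⟨[1, 4, 3, 6, 2, 0, 2, 6, 1, 2, 3, 2, 1, 1, 0, 3, 2, 3, 1, 0, 6, 5], [1, 1, 1, 1, 1, 1], [[[0, 0, 0, 0, -1, 0], [0, 0, 0, 0, 0, 0], [0, 0, 0, 0, -1, -1], [0, 0, 0, -1, -1, -1], [0, 0, -1, -1, -1, -1], [1, 1, 0, 0, 0, 0], [1, 0, 0, 0, 0, 0]]], [6]⟩

theorem chkSyl_E7_7 : chkSyl tblE7 1 sylE7_7 = true := by decide +kernel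

/-- The torus data for `8`. -/
def sylE7_8 : SylTor := ⟨[1, 3, 5, 5, 1, 0, 2, 6, 5, 5, 5, 6, 1, 5, 6, 0, 2, 5, 4], [1, 0, 0, 0], [[[0, 0, 1, -1], [0, 0, 0, -1], [0, 1, 0, -1], [1, 0, 0, -1], [1, 0, 0, 0], [0, 0, 0, 0], [0, 0, 0, 0]]], [4]⟩

theorem chkSyl_E7_8 : chkSyl tblE7 1 sylE7_8 = true := by decide +kernel

/-- The torus data for `9`. -/
def sylE7_9 : SylTor := ⟨[0, 1, 2, 3, 4, 5, 6, 0, 1, 2, 3, 4, 5, 6], [1, 0, 0, 1, 0, 0], [[[1, 0, -1, 0, 0, 0], [0, 0, 0, -1, -1, 0], [1, -1, -1, 0, -1, -1], [1, 0, -1, -1, -1, -1], [1, 0, -1, 0, -1, -1], [1, 0, 0, 0, -1, 0], [1, 0, 0, 0, 0, 0]]], [6]⟩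

theorem chkSyl_E7_9 : chkSyl tblE7 1 sylE7_9 = true := by decide +kernel

/-- The torus data for `10`. -/
def sylE7_10 : SylTor := ⟨[2, 5, 4, 2, 5, 4, 6, 0, 4, 0, 2, 0, 4, 0, 3, 1, 0, 2, 0, 2], [1, -1, 1, -1], [[[1, 0, 1, -1], [1, 0, 1, -1], [2, 0, 1, -2], [2, 0, 1, -2], [2, -1, 1, -2], [2, -1, 1, -1], [1, 0, 0, 0]]], [6]⟩

theorem chkSyl_E7_10 : chkSyl tblE7 1 sylE7_10 = true := by decide +kernel

/-- The torus data for `12`. -/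
def sylE7_12 : SylTor := ⟨[0, 4, 6, 2, 5, 1, 6, 3], [1, 0, -1, 0], [[[0, 1, 0, -1], [1, 1, -1, 0], [1, 1, 0, -1], [1, 2, 0, -1], [1, 1, 0, -1], [1, 0, 0, 0], [1, 0, 0, 0]]], [6]⟩

theorem chkSyl_E7_12 : chkSyl tblE7 1 sylE7_12 = true := by decide +kernel

/-- The torus data for `14`. -/
def sylE7_14 : SylTor := ⟨[0, 4, 5, 1, 6, 3, 5, 1, 4, 5, 2, 2, 1, 1, 3, 1, 3, 3, 1, 1, 2, 3, 1], [1, -1, 1, -1, 1, -1], [[[1, 0, 1, -1, 1, -1], [2, -1, 2, -1, 0, 0], [2, 0, 2, -1, 1, -1], [3, 0, 2, -1, 0, -1], [3, -1, 2, -1, 0, -1], [2, 0, 0, 1, -1, 0], [1, 0, 0, 0, 0, 0]]], [6]⟩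

theorem chkSyl_E7_14 : chkSyl tblE7 1 sylE7_14 = true := by decide +kernel

/-- The torus data for `18`. -/
def sylE7_18 : SylTor := ⟨[0, 1, 2, 3, 4, 5, 6], [1, 0, 0, -1, 0, 0], [[[1, 0, 0, 0, -1, 0], [1, 0, 1, -1, 0, -1], [1, 1, 0, 0, -1, -1], [2, 1, 1, -1, -1, -1], [1, 1, 1, 0, -1, -1], [1, 0, 1, 0, 0, -1], [1, 0, 0, 0, 0, 0]]], [6]⟩

theorem chkSyl_E7_18 : chkSyl tblE7 1 sylE7_18 = true := by decide +kernel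

end Cfsg.Lib.Chev
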