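import Cfsg.Agent.Lib.Chev.LangMain
import Cfsg.Agent.Lib.Chev.Descent

/-!
A polynomial parametrisation covering a Chevalley group, and Lang's theorem for these groups.
-/

set_option autoImplicit false
set_option linter.unusedSectionVars false

namespace Cfsg.Lib.Chev

open Cfsg.Lie Matrix MvPolynomial

variable {D : ChevalleyDatum} {T : Tbl}

/-- The matrix of a root element with a parameter in a ring. -/
def xPol (D : ChevalleyDatum) (R : Type*) [CommRing R] (r : ℕ) (t : R) : Matrix D.Idx D.Idx R :=
  if r < D.nroots then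
    Matrix.of fun row col =>
      match col with
      | Sum.inl i =>
        (match row with
         | Sum.inl i' => if i' = i then 1 else 0
         | Sum.inr u => if u.val = r then - (((D.cartanSR.getD i.val #[]).getD r 0 : ℤ) : R) * t else 0)
      | Sum.inr s =>
        if s.val = r then (match row with | Sum.inr u => if u.val = r then 1 else 0 | Sum.inl _ => 0)
        else if s.val = D.negIdx.getD r 0 then
          (match row with
           | Sum.inl i => (((D.coroot.getD r #[]).getD i.val 0 : ℤ) : R) * t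
           | Sum.inr u => if u = s then 1 else if u.val = r then -(t ^ 2) else 0)
        else
          (match row with
           | Sum.inl _ => 0
           | Sum.inr u => (if u = s then 1 else 0) +
               ((D.chainCoeff r s.val u.val).map fun km => ((km.2 : ℤ) : R) * t ^ km.1).sum)
  else 1

theorem xPol_map {R F : Type*} [CommRing R] [Field F] (φ : R →+* F) (r : ℕ) (t : R) :
    (xPol D R r t).map φ = D.x F r (φ t) := by
  by_cases hr : r < D.nroots
  · rw [xPol, if_pos hr, ChevalleyDatum.x, dif_pos hr]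
    ext row col
    rcases col with i | s <;> rcases row with i' | u <;>
      simp only [ChevalleyDatum.xMat, Matrix.map_apply, Matrix.of_apply, Fin.ext_iff]
    all_goals split_ifs
    all_goals simp [map_list_sum, Function.comp_def]
  · rw [xPol, if_neg hr, ChevalleyDatum.x, dif_neg hr, Matrix.map_one _ (map_zero φ) (map_one φ)]

section Unit

variable (C : Cert D T) {R : Type*} [CommRing R] [IsDomain R]
include C

theorem xPol_mul_neg (r : ℕ) (t : R) : xPol D R r t * xPol D R r (-t) = 1 := by
  refine Matrix.map_injective (IsFractionRing.injective R (FractionRing R)) ?_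
  show (xPol D R r t * xPol D R r (-t)).map _ = (1 : Matrix D.Idx D.Idx R).map _
  rw [Matrix.map_mul, xPol_map, xPol_map, Matrix.map_one _ (map_zero _) (map_one _), map_neg, ← coe_xg C, ← coe_xg C,
    ← Units.val_mul, ← xg_inv, mul_inv_cancel, Units.val_one]

/-- The root element with a parameter in a domain. -/
noncomputable def xPolU (r : ℕ) (t : R) : GL D.Idx R :=
  ⟨xPol D R r t, xPol D R r (-t), xPol_mul_neg C r t, by
    have := xPol_mul_neg C r (-t)
    rwa [neg_neg] at this⟩

theorem map_xPolU {F : Type*} [Field F] (φ : R →+* F) (r : ℕ) (t : R) :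
    Matrix.GeneralLinearGroup.map φ (xPolU C r t) = xg C r (φ t) :=
  Units.ext (xPol_map φ r t)

end Unit

section Cover

variable {F : Type*} [Field F] (C : Cert D T)
include C

/-- The products of root elements along a list of roots. -/
def rootImg (F : Type*) [Field F] (L : List ℕ) : Set (GL D.Idx F) :=
  {g | ∃ l : List (ℕ × F), l.map Prod.fst = L ∧ g = (l.map fun p => xg C p.1 p.2).prod}

theorem one_mem_rootImg (L : List ℕ) : (1 : GL D.Idx F) ∈ rootImg C F L := by
  refine ⟨L.map fun r => (r, 0), by simp [Function.comp_def], ?_⟩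
  symm
  refine List.prod_eq_one fun x hx => ?_
  simp only [List.map_map, List.mem_map, Function.comp_apply] at hx
  obtain ⟨r, -, rfl⟩ := hx
  exact xg_zero C r

theorem mul_mem_rootImg {L L' : List ℕ} {g h : GL D.Idx F} (hg : g ∈ rootImg C F L) (hh : h ∈ rootImg C F L') :
    g * h ∈ rootImg C F (L ++ L') := by
  obtain ⟨l, rfl, rfl⟩ := hg
  obtain ⟨l', rfl, rfl⟩ := hh
  exact ⟨l ++ l', List.map_append, by rw [List.map_append, List.prod_append]⟩

theorem prod_mem_rootImg {α : Type*} (f : α → GL D.Idx F) (L : α → List ℕ) :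
    ∀ is : List α, (∀ i ∈ is, f i ∈ rootImg C F (L i)) → (is.map f).prod ∈ rootImg C F (is.flatMap L)
  | [], _ => one_mem_rootImg C []
  | i :: is, h => by
    rw [List.map_cons, List.prod_cons, List.flatMap_cons]
    exact mul_mem_rootImg C (h i (List.mem_cons_self ..)) (prod_mem_rootImg f L is fun j hj => h j (List.mem_cons_of_mem _ hj))

theorem pos_mem_rootImg (K : CommCert D T) {g : GL D.Idx F} (hg : g ∈ D.posUnipotent F) :
    g ∈ rootImg C F (List.range' (D.nroots / 2) (D.nroots / 2)) := by
  have hev := nroots_even C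
  rw [posUnipotent_eq C] at hg
  obtain ⟨t, rfl⟩ := upper_normal_form C K (D.nroots / 2) (k := D.nroots / 2) (by omega) (by omega) hg
  refine ⟨(List.range' (D.nroots / 2) (D.nroots / 2)).map fun r => (r, t r), ?_, ?_⟩
  · rw [List.map_map]; exact List.map_id' _
  · rw [oprod, List.map_map]; rfl


/-- The roots of a factor `n_i`. -/
def nBlock (D : ChevalleyDatum) (T : Tbl) (i : ℕ) : List ℕ := [T.simp' i, D.neg (T.simp' i), T.simp' i]

theorem ng_mem_rootImg (i : ℕ) (v : F) : ng C (T.simp' i) v ∈ rootImg C F (nBlock D T i) :=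
  ⟨[(T.simp' i, v), (D.neg (T.simp' i), -v⁻¹), (T.simp' i, v)], rfl, by simp [ng, mul_assoc]⟩

/-- The roots covering the torus. -/
def torusList (D : ChevalleyDatum) (T : Tbl) : List ℕ :=
  (List.range D.rank).flatMap fun i => nBlock D T i ++ nBlock D T i

theorem diag_mem_rootImg {g : GL D.Idx F} (hg : g ∈ D.diagonalSubgroup F) : g ∈ rootImg C F (torusList D T) := by
  rw [← torusHom_range C] at hg
  obtain ⟨c, rfl⟩ := hg
  rw [torusHom_eq_prod C c List.nodup_range (fun i => List.mem_range.1) (fun i hi => List.mem_range.2 hi)]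
  exact prod_mem_rootImg C _ _ _ fun i _ => mul_mem_rootImg C (ng_mem_rootImg C i _) (ng_mem_rootImg C i _)

/-- The roots covering the words of length at most `m`. -/
def wordList (D : ChevalleyDatum) (T : Tbl) : ℕ → List ℕ
  | 0 => []
  | m + 1 => (List.range D.rank).flatMap (nBlock D T) ++ wordList D T m

theorem wnu_mem_rootImg : ∀ (m : ℕ) {w : List ℕ}, IsWord D w → w.length ≤ m → wnu C F w ∈ rootImg C F (wordList D T m)
  | 0, [], _, _ => one_mem_rootImg C []
  | 0, _ :: _, _, h => absurd h (Nat.not_succ_le_zero _)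
  | m + 1, [], _, _ => one_mem_rootImg C _
  | m + 1, i :: w, hw, h => by
    rw [wnu_cons]
    refine mul_mem_rootImg C ?_ (wnu_mem_rootImg m hw.tail.2 (Nat.le_of_succ_le_succ h))
    have hone : ∀ j : ℕ, (if j = i then (nu C j : GL D.Idx F) else 1) ∈ rootImg C F (nBlock D T j) := fun j => by
      split_ifs
      · exact ng_mem_rootImg C j 1
      · exact one_mem_rootImg C _
    have := prod_mem_rootImg C (fun j => if j = i then (nu C j : GL D.Idx F) else 1) (nBlock D T) (List.range D.rank)
      fun j _ => hone j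
    rw [List.prod_map_eq_pow_single i (fun j => if j = i then (nu C j : GL D.Idx F) else 1) (fun a ha _ => if_neg ha),
      List.count_eq_one_of_mem List.nodup_range (List.mem_range.2 hw.tail.1), pow_one, if_pos rfl] at this
    exact this

variable (K : FullCert D T)
include K

theorem exists_word_bound : ∃ M : ℕ, ∀ w, IsWord D w → ∃ v, IsWord D v ∧ v.length ≤ M ∧
    ∀ k < D.rank, wperm T v (T.simp' k) = wperm T w (T.simp' k) := by
  classical
  let good : (Fin D.rank → Fin D.nroots) → Prop :=
    fun f => ∃ w, IsWord D w ∧ ∀ k : Fin D.rank, wperm T w (T.simp' k) = f k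
  let len : (Fin D.rank → Fin D.nroots) → ℕ := fun f => if h : good f then (Classical.choose h).length else 0
  refine ⟨Finset.univ.sup len, fun w hw => ?_⟩
  let f : Fin D.rank → Fin D.nroots := fun k => ⟨_, wperm_lt C hw (C.spec.simp_lt k k.2)⟩
  have hf : good f := ⟨w, hw, fun k => rfl⟩
  refine ⟨Classical.choose hf, (Classical.choose_spec hf).1, ?_, fun k hk => (Classical.choose_spec hf).2 ⟨k, hk⟩⟩
  have := Finset.le_sup (f := len) (Finset.mem_univ f)
  simpa [len, dif_pos hf] using this

/-- One list of roots covers the whole group, for every field. -/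
theorem exists_cover : ∃ L : List ℕ, ∀ {g : GL D.Idx F}, g ∈ D.group F → g ∈ rootImg C F L := by
  obtain ⟨M, hM⟩ := exists_word_bound C K
  refine ⟨List.range' (D.nroots / 2) (D.nroots / 2) ++ torusList D T ++ wordList D T M ++ torusList D T ++
    List.range' (D.nroots / 2) (D.nroots / 2), fun {g} hg => ?_⟩
  obtain ⟨w, hw, b, hb, c, hc, rfl⟩ := bruhat_normal C K hg
  obtain ⟨u, hu, h, hh, rfl⟩ := (mem_borel C).1 hb
  obtain ⟨v, hv, hvl, hvw⟩ := hM w hw
  have hd := same_of_perm C K (F := F) hv hw hvw
  have hcp : c ∈ D.posUnipotent F := by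
    rw [posUnipotent_eq C]; exact signPart_le_upper C K w true _ hc
  rw [show u * h * wnu C F w * c = u * h * wnu C F v * ((wnu C F v)⁻¹ * wnu C F w) * c by group]
  exact mul_mem_rootImg C (mul_mem_rootImg C (mul_mem_rootImg C (mul_mem_rootImg C (pos_mem_rootImg C K.comm hu)
    (diag_mem_rootImg C hh)) (wnu_mem_rootImg C M hv hvl)) (diag_mem_rootImg C hd)) (pos_mem_rootImg C K.comm hcp)

set_option maxHeartbeats 400000 in
/-- **Lang's theorem for Chevalley groups.** -/
theorem lang_chev [IsAlgClosed F] {p f : ℕ} [ExpChar F p] (hq : 2 ≤ p ^ f) (P : GL D.Idx F)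
    (hP : ∀ g ∈ D.group F, P * g * P⁻¹ ∈ D.group F) {y : GL D.Idx F} (hy : y ∈ D.group F) :
    ∃ g ∈ D.group F, g⁻¹ * P * Matrix.GeneralLinearGroup.map (iterateFrobenius F p f) g * P⁻¹ = y := by
  obtain ⟨L, hL⟩ := exists_cover C K (F := F)
  let a : GL D.Idx (MvPolynomial (Fin L.length) F) :=
    ((List.finRange L.length).map fun j => xPolU C (L.get j) (X j)).prod
  have ha : ∀ v : Fin L.length → F, Matrix.GeneralLinearGroup.map (eval v) a =
      ((List.finRange L.length).map fun j => xg C (L.get j) (v j)).prod := fun v => by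
    simp only [a, map_list_prod, List.map_map]
    refine congrArg List.prod (List.map_congr_left fun j _ => ?_)
    show Matrix.GeneralLinearGroup.map (eval v) (xPolU C (L.get j) (X j)) = _
    rw [map_xPolU, eval_X]
  refine lang_theorem hq (D.group F) a (fun g => ⟨fun hg => ?_, ?_⟩) (fun g hg => map_group_le C _ hg) P hP hy
  · obtain ⟨l, hl, rfl⟩ := hL hg
    subst hl
    refine ⟨fun j => (l[(j : ℕ)]'(by simpa using j.2)).2, ?_⟩
    rw [ha]
    refine congrArg List.prod (List.ext_getElem (by simp) fun i h1 h2 => ?_)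
    simp
  · rintro ⟨v, rfl⟩
    rw [ha]
    refine list_prod_mem fun x hx => ?_
    obtain ⟨j, -, rfl⟩ := List.mem_map.1 hx
    exact xg_mem_group C _ _

end Cover

end Cfsg.Lib.Chev
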