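import Cfsg.Agent.Lib.Chev.TorusData
import Cfsg.Agent.Lib.Chev.LangChev
import Cfsg.Agent.Lib.Chev.DescentAut

/-!
Self-centralising cyclic subgroups from regular elements of twisted tori.
-/

set_option autoImplicit false
set_option linter.unusedSectionVars false

namespace Cfsg.Lib.Chev

open Cfsg.Lie

variable {D : ChevalleyDatum} {T : Tbl} {F : Type*} [Field F] (C : Cert D T)
include C

theorem chr_ne_zero' (c : Fin D.rank → Fˣ) (r : ℕ) : chr T D (extend' c) r ≠ 0 :=
  chr_ne_zero _ (fun j _ => extend'_ne c j) r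

omit C in
theorem chr_pow' (c : Fin D.rank → Fˣ) (m r : ℕ) :
    chr T D (extend' (c ^ m)) r = chr T D (extend' c) r ^ m := by
  simp only [chr, ← Finset.prod_pow]
  refine Finset.prod_congr rfl fun j hj => ?_
  rw [Finset.mem_range] at hj
  simp only [extend', dif_pos hj, Pi.pow_apply, Units.val_pow_eq_pow_val]
  rw [← zpow_natCast, ← zpow_natCast, ← zpow_mul, ← zpow_mul, mul_comm]

theorem torusHom_conj_xg (c : Fin D.rank → Fˣ) {r : ℕ} (hr : r < D.nroots) (t : F) :
    torusHom D T F c * xg C r t * (torusHom D T F c)⁻¹ = xg C r (chr T D (extend' c) r * t) := by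
  rw [mul_inv_eq_iff_eq_mul]
  refine Units.ext ?_
  rw [Units.val_mul, Units.val_mul, coe_xg, coe_xg, coe_torusHom]
  exact scal_mul_x C.spec _ (fun j _ => extend'_ne c j) hr t

omit C in
theorem torusHom_congr {c c' : Fin D.rank → Fˣ}
    (h : ∀ r < D.nroots, chr T D (extend' c) r = chr T D (extend' c') r) : torusHom D T F c = torusHom D T F c' := by
  refine Units.ext ?_
  rw [coe_torusHom, coe_torusHom, scal, scal]
  congr 1
  funext j
  rcases j with a | s
  · rfl
  · exact h s s.2

/-- Conjugation by a word permutes the characters. -/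
theorem torus_word_conj {w : List ℕ} (hw : IsWord D w) (c : Fin D.rank → Fˣ) :
    ∃ e, wnu C F w * torusHom D T F c * (wnu C F w)⁻¹ = torusHom D T F e ∧
      ∀ r < D.nroots, chr T D (extend' e) (wperm T w r) = chr T D (extend' c) r := by
  have hm : wnu C F w * torusHom D T F c * (wnu C F w)⁻¹ ∈ (torusHom D T F).range := by
    rw [torusHom_range C]
    exact (conj_mem_diag C (wnu_mem C hw) (by rw [← torusHom_range C]; exact ⟨c, rfl⟩)).1
  obtain ⟨e, he⟩ := hm
  refine ⟨e, he.symm, fun r hr => ?_⟩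
  obtain ⟨k, hk, hkt⟩ := wnu_conj_xg C (F := F) hw hr
  have hk0 : k ≠ 0 := left_ne_zero_of_mul (by rw [hk]; exact one_ne_zero)
  have e1 : torusHom D T F e * xg C (wperm T w r) (k * 1) * (torusHom D T F e)⁻¹ =
      wnu C F w * (torusHom D T F c * xg C r 1 * (torusHom D T F c)⁻¹) * (wnu C F w)⁻¹ := by
    rw [← hkt 1, he]; group
  rw [torusHom_conj_xg C e (wperm_lt C hw hr), torusHom_conj_xg C c hr, hkt, mul_one] at e1
  have h2 := xg_injective C (wperm_lt C hw hr) e1
  refine mul_left_cancel₀ hk0 ?_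
  linear_combination h2

variable {K : FullCert D T}

theorem signPart_diag_conj (K : FullCert D T) {w : List ℕ} {neg : Bool} {k : ℕ} {d g : GL D.Idx F}
    (hd : d ∈ D.diagonalSubgroup F) (hg : g ∈ signPart C K F w neg k) : d * g * d⁻¹ ∈ signPart C K F w neg k := by
  obtain ⟨χ, hχ⟩ := diag_conj_xg C hd
  refine conj_mem_closure ?_ hg
  rintro x ⟨r, t, h1, h2, h3, rfl⟩
  rw [(hχ r h2).2]
  exact xg_mem_signPart C K h1 h2 h3 _

/-- A regular torus element fixes no nontrivial element of `U`. -/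
theorem pos_fixed_regular (K : FullCert D T) {c : Fin D.rank → Fˣ}
    (hreg : ∀ r < D.nroots, chr T D (extend' c) r ≠ 1) {u : GL D.Idx F} (hu : u ∈ D.posUnipotent F)
    (h : torusHom D T F c * u * (torusHom D T F c)⁻¹ = u) : u = 1 := by
  have hev := nroots_even C
  rw [posUnipotent_eq C] at hu
  obtain ⟨t, rfl⟩ := upper_normal_form C K.comm (D.nroots / 2) (k := D.nroots / 2) (by omega) (by omega) hu
  have e : torusHom D T F c * oprod C (D.nroots / 2) (D.nroots / 2) t * (torusHom D T F c)⁻¹ =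
      oprod C (D.nroots / 2) (D.nroots / 2) fun r => chr T D (extend' c) r * t r := by
    rw [← MulAut.conj_apply]
    simp only [oprod, map_list_prod, List.map_map]
    refine congrArg List.prod (List.map_congr_left fun r hr => ?_)
    exact torusHom_conj_xg C c (by have := List.mem_range'_1.1 hr; omega) _
  rw [e] at h
  have h2 := oprod_inj C (D.nroots / 2) (k := D.nroots / 2) (by omega) (by omega) h
  refine List.prod_eq_one fun x hx => ?_
  obtain ⟨r, hr, rfl⟩ := List.mem_map.1 hx
  have hr' := List.mem_range'_1.1 hr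
  have := h2 r hr'.1 (by omega)
  have hrn : r < D.nroots := by omega
  have h0 : t r = 0 := by
    rcases mul_eq_zero.1 (show (chr T D (extend' c) r - 1) * t r = 0 by linear_combination this) with h | h
    · exact absurd (sub_eq_zero.1 h) (hreg r hrn)
    · exact h
  rw [h0, xg_zero]

/-- The centraliser of a regular torus element whose character separates the fundamental systems. -/
theorem centralizer_regular (K : FullCert D T) {c : Fin D.rank → Fˣ}
    (hreg : ∀ r < D.nroots, chr T D (extend' c) r ≠ 1)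
    (hsep : ∀ v, IsWord D v → (∀ k < D.rank,
      chr T D (extend' c) (wperm T v (T.simp' k)) = chr T D (extend' c) (T.simp' k)) →
      ∀ k < D.rank, wperm T v (T.simp' k) = T.simp' k)
    {u : GL D.Idx F} (hu : u ∈ D.group F) (hc : torusHom D T F c * u = u * torusHom D T F c) :
    u ∈ D.diagonalSubgroup F := by
  obtain ⟨v, hv, b, hb, s, hs, rfl⟩ := bruhat_normal C K hu
  obtain ⟨h, hh, hc⟩ : ∃ h, h = torusHom D T F c ∧
      h * (b * wnu C F v * s) = b * wnu C F v * s * h := ⟨_, rfl, hc⟩
  have hd : h ∈ D.diagonalSubgroup F := by rw [hh, ← torusHom_range C]; exact ⟨c, rfl⟩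
  have hdB : ∀ {x : GL D.Idx F}, x ∈ D.diagonalSubgroup F → x ∈ D.borelSubgroup F := Subgroup.mem_sup_right
  have hd' : h * wnu C F v * h⁻¹ * (wnu C F v)⁻¹ ∈ D.diagonalSubgroup F := by
    rw [show h * wnu C F v * h⁻¹ * (wnu C F v)⁻¹ = h * (wnu C F v * h⁻¹ * (wnu C F v)⁻¹) by group]
    exact mul_mem hd (conj_mem_diag C (wnu_mem C hv) (inv_mem hd)).1
  obtain ⟨hbb, hss⟩ := cell_unique C (b := h * b * h⁻¹ * (h * wnu C F v * h⁻¹ * (wnu C F v)⁻¹))
    (b' := b) (n := wnu C F v) (u := h * s * h⁻¹) (u' := s)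
    (mul_mem (mul_mem (mul_mem (hdB hd) hb) (inv_mem (hdB hd))) (hdB hd')) hb
    ((signPart_conj C K hv).1 (mul_mem hs (inv_mem (signPart_diag_conj C K hd hs))))
    (by
      calc _ = h * (b * wnu C F v * s) * h⁻¹ := by group
        _ = _ := by rw [hc]; group)
  have hs1 : s = 1 := by
    refine pos_fixed_regular C K hreg ?_ (by rw [← hh]; exact hss)
    rw [posUnipotent_eq C]; exact signPart_le_upper C K v true _ hs
  subst hs1
  obtain ⟨u₀, hu₀, h₀, hh₀, rfl⟩ := (mem_borel C).1 hb
  have e2 : (h * u₀ * h⁻¹) * (h₀ * (h * wnu C F v * h⁻¹ * (wnu C F v)⁻¹)) = u₀ * h₀ := by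
    calc _ = h * (u₀ * h₀) * h⁻¹ * (h * wnu C F v * h⁻¹ * (wnu C F v)⁻¹) := by
          rw [show h * (u₀ * h₀) * h⁻¹ = h * u₀ * h⁻¹ * (h * h₀ * h⁻¹) by group, diag_comm C hd hh₀]; group
      _ = _ := hbb
  obtain ⟨e3, e4⟩ := borel_parts C ((Subgroup.mem_normalizer_iff.1 (diag_le_normalizer C hd) _).1 hu₀) hu₀
    (mul_mem hh₀ hd') hh₀ e2
  obtain rfl : u₀ = 1 := pos_fixed_regular C K hreg hu₀ (by rw [← hh]; exact e3)
  have e5 : h * wnu C F v * h⁻¹ * (wnu C F v)⁻¹ = 1 := mul_eq_left.1 e4
  have e6 : wnu C F v * h * (wnu C F v)⁻¹ = h := by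
    have e7 : h * wnu C F v = wnu C F v * h := by
      calc h * wnu C F v = h * wnu C F v * h⁻¹ * (wnu C F v)⁻¹ * (wnu C F v * h) := by group
        _ = _ := by rw [e5, one_mul]
    rw [← e7]; group
  obtain ⟨e, he, hchr⟩ := torus_word_conj C hv c
  have hfix : ∀ k < D.rank, wperm T v (T.simp' k) = T.simp' k := by
    refine hsep v hv fun k hk => ?_
    have hk' := C.spec.simp_lt k hk
    refine Eq.trans ?_ (hchr _ hk')
    have h1 : torusHom D T F e = torusHom D T F c := by rw [← he, ← hh, e6]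
    have hv' := wperm_lt C hv hk'
    have h2 := (torusHom_conj_xg C e hv' 1).symm.trans (h1 ▸ torusHom_conj_xg C c hv' 1)
    rw [mul_one, mul_one] at h2
    exact (xg_injective C hv' h2).symm
  have hn : (wnu C F ([] : List ℕ))⁻¹ * wnu C F v ∈ D.diagonalSubgroup F :=
    same_of_perm C K (fun i hi => absurd hi List.not_mem_nil) hv fun k hk => (hfix k hk).symm
  rw [show wnu C F ([] : List ℕ) = 1 from List.prod_nil, inv_one, one_mul] at hn
  rw [one_mul, mul_one]
  exact mul_mem hh₀ hn

variable (S : TorData)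

omit C in
theorem zpow_sum' {z : F} (hz : z ≠ 0) (f : ℕ → ℤ) (n : ℕ) :
    (∏ k ∈ Finset.range n, z ^ f k) = z ^ (∑ k ∈ Finset.range n, f k) := by
  induction n with
  | zero => simp
  | succ n ih => rw [Finset.prod_range_succ, Finset.sum_range_succ, ih, zpow_add₀ hz]

/-- The exponent of the parameter of index `j`. -/
noncomputable def TorData.gam (S : TorData) (T : Tbl) (q : ℤ) (j : ℕ) : ℤ :=
  sumBelow (fun k => nth 0 (nth [] S.mg j) k * q ^ k) T.rank

theorem sum_gam (q : ℤ) (r : ℕ) :
    ∑ j ∈ Finset.range D.rank, S.gam T q j * T.cartan j r = S.expo T q r := by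
  simp only [TorData.gam, TorData.expo, TorData.coef, sumBelow_eq, C.spec.shape.rank_eq, Finset.sum_mul]
  rw [Finset.sum_comm]
  exact Finset.sum_congr rfl fun k _ => Finset.sum_congr rfl fun j _ => by ring

variable {S}

theorem expo_step (hS : TorOK D T S) (q : ℤ) {r : ℕ} (hr : r < D.nroots) :
    S.expo T q (wperm T S.w r) = q * S.expo T q r - S.coef T r (D.rank - 1) * S.ord T q := by
  simp only [TorData.expo, TorData.ord, sumBelow_eq, C.spec.shape.rank_eq]
  rw [Finset.sum_congr rfl fun k hk => by rw [hS.step r hr k (Finset.mem_range.1 hk)]]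
  obtain ⟨m, hm⟩ := Nat.exists_eq_succ_of_ne_zero hS.rank_pos.ne'
  simp only [hm, Nat.succ_eq_add_one, sub_mul, Finset.sum_sub_distrib]
  rw [Finset.sum_range_succ' (fun k => (if k = 0 then 0 else S.coef T r (k - 1)) * q ^ k),
    Finset.sum_range_succ (fun k => S.coef T r k * q ^ k)]
  simp only [Nat.add_eq_zero_iff, one_ne_zero, and_false, if_false, Nat.add_sub_cancel, if_true, zero_mul, add_zero]
  simp only [mul_add, Finset.mul_sum, mul_assoc]
  rw [Finset.sum_congr rfl (fun k _ => show S.coef T r k * q ^ (k + 1) = q * (S.coef T r k * q ^ k) by ring)]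
  ring

theorem orb_lt (hS : TorOK D T S) : ∀ k, S.orb T k < D.nroots
  | 0 => hS.r0_lt
  | k + 1 => wperm_lt C hS.isWord (orb_lt hS k)

theorem expo_r0 (hS : TorOK D T S) (q : ℤ) : S.expo T q S.r0 = 1 := by
  simp only [TorData.expo, sumBelow_eq, C.spec.shape.rank_eq]
  rw [Finset.sum_eq_single 0 (fun k hk hk0 => by rw [hS.coef_r0 k (Finset.mem_range.1 hk), if_neg hk0, zero_mul])
    (fun h => absurd (Finset.mem_range.2 hS.rank_pos) h), hS.coef_r0 0 hS.rank_pos, if_pos rfl, pow_zero, one_mul]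

theorem expo_orb (hS : TorOK D T S) (q : ℤ) : ∀ k, S.ord T q ∣ S.expo T q (S.orb T k) - q ^ k
  | 0 => by rw [show S.orb T 0 = S.r0 from rfl, expo_r0 C hS, pow_zero, sub_self]; exact dvd_zero _
  | k + 1 => by
    obtain ⟨d, hd⟩ := expo_orb hS q k
    refine ⟨q * d - S.coef T (S.orb T k) (D.rank - 1), ?_⟩
    rw [show S.orb T (k + 1) = wperm T S.w (S.orb T k) from rfl, expo_step C hS q (orb_lt C hS k), pow_succ]
    linear_combination q * hd

variable (K : FullCert D T)
include K

set_option maxHeartbeats 800000 in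
/-- A cyclic self-centralising subgroup of the order given by the data. -/
theorem exists_cyclic_self_centralizing {F : Type*} [Field F] [Fintype F] {q : ℕ} (hF : Fintype.card F = q)
    {Mi : Matrix (Fin D.rank) (Fin D.rank) ℤ} (hMi : Mi * cartanMat D T = Matrix.diagonal fun _ => ((1 : ℕ) : ℤ))
    (hS : TorOK D T S) (ht0 : nth 0 S.tg 0 = 1) (hsep : TorSep D T S q) :
    ∃ H : Subgroup ↥(D.group F), IsCyclic ↥H ∧ (Nat.card ↥H : ℤ) = S.ord T q ∧
      Subgroup.centralizer (H : Set ↥(D.group F)) = H := by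
  classical
  subst hF
  obtain ⟨p, hp⟩ := CharP.exists F
  obtain ⟨f, hprime, hq⟩ := FiniteField.card F p
  haveI := Fact.mk hprime
  let L := AlgebraicClosure F
  haveI : CharP L p := charP_of_injective_algebraMap (algebraMap F L).injective p
  set σ := iterateFrobenius L p (f : ℕ) with hσdef
  have hσ : ∀ x : L, σ x = x ^ Fintype.card F := fun x => by rw [hσdef, iterateFrobenius_def, hq]
  set q := Fintype.card F with hqdef
  have hqpos : 2 ≤ q := Fintype.one_lt_card
  have hfix : ∀ t : L, σ t = t ↔ t ∈ (algebraMap F L).range := by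
    intro t
    refine ⟨fun ht => ?_, ?_⟩
    · rw [hσ] at ht
      let P : Polynomial L := Polynomial.X ^ q - Polynomial.X
      have hP : P ≠ 0 := FiniteField.X_pow_card_sub_X_ne_zero L hqpos
      have hsub : Finset.univ.image (algebraMap F L) ⊆ P.roots.toFinset := fun x hx => by
        obtain ⟨y, -, rfl⟩ := Finset.mem_image.1 hx
        rw [Multiset.mem_toFinset, Polynomial.mem_roots hP]
        simp [P, ← map_pow, hqdef, FiniteField.pow_card]
      have heq := Finset.eq_of_subset_of_card_le hsub (by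
        rw [Finset.card_image_of_injective _ (algebraMap F L).injective, Finset.card_univ]
        exact (Multiset.toFinset_card_le _).trans ((Polynomial.card_roots' P).trans
          (FiniteField.X_pow_card_sub_X_natDegree_eq L hqpos).le))
      have htm : t ∈ P.roots.toFinset := by
        rw [Multiset.mem_toFinset, Polynomial.mem_roots hP]; simp [P, ht]
      rw [← heq] at htm
      obtain ⟨y, -, e⟩ := Finset.mem_image.1 htm
      exact ⟨y, e⟩
    · rintro ⟨y, rfl⟩
      rw [hσ, ← map_pow, hqdef, FiniteField.pow_card]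
  -- the order
  obtain ⟨N, hN⟩ : ∃ N : ℕ, (N : ℤ) = S.ord T q := ⟨(S.ord T q).toNat, Int.toNat_of_nonneg hsep.ord_pos.le⟩
  have hNL : (N : L) ≠ 0 := by
    intro h0
    rw [CharP.cast_eq_zero_iff L p] at h0
    have hd : (p : ℤ) ∣ S.ord T q := hN ▸ Int.natCast_dvd_natCast.2 h0
    have hpq : (p : ℤ) ∣ (q : ℤ) := by rw [hq]; exact_mod_cast dvd_pow_self p f.ne_zero
    obtain ⟨m, hm⟩ := Nat.exists_eq_succ_of_ne_zero hS.rank_pos.ne'
    simp only [TorData.ord, sumBelow_eq, C.spec.shape.rank_eq, hm, Nat.succ_eq_add_one,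
      Finset.sum_range_succ', pow_zero, mul_one, ht0, ← add_assoc] at hd
    have h1 : (p : ℤ) ∣ (1 : ℤ) := (dvd_add_right (dvd_add (hpq.trans (dvd_pow_self _ (Nat.succ_ne_zero m)))
      (Finset.dvd_sum fun k _ => Dvd.dvd.mul_left (hpq.trans (dvd_pow_self _ (Nat.succ_ne_zero k))) _))).1 hd
    exact hprime.one_lt.ne' (by exact_mod_cast Int.eq_one_of_dvd_one (by omega) h1)
  haveI : NeZero (N : L) := ⟨hNL⟩
  obtain ⟨ζ, hζ⟩ := HasEnoughRootsOfUnity.exists_primitiveRoot L N
  have hN0 : N ≠ 0 := fun e => hNL (by rw [e]; exact Nat.cast_zero)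
  haveI : NeZero N := ⟨hN0⟩
  have hζ0 : ζ ≠ 0 := hζ.ne_zero hN0
  have hζeq : ∀ a b : ℤ, ζ ^ a = ζ ^ b ↔ S.ord T q ∣ a - b := fun a b => by
    rw [← hN, ← hζ.zpow_eq_one_iff_dvd, zpow_sub₀ hζ0, div_eq_one_iff_eq (zpow_ne_zero _ hζ0)]
  -- the torus element
  let c : Fin D.rank → Lˣ := fun j => Units.mk0 ζ hζ0 ^ S.gam T q j
  have hc : ∀ r, chr T D (extend' c) r = ζ ^ S.expo T q r := by
    intro r
    rw [← sum_gam C S, ← zpow_sum' hζ0, chr]
    refine Finset.prod_congr rfl fun j hj => ?_
    simp only [extend', dif_pos (Finset.mem_range.1 hj), c, Units.val_zpow_eq_zpow_val, Units.val_mk0, ← zpow_mul]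
  have hreg : ∀ r < D.nroots, chr T D (extend' c) r ≠ 1 := fun r hr e => by
    rw [hc, ← zpow_zero ζ, hζeq, sub_zero] at e
    exact hsep.ne_zero r hr e
  have hsep' : ∀ v, IsWord D v → (∀ k < D.rank,
      chr T D (extend' c) (wperm T v (T.simp' k)) = chr T D (extend' c) (T.simp' k)) →
      ∀ k < D.rank, wperm T v (T.simp' k) = T.simp' k := fun v hv h =>
    hsep.sep v hv fun k hk => by
      have := h k hk
      rwa [hc, hc, hζeq] at this
  have hrev : ∀ r < D.nroots, wperm T S.w (wperm T S.w.reverse r) = r := fun r hr => by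
    have := wperm_reverse C hS.isWord.reverse hr
    rwa [List.reverse_reverse] at this
  let σc : (Fin D.rank → Lˣ) → (Fin D.rank → Lˣ) := fun d i => Units.map σ.toMonoidHom (d i)
  have hσchr : ∀ d r, chr T D (extend' (σc d)) r = chr T D (extend' d) r ^ q := by
    intro d r
    rw [← hσ]
    simp only [chr, map_prod, map_zpow₀]
    refine Finset.prod_congr rfl fun j hj => ?_
    simp [extend', σc, Finset.mem_range.1 hj]
  set n := wnu C L S.w with hn
  set h := torusHom D T L c with hh
  have hnh : n * Matrix.GeneralLinearGroup.map σ h * n⁻¹ = h := by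
    obtain ⟨e, he, hchr⟩ := torus_word_conj C hS.isWord (σc c)
    rw [map_torusHom C, he]
    refine torusHom_congr fun r hr => ?_
    have hr' := wperm_lt C hS.isWord.reverse hr
    rw [← hrev r hr, hchr _ hr', hσchr, hc, hc, ← zpow_natCast, ← zpow_mul, hζeq, expo_step C hS q hr']
    exact ⟨S.coef T (wperm T S.w.reverse r) (D.rank - 1), by ring⟩
  obtain ⟨g, hg, hgn⟩ := lang_chev C K (p := p) (f := (f : ℕ)) (by rw [← hq]; exact hqpos) (1 : GL D.Idx L)
    (fun x hx => by simpa using hx) (monomial_le_group C (wnu_mem C hS.isWord) : n ∈ D.group L)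
  have hσg : Matrix.GeneralLinearGroup.map σ g = g * n := by
    rw [← hgn, hσdef]; group
  have hhd : h ∈ D.diagonalSubgroup L := by rw [← torusHom_range C]; exact ⟨c, rfl⟩
  have hhG : h ∈ D.group L := monomial_le_group C (diag_le_monomial C hhd)
  -- descent
  have hinjT : Function.Injective (torusHom D T L) :=
    torusHom_injective_scalar C hMi fun x hx => by simpa using hx
  let φ : ↥(D.group F) →* GL D.Idx L :=
    (Matrix.GeneralLinearGroup.map (algebraMap F L)).comp (D.group F).subtype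
  have hφinj : Function.Injective φ := (map_gl_injective _).comp Subtype.val_injective
  have hrange : ∀ x, x ∈ φ.range ↔ x ∈ D.group L ∧ Matrix.GeneralLinearGroup.map σ x = x := by
    intro x
    rw [← fixed_eq C σ K hinjT, fixedRoots_eq_map C σ (algebraMap F L) hfix, Subgroup.mem_map]
    exact ⟨fun ⟨y, hy⟩ => ⟨y, y.2, hy⟩, fun ⟨y, hy, e⟩ => ⟨⟨y, hy⟩, e⟩⟩
  obtain ⟨t, ht⟩ := (hrange (g * h * g⁻¹)).2 ⟨mul_mem (mul_mem hg hhG) (inv_mem hg), by
    rw [map_mul, map_mul, map_inv, hσg]
    calc g * n * Matrix.GeneralLinearGroup.map σ h * (g * n)⁻¹ =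
        g * (n * Matrix.GeneralLinearGroup.map σ h * n⁻¹) * g⁻¹ := by group
      _ = _ := by rw [hnh]⟩
  have hord : orderOf t = N := by
    rw [← orderOf_injective φ hφinj, ht, ← MulAut.conj_apply, MulEquiv.orderOf_eq]
    refine Nat.dvd_antisymm (orderOf_dvd_of_pow_eq_one ?_) ?_
    · rw [hh, ← map_pow, ← map_one (torusHom D T L)]
      refine torusHom_congr fun r _ => ?_
      rw [chr_pow', hc, ← zpow_natCast, ← zpow_mul, show chr T D (extend' (1 : Fin D.rank → Lˣ)) r = 1 by
        simp [chr, extend'], ← zpow_zero ζ, hζeq, sub_zero, ← hN]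
      exact dvd_mul_left _ _
    · have e := pow_orderOf_eq_one h
      generalize orderOf h = m at e ⊢
      rw [hh, ← map_pow, ← map_one (torusHom D T L)] at e
      have e' : chr T D (extend' (c ^ m)) S.r0 = 1 := by rw [hinjT e]; simp [chr, extend']
      rw [chr_pow', hc, expo_r0 C hS, zpow_one] at e'
      exact hζ.dvd_of_pow_eq_one m e'
  refine ⟨Subgroup.zpowers t, inferInstance, by rw [Nat.card_zpowers, hord, hN], ?_⟩
  refine le_antisymm (fun u hu => ?_) (fun x hx => ?_)
  · have hu' : t * u = u * t := Subgroup.mem_centralizer_iff.1 hu t (Subgroup.mem_zpowers t)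
    obtain ⟨hUG, hUfix⟩ := (hrange (φ u)).1 ⟨u, rfl⟩
    have hcomm : h * (g⁻¹ * φ u * g) = (g⁻¹ * φ u * g) * h := by
      calc h * (g⁻¹ * φ u * g) = g⁻¹ * (g * h * g⁻¹ * φ u) * g := by group
        _ = g⁻¹ * (φ u * (g * h * g⁻¹)) * g := by rw [← ht, ← map_mul, hu', map_mul]
        _ = _ := by group
    have hd := centralizer_regular C K hreg hsep' (mul_mem (mul_mem (inv_mem hg) hUG) hg) hcomm
    rw [← torusHom_range C] at hd
    obtain ⟨d, hd⟩ := hd
    have hnd : n * Matrix.GeneralLinearGroup.map σ (torusHom D T L d) * n⁻¹ = torusHom D T L d := by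
      rw [hd, map_mul, map_mul, map_inv, hUfix, hσg]; group
    obtain ⟨e, he, hchr⟩ := torus_word_conj C hS.isWord (σc d)
    rw [map_torusHom C, he] at hnd
    have hstep : ∀ r < D.nroots, chr T D (extend' d) (wperm T S.w r) = chr T D (extend' d) r ^ q := fun r hr => by
      rw [← hσchr, ← hchr r hr, hinjT hnd]
    set z := chr T D (extend' d) S.r0 with hz
    have hz0 : z ≠ 0 := chr_ne_zero' C d _
    have horb : ∀ k : ℕ, chr T D (extend' d) (S.orb T k) = z ^ ((q : ℤ) ^ k) := by
      intro k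
      induction k with
      | zero => rw [pow_zero, zpow_one]; rfl
      | succ k ih =>
        rw [show S.orb T (k + 1) = wperm T S.w (S.orb T k) from rfl, hstep _ (orb_lt C hS k), ih, ← zpow_natCast,
          ← zpow_mul, pow_succ]
    have hchrd : ∀ r < D.nroots, chr T D (extend' d) r = z ^ S.expo T q r := by
      intro r hr
      simp only [TorData.expo, sumBelow_eq, C.spec.shape.rank_eq]
      rw [← zpow_sum' hz0]
      calc chr T D (extend' d) r
          = ∏ j ∈ Finset.range D.rank, ∏ k ∈ Finset.range D.rank,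
              (extend' d j ^ T.cartan j (S.orb T k)) ^ S.coef T r k := by
            refine Finset.prod_congr rfl fun j hj => ?_
            rw [hS.cart r hr j (Finset.mem_range.1 hj), ← zpow_sum' (extend'_ne d j)]
            exact Finset.prod_congr rfl fun k _ => by rw [← zpow_mul, mul_comm]
        _ = _ := by
            rw [Finset.prod_comm]
            refine Finset.prod_congr rfl fun k _ => ?_
            rw [Finset.prod_zpow, ← chr, horb, ← zpow_mul, mul_comm]
    obtain ⟨m, hm⟩ := Nat.exists_eq_succ_of_ne_zero hS.rank_pos.ne'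
    have e3 : z ^ S.expo T q (wperm T S.w (S.orb T m)) = z ^ ((q : ℤ) * S.expo T q (S.orb T m)) := by
      rw [← hchrd _ (wperm_lt C hS.isWord (orb_lt C hS m)), hstep _ (orb_lt C hS m), hchrd _ (orb_lt C hS m),
        ← zpow_natCast, ← zpow_mul, mul_comm]
    have hcm : S.coef T (S.orb T m) m = 1 := by
      have : ∀ k, k ≤ m → ∀ l < D.rank, S.coef T (S.orb T k) l = if l = k then 1 else 0 := by
        intro k
        induction k with
        | zero => intro _ l hl; exact hS.coef_r0 l hl
        | succ k ih =>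
          intro hk l hl
          rw [show S.orb T (k + 1) = wperm T S.w (S.orb T k) from rfl, hS.step _ (orb_lt C hS k) l hl,
            ih (by omega) (D.rank - 1) (by omega), if_neg (show D.rank - 1 ≠ k by omega), zero_mul, sub_zero]
          rcases l with _ | l
          · simp
          · simp only [Nat.succ_ne_zero, if_false, Nat.add_sub_cancel, Nat.add_right_cancel_iff]
            exact ih (by omega) l (by omega)
      rw [this m le_rfl m (by omega), if_pos rfl]
    rw [expo_step C hS q (orb_lt C hS m), show D.rank - 1 = m by omega, hcm, one_mul, zpow_sub₀ hz0,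
      div_eq_iff (zpow_ne_zero _ hz0), left_eq_mul₀ (zpow_ne_zero _ hz0), ← hN, zpow_natCast] at e3
    obtain ⟨i, -, hi⟩ := hζ.eq_pow_of_pow_eq_one e3
    have hdi : torusHom D T L d = h ^ i := by
      rw [hh, ← map_pow]
      refine torusHom_congr fun r hr => ?_
      rw [hchrd r hr, chr_pow', hc, ← hi, ← zpow_natCast, ← zpow_natCast, ← zpow_mul, ← zpow_mul, mul_comm]
    refine Subgroup.mem_zpowers_iff.2 ⟨(i : ℤ), hφinj ?_⟩
    rw [zpow_natCast, map_pow, ht, conj_pow, ← hdi, hd]
    group
  · refine Subgroup.mem_centralizer_iff.2 fun y hy => ?_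
    obtain ⟨a, rfl⟩ := Subgroup.mem_zpowers_iff.1 hx
    obtain ⟨b, rfl⟩ := Subgroup.mem_zpowers_iff.1 hy
    exact (Commute.refl t).zpow_zpow b a

end Cfsg.Lib.Chev
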