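import Cfsg.Agent.Lib.Chev.InvE8Data

/-!
The two classes of involutions of `E₈(q)`, `q` odd, with the orders of their centralisers.
-/

set_option autoImplicit false
set_option linter.unusedSectionVars false
set_option maxRecDepth 100000

namespace Cfsg.Lib.Chev

open Cfsg.Lie
open scoped Matrix

theorem card_centralizer_of_subgroup {α : Type*} [Group α] (G : Subgroup α) (z : ↥G) :
    Nat.card (Subgroup.centralizer ({z} : Set ↥G)) = Nat.card ↥(G ⊓ Subgroup.centralizer {(z : α)}) := by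
  have e : (Subgroup.centralizer ({z} : Set ↥G)).map G.subtype = G ⊓ Subgroup.centralizer {(z : α)} := by
    ext g
    simp only [Subgroup.mem_map, Subgroup.mem_centralizer_iff, Set.mem_singleton_iff, forall_eq, Subgroup.mem_inf]
    constructor
    · rintro ⟨x, hx, rfl⟩
      exact ⟨x.2, congrArg Subtype.val hx⟩
    · rintro ⟨hg, hx⟩
      exact ⟨⟨g, hg⟩, Subtype.ext hx, rfl⟩
  rw [← e]
  exact Nat.card_congr (Subgroup.equivMapOfInjective _ _ Subtype.val_injective).toEquiv

theorem card_centralizer_isConj {α : Type*} [Group α] {s t : α} (h : IsConj s t) :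
    Nat.card (Subgroup.centralizer ({s} : Set α)) = Nat.card (Subgroup.centralizer ({t} : Set α)) := by
  obtain ⟨c, rfl⟩ := isConj_iff.1 h
  refine Nat.card_congr ((MulAut.conj c).toEquiv.subtypeEquiv fun g => ?_)
  simp only [Subgroup.mem_centralizer_iff, Set.mem_singleton_iff, forall_eq, MulEquiv.toEquiv_eq_coe,
    EquivLike.coe_coe, MulAut.conj_apply]
  rw [show c * s * c⁻¹ * (c * g * c⁻¹) = c * (s * g) * c⁻¹ by group,
    show c * g * c⁻¹ * (c * s * c⁻¹) = c * (g * s) * c⁻¹ by group]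
  exact ⟨fun h => by rw [h], fun h => by simpa using h⟩

variable {F : Type*} [Field F] [Fintype F]

private theorem cE8 : Cert chevE8 tblE8 := fullCertE8.comm.cert

theorem e8_torus_injective {F : Type*} [Field F] : Function.Injective (torusHom chevE8 tblE8 F) :=
  torusHom_injective_scalar cE8 inv_E8 fun x hx => by simpa using hx

/-- A torus involution. -/
noncomputable def e8Inv (F : Type*) [Field F] (e : ℕ) : GL chevE8.Idx F :=
  torusHom chevE8 tblE8 F (sgnVec chevE8 F e)

theorem e8Inv_mem (e : ℕ) : e8Inv F e ∈ chevE8.group F :=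
  diag_le_group cE8 (by rw [← torusHom_range cE8]; exact ⟨_, rfl⟩)

theorem e8_card_diag : Nat.card ↥(chevE8.diagonalSubgroup F) = (Fintype.card F - 1) ^ 8 := by
  classical
  rw [← torusHom_range cE8, ← Nat.card_congr (MonoidHom.ofInjective e8_torus_injective).toEquiv, Nat.card_pi]
  simp [Nat.card_eq_fintype_card, Fintype.card_units, show chevE8.rank = 8 from rfl]

theorem e8_card_one (hF : Odd (Fintype.card F)) :
    Nat.card ↥(chevE8.group F ⊓ Subgroup.centralizer {e8Inv F 1}) =
      Fintype.card F ^ 64 * (Fintype.card F ^ 2 - 1) ^ 2 * (Fintype.card F ^ 6 - 1) * (Fintype.card F ^ 8 - 1) *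
        (Fintype.card F ^ 10 - 1) * (Fintype.card F ^ 12 - 1) * (Fintype.card F ^ 14 - 1) *
        (Fintype.card F ^ 18 - 1) := by
  have h2 := two_ne_zero_of_odd_card hF
  rw [e8Inv, card_cent_sub cE8 fullCertE8 subOKE8_1 subLevelsOKE8_1 h2,
    show (fixPos chevE8 tblE8 1).length = 64 by decide +kernel, e8_card_diag, Nat.card_eq_fintype_card,
    show invBaseE8_1.length = 8 from rfl, mul_assoc, invPolyE8_1 _ Fintype.card_pos]
  ring

theorem e8_card_three (hF : Odd (Fintype.card F)) :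
    Nat.card ↥(chevE8.group F ⊓ Subgroup.centralizer {e8Inv F 3}) =
      Fintype.card F ^ 56 * (Fintype.card F ^ 8 - 1) * ∏ i ∈ Finset.Icc 1 7, (Fintype.card F ^ (2 * i) - 1) := by
  have h2 := two_ne_zero_of_odd_card hF
  rw [e8Inv, card_cent_sub cE8 fullCertE8 subOKE8_3 subLevelsOKE8_3 h2,
    show (fixPos chevE8 tblE8 3).length = 56 by decide +kernel, e8_card_diag, Nat.card_eq_fintype_card,
    show invBaseE8_3.length = 8 from rfl, mul_assoc, invPolyE8_3 _ Fintype.card_pos,
    show Finset.Icc 1 7 = ({1, 2, 3, 4, 5, 6, 7} : Finset ℕ) from rfl]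
  simp only [Finset.prod_insert, Finset.mem_insert, Finset.mem_singleton, Finset.prod_singleton,
    OfNat.ofNat_eq_ofNat, OfNat.one_ne_ofNat, or_self, not_false_eq_true, Nat.reduceMul, Nat.reduceEqDiff]
  ring

theorem e8_involution_classes (hF : Odd (Fintype.card F)) :
    ∃ s t : ↥(chevE8.group F), orderOf s = 2 ∧ orderOf t = 2 ∧ ¬ IsConj s t ∧
      (∀ u : ↥(chevE8.group F), orderOf u = 2 → IsConj u s ∨ IsConj u t) ∧
      Nat.card (Subgroup.centralizer ({s} : Set ↥(chevE8.group F))) =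
        Fintype.card F ^ 56 * (Fintype.card F ^ 8 - 1) * ∏ i ∈ Finset.Icc 1 7, (Fintype.card F ^ (2 * i) - 1) ∧
      Nat.card (Subgroup.centralizer ({t} : Set ↥(chevE8.group F))) =
        Fintype.card F ^ 64 * (Fintype.card F ^ 2 - 1) ^ 2 * (Fintype.card F ^ 6 - 1) * (Fintype.card F ^ 8 - 1) *
          (Fintype.card F ^ 10 - 1) * (Fintype.card F ^ 12 - 1) * (Fintype.card F ^ 14 - 1) *
          (Fintype.card F ^ 18 - 1) := by
  classical
  have h2 := two_ne_zero_of_odd_card hF
  have hord : ∀ e, e = 1 ∨ e = 3 → orderOf (⟨e8Inv F e, e8Inv_mem e⟩ : ↥(chevE8.group F)) = 2 := by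
    intro e he
    rw [Subgroup.orderOf_mk, orderOf_eq_prime_iff, e8Inv, ← map_pow, ← map_one (torusHom chevE8 tblE8 F)]
    refine ⟨congrArg _ (funext fun j => Units.ext ?_), fun h => ?_⟩
    · simp only [sgnVec, Pi.pow_apply, Pi.one_apply]; split_ifs <;> simp
    · have h1 := fun j => congrArg Units.val (congrFun (e8_torus_injective h) j)
      have hne : (-1 : F) ≠ 1 := fun h' => h2 (by linear_combination -h')
      rcases he with rfl | rfl
      · exact hne (by simpa [sgnVec] using h1 ⟨0, by decide⟩)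
      · exact hne (by simpa [sgnVec, show Nat.testBit 3 0 = true from rfl] using h1 ⟨0, by decide⟩)
  have hct := (card_centralizer_of_subgroup _ ⟨e8Inv F 1, e8Inv_mem 1⟩).trans (e8_card_one hF)
  have hcs := (card_centralizer_of_subgroup _ ⟨e8Inv F 3, e8Inv_mem 3⟩).trans (e8_card_three hF)
  refine ⟨_, _, hord 3 (Or.inr rfl), hord 1 (Or.inl rfl), fun hc => ?_, fun u hu => ?_, hcs, hct⟩
  · have e := card_centralizer_isConj hc
    rw [hcs, hct] at e
    set q := Fintype.card F
    have hq : 2 ≤ q := Fintype.one_lt_card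
    have hco : ∀ n, n ≠ 0 → Nat.Coprime q (q ^ n - 1) := fun n hn => by
      have h1 : Nat.Coprime (q ^ n) (q ^ n - 1) := by
        have h := Nat.one_le_pow n q (by omega)
        exact (Nat.coprime_self_sub_right h).2 (Nat.coprime_one_right _)
      exact (Nat.coprime_pow_left_iff (Nat.pos_of_ne_zero hn) q _).1 h1
    have hca : Nat.Coprime q ((q ^ 8 - 1) * ∏ i ∈ Finset.Icc 1 7, (q ^ (2 * i) - 1)) :=
      (hco 8 (by norm_num)).mul_right (Nat.Coprime.prod_right fun i hi => hco _ (by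
        have := (Finset.mem_Icc.1 hi).1; omega))
    have e' : (q ^ 8 - 1) * ∏ i ∈ Finset.Icc 1 7, (q ^ (2 * i) - 1) =
        q * (q ^ 7 * ((q ^ 2 - 1) ^ 2 * (q ^ 6 - 1) * (q ^ 8 - 1) * (q ^ 10 - 1) * (q ^ 12 - 1) * (q ^ 14 - 1) *
          (q ^ 18 - 1))) := by
      refine Nat.eq_of_mul_eq_mul_left (pow_pos (by omega : 0 < q) 56) ?_
      linear_combination e
    have h1 := Nat.dvd_gcd (dvd_refl q) (Dvd.intro _ e'.symm)
    rw [hca] at h1
    have := Nat.le_of_dvd one_pos h1
    omega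
  · obtain ⟨hu2, hu1⟩ := orderOf_eq_prime_iff.1 hu
    rw [pow_two] at hu2
    have hreps : ∀ e < 2 ^ chevE8.rank, e ≠ 0 →
        (invTorTblE8.getD e (0, [])).1 = 1 ∨ (invTorTblE8.getD e (0, [])).1 = 3 := by decide +kernel
    obtain ⟨e, he, he0, y, hy, hye⟩ := involution_conj_sgn cE8 fullCertE8 hF inv_E8 invTorTblE8_ok
      (fun e he he0 => by
        rcases hreps e he he0 with h | h <;> rw [h]
        exacts [⟨_, _, centConn_of_sub cE8 fullCertE8 subOKE8_1⟩, ⟨_, _, centConn_of_sub cE8 fullCertE8 subOKE8_3⟩])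
      u.2 (congrArg Subtype.val hu2) fun h => hu1 (Subtype.ext h)
    rcases hreps e he he0 with h | h <;> rw [h] at hye
    · exact Or.inr (isConj_iff.2 ⟨⟨y, hy⟩, Subtype.ext hye⟩)
    · exact Or.inl (isConj_iff.2 ⟨⟨y, hy⟩, Subtype.ext hye⟩)

end Cfsg.Lib.Chev
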