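import Cfsg.Agent.Lib.Chev.SylowTorus
import Cfsg.Agent.Lib.Chev.FullE8

/-! Twisted tori of type E8, one for each regular number. -/

set_option autoImplicit false
set_option maxRecDepth 100000

namespace Cfsg.Lib.Chev

/-- The torus data for `1`. -/
def sylE8_1 : SylTor := ⟨[], [-1], [[[1], [0], [0], [0], [0], [0], [0], [0]], [[0], [1], [0], [0], [0], [0], [0], [0]], [[0], [0], [1], [0], [0], [0], [0], [0]], [[0], [0], [0], [1], [0], [0], [0], [0]], [[0], [0], [0], [0], [1], [0], [0], [0]], [[0], [0], [0], [0], [0], [1], [0], [0]], [[0], [0], [0], [0], [0], [0], [1], [0]], [[0], [0], [0], [0], [0], [0], [0], [1]]], [0, 1, 2, 3, 4, 5, 6, 7]⟩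

theorem chkSyl_E8_1 : chkSyl tblE8 8 sylE8_1 = true := by decide +kernel

/-- The torus data for `2`. -/
def sylE8_2 : SylTor := ⟨[0, 1, 2, 3, 4, 5, 6, 7, 0, 1, 2, 3, 4, 5, 6, 7, 0, 1, 2, 3, 4, 5, 6, 7, 0, 1, 2, 3, 4, 5, 6, 7, 0, 1, 2, 3, 4, 5, 6, 7, 0, 1, 2, 3, 4, 5, 6, 7, 0, 1, 2, 3, 4, 5, 6, 7, 0, 1, 2, 3, 4, 5, 6, 7, 0, 1, 2, 3, 4, 5, 6, 7, 0, 1, 2, 3, 4, 5, 6, 7, 0, 1, 2, 3, 4, 5, 6, 7, 0, 1, 2, 3, 4, 5, 6, 7, 0, 1, 2, 3, 4, 5, 6, 7, 0, 1, 2, 3, 4, 5, 6, 7, 0, 1, 2, 3, 4, 5, 6, 7], [1], [[[1], [0], [0], [0], [0], [0], [0], [0]], [[0], [1], [0], [0], [0], [0], [0], [0]], [[0], [0], [1], [0], [0], [0], [0], [0]], [[0], [0], [0], [1], [0], [0], [0], [0]], [[0], [0], [0], [0], [1], [0], [0], [0]], [[0], [0], [0], [0], [0], [1], [0], [0]], [[0], [0],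 [0], [0], [0], [0], [1], [0]], [[0], [0], [0], [0], [0], [0], [0], [1]]], [0, 1, 2, 3, 4, 5, 6, 7]⟩

theorem chkSyl_E8_2 : chkSyl tblE8 8 sylE8_2 = true := by decide +kernel

/-- The torus data for `3`. -/
def sylE8_3 : SylTor := ⟨[0, 1, 2, 3, 4, 5, 6, 7, 0, 1, 2, 3, 4, 5, 6, 7, 0, 1, 2, 3, 4, 5, 6, 7, 0, 1, 2, 3, 4, 5, 6, 7, 0, 1, 2, 3, 4, 5, 6, 7, 0, 1, 2, 3, 4, 5, 6, 7, 0, 1, 2, 3, 4, 5, 6, 7, 0, 1, 2, 3, 4, 5, 6, 7, 0, 1, 2, 3, 4, 5, 6, 7, 0, 1, 2, 3, 4, 5, 6, 7], [1, 1], [[[0, 0], [0, 0], [0, -1], [0, -1], [1, 0], [0, 0], [0, 0], [0, 0]], [[0, 0], [0, -1], [1, 1], [1, 0], [0, 0], [1, 0], [0, 0], [0, 0]], [[0, -1], [1, 1], [0, 0], [1, 1], [0, 0], [0, 0], [1, 0], [0, 0]], [[1, 1], [0, 0], [0, 0], [0, 1], [0, 0], [0, 0], [0, 0], [1, 0]]], [4, 5, 6,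 7]⟩

theorem chkSyl_E8_3 : chkSyl tblE8 4 sylE8_3 = true := by decide +kernel

/-- The torus data for `4`. -/
def sylE8_4 : SylTor := ⟨[1, 6, 2, 3, 0, 4, 0, 2, 6, 4, 7, 5, 5, 0, 5, 3, 1, 6, 0, 3, 4, 0, 1, 6, 2, 3, 0, 4, 0, 2, 6, 4, 7, 5, 5, 0, 5, 3, 1, 6, 0, 3, 4, 0, 1, 6, 2, 3, 0, 4, 0, 2, 6, 4, 7, 5, 5, 0, 5, 3, 1, 6, 0, 3, 4, 0, 1, 6, 2, 3, 0, 4, 0, 2, 6, 4, 7, 5, 5, 0, 5, 3, 1, 6, 0, 3, 4, 0, 1, 6, 2, 3, 0, 4, 0, 2, 6, 4, 7, 5, 5, 0, 5, 3, 1, 6, 0, 3, 4, 0, 1, 6, 2, 3, 0, 4, 0, 2, 6, 4, 7, 5, 5, 0, 5, 3, 1, 6, 0, 3, 4, 0], [1, 0], [[[1, 0], [1, -1], [2, 0], [2, 0], [1, 0], [0, 0], [0, 0], [0, 0]], [[0, 0], [-1, 1], [-1, -1], [-1, 0], [0, 0], [1, 0], [0, 0], [0, 0]], [[-1, 1], [1, 0], [0, 2], [0, 0], [0, 0], [0, 0], [1, 0], [0, 0]], [[0, -2], [-1,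 0], [-1, -2], [0, -1], [0, 0], [0, 0], [0, 0], [1, 0]]], [4, 5, 6, 7]⟩

theorem chkSyl_E8_4 : chkSyl tblE8 4 sylE8_4 = true := by decide +kernel

/-- The torus data for `5`. -/
def sylE8_5 : SylTor := ⟨[0, 1, 2, 3, 4, 5, 6, 7, 0, 1, 2, 3, 4, 5, 6, 7, 0, 1, 2, 3, 4, 5, 6, 7, 0, 1, 2, 3, 4, 5, 6, 7, 0, 1, 2, 3, 4, 5, 6, 7, 0, 1, 2, 3, 4, 5, 6, 7], [1, 1, 1, 1], [[[0, 0, 0, 0], [0, -1, -1, -1], [0, -1, -1, 0], [0, -1, -2, -1], [0, -1, -1, -1], [0, -1, -1, -1], [1, 0, 0, 0], [0, 0, 0, 0]], [[0, -1, -1, -1], [1, 1, 1, 1], [1, 1, 0, -1], [1, 1, 1, 0], [1, 1, 0, 0], [1, 1, 1, 0], [0, 0, 0, 0], [1, 0, 0, 0]]], [6, 7]⟩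

theorem chkSyl_E8_5 : chkSyl tblE8 2 sylE8_5 = true := by decide +kernel

/-- The torus data for `6`. -/
def sylE8_6 : SylTor := ⟨[0, 1, 2, 3, 4, 5, 6, 7, 0, 1, 2, 3, 4, 5, 6, 7, 0, 1, 2, 3, 4, 5, 6, 7, 0, 1, 2, 3, 4, 5, 6, 7, 0, 1, 2, 3, 4, 5, 6, 7], [1, -1], [[[0, 0], [0, 0], [1, -1], [1, -1], [1, 0], [0, 0], [0, 0], [0, 0]], [[0, 0], [1, -1], [0, 1], [1, 0], [0, 0], [1, 0], [0, 0], [0, 0]], [[1, -1], [0, 1], [0, 0], [0, 1], [0, 0], [0, 0], [1, 0], [0, 0]], [[0, 1], [0, 0], [0, 0], [-1, 1], [0, 0], [0, 0], [0, 0], [1, 0]]], [4, 5, 6, 7]⟩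

theorem chkSyl_E8_6 : chkSyl tblE8 4 sylE8_6 = true := by decide +kernel

/-- The torus data for `7`. -/
def sylE8_7 : SylTor := ⟨[5, 3, 6, 5, 1, 5, 7, 1, 1, 4, 1, 2, 5, 5, 6, 0, 1, 1], [1, 1, 1, 1, 1, 1], [[[0, 0, 0, 0, -1, 0], [0, 0, 0, 0, 0, 0], [0, 0, 0, -1, -1, 0], [0, 0, -1, -1, -1, 0], [0, 0, -1, -1, -1, -1], [0, -1, -1, -1, -1, -1], [1, 0, 0, 0, 0, 0], [1, 0, 0, 0, 0, 0]]], [7]⟩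

theorem chkSyl_E8_7 : chkSyl tblE8 1 sylE8_7 = true := by decide +kernel

/-- The torus data for `8`. -/
def sylE8_8 : SylTor := ⟨[7, 1, 4, 3, 0, 4, 0, 1, 3, 6, 7, 6, 6, 7, 3, 5, 6, 4, 5, 5, 2, 6, 3, 0, 2, 1, 7, 1, 4, 3, 0, 4, 0, 1, 3, 6, 7, 6, 6, 7, 3, 5, 6, 4, 5, 5, 2, 6, 3, 0, 2, 1, 7, 1, 4, 3, 0, 4, 0, 1, 3, 6, 7, 6, 6, 7, 3, 5, 6, 4, 5, 5, 2, 6, 3, 0, 2, 1], [1, 0, 0, 0], [[[0, 0, 0, -1], [0, 0, 1, -2], [0, 0, 1, -2], [0, 0, 1, -3], [1, -1, 1, -2], [1, 0, 0, -1], [1, 0, 0, 0], [0, 0, 0, 0]], [[0, 1, 0, 1], [0, 0, 0, 1], [0, 1, 0, 1], [0, 1, 1, 1], [0, 1, 1, 1], [0, 0, 1, 1], [0, 0, 0, 0], [1, 0, 0, 0]]], [6, 7]⟩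

theorem chkSyl_E8_8 : chkSyl tblE8 2 sylE8_8 = true := by decide +kernel

/-- The torus data for `9`. -/
def sylE8_9 : SylTor := ⟨[0, 1, 2, 3, 3, 2, 5, 5, 6, 0, 5, 6, 2, 7, 3, 4, 0, 0, 1, 2, 3, 3, 2, 5, 5, 6, 0, 5, 6, 2, 7, 3, 4, 0], [1, 0, 0, 1, 0, 0], [[[0, 1, 0, -1, 0, 0], [1, 0, -1, 0, 0, -1], [0, 0, 0, -1, -1, -1], [1, 0, -1, 0, -1, -2], [1, 0, 0, 0, -1, -1], [1, 0, 0, 0, -1, 0], [1, 0, 0, 0, -1, 0], [1, 0, 0, 0, 0, 0]]], [7]⟩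

theorem chkSyl_E8_9 : chkSyl tblE8 1 sylE8_9 = true := by decide +kernel

/-- The torus data for `10`. -/
def sylE8_10 : SylTor := ⟨[0, 1, 2, 3, 4, 5, 6, 7, 0, 1, 2, 3, 4, 5, 6, 7, 0, 1, 2, 3, 4, 5, 6, 7], [1, -1, 1, -1], [[[0, 0, 0, 0], [1, 0, 0, -1], [1, -1, 0, -1], [2, -1, 1, -2], [1, 0, 0, -1], [1, 0, 0, -1], [1, 0, 0, 0], [0, 0, 0, 0]], [[1, 0, 0, -1], [0, 0, 0, 1], [1, 1, 1, 0], [0, 1, 0, 1], [1, 0, 1, 0], [0, 1, 0, 1], [0, 0, 0, 0], [1, 0, 0, 0]]], [6, 7]⟩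

theorem chkSyl_E8_10 : chkSyl tblE8 2 sylE8_10 = true := by decide +kernel

/-- The torus data for `12`. -/
def sylE8_12 : SylTor := ⟨[7, 1, 4, 3, 0, 4, 0, 1, 3, 6, 7, 6, 6, 7, 3, 5, 6, 4, 5, 5, 2, 6, 3, 0, 2, 1, 7, 1, 4, 3, 0, 4, 0, 1, 3, 6, 7, 6, 6, 7, 3, 5, 6, 4, 5, 5, 2, 6, 3, 0, 2, 1], [1, 0, -1, 0], [[[0, 1, 0, 0], [1, 0, -1, 1], [1, 1, -1, 1], [2, 1, -2, 1], [2, 0, -1, 1], [1, 0, 0, 0], [1, 0, 0, 0], [0, 0, 0, 0]], [[0, 0, 0, -1], [-1, 2, 1, -2], [-1, 1, 1, -2], [-2, 2, 2, -2], [-1, 2, 0, -1], [0, 1, 0, 0], [0, 0, 0, 0], [1, 0, 0, 0]]], [6, 7]⟩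

theorem chkSyl_E8_12 : chkSyl tblE8 2 sylE8_12 = true := by decide +kernel

/-- The torus data for `14`. -/
def sylE8_14 : SylTor := ⟨[7, 6, 6, 5, 6, 4, 0, 3, 2, 5, 3, 5, 0, 5, 5, 2, 4, 6, 3, 5, 1, 4, 7, 6, 5], [1, -1, 1, -1, 1, -1], [[[1, -2, 1, 0, 1, -2], [1, -1, 1, 0, 1, -2], [1, -1, 1, 0, 0, -2], [1, -1, 2, 0, 0, -3], [1, -1, 2, 0, 0, -2], [0, 0, 1, 1, -1, -1], [1, 0, 0, 0, 0, 0], [0, 0, 0, 0, 0, 0]]], [6]⟩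

theorem chkSyl_E8_14 : chkSyl tblE8 1 sylE8_14 = true := by decide +kernel

/-- The torus data for `15`. -/
def sylE8_15 : SylTor := ⟨[0, 1, 2, 3, 4, 5, 6, 7, 0, 1, 2, 3, 4, 5, 6, 7], [1, -1, 0, 1, -1, 1, 0, -1], [[[1, 0, -1, 0, 0, 0, 0, -1], [1, 0, 0, 0, -1, 0, 0, -1], [2, -1, -1, 1, -1, 0, 0, -2], [3, -1, -1, 1, -2, 1, 0, -3], [2, 0, -1, 1, -1, 0, 0, -2], [2, 0, -1, 1, -1, 0, 1, -2], [1, 0, 0, 0, 0, 0, 0, -1], [1, 0, 0, 0, 0, 0, 0, 0]]], [7]⟩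

theorem chkSyl_E8_15 : chkSyl tblE8 1 sylE8_15 = true := by decide +kernel

/-- The torus data for `18`. -/
def sylE8_18 : SylTor := ⟨[0, 1, 2, 3, 3, 2, 5, 5, 6, 0, 5, 6, 2, 7, 3, 4, 0], [1, 0, 0, -1, 0, 0], [[[1, 0, 1, -1, 0, 0], [1, 1, 0, 0, -1, 0], [1, 1, 1, -1, 0, -1], [1, 2, 1, 0, -1, -1], [1, 1, 1, 0, 0, -1], [1, 0, 1, 0, 0, -1], [1, 0, 1, 0, 0, -1], [1, 0, 0, 0, 0, 0]]], [7]⟩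

theorem chkSyl_E8_18 : chkSyl tblE8 1 sylE8_18 = true := by decide +kernel

/-- The torus data for `20`. -/
def sylE8_20 : SylTor := ⟨[5, 6, 4, 5, 7, 3, 1, 3, 5, 5, 0, 4, 6, 7, 7, 3, 2, 6, 1, 1], [1, 0, -1, 0, 1, 0, -1, 0], [[[1, 0, 0, 0, 1, 0, -1, 0], [1, 1, -1, 0, 1, 1, -1, -1], [1, 1, 0, 0, 1, 1, -1, -1], [1, 2, 0, 0, 1, 1, -1, -2], [1, 2, 0, 0, 0, 1, -1, -1], [1, 1, 0, 0, 0, 1, -1, -1], [1, 1, 0, -1, 0, 1, 0, -1], [1, 0, 0, 0, 0, 0, 0, 0]]], [7]⟩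

theorem chkSyl_E8_20 : chkSyl tblE8 1 sylE8_20 = true := by decide +kernel

/-- The torus data for `24`. -/
def sylE8_24 : SylTor := ⟨[7, 1, 4, 3, 0, 4, 0, 1, 3, 6, 7, 6, 6, 7, 3, 5, 6, 4, 5, 5, 2, 6, 3, 0, 2, 1], [1, 0, 0, 0, -1, 0, 0, 0], [[[0, 0, 1, 1, 0, 0, -1, 0], [0, 1, 2, 0, 0, -1, -1, 1], [0, 1, 2, 1, 0, -1, -1, 1], [0, 2, 3, 1, 0, -2, -1, 1], [1, 2, 2, 0, -1, -1, 0, 1], [1, 1, 1, 0, 0, 0, 0, 0], [1, 1, 0, 0, 0, 0, 0, 0], [1, 0, 0, 0, 0, 0, 0, 0]]], [7]⟩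

theorem chkSyl_E8_24 : chkSyl tblE8 1 sylE8_24 = true := by decide +kernel

/-- The torus data for `30`. -/
def sylE8_30 : SylTor := ⟨[0, 1, 2, 3, 4, 5, 6, 7], [1, 1, 0, -1, -1, -1, 0, 1], [[[0, 0, 1, 1, 0, 0, -1, -1], [1, 1, 1, 0, 0, -1, -1, 0], [1, 1, 1, 1, 0, -1, -1, -1], [1, 2, 2, 1, 0, -1, -2, -1], [1, 1, 2, 1, 0, -1, -1, -1], [1, 1, 1, 1, 0, -1, -1, 0], [0, 0, 1, 1, 1, 0, -1, -1], [1, 0, 0, 0, 0, 0, 0, 0]]], [7]⟩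

theorem chkSyl_E8_30 : chkSyl tblE8 1 sylE8_30 = true := by decide +kernel

end Cfsg.Lib.Chev
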