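import Cfsg.Agent.Lib.Chev.SylowTorus
import Cfsg.Agent.Lib.Chev.FullF4

/-! Twisted tori of type F4, one for each regular number. -/

set_option autoImplicit false
set_option maxRecDepth 100000

namespace Cfsg.Lib.Chev

/-- The torus data for `1`. -/
def sylF4_1 : SylTor := ⟨[], [-1], [[[1], [0], [0], [0]], [[0], [1], [0], [0]], [[0], [0], [1], [0]], [[0], [0], [0], [1]]], [0, 1, 2, 3]⟩

theorem chkSyl_F4_1 : chkSyl tblF4 4 sylF4_1 = true := by decide +kernel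

/-- The torus data for `2`. -/
def sylF4_2 : SylTor := ⟨[0, 1, 2, 3, 0, 1, 2, 3, 0, 1, 2, 3, 0, 1, 2, 3, 0, 1, 2, 3, 0, 1, 2, 3], [1], [[[1], [0], [0], [0]], [[0], [1], [0], [0]], [[0], [0], [1], [0]], [[0], [0], [0], [1]]], [0, 1, 2, 3]⟩

theorem chkSyl_F4_2 : chkSyl tblF4 4 sylF4_2 = true := by decide +kernel

/-- The torus data for `3`. -/
def sylF4_3 : SylTor := ⟨[0, 1, 2, 3, 0, 1, 2, 3, 0, 1, 2, 3, 0, 1, 2, 3], [1, 1], [[[0, -1], [1, 0], [2, 0], [0, 0]], [[1, 1], [0, 0], [0, 1], [1, 0]]], [1, 3]⟩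

theorem chkSyl_F4_3 : chkSyl tblF4 2 sylF4_3 = true := by decide +kernel

/-- The torus data for `4`. -/
def sylF4_4 : SylTor := ⟨[0, 1, 2, 3, 0, 1, 2, 3, 0, 1, 2, 3], [1, 0], [[[1, 0], [0, 0], [1, -1], [1, 1]], [[0, 0], [1, 0], [1, 1], [0, 0]]], [0, 1]⟩

theorem chkSyl_F4_4 : chkSyl tblF4 2 sylF4_4 = true := by decide +kernel

/-- The torus data for `6`. -/
def sylF4_6 : SylTor := ⟨[0, 1, 2, 3, 0, 1, 2, 3], [1, -1], [[[1, 0], [0, -1], [0, 0], [2, -2]], [[0, 0], [1, 0], [1, 0], [0, 1]]], [0, 2]⟩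

theorem chkSyl_F4_6 : chkSyl tblF4 2 sylF4_6 = true := by decide +kernel

/-- The torus data for `8`. -/
def sylF4_8 : SylTor := ⟨[3, 1, 2, 0, 2, 2, 3, 1, 2, 3, 2, 3], [1, 0, 0, 0], [[[1, 0, 0, 0], [1, 0, 1, -1], [1, 1, 1, -1], [0, 1, 0, -1]]], [0]⟩

theorem chkSyl_F4_8 : chkSyl tblF4 1 sylF4_8 = true := by decide +kernel

/-- The torus data for `12`. -/
def sylF4_12 : SylTor := ⟨[0, 1, 2, 3], [1, 0, -1, 0], [[[0, 0, 1, -1], [1, 0, 0, 0], [0, 1, 1, -1], [1, -1, 1, 0]]], [1]⟩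

theorem chkSyl_F4_12 : chkSyl tblF4 1 sylF4_12 = true := by decide +kernel

end Cfsg.Lib.Chev
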