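import Cfsg.Agent.Lib.Chev.SylowCount

/-! The polynomial identities for the regular numbers. -/

set_option autoImplicit false
set_option linter.unusedSimpArgs false

namespace Cfsg.Lib.Chev

theorem cycGood_1 : CycGood 1 [-1] := by
  refine ⟨fun x => (1 : ℤ) * x ^ 0, fun x => (1 : ℤ) * x ^ 0, [], by decide, fun x => ?_⟩
  simp only [sumBelow_eq, Finset.sum_range_succ, Finset.sum_range_zero, List.length_cons, List.length_nil, nth_eq,
    List.getD_cons_zero, List.getD_cons_succ,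
    List.map_cons, List.map_nil, List.prod_cons, List.prod_nil]
  constructor <;> ring

theorem cycGood_2 : CycGood 2 [1] := by
  refine ⟨fun x => (-1 : ℤ) * x ^ 0 + (1 : ℤ) * x ^ 1, fun x => (1 : ℤ) * x ^ 0, [1], by decide, fun x => ?_⟩
  simp only [sumBelow_eq, Finset.sum_range_succ, Finset.sum_range_zero, List.length_cons, List.length_nil, nth_eq,
    List.getD_cons_zero, List.getD_cons_succ,
    List.map_cons, List.map_nil, List.prod_cons, List.prod_nil]
  constructor <;> ring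

theorem cycGood_3 : CycGood 3 [1, 1] := by
  refine ⟨fun x => (-1 : ℤ) * x ^ 0 + (1 : ℤ) * x ^ 1, fun x => (1 : ℤ) * x ^ 0, [1], by decide, fun x => ?_⟩
  simp only [sumBelow_eq, Finset.sum_range_succ, Finset.sum_range_zero, List.length_cons, List.length_nil, nth_eq,
    List.getD_cons_zero, List.getD_cons_succ,
    List.map_cons, List.map_nil, List.prod_cons, List.prod_nil]
  constructor <;> ring

theorem cycGood_4 : CycGood 4 [1, 0] := by
  refine ⟨fun x => (-1 : ℤ) * x ^ 0 + (1 : ℤ) * x ^ 2, fun x => (1 : ℤ) * x ^ 0, [2], by decide, fun x => ?_⟩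
  simp only [sumBelow_eq, Finset.sum_range_succ, Finset.sum_range_zero, List.length_cons, List.length_nil, nth_eq,
    List.getD_cons_zero, List.getD_cons_succ,
    List.map_cons, List.map_nil, List.prod_cons, List.prod_nil]
  constructor <;> ring

theorem cycGood_5 : CycGood 5 [1, 1, 1, 1] := by
  refine ⟨fun x => (-1 : ℤ) * x ^ 0 + (1 : ℤ) * x ^ 1, fun x => (1 : ℤ) * x ^ 0, [1], by decide, fun x => ?_⟩
  simp only [sumBelow_eq, Finset.sum_range_succ, Finset.sum_range_zero, List.length_cons, List.length_nil, nth_eq,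
    List.getD_cons_zero, List.getD_cons_succ,
    List.map_cons, List.map_nil, List.prod_cons, List.prod_nil]
  constructor <;> ring

theorem cycGood_6 : CycGood 6 [1, -1] := by
  refine ⟨fun x => (-1 : ℤ) * x ^ 0 + (-1 : ℤ) * x ^ 1 + (1 : ℤ) * x ^ 3 + (1 : ℤ) * x ^ 4, fun x => (-1 : ℤ) * x ^ 0 + (1 : ℤ) * x ^ 1, [3, 2], by decide, fun x => ?_⟩
  simp only [sumBelow_eq, Finset.sum_range_succ, Finset.sum_range_zero, List.length_cons, List.length_nil, nth_eq,
    List.getD_cons_zero, List.getD_cons_succ,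
    List.map_cons, List.map_nil, List.prod_cons, List.prod_nil]
  constructor <;> ring

theorem cycGood_7 : CycGood 7 [1, 1, 1, 1, 1, 1] := by
  refine ⟨fun x => (-1 : ℤ) * x ^ 0 + (1 : ℤ) * x ^ 1, fun x => (1 : ℤ) * x ^ 0, [1], by decide, fun x => ?_⟩
  simp only [sumBelow_eq, Finset.sum_range_succ, Finset.sum_range_zero, List.length_cons, List.length_nil, nth_eq,
    List.getD_cons_zero, List.getD_cons_succ,
    List.map_cons, List.map_nil, List.prod_cons, List.prod_nil]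
  constructor <;> ring

theorem cycGood_8 : CycGood 8 [1, 0, 0, 0] := by
  refine ⟨fun x => (-1 : ℤ) * x ^ 0 + (1 : ℤ) * x ^ 4, fun x => (1 : ℤ) * x ^ 0, [4], by decide, fun x => ?_⟩
  simp only [sumBelow_eq, Finset.sum_range_succ, Finset.sum_range_zero, List.length_cons, List.length_nil, nth_eq,
    List.getD_cons_zero, List.getD_cons_succ,
    List.map_cons, List.map_nil, List.prod_cons, List.prod_nil]
  constructor <;> ring

theorem cycGood_9 : CycGood 9 [1, 0, 0, 1, 0, 0] := by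
  refine ⟨fun x => (-1 : ℤ) * x ^ 0 + (1 : ℤ) * x ^ 3, fun x => (1 : ℤ) * x ^ 0, [3], by decide, fun x => ?_⟩
  simp only [sumBelow_eq, Finset.sum_range_succ, Finset.sum_range_zero, List.length_cons, List.length_nil, nth_eq,
    List.getD_cons_zero, List.getD_cons_succ,
    List.map_cons, List.map_nil, List.prod_cons, List.prod_nil]
  constructor <;> ring

theorem cycGood_10 : CycGood 10 [1, -1, 1, -1] := by
  refine ⟨fun x => (-1 : ℤ) * x ^ 0 + (-1 : ℤ) * x ^ 1 + (1 : ℤ) * x ^ 5 + (1 : ℤ) * x ^ 6, fun x => (-1 : ℤ) * x ^ 0 + (1 : ℤ) * x ^ 1, [5, 2], by decide, fun x => ?_⟩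
  simp only [sumBelow_eq, Finset.sum_range_succ, Finset.sum_range_zero, List.length_cons, List.length_nil, nth_eq,
    List.getD_cons_zero, List.getD_cons_succ,
    List.map_cons, List.map_nil, List.prod_cons, List.prod_nil]
  constructor <;> ring

theorem cycGood_12 : CycGood 12 [1, 0, -1, 0] := by
  refine ⟨fun x => (-1 : ℤ) * x ^ 0 + (-1 : ℤ) * x ^ 2 + (1 : ℤ) * x ^ 6 + (1 : ℤ) * x ^ 8, fun x => (-1 : ℤ) * x ^ 0 + (1 : ℤ) * x ^ 2, [6, 4], by decide, fun x => ?_⟩
  simp only [sumBelow_eq, Finset.sum_range_succ, Finset.sum_range_zero, List.length_cons, List.length_nil, nth_eq,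
    List.getD_cons_zero, List.getD_cons_succ,
    List.map_cons, List.map_nil, List.prod_cons, List.prod_nil]
  constructor <;> ring

theorem cycGood_14 : CycGood 14 [1, -1, 1, -1, 1, -1] := by
  refine ⟨fun x => (-1 : ℤ) * x ^ 0 + (-1 : ℤ) * x ^ 1 + (1 : ℤ) * x ^ 7 + (1 : ℤ) * x ^ 8, fun x => (-1 : ℤ) * x ^ 0 + (1 : ℤ) * x ^ 1, [7, 2], by decide, fun x => ?_⟩
  simp only [sumBelow_eq, Finset.sum_range_succ, Finset.sum_range_zero, List.length_cons, List.length_nil, nth_eq,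
    List.getD_cons_zero, List.getD_cons_succ,
    List.map_cons, List.map_nil, List.prod_cons, List.prod_nil]
  constructor <;> ring

theorem cycGood_15 : CycGood 15 [1, -1, 0, 1, -1, 1, 0, -1] := by
  refine ⟨fun x => (-1 : ℤ) * x ^ 0 + (-1 : ℤ) * x ^ 1 + (-1 : ℤ) * x ^ 2 + (1 : ℤ) * x ^ 5 + (1 : ℤ) * x ^ 6 + (1 : ℤ) * x ^ 7, fun x => (-1 : ℤ) * x ^ 0 + (1 : ℤ) * x ^ 1, [5, 3], by decide, fun x => ?_⟩
  simp only [sumBelow_eq, Finset.sum_range_succ, Finset.sum_range_zero, List.length_cons, List.length_nil, nth_eq,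
    List.getD_cons_zero, List.getD_cons_succ,
    List.map_cons, List.map_nil, List.prod_cons, List.prod_nil]
  constructor <;> ring

theorem cycGood_18 : CycGood 18 [1, 0, 0, -1, 0, 0] := by
  refine ⟨fun x => (-1 : ℤ) * x ^ 0 + (-1 : ℤ) * x ^ 3 + (1 : ℤ) * x ^ 9 + (1 : ℤ) * x ^ 12, fun x => (-1 : ℤ) * x ^ 0 + (1 : ℤ) * x ^ 3, [9, 6], by decide, fun x => ?_⟩
  simp only [sumBelow_eq, Finset.sum_range_succ, Finset.sum_range_zero, List.length_cons, List.length_nil, nth_eq,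
    List.getD_cons_zero, List.getD_cons_succ,
    List.map_cons, List.map_nil, List.prod_cons, List.prod_nil]
  constructor <;> ring

theorem cycGood_20 : CycGood 20 [1, 0, -1, 0, 1, 0, -1, 0] := by
  refine ⟨fun x => (-1 : ℤ) * x ^ 0 + (-1 : ℤ) * x ^ 2 + (1 : ℤ) * x ^ 10 + (1 : ℤ) * x ^ 12, fun x => (-1 : ℤ) * x ^ 0 + (1 : ℤ) * x ^ 2, [10, 4], by decide, fun x => ?_⟩
  simp only [sumBelow_eq, Finset.sum_range_succ, Finset.sum_range_zero, List.length_cons, List.length_nil, nth_eq,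
    List.getD_cons_zero, List.getD_cons_succ,
    List.map_cons, List.map_nil, List.prod_cons, List.prod_nil]
  constructor <;> ring

theorem cycGood_24 : CycGood 24 [1, 0, 0, 0, -1, 0, 0, 0] := by
  refine ⟨fun x => (-1 : ℤ) * x ^ 0 + (-1 : ℤ) * x ^ 4 + (1 : ℤ) * x ^ 12 + (1 : ℤ) * x ^ 16, fun x => (-1 : ℤ) * x ^ 0 + (1 : ℤ) * x ^ 4, [12, 8], by decide, fun x => ?_⟩
  simp only [sumBelow_eq, Finset.sum_range_succ, Finset.sum_range_zero, List.length_cons, List.length_nil, nth_eq,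
    List.getD_cons_zero, List.getD_cons_succ,
    List.map_cons, List.map_nil, List.prod_cons, List.prod_nil]
  constructor <;> ring

theorem cycGood_30 : CycGood 30 [1, 1, 0, -1, -1, -1, 0, 1] := by
  refine ⟨fun x => (-1 : ℤ) * x ^ 0 + (1 : ℤ) * x ^ 1 + (-1 : ℤ) * x ^ 2 + (-1 : ℤ) * x ^ 5 + (1 : ℤ) * x ^ 6 + (-1 : ℤ) * x ^ 7 + (1 : ℤ) * x ^ 15 + (-1 : ℤ) * x ^ 16 + (1 : ℤ) * x ^ 17 + (1 : ℤ) * x ^ 20 + (-1 : ℤ) * x ^ 21 + (1 : ℤ) * x ^ 22, fun x => (1 : ℤ) * x ^ 0 + (1 : ℤ) * x ^ 1 + (-1 : ℤ) * x ^ 3 + (-1 : ℤ) * x ^ 4 + (-1 : ℤ) * x ^ 5 + (-1 : ℤ) * x ^ 6 + (1 : ℤ) * x ^ 8 + (1 : ℤ) * x ^ 9, [15, 10, 6], by decide, fun x => ?_⟩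
  simp only [sumBelow_eq, Finset.sum_range_succ, Finset.sum_range_zero, List.length_cons, List.length_nil, nth_eq,
    List.getD_cons_zero, List.getD_cons_succ,
    List.map_cons, List.map_nil, List.prod_cons, List.prod_nil]
  constructor <;> ring

end Cfsg.Lib.Chev
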