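import Cfsg.Agent.Lib.Chev.Weyl

/-!
Combinatorial data of a regular element of the Weyl group with cyclic root lattice: exponents of the roots and
checkable criteria for their separation.
-/

set_option autoImplicit false
set_option linter.unusedSectionVars false

namespace Cfsg.Lib.Chev

open Cfsg.Lie

/-- Sums below a bound, reducing by recursion. -/
noncomputable def sumBelow (f : ℕ → ℤ) (n : ℕ) : ℤ := Nat.rec 0 (fun k r => r + f k) n

theorem sumBelow_eq (f : ℕ → ℤ) : ∀ n, sumBelow f n = ∑ k ∈ Finset.range n, f k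
  | 0 => rfl
  | n + 1 => by
    show sumBelow f n + f n = _
    rw [sumBelow_eq f n, Finset.sum_range_succ]

/-- A word, the low coefficients of its characteristic polynomial, and coordinates for the orbit basis. -/
structure TorData where
  /-- The word. -/
  w : List ℕ
  /-- The coefficients below the leading one. -/
  tg : List ℤ
  /-- The coordinates of the weights. -/
  mg : List (List ℤ)
  /-- The root starting the orbit basis. -/
  r0 : ℕ

/-- The coordinate of a root in the orbit basis. -/
noncomputable def TorData.coef (S : TorData) (T : Tbl) (r k : ℕ) : ℤ :=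
  sumBelow (fun j => nth 0 (nth [] S.mg j) k * T.cartan j r) T.rank

/-- The roots of the orbit basis. -/
noncomputable def TorData.orb (S : TorData) (T : Tbl) (k : ℕ) : ℕ := Nat.rec S.r0 (fun _ r => wperm T S.w r) k

/-- The order of the torus. -/
noncomputable def TorData.ord (S : TorData) (T : Tbl) (q : ℤ) : ℤ :=
  q ^ T.rank + sumBelow (fun k => nth 0 S.tg k * q ^ k) T.rank

/-- The exponent of a root. -/
noncomputable def TorData.expo (S : TorData) (T : Tbl) (q : ℤ) (r : ℕ) : ℤ :=
  sumBelow (fun k => S.coef T r k * q ^ k) T.rank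

/-- The checks on the data. -/
noncomputable def chkTor (T : Tbl) (S : TorData) : Bool :=
  (Nat.blt 0 T.rank && (Nat.blt S.r0 T.nroots &&
    allBelow (fun k => decide (S.coef T S.r0 k = if k = 0 then 1 else 0)) T.rank)) &&
  (allBelow (fun i => Nat.blt (nth 0 S.w i) T.rank) S.w.length &&
  allBelow (fun r => allBelow (fun k => decide (S.coef T (wperm T S.w r) k =
      (if k = 0 then 0 else S.coef T r (k - 1)) - S.coef T r (T.rank - 1) * nth 0 S.tg k)) T.rank &&
    allBelow (fun j => decide (T.cartan j r = sumBelow (fun k => S.coef T r k * T.cartan j (S.orb T k)) T.rank))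
      T.rank) T.nroots)

/-- No member of a list occurs later. -/
noncomputable def allDistinct (l : List ℕ) : Bool :=
  List.rec (motive := fun _ => Bool) true
    (fun x t r => r && List.rec (motive := fun _ => Bool) true (fun y _ r' => !Nat.beq x y && r') t) l

theorem allDistinct_nodup : ∀ l : List ℕ, allDistinct l = true → l.Nodup
  | [], _ => List.nodup_nil
  | x :: t, h => by
    change (allDistinct t && List.rec (motive := fun _ => Bool) true (fun y _ r' => !Nat.beq x y && r') t) = true at h
    rw [Bool.and_eq_true] at h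
    refine List.nodup_cons.2 ⟨?_, allDistinct_nodup t h.1⟩
    have h2 := h.2
    clear h
    induction t with
    | nil => exact List.not_mem_nil
    | cons y t ih =>
      change (!Nat.beq x y && List.rec (motive := fun _ => Bool) true (fun y _ r' => !Nat.beq x y && r') t) = true at h2
      rw [Bool.and_eq_true, Bool.not_eq_true'] at h2
      rintro (_ | ⟨_, h'⟩)
      · simp at h2
      · exact ih h2.2 h'

/-- A function takes the distinct values listed. -/
noncomputable def chkCode (f : ℕ → ℕ) (n : ℕ) (V : List ℕ) : Bool :=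
  Nat.beq V.length n && (allIdx (fun k x => Nat.beq (f k) x) V 0 && allDistinct V)

theorem chkCode_inj {f : ℕ → ℕ} {n : ℕ} {V : List ℕ} (h : chkCode f n V = true) {a b : ℕ} (ha : a < n) (hb : b < n)
    (e : f a = f b) : a = b := by
  simp only [chkCode, Bool.and_eq_true, Nat.beq_eq, allIdx_iff] at h
  obtain ⟨hl, hv, hd⟩ := h
  subst hl
  have e1 := hv a ha
  have e2 := hv b hb
  rw [zero_add] at e1 e2
  exact ((allDistinct_nodup V hd).getElem_inj_iff (hi := ha) (hj := hb)).1 (e1.symm.trans (e.trans e2))

theorem chkCode_ne {f : ℕ → ℕ} {n : ℕ} {V : List ℕ} (h : chkCode f n V = true)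
    (h0 : allIdx (fun _ x => !Nat.beq x 0) V 0 = true) {a : ℕ} (ha : a < n) : f a ≠ 0 := by
  simp only [chkCode, Bool.and_eq_true, Nat.beq_eq, allIdx_iff] at h
  obtain ⟨hl, hv, -⟩ := h
  subst hl
  have e1 := hv a ha
  rw [zero_add] at e1
  have e2 := (allIdx_iff V 0).1 h0 a ha
  intro e
  rw [e] at e1
  rw [← e1] at e2
  exact absurd e2 (by decide)

/-- The exponents of the roots modulo the order. -/
noncomputable def TorData.res (S : TorData) (T : Tbl) (q : ℤ) (r : ℕ) : ℕ := ((S.expo T q r) % S.ord T q).toNat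

/-- The exponents are nonzero and separate the roots. -/
noncomputable def chkSmall (T : Tbl) (S : TorData) (q : ℤ) (V : List ℕ) : Bool :=
  decide (0 < S.ord T q) && (chkCode (S.res T q) T.nroots V && allIdx (fun _ x => !Nat.beq x 0) V 0)

/-- A code of the coordinates. -/
noncomputable def TorData.code (S : TorData) (T : Tbl) (r : ℕ) : ℕ :=
  (sumBelow (fun k => (S.coef T r k + 3) * 8 ^ k) T.rank).toNat

/-- The coordinates are small and separate the roots. -/
noncomputable def chkLarge (T : Tbl) (S : TorData) (V : List ℕ) : Bool :=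
  chkCode (S.code T) T.nroots V && allBelow (fun r => allBelow (fun k => decide ((S.coef T r k).natAbs ≤ 2)) T.rank &&
    decide (sumBelow (fun k => ((S.coef T r k).natAbs : ℤ)) T.rank ≠ 0)) T.nroots

/-- The pairing of two roots. -/
noncomputable def rootPair (T : Tbl) (r s : ℕ) : ℤ := sumBelow (fun j => T.coroot r j * T.cartan j s) T.rank

/-- Only the fundamental roots continue a list with given residues and pairings. -/
noncomputable def allTup (T : Tbl) (f : ℕ → ℕ) : ℕ → List ℕ → Bool :=
  fun m => Nat.rec (motive := fun _ => List ℕ → Bool) (fun acc => eqNats acc ((List.range T.rank).map T.simp'))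
    (fun _ r acc => allBelow (fun s =>
      !(Nat.beq (f s) (f (T.simp' acc.length)) &&
          allBelow (fun i => decide (rootPair T (nth 0 acc i) s = T.cartan i (T.simp' acc.length))) acc.length) ||
        r (acc ++ [s])) T.nroots) m

/-- The exponents are nonzero and separate the fundamental systems. -/
noncomputable def chkPair (T : Tbl) (S : TorData) (q : ℤ) (V : List ℕ) : Bool :=
  (decide (0 < S.ord T q) && (Nat.beq V.length T.nroots && allIdx (fun k x => Nat.beq (S.res T q k) x && !Nat.beq x 0) V 0)) &&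
    allTup T (fun r => nth 0 V r) T.rank []

/-- The data is consistent with the table. -/
structure TorOK (D : ChevalleyDatum) (T : Tbl) (S : TorData) : Prop where
  rank_pos : 0 < D.rank
  r0_lt : S.r0 < D.nroots
  coef_r0 : ∀ k < D.rank, S.coef T S.r0 k = if k = 0 then 1 else 0
  isWord : IsWord D S.w
  step : ∀ r < D.nroots, ∀ k < D.rank, S.coef T (wperm T S.w r) k =
    (if k = 0 then 0 else S.coef T r (k - 1)) - S.coef T r (D.rank - 1) * nth 0 S.tg k
  cart : ∀ r < D.nroots, ∀ j < D.rank,
    T.cartan j r = ∑ k ∈ Finset.range D.rank, S.coef T r k * T.cartan j (S.orb T k)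

/-- The exponents separate the roots as much as needed. -/
structure TorSep (D : ChevalleyDatum) (T : Tbl) (S : TorData) (q : ℕ) : Prop where
  ord_pos : 0 < S.ord T q
  ne_zero : ∀ r < D.nroots, ¬ S.ord T q ∣ S.expo T q r
  sep : ∀ v, IsWord D v → (∀ k < D.rank, S.ord T q ∣ S.expo T q (wperm T v (T.simp' k)) - S.expo T q (T.simp' k)) →
    ∀ k < D.rank, wperm T v (T.simp' k) = T.simp' k

variable {D : ChevalleyDatum} {T : Tbl} (C : Cert D T)
include C

theorem rootPair_refl {i : ℕ} (hi : i < D.rank) {r s : ℕ} (hr : r < D.nroots) (hs : s < D.nroots) :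
    rootPair T (T.refl' i r) (T.refl' i s) = rootPair T r s := by
  have hsum : ∀ x, ((List.range D.rank).map fun j => T.coroot x j * T.cartan j (T.simp' i)).sum =
      ∑ j ∈ Finset.range D.rank, T.coroot x j * T.cartan j (T.simp' i) := fun x => rfl
  simp only [rootPair, sumBelow_eq, C.spec.shape.rank_eq]
  have e : ∀ j ∈ Finset.range D.rank, T.coroot (T.refl' i r) j * T.cartan j (T.refl' i s) =
      (T.coroot r j * T.cartan j s - T.cartan i s * (T.coroot r j * T.cartan j (T.simp' i))) -
      (if j = i then (∑ m ∈ Finset.range D.rank, T.coroot r m * T.cartan m (T.simp' i)) * (-T.cartan i s) else 0) := by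
    intro j hj
    rw [Finset.mem_range] at hj
    rw [C.spec.cor_refl i hi r hr j hj, C.spec.cart_refl i hi j hj s hs, hsum]
    split_ifs with h
    · subst h; rw [C.spec.cart_simple j hi]; ring
    · ring
  rw [Finset.sum_congr rfl e, Finset.sum_sub_distrib, Finset.sum_sub_distrib, ← Finset.mul_sum, Finset.sum_ite_eq',
    if_pos (Finset.mem_range.2 hi)]
  ring

theorem rootPair_wperm {w : List ℕ} (hw : IsWord D w) {r s : ℕ} (hr : r < D.nroots) (hs : s < D.nroots) :
    rootPair T (wperm T w r) (wperm T w s) = rootPair T r s := by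
  induction w with
  | nil => rfl
  | cons i w ih =>
    show rootPair T (T.refl' i (wperm T w r)) (T.refl' i (wperm T w s)) = _
    rw [rootPair_refl C hw.tail.1 (wperm_lt C hw.tail.2 hr) (wperm_lt C hw.tail.2 hs), ih hw.tail.2]

theorem rootPair_simple {i : ℕ} (hi : i < D.rank) (s : ℕ) : rootPair T (T.simp' i) s = T.cartan i s := by
  rw [rootPair, sumBelow_eq, C.spec.shape.rank_eq,
    Finset.sum_eq_single i (fun j hj hji => by rw [C.spec.cor_simple i hi j (Finset.mem_range.1 hj), if_neg hji, zero_mul])
      (fun h => absurd (Finset.mem_range.2 hi) h), C.spec.cor_simple i hi i hi, if_pos rfl, one_mul]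

variable (S : TorData)

theorem torOK_of_chk (h : chkTor T S = true) : TorOK D T S := by
  simp only [chkTor, Bool.and_eq_true, allBelow_iff, decide_eq_true_eq, Nat.blt_eq, sumBelow_eq,
    C.spec.shape.rank_eq, C.spec.shape.nroots_eq] at h
  obtain ⟨⟨h1, h2, h3⟩, h4, h5⟩ := h
  refine ⟨h1, h2, h3, fun i hi => ?_, fun r hr => (h5 r hr).1, fun r hr => (h5 r hr).2⟩
  obtain ⟨k, hk, rfl⟩ := List.getElem_of_mem hi
  have := h4 k hk
  rwa [nth_eq, List.getD_eq_getElem _ _ hk] at this

variable {S}

omit C in
theorem res_eq_of_dvd {q : ℤ} {a b : ℕ} (h : S.ord T q ∣ S.expo T q a - S.expo T q b) : S.res T q a = S.res T q b := by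
  rw [TorData.res, TorData.res, Int.emod_eq_emod_iff_emod_sub_eq_zero.2 (Int.emod_eq_zero_of_dvd h)]

omit C in
theorem res_eq_zero_of_dvd {q : ℤ} {a : ℕ} (h : S.ord T q ∣ S.expo T q a) : S.res T q a = 0 := by
  rw [TorData.res, Int.emod_eq_zero_of_dvd h]; rfl

theorem torSep_of_small {q : ℕ} {V : List ℕ} (h : chkSmall T S q V = true) : TorSep D T S q := by
  simp only [chkSmall, Bool.and_eq_true, decide_eq_true_eq, C.spec.shape.nroots_eq] at h
  obtain ⟨h1, h2, h3⟩ := h
  exact ⟨h1, fun r hr hd => chkCode_ne h2 h3 hr (res_eq_zero_of_dvd hd), fun v hv hd k hk =>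
    chkCode_inj h2 (wperm_lt C hv (C.spec.simp_lt k hk)) (C.spec.simp_lt k hk) (res_eq_of_dvd (hd k hk))⟩

theorem torSep_of_pair {q : ℕ} {V : List ℕ} (h : chkPair T S q V = true) : TorSep D T S q := by
  simp only [chkPair, Bool.and_eq_true, decide_eq_true_eq, allIdx_iff, Nat.beq_eq, C.spec.shape.nroots_eq,
    C.spec.shape.rank_eq, Bool.not_eq_true'] at h
  obtain ⟨⟨h1, h2, h3⟩, h4⟩ := h
  have hV : ∀ r < D.nroots, nth 0 V r = S.res T q r ∧ S.res T q r ≠ 0 := by
    intro r hr
    have hr' : r < V.length := h2 ▸ hr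
    have := h3 r hr'
    rw [zero_add] at this
    rw [nth_eq, List.getD_eq_getElem _ _ hr', this.1]
    exact ⟨rfl, fun e => by rw [e] at this; simp at this⟩
  refine ⟨h1, fun r hr hd => (hV r hr).2 (res_eq_zero_of_dvd hd), fun v hv hd => ?_⟩
  let im := fun k => wperm T v (T.simp' k)
  suffices key : ∀ m k, k + m = D.rank → allTup T (fun r => nth 0 V r) m ((List.range k).map im) = true →
      ∀ i < D.rank, im i = T.simp' i from key D.rank 0 (by omega) h4
  intro m
  induction m with
  | zero =>
    intro k hk ht i hi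
    rw [add_zero] at hk
    subst hk
    have e := eqNats_iff _ _ ht
    rw [C.spec.shape.rank_eq] at e
    exact List.map_inj_left.1 e i (List.mem_range.2 hi)
  | succ m ih =>
    intro k hk ht
    have hkr : k < D.rank := by omega
    change allBelow _ T.nroots = true at ht
    rw [allBelow_iff] at ht
    have hs := ht (im k) (by rw [C.spec.shape.nroots_eq]; exact wperm_lt C hv (C.spec.simp_lt k hkr))
    rw [Bool.or_eq_true] at hs
    refine ih (k + 1) (by omega) ?_
    rw [List.range_succ, List.map_append, List.map_singleton]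
    refine hs.resolve_left fun hbad => ?_
    simp only [List.length_map, List.length_range, Bool.not_eq_true', ← Bool.not_eq_true, Bool.and_eq_true,
      Nat.beq_eq, allBelow_iff, decide_eq_true_eq] at hbad
    refine hbad ⟨?_, fun i hi => ?_⟩
    · rw [(hV _ (wperm_lt C hv (C.spec.simp_lt k hkr))).1, (hV _ (C.spec.simp_lt k hkr)).1]
      exact res_eq_of_dvd (hd k hkr)
    · rw [nth_eq, List.getD_eq_getElem _ _ (by simpa using hi), List.getElem_map, List.getElem_range]
      show rootPair T (wperm T v (T.simp' i)) (wperm T v (T.simp' k)) = _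
      rw [rootPair_wperm C hv (C.spec.simp_lt i (hi.trans hkr)) (C.spec.simp_lt k hkr),
        rootPair_simple C (hi.trans hkr)]

omit C in
theorem digits_eq_zero {q : ℤ} (hq : 0 < q) : ∀ (n : ℕ) (d : ℕ → ℤ), (∀ k < n, |d k| < q) →
    ∑ k ∈ Finset.range n, d k * q ^ k = 0 → ∀ k < n, d k = 0
  | 0, _, _, _ => fun k hk => absurd hk (Nat.not_lt_zero k)
  | n + 1, d, hd, h => by
    rw [Finset.sum_range_succ', pow_zero, mul_one] at h
    simp only [pow_succ, ← mul_assoc] at h
    rw [← Finset.sum_mul] at h
    have h0 : d 0 = 0 := Int.eq_zero_of_abs_lt_dvd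
      ⟨-(∑ k ∈ Finset.range n, d (k + 1) * q ^ k), by linear_combination h⟩ (hd 0 n.succ_pos)
    rw [h0, add_zero, mul_eq_zero] at h
    have ih := digits_eq_zero hq n (fun k => d (k + 1)) (fun k hk => hd _ (Nat.succ_lt_succ hk))
      (h.resolve_right hq.ne')
    intro k hk
    rcases k with _ | k
    · exact h0
    · exact ih k (Nat.lt_of_succ_lt_succ hk)

theorem torSep_of_large {q : ℕ} (hq : 5 ≤ q) {V : List ℕ} (h : chkLarge T S V = true)
    (hN : 4 * ∑ k ∈ Finset.range D.rank, (q : ℤ) ^ k < S.ord T q) : TorSep D T S q := by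
  simp only [chkLarge, Bool.and_eq_true, allBelow_iff, decide_eq_true_eq, sumBelow_eq, C.spec.shape.nroots_eq,
    C.spec.shape.rank_eq] at h
  obtain ⟨h1, h2⟩ := h
  have hqz : (0 : ℤ) < q := by omega
  have hsum : 0 ≤ ∑ k ∈ Finset.range D.rank, (q : ℤ) ^ k := Finset.sum_nonneg fun k _ => pow_nonneg hqz.le k
  have key : ∀ d : ℕ → ℤ, (∀ k < D.rank, |d k| ≤ 4) → S.ord T q ∣ ∑ k ∈ Finset.range D.rank, d k * (q : ℤ) ^ k →
      ∀ k < D.rank, d k = 0 := by
    intro d hd hdvd
    refine digits_eq_zero hqz D.rank d (fun k hk => (hd k hk).trans_lt (by omega))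
      (Int.eq_zero_of_abs_lt_dvd hdvd (lt_of_le_of_lt ((Finset.abs_sum_le_sum_abs _ _).trans ?_) hN))
    rw [Finset.mul_sum]
    refine Finset.sum_le_sum fun k hk => ?_
    rw [abs_mul, abs_of_nonneg (pow_nonneg hqz.le k)]
    exact mul_le_mul_of_nonneg_right (hd k (Finset.mem_range.1 hk)) (pow_nonneg hqz.le k)
  have hb : ∀ r < D.nroots, ∀ k < D.rank, |S.coef T r k| ≤ 2 := fun r hr k hk => by
    have := (h2 r hr).1 k hk
    rw [Int.abs_eq_natAbs]
    exact_mod_cast this
  refine ⟨by omega, fun r hr hd => (h2 r hr).2 ?_, fun v hv hd m hm => ?_⟩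
  · refine Finset.sum_eq_zero fun k hk => ?_
    rw [key (S.coef T r) (fun k hk => (hb r hr k hk).trans (by norm_num))
      (by simpa only [TorData.expo, sumBelow_eq, C.spec.shape.rank_eq] using hd) k (Finset.mem_range.1 hk)]
    rfl
  · have ha := wperm_lt C hv (C.spec.simp_lt m hm)
    have hs := C.spec.simp_lt m hm
    refine chkCode_inj h1 ha hs ?_
    have hd' := hd m hm
    simp only [TorData.expo, sumBelow_eq, C.spec.shape.rank_eq, ← Finset.sum_sub_distrib, ← sub_mul] at hd'
    have := key _ (fun k hk => (abs_sub _ _).trans ((add_le_add (hb _ ha k hk) (hb _ hs k hk)).trans (by norm_num))) hd'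
    simp only [TorData.code, sumBelow_eq, C.spec.shape.rank_eq]
    exact congrArg Int.toNat (Finset.sum_congr rfl fun k hk => by rw [sub_eq_zero.1 (this k (Finset.mem_range.1 hk))])

end Cfsg.Lib.Chev
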