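import Cfsg.Agent.Lib.Chev.TorusLang
import Cfsg.Agent.Lib.Chev.FullAll

/-! A regular torus of the group of type F4. -/

set_option autoImplicit false
set_option maxRecDepth 100000

namespace Cfsg.Lib.Chev

/-- The torus data. -/
def torF4 : TorData := ⟨[0, 3, 1, 2, 1, 2], [1, 0, 0, 0], [[0, -1, -1, -1], [1, -1, -2, -2], [1, -1, -3, -3], [0, -1, -2, -1]], 27⟩

theorem chkTor_F4 : chkTor tblF4 torF4 = true := by decide +kernel

theorem chkLarge_F4 : chkLarge tblF4 torF4 [2403, 2842, 2338, 2339, 2340, 1836, 2275, 2330, 2331, 1827, 2266, 1828, 2267, 1763, 1764, 2322, 1818, 2257, 1819, 2258, 1754, 1820, 2259, 1316, 2194, 1251, 1690, 1756, 1252, 1691, 1253, 1692, 1188, 1746, 1747, 1243, 1682, 1244, 1683, 1179, 1180, 1235, 1674, 1170, 1171, 1172, 668, 1107] = true := by decide +kernel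

theorem chkPair_F4_2 : chkPair tblF4 torF4 ((2 : ℕ) : ℤ) [1, 2, 13, 14, 15, 9, 10, 11, 12, 6, 7, 7, 8, 2, 3, 9, 3, 4, 4, 5, 16, 5, 6, 16, 1, 11, 12, 1, 12, 13, 13, 14, 8, 14, 15, 9, 10, 10, 11, 5, 6, 7, 8, 2, 3, 4, 15, 16] = true := by decide +kernel

theorem chkSmall_F4_3 : chkSmall tblF4 torF4 ((3 : ℕ) : ℤ) [48, 62, 38, 39, 40, 16, 30, 35, 36, 12, 26, 13, 27, 3, 4, 32, 8, 22, 9, 23, 81, 10, 24, 68, 14, 58, 72, 1, 59, 73, 60, 74, 50, 78, 79, 55, 69, 56, 70, 46, 47, 52, 66, 42, 43, 44, 20, 34] = true := by decide +kernel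

theorem chkSmall_F4_4 : chkSmall tblF4 torF4 ((4 : ℕ) : ℤ) [100, 143, 83, 84, 85, 25, 68, 79, 80, 20, 63, 21, 64, 4, 5, 75, 15, 58, 16, 59, 256, 17, 60, 214, 43, 197, 240, 1, 198, 241, 199, 242, 182, 252, 253, 193, 236, 194, 237, 177, 178, 189, 232, 172, 173, 174, 114, 157] = true := by decide +kernel

end Cfsg.Lib.Chev
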