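import Cfsg.Agent.Lib.Chev.TrialityLang
import Cfsg.Agent.Lib.Linear.SylowLarge

/-!
Homocyclic subgroups of twisted tori for primes away from the Weyl group.
-/

set_option autoImplicit false
set_option linter.unusedSectionVars false

namespace Cfsg.Lib.Chev

open Cfsg.Lie

/-- A word, a cyclotomic polynomial, eigenvectors of the word on the cocharacters, and their pivots. -/
structure SylTor where
  /-- The word. -/
  w : List ℕ
  /-- The coefficients of the polynomial below the leading one. -/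
  phi : List ℤ
  /-- The vectors: for each, a polynomial in each coordinate. -/
  vecs : List (List (List ℤ))
  /-- A coordinate for each vector. -/
  piv : List ℕ

/-- A coefficient of a coordinate of a vector. -/
noncomputable def SylTor.xc (S : SylTor) (i j k : ℕ) : ℤ := nth 0 (nth [] (nth [] S.vecs i) j) k

/-- A coefficient of the pairing of a vector with a root. -/
noncomputable def SylTor.bc (S : SylTor) (T : Tbl) (i s k : ℕ) : ℤ :=
  sumBelow (fun j => S.xc i j k * T.cartan j s) T.rank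

/-- The value of the polynomial. -/
noncomputable def SylTor.val (S : SylTor) (q : ℤ) : ℤ :=
  q ^ S.phi.length + sumBelow (fun k => nth 0 S.phi k * q ^ k) S.phi.length

/-- The checks on the data. -/
noncomputable def chkSyl (T : Tbl) (a : ℕ) (S : SylTor) : Bool :=
  (Nat.blt 0 S.phi.length && allBelow (fun i => Nat.blt (nth 0 S.w i) T.rank) S.w.length) &&
    allBelow (fun i => Nat.blt (nth 0 S.piv i) T.rank &&
      (allBelow (fun i' => allBelow (fun k => decide (S.xc i' (nth 0 S.piv i) k = if i' = i ∧ k = 0 then 1 else 0))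
        S.phi.length) a &&
      allBelow (fun s => allBelow (fun k => decide (S.bc T i (wperm T S.w s) k =
        (if k = 0 then 0 else S.bc T i s (k - 1)) - S.bc T i s (S.phi.length - 1) * nth 0 S.phi k)) S.phi.length)
        T.nroots)) a

/-- The data is consistent. -/
structure SylOK (D : ChevalleyDatum) (T : Tbl) (a : ℕ) (S : SylTor) : Prop where
  len_pos : 0 < S.phi.length
  isWord : IsWord D S.w
  piv_lt : ∀ i < a, nth 0 S.piv i < D.rank
  unit : ∀ i < a, ∀ i' < a, ∀ k < S.phi.length, S.xc i' (nth 0 S.piv i) k = if i' = i ∧ k = 0 then 1 else 0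
  step : ∀ i < a, ∀ s < D.nroots, ∀ k < S.phi.length, S.bc T i (wperm T S.w s) k =
    (if k = 0 then 0 else S.bc T i s (k - 1)) - S.bc T i s (S.phi.length - 1) * nth 0 S.phi k

variable {D : ChevalleyDatum} {T : Tbl} (C : Cert D T) {S : SylTor} {a : ℕ}
include C

theorem sylOK_of_chk (h : chkSyl T a S = true) : SylOK D T a S := by
  simp only [chkSyl, Bool.and_eq_true, allBelow_iff, decide_eq_true_eq, Nat.blt_eq,
    C.spec.shape.rank_eq, C.spec.shape.nroots_eq] at h
  obtain ⟨⟨h1, h2⟩, h3⟩ := h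
  refine ⟨h1, fun i hi => ?_, fun i hi => (h3 i hi).1, fun i hi => (h3 i hi).2.1, fun i hi => (h3 i hi).2.2⟩
  obtain ⟨k, hk, rfl⟩ := List.getElem_of_mem hi
  have := h2 k hk
  rwa [nth_eq, List.getD_eq_getElem _ _ hk] at this

/-- A coordinate of a vector at `q`. -/
noncomputable def SylTor.xval (S : SylTor) (q : ℤ) (i j : ℕ) : ℤ :=
  ∑ k ∈ Finset.range S.phi.length, S.xc i j k * q ^ k

/-- The pairing of a vector with a root at `q`. -/
noncomputable def SylTor.bval (S : SylTor) (T : Tbl) (q : ℤ) (i s : ℕ) : ℤ :=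
  ∑ k ∈ Finset.range S.phi.length, S.bc T i s k * q ^ k

theorem bval_eq (q : ℤ) (i s : ℕ) :
    S.bval T q i s = ∑ j ∈ Finset.range D.rank, S.xval q i j * T.cartan j s := by
  simp only [SylTor.bval, SylTor.xval, SylTor.bc, sumBelow_eq, C.spec.shape.rank_eq, Finset.sum_mul]
  rw [Finset.sum_comm]
  exact Finset.sum_congr rfl fun k _ => Finset.sum_congr rfl fun j _ => by ring

theorem bval_step (hS : SylOK D T a S) (q : ℤ) {i : ℕ} (hi : i < a) {s : ℕ} (hs : s < D.nroots) :
    S.bval T q i (wperm T S.w s) = q * S.bval T q i s - S.bc T i s (S.phi.length - 1) * S.val q := by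
  simp only [SylTor.bval, SylTor.val, sumBelow_eq]
  rw [Finset.sum_congr rfl fun k hk => by rw [hS.step i hi s hs k (Finset.mem_range.1 hk)]]
  obtain ⟨m, hm⟩ := Nat.exists_eq_succ_of_ne_zero hS.len_pos.ne'
  simp only [hm, Nat.succ_eq_add_one, sub_mul, Finset.sum_sub_distrib]
  rw [Finset.sum_range_succ' (fun k => (if k = 0 then 0 else S.bc T i s (k - 1)) * q ^ k),
    Finset.sum_range_succ (fun k => S.bc T i s k * q ^ k)]
  simp only [Nat.add_eq_zero_iff, one_ne_zero, and_false, if_false, Nat.add_sub_cancel, if_true, zero_mul, add_zero]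
  simp only [mul_add, Finset.mul_sum, mul_assoc]
  rw [Finset.sum_congr rfl (fun k _ => show S.bc T i s k * q ^ (k + 1) = q * (S.bc T i s k * q ^ k) by ring)]
  ring

/-- The character of a root as a unit. -/
def uchr {L : Type*} [Field L] (_C : Cert D T) (c : Fin D.rank → Lˣ) (s : ℕ) : Lˣ := ∏ j, c j ^ T.cartan j s

theorem coe_uchr {L : Type*} [Field L] (c : Fin D.rank → Lˣ) (s : ℕ) :
    ((uchr C c s : Lˣ) : L) = chr T D (extend' c) s := by
  rw [uchr, Units.coe_prod, chr, ← Fin.prod_univ_eq_prod_range (fun j => extend' c j ^ T.cartan j s) D.rank]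
  exact Finset.prod_congr rfl fun j _ => by simp [extend', Units.val_zpow_eq_zpow_val]

variable (K : FullCert D T)
include K

/-- An element killed by a power of `r` that is fixed over the closure comes from the finite group. -/
theorem descend_coprime {F L : Type*} [Field F] [Fintype F] [Field L] [Algebra F L] (σ : L →+* L)
    (hσ : ∀ t, σ t = t ^ Fintype.card F) {Mi : Matrix (Fin D.rank) (Fin D.rank) ℤ} {e : ℕ}
    (hMi : Mi * cartanMat D T = Matrix.diagonal fun _ => ((e : ℕ) : ℤ)) {m : ℕ} (hme : Nat.Coprime e m)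
    {x : GL D.Idx L} (hx : x ∈ D.group L) (hfix : Matrix.GeneralLinearGroup.map σ x = x) (hxm : x ^ m = 1) :
    x ∈ (D.group F).map (Matrix.GeneralLinearGroup.map (algebraMap F L)) := by
  have hι : ∀ t, σ t = t ↔ t ∈ (algebraMap F L).range := fun t => by rw [hσ, pow_card_fixed]
  rw [← fixedRoots_eq_map C σ (algebraMap F L) hι]
  obtain ⟨u, hu, v, hv, d, hd, hd', rfl⟩ := fixed_decomp C σ K hx hfix
  rw [← torusHom_range C] at hd
  obtain ⟨c, rfl⟩ := hd
  rw [map_torusHom C] at hd'
  have hpow : ∀ i, σ (((c i : Lˣ) : L) ^ e) = ((c i : Lˣ) : L) ^ e := by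
    intro i
    let d₀ : Fin D.rank → Lˣ := (fun i => Units.map σ.toMonoidHom (c i)) * c⁻¹
    have hk : d₀ ∈ (torusHom D T L).ker := by
      rw [MonoidHom.mem_ker, map_mul, hd', map_inv, mul_inv_cancel]
    rw [torusHom_ker C, MonoidHom.mem_ker] at hk
    have h2 : powHom (Mi * cartanMat D T) d₀ = 1 := by rw [powHom_mul, MonoidHom.comp_apply, hk, map_one]
    rw [hMi] at h2
    have h3 := congrFun h2 i
    rw [powHom_diagonal (fun _ => e)] at h3
    have h5 : Units.map σ.toMonoidHom (c i) ^ e = (c i) ^ e := by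
      have h6 : (Units.map σ.toMonoidHom (c i) * (c i)⁻¹) ^ e = 1 := h3
      rwa [mul_pow, inv_pow, mul_inv_eq_one] at h6
    have h4 := congrArg Units.val h5
    simpa [map_pow] using h4
  set d := torusHom D T L c with hd0
  have hde : d ^ e ∈ fixedRoots C σ := by
    rw [hd0, ← map_pow, torusHom_eq_prod C (c ^ e) List.nodup_range (fun i => List.mem_range.1)
      (fun i hi => List.mem_range.2 hi)]
    refine list_prod_mem fun y hy => ?_
    obtain ⟨i, hi, rfl⟩ := List.mem_map.1 hy
    have hi' := List.mem_range.1 hi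
    have ev : σ (extend' (c ^ e) i) = extend' (c ^ e) i := by
      simp only [extend', dif_pos hi', Pi.pow_apply, Units.val_pow_eq_pow_val]
      exact hpow _
    exact mul_mem (ng_mem_fixedRoots C σ ev) (ng_mem_fixedRoots C σ (by rw [map_neg, map_one]))
  have hnorm : ∀ g ∈ fixedRoots C σ, d * g * d⁻¹ ∈ fixedRoots C σ := by
    intro g hg
    refine conj_mem_closure ?_ hg
    rintro y ⟨s, t, ht, rfl⟩
    by_cases hs : s < D.nroots
    · rw [hd0, torusHom_conj_xg C c hs]
      refine xg_mem_fixedRoots C σ ?_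
      rw [map_mul, ht]
      congr 1
      refine Eq.trans ?_ (chr_eq_of_torusHom C hd' hs)
      simp only [chr, map_prod, map_zpow₀]
      refine Finset.prod_congr rfl fun j hj => ?_
      simp [extend', Finset.mem_range.1 hj]
    · rw [xg_out C hs, mul_one, mul_inv_cancel]; exact one_mem _
  have key : ∀ (k : ℕ), ∃ w ∈ fixedRoots C σ, (u * d * v) ^ k = w * d ^ k := by
    intro k
    induction k with
    | zero => exact ⟨1, one_mem _, by simp⟩
    | succ k ih =>
      obtain ⟨w, hw, e1⟩ := ih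
      refine ⟨u * (d * (v * w) * d⁻¹), mul_mem hu (hnorm _ (mul_mem hv hw)), ?_⟩
      rw [pow_succ', e1, pow_succ' d]; group
  have hxe : (u * d * v) ^ e ∈ fixedRoots C σ := by
    obtain ⟨w, hw, e1⟩ := key e
    rw [e1]; exact mul_mem hw hde
  have hx1 : u * d * v = ((u * d * v) ^ e) ^ (Nat.gcdA e m) := by
    rw [← zpow_natCast (u * d * v) e, ← zpow_mul]
    have hb := Nat.gcd_eq_gcd_ab e m
    rw [hme] at hb
    conv_lhs => rw [← zpow_one (u * d * v), show ((1 : ℤ)) = (e : ℤ) * Nat.gcdA e m + (m : ℤ) * Nat.gcdB e m from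
      by rw [← hb]; norm_num, zpow_add, zpow_mul (u * d * v) (m : ℤ), zpow_natCast (u * d * v) m, hxm, one_zpow, mul_one]
  rw [hx1]
  exact Subgroup.zpow_mem _ hxe _

set_option maxHeartbeats 800000 in
/-- A homocyclic subgroup from the eigenvectors. -/
theorem exists_homocyclic {F : Type*} [Field F] [Fintype F] {q : ℕ} (hF : Fintype.card F = q) {r v : ℕ}
    (hr : r.Prime) (hrq : ¬ r ∣ q) {Mi : Matrix (Fin D.rank) (Fin D.rank) ℤ} {e : ℕ}
    (hMi : Mi * cartanMat D T = Matrix.diagonal fun _ => ((e : ℕ) : ℤ)) (hre : ¬ r ∣ e) (hS : SylOK D T a S)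
    (hval : ((r ^ v : ℕ) : ℤ) ∣ S.val q) :
    ∃ φ : (Fin a → Multiplicative (ZMod (r ^ v))) →* ↥(D.group F), Function.Injective φ := by
  classical
  obtain ⟨p, hp⟩ := CharP.exists F
  obtain ⟨f, hprime, hq⟩ := FiniteField.card F p
  have := Fact.mk hprime
  let L := AlgebraicClosure F
  have : CharP L p := charP_of_injective_algebraMap (algebraMap F L).injective p
  set σ := iterateFrobenius L p (f : ℕ) with hσdef
  have hσ : ∀ x : L, σ x = x ^ Fintype.card F := fun x => by rw [hσdef, iterateFrobenius_def, hq]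
  have hm0 : r ^ v ≠ 0 := pow_ne_zero _ hr.ne_zero
  have : NeZero (r ^ v) := ⟨hm0⟩
  have : NeZero ((r ^ v : ℕ) : L) := ⟨fun h => by
    rw [CharP.cast_eq_zero_iff L p] at h
    have h1 := (Nat.prime_dvd_prime_iff_eq hprime hr).1 (hprime.dvd_of_dvd_pow h)
    subst h1
    exact hrq (by rw [← hF, hq]; exact dvd_pow_self p f.ne_zero)⟩
  obtain ⟨ζ, hζ⟩ := HasEnoughRootsOfUnity.exists_primitiveRoot L (r ^ v)
  let u : Lˣ := Units.mk0 ζ (hζ.ne_zero hm0)
  have hu : u ^ (r ^ v) = 1 := Units.ext (by simpa [u] using hζ.pow_eq_one)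
  let χ : Multiplicative (ZMod (r ^ v)) →* Lˣ :=
    { toFun := fun y => u ^ (Multiplicative.toAdd y).val
      map_one' := by simp
      map_mul' := fun x y => by
        rw [toAdd_mul, ZMod.val_add, ← pow_eq_pow_mod _ hu, pow_add] }
  have hχm : ∀ y, χ y ^ (r ^ v) = 1 := fun y => by
    show (u ^ _) ^ (r ^ v) = 1
    rw [← pow_mul, mul_comm, pow_mul, hu, one_pow]
  have hχinj : ∀ y, χ y = 1 → y = 1 := fun y hy => by
    have h1 : ζ ^ (Multiplicative.toAdd y).val = 1 := by simpa [u, χ] using congrArg Units.val hy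
    have h2 := Nat.eq_zero_of_dvd_of_lt (hζ.dvd_of_pow_eq_one _ h1) (ZMod.val_lt _)
    exact toAdd_eq_zero.1 ((ZMod.val_eq_zero _).1 h2)
  let ψ : (Fin a → Multiplicative (ZMod (r ^ v))) →* (Fin D.rank → Lˣ) :=
    { toFun := fun y j => ∏ i, χ (y i) ^ S.xval q i j
      map_one' := funext fun j => by simp
      map_mul' := fun x y => funext fun j => by simp [mul_zpow, Finset.prod_mul_distrib] }
  have hψm : ∀ y, ψ y ^ (r ^ v) = 1 := fun y => funext fun j => by
    show (∏ i, χ (y i) ^ S.xval q i j) ^ (r ^ v) = 1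
    rw [← Finset.prod_pow]
    refine Finset.prod_eq_one fun i _ => ?_
    rw [← zpow_natCast, ← zpow_mul, mul_comm, zpow_mul, zpow_natCast, hχm, one_zpow]
  have hchr : ∀ y s, uchr C (ψ y) s = ∏ i, χ (y i) ^ S.bval T q i s := by
    intro y s
    show ∏ j : Fin D.rank, (∏ i, χ (y i) ^ S.xval q i j) ^ T.cartan j s = _
    have e1 : ∀ j : Fin D.rank, (∏ i : Fin a, χ (y i) ^ S.xval q i j) ^ T.cartan j s =
        ∏ i : Fin a, χ (y i) ^ (S.xval q i j * T.cartan j s) := fun j => by
      rw [← zpowGroupHom_apply (α := Lˣ), map_prod]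
      exact Finset.prod_congr rfl fun i _ => by rw [zpowGroupHom_apply, zpow_mul]
    rw [Finset.prod_congr rfl fun j _ => e1 j]
    rw [Finset.prod_comm]
    refine Finset.prod_congr rfl fun i _ => ?_
    rw [bval_eq C, ← Fin.sum_univ_eq_sum_range (fun j => S.xval q i j * T.cartan j s) D.rank]
    induction (Finset.univ : Finset (Fin D.rank)) using Finset.induction with
    | empty => simp
    | insert b t hb ih => rw [Finset.prod_insert hb, Finset.sum_insert hb, zpow_add, ih]
  have hstep : ∀ y, ∀ s < D.nroots, uchr C (ψ y) (wperm T S.w s) = uchr C (ψ y) s ^ q := by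
    intro y s hs
    rw [hchr, hchr, ← Finset.prod_pow]
    refine Finset.prod_congr rfl fun i _ => ?_
    rw [bval_step C hS q i.2 hs, zpow_sub, mul_comm (q : ℤ), zpow_mul _ _ (q : ℤ), zpow_natCast]
    obtain ⟨k, hk⟩ := hval
    rw [hk, show S.bc T i s (S.phi.length - 1) * (((r ^ v : ℕ) : ℤ) * k) =
      ((r ^ v : ℕ) : ℤ) * (S.bc T i s (S.phi.length - 1) * k) by ring, zpow_mul, zpow_natCast, hχm, one_zpow,
      inv_one, mul_one]
  have hinj : ∀ y, torusHom D T L (ψ y) = 1 → y = 1 := by
    intro y hy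
    have hk : ψ y ∈ (torusHom D T L).ker := hy
    rw [torusHom_ker C, MonoidHom.mem_ker] at hk
    have h2 : powHom (Mi * cartanMat D T) (ψ y) = 1 := by rw [powHom_mul, MonoidHom.comp_apply, hk, map_one]
    rw [hMi] at h2
    have hone : ψ y = 1 := funext fun j => by
      have h3 := congrFun h2 j
      rw [powHom_diagonal (fun _ => e)] at h3
      have h5 : (ψ y) j ^ (r ^ v) = 1 := congrFun (hψm y) j
      have h4 := pow_gcd_eq_one.2 ⟨h3, h5⟩
      rwa [(Nat.Coprime.pow_right v ((hr.coprime_iff_not_dvd.2 hre).symm)).gcd_eq_one, pow_one] at h4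
    funext i
    refine hχinj _ ?_
    have h4 := congrFun hone ⟨nth 0 S.piv i, hS.piv_lt i i.2⟩
    change ∏ i', χ (y i') ^ S.xval q i' (nth 0 S.piv i) = 1 at h4
    rw [Finset.prod_eq_single i (fun i' _ hne => ?_) (by simp)] at h4
    · rwa [show S.xval q i (nth 0 S.piv i) = 1 by
        rw [SylTor.xval, Finset.sum_eq_single 0
          (fun k hk hk0 => by rw [hS.unit i i.2 i i.2 k (Finset.mem_range.1 hk), if_neg (by simp [hk0]), zero_mul])
          (fun h => absurd (Finset.mem_range.2 hS.len_pos) h), hS.unit i i.2 i i.2 0 hS.len_pos, if_pos ⟨rfl, rfl⟩,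
          pow_zero, one_mul], zpow_one] at h4
    · rw [show S.xval q i' (nth 0 S.piv i) = 0 from Finset.sum_eq_zero fun k hk => by
        rw [hS.unit i i.2 i' i'.2 k (Finset.mem_range.1 hk), if_neg (fun h => hne (Fin.ext h.1)), zero_mul], zpow_zero]
  set n := wnu C L S.w with hn
  obtain ⟨g, hg, hgn⟩ := lang_chev C K (p := p) (f := (f : ℕ)) (by rw [← hq]; exact Fintype.one_lt_card)
    (1 : GL D.Idx L) (fun x hx => by simpa using hx) (monomial_le_group C (wnu_mem C hS.isWord) : n ∈ D.group L)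
  have hσg : Matrix.GeneralLinearGroup.map σ g = g * n := by
    rw [← hgn, hσdef]; group
  let Ψ : (Fin a → Multiplicative (ZMod (r ^ v))) →* GL D.Idx L :=
    (MulAut.conj g).toMonoidHom.comp ((torusHom D T L).comp ψ)
  have hΨinj : Function.Injective Ψ := by
    rw [injective_iff_map_eq_one]
    intro y hy
    exact hinj y ((MulAut.conj g).map_eq_one_iff.1 hy)
  let ι := Matrix.GeneralLinearGroup.map (n := D.Idx) (algebraMap F L)
  have hmem : ∀ y, Ψ y ∈ (D.group F).map ι := by
    intro y
    have hG : torusHom D T L (ψ y) ∈ D.group L :=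
      monomial_le_group C (diag_le_monomial C (by rw [← torusHom_range C]; exact ⟨_, rfl⟩))
    refine descend_coprime C K σ hσ hMi (m := r ^ v)
      (Nat.Coprime.pow_right v ((hr.coprime_iff_not_dvd.2 hre).symm))
      (mul_mem (mul_mem hg hG) (inv_mem hg)) ?_ ?_
    · show Matrix.GeneralLinearGroup.map σ (g * torusHom D T L (ψ y) * g⁻¹) = _
      obtain ⟨e', he', hchr'⟩ := torus_word_conj C hS.isWord (fun i => Units.map σ.toMonoidHom (ψ y i))
      have hnh : n * Matrix.GeneralLinearGroup.map σ (torusHom D T L (ψ y)) * n⁻¹ = torusHom D T L (ψ y) := by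
        rw [map_torusHom C, he']
        refine torusHom_congr fun s hs => ?_
        have hs' := wperm_lt C hS.isWord.reverse hs
        have hrev := wperm_reverse C hS.isWord.reverse hs
        rw [List.reverse_reverse] at hrev
        rw [← hrev, hchr' _ hs', ← coe_uchr C, ← coe_uchr C, hstep y _ hs', Units.val_pow_eq_pow_val, ← hF, ← hσ,
          coe_uchr C, coe_uchr C]
        simp only [chr, map_prod, map_zpow₀]
        refine Finset.prod_congr rfl fun j hj => ?_
        simp [extend', Finset.mem_range.1 hj]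
      rw [map_mul, map_mul, map_inv, hσg]
      calc g * n * Matrix.GeneralLinearGroup.map σ (torusHom D T L (ψ y)) * (g * n)⁻¹ =
          g * (n * Matrix.GeneralLinearGroup.map σ (torusHom D T L (ψ y)) * n⁻¹) * g⁻¹ := by group
        _ = _ := by rw [hnh]; rfl
    · show Ψ y ^ (r ^ v) = 1
      rw [← map_pow, show y ^ (r ^ v) = 1 from funext fun i => toAdd_eq_zero.1 (by simp), map_one]
  have hrangele : Ψ.range ≤ (D.group F).map ι := by rintro _ ⟨y, rfl⟩; exact hmem y
  let E := Subgroup.equivMapOfInjective (D.group F) ι (map_gl_injective _)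
  exact ⟨E.symm.toMonoidHom.comp (Ψ.codRestrict _ hmem), E.symm.injective.comp
    fun x y h => hΨinj (congrArg Subtype.val h)⟩

/-- Sylow subgroups are homocyclic when the group order has the right part. -/
theorem sylow_homocyclic {F : Type*} [Field F] [Fintype F] {q : ℕ} (hF : Fintype.card F = q) {r v : ℕ}
    [hr : Fact r.Prime] (hrq : ¬ r ∣ q) {Mi : Matrix (Fin D.rank) (Fin D.rank) ℤ} {e : ℕ}
    (hMi : Mi * cartanMat D T = Matrix.diagonal fun _ => ((e : ℕ) : ℤ)) (hre : ¬ r ∣ e) (hS : SylOK D T a S)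
    (hval : ((r ^ v : ℕ) : ℤ) ∣ S.val q) (hord : (Nat.card ↥(D.group F)).factorization r = a * v)
    (P : Sylow r ↥(D.group F)) :
    Nonempty (↥(P : Subgroup ↥(D.group F)) ≃* (Fin a → Multiplicative (ZMod (r ^ v)))) := by
  obtain ⟨φ, hφ⟩ := exists_homocyclic C K hF hr.out hrq hMi hre hS hval
  have : NeZero (r ^ v) := ⟨pow_ne_zero _ hr.out.ne_zero⟩
  have hc : Nat.card ↥φ.range = r ^ (Nat.card ↥(D.group F)).factorization r := by
    rw [Nat.card_congr (MonoidHom.ofInjective hφ).toEquiv.symm, Nat.card_pi, hord, Finset.prod_const,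
      Finset.card_univ, Fintype.card_fin, Nat.card_congr (Multiplicative.toAdd), Nat.card_zmod, ← pow_mul, mul_comm]
  let Q := Sylow.ofCard φ.range hc
  exact ⟨(Sylow.equiv P Q).trans (MonoidHom.ofInjective hφ).symm⟩

end Cfsg.Lib.Chev
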