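import Cfsg.Agent.Lib.Chev.TwF4Collect

/-!
A checker of reduction trees for involutions in the positive unipotent group of type F4 in characteristic two.
-/

set_option autoImplicit false
set_option maxRecDepth 100000

namespace Cfsg.Lib.Chev

/-- Monomials: sorted lists of variables. Polynomials: lists of monomials modulo two. -/
abbrev FPoly := List (List ℕ)

/-- Insert a variable into a monomial. -/
def fmIns (x : ℕ) : List ℕ → List ℕ
  | [] => [x]
  | y :: l => if Nat.ble x y then x :: y :: l else y :: fmIns x l

/-- The product of monomials. -/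
def fmMul (a b : List ℕ) : List ℕ := a.foldr fmIns b

/-- Add a monomial. -/
def fpTog (m : List ℕ) : FPoly → FPoly
  | [] => [m]
  | x :: p => if x == m then p else x :: fpTog m p

/-- The sum of polynomials. -/
def fpAdd (p q : FPoly) : FPoly := p.foldr fpTog q

/-- The product of polynomials. -/
def fpMul (p q : FPoly) : FPoly := p.foldr (fun a r => q.foldr (fun b r => fpTog (fmMul a b) r) r) []

/-- The powers of a polynomial. -/
def fpPow (p : FPoly) : ℕ → FPoly
  | 0 => [[]]
  | n + 1 => fpMul p (fpPow p n)

/-- Symbolic insertion. -/
def fpIns : ℕ → ℕ → FPoly → ℕ → List FPoly → List FPoly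
  | 0, _, _, _, l => l
  | _, _, _, _, [] => []
  | n + 1, i, a, j, b :: l =>
    if a.isEmpty then b :: l else
    if i = j then fpAdd a b :: l
    else b :: fpIns n i a (j + 1) (if b.isEmpty then l else
      ((fS i j).foldr (fun c l => fpIns n c.1 (fpMul (fpPow b c.2.1) (fpPow a c.2.2)) (j + 1) l) l))

/-- Symbolic normal form. -/
def fpNf : List (ℕ × FPoly) → List FPoly
  | [] => List.replicate 24 []
  | (i, a) :: w => fpIns 24 i a 0 (fpNf w)

/-- Steps of a reduction. -/
inductive FOp where
  | leaf
  | one
  | sq (x : ℕ) (ch : List (ℕ × ℕ))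
  | kill (q r k c : ℕ)
  | refl (i c : ℕ)
  | split (r c₀ c₁ : ℕ)

/-- A node: the possible support, the certain support, and the step. -/
abbrev FNode := ℕ × ℕ × FOp

/-- The roots in the support. -/
def fSupp (S : ℕ) : List ℕ := (List.range 24).filter (Nat.testBit S)

/-- The generic word of a support. -/
def fWord (S : ℕ) : List (ℕ × FPoly) := (fSupp S).map fun x => (x, [[x]])

/-- The generic normal form of a support. -/
def fVars (S : ℕ) : List FPoly := (List.range 24).map fun x => if S.testBit x then [[x]] else []

/-- The image of a simple reflection on the positions. -/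
noncomputable def fRefl (i x : ℕ) : ℕ := wperm tblF4 [i] (24 + x) - 24

/-- The earlier node `c` covers the symbolic values `y`, position `skip` excepted. -/
def fCovers (ns : List FNode) (c skip : ℕ) (N : ℕ) (y : List FPoly) : Bool :=
  match ns[c]? with
  | none => false
  | some (S', N', _) => (List.range 24).all fun x =>
      ((y.getD x []).isEmpty || S'.testBit x || Nat.beq x skip) &&
        (!N'.testBit x || ((y.getD x []).length == 1 && (y.getD x []).all fun mo => mo.length == 1 && mo.all fun v => Nat.blt v 24 && N.testBit v))

/-- One node is correct, given the earlier ones. -/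
noncomputable def fNodeOk (ns : List FNode) : FNode → Bool
  | (S, N, .leaf) => Nat.beq S N && ([8388608, 1048576, 9437184, 2129920].contains S)
  | (S, _, .one) => Nat.beq S 0
  | (S, N, .sq x ch) =>
      match (fpNf (fWord S ++ fWord S)).getD x [] with
      | [mo] => mo.all (fun v => Nat.blt v 24 && (N.testBit v || ch.any fun p => Nat.beq p.1 v)) &&
          ch.all fun p => fCovers ns p.2 p.1 N (fVars S)
      | _ => false
  | (S, N, .kill q r k c) =>
      let y := fpNf ((q, [[24]]) :: fWord S ++ [(q, [[24]])])
      Nat.blt q 24 && Nat.blt r 24 &&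
      (match y.getD r [] with
        | [m₁, m₂] =>
            let d := if m₁ == [r] then m₂ else m₁
            (m₁ == [r] || m₂ == [r]) && Nat.beq (d.filter fun v => Nat.beq v 24).length (2 ^ k) &&
              d.all fun v => Nat.beq v 24 || (Nat.blt v 24 && N.testBit v)
        | _ => false) &&
      fCovers ns c r N y
  | (S, N, .refl i c) =>
      Nat.blt i 4 && (fSupp S).all (fun x => Nat.ble 24 (wperm tblF4 [i] (24 + x)) && Nat.blt (wperm tblF4 [i] (24 + x)) 48) &&
      fCovers ns c 24 N (fpNf ((fSupp S).map fun x => (fRefl i x, [[x]])))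
  | (S, N, .split r c₀ c₁) =>
      fCovers ns c₀ r N (fVars S) && fCovers ns c₁ 24 (N ||| 2 ^ r) (fVars S)

/-- The nodes from `lo` on, `len` of them, are correct. -/
noncomputable def fTreeOk (ns : List FNode) (lo len : ℕ) : Bool :=
  (List.range len).all fun k => match ns[lo + k]? with
    | none => true
    | some nd => fNodeOk (ns.take (lo + k)) nd

end Cfsg.Lib.Chev
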