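import Cfsg.Agent.Lib.Chev.PairCentral
import Cfsg.Agent.Lib.Chev.FullF4

/-!
The centralisers of the two mixed classes of involutions of F4 in characteristic two.
-/

set_option autoImplicit false
set_option maxRecDepth 100000
set_option linter.unusedSectionVars false

namespace Cfsg.Lib.Chev

open Cfsg.Lie

/-- Commuting roots in characteristic two. -/
noncomputable abbrev f4c (r s : ℕ) : Bool := oddIn chevF4 tblF4 (fun _ => false) r s

/-- The six roots of the commuting part. -/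
def f4L6 : List ℕ := [39, 45, 40, 44, 46, 47]

/-- The four roots of the complement. -/
def f4L4 : List ℕ := [27, 34, 25, 26]

/-- The positive roots outside the four and the two simple ones. -/
def f4P18 (r : ℕ) : Bool := decide (24 ≤ r ∧ r < 48 ∧ r ∉ ([27, 25, 34, 26, 33, 24] : List ℕ))

/-- The positive roots outside the two simple ones. -/
def f4P22 (r : ℕ) : Bool := decide (24 ≤ r ∧ r < 48 ∧ r ∉ ([33, 24] : List ℕ))

/-- The moves of the commuting part: `(s, r, k)`. -/
def f4Moves : List (ℕ × ℕ × ℕ) :=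
  [(27, 39, 40), (34, 39, 44), (25, 45, 46), (26, 45, 47), (33, 40, 44), (24, 46, 47)]

theorem f4L6_nodup : f4L6.Nodup := by decide
theorem f4L6_pos : ∀ r ∈ f4L6, chevF4.nroots / 2 ≤ r ∧ r < chevF4.nroots := by decide
theorem f4L6_comm : ∀ a ∈ f4L6, ∀ b ∈ f4L6, f4c a b = true := by decide +kernel

theorem f4_rows : ∀ p ∈ f4Moves, oddTerms tblF4 p.2.1 p.1 = [(p.2.2, 1, 1)] ∧ p.1 ≠ p.2.1 ∧
    p.1 ≠ tblF4.neg p.2.1 ∧ p.2.1 ∈ f4L6 ∧ p.2.2 ∈ f4L6 ∧ p.2.1 ≠ p.2.2 ∧
    (∀ x ∈ f4L6, x ≠ p.2.1 → f4c x p.1 = true) := by decide +kernel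

theorem f4_others : ∀ s < 48, 24 ≤ s → s ∉ f4Moves.map Prod.fst → ∀ x ∈ f4L6, f4c x s = true := by decide +kernel

theorem f4_P18_conj4 : ∀ s ∈ f4L4, ∀ r < 48, f4P18 r = true → oddIn chevF4 tblF4 f4P18 r s = true := by
  decide +kernel

theorem f4_four : ∀ r ∈ f4L4, ∀ s ∈ f4L4, oddIn chevF4 tblF4 f4P18 r s = true := by decide +kernel

theorem f4_P22_conj2 : ∀ s ∈ [33, 24], ∀ r < 48, f4P22 r = true → oddIn chevF4 tblF4 f4P22 r s = true := by
  decide +kernel

theorem f4_cent_v : ∀ s < 48, s ∈ [33, 14, 24, 23] ∨ (24 ≤ s ∧ s ∉ [27, 25, 34, 26]) →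
    f4c 39 s = true ∧ f4c 45 s = true := by decide +kernel

theorem f4_cent_w : ∀ s < 48, s ∈ [20, 22] ∨ 24 ≤ s → f4c 47 s = true ∧ f4c 44 s = true := by decide +kernel

/-- The pairings of two quadruples agree. -/
noncomputable def f4SamePair (p q : List ℕ) : Bool :=
  (List.range 4).all fun i => (List.range 4).all fun j =>
    decide (corPair tblF4 (p.getD i 0) (p.getD j 0) = corPair tblF4 (q.getD i 0) (q.getD j 0))

/-- No word moves the quadruple as required. -/
noncomputable def f4Stuck (r s : ℕ) : Bool :=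
  f4L6.all fun a => f4L6.all fun b => f4L6.all fun c => (List.range 24).all fun d =>
    !(f4SamePair [39, 45, r, s] [a, b, c, d])

theorem f4_stuck : f4Stuck 40 27 = true ∧ f4Stuck 44 34 = true ∧ f4Stuck 46 25 = true ∧ f4Stuck 47 26 = true := by
  decide +kernel

/-- The roots `a` and `b` are not exchanged by a word. -/
noncomputable def f4NoSwap (a b : ℕ) : Bool :=
  (List.range 48).any fun s => (List.range 48).all fun s' =>
    !(decide (corPair tblF4 a s = corPair tblF4 b s') && decide (corPair tblF4 s a = corPair tblF4 s' b))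

theorem f4_noswap : f4NoSwap 39 45 = true ∧ f4NoSwap 47 44 = true := by decide +kernel

theorem f4_cart_sums : ∀ j < 4, tblF4.cartan j 34 = tblF4.cartan j 27 + tblF4.cartan j 33 ∧
    tblF4.cartan j 26 = tblF4.cartan j 25 + tblF4.cartan j 24 := by decide +kernel

theorem f4_neg_sum : ∀ a < 24, ∀ b < 24, ∀ c < 48,
    (∀ j < 4, tblF4.cartan j c = tblF4.cartan j a + tblF4.cartan j b) → c < 24 := by decide +kernel

theorem f4_node_v : ∀ k < 4, (∀ β < 48, 2 * β < 48 → ∃ θ ∈ [39, 45],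
    corPair tblF4 θ β ≠ corPair tblF4 θ (tblF4.simp' k)) ∨ (k ∈ [0, 3] ∧ ∀ θ ∈ [39, 45], tblF4.refl' k θ = θ) := by
  decide +kernel

theorem f4_node_w : ∀ k < 4, (∀ β < 48, 2 * β < 48 → ∃ θ ∈ [47, 44],
    corPair tblF4 θ β ≠ corPair tblF4 θ (tblF4.simp' k)) ∨ (k ∈ [1, 2] ∧ ∀ θ ∈ [47, 44], tblF4.refl' k θ = θ) := by
  decide +kernel

theorem f4_simp : [tblF4.simp' 0, tblF4.simp' 1, tblF4.simp' 2, tblF4.simp' 3] = [33, 27, 25, 24] ∧
    [tblF4.neg 33, tblF4.neg 27, tblF4.neg 25, tblF4.neg 24] = [14, 20, 22, 23] := by decide +kernel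

theorem f4_chr_vals : [47, 44, 39, 45].map (fun r => (List.range 4).map fun j => tblF4.cartan j r) =
    [[0, 0, 0, 1], [1, 0, 0, 0], [0, -1, 1, 0], [0, 2, -1, 0]] := by decide +kernel

variable {F : Type*} [Field F] [CharP F 2]

/-- The parameters of the commuting part. -/
def f4Phi (a b c d : F) (r : ℕ) : F :=
  if r = 40 then a else if r = 44 then b else if r = 46 then c else if r = 47 then d else 1

/-- The element `x₃₉(1) x₄₅(1)` times a part in the four highest. -/
noncomputable def f4V (a b c d : F) : GL chevF4.Idx F := lprod certF4 f4L6 (f4Phi a b c d)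

theorem f4V_zero : (f4V 0 0 0 0 : GL chevF4.Idx F) = xg certF4 39 1 * xg certF4 45 1 := by
  simp [f4V, f4L6, lprod, f4Phi, xg_zero]

/-- The parameters after a conjugation by a positive root element. -/
def f4Next (s : ℕ) (t : F) (p : F × F × F × F) : F × F × F × F :=
  if s = 27 then (p.1 + t, p.2) else if s = 34 then (p.1, p.2.1 + t, p.2.2)
  else if s = 25 then (p.1, p.2.1, p.2.2.1 + t, p.2.2.2) else if s = 26 then (p.1, p.2.1, p.2.2.1, p.2.2.2 + t)
  else if s = 33 then (p.1, p.2.1 + p.1 * t, p.2.2) else if s = 24 then (p.1, p.2.1, p.2.2.1, p.2.2.2 + p.2.2.1 * t)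
  else p

set_option maxHeartbeats 2000000 in
theorem f4V_conj {s : ℕ} (hs : s < 48) (hp : 24 ≤ s) (t a b c d : F) :
    xg certF4 s t * f4V a b c d = f4V (f4Next s t (a, b, c, d)).1 (f4Next s t (a, b, c, d)).2.1
      (f4Next s t (a, b, c, d)).2.2.1 (f4Next s t (a, b, c, d)).2.2.2 * xg certF4 s t := by
  by_cases h : s ∈ f4Moves.map Prod.fst
  · obtain ⟨⟨s', r, k⟩, hm, rfl⟩ := List.mem_map.1 h
    obtain ⟨h1, h2, h3, h4, h5, h6, h7⟩ := f4_rows _ hm
    rw [f4V, lprod_move certF4 fullCertF4 f4L6_nodup f4L6_comm h4 h5 h6 h2 h3 (f4L6_pos _ h4).2 hs h1 h7, f4V]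
    congr 1
    refine lprod_congr _ fun x hx => ?_
    simp only [f4Moves, List.mem_cons, List.not_mem_nil, or_false, Prod.mk.injEq] at hm
    simp only [f4L6, List.mem_cons, List.not_mem_nil, or_false] at hx
    rcases hm with ⟨rfl, rfl, rfl⟩ | ⟨rfl, rfl, rfl⟩ | ⟨rfl, rfl, rfl⟩ | ⟨rfl, rfl, rfl⟩ | ⟨rfl, rfl, rfl⟩ |
        ⟨rfl, rfl, rfl⟩ <;>
      rcases hx with rfl | rfl | rfl | rfl | rfl | rfl <;> simp [f4Phi, f4Next, Function.update]
  · have hne : ∀ m ∈ [27, 34, 25, 26, 33, 24], s ≠ m := fun m hm e => h (e ▸ by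
      revert hm; simp [f4Moves])
    have e : f4Next s t (a, b, c, d) = (a, b, c, d) := by simp [f4Next, hne]
    rw [e]
    exact (lprod_commute certF4 fullCertF4 (fun x hx => f4_others s hs hp h x hx) _ t).eq

/-- The conjugates of the representative under the positive part. -/
theorem f4V_orbit {c : GL chevF4.Idx F} {w : List ℕ} (hw : IsWord chevF4 w) {neg : Bool}
    (hc : c ∈ signPart certF4 fullCertF4 F w neg (chevF4.nroots / 2)) :
    ∀ a b c' d : F, ∃ a' b' c'' d' : F, c * f4V a b c' d = f4V a' b' c'' d' * c ∧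
      (neg = true → (a = 0 ∨ wperm tblF4 w 27 < 24) → (b = 0 ∨ wperm tblF4 w 34 < 24) →
        (c' = 0 ∨ wperm tblF4 w 25 < 24) → (d = 0 ∨ wperm tblF4 w 26 < 24) →
        (a' = 0 ∨ wperm tblF4 w 27 < 24) ∧ (b' = 0 ∨ wperm tblF4 w 34 < 24) ∧
        (c'' = 0 ∨ wperm tblF4 w 25 < 24) ∧ (d' = 0 ∨ wperm tblF4 w 26 < 24)) := by
  have step : ∀ (r : ℕ) (t : F), chevF4.nroots / 2 ≤ r → r < chevF4.nroots →
      decide (2 * wperm tblF4 w r < chevF4.nroots) = neg → ∀ a b c' d : F, ∃ a' b' c'' d' : F,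
      xg certF4 r t * f4V a b c' d = f4V a' b' c'' d' * xg certF4 r t ∧
      (neg = true → (a = 0 ∨ wperm tblF4 w 27 < 24) → (b = 0 ∨ wperm tblF4 w 34 < 24) →
        (c' = 0 ∨ wperm tblF4 w 25 < 24) → (d = 0 ∨ wperm tblF4 w 26 < 24) →
        (a' = 0 ∨ wperm tblF4 w 27 < 24) ∧ (b' = 0 ∨ wperm tblF4 w 34 < 24) ∧
        (c'' = 0 ∨ wperm tblF4 w 25 < 24) ∧ (d' = 0 ∨ wperm tblF4 w 26 < 24)) := by
    intro r t hr1 hr2 hr3 a b c' d
    have h24 : 24 ≤ r := hr1
    refine ⟨_, _, _, _, f4V_conj hr2 h24 t a b c' d, fun hn ha hb hc'' hd => ?_⟩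
    subst hn
    have hneg : wperm tblF4 w r < 24 := by
      have := of_decide_eq_true hr3
      have e : chevF4.nroots = 48 := rfl
      omega
    have hsum : ∀ x y z : ℕ, x < 48 → y < 48 → z < 48 →
        (∀ j < 4, tblF4.cartan j z = tblF4.cartan j x + tblF4.cartan j y) →
        wperm tblF4 w x < 24 → wperm tblF4 w y < 24 → wperm tblF4 w z < 24 := fun x y z hx hy hz h h1 h2 =>
      f4_neg_sum _ h1 _ h2 _ (wperm_lt certF4 hw hz) (wperm_cartan certF4 hw hx hy hz h)
    unfold f4Next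
    split_ifs with e1 e2 e3 e4 e5 e6 <;> refine ⟨?_, ?_, ?_, ?_⟩ <;> subst_vars <;>
      first | assumption | exact Or.inr hneg | skip
    · rcases ha with ha | ha
      · rcases hb with hb | hb
        · exact Or.inl (by simp [ha, hb])
        · exact Or.inr hb
      · exact Or.inr (hsum 27 33 34 (by norm_num) (by norm_num) (by norm_num) (fun j hj => (f4_cart_sums j hj).1) ha hneg)
    · rcases hc'' with hc'' | hc''
      · rcases hd with hd | hd
        · exact Or.inl (by simp [hc'', hd])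
        · exact Or.inr hd
      · exact Or.inr (hsum 25 24 26 (by norm_num) (by norm_num) (by norm_num) (fun j hj => (f4_cart_sums j hj).2) hc'' hneg)
  induction hc using Subgroup.closure_induction'' with
  | mem x hx =>
    obtain ⟨r, t, h1, h2, h3, rfl⟩ := hx
    exact step r t h1 h2 h3
  | inv_mem x hx =>
    obtain ⟨r, t, h1, h2, h3, rfl⟩ := hx
    rw [xg_inv]
    exact step r (-t) h1 h2 h3
  | one => exact fun a b c d => ⟨a, b, c, d, by simp, fun _ h1 h2 h3 h4 => ⟨h1, h2, h3, h4⟩⟩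
  | mul x y _ _ ihx ihy =>
    intro a b c d
    obtain ⟨a1, b1, c1, d1, e1, g1⟩ := ihy a b c d
    obtain ⟨a2, b2, c2, d2, e2, g2⟩ := ihx a1 b1 c1 d1
    refine ⟨a2, b2, c2, d2, by rw [mul_assoc, e1, ← mul_assoc, e2, mul_assoc], fun hn h1 h2 h3 h4 => ?_⟩
    obtain ⟨k1, k2, k3, k4⟩ := g1 hn h1 h2 h3 h4
    exact g2 hn k1 k2 k3 k4

/-- The group generated by the root elements centralising the second representative. -/
noncomputable def f4Wv (F : Type*) [Field F] : Subgroup (GL chevF4.Idx F) :=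
  rootGen F certF4 fun r => decide (r ∈ [33, 14, 24, 23] ∨ (24 ≤ r ∧ r < 48 ∧ r ∉ [27, 25, 34, 26]))

theorem f4Wv_mem {r : ℕ} (h : r ∈ [33, 14, 24, 23] ∨ (24 ≤ r ∧ r < 48 ∧ r ∉ [27, 25, 34, 26])) (t : F) :
    xg certF4 r t ∈ f4Wv F := by
  refine xg_mem_rootGen _ ?_ (decide_eq_true h) t
  show r < 48
  rcases h with h | h
  · simp only [List.mem_cons, List.not_mem_nil, or_false] at h
    omega
  · exact h.2.1

theorem f4Wv_commute {g : GL chevF4.Idx F} (hg : g ∈ f4Wv F) : Commute g (f4V 0 0 0 0) := by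
  induction hg using Subgroup.closure_induction with
  | mem x hx =>
    obtain ⟨r, t, hr, hP, rfl⟩ := hx
    have h := f4_cent_v r hr ((of_decide_eq_true hP).imp id fun h => ⟨h.1, h.2.2⟩)
    rw [f4V_zero]
    exact ((xg_commute_odd certF4 fullCertF4 h.1 1 t).symm).mul_right (xg_commute_odd certF4 fullCertF4 h.2 1 t).symm
  | one => exact Commute.one_left _
  | mul x y _ _ hx hy => exact hx.mul_left hy
  | inv x _ hx => exact hx.inv_left

/-- The kernel of the action of the positive part on the representative. -/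
theorem f4V_kernel {g : GL chevF4.Idx F} (hg : g ∈ chevF4.posUnipotent F) (hc : Commute g (f4V 0 0 0 0)) :
    g ∈ f4Wv F := by
  have h18 : ∀ r, f4P18 r = true → r < chevF4.nroots := fun r h => (of_decide_eq_true h).2.1
  have h22 : ∀ r, f4P22 r = true → r < chevF4.nroots := fun r h => (of_decide_eq_true h).2.1
  have hN : rootGen F certF4 f4P18 ≤ f4Wv F := (Subgroup.closure_le _).2 fun x ⟨r, t, hr, hP, e⟩ => by
    obtain ⟨h1, h2, h3⟩ := of_decide_eq_true hP
    exact e ▸ f4Wv_mem (Or.inr ⟨h1, h2, fun h => h3 (by revert h; simp; tauto)⟩) t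
  set R := rootGen F certF4 f4P22 with hR
  set P2 := rootGen F certF4 (fun r => decide (r ∈ [33, 24])) with hP2
  have hnorm : P2 ≤ Subgroup.normalizer (R : Set (GL chevF4.Idx F)) := by
    refine (Subgroup.closure_le _).2 ?_
    rintro x ⟨s, u, hs, hsP, rfl⟩
    have hs2 : s ∈ [33, 24] := of_decide_eq_true hsP
    rw [SetLike.mem_coe, Subgroup.mem_normalizer_iff]
    refine fun y => ⟨fun hy => xg_conj_rootGen certF4 fullCertF4 h22 (fun r hr => f4_P22_conj2 s hs2 r (h22 r hr) hr) u hy,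
      fun hy => ?_⟩
    have := xg_conj_rootGen certF4 fullCertF4 h22 (fun r hr => f4_P22_conj2 s hs2 r (h22 r hr) hr) (-u) hy
    rw [← xg_inv] at this
    simpa [mul_assoc] using this
  have hU : g ∈ ((R ⊔ P2 : Subgroup (GL chevF4.Idx F)) : Set (GL chevF4.Idx F)) := by
    rw [posUnipotent_eq certF4, upper] at hg
    refine (Subgroup.closure_le _).2 ?_ hg
    rintro x ⟨r, t, h1, h2, rfl⟩
    by_cases h : r ∈ [33, 24]
    · exact Subgroup.mem_sup_right (xg_mem_rootGen _ h2 (decide_eq_true h) t)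
    · exact Subgroup.mem_sup_left (xg_mem_rootGen _ h2 (decide_eq_true ⟨h1, h2, h⟩) t)
  rw [Subgroup.coe_mul_of_right_le_normalizer_left _ _ hnorm] at hU
  obtain ⟨r, hr, p, hp, rfl⟩ := Set.mem_mul.1 hU
  have hpW : p ∈ f4Wv F := by
    refine (Subgroup.closure_le _).2 ?_ hp
    rintro x ⟨s, u, _, hsP, rfl⟩
    have hs2 : s ∈ [33, 24] := of_decide_eq_true hsP
    refine f4Wv_mem (Or.inl ?_) u
    revert hs2; simp; tauto
  have hrc : Commute r (f4V 0 0 0 0) := by simpa using hc.mul_left (f4Wv_commute hpW).inv_left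
  -- `r` is a product over the four roots times a central part
  have hdec : ∀ y ∈ R, ∃ (s : ℕ → F) (z : GL chevF4.Idx F), z ∈ rootGen F certF4 f4P18 ∧ y = lprod certF4 f4L4 s * z := by
    have step : ∀ (q : ℕ) (u : F), f4P22 q = true → ∀ y, (∃ (s : ℕ → F) (z : GL chevF4.Idx F),
        z ∈ rootGen F certF4 f4P18 ∧ y = lprod certF4 f4L4 s * z) → ∃ (s : ℕ → F) (z : GL chevF4.Idx F),
        z ∈ rootGen F certF4 f4P18 ∧ xg certF4 q u * y = lprod certF4 f4L4 s * z := by
      rintro q u hq y ⟨s, z, hz, rfl⟩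
      by_cases h4 : q ∈ f4L4
      · obtain ⟨z', hz', e⟩ := lprod_ins certF4 fullCertF4 h18 (by decide) h4
          (fun r hr => ⟨f4_four r hr q h4, fun x hx => f4_P18_conj4 r hr x (h18 x hx) hx⟩) s u
        exact ⟨_, z' * z, mul_mem hz' hz, by rw [← mul_assoc, e, mul_assoc]⟩
      · have hq' : f4P18 q = true := by
          obtain ⟨a1, a2, a3⟩ := of_decide_eq_true hq
          exact decide_eq_true ⟨a1, a2, fun h => by revert h; simp [f4L4] at h4 ⊢; simp at a3; tauto⟩
        have hconj : ∀ l : List ℕ, (∀ x ∈ l, x ∈ f4L4) → ∀ w' ∈ rootGen F certF4 f4P18,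
            (lprod certF4 l s)⁻¹ * w' * lprod certF4 l s ∈ rootGen F certF4 f4P18 := by
          intro l
          induction l with
          | nil => intro _ w' hw'; simpa [lprod_nil] using hw'
          | cons x l ih =>
            intro hx w' hw'
            have h1 := xg_conj_rootGen certF4 fullCertF4 h18
              (fun y hy => f4_P18_conj4 x (hx x (List.mem_cons_self ..)) y (h18 y hy) hy) (-(s x)) hw'
            rw [← xg_inv, inv_inv] at h1
            have h2 := ih (fun y hy => hx y (List.mem_cons_of_mem _ hy)) _ h1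
            rw [lprod_cons]
            simpa [mul_assoc] using h2
        exact ⟨s, _, mul_mem (hconj _ (fun _ h => h) _ (xg_mem_rootGen _ (h22 q hq) hq' u)) hz, by group⟩
    intro y hy
    induction hy using Subgroup.closure_induction_left with
    | one => exact ⟨fun _ => 0, 1, one_mem _, by rw [lprod_zero, one_mul]⟩
    | mul_left x hx y _ ih =>
      obtain ⟨q, u, _, hq, rfl⟩ := hx
      exact step q u hq y ih
    | inv_mul_cancel x hx y _ ih =>
      obtain ⟨q, u, _, hq, rfl⟩ := hx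
      rw [xg_inv]
      exact step q (-u) hq y ih
  obtain ⟨s, z, hz, rfl⟩ := hdec r hr
  have hs0 : Commute (lprod certF4 f4L4 s) (f4V 0 0 0 0) := by
    simpa using hrc.mul_left (f4Wv_commute (hN hz)).inv_left
  have hval : lprod certF4 f4L4 s * f4V 0 0 0 0 = f4V (s 27) (s 34) (s 25) (s 26) * lprod certF4 f4L4 s := by
    simp only [lprod, f4L4, List.map_cons, List.map_nil, List.prod_cons, List.prod_nil, mul_one]
    have e26 := f4V_conj (F := F) (s := 26) (by norm_num) (by norm_num) (s 26) 0 0 0 0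
    have e25 := f4V_conj (F := F) (s := 25) (by norm_num) (by norm_num) (s 25) 0 0 0 (0 + s 26)
    have e34 := f4V_conj (F := F) (s := 34) (by norm_num) (by norm_num) (s 34) 0 0 (0 + s 25) (0 + s 26)
    have e27 := f4V_conj (F := F) (s := 27) (by norm_num) (by norm_num) (s 27) 0 (0 + s 34) (0 + s 25) (0 + s 26)
    simp [f4Next] at e26 e25 e34 e27
    simp only [mul_assoc]
    rw [e26, ← mul_assoc (xg certF4 25 (s 25)), e25, mul_assoc, ← mul_assoc (xg certF4 34 (s 34)), e34, mul_assoc,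
      ← mul_assoc (xg certF4 27 (s 27)), e27, mul_assoc]
  rw [hs0.eq] at hval
  have h := lprod_inj certF4 fullCertF4.comm f4L6_nodup f4L6_pos (mul_right_cancel hval)
  have h40 : (0 : F) = s 27 := by simpa [f4Phi] using h 40 (by simp [f4L6])
  have h44 : (0 : F) = s 34 := by simpa [f4Phi] using h 44 (by simp [f4L6])
  have h46 : (0 : F) = s 25 := by simpa [f4Phi] using h 46 (by simp [f4L6])
  have h47 : (0 : F) = s 26 := by simpa [f4Phi] using h 47 (by simp [f4L6])
  have hT : lprod certF4 f4L4 s = 1 := by simp [lprod, f4L4, ← h40, ← h44, ← h46, ← h47, xg_zero]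
  rw [hT, one_mul]
  exact mul_mem (hN hz) hpW

theorem f4_noswap_apply {a b : ℕ} (ha : a < 48) (hb : b < 48) (h : f4NoSwap a b = true) {w : List ℕ}
    (hw : IsWord chevF4 w) : wperm tblF4 w a ≠ b := by
  intro e
  simp only [f4NoSwap, List.any_eq_true, List.all_eq_true, List.mem_range, Bool.not_eq_true', Bool.and_eq_false_iff,
    decide_eq_false_iff_not] at h
  obtain ⟨s, hs, h⟩ := h
  rcases h _ (wperm_lt certF4 hw hs) with h | h <;> refine h ?_
  · have := corPair_wperm certF4 hw ha hs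
    rw [e] at this
    exact this.symm
  · have := corPair_wperm certF4 hw hs ha
    rw [e] at this
    exact this.symm

theorem f4_stuck_apply {r s : ℕ} (hr : r < 48) (hs : s < 48) (h : f4Stuck r s = true) {w : List ℕ}
    (hw : IsWord chevF4 w) (h39 : wperm tblF4 w 39 ∈ f4L6) (h45 : wperm tblF4 w 45 ∈ f4L6)
    (hwr : wperm tblF4 w r ∈ f4L6) : ¬ wperm tblF4 w s < 24 := by
  intro hn
  simp only [f4Stuck, List.all_eq_true, List.mem_range, Bool.not_eq_true'] at h
  have h' := h _ h39 _ h45 _ hwr _ hn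
  rw [Bool.eq_false_iff] at h'
  refine h' ?_
  simp only [f4SamePair, List.all_eq_true, List.mem_range, decide_eq_true_eq]
  intro i hi j hj
  have key := fun {x y : ℕ} (hx : x < 48) (hy : y < 48) => (corPair_wperm certF4 hw hx hy).symm
  interval_cases i <;> interval_cases j <;> exact key (by first | assumption | norm_num) (by first | assumption | norm_num)

theorem f4_chr (z : Fin chevF4.rank → Fˣ) {r : ℕ} :
    chr tblF4 chevF4 (extend' z) r = extend' z 0 ^ tblF4.cartan 0 r * extend' z 1 ^ tblF4.cartan 1 r *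
      extend' z 2 ^ tblF4.cartan 2 r * extend' z 3 ^ tblF4.cartan 3 r := by
  simp [chr, show chevF4.rank = 4 from rfl, Finset.prod_range_succ]

set_option maxHeartbeats 4000000 in
/-- The centraliser of `x₃₉(1) x₄₅(1)`. -/
theorem f4_cent_v_eq : chevF4.group F ⊓ Subgroup.centralizer {(f4V 0 0 0 0 : GL chevF4.Idx F)} = f4Wv F := by
  have hev := nroots_even (D := chevF4) certF4
  refine le_antisymm ?_ fun g hg => ⟨?_, Subgroup.mem_centralizer_iff.2 fun x hx => by
    rw [hx]; exact ((f4Wv_commute hg).eq).symm⟩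
  swap
  · refine (Subgroup.closure_le _).2 ?_ hg
    rintro x ⟨r, t, _, _, rfl⟩
    exact xg_mem_group certF4 r t
  rintro g ⟨hgG, hgc⟩
  have hgc : g * f4V 0 0 0 0 = f4V 0 0 0 0 * g := (Subgroup.mem_centralizer_iff.1 hgc _ rfl).symm
  obtain ⟨w, hw, bb, hbb, c, hc, rfl⟩ := bruhat_normal certF4 fullCertF4 hgG
  obtain ⟨u, hu, h, hh, rfl⟩ := (mem_borel certF4).1 hbb
  obtain ⟨a, b, c', d, ec, hcond⟩ := f4V_orbit hw hc 0 0 0 0
  obtain ⟨ha, hb', hc', hd⟩ := hcond rfl (Or.inl rfl) (Or.inl rfl) (Or.inl rfl) (Or.inl rfl)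
  obtain ⟨a', b', c'', d', eu, -⟩ := f4V_orbit (F := F) (w := []) (fun _ h => absurd h List.not_mem_nil)
    (neg := false) (c := u⁻¹) (by
      have hu' := inv_mem hu
      rw [posUnipotent_eq certF4] at hu'
      obtain ⟨p, hp, q, hq, e⟩ := upper_split certF4 fullCertF4 [] (chevF4.nroots / 2) (k := chevF4.nroots / 2)
        (by omega) (by omega) hu'
      have hq1 : q = 1 := by
        have hbot : signPart certF4 fullCertF4 F [] true (chevF4.nroots / 2) ≤ ⊥ :=
          (Subgroup.closure_le _).2 fun x ⟨r, t, h1, h2, h3, _⟩ => by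
            have := of_decide_eq_true h3
            simp [wperm] at this
            omega
        exact Subgroup.mem_bot.1 (hbot hq)
      rw [e, hq1, mul_one]; exact hp) 0 0 0 0
  set n := wnu certF4 F w with hn
  have key : h * (n * f4V a b c' d * n⁻¹) * h⁻¹ = f4V a' b' c'' d' := by
    have e1 : u * h * n * (f4V a b c' d * c) = f4V 0 0 0 0 * (u * h * n * c) := by
      rw [← ec]; simpa [mul_assoc] using hgc
    calc h * (n * f4V a b c' d * n⁻¹) * h⁻¹
        = u⁻¹ * (u * h * n * (f4V a b c' d * c)) * (c⁻¹ * n⁻¹ * h⁻¹) := by group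
      _ = u⁻¹ * f4V 0 0 0 0 * u := by rw [e1]; group
      _ = _ := by rw [eu, inv_mul_cancel_right]
  have hVU : ∀ φ : ℕ → F, lprod certF4 f4L6 φ ∈ chevF4.posUnipotent F := fun φ =>
    lprod_mem_pos certF4 (fun r hr => (f4L6_pos r hr).1) φ
  have hpos : n * f4V a b c' d * n⁻¹ ∈ chevF4.posUnipotent F := by
    have := (Subgroup.mem_normalizer_iff.1 (diag_le_normalizer certF4 hh) (n * f4V a b c' d * n⁻¹)).2
      (key ▸ hVU _)
    exact this
  classical
  set φ := f4Phi a b c' d with hφ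
  set l0 := f4L6.filter fun r => decide (φ r ≠ 0) with hl0
  have hl0m : ∀ r ∈ l0, r ∈ f4L6 ∧ φ r ≠ 0 := fun r hr => by simpa [hl0] using hr
  have himg : ∀ r ∈ l0, chevF4.nroots ≤ 2 * wperm tblF4 w r := fun r hr =>
    supp_pos certF4 fullCertF4 f4L6_nodup f4L6_pos f4L6_comm hw hpos (hl0m r hr).1 (hl0m r hr).2
  have hl0n : ∀ r ∈ l0, r < chevF4.nroots := fun r hr => (f4L6_pos r (hl0m r hr).1).2
  have hnd : (l0.map (wperm tblF4 w)).Nodup := (f4L6_nodup.filter _).map_on fun x hx y hy e =>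
    wperm_inj certF4 hw (hl0n x hx) (hl0n y hy) e
  obtain ⟨t', ht', e'⟩ := monomial_conj_lprod certF4 fullCertF4 hw hh hl0n hnd φ
  rw [← lprod_drop certF4 fullCertF4 f4L6 φ (fun r => decide (φ r ≠ 0)) (fun r _ h => by simpa using h)] at e'
  have e2 : lprod certF4 (l0.map (wperm tblF4 w)) t' = lprod certF4 f4L6 (f4Phi a' b' c'' d') := e'.symm.trans key
  obtain ⟨hA, hB⟩ := lprod_inj2 certF4 fullCertF4 hnd f4L6_nodup (fun x hx => by
    obtain ⟨r, hr, rfl⟩ := List.mem_map.1 hx
    exact ⟨by have := himg r hr; omega, wperm_lt certF4 hw (hl0n r hr)⟩) f4L6_pos f4L6_comm e2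
  have hin : ∀ r ∈ f4L6, φ r ≠ 0 → wperm tblF4 w r ∈ f4L6 := by
    intro r hr hne
    have hr0 : r ∈ l0 := by simp [hl0, hr, hne]
    have := hA _ (List.mem_map.2 ⟨r, hr0, rfl⟩)
    by_contra hno
    rw [if_neg hno, ht' r hr0] at this
    exact hne this
  have h39 := hin 39 (by simp [f4L6]) (by simp [hφ, f4Phi])
  have h45 := hin 45 (by simp [f4L6]) (by simp [hφ, f4Phi])
  obtain ⟨s1, s2, s3, s4⟩ := f4_stuck
  have kill : ∀ (x : F) (r s : ℕ), (x = 0 ∨ wperm tblF4 w s < 24) → φ r = x → r ∈ f4L6 → s < 48 →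
      f4Stuck r s = true → x = 0 := by
    intro x r s hx e hr hs hst
    by_contra hne
    exact f4_stuck_apply (f4L6_pos r hr).2 hs hst hw h39 h45 (hin r hr (e ▸ hne)) (hx.resolve_left hne)
  obtain rfl : a = 0 := kill a 40 27 ha (by simp [hφ, f4Phi]) (by simp [f4L6]) (by norm_num) s1
  obtain rfl : b = 0 := kill b 44 34 hb' (by simp [hφ, f4Phi]) (by simp [f4L6]) (by norm_num) s2
  obtain rfl : c' = 0 := kill c' 46 25 hc' (by simp [hφ, f4Phi]) (by simp [f4L6]) (by norm_num) s3
  obtain rfl : d = 0 := kill d 47 26 hd (by simp [hφ, f4Phi]) (by simp [f4L6]) (by norm_num) s4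
  have hl02 : ∀ r ∈ l0, r = 39 ∨ r = 45 := by
    intro r hr
    obtain ⟨h1, h2⟩ := hl0m r hr
    simp only [f4L6, List.mem_cons, List.not_mem_nil, or_false] at h1
    rcases h1 with rfl | rfl | rfl | rfl | rfl | rfl <;> simp [hφ, f4Phi] at h2 ⊢
  have hfix : wperm tblF4 w 39 = 39 ∧ wperm tblF4 w 45 = 45 := by
    have hmem : ∀ θ, θ ∈ f4L6 → f4Phi a' b' c'' d' θ ≠ 0 → θ = wperm tblF4 w 39 ∨ θ = wperm tblF4 w 45 := by
      intro θ hθ hne
      by_contra hno
      refine hne (hB θ hθ fun hm => hno ?_)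
      obtain ⟨r, hr, e⟩ := List.mem_map.1 hm
      rcases hl02 r hr with rfl | rfl <;> simp [← e]
    have m39 := hmem 39 (by simp [f4L6]) (by simp [f4Phi])
    have m45 := hmem 45 (by simp [f4L6]) (by simp [f4Phi])
    have n39 := f4_noswap_apply (a := 39) (b := 45) (by norm_num) (by norm_num) f4_noswap.1 hw
    have e1 : wperm tblF4 w 39 = 39 := by
      rcases m45 with h | h
      · exact absurd h.symm n39
      · rcases m39 with h' | h'
        · exact h'.symm
        · omega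
    refine ⟨e1, ?_⟩
    rcases m45 with h | h <;> omega
  have hWmem : ∀ r ∈ [33, 14, 24, 23], ∀ t : F, xg certF4 r t ∈ f4Wv F := fun r hr t => f4Wv_mem (Or.inl hr) t
  have hW03 : ∀ j ∈ [0, 3], ∀ t : F, xg certF4 (tblF4.simp' j) t ∈ f4Wv F ∧
      xg certF4 (tblF4.neg (tblF4.simp' j)) t ∈ f4Wv F := by
    have hv : ∀ j ∈ [0, 3], tblF4.simp' j ∈ [33, 14, 24, 23] ∧ tblF4.neg (tblF4.simp' j) ∈ [33, 14, 24, 23] := by
      decide +kernel
    exact fun j hj t => ⟨hWmem _ (hv j hj).1 t, hWmem _ (hv j hj).2 t⟩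
  obtain ⟨dd, hdd, x, hx, ew⟩ := wnu_descend certF4 fullCertF4 (Θ := [39, 45]) (W := f4Wv F)
    (fun θ hθ => (f4L6_pos θ (by revert hθ; simp [f4L6]; tauto)).2) (fun k hk => (f4_node_v k hk).imp id fun h => ⟨h.2, by
      rw [nu, ng]
      refine mul_mem (mul_mem (hW03 k h.1 _).1 ?_) (hW03 k h.1 _).1
      rw [certF4.spec.shape.neg_eq _ (certF4.spec.simp_lt k hk)]
      exact (hW03 k h.1 _).2⟩) _ w hw (by simp [hfix.1, hfix.2]) rfl
  have hcW : c ∈ f4Wv F := by
    refine f4V_kernel ((posUnipotent_eq certF4 (F := F)).symm ▸ signPart_le_upper certF4 fullCertF4 w true _ hc) ?_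
    exact ec
  rw [show n = dd * x from ew] at key
  have hx' := (f4Wv_commute hx).eq
  have key2 : (h * dd) * f4V 0 0 0 0 * (h * dd)⁻¹ = f4V a' b' c'' d' := by
    rw [← key]
    simp only [mul_inv_rev, mul_assoc]
    rw [← mul_assoc x, hx']
    simp [mul_assoc]
  obtain ⟨z, hz⟩ : ∃ z, torusHom chevF4 tblF4 F z = h * dd :=
    MonoidHom.mem_range.1 ((torusHom_range certF4 (F := F)).symm ▸ mul_mem hh hdd)
  rw [← hz] at key2
  have key3 : lprod certF4 f4L6 (fun r => if r = 39 ∨ r = 45 then chr tblF4 chevF4 (extend' z) r else 0) =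
      lprod certF4 f4L6 (f4Phi a' b' c'' d') := by
    refine Eq.trans ?_ key2
    have hR : (f4V 0 0 0 0 : GL chevF4.Idx F) = xg certF4 39 1 * xg certF4 45 1 := f4V_zero
    rw [hR, show torusHom chevF4 tblF4 F z * (xg certF4 39 1 * xg certF4 45 1) * (torusHom chevF4 tblF4 F z)⁻¹ =
      (torusHom chevF4 tblF4 F z * xg certF4 39 1 * (torusHom chevF4 tblF4 F z)⁻¹) *
      (torusHom chevF4 tblF4 F z * xg certF4 45 1 * (torusHom chevF4 tblF4 F z)⁻¹) by group,
      torusHom_conj_xgP certF4 fullCertF4 z (show 39 < chevF4.nroots by decide),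
      torusHom_conj_xgP certF4 fullCertF4 z (show 45 < chevF4.nroots by decide)]
    simp [lprod, f4L6, xg_zero]
  have h' := lprod_inj certF4 fullCertF4.comm f4L6_nodup f4L6_pos key3
  have q39 : chr tblF4 chevF4 (extend' z) 39 = 1 := by simpa [f4Phi] using h' 39 (by simp [f4L6])
  have q45 : chr tblF4 chevF4 (extend' z) 45 = 1 := by simpa [f4Phi] using h' 45 (by simp [f4L6])
  have hzW : torusHom chevF4 tblF4 F z ∈ f4Wv F := by
    refine torus_mem certF4 fullCertF4 (J := [0, 3]) z (fun j hj hjJ => ?_) fun j hjJ _ t => hW03 j hjJ t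
    have hv := f4_chr_vals
    simp [List.range_succ] at hv
    obtain ⟨-, -, v39, v45⟩ := hv
    rw [f4_chr, v39.1, v39.2.1, v39.2.2.1, v39.2.2.2] at q39
    rw [f4_chr, v45.1, v45.2.1, v45.2.2.1, v45.2.2.2] at q45
    simp [zpow_neg, zpow_ofNat] at q39 q45
    have n1 : (extend' z 1 : F) ≠ 0 := extend'_ne z 1
    have n2 : (extend' z 2 : F) ≠ 0 := extend'_ne z 2
    have e21 : (extend' z 2 : F) = extend' z 1 := by field_simp at q39; exact q39
    have e1 : (extend' z 1 : F) = 1 := by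
      rw [e21] at q45; field_simp at q45; exact q45
    have : j < 4 := hj
    simp only [List.mem_cons, List.not_mem_nil, or_false, not_or] at hjJ
    interval_cases j
    · omega
    · exact e1
    · rw [e21, e1]
    · omega
  have huW : u ∈ f4Wv F := by
    refine f4V_kernel hu ?_
    have hzc := (f4Wv_commute hzW).eq
    rw [hzc, mul_inv_cancel_right] at key2
    rw [← key2] at eu
    exact Commute.inv_left_iff.1 (show Commute u⁻¹ (f4V 0 0 0 0) from eu)
  rw [show u * h * n * c = u * (h * dd) * x * c by rw [show n = dd * x from ew]; group, ← hz]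
  exact mul_mem (mul_mem (mul_mem huW hzW) hx) hcW

/-- The parameters of the highest short and long roots. -/
def f4Phi2 (a b : F) (r : ℕ) : F := if r = 47 then a else b

theorem f4W_eq : (xg certF4 47 1 * xg certF4 44 1 : GL chevF4.Idx F) = lprod certF4 [47, 44] (f4Phi2 1 1) := by
  simp [lprod, f4Phi2]

/-- The group generated by the root elements centralising the first representative. -/
noncomputable def f4Ww (F : Type*) [Field F] : Subgroup (GL chevF4.Idx F) :=
  rootGen F certF4 fun r => decide (r ∈ [20, 22] ∨ (24 ≤ r ∧ r < 48))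

theorem f4Ww_mem {r : ℕ} (h : r ∈ [20, 22] ∨ (24 ≤ r ∧ r < 48)) (t : F) : xg certF4 r t ∈ f4Ww F := by
  refine xg_mem_rootGen _ ?_ (decide_eq_true h) t
  show r < 48
  rcases h with h | h
  · simp only [List.mem_cons, List.not_mem_nil, or_false] at h
    omega
  · exact h.2

theorem f4Ww_commute {g : GL chevF4.Idx F} (hg : g ∈ f4Ww F) :
    Commute g (lprod certF4 [47, 44] (f4Phi2 1 1)) := by
  induction hg using Subgroup.closure_induction with
  | mem x hx =>
    obtain ⟨r, t, hr, hP, rfl⟩ := hx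
    have h := f4_cent_w r hr ((of_decide_eq_true hP).imp id fun h => h.1)
    rw [← f4W_eq]
    exact ((xg_commute_odd certF4 fullCertF4 h.1 1 t).symm).mul_right (xg_commute_odd certF4 fullCertF4 h.2 1 t).symm
  | one => exact Commute.one_left _
  | mul x y _ _ hx hy => exact hx.mul_left hy
  | inv x _ hx => exact hx.inv_left

theorem f4_pos_le_Ww : chevF4.posUnipotent F ≤ f4Ww F := by
  rw [posUnipotent_eq certF4, upper, Subgroup.closure_le]
  rintro x ⟨r, t, h1, h2, rfl⟩
  exact f4Ww_mem (Or.inr ⟨h1, h2⟩) t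

set_option maxHeartbeats 4000000 in
/-- The centraliser of `x₄₇(1) x₄₄(1)`. -/
theorem f4_cent_w_eq :
    chevF4.group F ⊓ Subgroup.centralizer {(lprod certF4 [47, 44] (f4Phi2 1 1) : GL chevF4.Idx F)} = f4Ww F := by
  have hev := nroots_even (D := chevF4) certF4
  refine le_antisymm ?_ fun g hg => ⟨?_, Subgroup.mem_centralizer_iff.2 fun x hx => by
    rw [hx]; exact ((f4Ww_commute hg).eq).symm⟩
  swap
  · refine (Subgroup.closure_le _).2 ?_ hg
    rintro x ⟨r, t, _, _, rfl⟩
    exact xg_mem_group certF4 r t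
  rintro g ⟨hgG, hgc⟩
  set φ : ℕ → F := f4Phi2 1 1 with hφ
  set v := lprod certF4 [47, 44] φ with hv
  have hgc : g * v = v * g := (Subgroup.mem_centralizer_iff.1 hgc _ rfl).symm
  obtain ⟨w, hw, bb, hbb, c, hc, rfl⟩ := bruhat_normal certF4 fullCertF4 hgG
  obtain ⟨u, hu, h, hh, rfl⟩ := (mem_borel certF4).1 hbb
  have hcW : c ∈ f4Ww F :=
    f4_pos_le_Ww ((posUnipotent_eq certF4 (F := F)).symm ▸ signPart_le_upper certF4 fullCertF4 w true _ hc)
  have huW : u ∈ f4Ww F := f4_pos_le_Ww hu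
  set n := wnu certF4 F w with hn
  have key : h * (n * v * n⁻¹) * h⁻¹ = v := by
    have hcc := (f4Ww_commute hcW).eq
    have huu := (f4Ww_commute huW).eq
    calc h * (n * v * n⁻¹) * h⁻¹ = u⁻¹ * (u * h * n * (v * c)) * (c⁻¹ * n⁻¹ * h⁻¹) := by group
      _ = u⁻¹ * (u * h * n * c * v) * (c⁻¹ * n⁻¹ * h⁻¹) := by rw [← hcc]; simp [mul_assoc, hv, hφ]
      _ = u⁻¹ * (v * u) := by rw [hgc]; group
      _ = v := by rw [← huu, inv_mul_cancel_left]
  have hl : ∀ r ∈ [47, 44], chevF4.nroots / 2 ≤ r ∧ r < chevF4.nroots := by decide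
  have hln : ∀ r ∈ [47, 44], r < chevF4.nroots := fun r hr => (hl r hr).2
  have hcm : ∀ a ∈ [47, 44], ∀ b ∈ [47, 44], f4c a b = true := by decide +kernel
  have hpos : n * v * n⁻¹ ∈ chevF4.posUnipotent F :=
    (Subgroup.mem_normalizer_iff.1 (diag_le_normalizer certF4 hh) (n * v * n⁻¹)).2
      (key.symm ▸ lprod_mem_pos certF4 (fun r hr => (hl r hr).1) φ)
  have hφ1 : ∀ r, φ r = 1 := fun r => by simp [hφ, f4Phi2]
  have himg : ∀ r ∈ [47, 44], chevF4.nroots ≤ 2 * wperm tblF4 w r := fun r hr =>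
    supp_pos certF4 fullCertF4 (by decide) hl hcm hw hpos hr (by rw [hφ1]; exact one_ne_zero)
  have hnd : ([47, 44].map (wperm tblF4 w)).Nodup := (by decide : [47, 44].Nodup).map_on fun x hx y hy e =>
    wperm_inj certF4 hw (hln x hx) (hln y hy) e
  obtain ⟨t', ht', e'⟩ := monomial_conj_lprod certF4 fullCertF4 hw hh hln hnd φ
  obtain ⟨hA, -⟩ := lprod_inj2 certF4 fullCertF4 hnd (by decide) (fun x hx => by
    obtain ⟨r, hr, rfl⟩ := List.mem_map.1 hx
    exact ⟨by have := himg r hr; omega, wperm_lt certF4 hw (hln r hr)⟩) hl hcm (e'.symm.trans key)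
  have hin : ∀ r ∈ [47, 44], wperm tblF4 w r ∈ [47, 44] := by
    intro r hr
    have := hA _ (List.mem_map.2 ⟨r, hr, rfl⟩)
    by_contra hno
    rw [if_neg hno, ht' r hr, hφ1] at this
    exact one_ne_zero this
  have n47 := f4_noswap_apply (a := 47) (b := 44) (by norm_num) (by norm_num) f4_noswap.2 hw
  have e47 : wperm tblF4 w 47 = 47 := by
    have := hin 47 (by simp); simp at this; tauto
  have e44 : wperm tblF4 w 44 = 44 := by
    have := hin 44 (by simp); simp at this
    refine this.resolve_left fun e => ?_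
    have := wperm_inj certF4 hw (show 44 < 48 by norm_num) (show 47 < 48 by norm_num) (e.trans e47.symm)
    omega
  have hW12 : ∀ j ∈ [1, 2], ∀ t : F, xg certF4 (tblF4.simp' j) t ∈ f4Ww F ∧
      xg certF4 (tblF4.neg (tblF4.simp' j)) t ∈ f4Ww F := by
    have hv : ∀ j ∈ [1, 2], tblF4.simp' j ∈ [27, 25] ∧ tblF4.neg (tblF4.simp' j) ∈ [20, 22] := by decide +kernel
    refine fun j hj t => ⟨f4Ww_mem (Or.inr ?_) t, f4Ww_mem (Or.inl (hv j hj).2) t⟩
    have := (hv j hj).1
    simp at this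
    omega
  obtain ⟨dd, hdd, x, hx, ew⟩ := wnu_descend certF4 fullCertF4 (Θ := [47, 44]) (W := f4Ww F)
    hln (fun k hk => (f4_node_w k hk).imp id fun h => ⟨h.2, by
      rw [nu, ng]
      refine mul_mem (mul_mem (hW12 k h.1 _).1 ?_) (hW12 k h.1 _).1
      rw [certF4.spec.shape.neg_eq _ (certF4.spec.simp_lt k hk)]
      exact (hW12 k h.1 _).2⟩) _ w hw (by simp [e47, e44]) rfl
  rw [show n = dd * x from ew] at key
  have hx' := (f4Ww_commute hx).eq
  have key2 : (h * dd) * v * (h * dd)⁻¹ = v := by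
    conv_rhs => rw [← key]
    simp only [mul_inv_rev, mul_assoc]
    rw [← mul_assoc x, hx']
    simp [mul_assoc, hv, hφ]
  obtain ⟨z, hz⟩ : ∃ z, torusHom chevF4 tblF4 F z = h * dd :=
    MonoidHom.mem_range.1 ((torusHom_range certF4 (F := F)).symm ▸ mul_mem hh hdd)
  rw [← hz] at key2
  have key3 : lprod certF4 [47, 44] (fun r => chr tblF4 chevF4 (extend' z) r) =
      lprod certF4 [47, 44] φ := by
    refine Eq.trans ?_ key2
    rw [hv]
    simp only [lprod, List.map_cons, List.map_nil, List.prod_cons, List.prod_nil, mul_one, hφ1]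
    rw [show torusHom chevF4 tblF4 F z * (xg certF4 47 1 * xg certF4 44 1) * (torusHom chevF4 tblF4 F z)⁻¹ =
      (torusHom chevF4 tblF4 F z * xg certF4 47 1 * (torusHom chevF4 tblF4 F z)⁻¹) *
      (torusHom chevF4 tblF4 F z * xg certF4 44 1 * (torusHom chevF4 tblF4 F z)⁻¹) by group,
      torusHom_conj_xgP certF4 fullCertF4 z (show 47 < chevF4.nroots by decide),
      torusHom_conj_xgP certF4 fullCertF4 z (show 44 < chevF4.nroots by decide)]
    simp
  have h' := lprod_inj certF4 fullCertF4.comm (by decide) hl key3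
  have q47 : chr tblF4 chevF4 (extend' z) 47 = 1 := by simpa [hφ1] using h' 47 (by simp)
  have q44 : chr tblF4 chevF4 (extend' z) 44 = 1 := by simpa [hφ1] using h' 44 (by simp)
  have hzW : torusHom chevF4 tblF4 F z ∈ f4Ww F := by
    refine torus_mem certF4 fullCertF4 (J := [1, 2]) z (fun j hj hjJ => ?_) fun j hjJ _ t => hW12 j hjJ t
    have hv := f4_chr_vals
    simp [List.range_succ] at hv
    obtain ⟨v47, v44, -, -⟩ := hv
    rw [f4_chr, v47.1, v47.2.1, v47.2.2.1, v47.2.2.2] at q47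
    rw [f4_chr, v44.1, v44.2.1, v44.2.2.1, v44.2.2.2] at q44
    simp at q47 q44
    have : j < 4 := hj
    simp only [List.mem_cons, List.not_mem_nil, or_false, not_or] at hjJ
    interval_cases j
    · exact q44
    · omega
    · omega
    · exact q47
  rw [show u * h * n * c = u * (h * dd) * x * c by rw [show n = dd * x from ew]; group, ← hz]
  exact mul_mem (mul_mem (mul_mem huW hzW) hx) hcW

end Cfsg.Lib.Chev
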