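import Cfsg.Agent.Lib.Chev.TitsParity
import Cfsg.Agent.Lib.PGroup.Basic
import Cfsg.Agent.Lib.Linear.BNPair

/-! The Tits group has index two in ²F₄(2) and is simple. -/

set_option autoImplicit false
set_option maxRecDepth 100000

namespace Cfsg.Lib.Chev

open Cfsg.Lie
open Cfsg.Lib.Linear
open scoped commutatorElement

theorem transfer_eq_pow_of_fusion {G A : Type*} [Group G] [Finite G] [CommGroup A] {H : Subgroup G} (φ : ↥H →* A)
    (hinv : ∀ (v : ↥H) (g : G) (h : g⁻¹ * (v : G) * g ∈ H), φ ⟨g⁻¹ * (v : G) * g, h⟩ = φ v) (u : ↥H) :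
    MonoidHom.transfer φ (u : G) = φ u ^ H.index := by
  classical
  letI := H.fintypeQuotientOfFiniteIndex
  rw [MonoidHom.transfer_eq_prod_quotient_orbitRel_zpowers_quot, Subgroup.index_eq_sum_minimalPeriod H (u : G),
    ← Finset.prod_pow_eq_pow_sum]
  refine Finset.prod_congr rfl fun q _ => ?_
  rw [← map_pow]
  exact hinv (u ^ Function.minimalPeriod ((u : G) • ·) q.out) q.out.out
    (QuotientGroup.out_conj_pow_minimalPeriod_mem H (u : G) q.out)

/-- In a group with a BN-pair, irreducible, a normal subgroup is in the core of `B` or supplements `B`. -/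
theorem bnPair_normal_cases {G : Type*} [Group G] (P : Cfsg.BNPair G) (hirr : P.Irreducible) (K : Subgroup G)
    (hK : K.Normal) : K ≤ P.B.normalCore ∨ P.B ⊔ K = ⊤ := by
  set M : Subgroup G := P.B ⊔ K with hM
  have hMdec : ∀ x ∈ M, ∃ b ∈ P.B, ∃ k ∈ K, x = b * k := by
    intro x hx
    rw [hM, ← SetLike.mem_coe, Subgroup.mul_normal] at hx
    obtain ⟨b, hb, k, hk, rfl⟩ := hx
    exact ⟨b, hb, k, hk, rfl⟩
  have hpar := BN.eq_parabolic (P := P) (M := M) le_sup_left
  set J := P.S ∩ (M : Set G) with hJ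
  by_cases hJ0 : J = ∅
  · left
    rw [hJ0] at hpar
    have hKB : K ≤ P.B := by
      have hMB : M ≤ P.B := by
        rw [hpar]
        exact sup_le le_rfl (by rw [Subgroup.closure_empty]; exact bot_le)
      exact le_sup_right.trans hMB
    exact Subgroup.normal_le_normalCore.2 hKB
  by_cases hJS : J = P.S
  · right
    rw [hpar, hJS]; exact BN.parabolic_S_eq_top
  exfalso
  obtain ⟨s, hsJ, s', ⟨hs', hs'J⟩, hcomm⟩ := hirr J Set.inter_subset_left
    (Set.nonempty_iff_ne_empty.2 hJ0)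
    (Set.sdiff_nonempty.2 fun h => hJS (Set.Subset.antisymm Set.inter_subset_left h))
  obtain ⟨hs, hsM⟩ := hsJ
  have hs'M : s' ∉ M := fun h => hs'J ⟨hs', h⟩
  have hne : s ≠ s' := fun h => hs'M (h ▸ hsM)
  obtain ⟨b, hb, k, hk, hsk⟩ := hMdec s hsM
  have hsN := P.subset hs
  have hs'N := P.subset hs'
  have hlen2 : BN.len P (s * s') = 2 := by
    rcases BN.len_mul_cases hs hs'N with h | h
    · rw [h, BN.len_S hs']
    · rw [BN.len_S hs'] at h
      have h0 := BN.mem_T_of_len_eq_zero (mul_mem hsN hs'N) (by omega)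
      exfalso
      refine hne (P.inj s hs s' hs' ?_)
      have e : s⁻¹ * s' = (s * s)⁻¹ * (s * s') := by group
      rw [e]
      exact mul_mem (inv_mem (P.sq_mem s hs)) h0.1
  rcases BN.len_mul_cases hs' (mul_mem hsN hs'N) with h | h
  · have hk1 : k ∈ BN.cell P s := by
      refine BN.mem_cell.2 ⟨b⁻¹, inv_mem hb, 1, one_mem _, ?_⟩
      rw [hsk]; group
    have hcs' : s'⁻¹ ∈ BN.cell P s' := by
      rw [← (BN.same_inv_S hs').cell_eq]; exact BN.self_mem_cell _
    have h1 : k * s'⁻¹ ∈ BN.cell P (s * s') :=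
      BN.cell_mul_of_le hs hs'N (by rw [hlen2, BN.len_S hs']; omega) hk1 hcs'
    have h2 : s' * (k * s'⁻¹) ∈ BN.cell P (s' * (s * s')) :=
      BN.cell_mul_of_le hs' (mul_mem hsN hs'N) (by omega) (BN.self_mem_cell s') h1
    have h3 : s' * (k * s'⁻¹) ∈ M := by
      rw [← mul_assoc]; exact Subgroup.mem_sup_right (hK.conj_mem k hk s')
    obtain ⟨c, hc, d, hd, he⟩ := BN.mem_cell.1 h2
    have h4 : s' * (s * s') ∈ M := by
      have e : s' * (s * s') = c⁻¹ * (s' * (k * s'⁻¹)) * d⁻¹ := by rw [he]; group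
      rw [e]
      exact mul_mem (mul_mem (inv_mem (Subgroup.mem_sup_left hc)) h3) (inv_mem (Subgroup.mem_sup_left hd))
    refine hs'M (BN.letters_mem [s', s, s'] ?_ ?_ (s' * (s * s')) ?_ M le_sup_left ?_ s' (by simp))
    · intro x hx
      simp at hx
      rcases hx with rfl | rfl | rfl <;> assumption
    · simp; omega
    · simpa using BN.Same.rfl'
    · intro x hx
      exact mul_mem (mul_mem h4 (Subgroup.mem_sup_left hx)) (inv_mem h4)
  · obtain ⟨i, hi, hsame⟩ := BN.exchange [s, s'] (by simp [hs, hs']) (by simpa using hlen2) s' hs'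
      (by simp; omega)
    simp only [List.length_cons, List.length_nil] at hi
    apply hcomm
    rcases i with _ | _ | i
    · exfalso
      simp only [List.eraseIdx_cons_zero, List.prod_cons, List.prod_nil, mul_one] at hsame
      have h0 : s * s' ∈ P.B := by
        have := hsame.1
        simpa [← mul_assoc] using this
      refine hne (P.inj s hs s' hs' ?_)
      have e : s⁻¹ * s' = (s * s)⁻¹ * (s * s') := by group
      rw [e]
      exact mul_mem (inv_mem (P.sq_mem s hs)) h0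
    · simp only [List.eraseIdx_cons_succ, List.eraseIdx_cons_zero, List.prod_cons, List.prod_nil,
        mul_one] at hsame
      have ht : (s' * s')* (s⁻¹ * (s' * (s * s')))⁻¹ ∈ P.B ⊓ P.N :=
        mul_mem (BN.sq_mem_T hs') (inv_mem hsame)
      have h9 := (BN.conj_mem_T hsN ht).1
      have e : s * s' * s⁻¹ * s'⁻¹ = s * (s' * s' * (s⁻¹ * (s' * (s * s')))⁻¹) * s⁻¹ := by group
      rw [e]
      exact h9
    · omega

variable {K : Type*} [Field K] [CharP K esymF4.p] [Fintype K] (hK : Fintype.card K = 2 ^ (2 * 0 + 1))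
include hK

/-- The parity homomorphism of the Sylow 2-subgroup, with its value at a word. -/
theorem tits_parity_hom :
    ∃ φ : ↥((chevF4.posUnipotent K ⊓ (titsG K)).subgroupOf (titsG K)) →* Multiplicative (ZMod 2),
      ∀ (x : ↥((chevF4.posUnipotent K ⊓ (titsG K)).subgroupOf (titsG K))) (w : List ℕ), IsTitsWord w →
        (w.map (titsGen K)).prod = ((x : ↥(titsG K)) : GL chevF4.Idx K) →
          φ x = Multiplicative.ofAdd (if titsWPar w then 1 else 0 : ZMod 2) := by
  classical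
  choose wd hwd hwe using fun x : ↥((chevF4.posUnipotent K ⊓ (titsG K)).subgroupOf (titsG K)) =>
    tits_word_of_mem hK (Subgroup.mem_subgroupOf.1 x.2)
  refine ⟨MonoidHom.mk' (fun x => Multiplicative.ofAdd (if titsWPar (wd x) then 1 else 0 : ZMod 2)) fun x y => ?_,
    fun x w hw he => ?_⟩
  · have h := titsWPar_congr (K := K) (hwd (x * y)) (w := wd x ++ wd y)
      (fun j hj => (List.mem_append.1 hj).elim (hwd x j) (hwd y j))
      (by rw [hwe, List.map_append, List.prod_append, hwe, hwe]; rfl)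
    rw [h, titsWPar_append]
    cases titsWPar (wd x) <;> cases titsWPar (wd y) <;> rfl
  · show Multiplicative.ofAdd _ = _
    rw [titsWPar_congr (K := K) (hwd x) hw ((hwe x).trans he.symm)]

/-- A homomorphism onto a group of order two. -/
theorem tits_exists_hom : ∃ τ : ↥(titsG K) →* Multiplicative (ZMod 2),
    τ ⟨(titsGen K) 1, titsGen_fixed hK 1⟩ ≠ 1 := by
  classical
  obtain ⟨φ, hφ⟩ := tits_parity_hom hK
  obtain ⟨-, hodd⟩ := f4_pos_sylow hK
  have h1mem : (⟨(titsGen K) 1, titsGen_fixed hK 1⟩ : ↥(titsG K)) ∈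
      (chevF4.posUnipotent K ⊓ (titsG K)).subgroupOf (titsG K) :=
    Subgroup.mem_subgroupOf.2 (Subgroup.mem_inf.2 ⟨titsGen_pos 1, titsGen_fixed hK 1⟩)
  refine ⟨MonoidHom.transfer φ, ?_⟩
  rw [show (⟨(titsGen K) 1, titsGen_fixed hK 1⟩ : ↥(titsG K)) =
    ((⟨_, h1mem⟩ : ↥((chevF4.posUnipotent K ⊓ (titsG K)).subgroupOf (titsG K))) : ↥(titsG K)) from rfl,
    transfer_eq_pow_of_fusion φ ?_]
  · rw [hφ _ [1] (fun i hi => by simp at hi; omega) (by simp)]
    intro h
    set I := ((chevF4.posUnipotent K ⊓ (titsG K)).subgroupOf (titsG K)).index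
    rw [← ofAdd_nsmul, ofAdd_eq_one, show titsWPar [1] = true from rfl, if_pos rfl, nsmul_one] at h
    exact hodd ((ZMod.natCast_eq_zero_iff_even.1 h).two_dvd)
  · intro v g hg
    obtain ⟨w, hw, ew⟩ := tits_word_of_mem hK (Subgroup.mem_subgroupOf.1 v.2)
    obtain ⟨w', hw', ew'⟩ := tits_word_of_mem hK (Subgroup.mem_subgroupOf.1 hg)
    rw [hφ _ w hw ew, hφ _ w' hw' ew']
    have hgi : ((g⁻¹ : ↥(titsG K)) : GL chevF4.Idx K) ∈ titsG K := (g⁻¹).2
    rw [tits_fusion_par hK hgi hw hw' (by rw [ew, ew']; simp)]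

/-- Elements of the Sylow 2-subgroup lie in the two cosets. -/
theorem tits_pos_coset {x : ↥(titsG K)} (hx : (x : GL chevF4.Idx K) ∈ chevF4.posUnipotent K) :
    x ∈ commutator ↥(titsG K) ∨ x * ⟨(titsGen K) 1, titsGen_fixed hK 1⟩ ∈ commutator ↥(titsG K) := by
  obtain ⟨m, hm, e⟩ := titsEv_surj hK (Subgroup.mem_inf.2 ⟨hx, x.2⟩)
  cases hp : titsPar m
  · left
    rw [show x = ⟨(titsEv K) m, (titsEv_mem hK m).2⟩ from Subtype.ext e.symm]
    exact tits_even_mem hK hp
  · right
    obtain ⟨m', hm', e', hp'⟩ := tits_word_normal (K := K) (w := titsBits m ++ [1]) fun j hj =>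
      (List.mem_append.1 hj).elim (titsBits_word m j) fun h => by simp at h; omega
    rw [titsWPar_append, titsWPar_bits hm, hp] at hp'
    rw [List.map_append, List.prod_append, List.map_cons, List.map_nil, List.prod_cons, List.prod_nil, mul_one] at e'
    have hpf : titsPar m' = false := by rw [← hp']; rfl
    rw [show x * ⟨(titsGen K) 1, titsGen_fixed hK 1⟩ = ⟨(titsEv K) m', (titsEv_mem hK m').2⟩ from Subtype.ext (by
      rw [Subgroup.coe_mul, ← e]; exact e')]
    exact tits_even_mem hK hpf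

theorem tits_gen_one_sq_mem :
    (⟨(titsGen K) 1, titsGen_fixed hK 1⟩ : ↥(titsG K)) * ⟨(titsGen K) 1, titsGen_fixed hK 1⟩ ∈
      commutator ↥(titsG K) := by
  obtain ⟨m', hm', e', hp'⟩ := tits_word_normal (K := K) (w := [1, 1]) fun j hj => by simp at hj; omega
  rw [show (⟨(titsGen K) 1, titsGen_fixed hK 1⟩ : ↥(titsG K)) * ⟨(titsGen K) 1, titsGen_fixed hK 1⟩ =
    ⟨(titsEv K) m', (titsEv_mem hK m').2⟩ from Subtype.ext (by
      rw [Subgroup.coe_mul]; simpa using e')]
  exact tits_even_mem hK (by rw [← hp']; rfl)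

/-- Every element lies in one of two cosets of the commutator subgroup. -/
theorem tits_cosets (x : ↥(titsG K)) :
    x ∈ commutator ↥(titsG K) ∨ x * ⟨(titsGen K) 1, titsGen_fixed hK 1⟩ ∈ commutator ↥(titsG K) := by
  classical
  set g1 : ↥(titsG K) := ⟨(titsGen K) 1, titsGen_fixed hK 1⟩
  let θ : ↥(titsG K) →* Abelianization ↥(titsG K) := Abelianization.of
  have hker : ∀ y : ↥(titsG K), θ y = 1 ↔ y ∈ commutator ↥(titsG K) := fun y => by
    rw [← Abelianization.ker_of, MonoidHom.mem_ker]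
  have hb2 : θ g1 * θ g1 = 1 := by rw [← map_mul, hker]; exact tits_gen_one_sq_mem hK
  have hinv : (θ g1)⁻¹ = θ g1 := inv_eq_of_mul_eq_one_right hb2
  have hmem : ∀ y : ↥(titsG K), θ y ∈ Subgroup.zpowers (θ g1) →
      y ∈ commutator ↥(titsG K) ∨ y * g1 ∈ commutator ↥(titsG K) := by
    intro y hy
    obtain ⟨k, hk⟩ := Subgroup.mem_zpowers_iff.1 hy
    rw [← hker, ← hker, map_mul]
    rcases Int.even_or_odd k with ⟨j, rfl⟩ | ⟨j, rfl⟩
    · left; rw [← hk, zpow_add, ← mul_zpow, hb2, one_zpow]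
    · right
      rw [← hk, zpow_add, zpow_mul, zpow_one, show θ g1 ^ (2 : ℤ) = 1 by rw [zpow_two, hb2], one_zpow, one_mul, hb2]
  set H := Subgroup.comap θ (Subgroup.zpowers (θ g1)) with hH
  have hpos : ∀ y : ↥(titsG K), (y : GL chevF4.Idx K) ∈ chevF4.posUnipotent K → y ∈ H := by
    intro y hy
    rw [hH, Subgroup.mem_comap]
    rcases tits_pos_coset hK hy with h | h
    · rw [(hker y).2 h]; exact one_mem _
    · have h2 : θ y * θ g1 = 1 := by rw [← map_mul, hker]; exact h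
      rw [mul_eq_one_iff_eq_inv.1 h2]
      exact inv_mem (Subgroup.mem_zpowers _)
  suffices htop : (titsG K) ≤ H.map (titsG K).subtype by
    obtain ⟨y, hy, e⟩ := htop x.2
    exact hmem x (show x ∈ H by rwa [show x = y from Subtype.ext e.symm])
  have hin : ∀ g : GL chevF4.Idx K, g ∈ titsG K → g ∈ chevF4.posUnipotent K → g ∈ H.map (titsG K).subtype :=
    fun g hg hp => ⟨⟨g, hg⟩, hpos _ hp, rfl⟩
  have hbase : ∀ J < twF4.norb, ∀ r ∈ twF4.base J, chevF4.nroots / 2 ≤ r := by decide +kernel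
  have hflip : ∀ J < twF4.norb, ∀ g : GL chevF4.Idx K, g ∈ titsG K →
      g ∈ Pset certF4C ((twF4.base J).map tblF4.neg) → g ∈ H.map (titsG K).subtype := by
    intro J hJ g hgG hgP
    obtain ⟨n, hn, hs, hd⟩ := (twOKF4 (K := K) 0).rep J hJ
    have hnG : n ∈ titsG K := ⟨hn, hs⟩
    have hl : ((twF4.base J).map tblF4.neg).map (wperm tblF4 (twF4.lw J)) = twF4.base J := by
      have : J = 0 ∨ J = 1 := by
        have : J < 2 := hJ
        omega
      rcases this with rfl | rfl <;> decide +kernel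
    have h1 : n * g * n⁻¹ ∈ Pset certF4C (twF4.base J) := by
      have h0 := (mono_conj_pset certF4C (twCombF4.lw_word J hJ) hd (l := (twF4.base J).map tblF4.neg) ?_).1 hgP
      · rwa [hl] at h0
      · intro r hr
        obtain ⟨s, hs', rfl⟩ := List.mem_map.1 hr
        exact certF4C.spec.neg_lt s (twCombF4.base_lt J hJ s hs')
    have hmem' : n * g * n⁻¹ ∈ titsG K := mul_mem (mul_mem hnG hgG) (inv_mem hnG)
    obtain ⟨y, hy, e⟩ := hin _ hmem' (pset_pos certF4C (hbase J hJ) h1)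
    refine ⟨⟨g, hgG⟩, ?_, rfl⟩
    show (⟨g, hgG⟩ : ↥(titsG K)) ∈ H
    rw [hH, Subgroup.mem_comap]
    have h3 : θ y = θ ⟨g, hgG⟩ := by
      rw [show y = ⟨n, hnG⟩ * ⟨g, hgG⟩ * (⟨n, hnG⟩ : ↥(titsG K))⁻¹ from Subtype.ext e, map_mul, map_mul, map_inv,
        mul_comm (θ ⟨n, hnG⟩), mul_inv_cancel_right]
    rw [← h3]
    exact hy
  refine f4_fixed_le hK (fun t => ?_) (fun t => ?_) (fun t u => ?_) fun t u => ?_
  · exact hin _ (f4P_fixed hK chkF4PairPos t) (pset_pos certF4C (hbase 0 (by decide)) ⟨_, f4Pair_lprod _ _⟩)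
  · refine hflip 0 (by decide) _ (f4P_fixed hK chkF4PairNeg t) ⟨fun r => if r = 14 then t ^ 2 ^ 0 else t, ?_⟩
    rw [show (twF4.base 0).map tblF4.neg = [14, 23] by decide +kernel]
    simp [f4P, f4Pair, lprod]
  · exact hin _ (f4Q_fixed hK chkF4QuadPos t u) (pset_pos certF4C (hbase 1 (by decide)) ⟨_, f4Quad_lprod _ _ _ _⟩)
  · refine hflip 1 (by decide) _ (f4Q_fixed hK chkF4QuadNeg t u) ⟨fun r => if r = 20 then t ^ 2 ^ 0 else
      if r = 22 then t else if r = 19 then t ^ (2 ^ 0 + 1) + u else u ^ (2 * 2 ^ 0), ?_⟩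
    rw [show (twF4.base 1).map tblF4.neg = [20, 22, 19, 17] by decide +kernel]
    simp [f4Q, f4Quad, lprod, mul_assoc]

/-- The commutator subgroup of ²F₄(2) has index two. -/
theorem tits_index_two : (commutator ↥(titsG K)).index = 2 := by
  obtain ⟨τ, hτ⟩ := tits_exists_hom hK
  rw [Subgroup.index_eq_two_iff]
  refine ⟨⟨(titsGen K) 1, titsGen_fixed hK 1⟩, fun b => ?_⟩
  have hno : ∀ y : ↥(titsG K), y ∈ commutator ↥(titsG K) → τ y = 1 := fun y hy =>
    MonoidHom.mem_ker.1 (Abelianization.commutator_subset_ker τ hy)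
  rcases tits_cosets hK b with h | h
  · refine Or.inr ⟨h, fun h' => hτ ?_⟩
    have h2 := hno _ h'
    rwa [map_mul, hno _ h, one_mul] at h2
  · refine Or.inl ⟨h, fun h' => hτ ?_⟩
    have h2 := hno _ h
    rwa [map_mul, hno _ h', one_mul] at h2

/-- A normal subgroup of ²F₄(2) is trivial or contains the Tits group. -/
theorem tits_normal_cases (N : Subgroup ↥(titsG K)) (hN : N.Normal) :
    N = ⊥ ∨ commutator ↥(titsG K) ≤ N := by
  classical
  obtain ⟨P, hPB, -, hirr⟩ := (twOKF4 (K := K) 0).exists_bnPair certF4C fullCertF4 twCombF4 twLinkedF4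
    (by decide) (f4_hne hK)
  rcases bnPair_normal_cases P hirr N hN with h | h
  · left
    rw [hPB, (twOKF4 (K := K) 0).core_eq_bot certF4C fullCertF4 twCombF4 (f4_witness hK)] at h
    exact eq_bot_iff.2 h
  right
  haveI := hN
  have hB2 : IsPGroup 2 ↥P.B := by
    rw [hPB]
    refine (f4_pos_sylow hK).1.to_le fun x hx => ?_
    exact Subgroup.mem_subgroupOf.2 (tits_borel_le hK (Subgroup.mem_subgroupOf.1 hx))
  have hsurj : Function.Surjective ((QuotientGroup.mk' N).comp P.B.subtype) := by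
    intro y
    obtain ⟨x, rfl⟩ := QuotientGroup.mk'_surjective N y
    have hx : x ∈ P.B ⊔ N := h ▸ Subgroup.mem_top x
    rw [← SetLike.mem_coe, Subgroup.mul_normal] at hx
    obtain ⟨b, hb, k, hk, rfl⟩ := hx
    exact ⟨⟨b, hb⟩, (QuotientGroup.eq).2 (by simpa using hk)⟩
  have hQ : IsPGroup 2 (↥(titsG K) ⧸ N) := hB2.of_surjective _ hsurj
  haveI : Fact (Nat.Prime 2) := ⟨Nat.prime_two⟩
  set π := QuotientGroup.mk' N
  set g1 : ↥(titsG K) := ⟨(titsGen K) 1, titsGen_fixed hK 1⟩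
  have htop : Subgroup.zpowers (π g1) ⊔ frattini (↥(titsG K) ⧸ N) = ⊤ := by
    refine eq_top_iff.2 fun y _ => ?_
    obtain ⟨x, rfl⟩ := QuotientGroup.mk'_surjective N y
    have hF : ∀ z ∈ commutator ↥(titsG K), π z ∈ frattini (↥(titsG K) ⧸ N) := fun z hz =>
      Cfsg.Lib.PGroup.commutator_le_frattini hQ (by
        rw [commutator_def, ← Subgroup.map_top_of_surjective π (QuotientGroup.mk'_surjective N),
          ← Subgroup.map_commutator]
        exact Subgroup.mem_map_of_mem π hz)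
    rcases tits_cosets hK x with hx | hx
    · exact Subgroup.mem_sup_right (hF _ hx)
    · have h2 : π x * π g1 ∈ frattini (↥(titsG K) ⧸ N) := by rw [← map_mul]; exact hF _ hx
      have h3 : π x = π x * π g1 * (π g1)⁻¹ := by group
      show π x ∈ _
      rw [h3]
      exact mul_mem (Subgroup.mem_sup_right h2) (Subgroup.mem_sup_left (inv_mem (Subgroup.mem_zpowers _)))
  have hcyc := frattini_nongenerating htop
  rw [commutator_def, Subgroup.commutator_le]
  intro a _ b _
  rw [← QuotientGroup.eq_one_iff]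
  show π ⁅a, b⁆ = 1
  rw [map_commutatorElement, commutatorElement_eq_one_iff_mul_comm]
  obtain ⟨i, hi⟩ := Subgroup.mem_zpowers_iff.1 (hcyc ▸ Subgroup.mem_top (π a))
  obtain ⟨j, hj⟩ := Subgroup.mem_zpowers_iff.1 (hcyc ▸ Subgroup.mem_top (π b))
  rw [← hi, ← hj, ← zpow_add, add_comm, zpow_add]

/-- The order of ²F₄(2)'. -/
theorem tits_card : Nat.card ↥(commutator ↥(titsG K)) = 2 ^ 11 * 3 ^ 3 * 5 ^ 2 * 13 := by
  have h := (commutator ↥(titsG K)).card_mul_index
  rw [tits_index_two hK] at h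
  have hG : Nat.card ↥(titsG K) = 35942400 := by
    rw [show titsG K = twistedF4 K (2 ^ 0) from (twistedF4_eq hK).symm, twistedF4_order hK]; norm_num
  rw [hG] at h
  norm_num
  omega

set_option maxHeartbeats 1000000 in
/-- The Tits group is simple. -/
theorem tits_simple : IsSimpleGroup ↥(commutator ↥(titsG K)) ∧ ¬ IsMulCommutative ↥(commutator ↥(titsG K)) := by
  classical
  set C := commutator ↥(titsG K) with hC
  have hcard := tits_card hK
  haveI : Nontrivial ↥C := Finite.one_lt_card_iff_nontrivial.1 (by rw [hcard]; norm_num)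
  have hsimple : IsSimpleGroup ↥C := by
    refine IsSimpleGroup.mk fun N hN => ?_
    set M := N.map C.subtype with hM
    have hMC : M ≤ C := Subgroup.map_subtype_le N
    have hnorm : ∀ c ∈ C, ∀ x ∈ M, c * x * c⁻¹ ∈ M := by
      rintro c hc _ ⟨y, hy, rfl⟩
      exact ⟨⟨c, hc⟩ * y * (⟨c, hc⟩ : ↥C)⁻¹, hN.conj_mem y hy _, rfl⟩
    set g1 : ↥(titsG K) := ⟨(titsGen K) 1, titsGen_fixed hK 1⟩ with hg1
    set M' := M.map (MulAut.conj g1).toMonoidHom with hM'
    have hM'C : M' ≤ C := by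
      rintro _ ⟨x, hx, rfl⟩
      exact (inferInstance : C.Normal).conj_mem x (hMC hx) g1
    have hnorm' : ∀ c ∈ C, ∀ x ∈ M', c * x * c⁻¹ ∈ M' := by
      rintro c hc _ ⟨x, hx, rfl⟩
      refine ⟨(g1⁻¹ * c * g1) * x * (g1⁻¹ * c * g1)⁻¹, hnorm _ ?_ x hx, ?_⟩
      · simpa using (inferInstance : C.Normal).conj_mem c hc g1⁻¹
      · simp [MulAut.conj_apply]; group
    have hsq : ∀ x ∈ M, g1 * g1 * x * (g1 * g1)⁻¹ ∈ M := hnorm _ (tits_gen_one_sq_mem hK)
    have hconjM : ∀ x ∈ M', g1 * x * g1⁻¹ ∈ M := by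
      rintro _ ⟨x, hx, rfl⟩
      have := hsq x hx
      simpa [MulAut.conj_apply, mul_assoc] using this
    have hconjM' : ∀ x ∈ M, g1 * x * g1⁻¹ ∈ M' := fun x hx => ⟨x, hx, by simp [MulAut.conj_apply]⟩
    have hcases : ∀ g : ↥(titsG K), g ∈ C ∨ ∃ c ∈ C, g = c * g1 := fun g => by
      rcases tits_cosets hK g with h | h
      · exact Or.inl h
      · refine Or.inr ⟨(g * g1) * (g1 * g1)⁻¹, mul_mem h (inv_mem (tits_gen_one_sq_mem hK)), ?_⟩
        group
    have hswap : ∀ g : ↥(titsG K), ∀ x : ↥(titsG K), (x ∈ M → g * x * g⁻¹ ∈ M ∧ g ∈ C ∨ g * x * g⁻¹ ∈ M' ∧ g ∉ C) ∧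
        (x ∈ M' → g * x * g⁻¹ ∈ M' ∧ g ∈ C ∨ g * x * g⁻¹ ∈ M ∧ g ∉ C) := by
      intro g x
      by_cases hgC : g ∈ C
      · exact ⟨fun hx => Or.inl ⟨hnorm g hgC x hx, hgC⟩, fun hx => Or.inl ⟨hnorm' g hgC x hx, hgC⟩⟩
      · obtain ⟨c, hc, rfl⟩ := (hcases g).resolve_left hgC
        have e : c * g1 * x * (c * g1)⁻¹ = c * (g1 * x * g1⁻¹) * c⁻¹ := by group
        rw [e]
        exact ⟨fun hx => Or.inr ⟨hnorm' c hc _ (hconjM' x hx), hgC⟩,
          fun hx => Or.inr ⟨hnorm c hc _ (hconjM x hx), hgC⟩⟩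
    have hinfN : (M ⊓ M').Normal := by
      refine ⟨fun x hx g => ?_⟩
      obtain ⟨h1, h2⟩ := Subgroup.mem_inf.1 hx
      rcases (hswap g x).1 h1 with ⟨a1, a2⟩ | ⟨a1, a2⟩ <;> rcases (hswap g x).2 h2 with ⟨b1, b2⟩ | ⟨b1, b2⟩
      · exact Subgroup.mem_inf.2 ⟨a1, b1⟩
      · exact absurd a2 b2
      · exact absurd b2 a2
      · exact Subgroup.mem_inf.2 ⟨b1, a1⟩
    have hsupN : (M ⊔ M').Normal := by
      refine ⟨fun x hx g => ?_⟩
      have : (M ⊔ M').map (MulAut.conj g).toMonoidHom ≤ M ⊔ M' := by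
        rw [Subgroup.map_sup]
        refine sup_le ?_ ?_
        · rintro _ ⟨y, hy, rfl⟩
          rcases (hswap g y).1 hy with ⟨a1, -⟩ | ⟨a1, -⟩
          · exact Subgroup.mem_sup_left (by simpa [MulAut.conj_apply] using a1)
          · exact Subgroup.mem_sup_right (by simpa [MulAut.conj_apply] using a1)
        · rintro _ ⟨y, hy, rfl⟩
          rcases (hswap g y).2 hy with ⟨a1, -⟩ | ⟨a1, -⟩
          · exact Subgroup.mem_sup_right (by simpa [MulAut.conj_apply] using a1)
          · exact Subgroup.mem_sup_left (by simpa [MulAut.conj_apply] using a1)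
      simpa [MulAut.conj_apply] using this (Subgroup.mem_map_of_mem _ hx)
    have hinj : Function.Injective C.subtype := C.subtype_injective
    rcases tits_normal_cases hK _ hinfN with hbot | htop
    swap
    · right
      refine eq_top_iff.2 fun x _ => ?_
      obtain ⟨y, hy, e⟩ := (Subgroup.mem_inf.1 (htop x.2)).1
      rwa [← hinj e]
    rcases tits_normal_cases hK _ hsupN with hsb | hst
    · left
      rw [eq_bot_iff]
      intro x hx
      have : C.subtype x ∈ M ⊔ M' := Subgroup.mem_sup_left ⟨x, hx, rfl⟩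
      rw [hsb, Subgroup.mem_bot] at this
      exact Subgroup.mem_bot.2 (hinj (by simpa using this))
    exfalso
    set N' := M'.subgroupOf C
    haveI : N.Normal := hN
    haveI : N'.Normal := ⟨fun x hx c => hnorm' c.1 c.2 x.1 hx⟩
    have hNe : N = M.subgroupOf C := by
      rw [hM, Subgroup.subgroupOf, Subgroup.comap_map_eq_self_of_injective hinj]
    have hdis : Disjoint N N' := by
      rw [disjoint_iff, eq_bot_iff]
      intro x hx
      obtain ⟨h1, h2⟩ := Subgroup.mem_inf.1 hx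
      rw [hNe] at h1
      have : (x : ↥(titsG K)) ∈ M ⊓ M' := Subgroup.mem_inf.2 ⟨h1, h2⟩
      rw [hbot, Subgroup.mem_bot] at this
      exact Subgroup.mem_bot.2 (Subtype.ext this)
    have hsupTop : N ⊔ N' = ⊤ := by
      rw [hNe]
      apply Subgroup.map_injective hinj
      rw [Subgroup.map_sup, Subgroup.map_subgroupOf_eq_of_le hMC, Subgroup.map_subgroupOf_eq_of_le hM'C,
        ← MonoidHom.range_eq_map, Subgroup.range_subtype]
      exact le_antisymm (sup_le hMC hM'C) hst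
    have hcomp : Subgroup.IsComplement' N N' :=
      Subgroup.isComplement'_of_disjoint_and_mul_eq_univ hdis (by
        rw [← Subgroup.normal_mul, hsupTop, Subgroup.coe_top])
    have h1 := hcomp.card_mul
    have e1 : Nat.card ↥N' = Nat.card ↥N := by
      rw [Nat.card_congr (Subgroup.subgroupOfEquivOfLe hM'C).toEquiv, hM',
        Nat.card_congr ((M.equivMapOfInjective (MulAut.conj g1).toMonoidHom (MulAut.conj g1).injective).symm).toEquiv,
        hM, Nat.card_congr ((N.equivMapOfInjective C.subtype hinj).symm).toEquiv]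
    rw [e1, hcard] at h1
    norm_num [-Nat.card_eq_fintype_card] at h1
    rcases le_or_gt (Nat.card ↥N) 4239 with hle | hgt
    · have := Nat.mul_le_mul hle hle
      omega
    · have := Nat.mul_le_mul (Nat.succ_le_of_lt hgt) (Nat.succ_le_of_lt hgt)
      omega
  refine ⟨hsimple, fun hcm => ?_⟩
  letI : CommGroup ↥C := { (inferInstance : Group ↥C) with mul_comm := hcm.is_comm.comm }
  have hp : (Nat.card ↥C).Prime := IsSimpleGroup.prime_card
  rw [hcard] at hp
  norm_num at hp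

omit hK in
theorem twistedF4_two_index_simple :
    (commutator ↥(twistedF4 (ZMod 2) 1)).index = 2 ∧ IsSimpleGroup Cfsg.Lie.TitsGroup ∧
      ¬ IsMulCommutative Cfsg.Lie.TitsGroup ∧ Nat.card Cfsg.Lie.TitsGroup = 2 ^ 11 * 3 ^ 3 * 5 ^ 2 * 13 := by
  haveI : CharP (ZMod 2) esymF4.p := ZMod.charP 2
  have hK : Fintype.card (ZMod 2) = 2 ^ (2 * 0 + 1) := ZMod.card 2
  have e : twistedF4 (ZMod 2) 1 = titsG (ZMod 2) := twistedF4_eq (m := 0) hK
  unfold Cfsg.Lie.TitsGroup
  rw [e]
  exact ⟨tits_index_two hK, (tits_simple hK).1, (tits_simple hK).2, tits_card hK⟩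

end Cfsg.Lib.Chev
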