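import Cfsg.Agent.Lib.Chev.TwF4Facts

/-! Orders of 2-elements in ²F₄(q). -/

set_option autoImplicit false
set_option linter.unusedSectionVars false
set_option maxRecDepth 100000

namespace Cfsg.Lib.Chev

open Cfsg.Lie

theorem isLin_fval {D : ChevalleyDatum} {T : Tbl} (C : Cert D T) (c : List ℤ) : IsLin D T (fval T c) := by
  intro r s q i j h
  simp only [fval, C.spec.shape.rank_eq]
  have : ∀ l : List ℕ, (∀ m ∈ l, m < D.rank) → (l.map fun m => c.getD m 0 * T.cartan m q).sum =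
      i * (l.map fun m => c.getD m 0 * T.cartan m r).sum + j * (l.map fun m => c.getD m 0 * T.cartan m s).sum := by
    intro l
    induction l with
    | nil => simp
    | cons m l ih =>
      intro hl
      simp only [List.map_cons, List.sum_cons, h m (hl m (List.mem_cons_self ..)),
        ih fun x hx => hl x (List.mem_cons_of_mem _ hx)]
      ring
  exact this _ fun m hm => List.mem_range.1 hm

theorem gshift_pow_entry {D : ChevalleyDatum} {F : Type*} [Field F] {f : ℕ → ℤ} {M : Matrix D.Idx D.Idx F}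
    (h : GShift f 1 M) : ∀ (k : ℕ) i j, ((M - 1) ^ k) i j ≠ 0 → (k : ℤ) ≤ glev f i - glev f j := by
  intro k
  induction k with
  | zero =>
    intro i j hne
    rw [pow_zero] at hne
    rcases eq_or_ne i j with rfl | hij
    · simp
    · exact absurd (Matrix.one_apply_ne hij) hne
  | succ k ih =>
    intro i j hne
    rw [pow_succ, Matrix.mul_apply] at hne
    obtain ⟨l, -, hl⟩ := Finset.exists_ne_zero_of_sum_ne_zero hne
    have h1 := ih i l (left_ne_zero_of_mul hl)
    have h2 := h l j (right_ne_zero_of_mul hl)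
    push_cast
    linarith

/-- The height of a root. -/
noncomputable def f4Height : ℕ → ℤ := fval tblF4 [8, 15, 21, 11]

theorem f4Height_range : ∀ r < chevF4.nroots, -11 ≤ f4Height r ∧ f4Height r ≤ 11 ∧
    (chevF4.nroots ≤ 2 * r → 1 ≤ f4Height r) := by decide +kernel

variable {K : Type*} [Field K] [CharP K 2]

theorem f4_pos_exponent {g : GL chevF4.Idx K} (hg : g ∈ chevF4.posUnipotent K) : g ^ 32 = 1 := by
  have hle : chevF4.posUnipotent K ≤ gshiftGroup chevF4 K f4Height 1 zero_le_one := by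
    refine (Subgroup.closure_le _).2 ?_
    rintro x ⟨r, t, hr, e⟩
    rw [eq_xg certF4C e]
    exact xg_mem_gshift certF4C (isLin_fval certF4C _) hr.1 t
      ((f4Height_range r hr.1).2.2 ((certF4C.isPos_iff hr.1).1 hr)) zero_le_one
  have h0 : ((g : Matrix chevF4.Idx chevF4.Idx K) - 1) ^ 32 = 0 := by
    refine Matrix.ext fun i j => ?_
    by_contra hne
    have h := gshift_pow_entry (hle hg).1 32 i j hne
    have hb : ∀ i : chevF4.Idx, -11 ≤ glev f4Height i ∧ glev f4Height i ≤ 11 := by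
      rintro (i | s)
      · simp [glev]
      · exact ⟨(f4Height_range s s.2).1, (f4Height_range s s.2).2.1⟩
    have := hb i
    have := hb j
    push_cast at h
    omega
  haveI : Fact (Nat.Prime 2) := ⟨Nat.prime_two⟩
  haveI : Nonempty chevF4.Idx := ⟨Sum.inl ⟨0, by decide⟩⟩
  haveI : CharP (Matrix chevF4.Idx chevF4.Idx K) 2 :=
    charP_of_injective_ringHom (f := Matrix.scalar chevF4.Idx) (fun a b e => by simpa using e) 2
  rw [show (32 : ℕ) = 2 ^ 5 by norm_num, sub_pow_char_pow_of_commute _ _ (Commute.one_right _), one_pow, sub_eq_zero] at h0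
  exact Units.ext (by rw [Units.val_pow_eq_pow_val, Units.val_one]; exact h0)

theorem conj_mem_of_two_power {G : Type*} [Group G] [Finite G] {U : Subgroup G} (hU : IsPGroup 2 ↥U)
    (hodd : ¬ 2 ∣ U.index) {x : G} {j : ℕ} (hj : orderOf x = 2 ^ j) : ∃ g : G, g * x * g⁻¹ ∈ U := by
  haveI : Fact (Nat.Prime 2) := ⟨Nat.prime_two⟩
  let Q : Sylow 2 G := hU.toSylow hodd
  have hxp : IsPGroup 2 ↥(Subgroup.zpowers x) := IsPGroup.of_card (n := j) (by rw [Nat.card_zpowers, hj])
  obtain ⟨R, hR⟩ := hxp.exists_le_sylow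
  obtain ⟨g, hg⟩ := MulAction.exists_smul_eq G R Q
  have h1 : g * x * g⁻¹ ∈ ((g • R : Sylow 2 G) : Subgroup G) := by
    rw [Sylow.coe_subgroup_smul]
    exact ⟨x, hR (Subgroup.mem_zpowers x), rfl⟩
  rw [hg] at h1
  exact ⟨g, h1⟩

/-- The fixed part of U has odd index and 2-power order. -/
theorem f4_pos_sylow {K : Type*} [Field K] [Fintype K] [CharP K esymF4.p] {m : ℕ}
    (hK : Fintype.card K = 2 ^ (2 * m + 1)) :
    IsPGroup 2 ↥((chevF4.posUnipotent K ⊓ (twOKF4 (K := K) m).fixed certF4C).subgroupOf ((twOKF4 (K := K) m).fixed certF4C)) ∧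
      ¬ 2 ∣ ((chevF4.posUnipotent K ⊓ (twOKF4 (K := K) m).fixed certF4C).subgroupOf ((twOKF4 (K := K) m).fixed certF4C)).index := by
  have hcU : Nat.card ↥((chevF4.posUnipotent K ⊓ (twOKF4 (K := K) m).fixed certF4C).subgroupOf
      ((twOKF4 (K := K) m).fixed certF4C)) = (2 ^ (2 * m + 1)) ^ 12 := by
    rw [Nat.card_congr (Subgroup.subgroupOfEquivOfLe inf_le_right).toEquiv,
      (twOKF4 (K := K) m).card_pos_fixed certF4C fullCertF4 twCombF4 (fun J hJ => f4_card_fixPart hK hJ) two_pos f4_wt]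
    rfl
  refine ⟨IsPGroup.of_card (n := (2 * m + 1) * 12) (by rw [hcU, ← pow_mul]), ?_⟩
  have h := ((chevF4.posUnipotent K ⊓ (twOKF4 (K := K) m).fixed certF4C).subgroupOf
      ((twOKF4 (K := K) m).fixed certF4C)).card_mul_index
  rw [hcU, ← twistedF4_eq hK, twistedF4_order hK, twistedF4_eq hK] at h
  set q := 2 ^ (2 * m + 1) with hq
  rw [mul_assoc (q ^ 12), mul_assoc (q ^ 12), mul_assoc (q ^ 12)] at h
  rw [Nat.eq_of_mul_eq_mul_left (by positivity) h]
  have h2 : q % 2 = 0 := by rw [hq, pow_succ]; omega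
  have e : ∀ k, q ^ (k + 1) % 2 = 0 := fun k => by rw [pow_succ, Nat.mul_mod, h2]; simp
  have h1 : 1 ≤ q := Nat.one_le_two_pow
  have h4 : 1 ≤ q ^ 4 := Nat.one_le_pow _ _ h1
  rw [Nat.prime_two.dvd_mul, Nat.prime_two.dvd_mul, Nat.prime_two.dvd_mul]
  have : q ^ 3 % 2 = 0 := e 2
  have : q ^ 4 % 2 = 0 := e 3
  have : q ^ 6 % 2 = 0 := e 5
  omega

/-- The orders of 2-elements of ²F₄(q) are at most 32. -/
theorem f4_two_elt_order {K : Type*} [Field K] [Fintype K] [CharP K esymF4.p] {m : ℕ}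
    (hK : Fintype.card K = 2 ^ (2 * m + 1)) (x : ↥((twOKF4 (K := K) m).fixed certF4C))
    (hx : ∃ j : ℕ, orderOf x = 2 ^ j) : orderOf x ≤ 32 := by
  haveI : CharP K 2 := inferInstanceAs (CharP K esymF4.p)
  obtain ⟨j, hj⟩ := hx
  obtain ⟨hUp, hodd⟩ := f4_pos_sylow hK
  obtain ⟨g, hmem⟩ := conj_mem_of_two_power hUp hodd hj
  have h32 : (g * x * g⁻¹) ^ 32 = 1 := Subtype.ext (by
    rw [SubmonoidClass.coe_pow]
    exact f4_pos_exponent (Subgroup.mem_subgroupOf.1 hmem).1)
  rw [conj_pow, conj_eq_one_iff] at h32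
  exact Nat.le_of_dvd (by norm_num) (orderOf_dvd_of_pow_eq_one h32)

end Cfsg.Lib.Chev
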