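import Cfsg.Agent.Lib.Chev.TwF4Classes
import Cfsg.Agent.Lib.Chev.F4PairCent
import Cfsg.Agent.Lib.Chev.TitsIndex
import Cfsg.Agent.Lib.Chev.TwF4Orders

/-!
The two classes of involutions of ²F₄(q) and of the Tits group.
-/

set_option autoImplicit false
set_option maxRecDepth 100000
set_option linter.unusedSectionVars false
set_option linter.unusedSimpArgs false

namespace Cfsg.Lib.Chev

open Cfsg.Lie

theorem f4_WV_pair : corPair tblF4 47 44 ≠ corPair tblF4 39 45 ∧ corPair tblF4 47 44 ≠ corPair tblF4 45 39 := by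
  decide +kernel

theorem f4_W_cart : (∀ j < 4, tblF4.cartan j 44 = [1, 0, 0, 0].getD j 0) ∧ (∀ j < 4, tblF4.cartan j 47 = [0, 0, 0, 1].getD j 0) ∧
    (∀ j < 4, tblF4.cartan j 45 = [0, 2, -1, 0].getD j 0) ∧ (∀ j < 4, tblF4.cartan j 39 = [0, -1, 1, 0].getD j 0) := by
  decide +kernel

/-- The two representatives are not conjugate in F4. -/
theorem f4_WV_not_conj {F : Type*} [Field F] [CharP F 2] {g : GL chevF4.Idx F} (hg : g ∈ chevF4.group F) :
    g * lprod certF4 [47, 44] (f4Phi2 1 1) ≠ f4V 0 0 0 0 * g := by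
  intro hgc
  have hev := nroots_even (D := chevF4) certF4
  obtain ⟨w, hw, bb, hbb, c, hc, rfl⟩ := bruhat_normal certF4 fullCertF4 hg
  obtain ⟨u, hu, h, hh, rfl⟩ := (mem_borel certF4).1 hbb
  have hcW : c ∈ f4Ww F :=
    f4_pos_le_Ww ((posUnipotent_eq certF4 (F := F)).symm ▸ signPart_le_upper certF4 fullCertF4 w true _ hc)
  obtain ⟨a, b, c', d, eu, -⟩ := f4V_orbit (F := F) (w := []) (fun _ h => absurd h List.not_mem_nil)
    (neg := false) (c := u⁻¹) (by
      have hu' := inv_mem hu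
      rw [posUnipotent_eq certF4] at hu'
      obtain ⟨p, hp, q, hq, e⟩ := upper_split certF4 fullCertF4 [] (chevF4.nroots / 2) (k := chevF4.nroots / 2)
        (by omega) (by omega) hu'
      have hq1 : q = 1 := by
        have hbot : signPart certF4 fullCertF4 F [] true (chevF4.nroots / 2) ≤ ⊥ :=
          (Subgroup.closure_le _).2 fun x ⟨r, t, h1, h2, h3, _⟩ => by
            have := of_decide_eq_true h3
            simp [wperm] at this
            omega
        exact Subgroup.mem_bot.1 (hbot hq)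
      rw [e, hq1, mul_one]; exact hp) 0 0 0 0
  set n := wnu certF4 F w with hn
  set φ : ℕ → F := f4Phi2 1 1 with hφ
  set v := lprod certF4 [47, 44] φ with hv
  have key : h * (n * v * n⁻¹) * h⁻¹ = f4V a b c' d := by
    have hcc := (f4Ww_commute hcW).eq
    calc h * (n * v * n⁻¹) * h⁻¹ = u⁻¹ * (u * h * n * (v * c)) * (c⁻¹ * n⁻¹ * h⁻¹) := by group
      _ = u⁻¹ * (u * h * n * c * v) * (c⁻¹ * n⁻¹ * h⁻¹) := by rw [← hcc]; simp [mul_assoc, hv, hφ]
      _ = u⁻¹ * f4V 0 0 0 0 * u := by rw [hgc]; group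
      _ = _ := by rw [eu, inv_mul_cancel_right]
  have hl : ∀ r ∈ [47, 44], chevF4.nroots / 2 ≤ r ∧ r < chevF4.nroots := by decide
  have hln : ∀ r ∈ [47, 44], r < chevF4.nroots := fun r hr => (hl r hr).2
  have hcm : ∀ a ∈ [47, 44], ∀ b ∈ [47, 44], f4c a b = true := by decide +kernel
  have hpos : n * v * n⁻¹ ∈ chevF4.posUnipotent F :=
    (Subgroup.mem_normalizer_iff.1 (diag_le_normalizer certF4 hh) (n * v * n⁻¹)).2
      (key.symm ▸ lprod_mem_pos certF4 (fun r hr => (f4L6_pos r hr).1) _)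
  have hφ1 : ∀ r, φ r = 1 := fun r => by simp [hφ, f4Phi2]
  have himg : ∀ r ∈ [47, 44], chevF4.nroots ≤ 2 * wperm tblF4 w r := fun r hr =>
    supp_pos certF4 fullCertF4 (by decide) hl hcm hw hpos hr (by rw [hφ1]; exact one_ne_zero)
  have hnd : ([47, 44].map (wperm tblF4 w)).Nodup := (by decide : [47, 44].Nodup).map_on fun x hx y hy e =>
    wperm_inj certF4 hw (hln x hx) (hln y hy) e
  obtain ⟨t', -, e'⟩ := monomial_conj_lprod certF4 fullCertF4 hw hh hln hnd φ
  obtain ⟨-, hB⟩ := lprod_inj2 certF4 fullCertF4 hnd f4L6_nodup (fun x hx => by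
    obtain ⟨r, hr, rfl⟩ := List.mem_map.1 hx
    exact ⟨by have := himg r hr; omega, wperm_lt certF4 hw (hln r hr)⟩) f4L6_pos f4L6_comm (e'.symm.trans key)
  have hin : ∀ r ∈ [39, 45], r = wperm tblF4 w 47 ∨ r = wperm tblF4 w 44 := by
    intro r hr
    by_contra hno
    have hr' : r = 39 ∨ r = 45 := by simpa using hr
    have := hB r (by rcases hr' with rfl | rfl <;> simp [f4L6]) (by simpa using hno)
    rcases hr' with rfl | rfl <;> simp [f4Phi] at this
  have hp := corPair_wperm certF4 hw (show 47 < 48 by norm_num) (show 44 < 48 by norm_num)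
  have h39 := hin 39 (by simp)
  have h45 := hin 45 (by simp)
  obtain ⟨p1, p2⟩ := f4_WV_pair
  rcases h39 with h39 | h39 <;> rcases h45 with h45 | h45
  · omega
  · rw [← h39, ← h45] at hp; exact p1 hp.symm
  · rw [← h39, ← h45] at hp; exact p2 hp.symm
  · omega

variable {K : Type*} [Field K] [CharP K esymF4.p] [CharP K 2] [Fintype K]

theorem fpG_el (m : ℕ) : (fpG (1 : K)).el m = lprod certF4 [47, 44] (f4Phi2 1 1) := by
  rw [← f4W_eq]
  have := (xg_commute_odd certF4 fullCertF4 (show f4c 44 47 = true by decide +kernel) (1 : K) 1).eq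
  rw [← this]
  simp [FParam.el, fVal, FParam.word, fpG, xg_zero]

theorem fpH_el (m : ℕ) : (fpH (1 : K)).el m = f4V 0 0 0 0 := by
  rw [f4V_zero]
  simp [FParam.el, fVal, FParam.word, fpH, xg_zero]

variable {m : ℕ} (hK : Fintype.card K = 2 ^ (2 * m + 1))
include hK

omit hK in
theorem f4_ext (v s : Kˣ) : extend' (f4Par m v s) 0 = fTh K m (v : K) ∧ extend' (f4Par m v s) 1 = fTh K m (s : K) ∧
    extend' (f4Par m v s) 2 = (s : K) ∧ extend' (f4Par m v s) 3 = (v : K) := by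
  refine ⟨?_, ?_, ?_, ?_⟩ <;> rw [extend', dif_pos (show _ < chevF4.rank by decide)] <;>
    simp [f4Par, fTh, iterateFrobenius_def] <;> rfl

theorem f4_torus_G {x : K} (hx : x ≠ 0) : FCj m (fpG x) (fpG 1) := by
  set v : Kˣ := Units.mk0 (fTh K m x⁻¹ ^ 2) (pow_ne_zero _ ((map_ne_zero _).2 (inv_ne_zero hx))) with hv
  set k := torusHom chevF4 tblF4 K (f4Par m v 1) with hk
  have hkG : k ∈ (twOKF4 (K := K) m).fixed certF4C := ((f4_mem_diag hK).2 ⟨v, 1, rfl⟩).2
  refine ⟨k, hkG, ?_⟩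
  have e : ∀ z : K, (fpG z).el m = xg certF4C 44 z * xg certF4C 47 (fTh K m z ^ 2) := fun z => by
    simp [FParam.el, fVal, FParam.word, fpG, xg_zero]
  obtain ⟨c44, c47, -, -⟩ := f4_W_cart
  have x44 : chr tblF4 chevF4 (extend' (f4Par m v 1)) 44 = x⁻¹ := by
    rw [f4_chr, c44 0 (by norm_num), c44 1 (by norm_num), c44 2 (by norm_num), c44 3 (by norm_num)]
    obtain ⟨e0, e1, e2, e3⟩ := f4_ext (m := m) v (1 : Kˣ)
    simp [e0, e1, e2, e3]
    rw [hv, Units.val_mk0, map_pow, fTh_sq hK]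
  have x47 : chr tblF4 chevF4 (extend' (f4Par m v 1)) 47 = fTh K m x⁻¹ ^ 2 := by
    rw [f4_chr, c47 0 (by norm_num), c47 1 (by norm_num), c47 2 (by norm_num), c47 3 (by norm_num)]
    obtain ⟨e0, e1, e2, e3⟩ := f4_ext (m := m) v (1 : Kˣ)
    simp [e0, e1, e2, e3]
    simp [hv]
  rw [← mul_inv_eq_iff_eq_mul, e, e, show k * (xg certF4C 44 x * xg certF4C 47 (fTh K m x ^ 2)) * k⁻¹ =
    (k * xg certF4C 44 x * k⁻¹) * (k * xg certF4C 47 (fTh K m x ^ 2) * k⁻¹) by group, hk,
    f4_conj_xg _ (show 44 < chevF4.nroots by decide), f4_conj_xg _ (show 47 < chevF4.nroots by decide), x44, x47,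
    inv_mul_cancel₀ hx, ← mul_pow, ← map_mul, inv_mul_cancel₀ hx]

theorem f4_torus_H {x : K} (hx : x ≠ 0) : FCj m (fpH x) (fpH 1) := by
  obtain ⟨s, hs⟩ : ∃ s : Kˣ, fTh K m (s : K) ^ 2 / (s : K) = x⁻¹ := by
    let f : Kˣ → Kˣ := fun s => Units.mk0 (fTh K m (s : K) ^ 2 / (s : K))
      (div_ne_zero (pow_ne_zero _ ((map_ne_zero _).2 s.ne_zero)) s.ne_zero)
    have hf : Function.Injective f := by
      intro s t e
      have e' : fTh K m (s : K) ^ 2 / (s : K) = fTh K m (t : K) ^ 2 / (t : K) := congrArg Units.val e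
      set r : K := (s : K) / (t : K) with hr
      have hr0 : r ≠ 0 := div_ne_zero s.ne_zero t.ne_zero
      have h1 : fTh K m r ^ 2 = r := by
        rw [hr, map_div₀, div_pow, div_eq_div_iff (pow_ne_zero _ ((map_ne_zero _).2 t.ne_zero)) t.ne_zero]
        rw [div_eq_div_iff s.ne_zero t.ne_zero] at e'
        linear_combination e'
      have h2 : fTh K m r = r := by
        have := congrArg (fTh K m) h1
        rw [map_pow, fTh_sq hK] at this
        exact this.symm
      rw [h2] at h1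
      have : r = 1 := mul_right_cancel₀ hr0 (by rw [one_mul, ← sq, h1])
      exact Units.ext ((div_eq_one_iff_eq t.ne_zero).1 this)
    obtain ⟨s, hs⟩ := (Finite.injective_iff_surjective.1 hf) (Units.mk0 x⁻¹ (inv_ne_zero hx))
    exact ⟨s, congrArg Units.val hs⟩
  set k := torusHom chevF4 tblF4 K (f4Par m 1 s) with hk
  have hkG : k ∈ (twOKF4 (K := K) m).fixed certF4C := ((f4_mem_diag hK).2 ⟨1, s, rfl⟩).2
  refine ⟨k, hkG, ?_⟩
  have e : ∀ z : K, (fpH z).el m = xg certF4C 39 (fTh K m z) * xg certF4C 45 z := fun z => by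
    simp [FParam.el, fVal, FParam.word, fpH, xg_zero]
  obtain ⟨-, -, c45, c39⟩ := f4_W_cart
  have x45 : chr tblF4 chevF4 (extend' (f4Par m 1 s)) 45 = x⁻¹ := by
    rw [f4_chr, c45 0 (by norm_num), c45 1 (by norm_num), c45 2 (by norm_num), c45 3 (by norm_num)]
    obtain ⟨e0, e1, e2, e3⟩ := f4_ext (m := m) (1 : Kˣ) s
    simp [e0, e1, e2, e3, zpow_ofNat]
    rw [← hs, div_eq_mul_inv]
  have x39 : chr tblF4 chevF4 (extend' (f4Par m 1 s)) 39 = fTh K m x⁻¹ := by
    rw [f4_chr, c39 0 (by norm_num), c39 1 (by norm_num), c39 2 (by norm_num), c39 3 (by norm_num)]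
    obtain ⟨e0, e1, e2, e3⟩ := f4_ext (m := m) (1 : Kˣ) s
    simp [e0, e1, e2, e3, zpow_ofNat]
    rw [← map_inv₀ (fTh K m) x, ← hs, map_div₀, map_pow, fTh_sq hK, div_eq_mul_inv, mul_comm]
  rw [← mul_inv_eq_iff_eq_mul, e, e, show k * (xg certF4C 39 (fTh K m x) * xg certF4C 45 x) * k⁻¹ =
    (k * xg certF4C 39 (fTh K m x) * k⁻¹) * (k * xg certF4C 45 x * k⁻¹) by group, hk,
    f4_conj_xg _ (show 39 < chevF4.nroots by decide), f4_conj_xg _ (show 45 < chevF4.nroots by decide), x45, x39,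
    ← map_mul, inv_mul_cancel₀ hx]

/-- Every involution is conjugate to one of the two representatives. -/
theorem f4_two_reps (x : ↥((twOKF4 (K := K) m).fixed certF4C)) (hx : orderOf x = 2) :
    ∃ p ∈ ({fpG 1, fpH 1} : Set (FParam K)), ∃ g : ↥((twOKF4 (K := K) m).fixed certF4C),
      ((g * x * g⁻¹ : ↥((twOKF4 (K := K) m).fixed certF4C)) : GL chevF4.Idx K) = p.el m := by
  obtain ⟨hU, hodd⟩ := f4_pos_sylow hK
  obtain ⟨c, hc⟩ := conj_mem_of_two_power (j := 1) hU hodd (x := x) (by rw [hx, pow_one])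
  obtain ⟨p, hp⟩ := fU_surj hK (x := (c * x * c⁻¹ : ↥((twOKF4 (K := K) m).fixed certF4C)).1)
    ⟨(Subgroup.mem_inf.1 (Subgroup.mem_subgroupOf.1 hc)).1, (c * x * c⁻¹).2⟩
  have h2 : x * x = 1 := by rw [← sq, ← hx, pow_orderOf_eq_one]
  have hne : x ≠ 1 := fun e => by rw [e, orderOf_one] at hx; norm_num at hx
  have hI : FInv m p := by
    rw [FInv, hp, ← Subgroup.coe_mul, show c * x * c⁻¹ * (c * x * c⁻¹) = c * (x * x) * c⁻¹ by group, h2]
    simp
  obtain ⟨z, hz⟩ := f4_red hK hI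
  have hz0 : ∀ q : FParam K, q.el m = 1 → ¬ FCj m p q := by
    rintro q hq ⟨g, -, e⟩
    rw [hq, one_mul, mul_eq_left, hp] at e
    exact hne (conj_eq_one_iff.1 (Subtype.ext e))
  have key : ∀ q : FParam K, FCj m p q → ∃ g : ↥((twOKF4 (K := K) m).fixed certF4C),
      ((g * x * g⁻¹ : ↥((twOKF4 (K := K) m).fixed certF4C)) : GL chevF4.Idx K) = q.el m := by
    rintro q ⟨g, hg, e⟩
    refine ⟨⟨g, hg⟩ * c, ?_⟩
    rw [show (⟨g, hg⟩ : ↥((twOKF4 (K := K) m).fixed certF4C)) * c * x * (⟨g, hg⟩ * c)⁻¹ = ⟨g, hg⟩ * (c * x * c⁻¹) * ⟨g, hg⟩⁻¹ by group]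
    rw [Subgroup.coe_mul, Subgroup.coe_mul, ← hp]
    show g * p.el m * g⁻¹ = _
    rw [e, mul_inv_cancel_right]
  rcases hz with h | h
  · by_cases hz : z = 0
    · exact absurd h (hz0 _ (by subst hz; simp [FParam.el, fVal, FParam.word, fpG, xg_zero]))
    · exact ⟨_, Or.inl rfl, key _ (h.trans (f4_torus_G hK hz))⟩
  · by_cases hz : z = 0
    · exact absurd h (hz0 _ (by subst hz; simp [FParam.el, fVal, FParam.word, fpH, xg_zero]))
    · exact ⟨_, Or.inr rfl, key _ (h.trans (f4_torus_H hK hz))⟩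

/-- A representative of the first class. -/
noncomputable def f4RG : ↥((twOKF4 (K := K) m).fixed certF4C) := ⟨(fpG 1).el m, ((fpG 1).el_mem hK).2⟩

/-- A representative of the second class. -/
noncomputable def f4RH : ↥((twOKF4 (K := K) m).fixed certF4C) := ⟨(fpH 1).el m, ((fpH 1).el_mem hK).2⟩

theorem f4_reps_order : orderOf (f4RG hK) = 2 ∧ orderOf (f4RH hK) = 2 := by
  haveI : Fact (Nat.Prime 2) := ⟨Nat.prime_two⟩
  have hsq : ∀ {r s : ℕ}, r < 48 → s < 48 → f4c r s = true →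
      xg certF4 r (1 : K) * xg certF4 s 1 * (xg certF4 r 1 * xg certF4 s 1) = 1 := by
    intro r s hr hs hc
    rw [Commute.mul_mul_mul_comm (xg_commute_odd certF4 fullCertF4 hc (1 : K) 1).symm, xg_add, xg_add,
      CharTwo.add_self_eq_zero, xg_zero, xg_zero, mul_one]
  constructor <;> refine orderOf_eq_prime (Subtype.ext ?_) fun e => ?_
  · rw [pow_two, Subgroup.coe_mul]
    show (fpG 1).el m * (fpG 1).el m = 1
    rw [fpG_el, ← f4W_eq]
    exact hsq (by norm_num) (by norm_num) (by decide +kernel)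
  · have e' : (fpG (1 : K)).el m = (fpG 0).el m := (congrArg Subtype.val e).trans (by
      simp [FParam.el, fVal, FParam.word, fpG, xg_zero])
    exact one_ne_zero (congrArg FParam.g' (FParam.el_inj e'))
  · rw [pow_two, Subgroup.coe_mul]
    show (fpH 1).el m * (fpH 1).el m = 1
    rw [fpH_el, f4V_zero]
    exact hsq (by norm_num) (by norm_num) (by decide +kernel)
  · have e' : (fpH (1 : K)).el m = (fpH 0).el m := (congrArg Subtype.val e).trans (by
      simp [FParam.el, fVal, FParam.word, fpH, xg_zero])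
    exact one_ne_zero (congrArg FParam.h (FParam.el_inj e'))

theorem f4_two_class_cover (x : ↥((twOKF4 (K := K) m).fixed certF4C)) (hx : orderOf x = 2) :
    IsConj x (f4RG hK) ∨ IsConj x (f4RH hK) := by
  obtain ⟨p, hp, g, hg⟩ := f4_two_reps hK x hx
  rcases hp with rfl | hp
  · exact Or.inl (isConj_iff.2 ⟨g, Subtype.ext hg⟩)
  · rw [Set.mem_singleton_iff] at hp
    subst hp
    exact Or.inr (isConj_iff.2 ⟨g, Subtype.ext hg⟩)

theorem f4_reps_not_conj : ¬ IsConj (f4RG hK) (f4RH hK) := by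
  rintro h
  obtain ⟨g, hg⟩ := isConj_iff.1 h
  have e : (g : GL chevF4.Idx K) * (fpG (1 : K)).el m = (fpH (1 : K)).el m * (g : GL chevF4.Idx K) := by
    have := congrArg Subtype.val (mul_inv_eq_iff_eq_mul.1 hg)
    exact this
  rw [fpG_el, fpH_el] at e
  exact f4_WV_not_conj g.2.1 e

omit hK in
theorem ncard_two_classes {G : Type*} [Group G] (a b : G) (ha : orderOf a = 2) (hb : orderOf b = 2)
    (hne : ¬ IsConj a b) (hall : ∀ x, orderOf x = 2 → IsConj x a ∨ IsConj x b) :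
    (ConjClasses.mk '' {g : G | orderOf g = 2}).ncard = 2 := by
  have e : ConjClasses.mk '' {g : G | orderOf g = 2} = {ConjClasses.mk a, ConjClasses.mk b} := by
    ext y
    constructor
    · rintro ⟨x, hx, rfl⟩
      rcases hall x hx with h | h
      · exact Or.inl (ConjClasses.mk_eq_mk_iff_isConj.2 h)
      · exact Or.inr (ConjClasses.mk_eq_mk_iff_isConj.2 h)
    · rintro (rfl | rfl)
      exacts [⟨a, ha, rfl⟩, ⟨b, hb, rfl⟩]
  rw [e, Set.ncard_pair fun h => hne (ConjClasses.mk_eq_mk_iff_isConj.1 h)]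

theorem f4_two_classes :
    (ConjClasses.mk '' {g : ↥((twOKF4 (K := K) m).fixed certF4C) | orderOf g = 2}).ncard = 2 :=
  ncard_two_classes _ _ (f4_reps_order hK).1 (f4_reps_order hK).2 (f4_reps_not_conj hK) (f4_two_class_cover hK)

end Cfsg.Lib.Chev
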