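import Cfsg.Agent.Lib.Chev.F4InvSound
import Cfsg.Agent.Lib.Chev.Sylow
import Cfsg.Agent.Lib.Chev.TwF4TwoClass

/-!
The four classes of involutions of F4 in characteristic two.
-/

set_option autoImplicit false
set_option maxRecDepth 100000
set_option linter.unusedSectionVars false
set_option linter.unusedSimpArgs false

namespace Cfsg.Lib.Chev

open Cfsg.Lie

variable {K : Type*} [Field K] [CharP K 2]

theorem f4_group_reach [Finite K] {g : GL chevF4.Idx K} (hg : g ∈ chevF4.group K) (h2 : g * g = 1) : FReach g := by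
  haveI : Fact (Nat.Prime 2) := ⟨Nat.prime_two⟩
  obtain ⟨P, hP⟩ := exists_sylow certF4 fullCertF4 (F := K) 2
  set x : ↥(chevF4.group K) := ⟨g, hg⟩ with hx
  have hxp : IsPGroup 2 ↥(Subgroup.zpowers x) := by
    have hd : orderOf x ∣ 2 ^ 1 := orderOf_dvd_of_pow_eq_one (Subtype.ext (by simpa [hx, sq] using h2))
    obtain ⟨k, -, hk⟩ := (Nat.dvd_prime_pow Nat.prime_two).1 hd
    exact IsPGroup.of_card (n := k) (by rw [Nat.card_zpowers, hk])
  obtain ⟨Q, hQ⟩ := hxp.exists_le_sylow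
  obtain ⟨c, hc⟩ := MulAction.exists_smul_eq ↥(chevF4.group K) Q P
  have hmem : c * x * c⁻¹ ∈ (P : Subgroup ↥(chevF4.group K)) := by
    rw [← hc, Sylow.coe_subgroup_smul, Subgroup.mem_pointwise_smul_iff_inv_smul_mem]
    simpa [MulAut.smul_def, MulAut.conj_symm_apply, mul_assoc] using hQ (Subgroup.mem_zpowers x)
  rw [hP, Subgroup.mem_subgroupOf] at hmem
  have h2' : ((c * x * c⁻¹ : ↥(chevF4.group K)) : GL chevF4.Idx K) * (c * x * c⁻¹ : ↥(chevF4.group K)) = 1 := by
    show (c : GL chevF4.Idx K) * g * (c : GL chevF4.Idx K)⁻¹ * ((c : GL chevF4.Idx K) * g * (c : GL chevF4.Idx K)⁻¹) = 1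
    rw [show (c : GL chevF4.Idx K) * g * (c : GL chevF4.Idx K)⁻¹ * ((c : GL chevF4.Idx K) * g * (c : GL chevF4.Idx K)⁻¹) =
      (c : GL chevF4.Idx K) * (g * g) * (c : GL chevF4.Idx K)⁻¹ by group, h2, mul_one, mul_inv_cancel]
  exact (f4_pos_reach hmem h2').conj c.2

theorem f4_high_comm {r : ℕ} (hr : r = 47 ∨ r = 44) {x : GL chevF4.Idx K} (hx : x ∈ chevF4.posUnipotent K) :
    Commute x (xg certF4 r (1 : K)) := by
  rw [posUnipotent_eq certF4, upper] at hx
  induction hx using Subgroup.closure_induction with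
  | mem x hx =>
    obtain ⟨s, t, h1, h2, rfl⟩ := hx
    have hcs := f4_cent_w s h2 (Or.inr h1)
    rcases hr with rfl | rfl
    · exact (xg_commute_odd certF4 fullCertF4 hcs.1 1 t).symm
    · exact (xg_commute_odd certF4 fullCertF4 hcs.2 1 t).symm
  | one => exact Commute.one_left _
  | mul x y _ _ hx hy => exact hx.mul_left hy
  | inv x _ hx => exact hx.inv_left

/-- A highest root element is not conjugate to an element supported on two roots, or on the other highest root. -/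
theorem f4_single_not {r : ℕ} (hr : r = 47 ∨ r = 44) {g y : GL chevF4.Idx K} (hg : g ∈ chevF4.group K)
    {φ : GL chevF4.Idx K → ℕ → K} {a b : ℕ} (ha : a ∈ f4L6) (hb : b ∈ f4L6) (hab : a ≠ b ∨ (r = 47 ∧ a = 44))
    (hy : ∀ u ∈ chevF4.posUnipotent K, u⁻¹ * y * u = lprod certF4 f4L6 (φ u) ∧ φ u a ≠ 0 ∧ φ u b ≠ 0)
    (e : g * xg certF4 r 1 = y * g) : False := by
  have hev := nroots_even (D := chevF4) certF4
  obtain ⟨w, hw, bb, hbb, c, hc, rfl⟩ := bruhat_normal certF4 fullCertF4 hg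
  obtain ⟨u, hu, h, hh, rfl⟩ := (mem_borel certF4).1 hbb
  obtain ⟨hyu, hA, hB⟩ := hy u hu
  set n := wnu certF4 K w with hn
  have hcu : c ∈ chevF4.posUnipotent K :=
    (posUnipotent_eq certF4 (F := K)).symm ▸ signPart_le_upper certF4 fullCertF4 w true _ hc
  have hcc : Commute c (xg certF4 r (1 : K)) := f4_high_comm hr hcu
  have key : h * (n * xg certF4 r 1 * n⁻¹) * h⁻¹ = lprod certF4 f4L6 (φ u) := by
    calc h * (n * xg certF4 r 1 * n⁻¹) * h⁻¹ = u⁻¹ * (u * h * n * (xg certF4 r 1 * c)) * (c⁻¹ * n⁻¹ * h⁻¹) := by group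
      _ = u⁻¹ * (u * h * n * c * xg certF4 r 1) * (c⁻¹ * n⁻¹ * h⁻¹) := by rw [← hcc.eq]; simp [mul_assoc]
      _ = u⁻¹ * y * u := by rw [e]; group
      _ = _ := hyu
  have hl : ∀ x ∈ [r], chevF4.nroots / 2 ≤ x ∧ x < chevF4.nroots := by
    rcases hr with rfl | rfl <;> decide
  have hln : ∀ x ∈ [r], x < chevF4.nroots := fun x hx => (hl x hx).2
  have hcm : ∀ a ∈ [r], ∀ b ∈ [r], f4c a b = true := by rcases hr with rfl | rfl <;> decide +kernel
  have e1 : xg certF4 r (1 : K) = lprod certF4 [r] (fun _ => (1 : K)) := by simp [lprod]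
  rw [e1] at key
  have hpos : n * lprod certF4 [r] (fun _ => (1 : K)) * n⁻¹ ∈ chevF4.posUnipotent K :=
    (Subgroup.mem_normalizer_iff.1 (diag_le_normalizer certF4 hh) _).2
      (key.symm ▸ lprod_mem_pos certF4 (fun r hr => (f4L6_pos r hr).1) _)
  have himg := supp_pos certF4 fullCertF4 (List.nodup_singleton r) hl hcm hw hpos (List.mem_singleton_self r)
    (show (1 : K) ≠ 0 from one_ne_zero)
  have hnd : ([r].map (wperm tblF4 w)).Nodup := by simp
  obtain ⟨t', -, e'⟩ := monomial_conj_lprod certF4 fullCertF4 hw hh hln hnd (fun _ => (1 : K))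
  obtain ⟨-, hB'⟩ := lprod_inj2 certF4 fullCertF4 hnd f4L6_nodup (fun x hx => by
    simp at hx; subst hx
    exact ⟨by omega, wperm_lt certF4 hw (hln r (List.mem_singleton_self r))⟩) f4L6_pos f4L6_comm (e'.symm.trans key)
  have h1 : a = wperm tblF4 w r := by
    by_contra hno
    exact hA (hB' a ha (by simpa using hno))
  have h2 : b = wperm tblF4 w r := by
    by_contra hno
    exact hB (hB' b hb (by simpa using hno))
  rcases hab with hab | ⟨rfl, rfl⟩
  · exact hab (h1.trans h2.symm)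
  · exact f4_noswap_apply (a := 47) (b := 44) (by norm_num) (by norm_num) f4_noswap.2 hw h1.symm

theorem f4_rep_mem (r s : ℕ) : (xg certF4 r (1 : K) * xg certF4 s 1 : GL chevF4.Idx K) ∈ chevF4.group K :=
  mul_mem (xg_mem_group certF4 r 1) (xg_mem_group certF4 s 1)

theorem f4_reps_props : ∀ y ∈ ([xg certF4 47 1, xg certF4 44 1, xg certF4 47 1 * xg certF4 44 1,
    xg certF4 39 1 * xg certF4 45 1] : List (GL chevF4.Idx K)), y ∈ chevF4.group K ∧ orderOf y = 2 := by
  haveI : Fact (Nat.Prime 2) := ⟨Nat.prime_two⟩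
  have hne : ∀ (l : List ℕ) (a : ℕ), a ∈ l → l.Nodup → (∀ r ∈ l, 24 ≤ r ∧ r < 48) →
      lprod certF4 l (fun _ => (1 : K)) ≠ 1 := by
    intro l a ha hnd hl e
    have h := lprod_inj certF4 fullCertF4.comm hnd (fun r hr => ⟨(hl r hr).1, (hl r hr).2⟩)
      (e.trans (lprod_zero certF4 (F := K) l).symm)
    exact one_ne_zero (h a ha)
  have hone : ∀ r, 24 ≤ r ∧ r < 48 → (xg certF4 r (1 : K) : GL chevF4.Idx K) ∈ chevF4.group K ∧
      orderOf (xg certF4 r (1 : K)) = 2 := fun r hr =>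
    ⟨xg_mem_group certF4 r 1, orderOf_eq_prime (by rw [sq, xg_add, CharTwo.add_self_eq_zero, xg_zero])
      (by simpa [lprod] using hne [r] r (by simp) (by simp) (by simpa using hr))⟩
  have htwo : ∀ r s, r ≠ s → 24 ≤ r ∧ r < 48 → 24 ≤ s ∧ s < 48 → f4c r s = true →
      (xg certF4 r (1 : K) * xg certF4 s 1 : GL chevF4.Idx K) ∈ chevF4.group K ∧
      orderOf (xg certF4 r (1 : K) * xg certF4 s 1) = 2 := fun r s hrs hr hs hc =>
    ⟨f4_rep_mem r s, orderOf_eq_prime (by
      rw [sq, Commute.mul_mul_mul_comm (xg_commute_odd certF4 fullCertF4 hc (1 : K) 1).symm, xg_add, xg_add,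
        CharTwo.add_self_eq_zero, xg_zero, xg_zero, mul_one])
      (by simpa [lprod] using hne [r, s] r (by simp) (by simp [hrs]) (by simp [hr, hs]))⟩
  intro y hy
  simp only [List.mem_cons, List.not_mem_nil, or_false] at hy
  rcases hy with rfl | rfl | rfl | rfl
  · exact hone 47 (by norm_num)
  · exact hone 44 (by norm_num)
  · exact htwo 47 44 (by norm_num) (by norm_num) (by norm_num) (by decide +kernel)
  · exact htwo 39 45 (by norm_num) (by norm_num) (by norm_num) (by decide +kernel)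

set_option maxHeartbeats 4000000 in
theorem f4_reps_not_conjugate {h : GL chevF4.Idx K} (hh : h ∈ chevF4.group K) {y₁ y₂ : GL chevF4.Idx K}
    (h1 : y₁ ∈ ([xg certF4 47 1, xg certF4 44 1, xg certF4 47 1 * xg certF4 44 1,
      xg certF4 39 1 * xg certF4 45 1] : List (GL chevF4.Idx K)))
    (h2 : y₂ ∈ ([xg certF4 47 1, xg certF4 44 1, xg certF4 47 1 * xg certF4 44 1,
      xg certF4 39 1 * xg certF4 45 1] : List (GL chevF4.Idx K)))
    (e : h * y₁ * h⁻¹ = y₂) : y₁ = y₂ := by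
  have hW : ∀ u ∈ chevF4.posUnipotent K, u⁻¹ * (xg certF4 47 (1 : K) * xg certF4 44 1) * u =
      lprod certF4 f4L6 (fun r => if r = 47 ∨ r = 44 then (1 : K) else 0) := fun u hu => by
    have hc := (f4Ww_commute (f4_pos_le_Ww hu)).eq
    rw [f4W_eq, mul_assoc, ← hc, inv_mul_cancel_left, ← f4W_eq]
    simp [lprod, f4L6, xg_zero]
    exact (xg_commute_odd certF4 fullCertF4 (show f4c 47 44 = true by decide +kernel) (1 : K) 1).eq
  have h44 : ∀ u ∈ chevF4.posUnipotent K, u⁻¹ * xg certF4 44 (1 : K) * u =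
      lprod certF4 f4L6 (fun r => if r = 44 then (1 : K) else 0) := fun u hu => by
    have hc : Commute u (xg certF4 44 (1 : K)) := f4_high_comm (Or.inr rfl) hu
    rw [mul_assoc, ← hc.eq, inv_mul_cancel_left]
    simp [lprod, f4L6, xg_zero]
  have hV : ∀ u ∈ chevF4.posUnipotent K, ∃ a b c d : K,
      u⁻¹ * (xg certF4 39 (1 : K) * xg certF4 45 1) * u = lprod certF4 f4L6 (f4Phi a b c d) := fun u hu => by
    obtain ⟨a, b, c', d, eu, -⟩ := f4V_orbit (F := K) (w := []) (fun _ h => absurd h List.not_mem_nil)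
      (neg := false) (c := u⁻¹) (by
        have hev := nroots_even (D := chevF4) certF4
        have hu' := inv_mem hu
        rw [posUnipotent_eq certF4] at hu'
        obtain ⟨p, hp, q, hq, e⟩ := upper_split certF4 fullCertF4 [] (chevF4.nroots / 2) (k := chevF4.nroots / 2)
          (by omega) (by omega) hu'
        have hq1 : q = 1 := by
          have hbot : signPart certF4 fullCertF4 K [] true (chevF4.nroots / 2) ≤ ⊥ :=
            (Subgroup.closure_le _).2 fun x ⟨r, t, h1, h2, h3, _⟩ => by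
              have := of_decide_eq_true h3
              simp [wperm] at this
              omega
          exact Subgroup.mem_bot.1 (hbot hq)
        rw [e, hq1, mul_one]; exact hp) 0 0 0 0
    refine ⟨a, b, c', d, ?_⟩
    rw [← f4V_zero, eu, inv_mul_cancel_right]
    rfl
  choose a b c d hV' using hV
  classical
  let φV : GL chevF4.Idx K → ℕ → K := fun u => if hu : u ∈ chevF4.posUnipotent K then
    f4Phi (a u hu) (b u hu) (c u hu) (d u hu) else fun _ => 0
  have V : ∀ u ∈ chevF4.posUnipotent K, u⁻¹ * (xg certF4 39 (1 : K) * xg certF4 45 1) * u =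
      lprod certF4 f4L6 (φV u) ∧ φV u 39 ≠ 0 ∧ φV u 45 ≠ 0 := fun u hu => by
    simp only [φV, dif_pos hu]
    exact ⟨hV' u hu, by simp [f4Phi], by simp [f4Phi]⟩
  have nW : ∀ (r : ℕ), r = 47 ∨ r = 44 → ∀ g ∈ chevF4.group K,
      g * xg certF4 r (1 : K) ≠ xg certF4 47 1 * xg certF4 44 1 * g := fun r hr g hg e' =>
    f4_single_not hr hg (φ := fun _ r => if r = 47 ∨ r = 44 then (1 : K) else 0) (a := 47) (b := 44) (by simp [f4L6])
      (by simp [f4L6]) (Or.inl (by norm_num)) (fun u hu => ⟨hW u hu, by simp, by simp⟩) e'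
  have nV : ∀ (r : ℕ), r = 47 ∨ r = 44 → ∀ g ∈ chevF4.group K,
      g * xg certF4 r (1 : K) ≠ xg certF4 39 1 * xg certF4 45 1 * g := fun r hr g hg e' =>
    f4_single_not hr hg (φ := φV) (a := 39) (b := 45) (by simp [f4L6]) (by simp [f4L6]) (Or.inl (by norm_num)) V e'
  have n44 : ∀ g ∈ chevF4.group K, g * xg certF4 47 (1 : K) ≠ xg certF4 44 1 * g := fun g hg e' =>
    f4_single_not (Or.inl rfl) hg (φ := fun _ r => if r = 44 then (1 : K) else 0) (a := 44) (b := 44) (by simp [f4L6])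
      (by simp [f4L6]) (Or.inr ⟨rfl, rfl⟩) (fun u hu => ⟨h44 u hu, by simp, by simp⟩) e'
  have nWV : ∀ g ∈ chevF4.group K, g * (xg certF4 47 (1 : K) * xg certF4 44 1) ≠ xg certF4 39 1 * xg certF4 45 1 * g :=
    fun g hg e' => by
      rw [f4W_eq, ← f4V_zero] at e'
      exact f4_WV_not_conj hg e'
  have hh' : h⁻¹ ∈ chevF4.group K := inv_mem hh
  have ef : h * y₁ = y₂ * h := mul_inv_eq_iff_eq_mul.1 e
  have eb : h⁻¹ * y₂ = y₁ * h⁻¹ := by rw [← e]; group
  simp only [List.mem_cons, List.not_mem_nil, or_false] at h1 h2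
  rcases h1 with rfl | rfl | rfl | rfl <;> rcases h2 with rfl | rfl | rfl | rfl <;>
    first
    | rfl
    | exact absurd ef (n44 _ hh)
    | exact absurd eb (n44 _ hh')
    | exact absurd ef (nW 47 (Or.inl rfl) _ hh)
    | exact absurd eb (nW 47 (Or.inl rfl) _ hh')
    | exact absurd ef (nW 44 (Or.inr rfl) _ hh)
    | exact absurd eb (nW 44 (Or.inr rfl) _ hh')
    | exact absurd ef (nV 47 (Or.inl rfl) _ hh)
    | exact absurd eb (nV 47 (Or.inl rfl) _ hh')
    | exact absurd ef (nV 44 (Or.inr rfl) _ hh)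
    | exact absurd eb (nV 44 (Or.inr rfl) _ hh')
    | exact absurd ef (nWV _ hh)
    | exact absurd eb (nWV _ hh')

end Cfsg.Lib.Chev
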