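import Cfsg.Agent.Lib.Chev.CoxeterChev
import Cfsg.Agent.Lib.Chev.TwGroup

/-!
The Weyl group of a twisted group as a Coxeter group.
-/

set_option autoImplicit false

namespace Cfsg.Lib.Chev

open Cfsg.Lie

variable {D : ChevalleyDatum} {T : Tbl} (C : Cert D T) (K : FullCert D T) {F : Type*} [Field F]
include C K

theorem exists_twisted_hom {τ : TwData} {G : Subgroup (GL D.Idx F)} (P : Cfsg.BNPair ↥G)
    (hB : P.B = (D.borelSubgroup F ⊓ G).subgroupOf G) (hN : P.N = (D.monomialSubgroup F ⊓ G).subgroupOf G)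
    (n : Fin τ.norb → ↥G) (hS : P.S = Set.range n) (hinj : Function.Injective n)
    (hlw : ∀ J < τ.norb, IsWord D (τ.lw J))
    (hn : ∀ J : Fin τ.norb, (wnu C F (τ.lw J))⁻¹ * (n J : GL D.Idx F) ∈ D.diagonalSubgroup F)
    {m : ℕ} (M : CoxeterMatrix (Fin m)) (e : Fin m ≃ Fin τ.norb)
    (hM : chkCox T (fun i => τ.lw (e i)) (fun i j => M i j) = true) :
    ∃ φ : ↥(D.monomialSubgroup F ⊓ G) →* M.Group, Function.Surjective φ ∧
      φ.ker = (D.diagonalSubgroup F ⊓ G).subgroupOf (D.monomialSubgroup F ⊓ G) := by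
  classical
  have hT : ∀ x : ↥G, x ∈ P.N → (x ∈ P.B ↔ (x : GL D.Idx F) ∈ D.diagonalSubgroup F) := by
    intro x hx
    rw [hN, Subgroup.mem_subgroupOf] at hx
    rw [hB, Subgroup.mem_subgroupOf, ← borel_inf_monomial C]
    exact ⟨fun h => ⟨h.1, hx.1⟩, fun h => ⟨h.1, x.2⟩⟩
  haveI : ((P.B ⊓ P.N).subgroupOf P.N).Normal :=
    ⟨fun t ht g => ⟨P.conj_mem _ g.2 _ ⟨ht.1, t.2⟩, (g * t * g⁻¹).2⟩⟩
  let eS : Fin m ≃ P.S := e.trans ((Equiv.ofInjective n hinj).trans (Equiv.setCongr hS.symm))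
  obtain ⟨cs, -⟩ := exists_coxeter_of_chk C K P M (fun i => τ.lw (e i)) (fun i => hlw _ (e i).2) eS
    (fun i => hn (e i)) hT hM
  let E : ↥P.N ≃* ↥(D.monomialSubgroup F ⊓ G) :=
    (MulEquiv.subgroupCongr hN).trans (Subgroup.subgroupOfEquivOfLe inf_le_right)
  let q : ↥P.N →* WeylQ P := QuotientGroup.mk' _
  refine ⟨cs.mulEquiv.toMonoidHom.comp (q.comp E.symm.toMonoidHom), ?_, ?_⟩
  · exact cs.mulEquiv.surjective.comp ((QuotientGroup.mk'_surjective _).comp E.symm.surjective)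
  · ext g
    rw [MonoidHom.mem_ker, Subgroup.mem_subgroupOf, MonoidHom.comp_apply, MonoidHom.comp_apply]
    show cs.mulEquiv (QuotientGroup.mk (E.symm g)) = 1 ↔ _
    rw [MulEquiv.map_eq_one_iff, QuotientGroup.eq_one_iff, Subgroup.mem_subgroupOf, Subgroup.mem_inf,
      and_iff_left (E.symm g).2, hT _ (E.symm g).2, Subgroup.mem_inf]
    exact (and_iff_left g.2.2).symm

end Cfsg.Lib.Chev
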