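import Cfsg.Agent.Lib.Chev.TwF4
import Cfsg.Agent.Lib.Chev.TwCox
import Cfsg.Agent.Lib.Chev.TwSimple

/-! Monomial group and perfectness of ²F₄(q). -/

set_option autoImplicit false
set_option linter.unusedSectionVars false
set_option maxRecDepth 100000

namespace Cfsg.Lib.Chev

open Cfsg.Lie
open scoped commutatorElement

theorem chkTwCoxF4 : chkCox tblF4 (fun i : Fin 2 => twF4.lw i.val) (fun i j => CoxeterMatrix.I 6 i j) = true := by
  decide +kernel

/-- The Coxeter group of type `I₂(8)` is dihedral. -/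
theorem coxeter_I_six_dihedral : Nonempty ((CoxeterMatrix.I 6).Group ≃* DihedralGroup 8) := by
  set M := CoxeterMatrix.I 6
  let cs := M.toCoxeterSystem
  set a := cs.simple 0
  set b := cs.simple 1
  let f0 : Fin 2 → DihedralGroup 8 := ![DihedralGroup.sr 0, DihedralGroup.sr 1]
  have hf0 : CoxeterMatrix.IsLiftable M f0 := by
    show ∀ i j, (f0 i * f0 j) ^ (M i j) = 1
    decide
  let f := cs.lift ⟨f0, hf0⟩
  have hfa : ∀ i, f (cs.simple i) = f0 i := fun i => cs.lift_apply_simple hf0 i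
  have h8 : (a * b) ^ 8 = 1 := cs.simple_mul_simple_pow 0 1
  have ha : a * a = 1 := cs.simple_mul_simple_self 0
  let e : ZMod 8 → M.Group := fun i => (a * b) ^ i.val
  have eadd : ∀ i j : ZMod 8, e (i + j) = e i * e j := fun i j => by
    show (a * b) ^ (i + j).val = _
    rw [← pow_add, ZMod.val_add, ← pow_eq_pow_mod _ h8]
  have e0 : e 0 = 1 := by simp [e]
  have eneg : ∀ i, e (-i) = (e i)⁻¹ := fun i => eq_inv_of_mul_eq_one_left (by rw [← eadd, neg_add_cancel, e0])
  have ae : ∀ i, a * e i = e (-i) * a := fun i => by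
    rw [eneg]
    show a * (a * b) ^ i.val = ((a * b) ^ i.val)⁻¹ * a
    have hb : b * b = 1 := cs.simple_mul_simple_self 1
    have hba : (a * b)⁻¹ = b * a := by
      rw [mul_inv_rev, inv_eq_of_mul_eq_one_right ha, inv_eq_of_mul_eq_one_right hb]
    rw [← inv_pow, hba]
    clear eadd eneg e0
    induction i.val with
    | zero => simp
    | succ n ih =>
      rw [pow_succ, ← mul_assoc, ih, pow_succ (b * a)]
      calc (b * a) ^ n * a * (a * b) = (b * a) ^ n * ((a * a) * b) := by group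
        _ = (b * a) ^ n * (b * (a * a)) := by rw [ha, one_mul, mul_one]
        _ = _ := by group
  let g : DihedralGroup 8 →* M.Group :=
    { toFun := fun x => match x with
        | .r i => e i
        | .sr i => a * e i
      map_one' := e0
      map_mul' := by
        rintro (i | i) (j | j)
        · exact eadd i j
        · show a * e (j - i) = e i * (a * e j)
          rw [ae, ← mul_assoc, show e i * a = a * e (-i) by rw [ae, neg_neg], mul_assoc, ← eadd, ← ae]
          congr 2; ring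
        · show a * e (i + j) = a * e i * e j
          rw [eadd, mul_assoc]
        · show e (j - i) = a * e i * (a * e j)
          rw [ae i, mul_assoc, ← mul_assoc a a, ha, one_mul, ← eadd]
          congr 1; ring }
  refine ⟨MonoidHom.toMulEquiv f g ?_ ?_⟩
  · refine cs.ext_simple fun i => ?_
    rw [MonoidHom.comp_apply, hfa, MonoidHom.id_apply]
    fin_cases i
    · show a * e 0 = a
      rw [e0, mul_one]
    · show a * (a * b) ^ (1 : ZMod 8).val = b
      rw [show (1 : ZMod 8).val = 1 from rfl, pow_one, ← mul_assoc, ha, one_mul]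
  · refine MonoidHom.ext fun x => ?_
    rcases x with i | i
    · show f (e i) = _
      simp only [e, map_pow, map_mul, a, b, hfa]
      revert i; decide
    · show f (a * e i) = _
      simp only [e, map_pow, map_mul, a, b, hfa]
      revert i; decide

theorem f4_conj_xg {K : Type*} [Field K] (c : Fin chevF4.rank → Kˣ) {r : ℕ} (hr : r < chevF4.nroots) (t : K) :
    torusHom chevF4 tblF4 K c * xg certF4C r t * (torusHom chevF4 tblF4 K c)⁻¹ =
      xg certF4C r (chr tblF4 chevF4 (extend' c) r * t) := by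
  rw [mul_inv_eq_iff_eq_mul]
  refine Units.ext ?_
  rw [Units.val_mul, Units.val_mul, coe_torusHom, coe_xg, coe_xg,
    scal_mul_x certF4C.spec (extend' c) (fun j _ => extend'_ne c j) hr]

variable {K : Type*} [Field K] [Fintype K] [CharP K esymF4.p] {m : ℕ} (hK : Fintype.card K = 2 ^ (2 * m + 1))
include hK

theorem f4_monomial_hom :
    ∃ φ : ↥(chevF4.monomialSubgroup K ⊓ (twOKF4 (K := K) m).fixed certF4C) →* DihedralGroup 8,
      Function.Surjective φ ∧ φ.ker = (chevF4.diagonalSubgroup K ⊓ (twOKF4 (K := K) m).fixed certF4C).subgroupOf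
        (chevF4.monomialSubgroup K ⊓ (twOKF4 (K := K) m).fixed certF4C) := by
  obtain ⟨P, n, hB, hN, hS, hinj, hn, -⟩ := (twOKF4 (K := K) m).exists_bnPair' certF4C fullCertF4 twCombF4 twLinkedF4
    (by decide) (f4_hne hK)
  obtain ⟨φ, hφ, hker⟩ := exists_twisted_hom certF4C fullCertF4 P hB hN n hS hinj
    (fun J hJ => twCombF4.lw_word J hJ) hn (CoxeterMatrix.I 6) (finCongr rfl) chkTwCoxF4
  obtain ⟨E⟩ := coxeter_I_six_dihedral
  refine ⟨E.toMonoidHom.comp φ, E.surjective.comp hφ, ?_⟩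
  rw [← hker]
  ext x
  rw [MonoidHom.mem_ker, MonoidHom.mem_ker, MonoidHom.comp_apply, MulEquiv.coe_toMonoidHom, EmbeddingLike.map_eq_one_iff]

omit [Fintype K] hK [CharP K esymF4.p] in
theorem f4Quad_split (A B C' D' : K) : ∃ a ∈ upper certF4C K 26, f4Quad 27 25 28 30 A B C' D' = xg certF4C 25 B * a := by
  refine ⟨xg certF4C 25 (-B) * xg certF4C 27 A * (xg certF4C 25 (-B))⁻¹ *
    (xg certF4C 28 C' * xg certF4C 30 D'), ?_, ?_⟩
  · exact mul_mem (conj_upper' certF4C fullCertF4.comm (by decide) _ (xg_mem_upper certF4C (by decide) _))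
      (mul_mem (xg_mem_upper certF4C (by decide) _) (xg_mem_upper certF4C (by decide) _))
  · rw [f4Quad, ← xg_inv]; group

/-- The fixed part of the second orbit subgroup is closed under products. -/
theorem f4Q_mul_fst (t u t' u' : K) :
    ∃ U, f4Q m 27 25 28 30 t u * f4Q m 27 25 28 30 t' u' = f4Q m 27 25 28 30 (t + t') U := by
  have hh := twOKF4 (K := K) m
  have hmem : ∀ t u : K, f4Q m 27 25 28 30 t u ∈ signPart certF4C fullCertF4 K (twF4.lw 1) true (chevF4.nroots / 2) ⊓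
      (twOKF4 (K := K) m).fixed certF4C := fun t u => by
    have h : f4Q m 27 25 28 30 t u ∈ twFixPart certF4C (twF4σ (K := K) m) (twF4.base 1) := by
      rw [f4_fixPart1 hK]; exact ⟨t, u, rfl⟩
    exact ⟨((twOKF4 (K := K) m).base_mem_signPart certF4C fullCertF4 twCombF4 (by decide)).1 h.1,
      f4Q_fixed hK chkF4QuadPos t u⟩
  obtain ⟨h1, h2⟩ := Subgroup.mem_inf.1 (Subgroup.mul_mem _ (hmem t u) (hmem t' u'))
  have hP : f4Q m 27 25 28 30 t u * f4Q m 27 25 28 30 t' u' ∈ twFixPart certF4C (twF4σ (K := K) m) (twF4.base 1) :=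
    ⟨((twOKF4 (K := K) m).base_mem_signPart certF4C fullCertF4 twCombF4 (by decide)).2 h1, h2.2⟩
  rw [f4_fixPart1 hK] at hP
  obtain ⟨s, U, e⟩ := hP
  obtain ⟨a, ha, ea⟩ := f4Quad_split (t ^ 2 ^ m) t (t ^ (2 ^ m + 1) + u) (u ^ (2 * 2 ^ m))
  obtain ⟨b, hb, eb⟩ := f4Quad_split (t' ^ 2 ^ m) t' (t' ^ (2 ^ m + 1) + u') (u' ^ (2 * 2 ^ m))
  obtain ⟨c, hc, ec⟩ := f4Quad_split (s ^ 2 ^ m) s (s ^ (2 ^ m + 1) + U) (U ^ (2 * 2 ^ m))
  have e' : xg certF4C 25 (t + t') * (xg certF4C 25 (-t') * a * (xg certF4C 25 (-t'))⁻¹ * b) = xg certF4C 25 s * c := by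
    rw [← xg_add, ← xg_inv, ← ec]
    refine Eq.trans ?_ e
    rw [f4Q, f4Q, ea, eb]; group
  obtain ⟨rfl, -⟩ := upper_unique certF4C (show chevF4.nroots ≤ 2 * 25 by decide) (by decide)
    (mul_mem (conj_upper' certF4C fullCertF4.comm (show chevF4.nroots ≤ 2 * 25 by decide) _ ha) hb) hc e'
  exact ⟨U, e⟩

set_option maxHeartbeats 1000000 in
/-- Perfectness for `q ≥ 8`. -/
theorem twistedF4_perfect (hm : 1 ≤ m) : commutator ↥((twOKF4 (K := K) m).fixed certF4C) = ⊤ := by
  set G := (twOKF4 (K := K) m).fixed certF4C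
  let W : Subgroup (GL chevF4.Idx K) := (commutator ↥G).map G.subtype
  suffices h : G ≤ W by
    refine eq_top_iff.2 fun x _ => ?_
    obtain ⟨y, hy, e⟩ := h x.2
    rwa [show x = y from Subtype.ext e.symm]
  obtain ⟨v, hv⟩ : ∃ v : Kˣ, v ≠ 1 := by
    classical
    by_contra hno
    push Not at hno
    have : Fintype.card Kˣ ≤ 1 := Fintype.card_le_one_iff.2 fun a b => (hno a).trans (hno b).symm
    rw [Fintype.card_units, hK] at this
    have h8 : 2 ^ 3 ≤ 2 ^ (2 * m + 1) := Nat.pow_le_pow_right (by norm_num) (by omega)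
    omega
  set k := torusHom chevF4 tblF4 K (f4Par m v 1) with hk
  have hkG : k ∈ G := ((f4_mem_diag hK).2 ⟨v, 1, rfl⟩).2
  have hext : ∀ j, j < 4 → extend' (f4Par m v 1) j = [(v : K) ^ 2 ^ m, 1, 1, (v : K)].getD j 0 := by
    intro j hj
    rw [extend', dif_pos (show j < chevF4.rank from hj)]
    interval_cases j <;> simp [f4Par] <;> rfl
  have hchr : ∀ r, chr tblF4 chevF4 (extend' (f4Par m v 1)) r =
      ((v : K) ^ 2 ^ m) ^ tblF4.cartan 0 r * (v : K) ^ tblF4.cartan 3 r := by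
    intro r
    rw [chr, show chevF4.rank = 4 from rfl, Finset.prod_range_succ, Finset.prod_range_succ, Finset.prod_range_succ,
      Finset.prod_range_one, hext 0 (by norm_num), hext 1 (by norm_num), hext 2 (by norm_num), hext 3 (by norm_num)]
    simp
  have hconj := fun r (hr : r < chevF4.nroots) (y : K) => f4_conj_xg (f4Par m v 1) hr y
  have hv1 : (v : K) ≠ 1 := fun e => hv (Units.ext e)
  have c24 : chr tblF4 chevF4 (extend' (f4Par m v 1)) 24 = (v : K) ^ 2 := by
    rw [hchr, show tblF4.cartan 0 24 = 0 by decide +kernel, show tblF4.cartan 3 24 = 2 by decide +kernel]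
    simp [zpow_ofNat]
  have c25 : chr tblF4 chevF4 (extend' (f4Par m v 1)) 25 = (v : K)⁻¹ := by
    rw [hchr, show tblF4.cartan 0 25 = 0 by decide +kernel, show tblF4.cartan 3 25 = -1 by decide +kernel]
    simp
  have c28 : chr tblF4 chevF4 (extend' (f4Par m v 1)) 28 = ((v : K) ^ (2 ^ m + 1))⁻¹ := by
    rw [hchr, show tblF4.cartan 0 28 = -1 by decide +kernel, show tblF4.cartan 3 28 = -1 by decide +kernel]
    simp [pow_succ, mul_comm]
  have h24 : (v : K) ^ 2 - 1 ≠ 0 := fun e => hv1 (by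
    have : ((v : K) - 1) ^ 2 = 0 := by linear_combination e + (1 - (v : K)) * f4_two_eq_zero (K := K)
    exact sub_eq_zero.1 (pow_eq_zero_iff two_ne_zero |>.1 this))
  have h25 : (v : K)⁻¹ - 1 ≠ 0 := fun e => hv1 (inv_eq_one.1 (sub_eq_zero.1 e))
  have h28 : ((v : K) ^ (2 ^ m + 1))⁻¹ - 1 ≠ 0 := fun e => by
    have h1 := inv_eq_one.1 (sub_eq_zero.1 e)
    refine hv ((injective_iff_map_eq_one _).1 (f4_pow_bijective hK).1 v (Units.ext ?_))
    show ((v ^ (2 * 2 ^ m + 2) : Kˣ) : K) = 1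
    rw [Units.val_pow_eq_pow_val, show 2 * 2 ^ m + 2 = (2 ^ m + 1) * 2 by ring, pow_mul, h1, one_pow]
  -- first orbit
  have hPconj : ∀ t : K, k * f4P m 33 24 t * k⁻¹ = f4P m 33 24 ((v : K) ^ 2 * t) := by
    intro t
    have e : k * f4P m 33 24 t * k⁻¹ = f4Pair 33 24 (chr tblF4 chevF4 (extend' (f4Par m v 1)) 33 * t ^ 2 ^ m)
        ((v : K) ^ 2 * t) := by
      rw [f4Pair, ← hconj 33 (by decide), ← c24, ← hconj 24 (by decide), ← hk, f4P, f4Pair]; group
    have hfix : k * f4P m 33 24 t * k⁻¹ ∈ G :=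
      Subgroup.mul_mem _ (Subgroup.mul_mem _ hkG (f4P_fixed hK chkF4PairPos t)) (Subgroup.inv_mem _ hkG)
    have hfix2 := hfix.2
    rw [e, f4Pair_twist chkF4PairPos] at hfix2
    rw [e, f4P, ← (f4Pair_inj hfix2).1]
  have hPadd : ∀ a b : K, f4P m 33 24 a * f4P m 33 24 b = f4P m 33 24 (a + b) := by
    intro a b
    have hC := xg_commute_mod (p := esymF4.p) certF4C fullCertF4.comm (F := K)
      (show chkCommMod esymF4.p tblF4 33 24 = true by decide +kernel) (b ^ 2 ^ m) a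
    rw [f4P, f4P, f4P, f4Pair, f4Pair, f4Pair, f4_add_pow, ← xg_add, ← xg_add]
    rw [show ∀ w x y z : GL chevF4.Idx K, w * x * (y * z) = w * (x * y) * z from fun w x y z => by group, ← hC.eq]
    group
  have hP : ∀ t : K, f4P m 33 24 t ∈ W := fun t => by
    have h := commutator_image_mem hkG (f4P_fixed hK chkF4PairPos (((v : K) ^ 2 - 1)⁻¹ * t))
    rw [hPconj] at h
    have e : f4P m 33 24 ((v : K) ^ 2 * (((v : K) ^ 2 - 1)⁻¹ * t)) =
        f4P m 33 24 t * f4P m 33 24 (((v : K) ^ 2 - 1)⁻¹ * t) := by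
      rw [hPadd]; congr 1; field_simp; ring
    rw [e, mul_inv_cancel_right] at h
    exact h
  -- second orbit
  have hQconj : ∀ t u : K, ∃ u', k * f4Q m 27 25 28 30 t u * k⁻¹ = f4Q m 27 25 28 30 ((v : K)⁻¹ * t) u' ∧
      (t = 0 → u' = ((v : K) ^ (2 ^ m + 1))⁻¹ * u) := by
    intro t u
    have e : k * f4Q m 27 25 28 30 t u * k⁻¹ = f4Quad 27 25 28 30
        (chr tblF4 chevF4 (extend' (f4Par m v 1)) 27 * t ^ 2 ^ m) ((v : K)⁻¹ * t)
        (((v : K) ^ (2 ^ m + 1))⁻¹ * (t ^ (2 ^ m + 1) + u))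
        (chr tblF4 chevF4 (extend' (f4Par m v 1)) 30 * u ^ (2 * 2 ^ m)) := by
      rw [f4Quad, ← hconj 27 (by decide), ← c25, ← hconj 25 (by decide), ← c28, ← hconj 28 (by decide),
        ← hconj 30 (by decide), ← hk, f4Q, f4Quad]
      group
    have hfix : k * f4Q m 27 25 28 30 t u * k⁻¹ ∈ G :=
      Subgroup.mul_mem _ (Subgroup.mul_mem _ hkG (f4Q_fixed hK chkF4QuadPos t u)) (Subgroup.inv_mem _ hkG)
    have hmem : k * f4Q m 27 25 28 30 t u * k⁻¹ ∈ twFixPart certF4C (twF4σ (K := K) m) (twF4.base 1) :=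
      ⟨by rw [e]; exact ⟨_, f4Quad_lprod _ _ _ _⟩, hfix.2⟩
    rw [f4_fixPart1 hK] at hmem
    obtain ⟨t', u', e'⟩ := hmem
    have e2 := e.symm.trans e'
    rw [f4Q] at e2
    obtain ⟨-, h2, h3, -⟩ := f4Quad_inj e2
    refine ⟨u', by rw [e', ← h2], fun ht => ?_⟩
    subst ht
    rw [mul_zero] at h2
    rw [← h2] at h3
    simpa [zero_pow] using h3.symm
  have hQadd0 : ∀ a b : K, f4Q m 27 25 28 30 0 a * f4Q m 27 25 28 30 0 b = f4Q m 27 25 28 30 0 (a + b) := by
    intro a b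
    have hC := xg_commute_mod (p := esymF4.p) certF4C fullCertF4.comm (F := K)
      (show chkCommMod esymF4.p tblF4 28 30 = true by decide +kernel) b (a ^ (2 * 2 ^ m))
    have hp : (a + b) ^ (2 * 2 ^ m) = a ^ (2 * 2 ^ m) + b ^ (2 * 2 ^ m) := by
      rw [← pow_succ']; exact f4_add_pow _ _ _
    simp only [f4Q, f4Quad, hp, xg_zero, zero_pow (Nat.succ_ne_zero _), zero_pow (pow_ne_zero m two_ne_zero),
      zero_add, mul_one, one_mul, ← xg_add]
    rw [show ∀ w x y z : GL chevF4.Idx K, w * x * (y * z) = w * (x * y) * z from fun w x y z => by group, ← hC.eq]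
    group
  have hQ0 : ∀ u : K, f4Q m 27 25 28 30 0 u ∈ W := fun u => by
    set d := ((v : K) ^ (2 ^ m + 1))⁻¹
    obtain ⟨u', e1, e2⟩ := hQconj 0 ((d - 1)⁻¹ * u)
    have h := commutator_image_mem hkG (f4Q_fixed hK chkF4QuadPos 0 ((d - 1)⁻¹ * u))
    rw [e1, e2 rfl, mul_zero] at h
    have e : f4Q m 27 25 28 30 0 (d * ((d - 1)⁻¹ * u)) =
        f4Q m 27 25 28 30 0 u * f4Q m 27 25 28 30 0 ((d - 1)⁻¹ * u) := by
      rw [hQadd0]; congr 1; field_simp; ring
    rw [e, mul_inv_cancel_right] at h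
    exact h
  have hQ : ∀ t u : K, f4Q m 27 25 28 30 t u ∈ W := fun T U => by
    set t := ((v : K)⁻¹ - 1)⁻¹ * T
    obtain ⟨u', e1, -⟩ := hQconj t 0
    have hx := commutator_image_mem hkG (f4Q_fixed hK chkF4QuadPos t 0)
    have hbm := fun t u => ((twOKF4 (K := K) m).base_mem_signPart certF4C fullCertF4 twCombF4 (show 1 < twF4.norb by decide)).1
      (show f4Q m 27 25 28 30 t u ∈ Pset certF4C (twF4.base 1) from ⟨_, f4Quad_lprod _ _ _ _⟩)
    have hxp : k * f4Q m 27 25 28 30 t 0 * k⁻¹ * (f4Q m 27 25 28 30 t 0)⁻¹ ∈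
        twFixPart certF4C (twF4σ (K := K) m) (twF4.base 1) := by
      refine ⟨((twOKF4 (K := K) m).base_mem_signPart certF4C fullCertF4 twCombF4 (by decide)).2 ?_, ?_⟩
      · rw [e1]; exact Subgroup.mul_mem _ (hbm _ _) (Subgroup.inv_mem _ (hbm _ _))
      · exact (Subgroup.mul_mem _ (Subgroup.mul_mem _ (Subgroup.mul_mem _ hkG (f4Q_fixed hK chkF4QuadPos t 0))
          (Subgroup.inv_mem _ hkG)) (Subgroup.inv_mem _ (f4Q_fixed hK chkF4QuadPos t 0)) : _ ∈ G).2
    rw [f4_fixPart1 hK] at hxp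
    obtain ⟨T', U', ex⟩ := hxp
    rw [ex] at hx
    obtain ⟨U2, e3⟩ := f4Q_mul_fst hK T' U' t 0
    rw [← ex, inv_mul_cancel_right, e1] at e3
    have hT : T' = T := by
      have h2 := (f4Quad_inj e3).2.1
      have : ((v : K)⁻¹ - 1) * t = T := by simp [t, h25]
      linear_combination this - h2
    subst hT
    have hrel : (f4Q m 27 25 28 30 T' U')⁻¹ * f4Q m 27 25 28 30 T' U ∈
        twFixPart certF4C (twF4σ (K := K) m) (twF4.base 1) :=
      ⟨((twOKF4 (K := K) m).base_mem_signPart certF4C fullCertF4 twCombF4 (by decide)).2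
        (Subgroup.mul_mem _ (Subgroup.inv_mem _ (hbm _ _)) (hbm _ _)),
        (Subgroup.mul_mem _ (Subgroup.inv_mem _ (f4Q_fixed hK chkF4QuadPos T' U')) (f4Q_fixed hK chkF4QuadPos T' U) :
          _ ∈ G).2⟩
    rw [f4_fixPart1 hK] at hrel
    obtain ⟨τ, ν, er⟩ := hrel
    have e4 : f4Q m 27 25 28 30 T' U' * f4Q m 27 25 28 30 τ ν = f4Q m 27 25 28 30 T' U := by rw [← er]; group
    obtain ⟨U5, e5⟩ := f4Q_mul_fst hK T' U' τ ν
    rw [e4] at e5
    have hτ : τ = 0 := by
      have := (f4Quad_inj e5).2.1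
      linear_combination -this
    subst hτ
    rw [← e4]
    exact W.mul_mem hx (hQ0 ν)
  -- negative generators
  have hflip : ∀ J < twF4.norb, ∀ g : GL chevF4.Idx K, g ∈ G →
      g ∈ Pset certF4C ((twF4.base J).map tblF4.neg) →
      (∀ h ∈ twFixPart certF4C (twF4σ (K := K) m) (twF4.base J), h ∈ W) → g ∈ W := by
    intro J hJ g hgG hgP hW
    obtain ⟨n, hn, hs, hd⟩ := (twOKF4 (K := K) m).rep J hJ
    have hnG : n ∈ G := ⟨hn, hs⟩
    have hl : ((twF4.base J).map tblF4.neg).map (wperm tblF4 (twF4.lw J)) = twF4.base J := by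
      have : J = 0 ∨ J = 1 := by
        have : J < 2 := hJ
        omega
      rcases this with rfl | rfl <;> decide +kernel
    have h1 : n * g * n⁻¹ ∈ Pset certF4C (twF4.base J) := by
      have h0 := (mono_conj_pset certF4C (twCombF4.lw_word J hJ) hd (l := (twF4.base J).map tblF4.neg) ?_).1 hgP
      · rwa [hl] at h0
      · intro r hr
        obtain ⟨s, hs', rfl⟩ := List.mem_map.1 hr
        exact certF4C.spec.neg_lt s (twCombF4.base_lt J hJ s hs')
    have h2 := hW _ ⟨h1, (Subgroup.mul_mem _ (Subgroup.mul_mem _ hnG hgG) (Subgroup.inv_mem _ hnG) : _ ∈ G).2⟩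
    have h3 := commutator_image_conj (Subgroup.inv_mem _ hnG) h2
    rwa [inv_inv, show n⁻¹ * (n * g * n⁻¹) * n = g by group] at h3
  refine f4_fixed_le hK hP (fun t => ?_) hQ fun t u => ?_
  · refine hflip 0 (by decide) _ (f4P_fixed hK chkF4PairNeg t) ⟨fun r => if r = 14 then t ^ 2 ^ m else t, ?_⟩ ?_
    · rw [show (twF4.base 0).map tblF4.neg = [14, 23] by decide +kernel]
      simp [f4P, f4Pair, lprod]
    · intro h hh
      rw [f4_fixPart0 hK] at hh
      obtain ⟨s, rfl⟩ := hh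
      exact hP s
  · refine hflip 1 (by decide) _ (f4Q_fixed hK chkF4QuadNeg t u) ⟨fun r => if r = 20 then t ^ 2 ^ m else
      if r = 22 then t else if r = 19 then t ^ (2 ^ m + 1) + u else u ^ (2 * 2 ^ m), ?_⟩ ?_
    · rw [show (twF4.base 1).map tblF4.neg = [20, 22, 19, 17] by decide +kernel]
      simp [f4Q, f4Quad, lprod, mul_assoc]
    · intro h hh
      rw [f4_fixPart1 hK] at hh
      obtain ⟨s, s', rfl⟩ := hh
      exact hQ s s'

omit [CharP K esymF4.p] in
theorem f4_charP : CharP K esymF4.p :=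
  @charP_of_card_eq_prime_pow K _ _ _ 2 (2 * m + 1) ⟨Nat.prime_two⟩ hK

end Cfsg.Lib.Chev
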