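import Cfsg.Agent.Lib.Chev.F4InvTreeOk
import Cfsg.Agent.Lib.Chev.F4PairCent
import Cfsg.Agent.Lib.Chev.TwF4Facts

/-!
Every involution of the positive unipotent group of type F4 in characteristic two reduces to one of four.
-/

set_option autoImplicit false
set_option maxRecDepth 100000
set_option linter.unusedSectionVars false
set_option linter.unusedSimpArgs false

namespace Cfsg.Lib.Chev

open Cfsg.Lie

variable {K : Type*} [Field K] [CharP K 2]

/-- The value of a monomial. -/
def fmEval (e : ℕ → K) (mo : List ℕ) : K := (mo.map e).prod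

/-- The value of a polynomial. -/
def fpEval (e : ℕ → K) (p : FPoly) : K := (p.map (fmEval e)).sum

theorem fmEval_mul (e : ℕ → K) (a b : List ℕ) : fmEval e (fmMul a b) = fmEval e a * fmEval e b := by
  have hins : ∀ (x : ℕ) (l : List ℕ), fmEval e (fmIns x l) = e x * fmEval e l := by
    intro x l
    induction l with
    | nil => simp [fmEval, fmIns]
    | cons y l ih =>
      rw [fmIns]
      split_ifs
      · simp [fmEval]
      · simp only [fmEval, List.map_cons, List.prod_cons] at ih ⊢
        rw [ih]; ring
  induction a with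
  | nil => simp [fmMul, fmEval]
  | cons x a ih =>
    rw [fmMul, List.foldr_cons, hins, ← fmMul, ih]
    simp [fmEval, mul_assoc]

theorem fpEval_tog (e : ℕ → K) (mo : List ℕ) (p : FPoly) : fpEval e (fpTog mo p) = fmEval e mo + fpEval e p := by
  induction p with
  | nil => simp [fpTog, fpEval]
  | cons x p ih =>
    rw [fpTog]
    split_ifs with h
    · rw [eq_of_beq h]
      simp only [fpEval, List.map_cons, List.sum_cons]
      rw [← add_assoc, CharTwo.add_self_eq_zero, zero_add]
    · simp only [fpEval, List.map_cons, List.sum_cons] at ih ⊢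
      rw [ih]; ring

theorem fpEval_add (e : ℕ → K) (p q : FPoly) : fpEval e (fpAdd p q) = fpEval e p + fpEval e q := by
  induction p with
  | nil => simp [fpAdd, fpEval]
  | cons x p ih =>
    rw [fpAdd, List.foldr_cons, fpEval_tog, ← fpAdd, ih]
    simp [fpEval, add_assoc]

theorem fpEval_mul (e : ℕ → K) (p q : FPoly) : fpEval e (fpMul p q) = fpEval e p * fpEval e q := by
  have hq : ∀ (a : List ℕ) (r : FPoly), fpEval e (q.foldr (fun b r => fpTog (fmMul a b) r) r) =
      fmEval e a * fpEval e q + fpEval e r := by
    intro a r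
    induction q with
    | nil => simp [fpEval]
    | cons b q ih =>
      rw [List.foldr_cons, fpEval_tog, ih, fmEval_mul]
      simp only [fpEval, List.map_cons, List.sum_cons]
      ring
  induction p with
  | nil => simp [fpMul, fpEval]
  | cons a p ih =>
    rw [fpMul, List.foldr_cons, hq, ← fpMul, ih]
    simp only [fpEval, List.map_cons, List.sum_cons]
    ring

theorem fpEval_pow (e : ℕ → K) (p : FPoly) : ∀ n, fpEval e (fpPow p n) = fpEval e p ^ n
  | 0 => by simp [fpPow, fpEval, fmEval]
  | n + 1 => by rw [fpPow, fpEval_mul, fpEval_pow e p n, pow_succ']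

theorem fpEval_var (e : ℕ → K) (x : ℕ) : fpEval e [[x]] = e x := by simp [fpEval, fmEval]

theorem fpIns_length : ∀ (n i : ℕ) (a : FPoly) (j : ℕ) (l : List FPoly), (fpIns n i a j l).length = l.length := by
  intro n
  induction n with
  | zero => intros; rfl
  | succ n ih =>
    intro i a j l
    cases l with
    | nil => rfl
    | cons b l =>
      have hf : ∀ cs : List (ℕ × ℕ × ℕ),
          (cs.foldr (fun c l => fpIns n c.1 (fpMul (fpPow b c.2.1) (fpPow a c.2.2)) (j + 1) l) l).length = l.length := by
        intro cs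
        induction cs with
        | nil => rfl
        | cons c cs ihc => rw [List.foldr_cons, ih, ihc]
      rw [fpIns]
      split_ifs
      · rfl
      · rfl
      · rw [List.length_cons, List.length_cons, ih]
      · rw [List.length_cons, List.length_cons, ih, hf]

theorem fpIns_prod (e : ℕ → K) : ∀ (n i : ℕ) (a : FPoly) (j : ℕ) (l : List FPoly), l.length ≤ n → j + l.length = 24 →
    j ≤ i → i < 24 →
    fProd j ((fpIns n i a j l).map (fpEval e)) = xg certF4C (24 + i) (fpEval e a) * fProd j (l.map (fpEval e)) := by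
  intro n
  induction n with
  | zero => intro i a j l h1 h2 h3 h4; omega
  | succ n ih =>
    intro i a j l h1 h2 h3 h4
    cases l with
    | nil => simp at h2; omega
    | cons b l =>
      simp only [List.length_cons] at h1 h2
      rw [fpIns]
      by_cases ha : a.isEmpty = true
      · rw [if_pos ha, List.isEmpty_iff.1 ha]
        simp [fpEval, xg_zero]
      rw [if_neg ha]
      by_cases hij : i = j
      · subst hij
        rw [if_pos rfl, List.map_cons, List.map_cons, fProd, fProd, ← mul_assoc, xg_add, fpEval_add]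
      rw [if_neg hij]
      have hc := chkFS_ok
      simp only [chkFS, allBelow_iff, Bool.or_eq_true, Bool.and_eq_true, Nat.beq_eq, Bool.not_eq_true',
        beq_iff_eq, List.all_eq_true, Nat.blt_eq] at hc
      obtain ⟨hn, hodd, hterm⟩ := (hc i h4 j (by omega)).resolve_left hij
      have hs := xg_swap certF4C fullCertF4 (F := K) (r := 24 + j) (s := 24 + i)
        (show 24 + j < 48 by omega) (show 24 + i < 48 by omega) (by omega) (Nat.ne_of_beq_eq_false hn)
        (fpEval e b) (fpEval e a)
      rw [hodd, List.map_map] at hs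
      by_cases hb : b.isEmpty = true
      · rw [if_pos hb, List.map_cons, List.map_cons, fProd, fProd,
          ih i a (j + 1) l (by omega) (by omega) (by omega) h4, List.isEmpty_iff.1 hb]
        simp [fpEval, xg_zero]
      rw [if_neg hb]
      have hlen : ∀ cs : List (ℕ × ℕ × ℕ),
          (cs.foldr (fun c l => fpIns n c.1 (fpMul (fpPow b c.2.1) (fpPow a c.2.2)) (j + 1) l) l).length = l.length := by
        intro cs
        induction cs with
        | nil => rfl
        | cons c cs ihc => rw [List.foldr_cons, fpIns_length, ihc]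
      have hfold : ∀ cs : List (ℕ × ℕ × ℕ), (∀ c ∈ cs, i < c.1 ∧ j < c.1 ∧ c.1 < 24) →
          fProd (j + 1) ((cs.foldr (fun c l => fpIns n c.1 (fpMul (fpPow b c.2.1) (fpPow a c.2.2)) (j + 1) l) l).map (fpEval e)) =
            (cs.map fun c => xg certF4C (24 + c.1) (fpEval e b ^ c.2.1 * fpEval e a ^ c.2.2)).prod *
              fProd (j + 1) (l.map (fpEval e)) := by
        intro cs
        induction cs with
        | nil => intro _; simp
        | cons c cs ihc =>
          intro h
          have hcc := h c (List.mem_cons_self ..)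
          rw [List.foldr_cons, ih c.1 _ (j + 1) _ (by rw [hlen]; omega) (by rw [hlen]; omega) (by omega) hcc.2.2,
            ihc fun x hx => h x (List.mem_cons_of_mem _ hx), List.map_cons, List.prod_cons, mul_assoc, fpEval_mul,
            fpEval_pow, fpEval_pow]
      rw [List.map_cons, List.map_cons, fProd, fProd,
        ih i a (j + 1) _ (by rw [hlen]; omega) (by rw [hlen]; omega) (by omega) h4,
        hfold _ hterm, ← mul_assoc (xg certF4C (24 + i) (fpEval e a)) (xg certF4C (24 + j) (fpEval e b)), hs]
      simp only [mul_assoc, Function.comp_def]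

theorem fpNf_length : ∀ w : List (ℕ × FPoly), (fpNf w).length = 24
  | [] => by simp [fpNf]
  | (i, a) :: w => by rw [fpNf, fpIns_length, fpNf_length w]

theorem fpNf_prod (e : ℕ → K) : ∀ {w : List (ℕ × FPoly)}, (∀ p ∈ w, p.1 < 24) →
    fProd 0 ((fpNf w).map (fpEval e)) = fVal (w.map fun p => (p.1, fpEval e p.2))
  | [], _ => by simp [fpNf, fProd, fVal, List.replicate, fpEval, xg_zero]
  | (i, a) :: w, hw => by
    rw [fpNf, fpIns_prod e 24 i a 0 _ (by rw [fpNf_length]) (by rw [fpNf_length]) (Nat.zero_le _)
      (hw (i, a) (List.mem_cons_self ..)), fpNf_prod e fun q hq => hw q (List.mem_cons_of_mem _ hq)]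
    simp [fVal]

/-- The product with the parameters `v`. -/
noncomputable def fEl (v : ℕ → K) : GL chevF4.Idx K := fProd 0 ((List.range 24).map v)

/-- Conjugate to one of the four representatives, or trivial. -/
def FReach (g : GL chevF4.Idx K) : Prop :=
  g = 1 ∨ ∃ h ∈ chevF4.group K, h * g * h⁻¹ ∈ ([xg certF4 47 1, xg certF4 44 1,
    xg certF4 47 1 * xg certF4 44 1, xg certF4 39 1 * xg certF4 45 1] : List (GL chevF4.Idx K))

theorem FReach.conj {g h : GL chevF4.Idx K} (hh : h ∈ chevF4.group K) (H : FReach (h * g * h⁻¹)) : FReach g := by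
  rcases H with H | ⟨k, hk, hm⟩
  · exact Or.inl (conj_eq_one_iff.1 H)
  · refine Or.inr ⟨k * h, mul_mem hk hh, ?_⟩
    rwa [show k * h * g * (k * h)⁻¹ = k * (h * g * h⁻¹) * k⁻¹ by group]

theorem fProd_fVal : ∀ (n j : ℕ) (v : ℕ → K),
    fProd j ((List.range' j n).map v) = fVal ((List.range' j n).map fun x => (x, v x))
  | 0, j, v => by simp [fProd, fVal]
  | n + 1, j, v => by
    rw [List.range'_succ, List.map_cons, List.map_cons, fProd, fProd_fVal n (j + 1) v]
    simp [fVal]

theorem fEl_word (v : ℕ → K) (S : ℕ) (hS : ∀ x < 24, S.testBit x = false → v x = 0) :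
    fEl v = fVal ((fSupp S).map fun x => (x, v x)) := by
  have h : ∀ l : List ℕ, (∀ x ∈ l, x < 24) →
      fVal (l.map fun x => (x, v x)) = fVal ((l.filter (Nat.testBit S)).map fun x => (x, v x)) := by
    intro l
    induction l with
    | nil => intro _; rfl
    | cons a l ih =>
      intro hl
      have ih' := ih fun x hx => hl x (List.mem_cons_of_mem _ hx)
      cases ha : S.testBit a
      · rw [List.filter_cons_of_neg (by simp [ha]), ← ih']
        simp [fVal, hS a (hl a (List.mem_cons_self ..)) ha, xg_zero]
      · rw [List.filter_cons_of_pos ha]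
        simp only [fVal, List.map_cons, List.prod_cons] at ih' ⊢
        rw [ih']
  rw [fEl, fSupp, ← h _ fun x hx => List.mem_range.1 hx, List.range_eq_range', fProd_fVal]

theorem fEl_pos (v : ℕ → K) : fEl v ∈ chevF4.posUnipotent K := by
  rw [fEl, List.range_eq_range', fProd_fVal]
  exact fVal_pos fun p hp => by
    obtain ⟨x, hx, rfl⟩ := List.mem_map.1 hp
    have := List.mem_range'_1.1 hx
    show x < 24
    omega

/-- An evaluated list is the element of its values. -/
theorem fEl_of_list (e : ℕ → K) (y : List FPoly) (hy : y.length = 24) :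
    fProd 0 (y.map (fpEval e)) = fEl fun x => fpEval e (y.getD x []) := by
  rw [fEl]
  congr 1
  refine List.ext_getElem (by simp [hy]) fun i h1 h2 => ?_
  simp at h1 h2 ⊢
  rw [List.getElem?_eq_getElem h1]
  simp

/-- What a node asserts. -/
def FNodeGood (K : Type*) [Field K] [CharP K 2] : FNode → Prop
  | (S, N, _) => ∀ v : ℕ → K, (∀ x < 24, S.testBit x = false → v x = 0) →
      (∀ x < 24, N.testBit x = true → v x ≠ 0) → fEl v * fEl v = 1 → FReach (fEl v)

theorem fCovers_reach {ns : List FNode} (hns : ∀ nd ∈ ns, FNodeGood K nd) {c skip N : ℕ} {y : List FPoly}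
    (h : fCovers ns c skip N y = true) {e : ℕ → K} (he : ∀ x < 24, N.testBit x = true → e x ≠ 0)
    (hskip : skip < 24 → fpEval e (y.getD skip []) = 0) (hy : y.length = 24)
    (hsq : fProd 0 (y.map (fpEval e)) * fProd 0 (y.map (fpEval e)) = 1) :
    FReach (fProd 0 (y.map (fpEval e))) := by
  unfold fCovers at h
  cases hc : ns[c]? with
  | none => simp [hc] at h
  | some nd =>
    obtain ⟨S', N', op⟩ := nd
    simp only [hc, List.all_eq_true, List.mem_range, Bool.and_eq_true, Bool.or_eq_true, Bool.not_eq_true',
      List.isEmpty_iff, Nat.beq_eq, beq_iff_eq, Nat.blt_eq] at h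
    rw [fEl_of_list e y hy] at hsq ⊢
    refine hns _ (List.mem_of_getElem? hc) _ ?_ ?_ hsq
    · intro x hx hS
      rcases (h x hx).1 with (h1 | h1) | h1
      · show fpEval e (y.getD x []) = 0
        rw [h1]; simp [fpEval]
      · rw [hS] at h1; exact absurd h1 (by simp)
      · subst h1; exact hskip hx
    · intro x hx hN
      obtain ⟨hl, hall⟩ := (h x hx).2.resolve_left (by rw [hN]; simp)
      obtain ⟨mo, hmo⟩ := List.length_eq_one_iff.1 hl
      rw [hmo] at hall ⊢
      obtain ⟨hl', hall'⟩ := hall mo (List.mem_singleton_self _)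
      obtain ⟨u, rfl⟩ := List.length_eq_one_iff.1 hl'
      obtain ⟨hu, hu'⟩ := hall' u (List.mem_singleton_self _)
      rw [fpEval_var]
      exact he u hu hu'

theorem fVars_eval (e : ℕ → K) (S : ℕ) (hS : ∀ x < 24, S.testBit x = false → e x = 0) :
    (fVars S).map (fpEval e) = (List.range 24).map e := by
  rw [fVars, List.map_map]
  refine List.map_congr_left fun x hx => ?_
  simp only [Function.comp]
  cases h : S.testBit x
  · simp [fpEval, hS x (List.mem_range.1 hx) h]
  · simp [fpEval_var]

theorem fmEval_split (e : ℕ → K) : ∀ d : List ℕ, fmEval e d =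
    e 24 ^ (d.filter fun v => Nat.beq v 24).length * fmEval e (d.filter fun v => !Nat.beq v 24)
  | [] => by simp [fmEval]
  | x :: d => by
    have ih := fmEval_split e d
    simp only [fmEval] at ih
    by_cases hx : x = 24
    · subst hx
      rw [List.filter_cons_of_pos (by simp), List.filter_cons_of_neg (by simp)]
      simp only [fmEval, List.map_cons, List.prod_cons, List.length_cons, pow_succ]
      rw [ih]; ring
    · have hb : Nat.beq x 24 = false := by
        rw [Bool.eq_false_iff]; exact fun h => hx (Nat.eq_of_beq_eq_true h)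
      rw [List.filter_cons_of_neg (by simp [hb]), List.filter_cons_of_pos (by simp [hb])]
      simp only [fmEval, List.map_cons, List.prod_cons]
      rw [ih]; ring

theorem xg_conj_two (q : ℕ) (t : K) : (xg certF4C q t)⁻¹ = xg certF4C q t := by
  rw [xg_inv, CharTwo.neg_eq]

/-- Torus parameters. -/
def f4z (a b c d : Kˣ) : Fin chevF4.rank → Kˣ := fun i => (![a, b, c, d] : Fin 4 → Kˣ) i

theorem f4_reach_leaf (S : ℕ) (hS : S ∈ [8388608, 1048576, 9437184, 2129920]) (v : ℕ → K)
    (h0 : ∀ x < 24, S.testBit x = false → v x = 0) (h1 : ∀ x < 24, S.testBit x = true → v x ≠ 0) :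
    FReach (fEl v) := by
  rw [fEl_word v S h0]
  have key : ∀ (z : Fin chevF4.rank → Kˣ) (g : GL chevF4.Idx K),
      torusHom chevF4 tblF4 K z * g * (torusHom chevF4 tblF4 K z)⁻¹ ∈ ([xg certF4 47 1, xg certF4 44 1,
        xg certF4 47 1 * xg certF4 44 1, xg certF4 39 1 * xg certF4 45 1] : List (GL chevF4.Idx K)) → FReach g :=
    fun z g hg => Or.inr ⟨_, diag_le_group certF4C (by rw [← torusHom_range certF4C]; exact ⟨z, rfl⟩), hg⟩
  have hv := f4_chr_vals
  simp [List.range_succ] at hv
  obtain ⟨v47, v44, v39, v45⟩ := hv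
  have hz : ∀ (a b c d : Kˣ), extend' (f4z a b c d) 0 = (a : K) ∧ extend' (f4z a b c d) 1 = (b : K) ∧
      extend' (f4z a b c d) 2 = (c : K) ∧ extend' (f4z a b c d) 3 = (d : K) := by
    intro a b c d
    refine ⟨?_, ?_, ?_, ?_⟩ <;> rw [extend', dif_pos (show _ < chevF4.rank by decide)] <;> rfl
  have hchr : ∀ (a b c d : Kˣ) (r : ℕ), chr tblF4 chevF4 (extend' (f4z a b c d)) r =
      (a : K) ^ tblF4.cartan 0 r * (b : K) ^ tblF4.cartan 1 r * (c : K) ^ tblF4.cartan 2 r * (d : K) ^ tblF4.cartan 3 r := by
    intro a b c d r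
    obtain ⟨e0, e1, e2, e3⟩ := hz a b c d
    rw [f4_chr, e0, e1, e2, e3]
  have hconj : ∀ (z : Fin chevF4.rank → Kˣ) (r s : ℕ) (x y : K), r < 48 → s < 48 →
      torusHom chevF4 tblF4 K z * (xg certF4C r x * xg certF4C s y) * (torusHom chevF4 tblF4 K z)⁻¹ =
        xg certF4C r (chr tblF4 chevF4 (extend' z) r * x) * xg certF4C s (chr tblF4 chevF4 (extend' z) s * y) := by
    intro z r s x y hr hs
    rw [← f4_conj_xg z hr, ← f4_conj_xg z hs]; group
  simp only [List.mem_cons, List.not_mem_nil, or_false] at hS
  rcases hS with rfl | rfl | rfl | rfl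
  · rw [show fSupp 8388608 = [23] by decide +kernel]
    set a := Units.mk0 (v 23) (h1 23 (by norm_num) (by decide +kernel)) with ha
    refine key (f4z (1) (1) (1) (a⁻¹)) _ ?_
    simp only [fVal, List.map_cons, List.map_nil, List.prod_cons, List.prod_nil, mul_one]
    rw [f4_conj_xg (r := 47) _ (show 47 < chevF4.nroots by decide), hchr]
    simp [v47, ha, h1 23 (by norm_num) (by decide +kernel)]
  · rw [show fSupp 1048576 = [20] by decide +kernel]
    set a := Units.mk0 (v 20) (h1 20 (by norm_num) (by decide +kernel)) with ha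
    refine key (f4z (a⁻¹) (1) (1) (1)) _ ?_
    simp only [fVal, List.map_cons, List.map_nil, List.prod_cons, List.prod_nil, mul_one]
    rw [f4_conj_xg (r := 44) _ (show 44 < chevF4.nroots by decide), hchr]
    simp [v44, ha, h1 20 (by norm_num) (by decide +kernel)]
  · rw [show fSupp 9437184 = [20, 23] by decide +kernel]
    set a := Units.mk0 (v 20) (h1 20 (by norm_num) (by decide +kernel)) with ha
    set b := Units.mk0 (v 23) (h1 23 (by norm_num) (by decide +kernel)) with hb
    refine key (f4z (a⁻¹) (1) (1) (b⁻¹)) _ ?_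
    simp only [fVal, List.map_cons, List.map_nil, List.prod_cons, List.prod_nil, mul_one]
    rw [hconj _ _ _ _ _ (by norm_num) (by norm_num), hchr, hchr]
    simp [v44, v47, ha, hb, h1 20 (by norm_num) (by decide +kernel), h1 23 (by norm_num) (by decide +kernel)]
    exact Or.inr (Or.inr (Or.inl (xg_commute_odd certF4 fullCertF4 (show f4c 44 47 = true by decide +kernel) (1 : K) 1).eq))
  · rw [show fSupp 2129920 = [15, 21] by decide +kernel]
    have n15 := h1 15 (by norm_num) (by decide +kernel)
    have n21 := h1 21 (by norm_num) (by decide +kernel)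
    set a := Units.mk0 (v 15) n15 with ha
    set b := Units.mk0 (v 21) n21 with hb
    refine key (f4z (1) ((a * b)⁻¹) ((a * a * b)⁻¹) (1)) _ ?_
    simp only [fVal, List.map_cons, List.map_nil, List.prod_cons, List.prod_nil, mul_one]
    rw [hconj _ _ _ _ _ (by norm_num) (by norm_num), hchr, hchr]
    refine List.mem_cons_of_mem _ (List.mem_cons_of_mem _ (List.mem_cons_of_mem _ (List.mem_singleton.2 ?_)))
    simp [v39, v45, ha, hb, zpow_ofNat, zpow_neg]
    congr 1 <;> (congr 1; field_simp)

variable [Finite K]

theorem fNode_sound {ns : List FNode} (hns : ∀ nd ∈ ns, FNodeGood K nd) :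
    ∀ nd : FNode, fNodeOk ns nd = true → FNodeGood K nd := by
  rintro ⟨S, N, op⟩ hok v hS hN hsq
  have hsupp : ∀ x ∈ fSupp S, x < 24 := fun x hx => List.mem_range.1 (List.mem_filter.1 hx).1
  have hword : ∀ e : ℕ → K, (∀ x < 24, e x = v x) →
      fVal ((fWord S).map fun p => (p.1, fpEval e p.2)) = fEl v := by
    intro e he
    rw [fEl_word v S hS, fWord, List.map_map]
    congr 1
    refine List.map_congr_left fun x hx => ?_
    simp [fpEval_var, he x (hsupp x hx)]
  have hwlt : ∀ p ∈ fWord S, p.1 < 24 := fun p hp => by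
    obtain ⟨x, hx, rfl⟩ := List.mem_map.1 hp
    exact hsupp x hx
  have hvars : ∀ {c skip : ℕ} {N' : ℕ}, fCovers ns c skip N' (fVars S) = true →
      (∀ x < 24, N'.testBit x = true → v x ≠ 0) → (skip < 24 → v skip = 0) → FReach (fEl v) := by
    intro c skip N' hc hN' hs
    have e : (fVars S).map (fpEval v) = (List.range 24).map v := fVars_eval v S hS
    have := fCovers_reach hns hc (e := v) hN' (fun h => by
        have := congrArg (fun l : List K => l.getD skip 0) e
        simp [h, List.getD] at this
        rw [← hs h, ← this]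
        simp [fVars, List.getD, h]) (by simp [fVars]) (by rw [e]; exact hsq)
    rwa [e] at this
  cases op with
  | leaf =>
    simp only [fNodeOk, Bool.and_eq_true, Nat.beq_eq, List.contains_iff_mem] at hok
    obtain ⟨rfl, hm⟩ := hok
    exact f4_reach_leaf S hm v hS hN
  | one =>
    simp only [fNodeOk, Nat.beq_eq] at hok
    subst hok
    refine Or.inl ?_
    rw [fEl_word v 0 hS, show fSupp 0 = [] by decide +kernel]
    rfl
  | sq x ch =>
    simp only [fNodeOk] at hok
    split at hok
    case h_2 => simp at hok
    rename_i mo hmo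
    simp only [Bool.and_eq_true, List.all_eq_true, Bool.or_eq_true, List.any_eq_true, Nat.blt_eq, Nat.beq_eq] at hok
    obtain ⟨hvs, hch⟩ := hok
    have hw2 : ∀ p ∈ fWord S ++ fWord S, p.1 < 24 := fun p hp => (List.mem_append.1 hp).elim (hwlt p) (hwlt p)
    have h1 : fProd 0 ((fpNf (fWord S ++ fWord S)).map (fpEval v)) = fProd 0 (List.replicate 24 (0 : K)) := by
      rw [fpNf_prod v hw2, List.map_append, fVal_append, hword v fun _ _ => rfl, hsq]
      simp [fProd, List.replicate, xg_zero]
    have h2 := fProd_inj _ _ 0 (by simp [fpNf_length]) (by simp [fpNf_length]) h1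
    have hx : x < 24 := by
      by_contra hx
      simp [List.getD, List.getElem?_eq_none (show (fpNf (fWord S ++ fWord S)).length ≤ x by rw [fpNf_length]; omega)] at hmo
    have h3 := congrArg (fun l : List K => l.getD x 0) h2
    have e3 : ∀ l : List FPoly, l.length = 24 → (l.map (fpEval v)).getD x 0 = fpEval v (l.getD x []) := fun l hl => by
      simp [List.getD, hl, hx]
    have er : (List.replicate 24 (0 : K)).getD x 0 = 0 := by interval_cases x <;> rfl
    simp only [e3 _ (fpNf_length _), hmo, er] at h3
    obtain ⟨u, hu, hu0⟩ : ∃ u ∈ mo, v u = 0 := by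
      simpa [fpEval, fmEval, List.prod_eq_zero_iff] using h3
    obtain ⟨hu24, hu' | ⟨p, hp, hpu⟩⟩ := hvs u hu
    · exact absurd hu0 (hN u hu24 hu')
    · subst hpu
      exact hvars (hch p hp) hN fun _ => hu0
  | kill q r k c =>
    simp only [fNodeOk, Bool.and_eq_true, Nat.blt_eq] at hok
    obtain ⟨⟨⟨hq, hr⟩, hshape⟩, hcov⟩ := hok
    set y := fpNf ((q, [[24]]) :: fWord S ++ [(q, [[24]])]) with hy
    split at hshape
    case h_2 => simp at hshape
    rename_i m₁ m₂ hyr
    simp only [Bool.and_eq_true, Bool.or_eq_true, Nat.beq_eq, List.all_eq_true, Nat.blt_eq, beq_iff_eq] at hshape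
    obtain ⟨⟨hm, hcnt⟩, hd⟩ := hshape
    set d := (if m₁ = [r] then m₂ else m₁) with hdd
    have hev : ∀ e : ℕ → K, fpEval e (y.getD r []) = e r + fmEval e d := by
      intro e
      rw [hyr]
      by_cases h : m₁ = [r]
      · subst h; simp [hdd, fpEval, fmEval]
      · obtain rfl := hm.resolve_left h
        simp [hdd, h, fpEval, fmEval, add_comm]
    set rest := d.filter (fun u => !Nat.beq u 24) with hrest
    have hrest0 : fmEval v rest ≠ 0 := by
      intro h0
      obtain ⟨u, hu, hu0⟩ : ∃ u ∈ rest, v u = 0 := by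
        simpa [fmEval, List.prod_eq_zero_iff] using h0
      obtain ⟨hud, hu24⟩ := List.mem_filter.1 hu
      rcases hd u hud with h | h
      · subst h; simp at hu24
      · exact hN u h.1 h.2 hu0
    obtain ⟨t, ht⟩ : ∃ t : K, t ^ 2 ^ k = v r / fmEval v rest := by
      have hinj : Function.Injective (iterateFrobenius K 2 k) := RingHom.injective _
      obtain ⟨t, ht⟩ := (Finite.injective_iff_surjective.1 hinj) (v r / fmEval v rest)
      exact ⟨t, by rwa [iterateFrobenius_def] at ht⟩
    let e : ℕ → K := fun x => if x < 24 then v x else t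
    have he : ∀ x < 24, e x = v x := fun x hx => if_pos hx
    have her : fmEval e rest = fmEval v rest := by
      simp only [fmEval]
      congr 1
      refine List.map_congr_left fun u hu => ?_
      obtain ⟨hud, hu24⟩ := List.mem_filter.1 hu
      rcases hd u hud with h | h
      · subst h; simp at hu24
      · exact he u h.1
    have hzero : fpEval e (y.getD r []) = 0 := by
      rw [hev, fmEval_split, hcnt, ← hrest, her, he r hr, show e 24 = t from if_neg (lt_irrefl _), ht,
        div_mul_cancel₀ _ hrest0, CharTwo.add_self_eq_zero]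
    have hwl : ∀ p ∈ (q, [[24]]) :: fWord S ++ [(q, [[24]])], p.1 < 24 := by
      intro p hp
      simp only [List.mem_append, List.mem_cons, List.not_mem_nil, or_false] at hp
      rcases hp with (rfl | hp) | rfl
      · exact hq
      · exact hwlt p hp
      · exact hq
    set X := xg certF4C (24 + q) t with hX
    have hval : fProd 0 (y.map (fpEval e)) = X * fEl v * X⁻¹ := by
      rw [hy, fpNf_prod e hwl, hX, xg_conj_two, ← hword e he]
      simp [fVal, fpEval_var, mul_assoc, e]
    have hreach := fCovers_reach hns hcov (e := e) (fun x hx h => by rw [he x hx]; exact hN x hx h)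
      (fun _ => hzero) (by rw [hy]; exact fpNf_length _) (by
        rw [hval, show X * fEl v * X⁻¹ * (X * fEl v * X⁻¹) = X * (fEl v * fEl v) * X⁻¹ by group, hsq, mul_one,
          mul_inv_cancel])
    rw [hval] at hreach
    exact hreach.conj (xg_mem_group certF4C _ _)
  | refl i c =>
    simp only [fNodeOk, Bool.and_eq_true, List.all_eq_true, Nat.blt_eq, Nat.ble_eq] at hok
    obtain ⟨⟨hi, himg⟩, hcov⟩ := hok
    have hw : IsWord chevF4 [i] := fun x hx => by
      rw [List.mem_singleton] at hx; subst hx; exact hi
    set n := wnu certF4C K [i] with hn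
    have hwl : ∀ p ∈ (fSupp S).map (fun x => (fRefl i x, ([[x]] : FPoly))), p.1 < 24 := by
      intro p hp
      obtain ⟨x, hx, rfl⟩ := List.mem_map.1 hp
      have := himg x hx
      show wperm tblF4 [i] (24 + x) - 24 < 24
      omega
    set y := fpNf ((fSupp S).map fun x => (fRefl i x, ([[x]] : FPoly))) with hy
    have hval : fProd 0 (y.map (fpEval v)) = n * fEl v * n⁻¹ := by
      rw [hy, fpNf_prod v hwl, fEl_word v S hS, List.map_map]
      have hl : ∀ l : List ℕ, (∀ x ∈ l, x < 24 ∧ 24 ≤ wperm tblF4 [i] (24 + x)) →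
          n * fVal (l.map fun x => (x, v x)) * n⁻¹ = fVal (l.map fun x => (fRefl i x, v x)) := by
        intro l
        induction l with
        | nil => intro _; simp [fVal]
        | cons a l ih =>
          intro hl
          obtain ⟨ha, ha'⟩ := hl a (List.mem_cons_self ..)
          obtain ⟨c1, hc1, hc2⟩ := wnu_conj_xg (F := K) certF4C hw (show 24 + a < chevF4.nroots by show _ < 48; omega)
          have hc : c1 = 1 := by
            have : (c1 - 1) ^ 2 = 0 := by linear_combination hc1 - (c1 - 1) * CharTwo.two_eq_zero (R := K)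
            exact sub_eq_zero.1 (pow_eq_zero_iff two_ne_zero |>.1 this)
          have ih' := ih fun x hx => hl x (List.mem_cons_of_mem _ hx)
          simp only [fVal, List.map_cons, List.prod_cons] at ih' ⊢
          rw [← ih', show 24 + fRefl i a = wperm tblF4 [i] (24 + a) by
            show 24 + (wperm tblF4 [i] (24 + a) - 24) = _; omega]
          have := hc2 (v a)
          rw [hc, one_mul] at this
          rw [← this, ← hn]
          group
      rw [hl _ fun x hx => ⟨hsupp x hx, (himg x hx).1⟩]
      congr 1
      exact List.map_congr_left fun x hx => by simp [fpEval_var]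
    have hreach := fCovers_reach hns hcov (e := v) hN (fun h => absurd h (lt_irrefl _))
      (by rw [hy]; exact fpNf_length _) (by
        rw [hval, show n * fEl v * n⁻¹ * (n * fEl v * n⁻¹) = n * (fEl v * fEl v) * n⁻¹ by group, hsq, mul_one,
          mul_inv_cancel])
    rw [hval] at hreach
    exact hreach.conj (wnu_mem_group certF4C hw)
  | split r c₀ c₁ =>
    simp only [fNodeOk, Bool.and_eq_true] at hok
    by_cases h : v r = 0
    · exact hvars hok.1 hN fun _ => h
    · refine hvars hok.2 (fun x hx hb => ?_) fun h24 => absurd h24 (lt_irrefl _)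
      rw [Nat.testBit_or, Bool.or_eq_true, Nat.testBit_two_pow] at hb
      rcases hb with hb | hb
      · exact hN x hx hb
      · rw [decide_eq_true_eq] at hb; subst hb; exact h

theorem f4_tree_good : ∀ nd ∈ f4Tree, FNodeGood K nd := by
  have : ∀ k, ∀ nd ∈ f4Tree.take k, FNodeGood K nd := by
    intro k
    induction k with
    | zero => intro nd h; simp at h
    | succ k ih =>
      intro nd h
      rw [List.take_add_one, List.mem_append] at h
      rcases h with h | h
      · exact ih nd h
      · cases hk : f4Tree[k]? with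
        | none => simp [hk] at h
        | some nd' =>
          simp [hk] at h
          subst h
          exact fNode_sound ih nd (f4Tree_ok k (List.getElem?_eq_some_iff.1 hk).1 nd hk)
  intro nd h
  exact this f4Tree.length nd (by rwa [List.take_length])

theorem f4Tree_root : (f4Tree.getD 738 (0, 0, .one)).1 = 16777215 ∧ (f4Tree.getD 738 (0, 0, .one)).2.1 = 0 := by
  decide +kernel

/-- Every involution of the positive part is conjugate to one of the four. -/
theorem f4_pos_reach {g : GL chevF4.Idx K} (hg : g ∈ chevF4.posUnipotent K) (h2 : g * g = 1) : FReach g := by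
  obtain ⟨v, rfl⟩ : ∃ v, fEl v = g := by
    clear h2
    rw [posUnipotent_eq certF4C, upper] at hg
    induction hg using Subgroup.closure_induction_left with
    | one => exact ⟨fun _ => 0, by simp [fEl, fProd, List.range_succ, xg_zero]⟩
    | mul_left x hx y _ ih =>
      obtain ⟨r, t, h1, h2', rfl⟩ := hx
      obtain ⟨v, rfl⟩ := ih
      have hr : 24 ≤ r ∧ r < 48 := ⟨h1, h2'⟩
      refine ⟨fun x => (fIns 24 (r - 24) t 0 ((List.range 24).map v)).getD x 0, ?_⟩
      have := fIns_prod 24 (r - 24) t 0 ((List.range 24).map v) (by simp) (by simp) (Nat.zero_le _) (by omega)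
      rw [Nat.add_sub_cancel' hr.1] at this
      rw [fEl, fEl, ← this]
      congr 1
      refine List.ext_getElem (by simp [fIns_length]) fun i hi1 hi2 => ?_
      simp [fIns_length] at hi1 hi2 ⊢
      rw [List.getElem?_eq_getElem (by rw [fIns_length]; simp; omega)]
      simp
    | inv_mul_cancel x hx y _ ih =>
      obtain ⟨r, t, h1, h2', rfl⟩ := hx
      obtain ⟨v, rfl⟩ := ih
      have hr : 24 ≤ r ∧ r < 48 := ⟨h1, h2'⟩
      refine ⟨fun x => (fIns 24 (r - 24) t 0 ((List.range 24).map v)).getD x 0, ?_⟩
      have := fIns_prod 24 (r - 24) t 0 ((List.range 24).map v) (by simp) (by simp) (Nat.zero_le _) (by omega)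
      rw [Nat.add_sub_cancel' hr.1] at this
      rw [xg_conj_two, fEl, fEl, ← this]
      congr 1
      refine List.ext_getElem (by simp [fIns_length]) fun i hi1 hi2 => ?_
      simp [fIns_length] at hi1 hi2 ⊢
      rw [List.getElem?_eq_getElem (by rw [fIns_length]; simp; omega)]
      simp
  have hk : 738 < f4Tree.length := by decide +kernel
  have hroot := f4Tree_root
  rw [List.getD_eq_getElem f4Tree (0, 0, FOp.one) hk] at hroot
  have hmem := List.getElem_mem hk
  rcases hnd : f4Tree[738]'hk with ⟨S, N, op⟩
  rw [hnd] at hmem hroot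
  obtain ⟨rfl, rfl⟩ := hroot
  exact f4_tree_good (16777215, 0, op) hmem v (fun x hx hf => by
    interval_cases x <;> exact absurd hf (by decide +kernel)) (fun x _ h => by simp at h) h2

end Cfsg.Lib.Chev
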