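import Cfsg.Agent.Lib.Chev.F4InvTree

/-!
The reduction tree is correct.
-/

set_option autoImplicit false
set_option maxRecDepth 100000

namespace Cfsg.Lib.Chev

theorem f4Tree_part0 : fTreeOk f4Tree 0 50 = true := by decide +kernel

theorem f4Tree_part1 : fTreeOk f4Tree 50 50 = true := by decide +kernel

theorem f4Tree_part2 : fTreeOk f4Tree 100 50 = true := by decide +kernel

theorem f4Tree_part3 : fTreeOk f4Tree 150 50 = true := by decide +kernel

theorem f4Tree_part4 : fTreeOk f4Tree 200 50 = true := by decide +kernel

theorem f4Tree_part5 : fTreeOk f4Tree 250 50 = true := by decide +kernel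

theorem f4Tree_part6 : fTreeOk f4Tree 300 50 = true := by decide +kernel

theorem f4Tree_part7 : fTreeOk f4Tree 350 50 = true := by decide +kernel

theorem f4Tree_part8 : fTreeOk f4Tree 400 50 = true := by decide +kernel

theorem f4Tree_part9 : fTreeOk f4Tree 450 50 = true := by decide +kernel

theorem f4Tree_part10 : fTreeOk f4Tree 500 50 = true := by decide +kernel

theorem f4Tree_part11 : fTreeOk f4Tree 550 50 = true := by decide +kernel

theorem f4Tree_part12 : fTreeOk f4Tree 600 50 = true := by decide +kernel

theorem f4Tree_part13 : fTreeOk f4Tree 650 50 = true := by decide +kernel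

theorem f4Tree_part14 : fTreeOk f4Tree 700 50 = true := by decide +kernel

theorem f4Tree_ok : ∀ k < f4Tree.length, ∀ nd, f4Tree[k]? = some nd → fNodeOk (f4Tree.take k) nd = true := by
  intro k hk nd e
  have key : ∀ lo, fTreeOk f4Tree lo 50 = true → lo ≤ k → k < lo + 50 → fNodeOk (f4Tree.take k) nd = true := by
    intro lo h h1 h2
    have := List.all_eq_true.1 h (k - lo) (List.mem_range.2 (by omega))
    rw [Nat.add_sub_cancel' h1, e] at this
    exact this
  have hlen : f4Tree.length ≤ 750 := by decide +kernel
  rcases Nat.lt_or_ge k 50 with h | h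
  · exact key 0 f4Tree_part0 (Nat.zero_le _) (by omega)
  rcases Nat.lt_or_ge k 100 with h' | h'
  · exact key 50 f4Tree_part1 h (by omega)
  replace h := h'
  rcases Nat.lt_or_ge k 150 with h' | h'
  · exact key 100 f4Tree_part2 h (by omega)
  replace h := h'
  rcases Nat.lt_or_ge k 200 with h' | h'
  · exact key 150 f4Tree_part3 h (by omega)
  replace h := h'
  rcases Nat.lt_or_ge k 250 with h' | h'
  · exact key 200 f4Tree_part4 h (by omega)
  replace h := h'
  rcases Nat.lt_or_ge k 300 with h' | h'
  · exact key 250 f4Tree_part5 h (by omega)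
  replace h := h'
  rcases Nat.lt_or_ge k 350 with h' | h'
  · exact key 300 f4Tree_part6 h (by omega)
  replace h := h'
  rcases Nat.lt_or_ge k 400 with h' | h'
  · exact key 350 f4Tree_part7 h (by omega)
  replace h := h'
  rcases Nat.lt_or_ge k 450 with h' | h'
  · exact key 400 f4Tree_part8 h (by omega)
  replace h := h'
  rcases Nat.lt_or_ge k 500 with h' | h'
  · exact key 450 f4Tree_part9 h (by omega)
  replace h := h'
  rcases Nat.lt_or_ge k 550 with h' | h'
  · exact key 500 f4Tree_part10 h (by omega)
  replace h := h'
  rcases Nat.lt_or_ge k 600 with h' | h'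
  · exact key 550 f4Tree_part11 h (by omega)
  replace h := h'
  rcases Nat.lt_or_ge k 650 with h' | h'
  · exact key 600 f4Tree_part12 h (by omega)
  replace h := h'
  rcases Nat.lt_or_ge k 700 with h' | h'
  · exact key 650 f4Tree_part13 h (by omega)
  replace h := h'
  exact key 700 f4Tree_part14 h (by omega)

end Cfsg.Lib.Chev
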