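import Mathlib

/-!
The algebraic half of the theorem of Feit and Higman: the two-dimensional modules of the Hecke algebra of a
dihedral group, and the rationality of their formal degrees.
-/

set_option autoImplicit false

namespace Cfsg.Lib.FeitHigman

open Finset Real

/-- The alternating product `x y x ...` of length `k`. -/
def altP {M : Type*} [Monoid M] (x y : M) : ℕ → M
  | 0 => 1
  | k + 1 => x * altP y x k

/-- The alternating composite `f (g (f ...))` of length `k`, applied to the first basis vector. -/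
def altV (f g : ℝ × ℝ → ℝ × ℝ) : ℕ → ℝ × ℝ
  | 0 => (1, 0)
  | k + 1 => f (altV g f k)

/-- The alternating product of the parameters. -/
def altQ (a b : ℝ) : ℕ → ℝ
  | 0 => 1
  | k + 1 => a * altQ b a k

/-- The action of the first generator in the two-dimensional module. -/
def rs (a θ : ℝ) (v : ℝ × ℝ) : ℝ × ℝ := (a * v.1 + θ * v.2, -v.2)

/-- The action of the second generator in the two-dimensional module. -/
def rt (b : ℝ) (v : ℝ × ℝ) : ℝ × ℝ := (b * v.2, v.1 + (b - 1) * v.2)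

/-- The standard pairing. -/
def pair (l v : ℝ × ℝ) : ℝ := l.1 * v.1 + l.2 * v.2

/-- The coefficient at the word of length `k` starting with the second generator. -/
def psi (a b θ : ℝ) (k : ℕ) : ℝ := pair (a + 1, θ) (altV (rt b) (rs a θ) k)

/-- The Schur element. -/
noncomputable def schur (a b θ : ℝ) (n : ℕ) : ℝ :=
  ∑ k ∈ range n, psi a b θ k ^ 2 / altQ b a k

theorem altQ_pos {a b : ℝ} (ha : 0 < a) (hb : 0 < b) : ∀ k, 0 < altQ a b k ∧ 0 < altQ b a k
  | 0 => by simp [altQ]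
  | k + 1 => by
    obtain ⟨h1, h2⟩ := altQ_pos ha hb k
    exact ⟨mul_pos ha h2, mul_pos hb h1⟩

theorem altQ_even (a b : ℝ) : ∀ i, altQ a b (2 * i) = (a * b) ^ i
  | 0 => rfl
  | i + 1 => by
    rw [show 2 * (i + 1) = 2 * i + 1 + 1 by ring, altQ, altQ, altQ_even a b i, pow_succ]
    ring

theorem altQ_odd (a b : ℝ) (i : ℕ) : altQ a b (2 * i + 1) = a * (a * b) ^ i := by
  rw [altQ, altQ_even, mul_comm b a]

theorem sum_shift {V : Type*} [AddCommGroup V] (gA gB : ℕ → V) (n : ℕ) (h0 : gA 0 = gB 0)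
    (hn : gA n = gB n) :
    ∑ k ∈ range n, (gB k + gA (k + 1)) = ∑ k ∈ range n, (gA k + gB (k + 1)) := by
  have e : ∀ g : ℕ → V, ∑ k ∈ range n, g (k + 1) = ∑ k ∈ range n, g k + g n - g 0 := by
    intro g
    rw [← sum_range_succ g n, sum_range_succ' g n, add_sub_cancel_right]
  rw [sum_add_distrib, sum_add_distrib, e gA, e gB, h0, hn]
  abel

section Algebra

variable {R : Type*} [Ring R] [Algebra ℝ R] {Ts Tt : R} {n : ℕ} {a b θ : ℝ}

/-- The element attached to the two-dimensional module. -/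
noncomputable def quasiIdem (Ts Tt : R) (n : ℕ) (a b θ : ℝ) : R :=
  ∑ k ∈ range n, (psi a b θ k / altQ b a k) • (altP Tt Ts k + altP Ts Tt (k + 1))

theorem quasiIdem_mul_self (ha : 0 < a) (hb : 0 < b) (hs : Ts * Ts = (a - 1) • Ts + a • 1)
    (ht : Tt * Tt = (b - 1) • Tt + b • 1) (hbr : altP Ts Tt n = altP Tt Ts n)
    (hv : altV (rs a θ) (rt b) n = altV (rt b) (rs a θ) n) (hq : altQ a b n = altQ b a n) :
    quasiIdem Ts Tt n a b θ * quasiIdem Ts Tt n a b θ =
      schur a b θ n • quasiIdem Ts Tt n a b θ := by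
  set F := quasiIdem Ts Tt n a b θ with hF
  have hq0 : ∀ k, altQ a b k ≠ 0 ∧ altQ b a k ≠ 0 := fun k =>
    ⟨(altQ_pos ha hb k).1.ne', (altQ_pos ha hb k).2.ne'⟩
  -- the first generator acts by `a`
  have h1 : Ts * F = a • F := by
    rw [hF, quasiIdem, mul_sum, smul_sum]
    refine sum_congr rfl fun k _ => ?_
    simp only [altP, mul_smul_comm, mul_add, ← mul_assoc, hs, add_mul, smul_mul_assoc, one_mul]
    module
  -- expansion of `F` along the second pairing
  let fA : ℝ × ℝ → ℕ → R := fun l k =>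
    (pair l (altV (rs a θ) (rt b) k) / altQ a b k) • altP Ts Tt k
  let fB : ℝ × ℝ → ℕ → R := fun l k =>
    (pair l (altV (rt b) (rs a θ) k) / altQ b a k) • altP Tt Ts k
  have hshift : ∀ l, ∑ k ∈ range n, (fB l k + fA l (k + 1)) =
      ∑ k ∈ range n, (fA l k + fB l (k + 1)) := fun l =>
    sum_shift (fA l) (fB l) n rfl (by simp only [fA, fB, hv, hq, hbr])
  have hF' : F = ∑ k ∈ range n, (fA (a + 1, θ) k + fB (a + 1, θ) (k + 1)) := by
    rw [← hshift, hF, quasiIdem]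
    refine sum_congr rfl fun k _ => ?_
    simp only [fA, fB, altP, altV, altQ, psi, pair, rs]
    have := (hq0 k).2
    have := ha.ne'
    match_scalars <;> field_simp <;> ring
  set μ : ℝ × ℝ := (θ, b * (a + 1) + (b - 1) * θ) with hμ
  have h2 : Tt * F = ∑ k ∈ range n, (fB μ k + fA μ (k + 1)) := by
    rw [hshift, hF', mul_sum]
    refine sum_congr rfl fun k _ => ?_
    simp only [fA, fB, altP, altV, altQ, pair, rt, hμ]
    simp only [mul_smul_comm, mul_add, ← mul_assoc, ht, add_mul, smul_mul_assoc, one_mul]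
    have := (hq0 k).1
    have := hb.ne'
    match_scalars <;> field_simp <;> ring
  have h3 : Ts * (Tt * F) + Tt * F = θ • F := by
    rw [h2, mul_sum, ← sum_add_distrib, hF, quasiIdem, smul_sum]
    refine sum_congr rfl fun k _ => ?_
    simp only [fA, fB, altP, altV, altQ, psi, pair, rs, hμ]
    simp only [mul_smul_comm, mul_add, ← mul_assoc, hs, add_mul, smul_mul_assoc, one_mul]
    have := (hq0 k).2
    have := ha.ne'
    match_scalars <;> field_simp <;> ring
  -- the intertwining map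
  let L : ℝ × ℝ → R := fun v => v.1 • F + v.2 • (Tt * F)
  have hLs : ∀ v, Ts * L v = L (rs a θ v) := by
    intro v
    have e : Ts * (Tt * F) = θ • F - Tt * F := eq_sub_of_add_eq h3
    simp only [L, rs, mul_add, mul_smul_comm, h1, e]
    module
  have hLt : ∀ v, Tt * L v = L (rt b v) := by
    intro v
    simp only [L, rt, mul_add, mul_smul_comm, ← mul_assoc, ht, add_mul, smul_mul_assoc, one_mul]
    module
  have hw : ∀ k, altP Ts Tt k * F = L (altV (rs a θ) (rt b) k) ∧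
      altP Tt Ts k * F = L (altV (rt b) (rs a θ) k) := by
    intro k
    induction k with
    | zero => simp [L, altP, altV]
    | succ k ih =>
      exact ⟨by rw [altP, altV, mul_assoc, ih.2, hLs], by rw [altP, altV, mul_assoc, ih.1, hLt]⟩
  rw [schur, sum_smul]
  calc F * F = ∑ k ∈ range n, (psi a b θ k / altQ b a k) •
        ((altP Tt Ts k + altP Ts Tt (k + 1)) * F) := by
        conv_lhs => arg 1; rw [hF, quasiIdem]
        simp only [sum_mul, smul_mul_assoc]
    _ = _ := by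
      refine sum_congr rfl fun k _ => ?_
      rw [add_mul, (hw k).2, (hw (k + 1)).1]
      simp only [L, altV, psi, pair, rs]
      module

end Algebra

theorem schur_pos {a b θ : ℝ} (ha : 0 < a) (hb : 0 < b) {n : ℕ} (hn : 0 < n) : 0 < schur a b θ n := by
  refine sum_pos' (fun k _ => div_nonneg (sq_nonneg _) (altQ_pos ha hb k).2.le) ⟨0, by simpa using hn, ?_⟩
  simp only [psi, pair, altV, altQ]
  norm_num
  nlinarith

/-- The multiplicity of the two-dimensional module is a natural number. -/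
theorem exists_mult {X : Type*} [Fintype X] [DecidableEq X] {Ts Tt : Matrix X X ℝ} {n : ℕ} (hn : 0 < n)
    {a b θ : ℝ} (ha : 0 < a) (hb : 0 < b) (hs : Ts * Ts = (a - 1) • Ts + a • 1)
    (ht : Tt * Tt = (b - 1) • Tt + b • 1) (hbr : altP Ts Tt n = altP Tt Ts n)
    (hv : altV (rs a θ) (rt b) n = altV (rt b) (rs a θ) n) (hq : altQ a b n = altQ b a n)
    (h0 : ∀ k, 1 ≤ k → k ≤ n → (altP Ts Tt k).trace = 0 ∧ (altP Tt Ts k).trace = 0) :
    ∃ m : ℕ, (m : ℝ) * schur a b θ n = Fintype.card X * (a + 1) := by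
  set F := quasiIdem Ts Tt n a b θ with hF
  set S := schur a b θ n with hS
  have hS0 : S ≠ 0 := (schur_pos ha hb hn).ne'
  have hFF : F * F = S • F := quasiIdem_mul_self ha hb hs ht hbr hv hq
  set E : Matrix X X ℝ := S⁻¹ • F with hE
  have hEE : E * E = E := by
    rw [hE, smul_mul_assoc, mul_smul_comm, hFF]
    simp only [smul_smul]
    rw [inv_mul_cancel₀ hS0, mul_one]
  have htr : F.trace = Fintype.card X * (a + 1) := by
    rw [hF, quasiIdem, Matrix.trace_sum, sum_eq_single 0]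
    · rw [Matrix.trace_smul, Matrix.trace_add, (h0 (0 + 1) le_rfl hn).1]
      simp [altP, psi, pair, altV, altQ, Matrix.trace_one, mul_comm]
    · intro k hk hk0
      rw [Matrix.trace_smul, Matrix.trace_add,
        (h0 k (by omega) (by simp at hk; omega)).2, (h0 (k + 1) (by omega) (by simp at hk; omega)).1]
      simp
    · intro h; simp at h; omega
  have hidem : IsIdempotentElem (Matrix.toLin' E) := by
    show Matrix.toLin' E * Matrix.toLin' E = Matrix.toLin' E
    rw [Module.End.mul_eq_comp, ← Matrix.toLin'_mul, hEE]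
  have h := (LinearMap.IsIdempotentElem.isProj_range _ hidem).trace
  rw [Matrix.trace_toLin'_eq, hE, Matrix.trace_smul, htr, smul_eq_mul] at h
  refine ⟨Module.finrank ℝ (LinearMap.range (Matrix.toLin' E)), ?_⟩
  rw [hE] at *
  rw [← h]
  field_simp

/-! ### The trigonometric identities -/

theorem sin_step (x y : ℝ) : sin (y + x) = 2 * cos x * sin y - sin (y - x) := by
  rw [sin_add, sin_sub]; ring

theorem lin_rec {X : ℕ → ℝ} {r x : ℝ}
    (h : ∀ i, X (i + 2) = 2 * r * cos x * X (i + 1) - r ^ 2 * X i) :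
    ∀ i : ℕ, r * sin x * X i = r ^ i * (sin (i * x) * X 1 - r * sin ((i - 1) * x) * X 0) := by
  intro i
  induction i using Nat.twoStepInduction with
  | zero => simp
  | one => simp; ring
  | more i ih1 ih2 =>
    push_cast at ih2 ⊢
    have e1 := sin_step x ((i + 1) * x)
    have e2 := sin_step x (i * x)
    rw [show ((i : ℝ) + 1) * x + x = (i + 1 + 1) * x by ring,
      show ((i : ℝ) + 1) * x - x = i * x by ring] at e1
    rw [show (i : ℝ) * x + x = (i + 1) * x by ring,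
      show (i : ℝ) * x - x = (i - 1) * x by ring] at e2
    rw [show ((i : ℝ) + 1 - 1) * x = i * x by ring] at ih2
    rw [show ((i : ℝ) + 2) * x = (i + 1 + 1) * x by ring,
      show ((i : ℝ) + 2 - 1) * x = (i + 1) * x by ring, h, e1]
    linear_combination (2 * r * cos x) * ih2 - r ^ 2 * ih1 + r ^ (i + 3) * X 0 * e2

theorem sum_sq (P Q x : ℝ) (m : ℕ) :
    2 * sin x * ∑ i ∈ range m, (P * sin (i * x) + Q * cos (i * x)) ^ 2 =
      m * sin x * (P ^ 2 + Q ^ 2) + (Q ^ 2 - P ^ 2) / 2 * (sin ((2 * m - 1) * x) + sin x)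
        + P * Q * (cos x - cos ((2 * m - 1) * x)) := by
  induction m with
  | zero => simp
  | succ m ih =>
    rw [sum_range_succ]
    push_cast
    rw [show (2 * ((m : ℝ) + 1) - 1) * x = m * x + m * x + x by ring]
    rw [show (2 * (m : ℝ) - 1) * x = m * x + m * x - x by ring] at ih
    simp only [sin_add, cos_add, sin_sub, cos_sub] at ih ⊢
    linear_combination ih + (P ^ 2 + Q ^ 2) * sin x * sin_sq_add_cos_sq ((m : ℝ) * x)

section Braid

variable {a b r x θ : ℝ} (hr : r ^ 2 = a * b) (hθ : θ = b - 1 + 2 * r * cos x)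
include hr hθ

theorem rec_st (v : ℝ × ℝ) : rs a θ (rt b (rs a θ (rt b v))) =
    (2 * r * cos x * (rs a θ (rt b v)).1 - r ^ 2 * v.1,
      2 * r * cos x * (rs a θ (rt b v)).2 - r ^ 2 * v.2) := by
  have e : 2 * r * cos x = θ - b + 1 := by rw [hθ]; ring
  simp only [rs, rt, e, hr]
  refine Prod.ext ?_ ?_ <;> ring

theorem rec_ts (v : ℝ × ℝ) : rt b (rs a θ (rt b (rs a θ v))) =
    (2 * r * cos x * (rt b (rs a θ v)).1 - r ^ 2 * v.1,
      2 * r * cos x * (rt b (rs a θ v)).2 - r ^ 2 * v.2) := by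
  have e : 2 * r * cos x = θ - b + 1 := by rw [hθ]; ring
  simp only [rs, rt, e, hr]
  refine Prod.ext ?_ ?_ <;> ring

theorem braid_even (hr0 : r ≠ 0) (hsx : sin x ≠ 0) {d : ℕ} (hd : sin (d * x) = 0) :
    altV (rs a θ) (rt b) (2 * d) = altV (rt b) (rs a θ) (2 * d) := by
  have key : ∀ (X : ℕ → ℝ), (∀ i, X (i + 2) = 2 * r * cos x * X (i + 1) - r ^ 2 * X i) →
      r * sin x * X d = r ^ d * (r * cos (d * x) * sin x * X 0) := by
    intro X hX
    rw [lin_rec hX d, hd, show ((d : ℝ) - 1) * x = d * x - x by ring, sin_sub, hd]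
    ring
  have hA : ∀ i, altV (rs a θ) (rt b) (2 * (i + 2)) = rs a θ (rt b (rs a θ (rt b
      (altV (rs a θ) (rt b) (2 * i))))) := fun i => rfl
  have hA1 : ∀ i, altV (rs a θ) (rt b) (2 * (i + 1)) =
      rs a θ (rt b (altV (rs a θ) (rt b) (2 * i))) := fun i => rfl
  have hB : ∀ i, altV (rt b) (rs a θ) (2 * (i + 2)) = rt b (rs a θ (rt b (rs a θ
      (altV (rt b) (rs a θ) (2 * i))))) := fun i => rfl
  have hB1 : ∀ i, altV (rt b) (rs a θ) (2 * (i + 1)) =
      rt b (rs a θ (altV (rt b) (rs a θ) (2 * i))) := fun i => rfl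
  have hne : r * sin x ≠ 0 := mul_ne_zero hr0 hsx
  refine Prod.ext (mul_left_cancel₀ hne ?_) (mul_left_cancel₀ hne ?_)
  · rw [key (fun i => (altV (rs a θ) (rt b) (2 * i)).1) (fun i => by
        rw [hA, hA1, rec_st hr hθ]),
      key (fun i => (altV (rt b) (rs a θ) (2 * i)).1) (fun i => by rw [hB, hB1, rec_ts hr hθ])]
    rfl
  · rw [key (fun i => (altV (rs a θ) (rt b) (2 * i)).2) (fun i => by
        rw [hA, hA1, rec_st hr hθ]),
      key (fun i => (altV (rt b) (rs a θ) (2 * i)).2) (fun i => by rw [hB, hB1, rec_ts hr hθ])]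
    rfl

theorem braid_odd (hab : a = b) (hra : r = a) (hr0 : r ≠ 0) (hsx : sin x ≠ 0) {h : ℕ}
    (hh : sin ((h + 1) * x) = -sin (h * x)) :
    altV (rs a θ) (rt b) (2 * h + 1) = altV (rt b) (rs a θ) (2 * h + 1) := by
  have key : ∀ (X : ℕ → ℝ), (∀ i, X (i + 2) = 2 * r * cos x * X (i + 1) - r ^ 2 * X i) →
      r * sin x * X h = r ^ h * sin (h * x) * (X 1 - r * (2 * cos x + 1) * X 0) := by
    intro X hX
    have e := sin_step x ((h : ℝ) * x)
    rw [show (h : ℝ) * x + x = (h + 1) * x by ring,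
      show (h : ℝ) * x - x = (h - 1) * x by ring, hh] at e
    rw [lin_rec hX h, show sin (((h : ℝ) - 1) * x) = (2 * cos x + 1) * sin (h * x) by linarith]
    ring
  have hne : r * sin x ≠ 0 := mul_ne_zero hr0 hsx
  have hA : ∀ i, altV (rs a θ) (rt b) (2 * (i + 2) + 1) = rs a θ (rt b (rs a θ (rt b
      (altV (rs a θ) (rt b) (2 * i + 1))))) := fun i => rfl
  have hA1 : ∀ i, altV (rs a θ) (rt b) (2 * (i + 1) + 1) =
      rs a θ (rt b (altV (rs a θ) (rt b) (2 * i + 1))) := fun i => rfl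
  have hB : ∀ i, altV (rt b) (rs a θ) (2 * (i + 2) + 1) = rt b (rs a θ (rt b (rs a θ
      (altV (rt b) (rs a θ) (2 * i + 1))))) := fun i => rfl
  have hB1 : ∀ i, altV (rt b) (rs a θ) (2 * (i + 1) + 1) =
      rt b (rs a θ (altV (rt b) (rs a θ) (2 * i + 1))) := fun i => rfl
  subst hab hra
  refine Prod.ext (mul_left_cancel₀ hne ?_) (mul_left_cancel₀ hne ?_)
  · rw [key (fun i => (altV (rs _ θ) (rt _) (2 * i + 1)).1) (fun i => by
        rw [hA, hA1, rec_st hr hθ]),
      key (fun i => (altV (rt _) (rs _ θ) (2 * i + 1)).1) (fun i => by rw [hB, hB1, rec_ts hr hθ])]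
    simp only [altV, rs, rt]
    rw [hθ]
    ring
  · rw [key (fun i => (altV (rs _ θ) (rt _) (2 * i + 1)).2) (fun i => by
        rw [hA, hA1, rec_st hr hθ]),
      key (fun i => (altV (rt _) (rs _ θ) (2 * i + 1)).2) (fun i => by rw [hB, hB1, rec_ts hr hθ])]
    simp only [altV, rs, rt]
    rw [hθ]
    ring

/-- The closed form of the coefficients at the odd words. -/
theorem psi_odd (i : ℕ) : r * sin x * psi a b θ (2 * i + 1) =
    r ^ i * ((r * (b - 1) + (r ^ 2 - b) * cos x) * sin ((i + 1) * x)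
      + sin x * (r ^ 2 + b) * cos ((i + 1) * x)) := by
  have hB : ∀ i, altV (rt b) (rs a θ) (2 * (i + 2) + 1) = rt b (rs a θ (rt b (rs a θ
      (altV (rt b) (rs a θ) (2 * i + 1))))) := fun i => rfl
  have hB1 : ∀ i, altV (rt b) (rs a θ) (2 * (i + 1) + 1) =
      rt b (rs a θ (altV (rt b) (rs a θ) (2 * i + 1))) := fun i => rfl
  have hX : ∀ i, psi a b θ (2 * (i + 2) + 1) =
      2 * r * cos x * psi a b θ (2 * (i + 1) + 1) - r ^ 2 * psi a b θ (2 * i + 1) := by
    intro i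
    simp only [psi, hB, hB1, rec_ts hr hθ, pair]
    ring
  rw [lin_rec (X := fun i => psi a b θ (2 * i + 1)) hX i, show ((i : ℝ) - 1) * x = i * x - x by ring,
    show ((i : ℝ) + 1) * x = i * x + x by ring, sin_sub, sin_add, cos_add]
  simp only [psi, pair, altV, rs, rt, hr]
  rw [hθ]
  linear_combination (r ^ i * sin (i * x) * (a * b + b)) * sin_sq_add_cos_sq x
    + (2 * r ^ i * sin (i * x) * cos x ^ 2) * hr
    + (2 * r ^ i * cos (i * x) * cos x * sin x) * hr

omit hr hθ in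
theorem psi_even (i : ℕ) : psi a b θ (2 * i + 2) = a * psi a b θ (2 * i + 1) := by
  have key : ∀ i, altV (rt b) (rs a θ) (2 * i + 2) = (a * (altV (rt b) (rs a θ) (2 * i + 1)).1,
      a * (altV (rt b) (rs a θ) (2 * i + 1)).2) := by
    intro i
    induction i with
    | zero => simp [altV, rs, rt]
    | succ i ih =>
      show rt b (rs a θ (altV (rt b) (rs a θ) (2 * i + 2))) = _
      rw [ih, show altV (rt b) (rs a θ) (2 * (i + 1) + 1) =
        rt b (rs a θ (altV (rt b) (rs a θ) (2 * i + 1))) from rfl]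
      simp only [rs, rt]
      refine Prod.ext ?_ ?_ <;> ring
  simp only [psi, key, pair]
  ring

theorem schur_half (ha : 0 < a) (hb : 0 < b) (hr0 : r ≠ 0) (m : ℕ) :
    r ^ 4 * sin x ^ 2 * schur a b θ (2 * m + 1) = (a + 1) ^ 2 * (r ^ 4 * sin x ^ 2) + a * (a + 1) *
      ∑ i ∈ range m, ((r * (b - 1) + (r ^ 2 - b) * cos x) * sin ((i + 1) * x)
        + sin x * (r ^ 2 + b) * cos ((i + 1) * x)) ^ 2 := by
  induction m with
  | zero => simp [schur, psi, pair, altV, altQ]; ring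
  | succ m ih =>
    have h1 := psi_odd hr hθ m
    have e1 : altQ b a (2 * m + 1) = b * (r ^ m) ^ 2 := by
      rw [altQ_odd, mul_comm b a, ← hr, ← pow_mul, mul_comm 2 m, pow_mul]
    have e2 : altQ b a (2 * m + 2) = a * b * (r ^ m) ^ 2 := by
      rw [show 2 * m + 2 = 2 * (m + 1) by ring, altQ_even, ← pow_mul, mul_comm m 2, pow_mul, hr]
      ring
    rw [show 2 * (m + 1) + 1 = 2 * m + 1 + 1 + 1 by ring, schur, sum_range_succ, sum_range_succ, ← schur,
      sum_range_succ, mul_add (a * (a + 1)), ← add_assoc, ← ih, psi_even, e1, e2]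
    generalize psi a b θ (2 * m + 1) = p at h1 ⊢
    generalize (r * (b - 1) + (r ^ 2 - b) * cos x) * sin ((m + 1) * x)
        + sin x * (r ^ 2 + b) * cos ((m + 1) * x) = Z at h1 ⊢
    have hrm : r ^ m ≠ 0 := pow_ne_zero _ hr0
    have hb0 := hb.ne'
    have ha0 := ha.ne'
    generalize r ^ m = R at h1 hrm ⊢
    have k1 : r ^ 4 * sin x ^ 2 * (p ^ 2 / (b * R ^ 2)) = a * Z ^ 2 := by
      rw [mul_div_assoc', div_eq_iff (mul_ne_zero hb0 (pow_ne_zero _ hrm))]
      linear_combination r ^ 2 * (r * sin x * p + R * Z) * h1 + R ^ 2 * Z ^ 2 * hr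
    have k2 : (a * p) ^ 2 / (a * b * R ^ 2) = a * (p ^ 2 / (b * R ^ 2)) := by
      field_simp
    rw [k2]
    linear_combination (1 + a) * k1

theorem schur_even (ha : 0 < a) (hb : 0 < b) (hr0 : r ≠ 0) (hsx : sin x ≠ 0) {d : ℕ} (hd0 : 0 < d)
    (hd : sin (d * x) = 0) :
    r ^ 4 * sin x ^ 2 * schur a b θ (2 * d) = a * (a + 1) * d / 2 *
      ((r * (b - 1) + (r ^ 2 - b) * cos x) ^ 2 + (sin x * (r ^ 2 + b)) ^ 2) := by
  obtain ⟨m, rfl⟩ : ∃ m, d = m + 1 := ⟨d - 1, by omega⟩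
  have h1 := psi_odd hr hθ m
  have e1 : altQ b a (2 * m + 1) = b * (r ^ m) ^ 2 := by
    rw [altQ_odd, mul_comm b a, ← hr, ← pow_mul, mul_comm 2 m, pow_mul]
  have h2 := schur_half hr hθ ha hb hr0 m
  have h3 := sum_sq (r * (b - 1) + (r ^ 2 - b) * cos x) (sin x * (r ^ 2 + b)) x (m + 1)
  rw [sum_range_succ'] at h3
  push_cast at h3 hd
  have hc : cos ((m + 1) * x) ^ 2 = 1 := by
    have := sin_sq_add_cos_sq (((m : ℝ) + 1) * x)
    rw [hd] at this
    linarith
  rw [show (2 * ((m : ℝ) + 1) - 1) * x = (m + 1) * x + (m + 1) * x - x by ring, sin_sub, cos_sub,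
    sin_add, cos_add, hd, zero_mul] at h3
  simp only [zero_mul, sin_zero, cos_zero, mul_zero, zero_add, sub_zero, mul_one, add_zero] at h3
  rw [show 2 * (m + 1) = 2 * m + 1 + 1 by ring, schur, sum_range_succ, ← schur, e1]
  rw [hd, mul_zero, zero_add] at h1
  push_cast
  generalize psi a b θ (2 * m + 1) = p at h1 ⊢
  generalize schur a b θ (2 * m + 1) = S at h2 ⊢
  generalize (∑ i ∈ range m, ((r * (b - 1) + (r ^ 2 - b) * cos x) * sin (((i : ℝ) + 1) * x)
        + sin x * (r ^ 2 + b) * cos (((i : ℝ) + 1) * x)) ^ 2) = T₀ at h2 h3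
  generalize cos (((m : ℝ) + 1) * x) = cc at h1 h3 hc
  have hT : T₀ = ((m : ℝ) + 1) / 2 * ((r * (b - 1) + (r ^ 2 - b) * cos x) ^ 2
      + (sin x * (r ^ 2 + b)) ^ 2) - (sin x * (r ^ 2 + b)) ^ 2 := by
    refine mul_left_cancel₀ hsx ?_
    linear_combination h3 / 2 - (((sin x * (r ^ 2 + b)) ^ 2 - (r * (b - 1) + (r ^ 2 - b) * cos x) ^ 2) / 4
        * sin x + (r * (b - 1) + (r ^ 2 - b) * cos x) * (sin x * (r ^ 2 + b)) * cos x / 2) * hc
  have hrm : r ^ m ≠ 0 := pow_ne_zero _ hr0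
  generalize r ^ m = R at h1 hrm ⊢
  have k1 : r ^ 4 * sin x ^ 2 * (p ^ 2 / (b * R ^ 2)) = a * (sin x * (r ^ 2 + b)) ^ 2 := by
    rw [mul_div_assoc', div_eq_iff (mul_ne_zero hb.ne' (pow_ne_zero _ hrm))]
    linear_combination r ^ 2 * (r * sin x * p + R * (sin x * (r ^ 2 + b) * cc)) * h1
      + R ^ 2 * (sin x * (r ^ 2 + b)) ^ 2 * hr
      + r ^ 2 * R ^ 2 * (sin x * (r ^ 2 + b)) ^ 2 * hc
  rw [mul_add, h2, k1, hT]
  linear_combination (sin x ^ 2 * (r ^ 2 + a * b + 2 * a * r ^ 2)) * hr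

theorem schur_odd (hab : a = b) (hra : r = a) (ha : 0 < a) (hsx : sin x ≠ 0) {h : ℕ}
    (hs' : sin ((2 * h + 1) * x) = 0) (hc' : cos ((2 * h + 1) * x) = 1) :
    r ^ 4 * sin x ^ 2 * schur a b θ (2 * h + 1) = a * (a + 1) * (2 * h + 1) / 4 *
      ((r * (b - 1) + (r ^ 2 - b) * cos x) ^ 2 + (sin x * (r ^ 2 + b)) ^ 2) := by
  have h2 := schur_half hr hθ ha (hab ▸ ha) (hra ▸ ha.ne') h
  have h3 := sum_sq (r * (b - 1) + (r ^ 2 - b) * cos x) (sin x * (r ^ 2 + b)) x (h + 1)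
  rw [sum_range_succ'] at h3
  push_cast at h3
  rw [show (2 * ((h : ℝ) + 1) - 1) * x = (2 * h + 1) * x by ring, hs', hc'] at h3
  simp only [zero_mul, sin_zero, cos_zero, mul_zero, zero_add, mul_one] at h3
  rw [h2]
  subst hab hra
  generalize (∑ i ∈ range h, ((r * (r - 1) + (r ^ 2 - r) * cos x) * sin (((i : ℝ) + 1) * x)
        + sin x * (r ^ 2 + r) * cos (((i : ℝ) + 1) * x)) ^ 2) = T₀ at h3 ⊢
  have hT : T₀ = (2 * (h : ℝ) + 1) / 4 * ((r * (r - 1) + (r ^ 2 - r) * cos x) ^ 2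
      + (sin x * (r ^ 2 + r)) ^ 2) - sin x ^ 2 * r ^ 3 * (r + 1) := by
    refine mul_left_cancel₀ (mul_ne_zero two_ne_zero hsx) ?_
    linear_combination h3 + r ^ 2 * (r ^ 2 - 1) * sin x * sin_sq_add_cos_sq x
  rw [hT]
  ring

end Braid

/-! ### Rationality -/

theorem mem_of_cos_rat {m : ℕ} (hm : 2 ≤ m) (hq : ∃ q : ℚ, cos (2 * π / m) = q) :
    m ∈ ({2, 3, 4, 6} : Set ℕ) := by
  have hm' : (0 : ℝ) < m := by exact_mod_cast (by omega : 0 < m)
  have hmem : 2 * π / (m : ℝ) ∈ Set.Icc (0 : ℝ) π := by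
    refine ⟨by positivity, ?_⟩
    rw [div_le_iff₀ hm']
    have : (2 : ℝ) ≤ m := by exact_mod_cast hm
    nlinarith [pi_pos]
  have key : ∀ k : ℕ, 2 ≤ k → cos (2 * π / k) = cos (2 * π / m) → m = k := by
    intro k hk h
    have hk' : (0 : ℝ) < k := by exact_mod_cast (by omega : 0 < k)
    have hkmem : 2 * π / (k : ℝ) ∈ Set.Icc (0 : ℝ) π := by
      refine ⟨by positivity, ?_⟩
      rw [div_le_iff₀ hk']
      have : (2 : ℝ) ≤ k := by exact_mod_cast hk
      nlinarith [pi_pos]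
    have := injOn_cos hkmem hmem h
    rw [div_eq_div_iff hk'.ne' hm'.ne'] at this
    exact_mod_cast (mul_left_cancel₀ (by positivity : (2 * π) ≠ 0) this)
  have hn := niven (θ := 2 * π / (m : ℝ)) ⟨2 / m, by push_cast; ring⟩ hq
  simp only [Set.mem_insert_iff, Set.mem_singleton_iff] at hn ⊢
  rcases hn with h | h | h | h | h
  · left
    refine key 2 le_rfl ?_
    rw [h, show 2 * π / ((2 : ℕ) : ℝ) = π by push_cast; ring, cos_pi]
  · right; left
    refine key 3 (by norm_num) ?_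
    rw [h, show 2 * π / ((3 : ℕ) : ℝ) = π - π / 3 by push_cast; ring, cos_pi_sub, cos_pi_div_three]
    norm_num
  · right; right; left
    refine key 4 (by norm_num) ?_
    rw [h, show 2 * π / ((4 : ℕ) : ℝ) = π / 2 by push_cast; ring, cos_pi_div_two]
  · right; right; right
    refine key 6 (by norm_num) ?_
    rw [h, show 2 * π / ((6 : ℕ) : ℝ) = π / 3 by push_cast; ring, cos_pi_div_three]
  · exfalso
    have := injOn_cos ⟨le_rfl, pi_pos.le⟩ hmem (by rw [h, cos_zero])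
    have : 0 < 2 * π / (m : ℝ) := by positivity
    linarith

section Main

variable {X : Type*} [Fintype X] [DecidableEq X] [Nonempty X] {Ts Tt : Matrix X X ℝ} {n a b : ℕ}
  (ha : 2 ≤ a) (hb : 2 ≤ b) (hs : Ts * Ts = ((a : ℝ) - 1) • Ts + (a : ℝ) • 1)
  (ht : Tt * Tt = ((b : ℝ) - 1) • Tt + (b : ℝ) • 1) (hbr : altP Ts Tt n = altP Tt Ts n)
  (hq : altQ (a : ℝ) b n = altQ (b : ℝ) a n)
  (h0 : ∀ k, 1 ≤ k → k ≤ n → (altP Ts Tt k).trace = 0 ∧ (altP Tt Ts k).trace = 0)
include ha hb hs ht hbr hq h0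

theorem even_equation {d : ℕ} (hd0 : 0 < d) (hnd : n = 2 * d) {x : ℝ} (hsx : sin x ≠ 0)
    (hd : sin (d * x) = 0) :
    ∃ C : ℚ, 0 < C ∧ (a : ℝ) * b * (b - 1) ^ 2 + b ^ 2 * (a - 1) ^ 2
        + 2 * b * (a - 1) * (b - 1) * (√((a : ℝ) * b) * cos x) =
      C * (a * b - (√((a : ℝ) * b) * cos x) ^ 2) := by
  subst hnd
  have haR : (0 : ℝ) < a := by exact_mod_cast (by omega : 0 < a)
  have hbR : (0 : ℝ) < b := by exact_mod_cast (by omega : 0 < b)
  have ha1 : (0 : ℝ) < (a : ℝ) - 1 := by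
    have : (2 : ℝ) ≤ a := by exact_mod_cast ha
    linarith
  set r : ℝ := √((a : ℝ) * b) with hrdef
  have hr : r ^ 2 = (a : ℝ) * b := sq_sqrt (by positivity)
  have hr0 : r ≠ 0 := (sqrt_pos.2 (mul_pos haR hbR)).ne'
  set θ : ℝ := (b : ℝ) - 1 + 2 * r * cos x with hθ
  obtain ⟨m, hm⟩ := exists_mult (n := 2 * d) (by omega) haR hbR hs ht hbr (θ := θ)
    (braid_even hr hθ hr0 hsx hd) hq h0
  have hN : (0 : ℝ) < Fintype.card X := by exact_mod_cast Fintype.card_pos
  have hm0 : (m : ℝ) ≠ 0 := by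
    intro h
    rw [h, zero_mul] at hm
    have : 0 < (Fintype.card X : ℝ) * ((a : ℝ) + 1) := by positivity
    linarith
  have hS := schur_even hr hθ haR hbR hr0 hsx hd0 hd
  have hd' : (d : ℝ) ≠ 0 := by exact_mod_cast (by omega : d ≠ 0)
  refine ⟨2 * (Fintype.card X : ℚ) * b / (m * d) - 4 * b, ?_⟩
  have hkey : (a : ℝ) * b * (b - 1) ^ 2 + b ^ 2 * (a - 1) ^ 2
      + 2 * b * (a - 1) * (b - 1) * (r * cos x) =
      ((2 * (Fintype.card X : ℚ) * b / (m * d) - 4 * b : ℚ) : ℝ) * (a * b - (r * cos x) ^ 2) := by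
    push_cast
    generalize schur (a : ℝ) b θ (2 * d) = S at hS hm
    have hA : (a : ℝ) ≠ 0 := haR.ne'
    have h1 : (a : ℝ) * ((a : ℝ) + 1) * ((m : ℝ) * d *
        ((r * ((b : ℝ) - 1) + (r ^ 2 - b) * cos x) ^ 2 + (sin x * (r ^ 2 + b)) ^ 2)
          - 2 * (Fintype.card X : ℝ) * b * (r ^ 2 * sin x ^ 2)) = 0 := by
      linear_combination (-2 * (m : ℝ)) * hS + (2 * r ^ 4 * sin x ^ 2) * hm
        + (2 * (Fintype.card X : ℝ) * ((a : ℝ) + 1) * r ^ 2 * sin x ^ 2) * hr
    have h2 := (mul_eq_zero.1 h1).resolve_left (mul_ne_zero hA (by positivity))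
    rw [div_sub' (mul_ne_zero hm0 hd'), div_mul_eq_mul_div, eq_div_iff (mul_ne_zero hm0 hd')]
    linear_combination h2
      + (2 * (Fintype.card X : ℝ) * b * r ^ 2 - (m : ℝ) * d * (r ^ 2 + b) ^ 2) * sin_sq_add_cos_sq x
      + (2 * (Fintype.card X : ℝ) * b - (m : ℝ) * d * (((b : ℝ) - 1) ^ 2
          + 2 * ((b : ℝ) - 1) * r * cos x + r ^ 2 + a * b + 2 * b)) * hr
  refine ⟨?_, hkey⟩
  have hL : (0 : ℝ) < (a : ℝ) * b * (b - 1) ^ 2 + b ^ 2 * (a - 1) ^ 2
      + 2 * b * (a - 1) * (b - 1) * (r * cos x) := by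
    have h1 := sq_nonneg (r * ((b : ℝ) - 1) + b * ((a : ℝ) - 1) * cos x)
    have h2 : 0 < ((b : ℝ) * ((a : ℝ) - 1) * sin x) ^ 2 := by
      positivity
    have h3 : (a : ℝ) * b * (b - 1) ^ 2 + b ^ 2 * (a - 1) ^ 2
        + 2 * b * (a - 1) * (b - 1) * (r * cos x) =
        (r * ((b : ℝ) - 1) + b * ((a : ℝ) - 1) * cos x) ^ 2
          + ((b : ℝ) * ((a : ℝ) - 1) * sin x) ^ 2 := by
      linear_combination -((b : ℝ) - 1) ^ 2 * hr
        - (b : ℝ) ^ 2 * ((a : ℝ) - 1) ^ 2 * sin_sq_add_cos_sq x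
    linarith
  have hR : (a : ℝ) * b - (r * cos x) ^ 2 = r ^ 2 * sin x ^ 2 := by
    linear_combination -hr - r ^ 2 * sin_sq_add_cos_sq x
  rw [hkey, hR] at hL
  have hR0 : (0 : ℝ) ≤ r ^ 2 * sin x ^ 2 := by positivity
  exact_mod_cast (pos_iff_pos_of_mul_pos hL).2 (lt_of_le_of_ne hR0 (by positivity))

theorem even_rat {d j : ℕ} (hnd : n = 2 * d) (hj : 0 < j) (hjd : j < d) :
    ∃ z : ℚ, √((a : ℝ) * b) * cos (π * j / d) = z := by
  have hd0 : 0 < d := by omega
  have hd' : (0 : ℝ) < d := by exact_mod_cast hd0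
  set x : ℝ := π * j / d with hx
  have hx0 : 0 < x := by
    have : (0 : ℝ) < j := by exact_mod_cast hj
    positivity
  have hxpi : x < π := by
    rw [hx, div_lt_iff₀ hd']
    have : (j : ℝ) < d := by exact_mod_cast hjd
    nlinarith [pi_pos]
  have hsx : sin x ≠ 0 := (sin_pos_of_pos_of_lt_pi hx0 hxpi).ne'
  have hdx : (d : ℝ) * x = j * π := by rw [hx]; field_simp
  obtain ⟨C, hC, h1⟩ := even_equation ha hb hs ht hbr hq h0 hd0 hnd hsx (by rw [hdx, sin_nat_mul_pi])
  obtain ⟨C', hC', h2⟩ := even_equation ha hb hs ht hbr hq h0 hd0 hnd (x := π - x)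
    (by rw [sin_pi_sub]; exact hsx)
    (by rw [mul_sub, hdx, sin_sub, sin_nat_mul_pi, sin_nat_mul_pi]; ring)
  rw [cos_pi_sub] at h2
  refine ⟨((a : ℚ) * b * (b - 1) ^ 2 + b ^ 2 * (a - 1) ^ 2) * (C - C') /
    (2 * b * (a - 1) * (b - 1) * (C + C')), ?_⟩
  have haR : (0 : ℝ) < (a : ℝ) - 1 := by
    have : (2 : ℝ) ≤ a := by exact_mod_cast ha
    linarith
  have hbR : (0 : ℝ) < (b : ℝ) - 1 := by
    have : (2 : ℝ) ≤ b := by exact_mod_cast hb
    linarith
  have hCR : (0 : ℝ) < (C : ℝ) + C' := by exact_mod_cast add_pos hC hC'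
  have hb0 : (0 : ℝ) < b := by linarith
  push_cast
  rw [eq_div_iff (by positivity)]
  linear_combination (C' : ℝ) * h1 - (C : ℝ) * h2

set_option maxHeartbeats 1000000 in
theorem dihedral_order_mem (hn : 2 ≤ n) : n ∈ ({2, 3, 4, 6, 8} : Set ℕ) := by
  have haR : (2 : ℝ) ≤ a := by exact_mod_cast ha
  have hbR : (2 : ℝ) ≤ b := by exact_mod_cast hb
  rcases Nat.even_or_odd' n with ⟨d, hd | hd⟩
  · -- even
    rcases eq_or_ne d 1 with rfl | hd1
    · simp [hd]
    have hd2 : 2 ≤ d := by omega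
    have hd' : (d : ℝ) ≠ 0 := by exact_mod_cast (by omega : d ≠ 0)
    have hab : (a : ℝ) * b ≠ 0 := by positivity
    obtain ⟨z, hz⟩ := even_rat ha hb hs ht hbr hq h0 hd (j := 1) one_pos (by omega)
    have hm := mem_of_cos_rat hd2 ⟨2 * z ^ 2 / (a * b) - 1, by
      rw [show 2 * π / (d : ℝ) = 2 * (π * (1 : ℕ) / d) by push_cast; ring, cos_two_mul]
      push_cast at hz ⊢
      rw [← hz, mul_pow, sq_sqrt (by positivity)]
      field_simp⟩
    simp only [Set.mem_insert_iff, Set.mem_singleton_iff] at hm ⊢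
    rcases hm with rfl | rfl | rfl | rfl
    · omega
    · omega
    · omega
    · exfalso
      obtain ⟨z', hz'⟩ := even_rat ha hb hs ht hbr hq h0 hd (j := 2) two_pos (by omega)
      rw [show π * ((1 : ℕ) : ℝ) / ((6 : ℕ) : ℝ) = π / 6 by push_cast; ring, cos_pi_div_six] at hz
      rw [show π * ((2 : ℕ) : ℝ) / ((6 : ℕ) : ℝ) = π / 3 by push_cast; ring, cos_pi_div_three] at hz'
      have hr : (0 : ℝ) < √((a : ℝ) * b) := by positivity
      apply (Nat.prime_three.irrational_sqrt).ne_rat (z / z')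
      push_cast
      rw [← hz, ← hz']
      field_simp
  · -- odd
    subst hd
    have hab : (a : ℝ) = b := by
      rw [altQ_odd, altQ_odd, mul_comm (b : ℝ) a] at hq
      exact mul_right_cancel₀ (pow_ne_zero _ (by positivity)) hq
    set x : ℝ := 2 * π / ((2 * d + 1 : ℕ) : ℝ) with hx
    have hnR : (3 : ℝ) ≤ ((2 * d + 1 : ℕ) : ℝ) := by exact_mod_cast (by omega : 3 ≤ 2 * d + 1)
    have hx0 : 0 < x := by positivity
    have hxpi : x < π := by
      rw [hx, div_lt_iff₀ (by linarith)]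
      nlinarith [pi_pos]
    have hsx : sin x ≠ 0 := (sin_pos_of_pos_of_lt_pi hx0 hxpi).ne'
    have hnx : (2 * (d : ℝ) + 1) * x = 2 * π := by rw [hx]; push_cast; field_simp
    have hh : sin (((d : ℝ) + 1) * x) = -sin ((d : ℝ) * x) := by
      rw [show ((d : ℝ) + 1) * x = 2 * π - d * x by rw [← hnx]; ring, sin_two_pi_sub]
    set θ : ℝ := (b : ℝ) - 1 + 2 * (a : ℝ) * cos x with hθ
    have hr : (a : ℝ) ^ 2 = (a : ℝ) * b := by rw [← hab]; ring
    have ha0 : (a : ℝ) ≠ 0 := by positivity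
    obtain ⟨m, hm⟩ := exists_mult (n := 2 * d + 1) (by omega) (by positivity) (by positivity) hs ht hbr
      (θ := θ) (braid_odd hr hθ hab rfl ha0 hsx hh) hq h0
    have hS := schur_odd hr hθ hab rfl (by positivity) hsx
      (by rw [hnx, sin_two_pi]) (by rw [hnx, cos_two_pi])
    have hN : (0 : ℝ) < Fintype.card X := by exact_mod_cast Fintype.card_pos
    generalize schur (a : ℝ) b θ (2 * d + 1) = S at hS hm
    have h1 : (a : ℝ) ^ 3 * ((a : ℝ) + 1) * (1 + cos x) * (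
        (m : ℝ) * (2 * d + 1) * (((a : ℝ) - 1) ^ 2 * (1 + cos x) + ((a : ℝ) + 1) ^ 2 * (1 - cos x))
          - 4 * (Fintype.card X : ℝ) * a * (1 - cos x)) = 0 := by
      rw [← hab] at hS
      linear_combination (-4 * (m : ℝ)) * hS + (4 * (a : ℝ) ^ 4 * sin x ^ 2) * hm
        + ((a : ℝ) ^ 3 * ((a : ℝ) + 1) * (4 * (Fintype.card X : ℝ) * a
          - (m : ℝ) * (2 * d + 1) * ((a : ℝ) + 1) ^ 2)) * sin_sq_add_cos_sq x
    have hcx : 1 + cos x ≠ 0 := by
      intro h
      apply hsx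
      have := sin_sq_add_cos_sq x
      rw [show cos x = -1 by linarith] at this
      nlinarith
    have h2 := (mul_eq_zero.1 h1).resolve_left (mul_ne_zero (by positivity) hcx)
    have hcoef : (4 * (a : ℝ) * Fintype.card X - 4 * a * ((m : ℝ) * (2 * d + 1))) ≠ 0 := by
      intro h0'
      have h3 : 2 * (m : ℝ) * (2 * d + 1) * ((a : ℝ) - 1) ^ 2 = 0 := by
        linear_combination h2 + (1 - cos x) * h0'
      have : 0 < 2 * (m : ℝ) * (2 * d + 1) * ((a : ℝ) - 1) ^ 2 := by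
        rcases Nat.eq_zero_or_pos m with rfl | hm0
        · simp at hm
          have : 0 < (Fintype.card X : ℝ) * ((a : ℝ) + 1) := by positivity
          simp_all
        · have : (0 : ℝ) < m := by exact_mod_cast hm0
          have : (0 : ℝ) < ((a : ℝ) - 1) := by linarith
          positivity
      linarith
    have hm' := mem_of_cos_rat (m := 2 * d + 1) hn
      ⟨(4 * (a : ℚ) * Fintype.card X - (m : ℚ) * (2 * d + 1) * (2 * (a : ℚ) ^ 2 + 2)) /
        (4 * (a : ℚ) * Fintype.card X - 4 * a * ((m : ℚ) * (2 * d + 1))), by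
      rw [← hx]
      push_cast
      rw [eq_div_iff hcoef]
      linear_combination h2⟩
    simp only [Set.mem_insert_iff, Set.mem_singleton_iff] at hm' ⊢
    omega

end Main

end Cfsg.Lib.FeitHigman
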