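import Cfsg.Agent.Lib.Chev.TwPerfect
import Cfsg.Agent.Lib.Chev.GraphAll

/-! The twisted root system of type D4. -/

set_option autoImplicit false
set_option maxRecDepth 100000

namespace Cfsg.Lib.Chev

open Cfsg.Lie

/-- Elements of the fixed Weyl group. -/
def twEltsD4_0 : List TwElt :=
  [
    ⟨0, 0, [], [18, 14, 13, 12], [1, 2], 0⟩,
    ⟨0, 0, [0], [5, 22, 10, 11], [0, 3], 3⟩,
    ⟨0, 1, [1], [19, 9, 16, 15], [4, 0], 1⟩,
    ⟨1, 1, [1, 0], [4, 23, 7, 8], [5, 1], 4⟩,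
    ⟨2, 0, [0, 1], [17, 1, 20, 21], [2, 6], 4⟩,
    ⟨3, 0, [0, 1, 0], [6, 23, 3, 2], [3, 7], 7⟩,
    ⟨4, 1, [1, 0, 1], [17, 0, 20, 21], [8, 4], 5⟩,
    ⟨5, 1, [1, 0, 1, 0], [6, 22, 3, 2], [9, 5], 8⟩,
    ⟨6, 0, [0, 1, 0, 1], [19, 0, 16, 15], [6, 10], 8⟩,
    ⟨7, 0, [0, 1, 0, 1, 0], [4, 14, 7, 8], [7, 11], 11⟩,
    ⟨8, 1, [1, 0, 1, 0, 1], [18, 1, 13, 12], [11, 8], 9⟩,
    ⟨9, 1, [1, 0, 1, 0, 1, 0], [5, 9, 10, 11], [10, 9], 12⟩]

/-- The twisted root system. -/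
def twD4 : TwData :=
  { root := symD4_3.root
    node := symD4_3.node
    orbs := [[0, 2, 3], [1]]
    lws := [[0, 2, 3], [1]]
    bases := [[18, 13, 12], [14]]
    elts := twEltsD4_0
    classes := [(0, 0), (1, 0), (1, 1), (0, 2), (1, 3), (0, 4)] }

theorem chkTwBaseD4 : chkTwBase tblD4 twD4 = true := by decide +kernel

theorem chkTwClassesD4 : chkTwClasses tblD4 twD4 = true := by decide +kernel

theorem chkTwLinkedD4 : chkTwLinked tblD4 twD4 = true := by decide +kernel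

theorem chkTwSimplyD4 : chkTwSimply tblD4 symD4_3 twD4 3 = true := by decide +kernel

theorem chkTwEltsD4 : chkTwElts tblD4 twD4 = true := by decide +kernel

theorem chkTwTriplesD4 : chkTwTriples tblD4 symD4_3 twD4 [(14, 22, 23, 4)] = true := by decide +kernel

end Cfsg.Lib.Chev
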