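import Mathlib
import Cfsg.Agent.Lib.Chev.TwFinite

/-!
Generation by orbit elements, and perfectness, for twisted groups with one root length.
-/

set_option autoImplicit false

namespace Cfsg.Lib.Chev

open Cfsg.Lie
open scoped commutatorElement

/-- A commutator of two fixed root elements reaching a fixed root. -/
noncomputable def chkTwTriple (T : Tbl) (S : Sym) (τ : TwData) (p : ℕ × ℕ × ℕ × ℕ) : Bool :=
  let a := p.1; let b := p.2.1; let c := p.2.2.1; let e := p.2.2.2
  Nat.blt a T.nroots && (Nat.blt b T.nroots && (Nat.blt c T.nroots && (Nat.blt e τ.elts.length &&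
  ((Nat.beq (τ.root a) a && decide (S.eps a = 1)) && ((Nat.beq (τ.root b) b && decide (S.eps b = 1)) &&
  (Nat.beq (τ.root c) c && (!Nat.beq b a && (!Nat.beq b (T.neg a) &&
  (match tTerms T a b with
    | [(d, M, i, j)] => Nat.beq d c && (decide (M.natAbs = 1) && (Nat.beq i 1 && Nat.beq j 1))
    | _ => false)))))))))

/-- The certificate for fixed orbits. -/
noncomputable def chkTwTriples (T : Tbl) (S : Sym) (τ : TwData) (cert : List (ℕ × ℕ × ℕ × ℕ)) : Bool :=
  cert.all (chkTwTriple T S τ) && allBelow (fun J => !Nat.beq (τ.orb J).length 1 ||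
    cert.any (fun p => Nat.beq (wperm T (τ.eword p.2.2.2) p.2.2.1) (T.simp' (τ.head J)))) τ.norb

variable {D : ChevalleyDatum} {T : Tbl} {F : Type*} [Field F] (C : Cert D T) {S : Sym} (hS : SymOK D T S)
  (f : F →+* F) {τ : TwData} (K : FullCert D T) {k : ℕ} (hc : TwComb D T τ) (hs : TwSimplyOK D T S τ k)

/-- The orbit root elements. -/
def twOrbGen (C : Cert D T) (f : F →+* F) (τ : TwData) : Set (GL D.Idx F) :=
  {g | ∃ J < τ.norb, ∃ v : F, f^[(τ.orb J).length] v = v ∧
    (g = orbEl C f (τ.base J) v ∨ g = orbEl C f ((τ.base J).map T.neg) v)}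

include C

/-- The product of torus elements along a list of nodes. -/
theorem hList_conj {l : List ℕ} (hl : ∀ i ∈ l, i < D.rank)
    (ho : l.Pairwise fun a b => T.cartan a (T.simp' b) = 0 ∧ T.cartan b (T.simp' a) = 0) : ∀ (v : F), v ≠ 0 → ∀ t,
    (l.zipIdx.map fun p => hg C (T.simp' p.1) (f^[p.2] v)).prod * orbEl C f (l.map T.simp') t *
      ((l.zipIdx.map fun p => hg C (T.simp' p.1) (f^[p.2] v)).prod)⁻¹ = orbEl C f (l.map T.simp') (v ^ 2 * t) := by
  induction l with
  | nil => intro v _ t; simp [orbEl]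
  | cons i l ih =>
    intro v hv t
    obtain ⟨h1, h2⟩ := List.pairwise_cons.1 ho
    have hi := hl i (List.mem_cons_self ..)
    have hl' : ∀ x ∈ l, x < D.rank := fun x hx => hl x (List.mem_cons_of_mem _ hx)
    have hconj : ∀ b, b < D.rank → ∀ (w : F), w ≠ 0 → ∀ a, a < D.rank → ∀ z, hg C (T.simp' b) w * xg C (T.simp' a) z *
        (hg C (T.simp' b) w)⁻¹ = xg C (T.simp' a) (w ^ T.cartan b (T.simp' a) * z) := by
      intro b hb w hw a ha z
      rw [mul_inv_eq_iff_eq_mul]
      refine Units.ext ?_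
      rw [Units.val_mul, Units.val_mul, coe_hg, coe_xg, coe_xg, ← C.spec.shape.simple_eq b hb,
        hMat_mul_x C hb (C.spec.simp_lt a ha) hw, C.spec.shape.cartan_eq b hb _ (C.spec.simp_lt a ha)]
    have e : ((i :: l).zipIdx.map fun p => hg C (T.simp' p.1) (f^[p.2] v)).prod =
        hg C (T.simp' i) v * (l.zipIdx.map fun p => hg C (T.simp' p.1) (f^[p.2] (f v))).prod := by
      rw [List.zipIdx_cons, List.map_cons, List.prod_cons, List.zipIdx_succ, List.map_map]
      congr 2
    have hfv : f v ≠ 0 := (map_ne_zero f).2 hv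
    have c1 : Commute (hg C (T.simp' i) v) (orbEl C f (l.map T.simp') (f (v ^ 2 * t))) := by
      refine orbEl_commute C _ _ fun r hr z => ?_
      obtain ⟨a, ha, rfl⟩ := List.mem_map.1 hr
      have := hconj i hi v hv a (hl' a ha) z
      rw [(h1 a ha).1, zpow_zero, one_mul, mul_inv_eq_iff_eq_mul] at this
      exact this
    have c2 : Commute ((l.zipIdx.map fun p => hg C (T.simp' p.1) (f^[p.2] (f v))).prod) (xg C (T.simp' i) t) := by
      refine Commute.symm (Commute.list_prod_right _ _ fun x hx => ?_)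
      obtain ⟨⟨a, m⟩, hp, rfl⟩ := List.mem_map.1 hx
      have ha : a ∈ l := List.fst_mem_of_mem_zipIdx hp
      have hne : f^[m] (f v) ≠ 0 := by
        clear hp hx
        induction m with
        | zero => exact hfv
        | succ m ihm => rw [Function.iterate_succ_apply']; exact (map_ne_zero f).2 ihm
      have := hconj a (hl' a ha) _ hne i hi t
      rw [(h1 a ha).2, zpow_zero, one_mul, mul_inv_eq_iff_eq_mul] at this
      exact Commute.symm this
    have c3 := hconj i hi v hv i hi t
    rw [C.spec.cart_simple i hi, show v ^ (2 : ℤ) = v ^ 2 from zpow_natCast v 2, mul_inv_eq_iff_eq_mul] at c3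
    have c4 := ih hl' h2 (f v) hfv (f t)
    rw [mul_inv_eq_iff_eq_mul, ← map_pow, ← map_mul] at c4
    rw [e, mul_inv_eq_iff_eq_mul]
    simp only [List.map_cons, orbEl]
    calc hg C (T.simp' i) v * (l.zipIdx.map fun p => hg C (T.simp' p.1) (f^[p.2] (f v))).prod *
          (xg C (T.simp' i) t * orbEl C f (l.map T.simp') (f t))
        = hg C (T.simp' i) v * ((l.zipIdx.map fun p => hg C (T.simp' p.1) (f^[p.2] (f v))).prod *
            xg C (T.simp' i) t) * orbEl C f (l.map T.simp') (f t) := by group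
      _ = (hg C (T.simp' i) v * xg C (T.simp' i) t) * ((l.zipIdx.map fun p => hg C (T.simp' p.1) (f^[p.2] (f v))).prod *
            orbEl C f (l.map T.simp') (f t)) := by rw [c2.eq]; group
      _ = xg C (T.simp' i) (v ^ 2 * t) * (hg C (T.simp' i) v * orbEl C f (l.map T.simp') (f (v ^ 2 * t))) *
            (l.zipIdx.map fun p => hg C (T.simp' p.1) (f^[p.2] (f v))).prod := by rw [c3, c4]; group
      _ = _ := by rw [c1.eq]; group

include hS K hc hs

theorem TwSimplyOK.orbEl_neg_fixed {J : ℕ} (hJ : J < τ.norb) {v : F} (hv : f^[(τ.orb J).length] v = v) :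
    twSigma hS f (orbEl C f ((τ.base J).map T.neg) v) = orbEl C f ((τ.base J).map T.neg) v ∧
      orbEl C f ((τ.base J).map T.neg) v ∈ Pset C ((τ.base J).map T.neg) := by
  obtain ⟨r, l, -, hb, hlen, hpos, hnd, hsh, hp⟩ := hs.orbit_data C hS (F := F) K hc hJ
  rw [hb, List.map_cons]
  refine ⟨orbEl_fixed C hS f ?_ ?_ ?_ (by rw [List.length_cons, List.length_map, ← List.length_cons (a := r), hlen, hv]), ?_⟩
  · intro s hs'
    rw [← List.map_cons] at hs'
    obtain ⟨a, ha, rfl⟩ := List.mem_map.1 hs'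
    obtain ⟨-, hlt, he⟩ := hpos a ha
    exact ⟨C.spec.neg_lt _ hlt, by rw [hS.eps_neg _ hlt, he]⟩
  · rw [← List.map_cons, List.map_map,
      show (r :: l).map (S.root ∘ T.neg) = (r :: l).map (T.neg ∘ S.root) from
        List.map_congr_left fun a ha => hS.root_neg a (hpos a ha).2.1,
      ← List.map_map, hsh, List.map_append]
    rfl
  · intro s hs' t u
    obtain ⟨a, ha, rfl⟩ := List.mem_map.1 hs'
    exact ((List.pairwise_cons.1 hp).1 a ha t u).2.2.2
  · rw [← List.map_cons]
    have hnd' : ((r :: l).map T.neg).Nodup := List.Nodup.map_on (fun a ha b hb' e => by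
      rw [← C.spec.neg_neg a (hpos a ha).2.1, e, C.spec.neg_neg b (hpos b hb').2.1]) hnd
    obtain ⟨t, ht, -⟩ := orbEl_mem_pset C f _ v hnd'
    exact ⟨t, ht⟩

theorem TwSimplyOK.gen_le_fixed : twOrbGen C f τ ⊆ ((hs.twOK C hS f K hc).fixed C : Set (GL D.Idx F)) := by
  rintro g ⟨J, hJ, v, hv, hg⟩
  have hmem : ∀ (l : List ℕ) (w : F), orbEl C f l w ∈ D.group F := by
    intro l
    induction l with
    | nil => exact fun w => one_mem _
    | cons r l ih => exact fun w => mul_mem (xg_mem_group C r w) (ih _)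
  rcases hg with rfl | rfl
  · have : orbEl C f (τ.base J) v ∈ twFixPart C (twSigma hS f) (τ.base J) := by
      rw [hs.fixPart_eq C hS f K hc hJ]; exact ⟨v, hv, rfl⟩
    exact ⟨hmem _ _, this.2⟩
  · exact ⟨hmem _ _, (hs.orbEl_neg_fixed C hS f K hc hJ hv).1⟩

theorem TwSimplyOK.nGen_mem {W : Subgroup (GL D.Idx F)} (hW : twOrbGen C f τ ⊆ W) {J : ℕ} (hJ : J < τ.norb)
    {v : F} (hv : f^[(τ.orb J).length] v = v) : nGen C f (τ.base J) v ∈ W := by
  rw [(hs.exists_nGen C hS f K hc hJ hv).1]
  have h1 : orbEl C f (τ.base J) v ∈ W := hW ⟨J, hJ, v, hv, Or.inl rfl⟩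
  refine W.mul_mem (W.mul_mem h1 (hW ⟨J, hJ, -v⁻¹, ?_, Or.inr rfl⟩)) h1
  rw [iterate_map_neg f,
    (Function.Semiconj.iterate_right (f := fun x : F => x⁻¹) (ga := f) (gb := f) (fun x => (map_inv₀ f x).symm)
      (τ.orb J).length v).symm, hv]

variable [Finite F]

/-- Fixed points are generated by orbit elements. -/
theorem TwSimplyOK.fixed_eq_closure (hL : TwLinked D T τ) (hZ : ∀ c : Fin D.rank → Fˣ,
      (twPar hS f c)⁻¹ * c ∈ (torusHom D T F).ker → ∃ z ∈ (torusHom D T F).ker, twPar hS f (c * z) = c * z) :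
    (hs.twOK C hS f K hc).fixed C = Subgroup.closure (twOrbGen C f τ) := by
  have hle : Subgroup.closure (twOrbGen C f τ) ≤ (hs.twOK C hS f K hc).fixed C :=
    (Subgroup.closure_le _).2 (hs.gen_le_fixed C hS f K hc)
  refine le_antisymm ?_ hle
  refine (hs.twOK C hS f K hc).fixed_le_of_base C K hc (fun J hJ => ?_) (fun J hJ => ?_) ?_
  · obtain ⟨n, -, -, hd⟩ := (hs.twOK C hS f K hc).rep J hJ
    have h1 := hs.nGen_mem C hS f K hc (W := Subgroup.closure (twOrbGen C f τ)) Subgroup.subset_closure hJ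
      (v := (1 : F)) (iterate_map_one f _)
    have e : ∀ l : List ℕ, nGen C f (l.map T.simp') (1 : F) = wnu C F l := by
      intro l
      induction l with
      | nil => simp [nGen, wnu]
      | cons a l ih => rw [List.map_cons, nGen, map_one, ih, wnu_cons]; rfl
    refine ⟨_, ⟨h1, hle h1⟩, ?_⟩
    rw [hs.base_eq J hJ, e, hs.lw_eq J hJ, inv_mul_cancel]
    exact one_mem _
  · rw [hs.fixPart_eq C hS f K hc hJ]
    rintro g ⟨v, hv, rfl⟩
    exact Subgroup.subset_closure ⟨J, hJ, v, hv, Or.inl rfl⟩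
  · intro g hg
    obtain ⟨c, hcf, rfl⟩ := (hs.diag_fixed C hS f K hc hZ).1 hg
    exact hs.torus_mem C hS f K hc hL (fun J hJ v _ hv => hs.nGen_mem C hS f K hc Subgroup.subset_closure hJ hv)
      ((mem_twFixPar C hS f).1 hcf)

set_option maxHeartbeats 3000000 in
/-- Perfectness. -/
theorem TwSimplyOK.perfect (hL : TwLinked D T τ) (hZ : ∀ c : Fin D.rank → Fˣ,
      (twPar hS f c)⁻¹ * c ∈ (torusHom D T F).ker → ∃ z ∈ (torusHom D T F).ker, twPar hS f (c * z) = c * z)
    (hk : ∀ v : F, f^[k] v = v) (h4 : 4 ≤ Nat.card F) {cert : List (ℕ × ℕ × ℕ × ℕ)}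
    (hcert : chkTwTriples T S τ cert = true) :
    commutator ↥((hs.twOK C hS f K hc).fixed C) = ⊤ := by
  classical
  set G1 := (hs.twOK C hS f K hc).fixed C with hG1
  let W : Subgroup (GL D.Idx F) := (commutator ↥G1).map G1.subtype
  suffices h : G1 ≤ W by
    refine eq_top_iff.2 fun x _ => ?_
    obtain ⟨y, hy, e⟩ := h x.2
    rwa [show x = y from Subtype.ext e.symm]
  have hcomm : ∀ {a b : GL D.Idx F}, a ∈ G1 → b ∈ G1 → a * b * a⁻¹ * b⁻¹ ∈ W := fun {a b} ha hb =>
    ⟨⁅(⟨a, ha⟩ : ↥G1), ⟨b, hb⟩⁆, by rw [commutator_def]; exact Subgroup.commutator_mem_commutator (Subgroup.mem_top _) (Subgroup.mem_top _), rfl⟩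
  have hconjW : ∀ {n x : GL D.Idx F}, n ∈ G1 → x ∈ W → n * x * n⁻¹ ∈ W := by
    rintro n _ hn ⟨y, hy, rfl⟩
    exact ⟨⟨n, hn⟩ * y * (⟨n, hn⟩)⁻¹, (Subgroup.commutator_normal ⊤ ⊤).conj_mem y hy _, rfl⟩
  simp only [chkTwTriples, Bool.and_eq_true, List.all_eq_true, allBelow_iff, Bool.or_eq_true, Bool.not_eq_true',
    List.any_eq_true, Nat.beq_eq] at hcert
  have hev := nroots_even C
  have hgen := hs.gen_le_fixed C hS f K hc
  have hnG : ∀ {J : ℕ} {v : F}, J < τ.norb → f^[(τ.orb J).length] v = v → nGen C f (τ.base J) v ∈ G1 :=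
    fun hJ hv => hs.nGen_mem C hS f K hc hgen hJ hv
  have hbase : ∀ J < τ.norb, twFixPart C (twSigma hS f) (τ.base J) ⊆ W := by
    intro J hJ
    obtain ⟨r, l, hr, hb, hlen, hpos, hnd, hsh, hp⟩ := hs.orbit_data C hS (F := F) K hc hJ
    rw [hs.fixPart_eq C hS f K hc hJ]
    rintro g ⟨v, hv, rfl⟩
    by_cases h1 : (τ.orb J).length = 1
    · obtain ⟨p, hp', hw⟩ := (hcert.2 J hJ).resolve_left (fun h => by rw [h1] at h; simp at h)
      have hp0 := hcert.1 p hp'
      obtain ⟨a, b, c, e⟩ := p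
      simp only [chkTwTriple, Bool.and_eq_true, Nat.blt_eq, Nat.beq_eq, Bool.not_eq_true', decide_eq_true_eq,
        C.spec.shape.nroots_eq] at hp0
      obtain ⟨ha, hb', hcn, he, ⟨hra, hea⟩, ⟨hrb, heb⟩, hrc, hne1, hne2, hterm⟩ := hp0
      obtain ⟨M, hM, hterm'⟩ : ∃ M : ℤ, (M = 1 ∨ M = -1) ∧ tTerms T a b = [(c, M, 1, 1)] := by
        revert hterm
        split
        · rename_i d M i j e'
          intro hterm
          simp only [Bool.and_eq_true, Nat.beq_eq, decide_eq_true_eq] at hterm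
          obtain ⟨rfl, hM, rfl, rfl⟩ := hterm
          exact ⟨M, Int.natAbs_eq_iff.1 hM, e'⟩
        · intro h; exact Bool.noConfusion h
      have hfix : ∀ {x : ℕ} (hx : x < D.nroots), τ.root x = x → S.eps x = 1 → ∀ s : F, f s = s →
          xg C x s ∈ G1 := by
        intro x hx hx' hex s hs'
        refine ⟨xg_mem_group C _ _, ?_⟩
        rw [twSigma_xg C hS f hx, hex, ← hs.root_eq _ hx, hx', hs']
        simp
      have hcW : ∀ s : F, f s = s → xg C c s ∈ W := by
        intro s hs'
        have hMs : f (-((M : F) * s)) = -((M : F) * s) := by rw [map_neg, map_mul, map_intCast, hs']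
        have hA := hfix ha hra hea _ hMs
        have hB := hfix hb' hrb heb (1 : F) (map_one f)
        have hform := comm_formula K.comm (F := F) ha hb'
          (fun e' => by rw [e'] at hne1; simp at hne1) (fun e' => by rw [e'] at hne2; simp at hne2) (-((M : F) * s)) 1
        rw [ChevalleyDatum.commWord, commTerms_eq C ha hb', hterm'] at hform
        have hform' : xg C b 1 * xg C a (-((M : F) * s)) =
            xg C a (-((M : F) * s)) * xg C b 1 * xg C c s := by
          refine Units.ext ?_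
          rw [Units.val_mul, Units.val_mul, Units.val_mul, coe_xg, coe_xg, coe_xg, hform]
          rcases hM with rfl | rfl <;>
            simp [ChevalleyDatum.wordMat]
        have e2 : xg C c s = (xg C b (1 : F))⁻¹ * (xg C a (-((M : F) * s)))⁻¹ *
            ((xg C b (1 : F))⁻¹)⁻¹ * ((xg C a (-((M : F) * s)))⁻¹)⁻¹ := by
          rw [inv_inv, inv_inv]
          have := congrArg (fun z => (xg C a (-((M : F) * s)) * xg C b 1)⁻¹ * z) hform'
          simp only [inv_mul_cancel_left] at this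
          rw [← this]; group
        rw [e2]
        exact hcomm (inv_mem hB) (inv_mem hA)
      obtain ⟨n, hn, hd⟩ := (hs.twOK C hS f K hc).exists_fixed_rep C hc he
      obtain ⟨χ, hχ0, hχ⟩ := mono_conj_lprod (F := F) C (hc.eword_word C he) hd
      have hconj : ∀ s, n * xg C c s * n⁻¹ = xg C r (χ c * s) := fun s => by
        have := hχ [c] (fun _ => s) (by simpa using hcn)
        simp only [lprod, List.map_cons, List.map_nil, List.prod_cons, List.prod_nil, mul_one] at this
        rw [this, hw, hr]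
      have hl0 : l = [] := by
        rw [h1, List.length_cons] at hlen
        exact List.length_eq_zero_iff.1 (by omega)
      subst hl0
      have hrpos := hpos r (List.mem_cons_self ..)
      have hrroot : S.root r = r := by simpa using hsh
      have hc1 : xg C c (1 : F) ∈ G1 := Subgroup.map_subtype_le (commutator ↥G1) (hcW 1 (map_one f))
      have hχf : f (χ c) = χ c := by
        have hm := (mul_mem (mul_mem hn hc1) (inv_mem hn) : n * xg C c (1 : F) * n⁻¹ ∈ G1).2
        rw [hconj, mul_one, twSigma_xg C hS f hrpos.2.1, hrpos.2.2, Int.cast_one, one_mul, hrroot] at hm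
        exact lprod_inj C K.comm hnd (fun s hs' => ⟨(hpos s hs').1, (hpos s hs').2.1⟩)
          (t := fun _ => f (χ c)) (u := fun _ => χ c) (by simpa [lprod] using hm) r (List.mem_cons_self ..)
      have hv' : f v = v := by rwa [h1, Function.iterate_one] at hv
      have hsf : f ((χ c)⁻¹ * v) = (χ c)⁻¹ * v := by rw [map_mul, map_inv₀, hχf, hv']
      have := hconjW hn (hcW _ hsf)
      rw [hconj, mul_inv_cancel_left₀ (hχ0 c hcn)] at this
      rw [hb]
      simpa [orbEl] using this
    · have hlk : (τ.orb J).length = k := (hs.orb_len J hJ).resolve_left h1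
      obtain ⟨u, hu0, hu2⟩ : ∃ u : F, u ≠ 0 ∧ u ^ 2 ≠ 1 := by
        by_contra hno
        push Not at hno
        have hsub : ∀ x : F, x ∈ ({0, 1, -1} : Finset F) := fun x => by
          rcases eq_or_ne x 0 with rfl | hx
          · simp
          · rcases sq_eq_one_iff.1 (hno x hx) with rfl | rfl <;> simp
        haveI := Fintype.ofFinite F
        have : Fintype.card F ≤ 3 :=
          le_trans (Finset.card_le_card (fun x _ => hsub x : (Finset.univ : Finset F) ⊆ {0, 1, -1})) Finset.card_le_three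
        rw [Nat.card_eq_fintype_card] at h4
        omega
      have hud : u ^ 2 - 1 ≠ 0 := sub_ne_zero.2 hu2
      have hfixk : ∀ x : F, f^[(τ.orb J).length] x = x := by rw [hlk]; exact hk
      let H : GL D.Idx F := ((τ.orb J).zipIdx.map fun p => hg C (T.simp' p.1) (f^[p.2] u)).prod
      have hH : H ∈ G1 := by
        have e := nGen_mul_neg C f (τ.base J) u (fun s hs' => hc.base_lt J hJ s hs') (by rw [hb]; exact hp)
        rw [hs.base_eq J hJ, List.zipIdx_map, List.map_map] at e
        rw [show H = ((τ.orb J).zipIdx.map ((fun p : ℕ × ℕ => hg C p.1 (f^[p.2] u)) ∘ Prod.map T.simp' id)).prod from rfl,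
          ← e, ← hs.base_eq J hJ]
        exact mul_mem (hnG hJ (hfixk u)) (hnG hJ (hfixk _))
      have hl : ∀ i ∈ τ.orb J, i < D.rank := hc.orb_lt J hJ
      have ho : (τ.orb J).Pairwise fun a b => T.cartan a (T.simp' b) = 0 ∧ T.cartan b (T.simp' a) = 0 :=
        List.Nodup.pairwise_of_forall_ne (hs.orb_nodup J hJ) fun a ha b hb' hab =>
          ⟨(hs.orb_comm J hJ a ha b hb' hab).1, (hs.orb_comm J hJ b hb' a ha (Ne.symm hab)).1⟩
      have key := hList_conj C f hl ho u hu0 (v * (u ^ 2 - 1)⁻¹)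
      rw [← hs.base_eq J hJ] at key
      have hx : orbEl C f (τ.base J) (v * (u ^ 2 - 1)⁻¹) ∈ G1 := hgen ⟨J, hJ, _, hfixk _, Or.inl rfl⟩
      have := hcomm hH hx
      rw [show H * orbEl C f (τ.base J) (v * (u ^ 2 - 1)⁻¹) * H⁻¹ = _ from key] at this
      have hneg : (orbEl C f (τ.base J) (v * (u ^ 2 - 1)⁻¹))⁻¹ = orbEl C f (τ.base J) (-(v * (u ^ 2 - 1)⁻¹)) := by
        refine inv_eq_of_mul_eq_one_right ?_
        rw [hb, orbEl_add C f (hp.imp fun h t u => (h t u).1), add_neg_cancel]
        have hz : ∀ m : List ℕ, orbEl C f m (0 : F) = 1 := by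
          intro m
          induction m with
          | nil => rfl
          | cons x m ih => rw [orbEl, map_zero, ih, xg_zero, mul_one]
        exact hz _
      rw [hneg, hb, orbEl_add C f (hp.imp fun h t u => (h t u).1),
        show u ^ 2 * (v * (u ^ 2 - 1)⁻¹) + -(v * (u ^ 2 - 1)⁻¹) = v by field_simp; ring, ← hb] at this
      exact this
  have hneg : twOrbGen C f τ ⊆ (W : Set (GL D.Idx F)) := by
    rintro g ⟨J, hJ, v, hv, hg'⟩
    rcases hg' with rfl | rfl
    · refine hbase J hJ ?_
      rw [hs.fixPart_eq C hS f K hc hJ]; exact ⟨v, hv, rfl⟩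
    · obtain ⟨n, hn, hnf, hd⟩ := (hs.twOK C hS f K hc).rep J hJ
      have hn' : n ∈ G1 := ⟨hn, hnf⟩
      obtain ⟨hfx, hps⟩ := hs.orbEl_neg_fixed C hS f K hc hJ hv
      have hlt : ∀ r ∈ (τ.base J).map T.neg, r < D.nroots := fun r hr => by
        obtain ⟨a, ha, rfl⟩ := List.mem_map.1 hr
        exact C.spec.neg_lt _ (hc.base_lt J hJ a ha)
      have h1 := (mono_conj_pset C (hc.lw_word J hJ) hd hlt).1 hps
      have elist : ((τ.base J).map T.neg).map (wperm T (τ.lw J)) = τ.base J := by
        rw [List.map_map, show (τ.base J).map (wperm T (τ.lw J) ∘ T.neg) = ((τ.base J).map (wperm T (τ.lw J))).map T.neg by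
          rw [List.map_map]
          exact List.map_congr_left fun a ha => wperm_neg C (hc.lw_word J hJ) (hc.base_lt J hJ a ha),
          hs.base_flip J hJ, List.map_map]
        conv_rhs => rw [← List.map_id (τ.base J)]
        exact List.map_congr_left fun a ha => C.spec.neg_neg a (hc.base_lt J hJ a ha)
      rw [elist] at h1
      have hxG : orbEl C f ((τ.base J).map T.neg) v ∈ G1 := hgen ⟨J, hJ, v, hv, Or.inr rfl⟩
      have h2 : n * orbEl C f ((τ.base J).map T.neg) v * n⁻¹ ∈ twFixPart C (twSigma hS f) (τ.base J) :=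
        ⟨h1, (mul_mem (mul_mem hn' hxG) (inv_mem hn') : n * orbEl C f ((τ.base J).map T.neg) v * n⁻¹ ∈ G1).2⟩
      have h3 := hconjW (inv_mem hn') (hbase J hJ h2)
      simpa [mul_assoc] using h3
  rw [hG1, hs.fixed_eq_closure C hS f K hc hL hZ]
  exact (Subgroup.closure_le _).2 hneg

end Cfsg.Lib.Chev
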