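import Mathlib
import Cfsg.Agent.Lib.Chev.TwPerfect

/-!
Tools for the individual twisted types.
-/

set_option autoImplicit false

namespace Cfsg.Lib.Chev

open Cfsg.Lie

/-- Exponents of a product of two generating functions. -/
def polyMul (a b : List ℕ) : List ℕ := a.flatMap fun x => b.map (x + ·)

theorem sum_polyMul (q : ℕ) (a b : List ℕ) :
    ((polyMul a b).map (q ^ ·)).sum = (a.map (q ^ ·)).sum * (b.map (q ^ ·)).sum := by
  induction a with
  | nil => simp [polyMul]
  | cons x a ih =>
    have e : polyMul (x :: a) b = b.map (x + ·) ++ polyMul a b := by simp [polyMul]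
    rw [e, List.map_append, List.sum_append, ih, List.map_cons, List.sum_cons, add_mul, List.map_map]
    congr 1
    rw [← List.sum_map_mul_left]
    congr 1
    exact List.map_congr_left fun y _ => by simp [pow_add]

/-- Two lists have the same members with multiplicity. -/
noncomputable def chkCounts (a b : List ℕ) (n : ℕ) : Bool :=
  allBelow (fun i => Nat.beq (a.count i) (b.count i)) n && (a.all (fun x => Nat.blt x n) && b.all fun x => Nat.blt x n)

theorem perm_of_chkCounts {a b : List ℕ} {n : ℕ} (h : chkCounts a b n = true) : a.Perm b := by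
  simp only [chkCounts, Bool.and_eq_true, allBelow_iff, Nat.beq_eq, List.all_eq_true, Nat.blt_eq] at h
  refine List.perm_iff_count.2 fun x => ?_
  by_cases hx : x < n
  · exact h.1 x hx
  · rw [List.count_eq_zero.2 fun hm => hx (h.2.1 x hm), List.count_eq_zero.2 fun hm => hx (h.2.2 x hm)]

variable {D : ChevalleyDatum} {T : Tbl} {F : Type*} [Field F] (C : Cert D T) {S : Sym} (hS : SymOK D T S)
  (f : F →+* F) {τ : TwData} (K : FullCert D T) {k : ℕ} (hc : TwComb D T τ) (hs : TwSimplyOK D T S τ k)
include C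

theorem orbEl_one : ∀ l : List ℕ, orbEl C f l (1 : F) = lprod C l fun _ => 1
  | [] => rfl
  | r :: l => by rw [orbEl, lprod_cons, map_one, orbEl_one l]

/-- Images of the torus kernel under the twisting. -/
theorem twPar_ker {c : Fin D.rank → Fˣ} (h : c ∈ (torusHom D T F).ker) :
    twPar hS f c ∈ (torusHom D T F).ker := by
  rw [MonoidHom.mem_ker] at h ⊢
  rw [← twSigma_torus C hS f, h, twSigma_one hS f]

include hS K hc hs

theorem TwSimplyOK.witness : TwWitness C τ (twSigma hS f) := by
  intro i hi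
  obtain ⟨J, hJ, hiJ⟩ := hc.orb_cover i hi
  refine ⟨J, hJ, fun _ => 1, ?_, one_ne_zero, ?_⟩
  · rw [hs.base_eq J hJ]; exact List.mem_map_of_mem hiJ
  · rw [← orbEl_one C f, hs.fixPart_eq C hS f K hc hJ]
    exact ⟨1, iterate_map_one f _, rfl⟩

variable [Finite F]

theorem TwSimplyOK.card_weight {q : ℕ} (hq : 2 ≤ q) (hK : Nat.card F = q ^ k)
    (hf : ∀ (j : ℕ) (t : F), f^[j] t = t ^ (q ^ j)) {J : ℕ} (hJ : J < τ.norb) :
    Nat.card ↥(twFixPart C (twSigma hS f) (τ.base J)) = q ^ (τ.orb J).length := by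
  rw [hs.card_fixPart C hS f K hc hJ]
  simp only [hf]
  refine card_fixed_field hq hK ?_
  rcases hs.orb_len J hJ with e | e <;> rw [e]
  exact one_dvd k

theorem TwSimplyOK.card_par_eq (hL : TwLinked D T τ) {q : ℕ} (hq : 2 ≤ q) (hK : Nat.card F = q ^ k)
    (hf : ∀ (j : ℕ) (t : F), f^[j] t = t ^ (q ^ j)) :
    Nat.card ↥(twFixPar hS f C) = ∏ J : Fin τ.norb, (q ^ (τ.orb J).length - 1) := by
  rw [hs.card_par C hS f K hc hL]
  refine Finset.prod_congr rfl fun J _ => ?_
  have hj : (τ.orb J).length ∣ k := by rcases hs.orb_len J J.2 with e | e <;> rw [e]; exact one_dvd k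
  rw [← card_fixed_units (K := F) hq hK hj]
  refine Nat.card_congr (Equiv.subtypeEquivRight fun u => ?_)
  rw [hf]
  have h1 : 1 ≤ q ^ (τ.orb J).length := Nat.one_le_pow _ _ (by omega)
  conv_lhs => rw [show q ^ (τ.orb J).length = q ^ (τ.orb J).length - 1 + 1 by omega, pow_succ,
    mul_left_eq_self₀]
  constructor
  · rintro (h | h)
    · exact Units.ext (by simpa using h)
    · exact absurd h u.ne_zero
  · intro h
    exact Or.inl (by rw [← Units.val_pow_eq_pow_val, h, Units.val_one])

end Cfsg.Lib.Chev
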