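import Cfsg.Prelude.Def_LieTwisted
import Cfsg.Agent.Lib.Chev.TwTools
import Cfsg.Agent.Lib.Chev.TwDataD4
import Cfsg.Agent.Lib.Chev.OrderD4

/-! The group ³D₄(q) as the fixed group of the triality twist. -/

set_option autoImplicit false
set_option maxRecDepth 10000

namespace Cfsg.Lib.Chev

open Cfsg.Lie

theorem certD4C : Cert chevD4 tblD4 := fullCertD4.comm.cert
theorem twCombD4 : TwComb chevD4 tblD4 twD4 :=
  twComb_of_chk certD4C chkTwBaseD4 chkTwEltsD4 chkTwClassesD4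
theorem twLinkedD4 : TwLinked chevD4 tblD4 twD4 := twLinked_of_chk certD4C chkTwLinkedD4
theorem twSimplyD4 : TwSimplyOK chevD4 tblD4 symD4_3 twD4 3 := twSimply_of_chk certD4C chkTwSimplyD4
theorem symOKD4_tri : SymOK chevD4 tblD4 symD4_3 := symOK_of_chk certD4C.spec.shape chkSymD4_3

/-- Twice the inverse of the Cartan matrix. -/
def invTwoD4 : Matrix (Fin chevD4.rank) (Fin chevD4.rank) ℤ :=
  (!![2, 2, 1, 1; 2, 4, 2, 2; 1, 2, 2, 1; 1, 2, 1, 2] : Matrix (Fin 4) (Fin 4) ℤ)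

theorem invTwoD4_mul : invTwoD4 * cartanMat chevD4 tblD4 = Matrix.diagonal (fun _ => ((2 : ℕ) : ℤ)) := by
  decide +kernel

variable {K : Type*} [Field K]

theorem kerD4_sq {z : Fin chevD4.rank → Kˣ} (hz : z ∈ (torusHom chevD4 tblD4 K).ker) (i : Fin chevD4.rank) :
    z i ^ 2 = 1 := by
  rw [torusHom_ker certD4C, MonoidHom.mem_ker] at hz
  have : powHom (invTwoD4 * cartanMat chevD4 tblD4) z = 1 := by
    rw [powHom_mul, MonoidHom.comp_apply, hz, map_one]
  rw [invTwoD4_mul] at this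
  have h := congrFun this i
  rwa [powHom_diagonal (fun _ => 2)] at h

theorem twPar_threeD4 {f : K →+* K} (hk : ∀ t, f^[3] t = t) (c : Fin chevD4.rank → Kˣ) :
    twPar symOKD4_tri f (twPar symOKD4_tri f (twPar symOKD4_tri f c)) = c := by
  funext i
  refine Units.ext ?_
  have hidx : ∀ j < 4, symD4_3.pI.getD (symD4_3.pI.getD (symD4_3.pI.getD j 0) 0) 0 = j := by decide
  show f (f (f (c ⟨symD4_3.pI.getD (symD4_3.pI.getD (symD4_3.pI.getD i.val 0) 0) 0, _⟩ : Kˣ))) = _
  conv_rhs => rw [← hk (c i : Kˣ)]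
  rw [Function.iterate_succ_apply', Function.iterate_succ_apply', Function.iterate_succ_apply', Function.iterate_zero_apply]
  congr 5
  exact Fin.ext (hidx i.val i.2)

theorem twPar_mul {D : ChevalleyDatum} {T : Tbl} {S : Sym} (hS : SymOK D T S) (f : K →+* K)
    (a b : Fin D.rank → Kˣ) : twPar hS f (a * b) = twPar hS f a * twPar hS f b :=
  funext fun i => by simp [twPar]

theorem twPar_inv {D : ChevalleyDatum} {T : Tbl} {S : Sym} (hS : SymOK D T S) (f : K →+* K)
    (a : Fin D.rank → Kˣ) : twPar hS f a⁻¹ = (twPar hS f a)⁻¹ :=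
  funext fun i => by simp [twPar]

theorem hZD4 {f : K →+* K} (hk : ∀ t, f^[3] t = t) (c : Fin chevD4.rank → Kˣ)
    (hc : (twPar symOKD4_tri f c)⁻¹ * c ∈ (torusHom chevD4 tblD4 K).ker) :
    ∃ z ∈ (torusHom chevD4 tblD4 K).ker, twPar symOKD4_tri f (c * z) = c * z := by
  refine ⟨_, twPar_ker certD4C symOKD4_tri f hc, ?_⟩
  have h3 := twPar_threeD4 hk c
  have hsq : ((twPar symOKD4_tri f c)⁻¹ * c) ^ 2 = 1 := funext fun i => kerD4_sq hc i
  have hb : ((twPar symOKD4_tri f c)⁻¹ * c)⁻¹ = (twPar symOKD4_tri f c)⁻¹ * c :=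
    inv_eq_of_mul_eq_one_right (by rw [← sq]; exact hsq)
  simp only [twPar_mul, twPar_inv, h3]
  set a := twPar symOKD4_tri f c with ha
  set b := twPar symOKD4_tri f a with hb'
  calc a * (c⁻¹ * b) = (a⁻¹ * c)⁻¹ * b := by rw [mul_inv, inv_inv, mul_assoc]
    _ = a⁻¹ * c * b := by rw [hb]
    _ = c * (b⁻¹ * a) * ((b⁻¹ * a)⁻¹ * a⁻¹ * b) := by group; simp [mul_comm, mul_assoc]
    _ = c * (b⁻¹ * a) := by
      have hs2 : (twPar symOKD4_tri f ((twPar symOKD4_tri f c)⁻¹ * c)) ^ 2 = 1 :=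
        funext fun i => kerD4_sq (twPar_ker certD4C symOKD4_tri f hc) i
      rw [twPar_mul, twPar_inv, ← ha, ← hb', sq] at hs2
      have : (b⁻¹ * a)⁻¹ * a⁻¹ * b = ((b⁻¹ * a) * (b⁻¹ * a))⁻¹ := by
        simp [mul_comm, mul_assoc, mul_left_comm]
      rw [this, hs2, inv_one, mul_one]

variable [Fintype K] {q : ℕ}

/-- Everything about ³D₄(q). -/
theorem twistedD4_facts (hq : IsPrimePow q) (hK : Fintype.card K = q ^ 3) :
    ∃ (f : K →+* K) (h : TwOK certD4C twD4 (twSigma symOKD4_tri f)),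
      Cfsg.Lie.twistedD4 K q = h.fixed certD4C ∧
      (∀ J < twD4.norb, Nat.card ↥(twFixPart certD4C (twSigma symOKD4_tri f) (twD4.base J)) = q ^ (twD4.orb J).length) ∧
      Nat.card ↥(chevD4.diagonalSubgroup K ⊓ h.fixed certD4C) = (q - 1) * (q ^ 3 - 1) ∧
      commutator ↥(h.fixed certD4C) = ⊤ ∧ TwWitness certD4C twD4 (twSigma symOKD4_tri f) := by
  have hq2 : 2 ≤ q := hq.two_le
  have hK' : Nat.card K = q ^ 3 := by rw [Nat.card_eq_fintype_card]; exact hK
  obtain ⟨f, hf, hit, hk⟩ := exists_frobQ hq (by norm_num) hK'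
  have hZ := fun c => hZD4 hk c
  have h := twSimplyD4.twOK certD4C symOKD4_tri f fullCertD4 twCombD4
  have hgen := twSimplyD4.fixed_eq_closure certD4C symOKD4_tri f fullCertD4 twCombD4 twLinkedD4 hZ
  have hdiag : Nat.card ↥(chevD4.diagonalSubgroup K ⊓ h.fixed certD4C) = (q - 1) * (q ^ 3 - 1) := by
    have e1 := twSimplyD4.card_diag_fixed certD4C symOKD4_tri f fullCertD4 twCombD4 hZ
    have e2 := twSimplyD4.card_par_eq certD4C symOKD4_tri f fullCertD4 twCombD4 twLinkedD4 hq2 hK' hit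
    have e3 : (torusHom chevD4 tblD4 K).ker ⊓ twFixPar symOKD4_tri f certD4C = ⊥ := by
      refine (Subgroup.eq_bot_iff_forall _).2 fun z hz => ?_
      obtain ⟨hzk, hzf⟩ := Subgroup.mem_inf.1 hz
      rw [mem_twFixPar] at hzf
      have hsq := fun i => kerD4_sq hzk i
      have hfix : ∀ j : Fin chevD4.rank, f ((z j : Kˣ) : K) = ((z j : Kˣ) : K) := by
        intro j
        rcases sq_eq_one_iff.1 (show ((z j : Kˣ) : K) ^ 2 = 1 by rw [← Units.val_pow_eq_pow_val, hsq j, Units.val_one])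
          with e | e <;> rw [e] <;> simp
      have hmove : ∀ i : Fin chevD4.rank, z i = z ⟨symD4_3.pI.getD i 0, symOKD4_tri.node_lt' i i.2⟩ := by
        intro i
        conv_lhs => rw [← hzf]
        exact Units.ext (hfix _)
      rw [torusHom_ker certD4C, MonoidHom.mem_ker] at hzk
      let w : Fin 4 → Kˣ := z
      have h0 : w 0 = w 3 := hmove (0 : Fin 4)
      have h2 : w 2 = w 0 := hmove (2 : Fin 4)
      have e00 : tblD4.cartan 0 (tblD4.simp' 0) = 2 := by decide +kernel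
      have e10 : tblD4.cartan 1 (tblD4.simp' 0) = -1 := by decide +kernel
      have e20 : tblD4.cartan 2 (tblD4.simp' 0) = 0 := by decide +kernel
      have e30 : tblD4.cartan 3 (tblD4.simp' 0) = 0 := by decide +kernel
      have e01 : tblD4.cartan 0 (tblD4.simp' 1) = -1 := by decide +kernel
      have e11 : tblD4.cartan 1 (tblD4.simp' 1) = 2 := by decide +kernel
      have e21 : tblD4.cartan 2 (tblD4.simp' 1) = -1 := by decide +kernel
      have e31 : tblD4.cartan 3 (tblD4.simp' 1) = -1 := by decide +kernel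
      have r0 : ∏ j : Fin 4, w j ^ tblD4.cartan j (tblD4.simp' 0) = 1 := congrFun hzk (0 : Fin 4)
      have r1 : ∏ j : Fin 4, w j ^ tblD4.cartan j (tblD4.simp' 1) = 1 := congrFun hzk (1 : Fin 4)
      simp only [Fin.prod_univ_four, Fin.val_zero, Fin.val_one, Fin.val_two, show ((3 : Fin 4) : ℕ) = 3 from rfl,
        e00, e10, e20, e30, e01, e11, e21, e31, zpow_zero, mul_one, zpow_neg, zpow_one] at r0 r1
      rw [show (w 0 : Kˣ) ^ (2 : ℤ) = 1 from (zpow_natCast _ 2).trans (hsq (0 : Fin 4)), one_mul, inv_eq_one] at r0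
      have w1 : w 1 = 1 := r0
      rw [w1, ← h0, h2, one_zpow, mul_one] at r1
      have w0 : w 0 = 1 := by
        have h3 : w 0 * (w 0 * w 0) = 1 := by
          apply inv_injective
          simpa [mul_assoc] using r1
        rwa [← sq, hsq (0 : Fin 4), mul_one] at h3
      have w3 : w 3 = 1 := h0 ▸ w0
      have w2 : w 2 = 1 := h2.trans w0
      funext i
      show w i = 1
      revert i
      intro (i : Fin 4)
      fin_cases i <;> assumption
    rw [e3, Subgroup.card_bot, one_mul, e2, show (∏ J : Fin twD4.norb, (q ^ (twD4.orb J).length - 1)) =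
      ∏ J : Fin 2, (q ^ (twD4.orb J).length - 1) from rfl, Fin.prod_univ_two] at e1
    rw [e1, show (twD4.orb (0 : Fin 2)).length = 3 from rfl, show (twD4.orb (1 : Fin 2)).length = 1 from rfl,
      pow_one, mul_comm]
  have heq : Cfsg.Lie.twistedD4 K q = h.fixed certD4C := by
    rw [hgen, Cfsg.Lie.twistedD4, ChevalleyDatum.genSubgroup]
    congr 1
    have b0 : twD4.base 0 = [18, 13, 12] := rfl
    have b1 : twD4.base 1 = [14] := rfl
    have n0 : ([18, 13, 12] : List ℕ).map tblD4.neg = [5, 10, 11] := by decide +kernel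
    have n1 : ([14] : List ℕ).map tblD4.neg = [9] := by decide +kernel
    have v1 : ∀ t : K, f^[(twD4.orb 1).length] t = t ↔ t ^ q = t := fun t => by
      rw [show (twD4.orb 1).length = 1 from rfl, hit, pow_one]
    have v0 : ∀ t : K, f^[(twD4.orb 0).length] t = t := fun t => hk t
    have hcoe : ∀ (r : ℕ) (t : K), ((orbEl certD4C f [r] t : GL chevD4.Idx K) : Matrix chevD4.Idx chevD4.Idx K) =
        chevD4.wordMat K [(r, t)] := fun r t => by simp [orbEl, ChevalleyDatum.wordMat, coe_xg]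
    have hcoe3 : ∀ (r s u : ℕ) (t : K), ((orbEl certD4C f [r, s, u] t : GL chevD4.Idx K) :
        Matrix chevD4.Idx chevD4.Idx K) = chevD4.wordMat K [(r, t), (s, t ^ q), (u, t ^ (q ^ 2))] := fun r s u t => by
      simp [orbEl, ChevalleyDatum.wordMat, coe_xg, hf, ← pow_mul, ← sq, mul_assoc]
    ext g
    constructor
    · rintro ⟨w, hw, hg⟩
      rcases hw with ⟨t, ht, r, hr, rfl⟩ | ⟨t, rs, hr, rfl⟩
      · simp only [List.mem_cons, List.not_mem_nil, or_false] at hr
        rcases hr with rfl | rfl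
        · exact ⟨1, by decide, t, (v1 t).2 ht, Or.inl (Units.ext (by rw [hg, b1, hcoe]; rfl))⟩
        · exact ⟨1, by decide, t, (v1 t).2 ht, Or.inr (Units.ext (by rw [hg, b1, n1, hcoe]; rfl))⟩
      · simp only [List.mem_cons, List.not_mem_nil, or_false] at hr
        rcases hr with rfl | rfl
        · exact ⟨0, by decide, t, v0 t, Or.inl (Units.ext (by rw [hg, b0, hcoe3]; rfl))⟩
        · exact ⟨0, by decide, t, v0 t, Or.inr (Units.ext (by rw [hg, b0, n0, hcoe3]; rfl))⟩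
    · rintro ⟨J, hJ, t, ht, hg⟩
      have : J = 0 ∨ J = 1 := by
        have : J < 2 := hJ
        omega
      rcases this with rfl | rfl
      · rcases hg with rfl | rfl
        · exact ⟨_, Or.inr ⟨t, (d4p1, d4p3, d4p4), by simp, rfl⟩, by rw [b0, hcoe3]; rfl⟩
        · exact ⟨_, Or.inr ⟨t, (d4m1, d4m3, d4m4), by simp, rfl⟩, by rw [b0, n0, hcoe3]; rfl⟩
      · rcases hg with rfl | rfl
        · exact ⟨_, Or.inl ⟨t, (v1 t).1 ht, d4p2, by simp, rfl⟩, by rw [b1, hcoe]; rfl⟩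
        · exact ⟨_, Or.inl ⟨t, (v1 t).1 ht, d4m2, by simp, rfl⟩, by rw [b1, n1, hcoe]; rfl⟩
  refine ⟨f, h, heq, fun J hJ => twSimplyD4.card_weight certD4C symOKD4_tri f fullCertD4 twCombD4 hq2 hK' hit hJ,
    hdiag, ?_, twSimplyD4.witness certD4C symOKD4_tri f fullCertD4 twCombD4⟩
  refine twSimplyD4.perfect certD4C symOKD4_tri f fullCertD4 twCombD4 twLinkedD4 hZ hk ?_ chkTwTriplesD4
  rw [hK']
  calc 4 ≤ 2 ^ 3 := by norm_num
    _ ≤ q ^ 3 := Nat.pow_le_pow_left hq2 3

theorem twD4_lens : chkCounts (twD4.elts.map TwElt.len) (polyMul (polyMul [0, 1] [0, 3]) [0, 4, 8]) 13 = true := by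
  decide +kernel

theorem twD4_wt : ∀ J < twD4.norb, 1 * (twD4.orb J).length = (twD4.base J).length := fun J hJ => by
  rw [one_mul, twSimplyD4.base_eq J hJ, List.length_map]

theorem twistedD4_order (hq : IsPrimePow q) (hK : Fintype.card K = q ^ 3) :
    Nat.card ↥(Cfsg.Lie.twistedD4 K q) = q ^ 12 * (q ^ 2 - 1) * (q ^ 6 - 1) * (q ^ 8 + q ^ 4 + 1) := by
  obtain ⟨f, h, e, hw, hd, -, -⟩ := twistedD4_facts hq hK
  rw [e, h.card_fixed certD4C fullCertD4 twCombD4 hw one_pos twD4_wt, hd]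
  simp only [Nat.div_one]
  rw [show twD4.elts.map (fun E => q ^ E.len) = (twD4.elts.map TwElt.len).map (q ^ ·) by rw [List.map_map]; rfl,
    ((perm_of_chkCounts twD4_lens).map _).sum_eq, sum_polyMul, sum_polyMul,
    show chevD4.nroots / 2 = 12 from rfl]
  have h1 : 1 ≤ q := hq.two_le.trans' one_le_two
  have h2 : 1 ≤ q ^ 2 := Nat.one_le_pow _ _ h1
  have h3 : 1 ≤ q ^ 3 := Nat.one_le_pow _ _ h1
  have h6 : 1 ≤ q ^ 6 := Nat.one_le_pow _ _ h1
  simp only [List.map_cons, List.map_nil, List.sum_cons, List.sum_nil, pow_zero, pow_one, add_zero]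
  zify [h1, h2, h3, h6]
  ring

end Cfsg.Lib.Chev
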