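import Cfsg.Prelude.Def_LieTwisted
import Cfsg.Agent.Lib.Chev.TwTools
import Cfsg.Agent.Lib.Chev.TwD4
import Cfsg.Agent.Lib.Chev.TwDataE6
import Cfsg.Agent.Lib.Chev.OrderE6

/-! The group ²E₆(q) as the fixed group of the twisted graph automorphism. -/

set_option autoImplicit false
set_option maxRecDepth 10000

namespace Cfsg.Lib.Chev

open Cfsg.Lie

theorem certE6C : Cert chevE6 tblE6 := fullCertE6.comm.cert
theorem twCombE6 : TwComb chevE6 tblE6 twE6 :=
  twComb_of_chk certE6C chkTwBaseE6 chkTwEltsE6 chkTwClassesE6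
theorem twLinkedE6 : TwLinked chevE6 tblE6 twE6 := twLinked_of_chk certE6C chkTwLinkedE6
theorem twSimplyE6 : TwSimplyOK chevE6 tblE6 symE6_1 twE6 2 := twSimply_of_chk certE6C chkTwSimplyE6
theorem symOKE6_gr : SymOK chevE6 tblE6 symE6_1 := symOK_of_chk certE6C.spec.shape chkSymE6_1

/-- Three times the inverse of the Cartan matrix. -/
def invThreeE6 : Matrix (Fin chevE6.rank) (Fin chevE6.rank) ℤ :=
  (!![4, 3, 5, 6, 4, 2; 3, 6, 6, 9, 6, 3; 5, 6, 10, 12, 8, 4; 6, 9, 12, 18, 12, 6; 4, 6, 8, 12, 10, 5;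
    2, 3, 4, 6, 5, 4] : Matrix (Fin 6) (Fin 6) ℤ)

theorem invThreeE6_mul : invThreeE6 * cartanMat chevE6 tblE6 = Matrix.diagonal (fun _ => ((3 : ℕ) : ℤ)) := by
  decide +kernel

/-- The symmetry plus one, times the inverse of the Cartan matrix. -/
def pairE6 : Matrix (Fin chevE6.rank) (Fin chevE6.rank) ℤ :=
  (!![2, 2, 3, 4, 3, 2; 2, 4, 4, 6, 4, 2; 3, 4, 6, 8, 6, 3; 4, 6, 8, 12, 8, 4; 3, 4, 6, 8, 6, 3;
    2, 2, 3, 4, 3, 2] : Matrix (Fin 6) (Fin 6) ℤ)

/-- The symmetry plus one. -/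
def pairTargetE6 : Matrix (Fin chevE6.rank) (Fin chevE6.rank) ℤ :=
  (!![1, 0, 0, 0, 0, 1; 0, 2, 0, 0, 0, 0; 0, 0, 1, 0, 1, 0; 0, 0, 0, 2, 0, 0; 0, 0, 1, 0, 1, 0;
    1, 0, 0, 0, 0, 1] : Matrix (Fin 6) (Fin 6) ℤ)

theorem pairE6_mul : pairE6 * cartanMat chevE6 tblE6 = pairTargetE6 := by
  decide +kernel

variable {K : Type*} [Field K]

theorem kerE6_cube {z : Fin chevE6.rank → Kˣ} (hz : z ∈ (torusHom chevE6 tblE6 K).ker) (i : Fin chevE6.rank) :
    z i ^ 3 = 1 := by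
  rw [torusHom_ker certE6C, MonoidHom.mem_ker] at hz
  have : powHom (invThreeE6 * cartanMat chevE6 tblE6) z = 1 := by
    rw [powHom_mul, MonoidHom.comp_apply, hz, map_one]
  rw [invThreeE6_mul] at this
  have h := congrFun this i
  rwa [powHom_diagonal (fun _ => 3)] at h

theorem kerE6_pair {z : Fin chevE6.rank → Kˣ} (hz : z ∈ (torusHom chevE6 tblE6 K).ker) (i : Fin chevE6.rank) :
    z ⟨symE6_1.pI.getD i 0, symOKE6_gr.node_lt' i i.2⟩ * z i = 1 := by
  rw [torusHom_ker certE6C, MonoidHom.mem_ker] at hz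
  have : powHom (pairE6 * cartanMat chevE6 tblE6) z = 1 := by
    rw [powHom_mul, MonoidHom.comp_apply, hz, map_one]
  rw [pairE6_mul] at this
  let w : Fin 6 → Kˣ := z
  have h : ∀ j : Fin 6, ∏ a : Fin 6, w a ^ (!![1, 0, 0, 0, 0, 1; 0, 2, 0, 0, 0, 0; 0, 0, 1, 0, 1, 0; 0, 0, 0, 2, 0, 0;
      0, 0, 1, 0, 1, 0; 1, 0, 0, 0, 0, 1] : Matrix (Fin 6) (Fin 6) ℤ) j a = 1 := fun j => congrFun this j
  have h0 := h 0
  have h1 := h 1
  have h2 := h 2
  have h3 := h 3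
  simp [Fin.prod_univ_six] at h0 h1 h2 h3
  rw [sq] at h1 h3
  revert i
  intro (i : Fin 6)
  fin_cases i
  · show w 5 * w 0 = 1; rw [mul_comm]; exact h0
  · exact h1
  · show w 4 * w 2 = 1; rw [mul_comm]; exact h2
  · exact h3
  · exact h2
  · exact h0

theorem twPar_twoE6 {f : K →+* K} (hk : ∀ t, f^[2] t = t) (c : Fin chevE6.rank → Kˣ) :
    twPar symOKE6_gr f (twPar symOKE6_gr f c) = c := by
  funext i
  refine Units.ext ?_
  have hidx : ∀ j < 6, symE6_1.pI.getD (symE6_1.pI.getD j 0) 0 = j := by decide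
  show f (f (c ⟨symE6_1.pI.getD (symE6_1.pI.getD i.val 0) 0, _⟩ : Kˣ)) = _
  conv_rhs => rw [← hk (c i : Kˣ)]
  rw [Function.iterate_succ_apply', Function.iterate_succ_apply', Function.iterate_zero_apply]
  congr 4
  exact Fin.ext (hidx i.val i.2)

theorem hZE6 {f : K →+* K} (hk : ∀ t, f^[2] t = t) (c : Fin chevE6.rank → Kˣ)
    (hc : (twPar symOKE6_gr f c)⁻¹ * c ∈ (torusHom chevE6 tblE6 K).ker) :
    ∃ z ∈ (torusHom chevE6 tblE6 K).ker, twPar symOKE6_gr f (c * z) = c * z := by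
  refine ⟨_, hc, ?_⟩
  have h2 := twPar_twoE6 hk c
  simp only [twPar_mul, twPar_inv, h2]
  funext i
  have h3 := kerE6_cube hc i
  simp only [Pi.mul_apply, Pi.inv_apply] at h3 ⊢
  set a := twPar symOKE6_gr f c i
  calc a * ((c i)⁻¹ * a) = c i * (a⁻¹ * c i) * ((a⁻¹ * c i) ^ 3)⁻¹ := by
        simp [pow_succ, mul_comm, mul_left_comm, mul_assoc]
    _ = c i * (a⁻¹ * c i) := by rw [h3, inv_one, mul_one]

theorem powHom_coe {n : ℕ} {G : Type*} [CommGroup G] (H : Subgroup G) (M : Matrix (Fin n) (Fin n) ℤ)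
    (z : Fin n → ↥H) (i : Fin n) : ((powHom M z i : ↥H) : G) = powHom M (fun j => (z j : G)) i := by
  show H.subtype (∏ j, z j ^ M i j) = ∏ j, (z j : G) ^ M i j
  rw [map_prod]
  simp

variable [Fintype K] {q : ℕ}

/-- Everything about ²E₆(q). -/
theorem twistedE6_facts (hq : IsPrimePow q) (hK : Fintype.card K = q ^ 2) :
    ∃ (f : K →+* K) (h : TwOK certE6C twE6 (twSigma symOKE6_gr f)),
      Cfsg.Lie.twistedE6 K q = h.fixed certE6C ∧
      (∀ J < twE6.norb, Nat.card ↥(twFixPart certE6C (twSigma symOKE6_gr f) (twE6.base J)) = q ^ (twE6.orb J).length) ∧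
      Nat.gcd 3 (q + 1) * Nat.card ↥(chevE6.diagonalSubgroup K ⊓ h.fixed certE6C) = (q - 1) ^ 2 * (q ^ 2 - 1) ^ 2 ∧
      commutator ↥(h.fixed certE6C) = ⊤ ∧ TwWitness certE6C twE6 (twSigma symOKE6_gr f) := by
  have hq2 : 2 ≤ q := hq.two_le
  have hK' : Nat.card K = q ^ 2 := by rw [Nat.card_eq_fintype_card]; exact hK
  obtain ⟨f, hf, hit, hk⟩ := exists_frobQ hq (by norm_num) hK'
  have hZ := fun c => hZE6 hk c
  have h := twSimplyE6.twOK certE6C symOKE6_gr f fullCertE6 twCombE6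
  have hgen := twSimplyE6.fixed_eq_closure certE6C symOKE6_gr f fullCertE6 twCombE6 twLinkedE6 hZ
  have hdiag : Nat.gcd 3 (q + 1) * Nat.card ↥(chevE6.diagonalSubgroup K ⊓ h.fixed certE6C) =
      (q - 1) ^ 2 * (q ^ 2 - 1) ^ 2 := by
    classical
    have e1 := twSimplyE6.card_diag_fixed certE6C symOKE6_gr f fullCertE6 twCombE6 hZ
    have e2 := twSimplyE6.card_par_eq certE6C symOKE6_gr f fullCertE6 twCombE6 twLinkedE6 hq2 hK' hit
    set g := Nat.gcd 3 (q + 1) with hg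
    have hmem : ∀ z : Fin chevE6.rank → Kˣ, z ∈ (torusHom chevE6 tblE6 K).ker ⊓ twFixPar symOKE6_gr f certE6C ↔
        powHom (cartanMat chevE6 tblE6) z = 1 ∧ ∀ i, z i ^ g = 1 := by
      intro z
      rw [Subgroup.mem_inf, mem_twFixPar]
      constructor
      · rintro ⟨hzk, hzf⟩
        refine ⟨by rw [torusHom_ker certE6C, MonoidHom.mem_ker] at hzk; exact hzk, fun i => ?_⟩
        refine pow_gcd_eq_one.2 ⟨kerE6_cube hzk i, ?_⟩
        have hz1 : Units.map f.toMonoidHom (z ⟨symE6_1.pI.getD i 0, symOKE6_gr.node_lt' i i.2⟩) = z i := congrFun hzf i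
        rw [show z ⟨symE6_1.pI.getD i 0, symOKE6_gr.node_lt' i i.2⟩ = (z i)⁻¹ from
          eq_inv_of_mul_eq_one_left (kerE6_pair hzk i)] at hz1
        have e : Units.map f.toMonoidHom ((z i)⁻¹) = ((z i) ^ q)⁻¹ := by
          rw [map_inv]; congr 1; exact Units.ext (by simp [hf])
        rw [e] at hz1
        rw [pow_succ]
        exact mul_eq_one_iff_inv_eq.2 hz1
      · rintro ⟨hzA, hzg⟩
        have hzk : z ∈ (torusHom chevE6 tblE6 K).ker := by rw [torusHom_ker certE6C, MonoidHom.mem_ker]; exact hzA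
        refine ⟨hzk, funext fun i => Units.ext ?_⟩
        show f ((z ⟨symE6_1.pI.getD i 0, symOKE6_gr.node_lt' i i.2⟩ : Kˣ) : K) = _
        rw [show z ⟨symE6_1.pI.getD i 0, symOKE6_gr.node_lt' i i.2⟩ = (z i)⁻¹ from
          eq_inv_of_mul_eq_one_left (kerE6_pair hzk i), hf, ← Units.val_pow_eq_pow_val]
        congr 1
        rw [inv_pow]
        obtain ⟨m, hm⟩ := Nat.gcd_dvd_right 3 (q + 1)
        have hq1 : z i ^ (q + 1) = 1 := by rw [hm, pow_mul, hzg i, one_pow]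
        rw [pow_succ] at hq1
        exact (mul_eq_one_iff_inv_eq.1 hq1)
    let H : Subgroup Kˣ := (powMonoidHom g : Kˣ →* Kˣ).ker
    have hgd : g ∣ Nat.card Kˣ := by
      rw [Nat.card_units, hK', show q ^ 2 - 1 = (q + 1) * (q - 1) by rw [← Nat.sq_sub_sq, one_pow]]
      exact (Nat.gcd_dvd_right 3 (q + 1)).mul_right _
    have hH : Nat.card ↥H = g := by
      rw [IsCyclic.card_powMonoidHom_ker, Nat.gcd_eq_right hgd]
    have hin : ∀ z : ↥(powHom (cartanMat chevE6 tblE6) : (Fin chevE6.rank → ↥H) →* _).ker,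
        (fun i => (z.1 i : Kˣ)) ∈ (torusHom chevE6 tblE6 K).ker ⊓ twFixPar symOKE6_gr f certE6C := fun z =>
      (hmem _).2 ⟨funext fun i => (powHom_coe H _ z.1 i).symm.trans
        (congrArg Subtype.val (congrFun (MonoidHom.mem_ker.1 z.2) i)), fun i => (z.1 i).2⟩
    have ecard : Nat.card ↥((torusHom chevE6 tblE6 K).ker ⊓ twFixPar symOKE6_gr f certE6C) =
        Nat.card ↥(powHom (cartanMat chevE6 tblE6) : (Fin chevE6.rank → ↥H) →* _).ker := by
      refine (Nat.card_eq_of_bijective (fun z : ↥(powHom (cartanMat chevE6 tblE6) : (Fin chevE6.rank → ↥H) →* _).ker =>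
        (⟨_, hin z⟩ : ↥((torusHom chevE6 tblE6 K).ker ⊓ twFixPar symOKE6_gr f certE6C))) ⟨?_, ?_⟩).symm
      · intro a b e
        exact Subtype.ext (funext fun i => Subtype.ext (congrFun (congrArg Subtype.val e) i))
      · rintro ⟨z, hz⟩
        obtain ⟨hz1, hz2⟩ := (hmem z).1 hz
        exact ⟨⟨fun i => ⟨z i, hz2 i⟩, MonoidHom.mem_ker.2 (funext fun i =>
          Subtype.ext ((powHom_coe H _ _ i).trans (congrFun hz1 i)))⟩, rfl⟩
    obtain ⟨P, P', Q, Q', t1, t2, t3, t4⟩ := torusCertE6.exists_snf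
    rw [ecard, card_ker_powHom (G := ↥H) t1 t2 t3 t4, hH] at e1
    have hd : (∏ k : Fin chevE6.rank, g.gcd ((![1, 1, 1, 1, 1, 3] : Fin 6 → ℕ) k)) = g := by
      show (∏ k : Fin 6, g.gcd ((![1, 1, 1, 1, 1, 3] : Fin 6 → ℕ) k)) = g
      simp [Fin.prod_univ_six, hg, Nat.gcd_comm]
    rw [hd] at e1
    rw [e1, e2, show (∏ J : Fin twE6.norb, (q ^ (twE6.orb J).length - 1)) =
      ∏ J : Fin 4, (q ^ (twE6.orb J).length - 1) from rfl, Fin.prod_univ_four,
      show (twE6.orb (0 : Fin 4)).length = 2 from rfl, show (twE6.orb (1 : Fin 4)).length = 2 from rfl,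
      show (twE6.orb (2 : Fin 4)).length = 1 from rfl, show (twE6.orb (3 : Fin 4)).length = 1 from rfl, pow_one]
    ring
  have heq : Cfsg.Lie.twistedE6 K q = h.fixed certE6C := by
    rw [hgen, Cfsg.Lie.twistedE6, ChevalleyDatum.genSubgroup]
    congr 1
    have b0 : twE6.base 0 = [56, 36] := rfl
    have b1 : twE6.base 1 = [42, 37] := rfl
    have b2 : twE6.base 2 = [39] := rfl
    have b3 : twE6.base 3 = [46] := rfl
    have n0 : ([56, 36] : List ℕ).map tblE6.neg = [15, 35] := by decide +kernel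
    have n1 : ([42, 37] : List ℕ).map tblE6.neg = [29, 34] := by decide +kernel
    have n2 : ([39] : List ℕ).map tblE6.neg = [32] := by decide +kernel
    have n3 : ([46] : List ℕ).map tblE6.neg = [25] := by decide +kernel
    have v2 : ∀ (J : ℕ), J = 2 ∨ J = 3 → ∀ t : K, f^[(twE6.orb J).length] t = t ↔ t ^ q = t := by
      rintro J (rfl | rfl) t
      · rw [show (twE6.orb 2).length = 1 from rfl, hit, pow_one]
      · rw [show (twE6.orb 3).length = 1 from rfl, hit, pow_one]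
    have v0 : ∀ (J : ℕ), J = 0 ∨ J = 1 → ∀ t : K, f^[(twE6.orb J).length] t = t := by
      rintro J (rfl | rfl) t <;> exact hk t
    have hcoe : ∀ (r : ℕ) (t : K), ((orbEl certE6C f [r] t : GL chevE6.Idx K) : Matrix chevE6.Idx chevE6.Idx K) =
        chevE6.wordMat K [(r, t)] := fun r t => by simp [orbEl, ChevalleyDatum.wordMat, coe_xg]
    have hcoe2 : ∀ (r s : ℕ) (t : K), ((orbEl certE6C f [r, s] t : GL chevE6.Idx K) :
        Matrix chevE6.Idx chevE6.Idx K) = chevE6.wordMat K [(r, t), (s, t ^ q)] := fun r s t => by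
      simp [orbEl, ChevalleyDatum.wordMat, coe_xg, hf]
    ext g
    constructor
    · rintro ⟨w, hw, hg⟩
      rcases hw with ⟨t, ht, r, hr, rfl⟩ | ⟨t, rs, hr, rfl⟩
      · simp only [List.mem_cons, List.not_mem_nil, or_false] at hr
        rcases hr with rfl | rfl | rfl | rfl
        · exact ⟨3, by decide, t, (v2 3 (by simp) t).2 ht, Or.inl (Units.ext (by rw [hg, b3, hcoe]; rfl))⟩
        · exact ⟨3, by decide, t, (v2 3 (by simp) t).2 ht, Or.inr (Units.ext (by rw [hg, b3, n3, hcoe]; rfl))⟩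
        · exact ⟨2, by decide, t, (v2 2 (by simp) t).2 ht, Or.inl (Units.ext (by rw [hg, b2, hcoe]; rfl))⟩
        · exact ⟨2, by decide, t, (v2 2 (by simp) t).2 ht, Or.inr (Units.ext (by rw [hg, b2, n2, hcoe]; rfl))⟩
      · simp only [List.mem_cons, List.not_mem_nil, or_false] at hr
        rcases hr with rfl | rfl | rfl | rfl
        · exact ⟨0, by decide, t, v0 0 (by simp) t, Or.inl (Units.ext (by rw [hg, b0, hcoe2]; rfl))⟩
        · exact ⟨0, by decide, t, v0 0 (by simp) t, Or.inr (Units.ext (by rw [hg, b0, n0, hcoe2]; rfl))⟩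
        · exact ⟨1, by decide, t, v0 1 (by simp) t, Or.inl (Units.ext (by rw [hg, b1, hcoe2]; rfl))⟩
        · exact ⟨1, by decide, t, v0 1 (by simp) t, Or.inr (Units.ext (by rw [hg, b1, n1, hcoe2]; rfl))⟩
    · rintro ⟨J, hJ, t, ht, hg⟩
      have : J = 0 ∨ J = 1 ∨ J = 2 ∨ J = 3 := by
        have : J < 4 := hJ
        omega
      rcases this with rfl | rfl | rfl | rfl <;> rcases hg with rfl | rfl
      · exact ⟨_, Or.inr ⟨t, (e6p1, e6p6), by simp, rfl⟩, by rw [b0, hcoe2]; rfl⟩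
      · exact ⟨_, Or.inr ⟨t, (e6m1, e6m6), by simp, rfl⟩, by rw [b0, n0, hcoe2]; rfl⟩
      · exact ⟨_, Or.inr ⟨t, (e6p3, e6p5), by simp, rfl⟩, by rw [b1, hcoe2]; rfl⟩
      · exact ⟨_, Or.inr ⟨t, (e6m3, e6m5), by simp, rfl⟩, by rw [b1, n1, hcoe2]; rfl⟩
      · exact ⟨_, Or.inl ⟨t, (v2 2 (by simp) t).1 ht, e6p4, by simp, rfl⟩, by rw [b2, hcoe]; rfl⟩
      · exact ⟨_, Or.inl ⟨t, (v2 2 (by simp) t).1 ht, e6m4, by simp, rfl⟩, by rw [b2, n2, hcoe]; rfl⟩
      · exact ⟨_, Or.inl ⟨t, (v2 3 (by simp) t).1 ht, e6p2, by simp, rfl⟩, by rw [b3, hcoe]; rfl⟩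
      · exact ⟨_, Or.inl ⟨t, (v2 3 (by simp) t).1 ht, e6m2, by simp, rfl⟩, by rw [b3, n3, hcoe]; rfl⟩
  refine ⟨f, h, heq, fun J hJ => twSimplyE6.card_weight certE6C symOKE6_gr f fullCertE6 twCombE6 hq2 hK' hit hJ,
    hdiag, ?_, twSimplyE6.witness certE6C symOKE6_gr f fullCertE6 twCombE6⟩
  refine twSimplyE6.perfect certE6C symOKE6_gr f fullCertE6 twCombE6 twLinkedE6 hZ hk ?_ chkTwTriplesE6
  rw [hK']
  calc 4 ≤ 2 ^ 2 := by norm_num
    _ ≤ q ^ 2 := Nat.pow_le_pow_left hq2 2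

theorem twE6_lens : chkCounts (twE6.elts.map TwElt.len)
    (polyMul (polyMul (polyMul (polyMul [0, 2, 4, 6, 8, 10] [0, 1, 2, 3, 4, 5, 6, 7]) [0, 1, 2, 3, 4, 5]) [0, 9]) [0, 5])
    37 = true := by
  decide +kernel

theorem twE6_wt : ∀ J < twE6.norb, 1 * (twE6.orb J).length = (twE6.base J).length := fun J hJ => by
  rw [one_mul, twSimplyE6.base_eq J hJ, List.length_map]

theorem twistedE6_order (hq : IsPrimePow q) (hK : Fintype.card K = q ^ 2) :
    Nat.gcd 3 (q + 1) * Nat.card ↥(Cfsg.Lie.twistedE6 K q) =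
      q ^ 36 * (q ^ 2 - 1) * (q ^ 5 + 1) * (q ^ 6 - 1) * (q ^ 8 - 1) * (q ^ 9 + 1) * (q ^ 12 - 1) := by
  obtain ⟨f, h, e, hw, hd, -, -⟩ := twistedE6_facts hq hK
  rw [e, h.card_fixed certE6C fullCertE6 twCombE6 hw one_pos twE6_wt, ← mul_assoc, ← mul_assoc, hd]
  simp only [Nat.div_one]
  rw [show twE6.elts.map (fun E => q ^ E.len) = (twE6.elts.map TwElt.len).map (q ^ ·) by rw [List.map_map]; rfl,
    ((perm_of_chkCounts twE6_lens).map _).sum_eq, sum_polyMul, sum_polyMul, sum_polyMul, sum_polyMul,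
    show chevE6.nroots / 2 = 36 from rfl]
  have h1 : 1 ≤ q := hq.two_le.trans' one_le_two
  have h2 : 1 ≤ q ^ 2 := Nat.one_le_pow _ _ h1
  have h6 : 1 ≤ q ^ 6 := Nat.one_le_pow _ _ h1
  have h8 : 1 ≤ q ^ 8 := Nat.one_le_pow _ _ h1
  have h12 : 1 ≤ q ^ 12 := Nat.one_le_pow _ _ h1
  simp only [List.map_cons, List.map_nil, List.sum_cons, List.sum_nil, pow_zero, pow_one, add_zero]
  zify [h1, h2, h6, h8, h12]
  ring

end Cfsg.Lib.Chev
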