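import Cfsg.Agent.Lib.Chev.InvG2Data
import Cfsg.Agent.Lib.Chev.Perfect
import Cfsg.Agent.Lib.Chev.SLTwo
import Cfsg.Agent.Lib.Linear.SLBasic

/-!
The single class of involutions of `G₂(q)`, `q` odd, and the structure of its centraliser.
-/

set_option autoImplicit false
set_option linter.unusedSectionVars false

namespace Cfsg.Lib.Chev

open Cfsg.Lie
open scoped Matrix MatrixGroups

section Two

variable {D : ChevalleyDatum} {T : Tbl} {F : Type*} [Field F] (C : Cert D T) (K : FullCert D T)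
include C K

/-- The map from `SL(2)` attached to a positive root is injective when the torus parametrisation is. -/
theorem rootRel_injective (hinj : Function.Injective (torusHom D T F)) {r : ℕ} (hr : r < D.nroots)
    (hp : D.nroots ≤ 2 * r) (hcor : ∃ k : Fin D.rank, T.coroot r k = 1) :
    Function.Injective (rootRel C (F := F) hr).hom := by
  classical
  rw [injective_iff_map_eq_one]
  intro g hg1
  have hev := nroots_even C
  have hneg : 2 * T.neg r < D.nroots := by rw [C.neg_eq hr]; omega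
  have hval : (rootRel C (F := F) hr).toFun' g = 1 := hg1
  unfold SLTwoRel.toFun' at hval
  split_ifs at hval with h10
  · have hdet := g.2
    rw [Matrix.det_fin_two, h10, mul_zero, sub_zero] at hdet
    have ha : g.1 0 0 ≠ 0 := left_ne_zero_of_mul (by rw [hdet]; exact one_ne_zero)
    change xg C r (g.1 0 0 * g.1 0 1) * hg C r (g.1 0 0) = 1 at hval
    obtain ⟨hx, hh⟩ := borel_parts C (u := xg C r (g.1 0 0 * g.1 0 1)) (u' := 1) (h' := 1) (xg_mem_pos C hr hp _)
      (one_mem _) (hg_mem C hr ha) (one_mem _) (by rw [hval, mul_one])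
    rw [hg_eq_torus C hr ha, ← map_one (torusHom D T F)] at hh
    obtain ⟨k, hk⟩ := hcor
    have h1 := congrArg Units.val (congrFun (hinj hh) k)
    simp only [Units.val_mk0, hk, zpow_one, Pi.one_apply, Units.val_one] at h1
    have h01 := xg_eq_one C hr hx
    rw [h1, one_mul] at h01
    rw [h1, one_mul] at hdet
    exact Subtype.ext (by ext i j; fin_cases i <;> fin_cases j <;> simp [h1, h01, h10, hdet])
  · exfalso
    change xg C r (g.1 0 0 / g.1 1 0) * ng C r (-(g.1 1 0)⁻¹) * xg C r (g.1 1 1 / g.1 1 0) = 1 at hval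
    have hv : (-(g.1 1 0)⁻¹ : F) ≠ 0 := neg_ne_zero.2 (inv_ne_zero h10)
    have hB : ∀ a, xg C r a ∈ D.borelSubgroup F := fun a => xg_mem_borel C hr hp a
    have hn : ng C r (-(g.1 1 0)⁻¹) ∈ D.borelSubgroup F := by
      have := mul_mem (mul_mem (inv_mem (hB (g.1 0 0 / g.1 1 0))) (one_mem (D.borelSubgroup F)))
        (inv_mem (hB (g.1 1 1 / g.1 1 0)))
      rw [← hval] at this
      simpa [mul_assoc] using this
    have h3 := mul_mem (mul_mem hn (hB 1)) (inv_mem hn)
    rw [ng_conj_xg C hr hv] at h3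
    have := xg_neg_not_borel C (C.spec.neg_lt r hr) hneg h3
    simp at this
    exact h10 this

end Two

section G2

variable {F : Type*} [Field F] [Fintype F]

private theorem cG2 : Cert chevG2 tblG2 := fullCertG2.comm.cert

theorem g2_torus_injective {F : Type*} [Field F] : Function.Injective (torusHom chevG2 tblG2 F) :=
  torusHom_injective_scalar cG2 inv_G2 fun x hx => by simpa using hx

/-- The representative. -/
noncomputable def g2Inv (F : Type*) [Field F] : GL chevG2.Idx F := torusHom chevG2 tblG2 F (sgnVec chevG2 F 1)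

theorem g2Inv_mem : g2Inv F ∈ chevG2.group F :=
  diag_le_group cG2 (by rw [← torusHom_range cG2]; exact ⟨_, rfl⟩)

theorem g2_involution_conj (hF : Odd (Fintype.card F)) {g : GL chevG2.Idx F} (hg : g ∈ chevG2.group F)
    (hg2 : g * g = 1) (hg1 : g ≠ 1) : ∃ y ∈ chevG2.group F, y * g * y⁻¹ = g2Inv F := by
  have hrep : ∀ e < 2 ^ chevG2.rank, e ≠ 0 → (invTorTblG2.getD e (0, [])).1 = 1 := by decide +kernel
  obtain ⟨e, he, he0, y, hy, hye⟩ := involution_conj_sgn cG2 fullCertG2 hF inv_G2 invTorTblG2_ok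
    (fun e he he0 => ⟨_, _, by rw [hrep e he he0]; exact centConnG2_1⟩) hg hg2 hg1
  exact ⟨y, hy, by rw [hye, hrep e he he0]; rfl⟩

/-- All involutions are conjugate. -/
theorem g2_isConj (hF : Odd (Fintype.card F)) (s t : ↥(chevG2.group F)) (hs : orderOf s = 2) (ht : orderOf t = 2) :
    IsConj s t := by
  have key : ∀ s : ↥(chevG2.group F), orderOf s = 2 → IsConj s ⟨g2Inv F, g2Inv_mem⟩ := by
    intro s hs
    obtain ⟨h2, h1⟩ := orderOf_eq_prime_iff.1 hs
    rw [pow_two] at h2
    obtain ⟨y, hy, hye⟩ := g2_involution_conj hF s.2 (congrArg Subtype.val h2) fun h => h1 (Subtype.ext h)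
    exact isConj_iff.2 ⟨⟨y, hy⟩, Subtype.ext hye⟩
  exact (key s hs).trans (key t ht).symm

theorem g2Inv_card (hF : Odd (Fintype.card F)) :
    Nat.card ↥(chevG2.group F ⊓ Subgroup.centralizer {g2Inv F}) =
      Fintype.card F ^ 2 * (Fintype.card F ^ 2 - 1) ^ 2 := by
  have h2 := two_ne_zero_of_odd_card hF
  rw [g2Inv, card_cent_sgn cG2 fullCertG2 h2 chkWeylG2 1]
  have hperm : (centExps chevG2 tblG2 (allW (nth ([], []) weylG2) chevG2.rank) 1).Perm [0, 1, 1, 2] := by
    decide +kernel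
  rw [(hperm.map _).sum_eq, show (fixPos chevG2 tblG2 1).length = 2 by decide +kernel]
  have hH : Nat.card ↥(chevG2.diagonalSubgroup F) = (Fintype.card F - 1) ^ 2 := by
    rw [← torusHom_range cG2, ← Nat.card_congr (MonoidHom.ofInjective g2_torus_injective).toEquiv, Nat.card_pi]
    simp [Nat.card_units, Nat.card_eq_fintype_card, Fintype.card_units, show chevG2.rank = 2 from rfl]
  rw [hH, Nat.card_eq_fintype_card]
  simp only [List.map_cons, List.map_nil, List.sum_cons, List.sum_nil, pow_zero, pow_one, add_zero]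
  set q := Fintype.card F
  have hq : 1 ≤ q := Fintype.card_pos
  have hq2 : 1 ≤ q ^ 2 := Nat.one_le_pow _ _ hq
  zify [hq, hq2]
  ring

/-- The two commuting copies of `SL(2, q)`. -/
noncomputable def g2Hom (F : Type*) [Field F] {r : ℕ} (hr : r < chevG2.nroots) : SL(2, F) →* GL chevG2.Idx F :=
  (rootRel cG2 hr).hom

theorem g2_roots_lt : 7 < chevG2.nroots ∧ 11 < chevG2.nroots := by decide

theorem g2Hom_injective {r : ℕ} (hr : r < chevG2.nroots) (hc : r = 7 ∨ r = 11) :
    Function.Injective (g2Hom F hr) := by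
  refine rootRel_injective cG2 fullCertG2 g2_torus_injective hr ?_ ?_
  · have : chevG2.nroots = 12 := rfl
    omega
  · rcases hc with rfl | rfl <;> exact ⟨⟨0, by decide⟩, by decide +kernel⟩

theorem g2Hom_mem_cent {r : ℕ} (hr : r < chevG2.nroots) (hc : r = 7 ∨ r = 11) (hF : Odd (Fintype.card F))
    (g : SL(2, F)) : g2Hom F hr g ∈ chevG2.group F ⊓ Subgroup.centralizer {g2Inv F} := by
  have h2 := two_ne_zero_of_odd_card hF
  suffices h : (g2Hom F hr).range ≤ chevG2.group F ⊓ Subgroup.centralizer {g2Inv F} from h ⟨g, rfl⟩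
  have hpar : parity tblG2 1 r = true ∧ parity tblG2 1 (tblG2.neg r) = true := by
    rcases hc with rfl | rfl <;> decide +kernel
  rw [g2Hom, SLTwoRel.hom_range, Subgroup.closure_le]
  have key : ∀ s < chevG2.nroots, parity tblG2 1 s = true → ∀ a,
      xg cG2 s a ∈ chevG2.group F ⊓ Subgroup.centralizer {g2Inv F} := by
    intro s hs hp a
    refine ⟨xg_mem_group cG2 _ _, Subgroup.mem_centralizer_iff.2 fun x hx => ?_⟩
    rw [Set.mem_singleton_iff.1 hx, g2Inv, ← mul_inv_eq_iff_eq_mul, torusHom_conj_xg cG2 _ hs,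
      (chr_sgnVec_eq_one cG2 h2 1 s).2 hp, one_mul]
  rintro _ (⟨a, rfl⟩ | ⟨a, rfl⟩)
  · exact key r hr hpar.1 a
  · exact key _ (cG2.spec.neg_lt r hr) hpar.2 a

theorem g2Hom_commute (x y : SL(2, F)) :
    g2Hom F g2_roots_lt.1 x * g2Hom F g2_roots_lt.2 y = g2Hom F g2_roots_lt.2 y * g2Hom F g2_roots_lt.1 x := by
  suffices h : (g2Hom F g2_roots_lt.2).range ≤ Subgroup.centralizer ((g2Hom F g2_roots_lt.1).range : Set (GL chevG2.Idx F))
    from (Subgroup.mem_centralizer_iff.1 (h ⟨y, rfl⟩) _ ⟨x, rfl⟩)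
  rw [g2Hom, g2Hom, SLTwoRel.hom_range, SLTwoRel.hom_range, Subgroup.centralizer_closure, Subgroup.closure_le]
  have key : ∀ r s : ℕ, r < chevG2.nroots → s < chevG2.nroots → s ≠ r → s ≠ tblG2.neg r → tTerms tblG2 r s = [] →
      ∀ t u : F, xg cG2 r t * xg cG2 s u = xg cG2 s u * xg cG2 r t := by
    intro r s hr hs h1 h2 h3 t u
    have h := comm_xg_prod cG2 fullCertG2.comm hr hs h1 h2 t u
    rw [h3, List.map_nil, List.prod_nil, commutatorElement_eq_one_iff_commute] at h
    exact h.inv_inv.symm.eq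
  have hd : ∀ r ∈ [7, tblG2.neg 7], ∀ s ∈ [11, tblG2.neg 11],
      r < chevG2.nroots ∧ s < chevG2.nroots ∧ s ≠ r ∧ s ≠ tblG2.neg r ∧ tTerms tblG2 r s = [] := by decide +kernel
  rintro z hz
  refine Subgroup.mem_centralizer_iff.2 fun w hw => ?_
  obtain ⟨r, hr, t, rfl⟩ : ∃ r ∈ [7, tblG2.neg 7], ∃ t : F, xg cG2 r t = w := by
    rcases hw with ⟨t, rfl⟩ | ⟨t, rfl⟩
    exacts [⟨7, by simp, t, rfl⟩, ⟨tblG2.neg 7, by simp, t, rfl⟩]
  obtain ⟨s, hs, u, rfl⟩ : ∃ s ∈ [11, tblG2.neg 11], ∃ u : F, xg cG2 s u = z := by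
    rcases hz with ⟨u, rfl⟩ | ⟨u, rfl⟩
    exacts [⟨11, by simp, u, rfl⟩, ⟨tblG2.neg 11, by simp, u, rfl⟩]
  obtain ⟨a, b, c, d, e⟩ := hd r hr s hs
  exact key r s a b c d e t u

theorem g2Hom_neg_one {r : ℕ} (hr : r < chevG2.nroots) (hc : r = 7 ∨ r = 11) :
    g2Hom F hr (-1 : SL(2, F)) = g2Inv F := by
  classical
  have hone : (-1 : F) ≠ 0 := neg_ne_zero.2 one_ne_zero
  show (rootRel cG2 hr).toFun' (-1) = _
  unfold SLTwoRel.toFun'
  rw [if_pos (by simp)]
  show xg cG2 r _ * hg cG2 r _ = _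
  simp only [Matrix.SpecialLinearGroup.coe_neg, Matrix.SpecialLinearGroup.coe_one, Matrix.neg_apply,
    Matrix.one_apply_eq, Matrix.one_apply_ne (show (0 : Fin 2) ≠ 1 by decide), neg_zero, mul_zero]
  rw [xg_zero, one_mul, hg_eq_torus cG2 hr hone, g2Inv]
  refine congrArg _ (funext fun k => Units.ext ?_)
  have key : ∀ r ∈ [7, 11], ∀ k : Fin chevG2.rank,
      ((tblG2.coroot r k % 2 = 0) = (Nat.testBit 1 k = false)) := by decide +kernel
  have hk := key r (by rcases hc with rfl | rfl <;> simp) k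
  show (-1 : F) ^ tblG2.coroot r k = _
  unfold sgnVec
  rcases Int.even_or_odd (tblG2.coroot r k) with h | h
  · rw [h.neg_one_zpow, if_neg (by simp [hk ▸ Int.even_iff.1 h])]; simp
  · rw [h.neg_one_zpow, if_pos]
    · simp
    · by_contra hb
      have := hk ▸ Bool.eq_false_iff.2 hb
      rw [Int.odd_iff.1 h] at this
      simp at this

omit [Fintype F] in
theorem sl_two_central {z : SL(2, F)} (h : ∀ x, x * z = z * x) : z = 1 ∨ z = -1 := by
  have h1 : ((SLTwoRel.upr (1 : F) : SL(2, F)) : Matrix (Fin 2) (Fin 2) F) * z.1 = z.1 * (SLTwoRel.upr (1 : F)).1 :=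
    congrArg Subtype.val (h (SLTwoRel.upr 1))
  have h2 : ((SLTwoRel.lwr (1 : F) : SL(2, F)) : Matrix (Fin 2) (Fin 2) F) * z.1 = z.1 * (SLTwoRel.lwr (1 : F)).1 :=
    congrArg Subtype.val (h (SLTwoRel.lwr 1))
  simp only [SLTwoRel.upr, SLTwoRel.lwr] at h1 h2
  have a := congrFun (congrFun h1 0) 0
  have b := congrFun (congrFun h1 0) 1
  have c := congrFun (congrFun h2 0) 0
  simp [Matrix.mul_apply, Fin.sum_univ_two] at a b c
  have hdet := z.2
  rw [Matrix.det_fin_two, c, a, mul_zero, sub_zero] at hdet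
  have hd : z.1 1 1 = z.1 0 0 := by linear_combination b
  rw [hd] at hdet
  rcases mul_self_eq_one_iff.1 hdet with e | e
  · left; exact Subtype.ext (by ext i j; fin_cases i <;> fin_cases j <;> simp [a, c, hd, e])
  · right; exact Subtype.ext (by ext i j; fin_cases i <;> fin_cases j <;> simp [a, c, hd, e])

theorem g2_centralizer (hF : Odd (Fintype.card F)) (t : ↥(chevG2.group F)) (ht : orderOf t = 2) :
    Nat.card (Subgroup.centralizer ({t} : Set ↥(chevG2.group F))) =
      Fintype.card F ^ 2 * (Fintype.card F ^ 2 - 1) ^ 2 ∧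
    ∃ L₁ L₂ : Subgroup ↥(chevG2.group F), Nonempty (L₁ ≃* SL(2, F)) ∧ Nonempty (L₂ ≃* SL(2, F)) ∧
      (∀ x ∈ L₁, ∀ y ∈ L₂, x * y = y * x) ∧ L₁ ⊓ L₂ = Subgroup.zpowers t ∧
      L₁ ⊔ L₂ ≤ Subgroup.centralizer ({t} : Set ↥(chevG2.group F)) ∧
      (L₁ ⊔ L₂).relIndex (Subgroup.centralizer ({t} : Set ↥(chevG2.group F))) = 2 := by
  classical
  obtain ⟨ht2, ht1⟩ := orderOf_eq_prime_iff.1 ht
  rw [pow_two] at ht2
  obtain ⟨y, hy, hye⟩ := g2_involution_conj hF t.2 (congrArg Subtype.val ht2) fun h => ht1 (Subtype.ext h)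
  set c : (chevG2.group F) := ⟨y, hy⟩
  set z : (chevG2.group F) := ⟨g2Inv F, g2Inv_mem⟩
  have hcz : c⁻¹ * z * c = t := by
    have : c * t * c⁻¹ = z := Subtype.ext hye
    rw [← this]; group
  -- the homomorphisms into the group
  let ψ : ∀ {r : ℕ} (hr : r < chevG2.nroots), r = 7 ∨ r = 11 → (SL(2, F) →* (chevG2.group F)) := fun hr hc =>
    (MulAut.conj c⁻¹).toMonoidHom.comp
      ((g2Hom F hr).codRestrict (chevG2.group F) fun g => (g2Hom_mem_cent hr hc hF g).1)
  set φ := ψ g2_roots_lt.1 (Or.inl rfl) with hφ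
  set χ := ψ g2_roots_lt.2 (Or.inr rfl) with hχ
  have hφi : Function.Injective φ := fun a b h => by
    simp only [hφ, ψ, MonoidHom.comp_apply, MulEquiv.coe_toMonoidHom] at h
    exact g2Hom_injective g2_roots_lt.1 (Or.inl rfl) (congrArg Subtype.val ((MulEquiv.injective _) h))
  have hχi : Function.Injective χ := fun a b h => by
    simp only [hχ, ψ, MonoidHom.comp_apply, MulEquiv.coe_toMonoidHom] at h
    exact g2Hom_injective g2_roots_lt.2 (Or.inr rfl) (congrArg Subtype.val ((MulEquiv.injective _) h))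
  have hcomm : ∀ a b, φ a * χ b = χ b * φ a := fun a b => by
    simp only [hφ, hχ, ψ, MonoidHom.comp_apply, ← map_mul]
    exact congrArg _ (Subtype.ext (g2Hom_commute a b))
  have hm1 : φ (-1) = t ∧ χ (-1) = t := by
    constructor <;>
    · simp only [hφ, hχ, ψ, MonoidHom.comp_apply, MulEquiv.coe_toMonoidHom, MulAut.conj_apply, inv_inv]
      rw [← hcz]
      congr 2
      refine Subtype.ext ?_
      first
        | exact g2Hom_neg_one g2_roots_lt.1 (Or.inl rfl)
        | exact g2Hom_neg_one g2_roots_lt.2 (Or.inr rfl)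
  have hcent : ∀ a, φ a ∈ Subgroup.centralizer {t} ∧ χ a ∈ Subgroup.centralizer {t} := fun a => by
    constructor <;>
    · rw [Subgroup.mem_centralizer_iff]
      rintro _ rfl
      first
        | (conv_lhs => rw [← hm1.1]); rw [← map_mul, neg_one_mul, show -a = a * -1 by simp, map_mul, hm1.1]
        | (conv_lhs => rw [← hm1.2]); rw [← map_mul, neg_one_mul, show -a = a * -1 by simp, map_mul, hm1.2]
  -- the order of the centraliser
  have hcard : Nat.card (Subgroup.centralizer ({t} : Set (chevG2.group F))) = Fintype.card F ^ 2 * (Fintype.card F ^ 2 - 1) ^ 2 := by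
    rw [← g2Inv_card hF]
    have e1 : Nat.card (Subgroup.centralizer ({t} : Set (chevG2.group F))) = Nat.card (Subgroup.centralizer ({z} : Set (chevG2.group F))) := by
      refine Nat.card_congr ((MulAut.conj c).toEquiv.subtypeEquiv fun g => ?_)
      simp only [Subgroup.mem_centralizer_iff, Set.mem_singleton_iff, forall_eq, MulEquiv.toEquiv_eq_coe,
        EquivLike.coe_coe, MulAut.conj_apply]
      rw [show z = c * t * c⁻¹ from (Subtype.ext hye).symm,
        show c * t * c⁻¹ * (c * g * c⁻¹) = c * (t * g) * c⁻¹ by group,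
        show c * g * c⁻¹ * (c * t * c⁻¹) = c * (g * t) * c⁻¹ by group]
      exact ⟨fun h => by rw [h], fun h => by simpa using h⟩
    rw [e1]
    have e2 : (Subgroup.centralizer ({z} : Set (chevG2.group F))).map (chevG2.group F).subtype = (chevG2.group F) ⊓ Subgroup.centralizer {g2Inv F} := by
      ext g
      simp only [Subgroup.mem_map, Subgroup.mem_centralizer_iff, Set.mem_singleton_iff, forall_eq, Subgroup.mem_inf]
      constructor
      · rintro ⟨x, hx, rfl⟩
        exact ⟨x.2, congrArg Subtype.val hx⟩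
      · rintro ⟨hg, hx⟩
        exact ⟨⟨g, hg⟩, Subtype.ext hx, rfl⟩
    rw [← e2]
    exact Nat.card_congr (Subgroup.equivMapOfInjective _ _ Subtype.val_injective).toEquiv
  have hinf : φ.range ⊓ χ.range = Subgroup.zpowers t := by
    refine le_antisymm ?_ ((Subgroup.zpowers_le).2 ⟨⟨-1, hm1.1⟩, ⟨-1, hm1.2⟩⟩)
    rintro g ⟨⟨a, rfl⟩, ⟨b, hb⟩⟩
    have hc : ∀ x, x * a = a * x := fun x => hφi (by rw [map_mul, map_mul, ← hb, hcomm])
    rcases sl_two_central hc with rfl | rfl
    · rw [map_one]; exact one_mem _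
    · rw [hm1.1]; exact Subgroup.mem_zpowers t
  refine ⟨hcard, φ.range, χ.range, ⟨(MonoidHom.ofInjective hφi).symm⟩, ⟨(MonoidHom.ofInjective hχi).symm⟩,
    ?_, hinf, sup_le ?_ ?_, ?_⟩
  · rintro _ ⟨a, rfl⟩ _ ⟨b, rfl⟩
    exact hcomm a b
  · rintro _ ⟨a, rfl⟩; exact (hcent a).1
  · rintro _ ⟨a, rfl⟩; exact (hcent a).2
  -- the product of the two subgroups
  let π : SL(2, F) × SL(2, F) →* (chevG2.group F) := φ.noncommCoprod χ fun a b => hcomm a b
  have hπ : π.range = φ.range ⊔ χ.range := MonoidHom.noncommCoprod_range φ χ _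
  have hker : Nat.card π.ker = 2 := by
    have hne : ((-1 : SL(2, F)), (-1 : SL(2, F))) ≠ 1 := fun h => by
      have h1 : φ (-1) = 1 := by rw [show (-1 : SL(2, F)) = 1 from congrArg Prod.fst h, map_one]
      exact ht1 (hm1.1 ▸ h1)
    rw [Nat.card_eq_two_iff]
    refine ⟨1, ⟨((-1 : SL(2, F)), (-1 : SL(2, F))), ?_⟩, fun h => hne (congrArg Subtype.val h).symm, ?_⟩
    · show φ _ * χ _ = 1
      rw [hm1.1, hm1.2, ht2]
    · refine Set.eq_univ_iff_forall.2 fun ⟨⟨a, b⟩, hab⟩ => ?_
      change φ a * χ b = 1 at hab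
      have hab' : χ b⁻¹ = φ a := by rw [map_inv]; exact (eq_inv_of_mul_eq_one_left hab).symm
      have hc : ∀ x, x * a = a * x := fun x => hφi (by rw [map_mul, map_mul, ← hab', hcomm])
      rcases sl_two_central hc with rfl | rfl
      · left
        refine Subtype.ext (Prod.ext rfl (hχi ?_))
        simpa using hab
      · right
        refine Subtype.ext (Prod.ext rfl (hχi ?_))
        show χ b = χ (-1)
        rw [hm1.1] at hab
        rw [hm1.2, ← eq_inv_of_mul_eq_one_right hab |>.symm, inv_eq_of_mul_eq_one_right ht2]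
  have hq := Fintype.card_pos (α := F)
  have hsl : Nat.card SL(2, F) = Fintype.card F * (Fintype.card F ^ 2 - 1) := by
    have h := Cfsg.Lib.Linear.card_SL_mul (F := F) 2 (by norm_num)
    have hq2 : 2 ≤ Fintype.card F := Fintype.one_lt_card
    apply Nat.eq_of_mul_eq_mul_left (show 0 < Fintype.card F - 1 by omega)
    rw [h, Fin.prod_univ_two]
    have h1 : Fintype.card F ≤ Fintype.card F ^ 2 := Nat.le_self_pow two_ne_zero _
    simp only [Fin.val_zero, Fin.val_one, pow_zero, pow_one]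
    zify [h1, (show 1 ≤ Fintype.card F ^ 2 by omega), (show 1 ≤ Fintype.card F by omega)]
    ring
  have hprod : 2 * Nat.card ↥(φ.range ⊔ χ.range) = (Fintype.card F * (Fintype.card F ^ 2 - 1)) ^ 2 := by
    have h := Subgroup.card_mul_index π.ker
    rw [Subgroup.index_ker, hker, Nat.card_prod, hsl, hπ] at h
    rw [h]; ring
  have hrel := Subgroup.relIndex_mul_index (sup_le (show φ.range ≤ Subgroup.centralizer {t} by
      rintro _ ⟨a, rfl⟩; exact (hcent a).1) (show χ.range ≤ Subgroup.centralizer {t} by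
      rintro _ ⟨a, rfl⟩; exact (hcent a).2))
  have hA := Subgroup.card_mul_index (φ.range ⊔ χ.range)
  have hB := Subgroup.card_mul_index (Subgroup.centralizer ({t} : Set (chevG2.group F)))
  rw [hcard] at hB
  rw [← hA, ← hrel] at hB
  have hi : 0 < (Subgroup.centralizer ({t} : Set (chevG2.group F))).index := Nat.pos_of_ne_zero Subgroup.index_ne_zero_of_finite
  have hpos : 0 < Nat.card ↥(φ.range ⊔ χ.range) := Nat.card_pos
  have key : Fintype.card F ^ 2 * (Fintype.card F ^ 2 - 1) ^ 2 =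
      Nat.card ↥(φ.range ⊔ χ.range) * (φ.range ⊔ χ.range).relIndex (Subgroup.centralizer {t}) := by
    apply Nat.eq_of_mul_eq_mul_right hi
    rw [hB]; ring
  rw [← mul_pow, ← hprod, mul_comm 2] at key
  exact (Nat.eq_of_mul_eq_mul_left hpos key).symm

end G2

end Cfsg.Lib.Chev
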