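import Cfsg.Agent.Lib.Chev.G2Invol

/-! The two classes are distinct; the centraliser of a short root involution of G2 in characteristic two. -/

set_option autoImplicit false
set_option maxRecDepth 100000
set_option linter.unusedSectionVars false

namespace Cfsg.Lib.Chev

open Cfsg.Lie

variable {K : Type*} [Field K] [CharP K 2]

/-- The permutations of the positive roots by the Weyl group of G2. -/
def gtPerms : List (List ℕ) :=
  [[6, 7, 8, 9, 10, 11], [10, 4, 9, 8, 6, 11], [5, 8, 7, 9, 11, 10], [11, 3, 9, 7, 5, 10], [1, 9, 4, 8, 11, 6],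
   [11, 2, 8, 4, 1, 6], [0, 9, 3, 7, 10, 5], [10, 2, 7, 3, 0, 5], [0, 8, 2, 4, 6, 1], [6, 3, 4, 2, 0, 1],
   [1, 7, 2, 3, 5, 0], [5, 4, 3, 2, 1, 0]]

theorem gtPerms_closed : ∀ w : List ℕ, IsWord chevG2 w → [6, 7, 8, 9, 10, 11].map (wperm tblG2 w) ∈ gtPerms := by
  intro w
  induction w with
  | nil => intro _; decide
  | cons i w ih =>
    intro hw
    have h : ∀ i < 2, ∀ l ∈ gtPerms, l.map (tblG2.refl' i) ∈ gtPerms := by decide +kernel
    have hmap : [6, 7, 8, 9, 10, 11].map (wperm tblG2 (i :: w)) =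
        ([6, 7, 8, 9, 10, 11].map (wperm tblG2 w)).map (tblG2.refl' i) := by
      rw [List.map_map]; rfl
    rw [hmap]
    exact h i hw.tail.1 _ (ih hw.tail.2)

theorem gt_one_of_eq {b a c d e g : K} (h : gtE b a c d e g = 1) :
    [b, a, c, d, e, g] = [0, 0, 0, 0, 0, 0] := by
  have := gtNf_unique (gtEW_lt b a c d e g) (v := ([] : List (ℕ × K))) (by simp) (by simpa [gtVal, gtE] using h)
  simpa [gtEW, gtNf, gtIns, gtS] using this

theorem gt_xg_single (p : ℕ) (t : K) : gtVal [(p, t)] = xg certG2 (6 + p) t := by simp [gtVal]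

theorem gt_neg_inf_pos {g : GL chevG2.Idx K} (h1 : g ∈ chevG2.posUnipotent K) (h2 : g ∈ chevG2.negUnipotent K) :
    g = 1 :=
  (Subgroup.eq_bot_iff_forall _).1 (borel_inf_neg certG2) _ ⟨Subgroup.mem_sup_left h1, h2⟩

theorem gt_top_comm {v : GL chevG2.Idx K} (hv : v ∈ chevG2.posUnipotent K) :
    xg certG2 11 (1 : K) * v = v * xg certG2 11 1 := by
  obtain ⟨b, a, c, d, e, g, rfl⟩ := gt_pos_form hv
  rw [← gt_xg_single 5, gtE, ← gtVal_append, ← gtVal_append]
  refine gt_eq (fun x hx => ?_) (fun x hx => ?_) (by simp [gtEW, gtNf, gtIns, gtS, add_comm])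
  · exact (List.mem_append.1 hx).elim (fun h => by simp at h; subst h; simp) (gtEW_lt _ _ _ _ _ _ x)
  · exact (List.mem_append.1 hx).elim (gtEW_lt _ _ _ _ _ _ x) (fun h => by simp at h; subst h; simp)

/-- The representatives are not conjugate. -/
theorem gt_not_conj {g : GL chevG2.Idx K} (hg : g ∈ chevG2.group K) :
    g * xg certG2 11 (1 : K) ≠ xg certG2 9 1 * g := by
  intro he
  have h11 : 11 < chevG2.nroots := by decide
  obtain ⟨u, hu, n, hn, v, hv, rfl⟩ := bruhat certG2 fullCertG2 hg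
  obtain ⟨w, hw, d, hd, rfl⟩ := (mem_monomial certG2).1 hn
  obtain ⟨c, hc, hct⟩ := wnu_conj_xg certG2 (F := K) hw h11
  obtain ⟨χ, hχ⟩ := diag_conj_xg certG2 hd
  obtain ⟨hχ0, hχt⟩ := hχ 11 h11
  set s : K := c * (χ 11 * 1) with hs
  have hs0 : s ≠ 0 := mul_ne_zero (left_ne_zero_of_mul (by rw [hc]; exact one_ne_zero)) (by simpa using hχ0)
  have hr := wperm_lt certG2 hw h11
  have hlong : wperm tblG2 w 11 ∈ [0, 1, 5, 6, 10, 11] := by
    clear * - hw
    induction w with
    | nil => decide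
    | cons i w ih =>
      have h : ∀ i < 2, ∀ r ∈ [0, 1, 5, 6, 10, 11], tblG2.refl' i r ∈ [0, 1, 5, 6, 10, 11] := by decide +kernel
      exact h i hw.tail.1 _ (ih hw.tail.2)
  set r := wperm tblG2 w 11
  have key : u * xg certG2 r s * u⁻¹ = xg certG2 9 1 := by
    rw [hs, ← hct, ← hχt]
    have e2 : u * (wnu certG2 K w * d) * xg certG2 11 1 = xg certG2 9 1 * (u * (wnu certG2 K w * d)) :=
      mul_right_cancel (b := v) (by rw [mul_assoc, gt_top_comm hv, ← mul_assoc, he]; simp only [mul_assoc])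
    calc u * (wnu certG2 K w * (d * xg certG2 11 1 * d⁻¹) * (wnu certG2 K w)⁻¹) * u⁻¹
        = u * (wnu certG2 K w * d) * xg certG2 11 1 * (u * (wnu certG2 K w * d))⁻¹ := by group
      _ = _ := by rw [e2, mul_inv_cancel_right]
  by_cases hneg : 2 * r < chevG2.nroots
  · have h1 : xg certG2 r s ∈ chevG2.posUnipotent K := by
      rw [show xg certG2 r s = u⁻¹ * xg certG2 9 1 * u by rw [← key]; group]
      exact mul_mem (mul_mem (inv_mem hu) (xg_mem_pos certG2 (show 9 < 12 by norm_num) (show 12 ≤ 2 * 9 by norm_num) _)) hu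
    exact hs0 (xg_eq_one certG2 hr (gt_neg_inf_pos h1 (xg_mem_neg certG2 hr hneg s)))
  obtain ⟨b, a, c', d', e, g, rfl⟩ := gt_pos_form hu
  rw [mul_inv_eq_iff_eq_mul] at key
  have hr3 : r = 6 + 0 ∨ r = 6 + 4 ∨ r = 6 + 5 := by
    simp only [List.mem_cons, List.not_mem_nil, or_false] at hlong
    have : ¬ 2 * r < 12 := hneg
    omega
  rcases hr3 with e' | e' | e' <;> rw [e', show (9 : ℕ) = 6 + 3 from rfl, ← gt_xg_single, ← gt_xg_single, gtE,
    ← gtVal_append, ← gtVal_append] at key <;>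
    have := gtNf_unique (fun x hx => (List.mem_append.1 hx).elim (gtEW_lt _ _ _ _ _ _ x)
        (fun h => by simp at h; subst h; simp))
      (fun x hx => (List.mem_append.1 hx).elim (fun h => by simp at h; subst h; simp) (gtEW_lt _ _ _ _ _ _ x)) key <;>
    simp [gtEW, gtNf, gtIns, gtS, hs0] at this

set_option maxHeartbeats 4000000 in
/-- The centraliser of the short root involution. -/
theorem gt_short_centralizer {g : GL chevG2.Idx K} (hg : g ∈ chevG2.group K)
    (hc : g * xg certG2 9 (1 : K) = xg certG2 9 1 * g) :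
    g ∈ chevG2.rootSubgroup K 9 ⊔ chevG2.rootSubgroup K 10 ⊔ chevG2.rootSubgroup K 11 ⊔ chevG2.rootSubgroup K 6 ⊔
      chevG2.rootSubgroup K 5 := by
  set W := chevG2.rootSubgroup K 9 ⊔ chevG2.rootSubgroup K 10 ⊔ chevG2.rootSubgroup K 11 ⊔ chevG2.rootSubgroup K 6 ⊔
      chevG2.rootSubgroup K 5 with hW
  have hx : ∀ r ∈ [9, 10, 11, 6, 5], ∀ t : K, xg certG2 r t ∈ W := by
    intro r hr t
    have hm : xg certG2 r t ∈ chevG2.rootSubgroup K r := (mem_rootSubgroup certG2).2 ⟨t, rfl⟩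
    simp only [List.mem_cons, List.not_mem_nil, or_false] at hr
    rcases hr with rfl | rfl | rfl | rfl | rfl
    · exact Subgroup.mem_sup_left (Subgroup.mem_sup_left (Subgroup.mem_sup_left (Subgroup.mem_sup_left hm)))
    · exact Subgroup.mem_sup_left (Subgroup.mem_sup_left (Subgroup.mem_sup_left (Subgroup.mem_sup_right hm)))
    · exact Subgroup.mem_sup_left (Subgroup.mem_sup_left (Subgroup.mem_sup_right hm))
    · exact Subgroup.mem_sup_left (Subgroup.mem_sup_right hm)
    · exact Subgroup.mem_sup_right hm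
  obtain ⟨w, hw, bb, hb, v, hv, rfl⟩ := bruhat_normal certG2 fullCertG2 hg
  obtain ⟨u, hu, h, hh, rfl⟩ := (mem_borel certG2).1 hb
  have hvp : v ∈ chevG2.posUnipotent K := (posUnipotent_eq certG2 (F := K)) ▸ signPart_le_upper certG2 fullCertG2 w true _ hv
  -- the conjugate by the first factor
  obtain ⟨vb, va, vc, vd, ve, vg, rfl⟩ := gt_pos_form hvp
  obtain ⟨z10, z11, hv9⟩ : ∃ z10 z11 : K, gtE vb va vc vd ve vg * xg certG2 9 1 =
      xg certG2 9 1 * xg certG2 10 z10 * xg certG2 11 z11 * gtE vb va vc vd ve vg := by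
    refine ⟨va, vc + vb * va, ?_⟩
    rw [show (9 : ℕ) = 6 + 3 from rfl, show (10 : ℕ) = 6 + 4 from rfl, show (11 : ℕ) = 6 + 5 from rfl,
      ← gt_xg_single, ← gt_xg_single, ← gt_xg_single, gtE, ← gtVal_append, ← gtVal_append, ← gtVal_append,
      ← gtVal_append]
    refine gt_eq (fun x hx => ?_) (fun x hx => ?_) ?_
    · exact (List.mem_append.1 hx).elim (gtEW_lt _ _ _ _ _ _ x) (fun h => by simp at h; subst h; simp)
    · simp [gtEW] at hx
      rcases hx with rfl | rfl | rfl | rfl | rfl | rfl | rfl | rfl | rfl <;> simp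
    · simp [gtEW, gtNf, gtIns, gtS]
      refine ⟨add_comm _ _, ?_, ?_⟩
      · linear_combination (-va) * (CharTwo.two_eq_zero : (2 : K) = 0)
      · linear_combination (-(vc + vb * va)) * (CharTwo.two_eq_zero : (2 : K) = 0)
  set n := wnu certG2 K w with hn
  obtain ⟨χ, hχ⟩ := diag_conj_xg certG2 hh
  set A := xg certG2 9 (1 : K) * xg certG2 10 z10 * xg certG2 11 z11 with hA
  have key : u * h * (n * A * n⁻¹) = xg certG2 9 1 * (u * h) := by
    have e : u * h * n * A = xg certG2 9 1 * (u * h * n) := by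
      refine mul_right_cancel (b := gtE vb va vc vd ve vg) ?_
      rw [mul_assoc _ A, ← hv9, ← mul_assoc, hc]
      simp only [mul_assoc]
    calc u * h * (n * A * n⁻¹) = u * h * n * A * n⁻¹ := by group
      _ = _ := by rw [e]; group
  have hAp : n * A * n⁻¹ ∈ chevG2.posUnipotent K := by
    have e : n * A * n⁻¹ = h⁻¹ * (u⁻¹ * xg certG2 9 1 * u) * h⁻¹⁻¹ := by
      calc n * A * n⁻¹ = (u * h)⁻¹ * (u * h * (n * A * n⁻¹)) := by group
        _ = _ := by rw [key]; group
    rw [e]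
    exact (Subgroup.mem_normalizer_iff.1 (diag_le_normalizer certG2 (inv_mem hh)) _).1
      (mul_mem (mul_mem (inv_mem hu) (xg_mem_pos certG2 (show 9 < 12 by norm_num) (show 12 ≤ 2 * 9 by norm_num) _)) hu)
  -- the images of the three roots
  have hcw : ∀ r < 12, ∃ c : K, c ≠ 0 ∧ ∀ t, n * xg certG2 r t * n⁻¹ = xg certG2 (wperm tblG2 w r) (c * t) := by
    intro r hr
    obtain ⟨c, hc1, hct⟩ := wnu_conj_xg certG2 (F := K) hw (show r < chevG2.nroots from hr)
    exact ⟨c, left_ne_zero_of_mul (by rw [hc1]; exact one_ne_zero), hct⟩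
  let sg : ℕ → K → K := fun r t => if 2 * wperm tblG2 w r < 12 then t else 0
  let sp : ℕ → K → K := fun r t => if 2 * wperm tblG2 w r < 12 then 0 else t
  have hsplit : A = gtVal [(3, sp 9 1), (4, sp 10 z10), (5, sp 11 z11)] *
      gtVal [(3, sg 9 1), (4, sg 10 z10), (5, sg 11 z11)] := by
    rw [← gtVal_append, hA, show (9 : ℕ) = 6 + 3 from rfl, show (10 : ℕ) = 6 + 4 from rfl,
      show (11 : ℕ) = 6 + 5 from rfl, ← gt_xg_single, ← gt_xg_single, ← gt_xg_single, ← gtVal_append, ← gtVal_append]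
    have e : ∀ r (t : K), sp r t + sg r t = t := fun r t => by simp only [sp, sg]; split_ifs <;> simp
    refine gt_eq (fun x hx => ?_) (fun x hx => ?_) ?_
    · simp at hx; rcases hx with rfl | rfl | rfl <;> simp
    · simp at hx; rcases hx with rfl | rfl | rfl | rfl | rfl | rfl <;> simp
    · simp [gtNf, gtIns, gtS, e]
  have hconj : ∀ (a b d : K) (S : Subgroup (GL chevG2.Idx K)), (∀ t, n * xg certG2 9 t * n⁻¹ ∈ S ∨ (t = a → t = 0)) →
      (∀ t, n * xg certG2 10 t * n⁻¹ ∈ S ∨ (t = b → t = 0)) → (∀ t, n * xg certG2 11 t * n⁻¹ ∈ S ∨ (t = d → t = 0)) →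
      n * gtVal [(3, a), (4, b), (5, d)] * n⁻¹ ∈ S := by
    intro a b d S h1 h2 h3
    have e : n * gtVal [(3, a), (4, b), (5, d)] * n⁻¹ =
        (n * xg certG2 9 a * n⁻¹) * (n * xg certG2 10 b * n⁻¹) * (n * xg certG2 11 d * n⁻¹) := by
      simp only [gtVal, List.map_cons, List.map_nil, List.prod_cons, List.prod_nil, mul_one]
      group
    rw [e]
    refine mul_mem (mul_mem ?_ ?_) ?_
    · exact (h1 a).elim id fun h => by rw [h rfl, xg_zero]; simp
    · exact (h2 b).elim id fun h => by rw [h rfl, xg_zero]; simp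
    · exact (h3 d).elim id fun h => by rw [h rfl, xg_zero]; simp
  have hp1 : ∀ r < 12, ∀ a t : K, n * xg certG2 r t * n⁻¹ ∈ chevG2.posUnipotent K ∨ (t = sp r a → t = 0) := by
    intro r hr a t
    simp only [sp]
    split_ifs with h
    · exact Or.inr id
    · left
      obtain ⟨c, -, hct⟩ := hcw r hr
      rw [hct]
      refine xg_mem_pos certG2 (wperm_lt certG2 hw (show r < chevG2.nroots from hr)) ?_ _
      rw [show chevG2.nroots = 12 from rfl]; omega
  have hn1 : ∀ r < 12, ∀ a t : K, n * xg certG2 r t * n⁻¹ ∈ chevG2.negUnipotent K ∨ (t = sg r a → t = 0) := by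
    intro r hr a t
    simp only [sg]
    split_ifs with h
    · left
      obtain ⟨c, -, hct⟩ := hcw r hr
      rw [hct]
      exact xg_mem_neg certG2 (wperm_lt certG2 hw (show r < chevG2.nroots from hr)) h _
    · exact Or.inr id
  have hpos : n * gtVal [(3, sp 9 1), (4, sp 10 z10), (5, sp 11 z11)] * n⁻¹ ∈ chevG2.posUnipotent K :=
    hconj _ _ _ _ (hp1 9 (by norm_num) _) (hp1 10 (by norm_num) _) (hp1 11 (by norm_num) _)
  have hneg : n * gtVal [(3, sg 9 1), (4, sg 10 z10), (5, sg 11 z11)] * n⁻¹ ∈ chevG2.negUnipotent K :=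
    hconj _ _ _ _ (hn1 9 (by norm_num) _) (hn1 10 (by norm_num) _) (hn1 11 (by norm_num) _)
  have hB : gtVal [(3, sg 9 1), (4, sg 10 z10), (5, sg 11 z11)] = 1 := by
    have h1 := gt_neg_inf_pos (by
      have h2 := mul_mem (inv_mem hpos) hAp
      rw [hsplit] at h2
      convert h2 using 1
      group) hneg
    calc _ = n⁻¹ * (n * gtVal [(3, sg 9 1), (4, sg 10 z10), (5, sg 11 z11)] * n⁻¹) * n := by group
      _ = _ := by rw [h1]; group
  have hsg := gtNf_unique (v := ([] : List (ℕ × K))) (fun x hx => by simp at hx; rcases hx with rfl | rfl | rfl <;> simp)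
    (by simp) (hB.trans (by simp [gtVal]))
  simp [gtNf, gtIns, gtS, sg] at hsg
  obtain ⟨h9, h10, h11⟩ := hsg
  -- the permutation fixes the short root
  obtain ⟨c9, hc9, hct9⟩ := hcw 9 (by norm_num)
  obtain ⟨c10, hc10, hct10⟩ := hcw 10 (by norm_num)
  obtain ⟨c11, hc11, hct11⟩ := hcw 11 (by norm_num)
  obtain ⟨ub, ua, uc, ud, ue, ug, rfl⟩ := gt_pos_form hu
  have hχ' : ∀ r < 12, χ r ≠ 0 ∧ ∀ t, h * xg certG2 r t = xg certG2 r (χ r * t) * h := fun r hr =>
    ⟨(hχ r hr).1, fun t => by rw [← (hχ r hr).2 t, inv_mul_cancel_right]⟩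
  have hmem := gtPerms_closed w hw
  simp only [List.map_cons, List.map_nil] at hmem
  generalize e9 : wperm tblG2 w 9 = r9 at hmem h9 hct9
  generalize e10 : wperm tblG2 w 10 = r10 at hmem h10 hct10
  generalize e11 : wperm tblG2 w 11 = r11 at hmem h11 hct11
  have h9' : ¬ 2 * r9 < 12 := by omega
  have hr : r9 < 12 ∧ r10 < 12 ∧ r11 < 12 := ⟨e9 ▸ wperm_lt certG2 hw (show 9 < chevG2.nroots by decide),
    e10 ▸ wperm_lt certG2 hw (show 10 < chevG2.nroots by decide), e11 ▸ wperm_lt certG2 hw (show 11 < chevG2.nroots by decide)⟩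
  have key2 : gtE ub ua uc ud ue ug * gtVal [(r9 - 6, χ r9 * (c9 * 1)), (r10 - 6, χ r10 * (c10 * z10)),
      (r11 - 6, χ r11 * (c11 * z11))] = xg certG2 9 1 * gtE ub ua uc ud ue ug := by
    have hz : ∀ r (t c : K), (2 * r < 12 → t = 0) → r < 12 →
        xg certG2 (6 + (r - 6)) (χ r * (c * t)) = xg certG2 r (χ r * (c * t)) := by
      intro r t c hrt _
      by_cases h : 2 * r < 12
      · simp [hrt h, xg_zero]
      · rw [show 6 + (r - 6) = r by omega]
    refine mul_right_cancel (b := h) ?_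
    rw [mul_assoc (xg certG2 9 1), ← key, hA]
    simp only [gtVal, List.map_cons, List.map_nil, List.prod_cons, List.prod_nil, mul_one]
    have hz9 := hz r9 1 c9 (fun h => absurd h h9') hr.1
    simp only [mul_one] at hz9
    rw [hz9, hz r10 z10 c10 h10 hr.2.1, hz r11 z11 c11 h11 hr.2.2]
    have e : n * (xg certG2 9 1 * xg certG2 10 z10 * xg certG2 11 z11) * n⁻¹ =
        xg certG2 r9 (c9 * 1) * (xg certG2 r10 (c10 * z10) * xg certG2 r11 (c11 * z11)) := by
      rw [← hct9, ← hct10, ← hct11]; group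
    rw [e, mul_assoc (gtE ub ua uc ud ue ug) h, ← mul_assoc h, (hχ' r9 hr.1).2, mul_assoc (xg certG2 r9 _) h,
      ← mul_assoc h, (hχ' r10 hr.2.1).2, mul_assoc (xg certG2 r10 _) h, (hχ' r11 hr.2.2).2]
    simp only [mul_assoc, mul_one]
  rw [show (9 : ℕ) = 6 + 3 from rfl, ← gt_xg_single, gtE, ← gtVal_append, ← gtVal_append] at key2
  have hnf := gtNf_unique (fun x hx => (List.mem_append.1 hx).elim (gtEW_lt _ _ _ _ _ _ x)
        (fun h => by simp at h; rcases h with rfl | rfl | rfl <;> simp <;> omega))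
      (fun x hx => (List.mem_append.1 hx).elim (fun h => by simp at h; subst h; simp) (gtEW_lt _ _ _ _ _ _ x)) key2
  have hχ9 := (hχ' r9 hr.1).1
  have hχ10 := (hχ' r10 hr.2.1).1
  have hχ11 := (hχ' r11 hr.2.2).1
  have hfix : (wperm tblG2 w 6 = 6 ∧ wperm tblG2 w 7 = 7) ∨ (wperm tblG2 w 6 = 5 ∧ wperm tblG2 w 7 = 8) := by
    simp only [gtPerms, List.mem_cons, List.not_mem_nil, or_false, List.cons.injEq, and_true] at hmem
    rcases hmem with ⟨a6, a7, -, a9, a10, a11⟩ | ⟨a6, a7, -, a9, a10, a11⟩ | ⟨a6, a7, -, a9, a10, a11⟩ |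
      ⟨a6, a7, -, a9, a10, a11⟩ | ⟨a6, a7, -, a9, a10, a11⟩ | ⟨a6, a7, -, a9, a10, a11⟩ |
      ⟨a6, a7, -, a9, a10, a11⟩ | ⟨a6, a7, -, a9, a10, a11⟩ | ⟨a6, a7, -, a9, a10, a11⟩ |
      ⟨a6, a7, -, a9, a10, a11⟩ | ⟨a6, a7, -, a9, a10, a11⟩ | ⟨a6, a7, -, a9, a10, a11⟩ <;>
    first
      | exact Or.inl ⟨a6, a7⟩
      | exact Or.inr ⟨a6, a7⟩
      | (exfalso; omega)
      | (exfalso; rw [a9, a10, a11] at hnf; rw [a9] at hχ9; rw [a10] at h10 hχ10; rw [a11] at h11 hχ11; simp [gtEW, gtNf, gtIns, gtS] at hnf; grind)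
  have hcom : ∀ r ∈ [9, 10, 11, 6, 5], ∀ t : K, xg certG2 r t * xg certG2 9 1 = xg certG2 9 1 * xg certG2 r t := by
    intro r hr t
    have h : ∀ r ∈ [9, 10, 11, 6, 5], evenTerms chevG2 tblG2 9 r = true ∧ r < 12 := by decide +kernel
    exact (evenTerms_comm certG2 fullCertG2 (show 9 < chevG2.nroots by decide) (h r hr).2 (h r hr).1 t).symm
  have hnuW : nu certG2 1 ∈ W := by
    have s1 : tblG2.simp' 1 = 6 := by decide +kernel
    have n1 : tblG2.neg 6 = 5 := by decide +kernel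
    rw [nu, ng, s1]
    refine mul_mem (mul_mem (hx 6 (by simp) _) ?_) (hx 6 (by simp) _)
    convert hx 5 (by simp) (-(1 : K)⁻¹) using 2
    exact n1.symm
  -- the Weyl part
  obtain ⟨hnW, hvW⟩ : (∃ d ∈ chevG2.diagonalSubgroup K, ∃ x ∈ W, n = d * x) ∧ gtE vb va vc vd ve vg ∈ W := by
    have hsp : ∀ (r : ℕ), 6 ≤ r → r < 12 → 2 * wperm tblG2 w r < 12 → r ∈ [9, 10, 11, 6, 5] := by
      intro r h1 h2 h3
      simp only [gtPerms, List.mem_cons, List.not_mem_nil, or_false, List.cons.injEq, and_true] at hmem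
      rcases hfix with ⟨a6, a7⟩ | ⟨a6, a7⟩
      · rw [a6, a7] at hmem
        simp at hmem
        interval_cases r <;> simp_all
      · rw [a6, a7] at hmem
        simp at hmem
        interval_cases r <;> simp_all
    refine ⟨?_, ?_⟩
    · rcases hfix with ⟨a6, a7⟩ | ⟨a6, a7⟩
      · refine ⟨n, ?_, 1, one_mem _, (mul_one _).symm⟩
        refine word_kernel certG2 fullCertG2 _ rfl hw fun k hk => ?_
        have hk2 : k < 2 := hk
        interval_cases k
        · rw [show tblG2.simp' 0 = 7 by decide +kernel, a7]; decide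
        · rw [show tblG2.simp' 1 = 6 by decide +kernel, a6]; decide
      · have h1 : IsWord chevG2 [1] := IsWord.cons (by decide) fun j hj => absurd hj List.not_mem_nil
        have hd := same_of_perm certG2 fullCertG2 (F := K) h1 hw fun k hk => by
          have hk2 : k < 2 := hk
          interval_cases k
          · rw [show tblG2.simp' 0 = 7 by decide +kernel, a7]; decide +kernel
          · rw [show tblG2.simp' 1 = 6 by decide +kernel, a6]; decide +kernel
        refine ⟨wnu certG2 K [1] * ((wnu certG2 K [1])⁻¹ * n) * (wnu certG2 K [1])⁻¹,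
          (conj_mem_diag certG2 (wnu_mem certG2 h1) hd).1, nu certG2 1, hnuW, ?_⟩
        simp [wnu]
    · refine (Subgroup.closure_le _).2 ?_ hv
      rintro x ⟨r, t, h1, h2, h3, rfl⟩
      exact hx r (hsp r h1 h2 (of_decide_eq_true h3)) t
  obtain ⟨d, hd, x, hxW, e_n⟩ := hnW
  have hWC : ∀ y ∈ W, y * xg certG2 9 (1 : K) = xg certG2 9 1 * y := by
    intro y hy
    suffices hle : W ≤ Subgroup.centralizer {xg certG2 9 (1 : K)} from
      (Subgroup.mem_centralizer_iff.1 (hle hy) _ rfl).symm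
    simp only [hW, sup_le_iff]
    refine ⟨⟨⟨⟨?_, ?_⟩, ?_⟩, ?_⟩, ?_⟩ <;>
    · intro z hz
      obtain ⟨t, rfl⟩ := (mem_rootSubgroup certG2).1 hz
      rw [Subgroup.mem_centralizer_iff]
      rintro _ rfl
      exact (hcom _ (by simp) t).symm
  have hy := mul_mem hxW hvW
  set y := x * gtE vb va vc vd ve vg with hydef
  have hb2 : gtE ub ua uc ud ue ug * (h * d) * xg certG2 9 1 = xg certG2 9 1 * (gtE ub ua uc ud ue ug * (h * d)) := by
    refine mul_right_cancel (b := y) ?_
    rw [mul_assoc _ (xg certG2 9 1) y, ← hWC y hy, ← mul_assoc]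
    rw [e_n] at hc
    simpa [hydef, mul_assoc] using hc
  have hhd := mul_mem hh hd
  obtain ⟨z, hz⟩ : ∃ z, torusHom chevG2 tblG2 K z = h * d :=
    MonoidHom.mem_range.1 ((torusHom_range certG2 (F := K)).symm ▸ hhd)
  have k9 : tblG2.cartan 0 9 = 1 := by decide +kernel
  have k9' : tblG2.cartan 1 9 = 0 := by decide +kernel
  have hchr : chr tblG2 chevG2 (extend' z) 9 = extend' z 0 := by
    simp [chr, show chevG2.rank = 2 from rfl, Finset.prod_range_succ, k9, k9']
  rw [← hz, mul_assoc, ← inv_mul_cancel_right (torusHom chevG2 tblG2 K z * xg certG2 9 (1 : K))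
    (torusHom chevG2 tblG2 K z), torusHom_conj_xg certG2 z (show 9 < chevG2.nroots by decide), hchr, mul_one,
    ← mul_assoc, ← mul_assoc] at hb2
  have hb3 := mul_right_cancel hb2
  have hfin : ua = 0 ∧ uc = 0 ∧ extend' z 0 = 1 := by
    rw [show (9 : ℕ) = 6 + 3 from rfl, ← gt_xg_single, ← gt_xg_single, gtE, ← gtVal_append, ← gtVal_append] at hb3
    have hnf2 := gtNf_unique (fun x hx => (List.mem_append.1 hx).elim (gtEW_lt _ _ _ _ _ _ x)
        (fun h => by simp at h; subst h; simp))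
      (fun x hx => (List.mem_append.1 hx).elim (fun h => by simp at h; subst h; simp) (gtEW_lt _ _ _ _ _ _ x)) hb3
    simp [gtEW, gtNf, gtIns, gtS] at hnf2
    grind
  obtain ⟨rfl, rfl, hz0⟩ := hfin
  have huW : gtE ub 0 0 ud ue ug ∈ W := by
    simp only [gtE, gtEW, gtVal, List.map_cons, List.map_nil, List.prod_cons, List.prod_nil, xg_zero, one_mul, mul_one]
    exact mul_mem (hx 6 (by simp) _) (mul_mem (hx 9 (by simp) _) (mul_mem (hx 10 (by simp) _) (hx 11 (by simp) _)))
  have htW : h * d ∈ W := by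
    rw [← hz, torusHom_eq_prod certG2 z (List.nodup_cons.2 ⟨by simp, List.nodup_singleton 1⟩ : [0, 1].Nodup)
      (fun i hi => by simp at hi; rcases hi with rfl | rfl <;> decide)
      (fun i hi => by have : i < 2 := hi; interval_cases i <;> simp)]
    have one0 : Cfsg.Lib.Chev.hg certG2 (tblG2.simp' 0) (1 : K) = 1 := by
      refine Units.ext ?_
      rw [coe_hg_eq certG2 (show tblG2.simp' 0 < chevG2.nroots from certG2.spec.simp_lt 0 (by decide)) one_ne_zero, coDiag]
      simp only [one_zpow]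
      exact scal_one
    have s1 : tblG2.simp' 1 = 6 := by decide +kernel
    have n1 : tblG2.neg 6 = 5 := by decide +kernel
    have hn' : ∀ c : K, ng certG2 6 c ∈ W := fun c => by
      rw [ng]
      refine mul_mem (mul_mem (hx 6 (by simp) _) ?_) (hx 6 (by simp) _)
      convert hx 5 (by simp) (-c⁻¹) using 2
      exact n1.symm
    simp only [List.map_cons, List.map_nil, List.prod_cons, List.prod_nil, mul_one, hz0, one0, one_mul, s1]
    exact mul_mem (hn' _) (hn' _)
  rw [e_n, show gtE ub 0 0 ud ue ug * h * (d * x) * gtE vb va vc vd ve vg =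
    gtE ub 0 0 ud ue ug * (h * d) * (x * gtE vb va vc vd ve vg) by group]
  exact mul_mem (mul_mem huW htW) hy

theorem gt_order_two {r : ℕ} (hr : r < 12) : orderOf (xg certG2 r (1 : K)) = 2 := by
  haveI : Fact (Nat.Prime 2) := ⟨Nat.prime_two⟩
  refine orderOf_eq_prime ?_ ?_
  · rw [sq, xg_add, CharTwo.add_self_eq_zero, xg_zero]
  · exact fun e => one_ne_zero (xg_eq_one certG2 (show r < chevG2.nroots from hr) e)

/-- The classes of involutions of G2 in characteristic two. -/
theorem gt_involution_classes [Fintype K] {g : GL chevG2.Idx K} (hg : g ∈ chevG2.group K) (ho : orderOf g = 2) :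
    GtGood g := by
  haveI : Fact (Nat.Prime 2) := ⟨Nat.prime_two⟩
  obtain ⟨U, hU⟩ := exists_sylow certG2 (F := K) fullCertG2 2
  set g' : ↥(chevG2.group K) := ⟨g, hg⟩
  have ho' : orderOf g' = 2 := by rw [← Subgroup.orderOf_coe]; exact ho
  obtain ⟨S, hS⟩ := (IsPGroup.of_card (n := 1) (by rw [Nat.card_zpowers, ho', pow_one]) :
    IsPGroup 2 ↥(Subgroup.zpowers g')).exists_le_sylow
  obtain ⟨x, hx⟩ := MulAction.exists_smul_eq ↥(chevG2.group K) S U
  have hgx : x * g' * x⁻¹ ∈ (U : Subgroup _) := by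
    rw [← hx, Sylow.coe_subgroup_smul, Subgroup.mem_pointwise_smul_iff_inv_smul_mem]
    simpa [mul_assoc] using hS (Subgroup.mem_zpowers g')
  rw [hU] at hgx
  have hcj : GtCj g ((x * g' * x⁻¹ : ↥(chevG2.group K)) : GL chevG2.Idx K) :=
    ⟨(x : GL chevG2.Idx K), x.2, by simp [g']⟩
  have hsq : g * g = 1 := by
    have e := pow_orderOf_eq_one g
    rwa [ho, sq] at e
  refine GtGood.of_cj hcj (gt_classify hgx (hcj.sq hsq) fun e => ?_)
  obtain ⟨y, -, ey⟩ := hcj
  rw [e, one_mul, mul_eq_left] at ey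
  rw [ey, orderOf_one] at ho
  exact absurd ho (by norm_num)

end Cfsg.Lib.Chev
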