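import Cfsg.Agent.Lib.Chev.DomCentralizer
import Cfsg.Agent.Lib.Chev.Sylow

/-! Collection in the positive unipotent group of type G2 in characteristic two. -/

set_option autoImplicit false
set_option maxRecDepth 100000

namespace Cfsg.Lib.Chev

open Cfsg.Lie
open scoped commutatorElement

/-- The terms produced by moving the root in position `i` to the left of the one in position `j < i`. -/
def gtS : ℕ → ℕ → List (ℕ × ℕ × ℕ)
  | 1, 0 => [(2, 1, 1), (3, 1, 2), (4, 1, 3)]
  | 4, 0 => [(5, 1, 1)]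
  | 2, 1 => [(4, 2, 1), (5, 1, 2)]
  | 3, 1 => [(4, 1, 1)]
  | 3, 2 => [(5, 1, 1)]
  | _, _ => []

/-- The table of terms is the table of the datum. -/
noncomputable def chkGtS : Bool :=
  allBelow (fun i => allBelow (fun j => !Nat.blt j i || (!Nat.beq (6 + i) (tblG2.neg (6 + j)) &&
    ((((tTerms tblG2 (6 + j) (6 + i)).filter fun c => decide (c.2.1 % 2 ≠ 0)).map fun c => (c.1, c.2.2.1, c.2.2.2)) ==
        (gtS i j).map (fun c => (6 + c.1, c.2.1, c.2.2)) &&
      (gtS i j).all fun c => Nat.blt i c.1 && Nat.blt c.1 6))) 6) 6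

theorem chkGtS_ok : chkGtS = true := by decide +kernel

variable {K : Type*} [Field K] [CharP K 2]

theorem gt_prod_filter : ∀ l : List (ℕ × ℤ × ℕ × ℕ), ∀ t u : K,
    (l.map fun c => xg certG2 c.1 ((c.2.1 : K) * (-t) ^ c.2.2.1 * u ^ c.2.2.2)).prod =
      (((l.filter fun c => decide (c.2.1 % 2 ≠ 0)).map fun c => (c.1, c.2.2.1, c.2.2.2)).map
        fun c => xg certG2 c.1 (t ^ c.2.1 * u ^ c.2.2)).prod := by
  intro l t u
  induction l with
  | nil => rfl
  | cons c l ih =>
    rw [List.map_cons, List.prod_cons, ih]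
    by_cases h : c.2.1 % 2 = 0
    · obtain ⟨k, hk⟩ := Int.dvd_of_emod_eq_zero h
      rw [List.filter_cons_of_neg (by simp [h]), hk]
      simp [xg_zero, (CharTwo.two_eq_zero : (2 : K) = 0)]
    · obtain ⟨k, hk⟩ : ∃ k, c.2.1 = 2 * k + 1 := ⟨c.2.1 / 2, by omega⟩
      rw [List.filter_cons_of_pos (by simp [h]), List.map_cons, List.map_cons, List.prod_cons, hk]
      simp [(CharTwo.two_eq_zero : (2 : K) = 0), CharTwo.neg_eq]

/-- Two root elements out of order. -/
theorem gt_swap {i j : ℕ} (hi : i < 6) (hji : j < i) (a b : K) :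
    xg certG2 (6 + i) a * xg certG2 (6 + j) b = xg certG2 (6 + j) b * xg certG2 (6 + i) a *
      ((gtS i j).map fun c => xg certG2 (6 + c.1) (b ^ c.2.1 * a ^ c.2.2)).prod := by
  have hc := chkGtS_ok
  simp only [chkGtS, allBelow_iff, Bool.or_eq_true, Bool.and_eq_true, Bool.not_eq_true', beq_iff_eq] at hc
  obtain ⟨hn, he, -⟩ := (hc i hi j (by omega)).resolve_left (by simp [Nat.blt, Nat.ble_eq]; omega)
  have hn' : 6 + i ≠ tblG2.neg (6 + j) := fun e => by
    rw [← e, Nat.beq_refl] at hn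
    exact Bool.noConfusion hn
  have h := comm_xg_prod certG2 fullCertG2.comm (F := K) (show 6 + j < chevG2.nroots by
      have : 6 + j < 12 := by omega
      exact this) (show 6 + i < chevG2.nroots by
      have : 6 + i < 12 := by omega
      exact this) (by omega) hn' b a
  rw [gt_prod_filter, he, List.map_map] at h
  simp only [commutatorElement_def, inv_inv] at h
  rw [show ((gtS i j).map fun c => xg certG2 (6 + c.1) (b ^ c.2.1 * a ^ c.2.2)) =
    (gtS i j).map ((fun c => xg certG2 c.1 (b ^ c.2.1 * a ^ c.2.2)) ∘ fun c => (6 + c.1, c.2.1, c.2.2)) from rfl, ← h]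
  group

theorem gtS_bound {i j : ℕ} (hi : i < 6) (hji : j < i) : ∀ c ∈ gtS i j, i < c.1 ∧ c.1 < 6 := by
  have h : ∀ i < 6, ∀ j < 6, ∀ c ∈ gtS i j, j < i → i < c.1 ∧ c.1 < 6 := by decide
  exact fun c hc => h i hi j (by omega) c hc hji

/-- Insert a root element from the left into an ordered product starting at position `j`. -/
def gtIns : ℕ → ℕ → K → ℕ → List K → List K
  | 0, _, _, _, l => l
  | _, _, _, _, [] => []
  | n + 1, i, a, j, b :: l =>
    if i = j then (a + b) :: l
    else b :: gtIns n i a (j + 1) ((gtS i j).foldr (fun c l' => gtIns n c.1 (b ^ c.2.1 * a ^ c.2.2) (j + 1) l') l)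

/-- The ordered product of parameters starting at a position. -/
noncomputable def gtProd : ℕ → List K → GL chevG2.Idx K
  | _, [] => 1
  | j, b :: l => xg certG2 (6 + j) b * gtProd (j + 1) l

omit [CharP K 2] in
theorem gtIns_length : ∀ (n i : ℕ) (a : K) (j : ℕ) (l : List K), (gtIns n i a j l).length = l.length := by
  intro n
  induction n with
  | zero => intros; rfl
  | succ n ih =>
    intro i a j l
    cases l with
    | nil => rfl
    | cons b l =>
      rw [gtIns]
      split_ifs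
      · rfl
      · rw [List.length_cons, List.length_cons, ih]
        induction gtS i j with
        | nil => rfl
        | cons c cs ihc => rw [List.foldr_cons, ih]; exact ihc

theorem gtIns_prod : ∀ (n i : ℕ) (a : K) (j : ℕ) (l : List K), l.length ≤ n → j + l.length = 6 → j ≤ i → i < 6 →
    gtProd j (gtIns n i a j l) = xg certG2 (6 + i) a * gtProd j l := by
  intro n
  induction n with
  | zero => intro i a j l h1 h2 h3 h4; omega
  | succ n ih =>
    intro i a j l h1 h2 h3 h4
    cases l with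
    | nil => simp at h2; omega
    | cons b l =>
      simp only [List.length_cons] at h1 h2
      rw [gtIns]
      split_ifs with hij
      · subst hij
        rw [gtProd, gtProd, ← mul_assoc, xg_add]
      · rw [gtProd, gtProd]
        have key : ∀ cs : List (ℕ × ℕ × ℕ), (∀ c ∈ cs, i < c.1 ∧ c.1 < 6) →
            (cs.foldr (fun c l' => gtIns n c.1 (b ^ c.2.1 * a ^ c.2.2) (j + 1) l') l).length = l.length ∧
            gtProd (j + 1) (cs.foldr (fun c l' => gtIns n c.1 (b ^ c.2.1 * a ^ c.2.2) (j + 1) l') l) =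
              (cs.map fun c => xg certG2 (6 + c.1) (b ^ c.2.1 * a ^ c.2.2)).prod * gtProd (j + 1) l := by
          intro cs hcs
          induction cs with
          | nil => simp
          | cons c cs ihc =>
            obtain ⟨e1, e2⟩ := ihc fun x hx => hcs x (List.mem_cons_of_mem _ hx)
            obtain ⟨hc1, hc2⟩ := hcs c (List.mem_cons_self ..)
            rw [List.foldr_cons, List.map_cons, List.prod_cons, gtIns_length,
              ih _ _ _ _ (by rw [e1]; omega) (by rw [e1]; omega) (by omega) hc2, e2, mul_assoc]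
            exact ⟨e1, rfl⟩
        obtain ⟨e1, e2⟩ := key (gtS i j) (gtS_bound h4 (show j < i by omega))
        rw [ih i a (j + 1) _ (by rw [e1]; omega) (by rw [e1]; omega) (by omega) h4, e2, ← mul_assoc (xg certG2 (6 + j) b),
          ← mul_assoc, ← mul_assoc, ← gt_swap h4 (show j < i by omega) a b]

/-- Normal form of a word of root elements given by positions. -/
def gtNf : List (ℕ × K) → List K
  | [] => [0, 0, 0, 0, 0, 0]
  | (i, a) :: w => gtIns 8 i a 0 (gtNf w)

/-- The value of a word. -/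
noncomputable def gtVal (w : List (ℕ × K)) : GL chevG2.Idx K :=
  (w.map fun p => xg certG2 (6 + p.1) p.2).prod

omit [CharP K 2] in
theorem gtVal_append (v w : List (ℕ × K)) : gtVal (v ++ w) = gtVal v * gtVal w := by simp [gtVal]

omit [CharP K 2] in
theorem gtNf_length (w : List (ℕ × K)) : (gtNf w).length = 6 := by
  induction w with
  | nil => rfl
  | cons p w ih => obtain ⟨i, a⟩ := p; rw [gtNf, gtIns_length, ih]

theorem gtNf_prod {w : List (ℕ × K)} (hw : ∀ p ∈ w, p.1 < 6) : gtProd 0 (gtNf w) = gtVal w := by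
  induction w with
  | nil => simp [gtNf, gtProd, gtVal, xg_zero]
  | cons p w ih =>
    obtain ⟨i, a⟩ := p
    rw [gtNf, gtIns_prod 8 i a 0 _ (by rw [gtNf_length]; omega) (by rw [gtNf_length]) (Nat.zero_le _)
      (hw (i, a) (List.mem_cons_self ..)), ih fun q hq => hw q (List.mem_cons_of_mem _ hq)]
    simp [gtVal]

omit [CharP K 2] in
theorem gtProd_six (x0 x1 x2 x3 x4 x5 : K) : gtProd 0 [x0, x1, x2, x3, x4, x5] =
    lprod certG2 [6, 7, 8, 9, 10, 11] (fun r => [x0, x1, x2, x3, x4, x5].getD (r - 6) 0) := by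
  simp [gtProd, lprod_cons, lprod]

/-- The parameters are determined by the product. -/
theorem gtProd_inj {v w : List K} (hv : v.length = 6) (hw : w.length = 6) (h : gtProd 0 v = gtProd 0 w) : v = w := by
  rcases v with _ | ⟨a0, _ | ⟨a1, _ | ⟨a2, _ | ⟨a3, _ | ⟨a4, _ | ⟨a5, v⟩⟩⟩⟩⟩⟩ <;> simp at hv
  rcases w with _ | ⟨b0, _ | ⟨b1, _ | ⟨b2, _ | ⟨b3, _ | ⟨b4, _ | ⟨b5, w⟩⟩⟩⟩⟩⟩ <;> simp at hw
  subst hv hw
  rw [gtProd_six, gtProd_six] at h
  have := lprod_inj certG2 fullCertG2.comm (by decide)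
    (by
      have hall : ∀ r ∈ [6, 7, 8, 9, 10, 11], 6 ≤ r ∧ r < 12 := by decide
      exact hall) h
  have h0 := this 6 (by simp)
  have h1 := this 7 (by simp)
  have h2 := this 8 (by simp)
  have h3 := this 9 (by simp)
  have h4 := this 10 (by simp)
  have h5 := this 11 (by simp)
  simp at h0 h1 h2 h3 h4 h5
  simp [*]

theorem gtNf_unique {w : List (ℕ × K)} (hw : ∀ p ∈ w, p.1 < 6) {v : List (ℕ × K)} (hv : ∀ p ∈ v, p.1 < 6)
    (h : gtVal w = gtVal v) : gtNf w = gtNf v :=
  gtProd_inj (gtNf_length w) (gtNf_length v) (by rw [gtNf_prod hw, gtNf_prod hv, h])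

/-- The word of an element. -/
def gtEW (b a c d e g : K) : List (ℕ × K) := [(0, b), (1, a), (2, c), (3, d), (4, e), (5, g)]

/-- An element in normal form. -/
noncomputable def gtE (b a c d e g : K) : GL chevG2.Idx K := gtVal (gtEW b a c d e g)

omit [CharP K 2] in
theorem gtEW_lt (b a c d e g : K) : ∀ x ∈ gtEW b a c d e g, x.1 < 6 := by
  intro x hx
  simp only [gtEW, List.mem_cons, List.not_mem_nil, or_false] at hx
  rcases hx with rfl | rfl | rfl | rfl | rfl | rfl <;> simp

/-- Every positive element has a normal form. -/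
theorem gt_pos_form {u : GL chevG2.Idx K} (hu : u ∈ chevG2.posUnipotent K) :
    ∃ b a c d e g : K, u = gtE b a c d e g := by
  have hw : ∃ w : List (ℕ × K), (∀ p ∈ w, p.1 < 6) ∧ gtVal w = u := by
    rw [posUnipotent_eq certG2, upper] at hu
    have hs : ∀ r < 12, 6 ≤ r → ∃ i < 6, 6 + i = r := fun r h1 h2 => ⟨r - 6, by omega, by omega⟩
    induction hu using Subgroup.closure_induction'' with
    | mem a ha =>
      obtain ⟨r, t, h1, h2, rfl⟩ := ha
      obtain ⟨i, hi, rfl⟩ := hs r h2 h1
      exact ⟨[(i, t)], fun p hp => by simp at hp; subst hp; exact hi, by simp [gtVal]⟩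
    | inv_mem a ha =>
      obtain ⟨r, t, h1, h2, rfl⟩ := ha
      obtain ⟨i, hi, rfl⟩ := hs r h2 h1
      exact ⟨[(i, -t)], fun p hp => by simp at hp; subst hp; exact hi, by simp [gtVal, xg_inv]⟩
    | one => exact ⟨[], by simp, rfl⟩
    | mul a b _ _ iha ihb =>
      obtain ⟨v, hv, rfl⟩ := iha
      obtain ⟨w, hw, rfl⟩ := ihb
      exact ⟨v ++ w, fun p hp => (List.mem_append.1 hp).elim (hv p) (hw p), gtVal_append v w⟩
  obtain ⟨w, hw, rfl⟩ := hw
  have hlen := gtNf_length w
  rw [← gtNf_prod hw]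
  revert hlen
  generalize gtNf w = l
  intro hlen
  rcases l with _ | ⟨x0, _ | ⟨x1, _ | ⟨x2, _ | ⟨x3, _ | ⟨x4, _ | ⟨x5, l⟩⟩⟩⟩⟩⟩ <;> simp at hlen
  subst hlen
  exact ⟨x0, x1, x2, x3, x4, x5, by simp [gtProd, gtE, gtEW, gtVal]⟩

/-- An identity of products of positive words. -/
theorem gt_eq {v w : List (ℕ × K)} (hv : ∀ p ∈ v, p.1 < 6) (hw : ∀ p ∈ w, p.1 < 6) (h : gtNf v = gtNf w) :
    gtVal v = gtVal w := by rw [← gtNf_prod hv, ← gtNf_prod hw, h]

end Cfsg.Lib.Chev
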