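import Cfsg.Agent.Lib.Chev.G2FourHom

/-!
The action of the group of type G2 over the field of order four on the nonzero vectors.
-/

set_option autoImplicit false
set_option linter.unusedSectionVars false

namespace Cfsg.Lib.Chev.G2Four

open Cfsg.Lie

universe u

/-- A moved basis vector shows that a map is not the identity. -/
theorem order_witness (M : List ℕ) (h : ((List.range 12).any fun i => app M (2 ^ i) != 2 ^ i) = true) :
    ∃ v, v < 4096 ∧ app M v ≠ v := by
  simp only [List.any_eq_true, List.mem_range, bne_iff_ne] at h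
  obtain ⟨i, hi, hne⟩ := h
  exact ⟨2 ^ i, lt_of_lt_of_le (Nat.pow_lt_pow_right (by norm_num) hi) (by norm_num), hne⟩

variable {F : Type u} [Field F] [Fintype F]

theorem exists_action (hF : Fintype.card F = 4) :
    ∃ φ : ↥(chevG2.group F) →* MulAut Vec,
      (∀ v w : Vec, v ≠ 1 → w ≠ 1 → ∃ g, φ g v = w) ∧
      (∃ g, orderOf (φ g) = 6) ∧ (∃ g, orderOf (φ g) = 10) := by
  classical
  obtain ⟨w, ok⟩ := exists_code hF
  have hcode : ∀ c < 4, ∃ t : F, code w t = c := by
    have hinj : Function.Injective fun t : F => code w t := fun t u h => by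
      simp only at h
      have h0 : code w (t + u) = 0 := by rw [ok.add, h, Nat.xor_self]
      by_contra hne
      have := ok.nz (t + u) fun e => hne (by linear_combination e - u * ok.two)
      rw [h0] at this
      simp at this
    have hb : Function.Bijective fun t : F => (⟨code w t, ok.lt t⟩ : Fin 4) :=
      (Fintype.bijective_iff_injective_and_card _).2
        ⟨fun t u h => hinj (congrArg Fin.val h), by rw [hF, Fintype.card_fin]⟩
    intro c hc
    obtain ⟨t, ht⟩ := hb.2 ⟨c, hc⟩
    exact ⟨t, congrArg Fin.val ht⟩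
  let C := fullCertG2.comm.cert
  let π := stHom C fullCertG2.comm (F := F)
  have hπ : ∀ r < chevG2.nroots, ∀ t, π (chevG2.stGen F r t) = xg C r t := fun r hr t =>
    stHom_gen C fullCertG2.comm hr t
  let π' : chevG2.SteinbergGroup F →* ↥(chevG2.group F) := π.codRestrict _ fun g =>
    (stHom_range C fullCertG2 π hπ).le ⟨g, rfl⟩
  have hsurj : Function.Surjective π' := fun y => by
    obtain ⟨g, hg⟩ := (stHom_range C fullCertG2 π hπ).ge y.2
    exact ⟨g, Subtype.ext hg⟩
  have hker : π'.ker ≤ (repHom ok).ker := fun g hg => by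
    have hg' : π g = 1 := congrArg Subtype.val hg
    have hc := (st_ker_le C fullCertG2 (by decide +kernel) π hπ hg').2
    have ht := Cfsg.Agent.S1097.result chevG2 (by simp) π' (fun r t hr => by
      show ((π (chevG2.stGen F r t) : GL chevG2.Idx F) : Matrix chevG2.Idx chevG2.Idx F) = _
      rw [hπ r hr t, coe_xg C r t]) hg
    exact torus_central ok ht hc hcode
  let φ := π'.liftOfSurjective hsurj ⟨repHom ok, hker⟩
  have hφ : ∀ g, φ (π' g) = repHom ok g := fun g =>
    MonoidHom.liftOfRightInverse_comp_apply _ _ _ _ g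
  -- the orbit
  let P : ℕ → Prop := fun v => ∃ g, (φ g ⟨1, by norm_num⟩).val = v
  have hgens : ∀ M ∈ orbGens, ∀ v, P v → P (app M v) := by
    have key : ∀ r < 12, ∀ c < 4, ∀ v, P v → P (app (mat r c) v) := by
      intro r _ c hc v hv
      obtain ⟨g, hg⟩ := hv
      obtain ⟨t, rfl⟩ := hcode c hc
      refine ⟨π' (chevG2.stGen F r t) * g, ?_⟩
      rw [map_mul, MulAut.mul_apply, hφ, repHom_stGen, hg]
    intro M hM
    simp only [orbGens, List.mem_cons, List.not_mem_nil, or_false] at hM
    rcases hM with rfl | rfl | rfl | rfl | rfl | rfl | rfl | rfl <;> exact key _ (by norm_num) _ (by norm_num)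
  let Good : ℕ → Prop := fun m => ∀ v, m.testBit v = true → P v
  have hvisit : ∀ m u, Good m → Good (visit m u) := by
    intro m u hm
    simp only [visit]
    cases hu : m.testBit u with
    | false => exact hm
    | true =>
      have : ∀ (l : List (List ℕ)), (∀ M ∈ l, ∀ v, P v → P (app M v)) → ∀ m', Good m' →
          Good (l.foldl (fun m g => m ||| 2 ^ app g u) m') := by
        intro l
        induction l with
        | nil => exact fun _ m' h' => h'
        | cons M l ih =>
          intro hl m' h'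
          refine ih (fun N hN => hl N (List.mem_cons_of_mem _ hN)) _ fun v hv => ?_
          simp only [Nat.testBit_or, Bool.or_eq_true, Nat.testBit_two_pow, decide_eq_true_eq] at hv
          rcases hv with hv | hv
          · exact h' v hv
          · exact hv ▸ hl M List.mem_cons_self u (hm u hu)
      exact this orbGens hgens m hm
  have hforce : ∀ {α : Type} (m : ℕ) (k : ℕ → α), force m k = k m := fun m k => by cases m <;> rfl
  have hfold : ∀ (f : ℕ → ℕ → ℕ), (∀ m x, Good m → Good (f m x)) → ∀ l m, Good m → Good (foldS f l m) := by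
    intro f hf l
    induction l with
    | nil => exact fun m h => h
    | cons x l ih => intro m h; rw [foldS, hforce]; exact ih _ (hf m x h)
  have hsweep : ∀ m, Good m → Good (sweep m) := fun m h =>
    hfold _ (fun m i h => hfold _ (fun m j h => hvisit m _ h) _ m h) _ m h
  have hfin : Good (2 ^ 4096 - 2) := by
    rw [← sweep_true, hforce, hforce]
    refine hsweep _ (hsweep _ (hsweep _ fun v hv => ?_))
    rw [show (2 : ℕ) = 2 ^ 1 by norm_num, Nat.testBit_two_pow, decide_eq_true_eq] at hv
    exact ⟨1, by rw [map_one, ← hv]; rfl⟩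
  have hall : ∀ v : Vec, v ≠ 1 → P v.val := by
    intro v hv
    refine hfin v.val ?_
    have h0 : v.val ≠ 0 := fun e => hv (Vec.eq e)
    rw [show (2 ^ 4096 - 2 : ℕ) = 2 ^ 4096 - (1 + 1) by norm_num,
      Nat.testBit_two_pow_sub_succ (Nat.one_lt_two_pow (by norm_num))]
    rw [Bool.and_eq_true, decide_eq_true_eq, Bool.not_eq_true', Nat.testBit_lt_two_pow]
    · exact ⟨v.lt, rfl⟩
    · exact Nat.one_lt_two_pow h0
  have hord : ∀ (l : List (ℕ × F)) (n : ℕ), 0 < n →
      (∀ v : Vec, (((repHom ok (PresentedGroup.mk _ (chevG2.stWord l))) ^ n) v).val = v.val) →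
      (∀ m, m ∈ n.properDivisors → ∃ v : Vec,
        (((repHom ok (PresentedGroup.mk _ (chevG2.stWord l))) ^ m) v).val ≠ v.val) →
      ∃ g, orderOf (φ g) = n := by
    intro l n hn h1 h2
    refine ⟨π' (PresentedGroup.mk _ (chevG2.stWord l)), ?_⟩
    rw [hφ]
    have hpow : (repHom ok (PresentedGroup.mk _ (chevG2.stWord l))) ^ n = 1 :=
      MulEquiv.ext fun v => Vec.eq (h1 v)
    by_contra hne
    obtain ⟨v, hv⟩ := h2 _ (Nat.mem_properDivisors.2 ⟨orderOf_dvd_of_pow_eq_one hpow,
      lt_of_le_of_ne (Nat.le_of_dvd hn (orderOf_dvd_of_pow_eq_one hpow)) hne⟩)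
    exact hv (by rw [pow_orderOf_eq_one]; rfl)
  have hpw : ∀ (l : List (ℕ × F)) (n : ℕ) (v : Vec),
      (((repHom ok (PresentedGroup.mk _ (chevG2.stWord l))) ^ n) v).val =
        ((app (wordC w l))^[n]) v.val := by
    intro l n
    induction n with
    | zero => intro v; rfl
    | succ n ih => intro v; rw [pow_succ, MulAut.mul_apply, ih, repHom_mk, Function.iterate_succ_apply]
  have hlist : ∀ (l : List (ℕ × F)) (n : ℕ) (v : Vec),
      ((app (wordC w l))^[n]) v.val = app (((mulM (wordC w l))^[n]) idM) v.val := by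
    intro l n v
    induction n with
    | zero => exact (app_idM v.lt).symm
    | succ n ih => rw [Function.iterate_succ_apply', Function.iterate_succ_apply', app_mulM, ih]
  have hord' : ∀ (l : List (ℕ × F)) (M : List ℕ) (n : ℕ), 0 < n → wordC w l = M →
      ((mulM M)^[n]) idM = idM →
      (∀ m, m ∈ n.properDivisors → ∃ v, v < 4096 ∧ app (((mulM M)^[m]) idM) v ≠ v) →
      ∃ g, orderOf (φ g) = n := by
    rintro l M n hn rfl h1 h2
    refine hord l n hn (fun v => by rw [hpw, hlist, h1, app_idM v.lt]) fun m hm => ?_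
    obtain ⟨v, hv, hne⟩ := h2 m hm
    exact ⟨⟨v, hv⟩, by rw [hpw, hlist]; exact hne⟩
  refine ⟨φ, fun v v' hv hv' => ?_, ?_, ?_⟩
  · obtain ⟨g, hg⟩ := hall v hv
    obtain ⟨g', hg'⟩ := hall v' hv'
    refine ⟨g' * g⁻¹, ?_⟩
    rw [map_mul, MulAut.mul_apply, map_inv]
    have : (φ g)⁻¹ v = ⟨1, by norm_num⟩ := by
      rw [← show φ g ⟨1, by norm_num⟩ = v from Vec.eq hg, MulAut.inv_apply_self]
    rw [this]
    exact Vec.eq hg'
  · obtain ⟨t, ht⟩ := hcode 1 (by norm_num)
    refine hord' [(6, t), (7, t), (0, t)] (wordM [(6, 1), (7, 1), (0, 1)]) 6 (by norm_num)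
      (by simp [wordC, ht]) (by decide +kernel) ?_
    intro m hm
    rw [show Nat.properDivisors 6 = {1, 2, 3} by decide] at hm
    simp only [Finset.mem_insert, Finset.mem_singleton] at hm
    rcases hm with rfl | rfl | rfl
    all_goals exact order_witness _ (by decide +kernel)
  · obtain ⟨t1, ht1⟩ := hcode 1 (by norm_num)
    obtain ⟨t2, ht2⟩ := hcode 2 (by norm_num)
    obtain ⟨t3, ht3⟩ := hcode 3 (by norm_num)
    refine hord' [(4, t3), (7, t1), (8, t2)] (wordM [(4, 3), (7, 1), (8, 2)]) 10 (by norm_num)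
      (by simp [wordC, ht1, ht2, ht3]) (by decide +kernel) ?_
    intro m hm
    rw [show Nat.properDivisors 10 = {1, 2, 5} by decide] at hm
    simp only [Finset.mem_insert, Finset.mem_singleton] at hm
    rcases hm with rfl | rfl | rfl
    all_goals exact order_witness _ (by decide +kernel)

end Cfsg.Lib.Chev.G2Four
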