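import Cfsg.Agent.Lib.Chev.G2FourRep
import Cfsg.Agent.Lib.Chev.Presentation.Steinberg
import Cfsg.Agent.Lib.Chev.FullG2
import Cfsg.Agent.S1059
import Cfsg.Agent.S1097

/-!
The group of type G2 over the field of order four acts linearly on a space with 4096 vectors, transitively on the
nonzero ones; so its elements of orders 7 and 13 fix no nonzero vector.
-/

set_option autoImplicit false
set_option linter.unusedSectionVars false

namespace Cfsg.Lib.Chev.G2Four

open Cfsg.Lie

/-- A vector. -/
structure Vec where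
  /-- The number of the vector. -/
  val : ℕ
  /-- The number is small. -/
  lt : val < 4096

theorem Vec.eq {a b : Vec} (h : a.val = b.val) : a = b := by cases a; cases b; cases h; rfl

/-- Vectors as numbers below 4096. -/
def vecEquiv : Vec ≃ Fin 4096 := ⟨fun v => ⟨v.val, v.lt⟩, fun v => ⟨v.1, v.2⟩, fun _ => rfl, fun _ => rfl⟩

instance : Finite Vec := Finite.of_equiv _ vecEquiv.symm

instance : Mul Vec := ⟨fun a b => ⟨a.val ^^^ b.val, Nat.xor_lt_two_pow (n := 12) a.lt b.lt⟩⟩

instance : One Vec := ⟨⟨0, by norm_num⟩⟩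

instance : Inv Vec := ⟨fun a => a⟩

instance : CommGroup Vec where
  mul_assoc a b c := Vec.eq (Nat.xor_assoc _ _ _)
  one_mul a := Vec.eq (Nat.zero_xor _)
  mul_one a := Vec.eq (Nat.xor_zero _)
  mul_comm a b := Vec.eq (Nat.xor_comm _ _)
  inv_mul_cancel a := Vec.eq (Nat.xor_self _)

theorem card_vec : Nat.card Vec = 4096 := by rw [Nat.card_congr vecEquiv, Nat.card_fin]

theorem mul_self_vec (v : Vec) : v * v = 1 := Vec.eq (Nat.xor_self _)

variable {F : Type*} [Field F]

/-- The number of an element of the field of order four. -/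
noncomputable def code (w t : F) : ℕ :=
  open Classical in if t = 0 then 0 else if t = 1 then 1 else if t = w then 2 else 3

variable [Fintype F]

/-- The arithmetic of the field of order four. -/
structure CodeOK (w : F) : Prop where
  two : (2 : F) = 0
  add : ∀ t u : F, code w (t + u) = code w t ^^^ code w u
  mul : ∀ t u : F, code w (t * u) = cmul (code w t) (code w u)
  inv : ∀ t : F, code w t⁻¹ = cinv (code w t)
  one : code w (1 : F) = 1
  zero : code w (0 : F) = 0
  lt : ∀ t : F, code w t < 4
  nz : ∀ t : F, t ≠ 0 → code w t ∈ [1, 2, 3]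

theorem exists_code (hF : Fintype.card F = 4) : ∃ w : F, CodeOK w := by
  classical
  have h4 : (4 : F) = 0 := by
    have h := Nat.cast_card_eq_zero F
    rw [hF] at h
    exact_mod_cast h
  have h2 : (2 : F) = 0 := by
    have : (2 : F) * 2 = 0 := by rw [← h4]; norm_num
    simpa using this
  obtain ⟨w, hw⟩ : ∃ w : F, w ∉ ({0, 1} : Finset F) := Finset.exists_mem_notMem_of_card_lt_card (t := Finset.univ)
    (by have := Finset.card_le_two (a := (0 : F)) (b := 1); rw [Finset.card_univ, hF]; omega) |>.imp fun _ h => h.2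
  simp only [Finset.mem_insert, Finset.mem_singleton, not_or] at hw
  obtain ⟨w0, w1⟩ := hw
  have hw3 : w ^ 3 = 1 := by
    have h := FiniteField.pow_card_sub_one_eq_one w w0
    rwa [hF] at h
  have hww : w * w = w + 1 := by
    have : (w - 1) * (w * w + w + 1) = 0 := by linear_combination hw3
    rcases mul_eq_zero.1 this with h | h
    · exact absurd (sub_eq_zero.1 h) w1
    · linear_combination h - (w + 1) * h2
  have w2 : w + 1 ≠ 0 := fun h => w1 (by linear_combination h - h2)
  have w3 : w + 1 ≠ 1 := fun h => w0 (by linear_combination h)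
  have w4 : w + 1 ≠ w := fun h => one_ne_zero (α := F) (by linear_combination h)
  have hall : ∀ t : F, t = 0 ∨ t = 1 ∨ t = w ∨ t = w + 1 := by
    intro t
    by_contra hne
    simp only [not_or] at hne
    obtain ⟨a, b, c, d⟩ := hne
    have hc : ({0, 1, w, w + 1, t} : Finset F).card ≤ 4 := hF ▸ Finset.card_le_univ _
    rw [Finset.card_insert_of_notMem, Finset.card_insert_of_notMem, Finset.card_insert_of_notMem,
      Finset.card_insert_of_notMem, Finset.card_singleton] at hc
    · omega
    all_goals simp [w0, w1, w2, w3, w4, a, b, c, d, Ne.symm w0, Ne.symm w1, Ne.symm w2, Ne.symm w3, Ne.symm w4,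
      Ne.symm a, Ne.symm b, Ne.symm c, Ne.symm d]
  have c0 : code w (0 : F) = 0 := by simp [code]
  have c1 : code w (1 : F) = 1 := by simp [code]
  have c2 : code w w = 2 := by simp [code, w0, w1]
  have c3 : code w (w + 1) = 3 := by simp [code, w2, w3, w4]
  have e1 : (1 : F) + 1 = 0 := by linear_combination h2
  have e2 : w + w = 0 := by linear_combination w * h2
  refine ⟨w, ⟨h2, ?_, ?_, ?_, c1, c0, ?_, ?_⟩⟩
  · intro t u
    have e3 : (1 : F) + w = w + 1 := add_comm _ _
    have e4 : w + (w + 1) = 1 := by linear_combination w * h2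
    have e5 : (w + 1) + w = 1 := by linear_combination w * h2
    have e6 : 1 + (w + 1) = w := by linear_combination h2
    have e7 : (w + 1) + 1 = w := by linear_combination h2
    have e8 : (w + 1) + (w + 1) = 0 := by linear_combination (w + 1) * h2
    rcases hall t with rfl | rfl | rfl | rfl <;> rcases hall u with rfl | rfl | rfl | rfl <;>
      simp [e1, e2, e3, e4, e5, e6, e7, e8, c0, c1, c2, c3]
  · intro t u
    have e3 : w * (w + 1) = 1 := by linear_combination hww + w * h2
    have e4 : (w + 1) * w = 1 := by linear_combination hww + w * h2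
    have e5 : (w + 1) * (w + 1) = w := by linear_combination hww + (w + 1) * h2
    rcases hall t with rfl | rfl | rfl | rfl <;> rcases hall u with rfl | rfl | rfl | rfl <;>
      simp [hww, e3, e4, e5, c0, c1, c2, c3, cmul]
  · intro t
    have e3 : w⁻¹ = w + 1 := inv_eq_of_mul_eq_one_right (by linear_combination hww + w * h2)
    have e4 : (w + 1)⁻¹ = w := inv_eq_of_mul_eq_one_right (by linear_combination hww + w * h2)
    rcases hall t with rfl | rfl | rfl | rfl <;> simp [e3, e4, c0, c1, c2, c3, cinv]
  · intro t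
    rcases hall t with rfl | rfl | rfl | rfl <;> simp [c0, c1, c2, c3]
  · intro t ht
    rcases hall t with rfl | rfl | rfl | rfl <;> simp_all

variable {w : F}

theorem cmul_assoc {k a b : ℕ} (hk : k < 2) (ha : a < 4) (hb : b < 4) :
    cmul (cmul k a) b = cmul k (cmul a b) := by
  interval_cases k <;> interval_cases a <;> interval_cases b <;> rfl

theorem CodeOK.neg (ok : CodeOK w) (t : F) : code w (-t) = code w t :=
  congrArg _ (by linear_combination (-t) * ok.two)

theorem CodeOK.pow (ok : CodeOK w) (t : F) : ∀ n : ℕ, code w (t ^ n) = cpow (code w t) n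
  | 0 => by simp [cpow, ok.one]
  | n + 1 => by rw [pow_succ, ok.mul, ok.pow t n, cpow]

theorem CodeOK.intCast (ok : CodeOK w) (z : ℤ) : code w (z : F) = z.natAbs % 2 := by
  have h : (z : F) = ((z.natAbs % 2 : ℕ) : F) := by
    have hn : ((z.natAbs : ℕ) : F) = ((z.natAbs % 2 : ℕ) : F) := by
      conv_lhs => rw [← Nat.mod_add_div z.natAbs 2]
      simp [ok.two]
    rcases Int.natAbs_eq z with e | e
    · rw [← hn]; conv_lhs => rw [e]
      simp
    · rw [← hn]; conv_lhs => rw [e]
      rw [Int.cast_neg, Int.cast_natCast]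
      linear_combination (-((z.natAbs : ℕ) : F)) * ok.two
  rw [h]
  rcases Nat.mod_two_eq_zero_or_one z.natAbs with e | e <;> simp [e, ok.zero, ok.one]

theorem mat_facts {r a : ℕ} (hr : r < 12) (ha : a < 4) :
    (∀ m ∈ mat r a, m < 4096) ∧ mat r 0 = idM ∧ ∀ b < 4, mulM (mat r a) (mat r b) = mat r (a ^^^ b) := by
  have h := chkAdd_true
  simp only [chkAdd, List.all_eq_true, List.mem_range, Bool.and_eq_true] at h
  obtain ⟨⟨h1, h2⟩, h3⟩ := h r hr a ha
  refine ⟨fun m hm => ?_, eq_of_beq h2, fun b hb => eq_of_beq (h3 b hb)⟩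
  have := h1 m hm
  simpa [Nat.blt_eq] using this

theorem invol_app (ok : CodeOK w) (r : Fin chevG2.nroots) (t : F) {v : ℕ} (hv : v < 4096) :
    app (mat r (code w t)) (app (mat r (code w t)) v) = v := by
  obtain ⟨_, h0, hmul⟩ := mat_facts (r := r.1) r.2 (ok.lt t)
  rw [← app_mulM, hmul _ (ok.lt t), Nat.xor_self, h0, app_idM hv]

/-- The action of a root element. -/
noncomputable def gen (ok : CodeOK w) (p : Fin chevG2.nroots × F) : MulAut Vec where
  toFun v := ⟨app (mat p.1 (code w p.2)) v.val, app_lt _ (mat_facts (r := p.1.1) p.1.2 (ok.lt p.2)).1 _⟩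
  invFun v := ⟨app (mat p.1 (code w p.2)) v.val, app_lt _ (mat_facts (r := p.1.1) p.1.2 (ok.lt p.2)).1 _⟩
  left_inv v := Vec.eq (invol_app ok p.1 p.2 v.lt)
  right_inv v := Vec.eq (invol_app ok p.1 p.2 v.lt)
  map_mul' a b := Vec.eq (app_xor _ a.val b.val)

/-- The map of a word with entries in the field. -/
noncomputable def wordC (w : F) (l : List (ℕ × F)) : List ℕ := wordM (l.map fun p => (p.1, code w p.2))

theorem lift_word (ok : CodeOK w) : ∀ (l : List (ℕ × F)) (v : Vec),
    (FreeGroup.lift (gen ok) (chevG2.stWord l) v).val = app (wordC w l) v.val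
  | [], v => by
    simp only [ChevalleyDatum.stWord, List.map_nil, List.prod_nil, map_one, wordC, wordM, List.foldr_nil]
    exact (app_idM v.lt).symm
  | (r, t) :: l, v => by
    have ih := lift_word ok l v
    simp only [ChevalleyDatum.stWord, List.map_cons, List.prod_cons, map_mul] at ih ⊢
    simp only [wordC, wordM, List.map_cons, List.foldr_cons, app_mulM]
    simp only [wordC, wordM] at ih
    rw [← ih]
    by_cases hr : r < chevG2.nroots
    · rw [ChevalleyDatum.stX, dif_pos hr, FreeGroup.lift_apply_of]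
      rfl
    · rw [ChevalleyDatum.stX, dif_neg hr, map_one]
      have hm : mat r (code w t) = idM := by
        rw [mat, List.getD_eq_default _ [] (by show rootTbl.length ≤ r; exact le_trans (le_of_eq rfl) (not_lt.1 hr))]
        simp
      rw [hm, app_idM (Vec.lt _)]
      rfl

theorem lift_stX_inv (ok : CodeOK w) (r : ℕ) (t : F) :
    (FreeGroup.lift (gen ok) (chevG2.stX r t))⁻¹ = FreeGroup.lift (gen ok) (chevG2.stX r t) := by
  rw [ChevalleyDatum.stX]
  split
  · next hr =>
    rw [FreeGroup.lift_apply_of]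
    exact inv_eq_of_mul_eq_one_right (MulEquiv.ext fun v => Vec.eq (invol_app ok ⟨r, hr⟩ t v.lt))
  · simp

theorem lift_eq_of_wordC (ok : CodeOK w) {l l' : List (ℕ × F)} (h : wordC w l = wordC w l') :
    FreeGroup.lift (gen ok) (chevG2.stWord l) = FreeGroup.lift (gen ok) (chevG2.stWord l') :=
  MulEquiv.ext fun v => Vec.eq (by rw [lift_word ok, lift_word ok, h])

theorem gen_rels (ok : CodeOK w) : ∀ g ∈ chevG2.steinbergRels F, FreeGroup.lift (gen ok) g = 1 := by
  rintro g ((⟨r, t, u, hr, rfl⟩ | ⟨r, s, t, u, hr, hs, h1, h2, rfl⟩) | ⟨r, a, b, hr, ha, hb, rfl⟩)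
  · rw [map_mul, map_inv, mul_inv_eq_one, map_mul]
    refine MulEquiv.ext fun v => Vec.eq ?_
    simp only [ChevalleyDatum.stX, dif_pos hr, FreeGroup.lift_apply_of]
    show app (mat r (code w t)) (app (mat r (code w u)) v.val) = app (mat r (code w (t + u))) v.val
    rw [← app_mulM, (mat_facts hr (ok.lt t)).2.2 _ (ok.lt u), ok.add]
  · rw [map_mul, map_inv, mul_inv_eq_one, map_mul, map_mul, map_mul, map_inv, map_inv, lift_stX_inv, lift_stX_inv]
    have hl : FreeGroup.lift (gen ok) (chevG2.stWord [(s, u), (r, t), (s, u), (r, t)]) =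
        FreeGroup.lift (gen ok) (chevG2.stWord (chevG2.commWord F r s t u)) := by
      refine lift_eq_of_wordC ok ?_
      have h := chkComm_true
      simp only [chkComm, List.all_eq_true, List.mem_range, Bool.or_eq_true, beq_iff_eq] at h
      rcases h r hr s hs with (e | e) | e
      · exact absurd e h1
      · exact absurd e h2
      · have e' := e (code w t) (ok.lt t) (code w u) (ok.lt u)
        simp only [wordC, List.map_cons, List.map_nil]
        rw [e', ChevalleyDatum.commWord, rhsW, List.map_map]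
        congr 1
        refine List.map_congr_left fun c _ => ?_
        simp only [Function.comp_apply, ok.mul, ok.pow, ok.neg, ok.intCast, Prod.mk.injEq, true_and]
        have e1 := ok.pow t c.2.2.1
        have e2 := ok.pow u c.2.2.2
        exact (cmul_assoc (Nat.mod_lt _ two_pos) (e1 ▸ ok.lt _) (e2 ▸ ok.lt _)).symm
    simpa [ChevalleyDatum.stWord, mul_assoc] using hl
  · rw [map_mul, map_inv, mul_inv_eq_one, map_mul]
    refine MulEquiv.ext fun v => Vec.eq ?_
    have hw : ∀ c : F, wordC w (chevG2.hWord r c) = hM r (code w c) := fun c => by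
      simp [wordC, hM, ChevalleyDatum.hWord, ChevalleyDatum.nWord, ok.neg, ok.inv, ok.one]
    simp only [ChevalleyDatum.stH]
    show (FreeGroup.lift (gen ok) _ (FreeGroup.lift (gen ok) _ v)).val = _
    rw [lift_word, lift_word, lift_word, hw, hw, hw, ← app_mulM, ok.mul]
    have h := chkMul_true
    simp only [chkMul, List.all_eq_true, List.mem_range, beq_iff_eq] at h
    rw [h r hr _ (ok.nz a ha) _ (ok.nz b hb)]

/-- The action of the presented group. -/
noncomputable def repHom (ok : CodeOK w) : chevG2.SteinbergGroup F →* MulAut Vec :=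
  PresentedGroup.toGroup (gen_rels ok)

/-- The image of a word is the map of the word. -/
theorem repHom_mk (ok : CodeOK w) (l : List (ℕ × F)) (v : Vec) :
    (repHom ok (PresentedGroup.mk _ (chevG2.stWord l)) v).val = app (wordC w l) v.val :=
  lift_word ok l v

theorem repHom_stGen (ok : CodeOK w) (r : ℕ) (t : F) (v : Vec) :
    (repHom ok (chevG2.stGen F r t) v).val = app (mat r (code w t)) v.val := by
  have h := repHom_mk ok [(r, t)] v
  simp only [ChevalleyDatum.stWord, List.map_cons, List.map_nil, List.prod_cons, List.prod_nil, mul_one] at h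
  rw [ChevalleyDatum.stGen, h]
  simp only [wordC, wordM, List.map_cons, List.map_nil, List.foldr_cons, List.foldr_nil, app_mulM, app_idM v.lt]

theorem repHom_stH (ok : CodeOK w) (r : ℕ) (t : F) (v : Vec) :
    (repHom ok (PresentedGroup.mk _ (chevG2.stH r t)) v).val = app (hM r (code w t)) v.val := by
  rw [ChevalleyDatum.stH, repHom_mk]
  simp [wordC, hM, ChevalleyDatum.hWord, ChevalleyDatum.nWord, ok.neg, ok.inv, ok.one]

theorem one_val (v : Vec) : ((1 : MulAut Vec) v).val = v.val := rfl

theorem ext_of_app_aux : ∀ (n : ℕ) (L L' : List ℕ), L.length = n → L'.length = n →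
    (∀ v, v < 2 ^ n → app L v = app L' v) → L = L'
  | 0, L, L', hl, hl', _ => by rw [List.length_eq_zero_iff.1 hl, List.length_eq_zero_iff.1 hl']
  | n + 1, [], _, hl, _, _ => by simp at hl
  | n + 1, _ :: _, [], _, hl', _ => by simp at hl'
  | n + 1, m :: M, m' :: M', hl, hl', h => by
    simp only [List.length_cons, Nat.add_right_cancel_iff] at hl hl'
    have h1 := h 1 (Nat.one_lt_two_pow (by omega))
    simp [app, app_zero] at h1
    refine List.cons_eq_cons.2 ⟨h1, ext_of_app_aux n M M' hl hl' fun u hu => ?_⟩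
    have h2 := h (2 * u) (by rw [pow_succ]; omega)
    simpa [app, Nat.mul_mod_right, Nat.beq] using h2

theorem ext_of_app {L L' : List ℕ} (hl : L.length = 12) (hl' : L'.length = 12)
    (h : ∀ v, v < 4096 → app L v = app L' v) : L = L' :=
  ext_of_app_aux 12 L L' hl hl' h

theorem mat_length {r : ℕ} (hr : r < 12) {a : ℕ} (ha : a < 4) : (mat r a).length = 12 := by
  have h := congrArg List.length ((mat_facts hr ha).2.2 a ha)
  rw [Nat.xor_self, (mat_facts hr ha).2.1, mulM, List.length_map] at h
  exact h

theorem torus_mem (ok : CodeOK w) {g : chevG2.SteinbergGroup F}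
    (hg : g ∈ Subgroup.closure {h | ∃ (i : ℕ) (t : F), i < chevG2.rank ∧ t ≠ 0 ∧
      h = PresentedGroup.mk (chevG2.steinbergRels F) (chevG2.stH (chevG2.simple i) t)}) :
    ∃ a ∈ [1, 2, 3], ∃ b ∈ [1, 2, 3], ∀ v : Vec, (repHom ok g v).val = app (hh a b) v.val := by
  have h := chkTorus_true
  simp only [chkTorus, List.all_eq_true, Bool.and_eq_true, beq_iff_eq] at h
  obtain ⟨⟨⟨h1, hgen⟩, hmul⟩, -⟩ := h
  have hc : ∀ a ∈ [1, 2, 3], ∀ b ∈ [1, 2, 3], cmul a b ∈ [1, 2, 3] := by decide
  have hi : ∀ a ∈ [1, 2, 3], ∃ a' ∈ [1, 2, 3], cmul a' a = 1 := by decide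
  induction hg using Subgroup.closure_induction with
  | mem x hx =>
    obtain ⟨i, t, hi', ht, rfl⟩ := hx
    have ht' := ok.nz t ht
    obtain rfl | rfl : i = 0 ∨ i = 1 := by have : i < 2 := hi'; omega
    · exact ⟨code w t, ht', 1, by simp, fun v => by rw [repHom_stH, (hgen _ ht').1]; rfl⟩
    · exact ⟨1, by simp, code w t, ht', fun v => by rw [repHom_stH, (hgen _ ht').2]; rfl⟩
  | one => exact ⟨1, by simp, 1, by simp, fun v => by rw [map_one, h1, one_val, app_idM v.lt]⟩
  | mul x y _ _ ihx ihy =>
    obtain ⟨a, ha, b, hb, hab⟩ := ihx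
    obtain ⟨c, hc', d, hd, hcd⟩ := ihy
    refine ⟨cmul a c, hc a ha c hc', cmul b d, hc b hb d hd, fun v => ?_⟩
    rw [map_mul, MulAut.mul_apply, hab, hcd, ← app_mulM, hmul a ha b hb c hc' d hd]
  | inv x _ ih =>
    obtain ⟨a, ha, b, hb, hab⟩ := ih
    obtain ⟨a', ha', ea⟩ := hi a ha
    obtain ⟨b', hb', eb⟩ := hi b hb
    refine ⟨a', ha', b', hb', fun v => ?_⟩
    have e : app (hh a' b') (repHom ok x ((repHom ok x)⁻¹ v)).val = ((repHom ok x)⁻¹ v).val := by
      rw [hab, ← app_mulM, hmul a' ha' b' hb' a ha b hb, ea, eb, h1, app_idM (Vec.lt _)]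
    rw [MulAut.apply_inv_self] at e
    rw [map_inv, ← e]

/-- An element of the torus that is central acts trivially. -/
theorem torus_central (ok : CodeOK w) {g : chevG2.SteinbergGroup F}
    (hg : g ∈ Subgroup.closure {h | ∃ (i : ℕ) (t : F), i < chevG2.rank ∧ t ≠ 0 ∧
      h = PresentedGroup.mk (chevG2.steinbergRels F) (chevG2.stH (chevG2.simple i) t)})
    (hc : g ∈ Subgroup.center (chevG2.SteinbergGroup F))
    (hcode : ∀ c < 4, ∃ t : F, code w t = c) : repHom ok g = 1 := by
  obtain ⟨a, ha, b, hb, hab⟩ := torus_mem ok hg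
  have h := chkTorus_true
  simp only [chkTorus, List.all_eq_true, Bool.and_eq_true, Bool.or_eq_true, beq_iff_eq, List.any_eq_true,
    List.mem_range, bne_iff_ne] at h
  rcases h.2 a ha b hb with e | ⟨r, hr, c, hc4, hne⟩
  · exact MulEquiv.ext fun v => Vec.eq (by rw [hab, e, one_val, app_idM v.lt])
  · exfalso
    have hr : r < 12 := hr
    obtain ⟨t, rfl⟩ := hcode c hc4
    have hcomm : ∀ v : ℕ, v < 4096 →
        app (mulM (hh a b) (mat r (code w t))) v = app (mulM (mat r (code w t)) (hh a b)) v := by
      intro v hv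
      have e := congrArg (fun σ : MulAut Vec => (σ ⟨v, hv⟩).val)
        (congrArg (repHom ok) (Subgroup.mem_center_iff.1 hc (chevG2.stGen F r t)))
      simp only [map_mul, MulAut.mul_apply, repHom_stGen, hab] at e
      rw [app_mulM, app_mulM]
      exact e.symm
    refine hne (ext_of_app ?_ ?_ hcomm)
    · simp only [mulM, List.length_map]
      exact mat_length hr (ok.lt t)
    · simp only [mulM, List.length_map, hh, hM, wordM, List.foldr_cons, List.foldr_nil]
      rfl

end Cfsg.Lib.Chev.G2Four
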