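import Cfsg.Prelude.Def_Steinberg
import Cfsg.Prelude.Def_ChevG2

/-!
The six dimensional module of the group of type G2 over the field of order four, as a module of dimension twelve
over the field of order two: vectors are numbers below 4096 with exclusive-or as the sum, and linear maps are lists of
images of the basis vectors.
-/

set_option autoImplicit false

namespace Cfsg.Lib.Chev.G2Four

/-- The images of the basis vectors under the root elements. -/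
def rootTbl : List (List (List ℕ)) :=
  [[[1, 2, 4, 8, 16, 32, 64, 128, 256, 512, 1024, 2048], [1, 2, 1028, 2056, 272, 544, 64, 128, 256, 512, 1024, 2048], [1, 2, 2052, 3080, 528, 800, 64, 128, 256, 512, 1024, 2048], [1, 2, 3076, 1032, 784, 288, 64, 128, 256, 512, 1024, 2048]],
   [[1, 2, 4, 8, 16, 32, 64, 128, 256, 512, 1024, 2048], [1025, 2050, 4, 8, 80, 160, 64, 128, 256, 512, 1024, 2048], [2049, 3074, 4, 8, 144, 224, 64, 128, 256, 512, 1024, 2048], [3073, 1026, 4, 8, 208, 96, 64, 128, 256, 512, 1024, 2048]],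
   [[1, 2, 4, 8, 16, 32, 64, 128, 256, 512, 1024, 2048], [257, 514, 68, 136, 1040, 2080, 64, 128, 256, 512, 1024, 2048], [513, 770, 132, 200, 3088, 1056, 64, 128, 256, 512, 1024, 2048], [769, 258, 196, 72, 2064, 3104, 64, 128, 256, 512, 1024, 2048]],
   [[1, 2, 4, 8, 16, 32, 64, 128, 256, 512, 1024, 2048], [1, 2, 260, 520, 17, 34, 1088, 2176, 256, 512, 1024, 2048], [1, 2, 772, 264, 18, 35, 2112, 3200, 256, 512, 1024, 2048], [1, 2, 516, 776, 19, 33, 3136, 1152, 256, 512, 1024, 2048]],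
   [[1, 2, 4, 8, 16, 32, 64, 128, 256, 512, 1024, 2048], [65, 130, 4, 8, 20, 40, 64, 128, 1280, 2560, 1024, 2048], [193, 66, 4, 8, 24, 44, 64, 128, 2304, 3584, 1024, 2048], [129, 194, 4, 8, 28, 36, 64, 128, 3328, 1536, 1024, 2048]],
   [[1, 2, 4, 8, 16, 32, 64, 128, 256, 512, 1024, 2048], [1, 2, 5, 10, 16, 32, 320, 640, 256, 512, 1024, 2048], [1, 2, 6, 11, 16, 32, 576, 896, 256, 512, 1024, 2048], [1, 2, 7, 9, 16, 32, 832, 384, 256, 512, 1024, 2048]],
   [[1, 2, 4, 8, 16, 32, 64, 128, 256, 512, 1024, 2048], [5, 10, 4, 8, 16, 32, 64, 128, 320, 640, 1024, 2048], [9, 14, 4, 8, 16, 32, 64, 128, 384, 704, 1024, 2048], [13, 6, 4, 8, 16, 32, 64, 128, 448, 576, 1024, 2048]],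
   [[1, 2, 4, 8, 16, 32, 64, 128, 256, 512, 1024, 2048], [1, 2, 20, 40, 16, 32, 65, 130, 256, 512, 1280, 2560], [1, 2, 36, 56, 16, 32, 67, 129, 256, 512, 1536, 2816], [1, 2, 52, 24, 16, 32, 66, 131, 256, 512, 1792, 2304]],
   [[1, 2, 4, 8, 16, 32, 64, 128, 256, 512, 1024, 2048], [17, 34, 4, 8, 16, 32, 64, 128, 260, 520, 1088, 2176], [33, 50, 4, 8, 16, 32, 64, 128, 268, 516, 1152, 2240], [49, 18, 4, 8, 16, 32, 64, 128, 264, 524, 1216, 2112]],
   [[1, 2, 4, 8, 16, 32, 64, 128, 256, 512, 1024, 2048], [1, 2, 4, 8, 16, 32, 68, 136, 257, 514, 1040, 2080], [1, 2, 4, 8, 16, 32, 72, 140, 258, 515, 1072, 2064], [1, 2, 4, 8, 16, 32, 76, 132, 259, 513, 1056, 2096]],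
   [[1, 2, 4, 8, 16, 32, 64, 128, 256, 512, 1024, 2048], [1, 2, 4, 8, 16, 32, 80, 160, 256, 512, 1025, 2050], [1, 2, 4, 8, 16, 32, 96, 176, 256, 512, 1026, 2051], [1, 2, 4, 8, 16, 32, 112, 144, 256, 512, 1027, 2049]],
   [[1, 2, 4, 8, 16, 32, 64, 128, 256, 512, 1024, 2048], [1, 2, 4, 8, 16, 32, 64, 128, 272, 544, 1028, 2056], [1, 2, 4, 8, 16, 32, 64, 128, 288, 560, 1032, 2060], [1, 2, 4, 8, 16, 32, 64, 128, 304, 528, 1036, 2052]]]

end Cfsg.Lib.Chev.G2Four
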