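import Mathlib
import Cfsg.Agent.Lib.Chev.G2FourTbl

/-!
The checks on the module of dimension twelve of the group of type G2 over the field of order four: the relators, the
diagonal elements, the orbit of a vector and two element orders.
-/

set_option autoImplicit false

namespace Cfsg.Lib.Chev.G2Four

open Cfsg.Lie

/-- A linear map, given by the images of the basis vectors, applied to a vector. -/
def app : List ℕ → ℕ → ℕ
  | [], _ => 0
  | m :: M, v => (bif Nat.beq (v % 2) 1 then m else 0) ^^^ app M (v / 2)

theorem app_zero : ∀ M : List ℕ, app M 0 = 0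
  | [] => rfl
  | m :: M => by simp [app, app_zero M, Nat.beq]

theorem app_xor : ∀ (M : List ℕ) (a b : ℕ), app M (a ^^^ b) = app M a ^^^ app M b
  | [], a, b => by simp [app]
  | m :: M, a, b => by
    have h2 : (a ^^^ b) / 2 = a / 2 ^^^ b / 2 := by
      simpa [Nat.shiftRight_eq_div_pow] using Nat.shiftRight_xor_distrib (a := a) (b := b) (i := 1)
    have h1 : (bif Nat.beq ((a ^^^ b) % 2) 1 then m else 0) =
        (bif Nat.beq (a % 2) 1 then m else 0) ^^^ (bif Nat.beq (b % 2) 1 then m else 0) := by
      have h := Nat.xor_mod_two_eq_one (a := a) (b := b)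
      rcases Nat.mod_two_eq_zero_or_one a with ha | ha <;> rcases Nat.mod_two_eq_zero_or_one b with hb | hb <;>
        rcases Nat.mod_two_eq_zero_or_one (a ^^^ b) with hc | hc <;> simp_all [Nat.beq]
    simp only [app, h2, app_xor M, h1]
    ac_rfl

/-- The composite of two linear maps. -/
def mulM (A B : List ℕ) : List ℕ := B.map (app A)

theorem app_mulM (A : List ℕ) : ∀ (B : List ℕ) (v : ℕ), app (mulM A B) v = app A (app B v)
  | [], v => by simp [mulM, app, app_zero]
  | m :: B, v => by
    have ih := app_mulM A B (v / 2)
    simp only [mulM] at ih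
    simp only [mulM, List.map_cons, app, app_xor, ih]
    cases Nat.beq (v % 2) 1 <;> simp [app_zero]

theorem app_lt : ∀ (M : List ℕ), (∀ m ∈ M, m < 4096) → ∀ v, app M v < 4096
  | [], _, v => by simp [app]
  | m :: M, h, v => by
    refine Nat.xor_lt_two_pow (n := 12) ?_ (app_lt M (fun x hx => h x (List.mem_cons_of_mem _ hx)) _)
    cases Nat.beq (v % 2) 1
    · simp
    · simpa using h m List.mem_cons_self

/-- The identity map of dimension `n`. -/
def idL : ℕ → List ℕ
  | 0 => []
  | n + 1 => 1 :: (idL n).map (2 * ·)

theorem app_double : ∀ (M : List ℕ) (v : ℕ), app (M.map (2 * ·)) v = 2 * app M v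
  | [], v => by simp [app]
  | m :: M, v => by
    simp only [List.map_cons, app, app_double M]
    rw [show (2 : ℕ) * ((bif Nat.beq (v % 2) 1 then m else 0) ^^^ app M (v / 2)) =
        (2 * (bif Nat.beq (v % 2) 1 then m else 0)) ^^^ (2 * app M (v / 2)) by
      simpa [Nat.shiftLeft_eq, mul_comm] using
        Nat.shiftLeft_xor_distrib (a := bif Nat.beq (v % 2) 1 then m else 0) (b := app M (v / 2)) (i := 1)]
    cases Nat.beq (v % 2) 1 <;> simp

theorem app_idL : ∀ (n v : ℕ), v < 2 ^ n → app (idL n) v = v
  | 0, v, h => by simp at h; simp [app, idL, h]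
  | n + 1, v, h => by
    have h2 : v / 2 < 2 ^ n := by rw [pow_succ] at h; omega
    simp only [idL, app, app_double, app_idL n (v / 2) h2]
    have hx : v % 2 ^^^ 2 * (v / 2) = v := by
      have h0 : ∀ a r : ℕ, r < 2 → r ^^^ 2 * a = 2 * a + r := fun a r hr => by
        have := Nat.two_pow_add_eq_or_of_lt (i := 1) (b := r) (by simpa using hr) a
        rw [pow_one] at this
        rw [this, Nat.xor_comm]
        refine Nat.eq_of_testBit_eq fun i => ?_
        rcases i with _ | i
        · simp [Nat.testBit_zero]
        · have : r / 2 = 0 := by omega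
          have hz : r.testBit (i + 1) = false := by simp [Nat.testBit_succ, this]
          rw [Nat.testBit_xor, Nat.testBit_or, hz]
          simp
      rw [h0 _ _ (Nat.mod_lt _ two_pos)]
      omega
    rcases Nat.mod_two_eq_zero_or_one v with e | e <;> simp_all [Nat.beq]

/-- The identity map. -/
def idM : List ℕ := [1, 2, 4, 8, 16, 32, 64, 128, 256, 512, 1024, 2048]

theorem app_idM {v : ℕ} (hv : v < 4096) : app idM v = v := by
  rw [show idM = idL 12 by rfl]
  exact app_idL 12 v hv

/-- The product of two elements of the field of order four, by their numbers. -/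
def cmul (a b : ℕ) : ℕ := ([[0, 0, 0, 0], [0, 1, 2, 3], [0, 2, 3, 1], [0, 3, 1, 2]].getD a []).getD b 0

/-- A power. -/
def cpow (a : ℕ) : ℕ → ℕ
  | 0 => 1
  | n + 1 => cmul (cpow a n) a

/-- The inverse. -/
def cinv (a : ℕ) : ℕ := [0, 1, 3, 2].getD a 0

/-- The map of a root element. -/
def mat (r c : ℕ) : List ℕ := (rootTbl.getD r []).getD c idM

/-- The map of a word. -/
def wordM (w : List (ℕ × ℕ)) : List ℕ := w.foldr (fun p M => mulM (mat p.1 p.2) M) idM

/-- The map of a diagonal element. -/
def hM (r a : ℕ) : List ℕ :=
  wordM [(r, a), (chevG2.neg r, cinv a), (r, a), (r, 1), (chevG2.neg r, 1), (r, 1)]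

/-- The right-hand side of the commutator formula. -/
def rhsW (r s a b : ℕ) : List (ℕ × ℕ) :=
  (chevG2.commTerms r s).map fun c => (c.1, cmul (c.2.1.natAbs % 2) (cmul (cpow a c.2.2.1) (cpow b c.2.2.2)))

/-- The check of the additive relators and of the bounds. -/
def chkAdd : Bool :=
  (List.range 12).all fun r => (List.range 4).all fun a =>
    ((mat r a).all fun m => Nat.blt m 4096) && mat r 0 == idM &&
      (List.range 4).all fun b => mulM (mat r a) (mat r b) == mat r (a ^^^ b)

/-- The check of the commutator relators for one root. -/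
def chkComm (r : ℕ) : Bool :=
  (List.range 12).all fun s => s == r || s == chevG2.neg r ||
    ((List.range 4).all fun a => (List.range 4).all fun b =>
      wordM [(s, b), (r, a), (s, b), (r, a)] == wordM (rhsW r s a b))

/-- The check of the multiplicative relators. -/
def chkMul : Bool :=
  (List.range 12).all fun r => [1, 2, 3].all fun a => [1, 2, 3].all fun b =>
    mulM (hM r a) (hM r b) == hM r (cmul a b)

/-- The map of a torus element. -/
def hh (a b : ℕ) : List ℕ := mulM (hM 7 a) (hM 6 b)

/-- The check on the torus: it is closed, its generators lie in it and only the identity is central. -/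
def chkTorus : Bool :=
  (hh 1 1 == idM) &&
  ([1, 2, 3].all fun a => (hh a 1 == hM 7 a) && (hh 1 a == hM 6 a)) &&
  ([1, 2, 3].all fun a => [1, 2, 3].all fun b => [1, 2, 3].all fun c => [1, 2, 3].all fun d =>
    mulM (hh a b) (hh c d) == hh (cmul a c) (cmul b d)) &&
  ([1, 2, 3].all fun a => [1, 2, 3].all fun b => hh a b == idM ||
    (List.range 12).any fun r => (List.range 4).any fun t => mulM (hh a b) (mat r t) != mulM (mat r t) (hh a b))

/-- The generators used for the orbit. -/
def orbGens : List (List ℕ) := [mat 4 1, mat 4 2, mat 5 1, mat 5 2, mat 6 1, mat 6 2, mat 7 1, mat 7 2]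

/-- A number is evaluated before it is used. -/
def force {α : Type} (m : ℕ) (k : ℕ → α) : α :=
  match m with
  | 0 => k 0
  | n + 1 => k (n + 1)

/-- A fold in which every intermediate number is evaluated. -/
def foldS (f : ℕ → ℕ → ℕ) : List ℕ → ℕ → ℕ
  | [], m => m
  | x :: l, m => force (f m x) (foldS f l)

/-- One vector of the orbit is expanded. -/
def visit (m u : ℕ) : ℕ := bif m.testBit u then orbGens.foldl (fun m g => m ||| 2 ^ app g u) m else m

/-- One round of the orbit computation. -/
def sweep (m : ℕ) : ℕ :=
  foldS (fun m i => foldS (fun m j => visit m (64 * i + j)) (List.range 64) m) (List.range 64) m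

theorem chkAdd_true : chkAdd = true := by decide +kernel

theorem chkComm_true : (List.range 12).all chkComm = true := by decide +kernel

theorem chkMul_true : chkMul = true := by decide +kernel

theorem chkTorus_true : chkTorus = true := by decide +kernel

theorem sweep_true : force (sweep 2) (fun m => force (sweep m) sweep) = 2 ^ 4096 - 2 := by decide +kernel

theorem orders_true :
    (let M := wordM [(6, 1), (7, 1), (0, 1)]
     let M2 := mulM M M
     let M3 := mulM M M2
     M2 != idM && M3 != idM && mulM M3 M3 == idM) = true ∧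
    (let M := wordM [(4, 3), (7, 1), (8, 2)]
     let M2 := mulM M M
     let M5 := mulM M (mulM M2 M2)
     M2 != idM && M5 != idM && mulM M5 M5 == idM) = true := by decide +kernel

end Cfsg.Lib.Chev.G2Four
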