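import Cfsg.Agent.Lib.Chev.G2Collect
import Cfsg.Agent.Lib.Chev.TorusLang

/-! The two classes of involutions of G2 in characteristic two, and their centralisers. -/

set_option autoImplicit false
set_option maxRecDepth 100000
set_option linter.unusedSectionVars false

namespace Cfsg.Lib.Chev

open Cfsg.Lie

variable {K : Type*} [Field K] [CharP K 2]

theorem gt_cast (z : ℤ) (hz : z.natAbs = 1) : (z : K) = 1 := by
  rcases Int.natAbs_eq_iff.1 hz with h | h <;> subst h <;> simp [CharTwo.neg_eq]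

theorem gtVal_mem (w : List (ℕ × K)) : gtVal w ∈ chevG2.group K :=
  list_prod_mem fun g hg => by
    obtain ⟨x, -, rfl⟩ := List.mem_map.1 hg
    exact xg_mem_group certG2 _ _

theorem gtVal_pos {w : List (ℕ × K)} (hw : ∀ x ∈ w, x.1 < 6) : gtVal w ∈ chevG2.posUnipotent K :=
  list_prod_mem fun g hg => by
    obtain ⟨x, hx, rfl⟩ := List.mem_map.1 hg
    have := hw x hx
    exact xg_mem_pos certG2 (show 6 + x.1 < 12 by omega) (show 12 ≤ 2 * (6 + x.1) by omega) _

/-- The positions moved by the reflections. -/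
def gtNu : ℕ → ℕ → ℕ
  | 0, p => [4, 1, 3, 2, 0, 5].getD p 0
  | _, p => [0, 2, 1, 3, 5, 4].getD p 0

theorem gt_nu_val {i : ℕ} (hi : i < 2) : ∀ w : List (ℕ × K), (∀ x ∈ w, x.1 < 6 ∧ (x.1 = 1 - i → x.2 = 0)) →
    nu certG2 i * gtVal w * (nu certG2 i)⁻¹ = gtVal (w.map fun x => (gtNu i x.1, x.2)) := by
  intro w
  induction w with
  | nil => intro _; simp [gtVal]
  | cons x w ih =>
    intro hw
    obtain ⟨hx, hx0⟩ := hw x (List.mem_cons_self ..)
    have h1 : nu certG2 i * xg certG2 (6 + x.1) x.2 * (nu certG2 i)⁻¹ = xg certG2 (6 + gtNu i x.1) x.2 := by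
      by_cases he : x.1 = 1 - i
      · simp [hx0 he, xg_zero]
      · have h : ∀ i < 2, ∀ p < 6, p ≠ 1 - i → tblG2.refl' i (6 + p) = 6 + gtNu i p ∧
            (tblG2.eta' i (6 + p)).natAbs = 1 := by decide +kernel
        obtain ⟨e1, e2⟩ := h i hi _ hx he
        rw [nu_conj_xg certG2 (show i < chevG2.rank from hi) (show 6 + x.1 < 12 by omega), gt_cast _ e2, one_mul, e1]
    rw [show gtVal (x :: w) = xg certG2 (6 + x.1) x.2 * gtVal w by simp [gtVal],
      show gtVal ((x :: w).map fun x => (gtNu i x.1, x.2)) = xg certG2 (6 + gtNu i x.1) x.2 *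
        gtVal (w.map fun x => (gtNu i x.1, x.2)) by simp [gtVal],
      ← h1, ← ih fun y hy => hw y (List.mem_cons_of_mem _ hy)]
    group

/-- Conjugacy in the group. -/
def GtCj (u v : GL chevG2.Idx K) : Prop := ∃ g ∈ chevG2.group K, g * u = v * g

theorem GtCj.trans {u v w : GL chevG2.Idx K} (h : GtCj u v) (h' : GtCj v w) : GtCj u w := by
  obtain ⟨g, hg, e⟩ := h
  obtain ⟨g', hg', e'⟩ := h'
  exact ⟨g' * g, mul_mem hg' hg, by rw [mul_assoc, e, ← mul_assoc, e', mul_assoc]⟩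

theorem GtCj.symm {u v : GL chevG2.Idx K} (h : GtCj u v) : GtCj v u := by
  obtain ⟨g, hg, e⟩ := h
  exact ⟨g⁻¹, inv_mem hg, by rw [inv_mul_eq_iff_eq_mul, ← mul_assoc, e, mul_inv_cancel_right]⟩

theorem GtCj.sq {u v : GL chevG2.Idx K} (h : GtCj u v) (hu : u * u = 1) : v * v = 1 := by
  obtain ⟨g, -, e⟩ := h
  have hv : v = g * u * g⁻¹ := by rw [e, mul_inv_cancel_right]
  rw [hv, show g * u * g⁻¹ * (g * u * g⁻¹) = g * (u * u) * g⁻¹ by group, hu, mul_one, mul_inv_cancel]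

/-- A move by a positive element. -/
theorem gt_step (w0 : List (ℕ × K)) (hw0 : ∀ x ∈ w0, x.1 < 6) (b a c d e g : K) :
    ∃ b' a' c' d' e' g', GtCj (gtE b a c d e g) (gtE b' a' c' d' e' g') ∧
      gtNf (w0 ++ gtEW b a c d e g) = gtNf (gtEW b' a' c' d' e' g' ++ w0) := by
  have hp := gtVal_pos hw0
  obtain ⟨b', a', c', d', e', g', he⟩ := gt_pos_form
    (mul_mem (mul_mem hp (gtVal_pos (gtEW_lt b a c d e g))) (inv_mem hp))
  have he' : gtVal w0 * gtE b a c d e g = gtE b' a' c' d' e' g' * gtVal w0 := by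
    rw [← he, gtE, inv_mul_cancel_right]
  refine ⟨b', a', c', d', e', g', ⟨_, gtVal_mem w0, he'⟩, ?_⟩
  refine gtNf_unique (fun x hx => ?_) (fun x hx => ?_) (by rw [gtVal_append, gtVal_append]; exact he')
  · exact (List.mem_append.1 hx).elim (hw0 x) (gtEW_lt _ _ _ _ _ _ x)
  · exact (List.mem_append.1 hx).elim (gtEW_lt _ _ _ _ _ _ x) (hw0 x)

theorem gt_cj_b {a c d e g : K} : GtCj (gtE 0 a c d e g) (gtVal [(0, 0), (2, a), (1, c), (3, d), (5, e), (4, g)]) := by
  refine ⟨nu certG2 1, ng_mem_group certG2 _ _, ?_⟩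
  rw [← mul_inv_eq_iff_eq_mul, gtE, gt_nu_val (by norm_num) _ fun x hx => ⟨gtEW_lt _ _ _ _ _ _ x hx, ?_⟩]
  · rfl
  · simp only [gtEW, List.mem_cons, List.not_mem_nil, or_false] at hx
    rcases hx with rfl | rfl | rfl | rfl | rfl | rfl <;> simp

theorem gt_cj_a {b c d e g : K} : GtCj (gtE b 0 c d e g) (gtVal [(4, b), (1, 0), (3, c), (2, d), (0, e), (5, g)]) := by
  refine ⟨nu certG2 0, ng_mem_group certG2 _ _, ?_⟩
  rw [← mul_inv_eq_iff_eq_mul, gtE, gt_nu_val (by norm_num) _ fun x hx => ⟨gtEW_lt _ _ _ _ _ _ x hx, ?_⟩]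
  · rfl
  · simp only [gtEW, List.mem_cons, List.not_mem_nil, or_false] at hx
    rcases hx with rfl | rfl | rfl | rfl | rfl | rfl <;> simp

theorem gt_inv_eq {b a c d e g : K} (h : gtE b a c d e g * gtE b a c d e g = 1) :
    (b = 0 ∨ a = 0) ∧ (b = 0 → a ^ 2 * c + a * d = 0) ∧ (a = 0 → c * d + b * e = 0) := by
  have h' := gtNf_unique (v := ([] : List (ℕ × K))) (w := gtEW b a c d e g ++ gtEW b a c d e g)
    (fun x hx => (List.mem_append.1 hx).elim (gtEW_lt _ _ _ _ _ _ x) (gtEW_lt _ _ _ _ _ _ x)) (by simp)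
    (by rw [gtVal_append]; simpa [gtVal, gtE] using h)
  simp [gtEW, gtNf, gtIns, gtS, CharTwo.add_self_eq_zero] at h'
  obtain ⟨h0, h1, h2⟩ := h'
  refine ⟨h0, fun hb => ?_, fun ha => ?_⟩
  · subst hb; simpa using h1
  · subst ha; simpa using h2

theorem gt_scale {w : K} (hw : w ≠ 0) :
    GtCj (xg certG2 9 (1 : K)) (xg certG2 9 w) ∧ GtCj (xg certG2 11 (1 : K)) (xg certG2 11 w) := by
  have h0 : tblG2.cartan 0 9 = 1 := by decide +kernel
  have h1 : tblG2.cartan 1 9 = 0 := by decide +kernel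
  have h2 : tblG2.cartan 0 11 = 0 := by decide +kernel
  have h3 : tblG2.cartan 1 11 = 1 := by decide +kernel
  let u : Kˣ := Units.mk0 w hw
  constructor
  · refine ⟨torusHom chevG2 tblG2 K (fun i => if (i : ℕ) = 0 then u else 1),
      diag_le_group certG2 ((torusHom_range certG2 (F := K)) ▸ ⟨_, rfl⟩), ?_⟩
    rw [← mul_inv_eq_iff_eq_mul, torusHom_conj_xg certG2 _ (show 9 < chevG2.nroots by decide)]
    congr 1
    simp [chr, show chevG2.rank = 2 from rfl, Finset.prod_range_succ, h0, h1, extend', u]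
  · refine ⟨torusHom chevG2 tblG2 K (fun i => if (i : ℕ) = 0 then 1 else u),
      diag_le_group certG2 ((torusHom_range certG2 (F := K)) ▸ ⟨_, rfl⟩), ?_⟩
    rw [← mul_inv_eq_iff_eq_mul, torusHom_conj_xg certG2 _ (show 11 < chevG2.nroots by decide)]
    congr 1
    simp [chr, show chevG2.rank = 2 from rfl, Finset.prod_range_succ, h2, h3, extend', u]

/-- An element conjugate to one of the representatives. -/
def GtGood (u : GL chevG2.Idx K) : Prop := GtCj u (xg certG2 11 1) ∨ GtCj u (xg certG2 9 1)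

theorem GtGood.of_cj {u v : GL chevG2.Idx K} (h : GtCj u v) (h' : GtGood v) : GtGood u :=
  h'.imp h.trans h.trans

theorem gt_good_short {d : K} (hd : d ≠ 0) : GtGood (xg certG2 9 d) := Or.inr (gt_scale hd).1.symm

theorem gt_good_long {g : K} (hg : g ≠ 0) : GtGood (xg certG2 11 g) := Or.inl (gt_scale hg).2.symm

variable [Finite K]

theorem gt_good_c {c e g : K} (hc : c ≠ 0) : GtGood (gtE 0 0 c 0 e g) := by
  have htwo : (2 : K) = 0 := CharTwo.two_eq_zero
  haveI : ExpChar K 2 := ExpChar.prime Nat.prime_two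
  obtain ⟨al, hal⟩ := (Finite.injective_iff_surjective.1 (RingHom.injective (frobenius K 2))) (e / c)
  rw [frobenius_def, eq_div_iff hc] at hal
  obtain ⟨b', a', c', d', e', g', hcj, he⟩ := gt_step [(1, al)] (by simp) 0 0 c 0 e g
  simp [gtEW, gtNf, gtIns, gtS] at he
  obtain ⟨rfl, rfl, rfl, rfl, he4, he5⟩ := he
  obtain rfl : e' = 0 := by linear_combination -he4 - hal
  obtain ⟨b1, a1, c1, d1, e1, g1, hcj1, he⟩ := gt_step [(3, g' / c)] (by simp) 0 0 c 0 0 g'
  simp [gtEW, gtNf, gtIns, gtS] at he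
  obtain ⟨rfl, rfl, rfl, rfl, rfl, he5⟩ := he
  obtain rfl : g1 = 0 := by
    rw [mul_div_cancel₀ _ hc] at he5
    linear_combination -he5 + g' * htwo
  refine GtGood.of_cj hcj (GtGood.of_cj hcj1 (GtGood.of_cj gt_cj_a ?_))
  rw [show gtVal [(4, (0 : K)), (1, 0), (3, c), (2, 0), (0, 0), (5, 0)] = xg certG2 9 c by simp [gtVal, xg_zero]]
  exact gt_good_short hc

theorem gt_good_ab {c d e g : K} (hs : gtE 0 0 c d e g * gtE 0 0 c d e g = 1)
    (h1 : gtE 0 0 c d e g ≠ 1) : GtGood (gtE 0 0 c d e g) := by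
  have htwo : (2 : K) = 0 := CharTwo.two_eq_zero
  have hcd : c * d = 0 := by simpa using (gt_inv_eq hs).2.2 rfl
  by_cases hc : c = 0
  swap
  · obtain rfl : d = 0 := (mul_eq_zero.1 hcd).resolve_left hc
    exact gt_good_c hc
  subst hc
  by_cases hd : d = 0
  swap
  · obtain ⟨b', a', c', d', e', g', hcj, he⟩ := gt_step [(1, e / d)] (by simp) 0 0 0 d e g
    simp [gtEW, gtNf, gtIns, gtS] at he
    obtain ⟨rfl, rfl, rfl, rfl, he4, he5⟩ := he
    obtain rfl : e' = 0 := by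
      rw [div_mul_cancel₀ _ hd] at he4
      linear_combination -he4
    obtain rfl : g' = g := by linear_combination -he5
    refine GtGood.of_cj hcj ?_
    obtain ⟨b1, a1, c1, d1, e1, g1, hcj1, he⟩ := gt_step [(2, g' / d)] (by simp) 0 0 0 d 0 g'
    simp [gtEW, gtNf, gtIns, gtS] at he
    obtain ⟨rfl, rfl, rfl, rfl, rfl, he5⟩ := he
    obtain rfl : g1 = 0 := by
      rw [div_mul_cancel₀ _ hd] at he5
      linear_combination -he5
    refine GtGood.of_cj hcj1 ?_
    rw [show gtE (0 : K) 0 0 d 0 0 = xg certG2 9 d by simp [gtE, gtEW, gtVal, xg_zero]]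
    exact gt_good_short hd
  subst hd
  by_cases he0 : e = 0
  · subst he0
    have hv : gtE (0 : K) 0 0 0 0 g = xg certG2 11 g := by simp [gtE, gtEW, gtVal, xg_zero]
    rw [hv] at h1 ⊢
    exact gt_good_long fun h => h1 (by rw [h, xg_zero])
  obtain ⟨b', a', c', d', e', g', hcj, he⟩ := gt_step [(0, g / e)] (by simp) 0 0 0 0 e g
  simp [gtEW, gtNf, gtIns, gtS] at he
  obtain ⟨rfl, rfl, he2, he3, he4, he5⟩ := he
  obtain rfl : c' = 0 := by linear_combination -he2
  obtain rfl : d' = 0 := by linear_combination -he3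
  obtain rfl : e' = e := by linear_combination -he4
  obtain rfl : g' = 0 := by
    rw [div_mul_cancel₀ _ he0] at he5
    linear_combination -he5
  refine GtGood.of_cj hcj (GtGood.of_cj gt_cj_b ?_)
  rw [show gtVal [(0, (0 : K)), (2, 0), (1, 0), (3, 0), (5, e'), (4, 0)] = xg certG2 11 e' by simp [gtVal, xg_zero]]
  exact gt_good_long he0

/-- Every involution of the positive group is conjugate to one of the representatives. -/
theorem gt_classify {u : GL chevG2.Idx K} (hp : u ∈ chevG2.posUnipotent K) (hs : u * u = 1) (h1 : u ≠ 1) :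
    GtGood u := by
  have htwo : (2 : K) = 0 := CharTwo.two_eq_zero
  obtain ⟨b, a, c, d, e, g, rfl⟩ := gt_pos_form hp
  obtain ⟨hab, hba, -⟩ := gt_inv_eq hs
  by_cases hb : b = 0
  · subst hb
    by_cases ha : a = 0
    · subst ha; exact gt_good_ab hs h1
    obtain ⟨b', a', c', d', e', g', hcj, he⟩ := gt_step [(0, c / a)] (by simp) 0 a c d e g
    simp [gtEW, gtNf, gtIns, gtS] at he
    obtain ⟨rfl, rfl, he2, -, -, -⟩ := he
    obtain rfl : c' = 0 := by
      rw [div_mul_cancel₀ _ ha] at he2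
      linear_combination -he2
    obtain rfl : d' = 0 := by
      simpa [ha] using (gt_inv_eq (hcj.sq hs)).2.1 rfl
    refine GtGood.of_cj hcj (GtGood.of_cj gt_cj_b ?_)
    rw [show gtVal [(0, (0 : K)), (2, a), (1, 0), (3, 0), (5, e'), (4, g')] = gtE 0 0 a 0 g' e' from
      gt_eq (fun x hx => by simp at hx; rcases hx with rfl | rfl | rfl | rfl | rfl | rfl <;> simp)
        (gtEW_lt _ _ _ _ _ _) (by simp [gtEW, gtNf, gtIns, gtS])]
    exact gt_good_c ha
  obtain rfl : a = 0 := hab.resolve_left hb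
  obtain ⟨b', a', c', d', e', g', hcj, he⟩ := gt_step [(1, c / b)] (by simp) b 0 c d e g
  simp [gtEW, gtNf, gtIns, gtS] at he
  obtain ⟨rfl, rfl, he2, -, -, -⟩ := he
  obtain rfl : c' = 0 := by
    rw [mul_div_cancel₀ _ hb] at he2
    linear_combination -he2 + c * htwo
  obtain rfl : e' = 0 := by
    simpa [hb] using (gt_inv_eq (hcj.sq hs)).2.2 rfl
  refine GtGood.of_cj hcj ?_
  obtain ⟨b1, a1, c1, d1, e1, g1, hcj1, he⟩ := gt_step [(4, g' / b)] (by simp) b 0 0 d' 0 g'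
  simp [gtEW, gtNf, gtIns, gtS] at he
  obtain ⟨rfl, rfl, rfl, rfl, rfl, he5⟩ := he
  obtain rfl : g1 = 0 := by
    rw [mul_div_cancel₀ _ hb] at he5
    linear_combination -he5 + g' * htwo
  refine GtGood.of_cj hcj1 (GtGood.of_cj gt_cj_a ?_)
  have hv : gtVal [(4, b), (1, (0 : K)), (3, 0), (2, d'), (0, 0), (5, 0)] = gtE 0 0 d' 0 b 0 :=
    gt_eq (fun x hx => by simp at hx; rcases hx with rfl | rfl | rfl | rfl | rfl | rfl <;> simp)
      (gtEW_lt _ _ _ _ _ _) (by simp [gtEW, gtNf, gtIns, gtS])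
  rw [hv]
  have hcj2 : GtCj (gtE b 0 0 d' 0 0) (gtE 0 0 d' 0 b 0) := hv ▸ gt_cj_a
  have hall := (hcj.trans hcj1).trans hcj2
  refine gt_good_ab (hall.sq hs) fun h => ?_
  obtain ⟨x, -, ex⟩ := hall
  rw [h, one_mul, mul_eq_left] at ex
  exact h1 ex

end Cfsg.Lib.Chev
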