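import Cfsg.Agent.Lib.Chev.TorusG2

set_option autoImplicit false
set_option maxRecDepth 100000

namespace Cfsg.Lib.Chev

open Cfsg.Lie

/-- Torus data of a Coxeter element of G2. -/
def torG2cox : TorData := ⟨[0, 1], [1, -1], [[0, 1], [-1, 2]], 7⟩

theorem chkTor_G2cox : chkTor tblG2 torG2cox = true := by decide +kernel

theorem chkLarge_G2cox : chkLarge tblG2 torG2cox [12, 18, 19, 20, 26, 21, 33, 28, 34, 35, 36, 42] = true := by decide +kernel

theorem ord_G2cox (q : ℤ) : TorData.ord torG2cox tblG2 q = q ^ 2 - q + 1 := by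
  rw [TorData.ord, sumBelow_eq, show tblG2.rank = 2 from rfl]
  simp [Finset.sum_range_succ, torG2cox, nth_eq]
  all_goals ring

end Cfsg.Lib.Chev
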