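import Cfsg.Agent.Lib.Chev.TorusLang
import Cfsg.Agent.Lib.Chev.FullAll

/-! A regular torus of the group of type G2. -/

set_option autoImplicit false
set_option maxRecDepth 100000

namespace Cfsg.Lib.Chev

/-- The torus data. -/
def torG2 : TorData := ⟨[0, 1, 0, 1], [1, 1], [[1, 1], [1, 2]], 7⟩

theorem chkTor_G2 : chkTor tblG2 torG2 = true := by decide +kernel

theorem chkLarge_G2 : chkLarge tblG2 torG2 [10, 17, 18, 19, 26, 20, 34, 28, 35, 36, 37, 44] = true := by decide +kernel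

theorem chkSmall_G2_3 : chkSmall tblG2 torG2 ((3 : ℕ) : ℤ) [6, 8, 9, 10, 12, 11, 2, 1, 3, 4, 5, 7] = true := by decide +kernel

theorem chkSmall_G2_4 : chkSmall tblG2 torG2 ((4 : ℕ) : ℤ) [12, 15, 16, 17, 20, 18, 3, 1, 4, 5, 6, 9] = true := by decide +kernel

end Cfsg.Lib.Chev
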