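import Cfsg.Agent.Lib.Chev.TwG2Gen

/-! Facts about ²G₂(q) used by the statements. -/

set_option autoImplicit false
set_option linter.unusedSectionVars false
set_option maxRecDepth 20000

namespace Cfsg.Lib.Chev

open Cfsg.Lie

variable {K : Type*} [Field K] [Fintype K]

theorem g2_charP {m : ℕ} (hK : Fintype.card K = 3 ^ (2 * m + 1)) : CharP K esymG2.p :=
  @charP_of_card_eq_prime_pow K _ _ _ 3 (2 * m + 1) ⟨Nat.prime_three⟩ hK

variable [CharP K esymG2.p] {m : ℕ} (hK : Fintype.card K = 3 ^ (2 * m + 1))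
include hK

/-- The fixed monomial group modulo the fixed torus. -/
theorem g2_monomial_hom :
    ∃ φ : ↥(chevG2.monomialSubgroup K ⊓ (twOKG2 (K := K) m).fixed certG2C) →* Multiplicative (ZMod 2),
      Function.Surjective φ ∧ φ.ker = (chevG2.diagonalSubgroup K ⊓ (twOKG2 (K := K) m).fixed certG2C).subgroupOf
        (chevG2.monomialSubgroup K ⊓ (twOKG2 (K := K) m).fixed certG2C) := by
  have hh := twOKG2 (K := K) m
  set G := (twOKG2 (K := K) m).fixed certG2C with hG
  set N := chevG2.monomialSubgroup K ⊓ G with hN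
  set H := (chevG2.diagonalSubgroup K ⊓ G).subgroupOf N with hH
  have he1 : 1 < twG2.elts.length := by decide
  obtain ⟨n, hn, hnd⟩ := (twOKG2 (K := K) m).exists_fixed_rep certG2C twCombG2 he1
  have hw := twCombG2.eword_word certG2C he1
  have hnN : n ∈ chevG2.monomialSubgroup K := by
    have := mul_mem (wnu_mem certG2C (F := K) hw) (diag_le_monomial certG2C hnd)
    rwa [mul_inv_cancel_left] at this
  have hnot : n ∉ chevG2.diagonalSubgroup K := fun h => by
    have h1 : (wnu certG2C K (twG2.eword 1))⁻¹ * wnu certG2C K [] ∈ chevG2.diagonalSubgroup K := by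
      have := mul_mem hnd (inv_mem h)
      simpa [wnu] using this
    have := perm_of_same (F := K) certG2C hw (show IsWord chevG2 [] from fun i hi => absurd hi List.not_mem_nil) h1
      (show 6 < chevG2.nroots by decide)
    revert this
    decide +kernel
  have hcl : ∀ x ∈ N, x ∈ chevG2.diagonalSubgroup K ∨ n⁻¹ * x ∈ chevG2.diagonalSubgroup K := by
    intro x hx
    obtain ⟨e, he, hall⟩ := (twOKG2 (K := K) m).bruhat_fixed certG2C fullCertG2 twCombG2 hx.2
    have he2 : e = 0 ∨ e = 1 := by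
      have : e < 2 := he
      omega
    rcases he2 with rfl | rfl
    · obtain ⟨b, hb, c, hc, e0⟩ := hall 1 (one_mem _) (by
        rw [show twG2.eword 0 = [] from rfl]; simp [wnu])
      have := cells_disjoint certG2C fullCertG2 hb.1 (one_mem _) (one_mem _) hx.1
        (signPart_le_borel certG2C fullCertG2 _ true hc.1) (one_mem _) (b' := 1) (u' := 1) (by rw [← e0]; group)
      exact Or.inl (by simpa using this)
    · obtain ⟨b, hb, c, hc, e0⟩ := hall n hn hnd
      exact Or.inr (cells_disjoint certG2C fullCertG2 hb.1 (one_mem _) hnN hx.1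
        (signPart_le_borel certG2C fullCertG2 _ true hc.1) (one_mem _) (b' := 1) (u' := 1) (by rw [← e0]; group))
  let n' : ↥N := ⟨n, hnN, hn⟩
  have mem : ∀ x : ↥N, x ∈ H ↔ (x : GL chevG2.Idx K) ∈ chevG2.diagonalSubgroup K := fun x =>
    ⟨fun h => (Subgroup.mem_subgroupOf.1 h).1, fun h => Subgroup.mem_subgroupOf.2 ⟨h, x.2.2⟩⟩
  have hidx : H.index = 2 := by
    refine Subgroup.index_eq_two_iff.2 ⟨n'⁻¹, fun b => ?_⟩
    rcases hcl b b.2 with hb | hb
    · refine Or.inr ⟨(mem b).2 hb, fun h => hnot ?_⟩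
      have h2 := mul_mem (inv_mem ((mem _).1 h)) hb
      simpa [n'] using h2
    · refine Or.inl ⟨(mem _).2 ?_, fun h => hnot ?_⟩
      · have := (conj_mem_diag certG2C hnN hb).1
        simpa [n', mul_assoc] using this
      · have h2 := mul_mem ((mem b).1 h) (inv_mem hb)
        simpa [mul_assoc] using h2
  haveI := Subgroup.normal_of_index_eq_two hidx
  haveI : Fact (Nat.Prime 2) := ⟨Nat.prime_two⟩
  let e : (↥N ⧸ H) ≃* Multiplicative (ZMod 2) := mulEquivOfPrimeCardEq (p := 2)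
    (by rw [← Subgroup.index_eq_card, hidx]) (by simp)
  refine ⟨e.toMonoidHom.comp (QuotientGroup.mk' H), e.surjective.comp (QuotientGroup.mk'_surjective H), ?_⟩
  ext x
  rw [MonoidHom.mem_ker, MonoidHom.comp_apply, MulEquiv.coe_toMonoidHom, EmbeddingLike.map_eq_one_iff,
    QuotientGroup.mk'_apply, QuotientGroup.eq_one_iff]

/-- The fixed torus as an image of the units. -/
noncomputable def g2TorusMap : Kˣ →* ↥(chevG2.diagonalSubgroup K ⊓ (twOKG2 (K := K) m).fixed certG2C) where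
  toFun z := ⟨torusHom chevG2 tblG2 K (g2Par m z), g2_torus_fixed hK z⟩
  map_one' := Subtype.ext (by
    show torusHom chevG2 tblG2 K (g2Par m 1) = 1
    rw [show g2Par (K := K) m 1 = 1 by funext (i : Fin 2); fin_cases i <;> (simp [g2Par]; rfl), map_one])
  map_mul' a b := Subtype.ext (by
    show torusHom chevG2 tblG2 K (g2Par m (a * b)) =
      torusHom chevG2 tblG2 K (g2Par m a) * torusHom chevG2 tblG2 K (g2Par m b)
    rw [← map_mul]
    congr 1
    funext (i : Fin 2); fin_cases i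
    · exact mul_pow a b (3 ^ m)
    · rfl)

theorem g2TorusMap_bijective : Function.Bijective (g2TorusMap hK) := by
  refine ⟨fun a b e => g2Par_injective (congrArg Subtype.val e), fun x => ?_⟩
  obtain ⟨z, hz⟩ := (g2_mem_diag hK).1 x.2
  exact ⟨z, Subtype.ext hz.symm⟩

theorem g2_card_odd :
    2 * Nat.card {h : ↥(chevG2.diagonalSubgroup K ⊓ (twOKG2 (K := K) m).fixed certG2C) // Odd (orderOf h)} =
      3 ^ (2 * m + 1) - 1 := by
  let e := MulEquiv.ofBijective (g2TorusMap hK) (g2TorusMap_bijective hK)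
  have h4 : (3 ^ (2 * m + 1)) % 4 = 3 := by
    rw [pow_succ, pow_mul, Nat.mul_mod, Nat.pow_mod]; norm_num
  obtain ⟨r, hr, hodd⟩ : ∃ r, 3 ^ (2 * m + 1) - 1 = 2 * r ∧ Odd r :=
    ⟨(3 ^ (2 * m + 1) - 1) / 2, by omega, by rw [Nat.odd_iff]; omega⟩
  have hcard : Nat.card Kˣ = 2 * r := by rw [Nat.card_units, Nat.card_eq_fintype_card, hK, hr]
  have hiff : ∀ z : Kˣ, Odd (orderOf z) ↔ z ∈ (powMonoidHom r : Kˣ →* Kˣ).ker := by
    intro z
    rw [MonoidHom.mem_ker, powMonoidHom_apply, ← orderOf_dvd_iff_pow_eq_one]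
    refine ⟨fun h => ?_, fun h => hodd.of_dvd_nat h⟩
    have h1 : orderOf z ∣ 2 * r := hcard ▸ orderOf_dvd_natCard z
    exact (Nat.coprime_two_right.2 h).dvd_of_dvd_mul_left h1
  rw [hr, ← Nat.card_congr (e.toEquiv.subtypeEquiv (p := fun z : Kˣ => z ∈ (powMonoidHom r : Kˣ →* Kˣ).ker)
    fun z => by rw [← hiff, ← MulEquiv.orderOf_eq e z]; rfl)]
  change 2 * Nat.card ↥(powMonoidHom r : Kˣ →* Kˣ).ker = 2 * r
  rw [IsCyclic.card_powMonoidHom_ker, hcard, Nat.gcd_eq_right (dvd_mul_left r 2)]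

theorem g2_odd_centralizer {h : GL chevG2.Idx K}
    (hh : h ∈ chevG2.diagonalSubgroup K ⊓ (twOKG2 (K := K) m).fixed certG2C) (h1 : h ≠ 1) (hodd : Odd (orderOf h)) :
    (chevG2.posUnipotent K ⊓ (twOKG2 (K := K) m).fixed certG2C) ⊓ Subgroup.centralizer {h} = ⊥ := by
  obtain ⟨z, rfl⟩ := (g2_mem_diag hK).1 hh
  refine (Subgroup.eq_bot_iff_forall _).2 fun g hg => ?_
  obtain ⟨hgU, hgC⟩ := Subgroup.mem_inf.1 hg
  obtain ⟨t, u, v, rfl⟩ := (g2_pos_fixed hK).1 hgU
  have hz2 : z ^ 2 ≠ 1 := fun e => h1 (by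
    have hp : (g2TorusMap hK z) ^ 2 = 1 := by rw [← map_pow, e, map_one]
    have hp' : (torusHom chevG2 tblG2 K (g2Par m z)) ^ 2 = 1 := congrArg Subtype.val hp
    refine orderOf_eq_one_iff.1 ?_
    rcases (Nat.dvd_prime Nat.prime_two).1 (orderOf_dvd_of_pow_eq_one hp') with e' | e'
    · exact e'
    · rw [e'] at hodd; exact absurd hodd (by decide))
  have e : torusHom chevG2 tblG2 K (g2Par m z) * reeU m t u v * (torusHom chevG2 tblG2 K (g2Par m z))⁻¹ = reeU m t u v := by
    rw [mul_inv_eq_iff_eq_mul]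
    exact Subgroup.mem_centralizer_iff.1 hgC _ (Set.mem_singleton _)
  rw [g2_torus_conj hK, reeU, reeU] at e
  obtain ⟨-, e6, -, -, e10, e11⟩ := g2Six_inj e
  have key : ∀ {r : ℕ} {y : K}, (r = 6 ∨ r = 10 ∨ r = 11) →
      chr tblG2 chevG2 (extend' (g2Par m z)) r * y = y → y = 0 := fun hr ey => by
    by_contra hy
    exact hz2 (g2_chr_eq_one hK hr ((mul_eq_right₀ hy).1 ey))
  obtain rfl := key (Or.inl rfl) e6
  obtain rfl := key (Or.inr (Or.inl rfl)) e10
  obtain rfl := key (Or.inr (Or.inr rfl)) e11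
  simp [reeU, g2Six, xg_zero, zero_pow]

theorem g2_isCyclic : IsCyclic ↥(chevG2.diagonalSubgroup K ⊓ (twOKG2 (K := K) m).fixed certG2C) :=
  isCyclic_of_surjective (g2TorusMap hK) (g2TorusMap_bijective hK).2

end Cfsg.Lib.Chev
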