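import Cfsg.Agent.Lib.Chev.TwG2
import Cfsg.Agent.Lib.Chev.TwSimple
import Cfsg.Agent.Lib.Chev.TorusLang

/-! Generation, torus action and commutators in ²G₂(q). -/

set_option autoImplicit false
set_option linter.unusedSectionVars false
set_option maxRecDepth 20000

namespace Cfsg.Lib.Chev

open Cfsg.Lie
open scoped commutatorElement

variable {D : ChevalleyDatum} {T : Tbl} {F : Type*} [Field F]

/-- A monomial element acting by negation on the roots inverts the torus. -/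
theorem wnu_conj_diag_inv (C : Cert D T) {w : List ℕ} (hw : IsWord D w)
    (hneg : ∀ r < D.nroots, wperm T w r = T.neg r) {h : GL D.Idx F} (hh : h ∈ D.diagonalSubgroup F) :
    wnu C F w * h * (wnu C F w)⁻¹ = h⁻¹ := by
  obtain ⟨c, rfl⟩ := (torusHom_range C (F := F)).symm ▸ hh
  have hd : torusHom D T F c ∈ D.diagonalSubgroup F := (torusHom_range C (F := F)) ▸ ⟨c, rfl⟩
  refine eq_inv_of_mul_eq_one_left (diag_eq_one_of_comm C
    (mul_mem (conj_mem_diag C (wnu_mem C hw) hd).1 hd) fun r hr => ?_)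
  have hs := C.spec.neg_lt r hr
  obtain ⟨e, he, hct⟩ := wnu_conj_xg C (F := F) hw hs
  simp only [hneg _ hs, C.spec.neg_neg r hr] at hct
  have k1 := torusHom_conj_xg C c hr (1 : F)
  have k2 := hct (e * chr T D (extend' c) r)
  have k3 := torusHom_conj_xg C c hs (e * chr T D (extend' c) r)
  rw [chr_neg C.spec _ hr, mul_left_comm, inv_mul_cancel₀ (chr_ne_zero _ (fun j _ => extend'_ne c j) r), mul_one] at k3
  rw [← mul_assoc, he, one_mul] at k2
  rw [mul_one] at k1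
  have k4 := hct e
  rw [he] at k4
  set W := wnu C F w
  set H := torusHom D T F c
  have e1 : xg C (T.neg r) (e * chr T D (extend' c) r) = W⁻¹ * xg C r (chr T D (extend' c) r) * W := by
    rw [← k2]; group
  calc W * H * W⁻¹ * H * xg C r 1 = W * H * W⁻¹ * (H * xg C r 1 * H⁻¹) * H := by group
    _ = W * (H * (W⁻¹ * xg C r (chr T D (extend' c) r) * W) * H⁻¹) * H * W⁻¹ * H := by rw [k1]; group
    _ = (W * xg C (T.neg r) e * W⁻¹) * (W * H * W⁻¹ * H) := by rw [← e1, k3]; group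
    _ = _ := by rw [k4]

variable {K : Type*} [Field K] [CharP K esymG2.p]

/-- The word of the identity exhibiting the representative. -/
theorem g2_id1 : sameWordMod 3 tblG2 [.x 3 [⟨-1, 0, 0⟩], .x 1 [⟨-1, 0, 0⟩]]
    ([.x 8 [⟨-1, 0, 0⟩], .x 10 [⟨-1, 0, 0⟩]] ++ ([0, 1, 0, 1, 0, 1].map fun i => Ltr.n i ⟨1, 0, 0⟩) ++
      [.x 8 [⟨-1, 0, 0⟩], .x 10 [⟨-1, 0, 0⟩]]) = true := by decide +kernel

/-- The word of the identity exhibiting the central torus element. -/
theorem g2_id2 : sameWordMod 3 tblG2 [.x 3 [⟨-1, 0, 0⟩], .x 2 [⟨-1, 0, 0⟩], .x 1 [⟨-1, 0, 0⟩], .x 0 [⟨-1, 0, 0⟩]]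
    ([.x 8 [⟨1, 0, 0⟩], .x 9 [⟨1, 0, 0⟩], .x 10 [⟨1, 0, 0⟩], .x 11 [⟨1, 0, 0⟩]] ++
      ([0, 1, 0, 1, 0, 1].map fun i => Ltr.n i ⟨1, 0, 0⟩) ++
      [.d 0 ⟨-1, 0, 0⟩, .d 1 ⟨-1, 0, 0⟩] ++
      [.x 7 [⟨1, 0, 0⟩], .x 6 [⟨1, 0, 0⟩], .x 8 [⟨2, 0, 0⟩], .x 10 [⟨1, 0, 0⟩], .x 11 [⟨2, 0, 0⟩]]) = true := by
  decide +kernel

theorem okX {r : ℕ} {p : List Mono} (h : r < chevG2.nroots) : (Ltr.x r p).ok chevG2 := h

theorem g2_lw_neg : ∀ r < chevG2.nroots, wperm tblG2 (twG2.lw 0) r = tblG2.neg r := by decide +kernel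

section Fixed

variable [Fintype K] {m : ℕ} (hK : Fintype.card K = 3 ^ (2 * m + 1))
include hK

/-- The fixed part of the positive unipotent group. -/
theorem g2_pos_fixed {g : GL chevG2.Idx K} :
    g ∈ chevG2.posUnipotent K ⊓ (twOKG2 (K := K) m).fixed certG2C ↔ ∃ t u v, g = reeU m t u v := by
  have hw : IsWord chevG2 (twG2.lw 0) := twCombG2.lw_word 0 Nat.one_pos
  have hn : ∀ r < chevG2.nroots, chevG2.nroots ≤ 2 * r → 2 * wperm tblG2 (twG2.lw 0) r < chevG2.nroots := by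
    decide +kernel
  have key : g ∈ chevG2.posUnipotent K → g ∈ Pset certG2C (twG2.base 0) := fun hg => by
    refine ((twOKG2 (K := K) m).base_mem_signPart certG2C fullCertG2 twCombG2 Nat.one_pos).2 ?_
    refine (Subgroup.closure_le _).2 ?_ (posUnipotent_eq certG2C (F := K) ▸ hg : g ∈ upper certG2C K (chevG2.nroots / 2))
    rintro x ⟨r, t, h1, h2, rfl⟩
    exact xg_mem_signPart certG2C fullCertG2 h1 h2 (by simpa using hn r h2 (by have := nroots_even certG2C; omega)) t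
  constructor
  · rintro ⟨h1, h2⟩
    have : g ∈ twFixPart certG2C (twG2σ (K := K) m) (twG2.base 0) := ⟨key h1, h2.2⟩
    rwa [g2_fixPart hK] at this
  · rintro ⟨t, u, v, rfl⟩
    refine ⟨?_, reeU_fixed hK t u v⟩
    show reeU m t u v ∈ chevG2.posUnipotent K
    rw [reeU, g2Six_lprod]
    exact lprod_mem_pos certG2C (by decide) _

theorem g2_torus_fixed (z : Kˣ) :
    torusHom chevG2 tblG2 K (g2Par m z) ∈ chevG2.diagonalSubgroup K ⊓ (twOKG2 (K := K) m).fixed certG2C :=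
  (g2_mem_diag hK).2 ⟨z, rfl⟩

/-- The character values of the fixed torus. -/
theorem g2_chr (z : Kˣ) (r : ℕ) (hr : r = 6 ∨ r = 10 ∨ r = 11) :
    chr tblG2 chevG2 (extend' (g2Par m z)) r = ((z ^ ((![(-3 : ℤ), 3, 0] : Fin 3 → ℤ) (if r = 6 then 0 else if r = 10 then 1 else 2) * 3 ^ m +
      (![(2 : ℤ), -1, 1] : Fin 3 → ℤ) (if r = 6 then 0 else if r = 10 then 1 else 2)) : Kˣ) : K) := by
  have c60 : tblG2.cartan 0 6 = -3 := by decide +kernel
  have c61 : tblG2.cartan 1 6 = 2 := by decide +kernel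
  have c70 : tblG2.cartan 0 10 = 3 := by decide +kernel
  have c71 : tblG2.cartan 1 10 = -1 := by decide +kernel
  have c80 : tblG2.cartan 0 11 = 0 := by decide +kernel
  have c81 : tblG2.cartan 1 11 = 1 := by decide +kernel
  rw [chr, show chevG2.rank = 2 from rfl, Finset.prod_range_succ, Finset.prod_range_one]
  have e0 : extend' (g2Par m z) 0 = ((z ^ (3 ^ m : ℕ) : Kˣ) : K) := by
    rw [extend', dif_pos (show 0 < chevG2.rank by decide)]; rfl
  have e1 : extend' (g2Par m z) 1 = (z : K) := by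
    rw [extend', dif_pos (show 1 < chevG2.rank by decide)]; rfl
  rw [e0, e1, ← Units.val_zpow_eq_zpow_val, ← Units.val_zpow_eq_zpow_val, ← Units.val_mul, ← zpow_natCast z (3 ^ m),
    ← zpow_mul, ← zpow_add]
  congr 2
  rcases hr with rfl | rfl | rfl <;> simp [c60, c61, c70, c71, c80, c81, mul_comm]

/-- The fixed torus acts on the parameters by characters. -/
theorem g2_torus_conj (z : Kˣ) (t u v : K) :
    torusHom chevG2 tblG2 K (g2Par m z) * reeU m t u v * (torusHom chevG2 tblG2 K (g2Par m z))⁻¹ =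
      reeU m (chr tblG2 chevG2 (extend' (g2Par m z)) 6 * t) (chr tblG2 chevG2 (extend' (g2Par m z)) 10 * u)
        (chr tblG2 chevG2 (extend' (g2Par m z)) 11 * v) := by
  obtain ⟨hd, hf⟩ := Subgroup.mem_inf.1 (g2_torus_fixed hK z)
  set k := torusHom chevG2 tblG2 K (g2Par m z)
  have hx : k * reeU m t u v * k⁻¹ ∈ chevG2.posUnipotent K ⊓ (twOKG2 (K := K) m).fixed certG2C :=
    ⟨(Subgroup.mem_normalizer_iff.1 (diag_le_normalizer certG2C hd) _).1
      ((g2_pos_fixed hK).2 ⟨t, u, v, rfl⟩).1,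
      Subgroup.mul_mem _ (Subgroup.mul_mem _ hf (reeU_fixed hK t u v)) (Subgroup.inv_mem _ hf)⟩
  obtain ⟨t', u', v', e⟩ := (g2_pos_fixed hK).1 hx
  have hconj : ∀ r < chevG2.nroots, ∀ y : K, k * xg certG2C r y * k⁻¹ =
      xg certG2C r (chr tblG2 chevG2 (extend' (g2Par m z)) r * y) := fun r hr y => torusHom_conj_xg certG2C _ hr y
  have hsix : ∀ A B C' D' X Y : K, k * g2Six 7 6 8 9 10 11 A B C' D' X Y * k⁻¹ = g2Six 7 6 8 9 10 11
      (chr tblG2 chevG2 (extend' (g2Par m z)) 7 * A) (chr tblG2 chevG2 (extend' (g2Par m z)) 6 * B)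
      (chr tblG2 chevG2 (extend' (g2Par m z)) 8 * C') (chr tblG2 chevG2 (extend' (g2Par m z)) 9 * D')
      (chr tblG2 chevG2 (extend' (g2Par m z)) 10 * X) (chr tblG2 chevG2 (extend' (g2Par m z)) 11 * Y) := by
    intro A B C' D' X Y
    unfold g2Six
    rw [← hconj 7 (by decide), ← hconj 6 (by decide), ← hconj 8 (by decide), ← hconj 9 (by decide),
      ← hconj 10 (by decide), ← hconj 11 (by decide)]
    group
  rw [e]
  have e' := e
  rw [reeU, hsix, reeU] at e'
  obtain ⟨-, h2, -, -, h5, h6⟩ := g2Six_inj e'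
  rw [← h2, ← h5, ← h6]

/-- The fixed group is generated by the given elements. -/
theorem g2_fixed_le {W : Subgroup (GL chevG2.Idx K)} (hU : ∀ t u v, reeU m t u v ∈ W)
    (hV : ∀ t u v, reeV m t u v ∈ W) : (twOKG2 (K := K) m).fixed certG2C ≤ W := by
  haveI : CharP K 3 := inferInstanceAs (CharP K esymG2.p)
  set G := (twOKG2 (K := K) m).fixed certG2C
  have h3 : ∀ j, ((-1 : K)) ^ 3 ^ j = -1 := fun j => by rw [g2_neg_pow, one_pow]
  have hxu : xg certG2C 8 (-1 : K) * xg certG2C 10 (-1) = reeU m 0 (-1) 0 := by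
    simp [reeU, g2Six, xg_zero, h3, zero_pow, pow_ne_zero]
  have hxv : xg certG2C 3 (-1 : K) * xg certG2C 1 (-1) = reeV m 0 1 0 := by
    simp [reeV, g2Six, xg_zero, zero_pow, pow_ne_zero]
  have hok : ∀ w : List ℕ, (∀ i ∈ w, i < 2) → ∀ L ∈ w.map (fun i => Ltr.n i ⟨1, 0, 0⟩), L.ok chevG2 := by
    intro w hw L hL
    obtain ⟨i, hi, rfl⟩ := List.mem_map.1 hL
    exact ⟨hw i hi, Or.inl rfl⟩
  have e1 := gl_eq_of_sameWordMod (F := K) (p := 3) certG2C (by
      intro L hL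
      simp only [List.mem_cons, List.not_mem_nil, or_false] at hL
      rcases hL with rfl | rfl <;> exact okX (by decide)) (by
      intro L hL
      simp only [List.mem_append, List.mem_cons, List.not_mem_nil, or_false] at hL
      rcases hL with ((rfl | rfl) | h) | rfl | rfl
      iterate 2 exact okX (by decide)
      · exact hok _ (by decide) L h
      iterate 2 exact okX (by decide)) g2_id1
  simp only [List.map_append, List.prod_append, gl_wnu] at e1
  simp only [List.map_cons, List.map_nil, List.prod_cons, List.prod_nil, Ltr.gl, pval, Mono.val, List.sum_cons,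
    List.sum_nil, Int.cast_neg, Int.cast_one, zpow_zero, mul_one, add_zero] at e1
  rw [hxu, hxv] at e1
  set n := wnu certG2C K [0, 1, 0, 1, 0, 1] with hn
  have hnW : n ∈ W ⊓ G := by
    have he : n = (reeU m 0 (-1) 0)⁻¹ * reeV m 0 1 0 * (reeU m 0 (-1) 0)⁻¹ := by rw [e1]; group
    refine ⟨?_, ?_⟩ <;> rw [he] <;> refine Subgroup.mul_mem _ (Subgroup.mul_mem _ (Subgroup.inv_mem _ ?_) ?_) (Subgroup.inv_mem _ ?_)
    exacts [hU _ _ _, hV _ _ _, hU _ _ _, reeU_fixed hK _ _ _, reeV_fixed hK _ _ _, reeU_fixed hK _ _ _]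
  have hrep : ∀ J < twG2.norb, ∃ x ∈ W ⊓ G, (wnu certG2C K (twG2.lw J))⁻¹ * x ∈ chevG2.diagonalSubgroup K := by
    intro J hJ
    obtain rfl : J = 0 := by
      have : J < 1 := hJ
      omega
    exact ⟨n, hnW, by rw [show twG2.lw 0 = [0, 1, 0, 1, 0, 1] from rfl, ← hn, inv_mul_cancel]; exact one_mem _⟩
  have hbase : ∀ J < twG2.norb, twFixPart certG2C (twG2σ (K := K) m) (twG2.base J) ⊆ W := by
    intro J hJ g hg
    obtain rfl : J = 0 := by
      have : J < 1 := hJ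
      omega
    rw [g2_fixPart hK] at hg
    obtain ⟨t, u, v, rfl⟩ := hg
    exact hU t u v
  refine (twOKG2 (K := K) m).fixed_le_of_base certG2C fullCertG2 twCombG2 hrep hbase ?_
  have hpos := (twOKG2 (K := K) m).pos_fixed_le certG2C fullCertG2 twCombG2 hrep hbase
  have hneg := (twOKG2 (K := K) m).neg_fixed_le certG2C fullCertG2 twCombG2 hrep hbase
  -- squares
  have hsq : ∀ z : Kˣ, torusHom chevG2 tblG2 K (g2Par m (z * z)) ∈ W := by
    intro z
    obtain ⟨hd, hf⟩ := Subgroup.mem_inf.1 (g2_torus_fixed hK z)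
    set k := torusHom chevG2 tblG2 K (g2Par m z) with hk
    have hkU : ∀ t u v, k * reeU m t u v * k⁻¹ ∈ W := fun t u v =>
      hpos ⟨(Subgroup.mem_normalizer_iff.1 (diag_le_normalizer certG2C hd) _).1 ((g2_pos_fixed hK).2 ⟨t, u, v, rfl⟩).1,
        Subgroup.mul_mem _ (Subgroup.mul_mem _ hf (reeU_fixed hK t u v)) (Subgroup.inv_mem _ hf)⟩
    have hvn : reeV m 0 1 0 ∈ chevG2.negUnipotent K := by
      rw [← hxv]
      exact Subgroup.mul_mem _ (xg_mem_neg certG2C (by decide) (by decide) _) (xg_mem_neg certG2C (by decide) (by decide) _)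
    have hkV : k * reeV m 0 1 0 * k⁻¹ ∈ W :=
      hneg ⟨(Subgroup.mem_normalizer_iff.1 (neg_conj_diag certG2C hd) _).1 hvn,
        Subgroup.mul_mem _ (Subgroup.mul_mem _ hf (reeV_fixed hK _ _ _)) (Subgroup.inv_mem _ hf)⟩
    have hkn : k * n * k⁻¹ ∈ W := by
      have he : k * n * k⁻¹ = (k * reeU m 0 (-1) 0 * k⁻¹)⁻¹ * (k * reeV m 0 1 0 * k⁻¹) *
          (k * reeU m 0 (-1) 0 * k⁻¹)⁻¹ := by rw [e1]; group
      rw [he]
      exact W.mul_mem (W.mul_mem (W.inv_mem (hkU _ _ _)) hkV) (W.inv_mem (hkU _ _ _))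
    have hinv : n * k⁻¹ * n⁻¹ = k := by
      rw [hn, show ([0, 1, 0, 1, 0, 1] : List ℕ) = twG2.lw 0 from rfl,
        wnu_conj_diag_inv certG2C (twCombG2.lw_word 0 Nat.one_pos) g2_lw_neg (inv_mem hd), inv_inv]
    have e : k * k = k * n * k⁻¹ * n⁻¹ := by
      conv_lhs => arg 2; rw [← hinv]
      group
    have e2 : k * k = torusHom chevG2 tblG2 K (g2Par m (z * z)) := by
      rw [hk, ← map_mul]
      congr 1
      funext (i : Fin 2)
      fin_cases i
      · exact (mul_pow z z (3 ^ m)).symm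
      · rfl
    rw [← e2, e]
    exact W.mul_mem hkn (W.inv_mem (Subgroup.mem_inf.1 hnW).1)
  -- the element of order two
  have hm1 : torusHom chevG2 tblG2 K (g2Par m (-1)) ∈ W := by
    have e2 := gl_eq_of_sameWordMod (F := K) (p := 3) certG2C (by
        intro L hL
        simp only [List.mem_cons, List.not_mem_nil, or_false] at hL
        rcases hL with rfl | rfl | rfl | rfl <;> exact okX (by decide)) (by
        intro L hL
        simp only [List.mem_append, List.mem_cons, List.not_mem_nil, or_false] at hL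
        rcases hL with (((rfl | rfl | rfl | rfl) | h) | rfl | rfl) | rfl | rfl | rfl | rfl | rfl
        iterate 4 exact okX (by decide)
        · exact hok _ (by decide) L h
        · exact ⟨by decide, Or.inr rfl⟩
        · exact ⟨by decide, Or.inr rfl⟩
        iterate 5 exact okX (by decide)) g2_id2
    simp only [List.map_append, List.prod_append, gl_wnu] at e2
    simp only [List.map_cons, List.map_nil, List.prod_cons, List.prod_nil, Ltr.gl, pval, Mono.val, List.sum_cons,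
      List.sum_nil, Int.cast_neg, Int.cast_one, Int.cast_ofNat, zpow_zero, mul_one, add_zero] at e2
    have h2 : ((2 : K)) ^ 3 ^ m = 2 := by
      rw [show (2 : K) = -1 by
        have := CharP.cast_eq_zero K 3
        push_cast at this
        linear_combination this, h3]
    have a1 : xg certG2C 3 (-1 : K) * (xg certG2C 2 (-1) * (xg certG2C 1 (-1) * xg certG2C 0 (-1))) = reeV m 0 1 1 := by
      simp [reeV, g2Six, xg_zero, zero_pow, pow_ne_zero, mul_assoc]
    have a2 : xg certG2C 8 (1 : K) * (xg certG2C 9 1 * (xg certG2C 10 1 * xg certG2C 11 1)) = reeU m 0 1 1 := by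
      simp [reeU, g2Six, xg_zero, zero_pow, pow_ne_zero, mul_assoc]
    have a3 : xg certG2C 7 (1 : K) * (xg certG2C 6 1 * (xg certG2C 8 2 * (xg certG2C 10 1 * xg certG2C 11 2))) =
        reeU m 1 1 2 := by
      have h12 : (1 : K) + 2 = 0 := by
        have := CharP.cast_eq_zero K 3
        push_cast at this
        linear_combination this
      simp [reeU, g2Six, xg_zero, h2, h12, one_add_one_eq_two, mul_assoc]
    have a4 : hg certG2C (tblG2.simp' 0) (-1 : K) * hg certG2C (tblG2.simp' 1) (-1) =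
        torusHom chevG2 tblG2 K (g2Par m (-1)) := by
      have hp : g2Par (K := K) m (-1) = fun _ => -1 := by
        funext (i : Fin 2)
        fin_cases i
        · exact (show ((-1 : Kˣ)) ^ 3 ^ m = -1 from Units.ext (by rw [Units.val_pow_eq_pow_val, Units.val_neg, Units.val_one, h3]))
        · rfl
      rw [hp, torusHom_eq_prod certG2C _ (l := [0, 1]) (by decide) (by decide) (by decide)]
      simp only [List.map_cons, List.map_nil, List.prod_cons, List.prod_nil, mul_one, extend',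
        show 0 < chevG2.rank from by decide, show 1 < chevG2.rank from by decide, dif_pos]
      rfl
    rw [a1, a2, a3, a4, ← hn] at e2
    have e : torusHom chevG2 tblG2 K (g2Par m (-1)) =
        n⁻¹ * (reeU m 0 1 1)⁻¹ * reeV m 0 1 1 * (reeU m 1 1 2)⁻¹ := by rw [e2]; group
    rw [e]
    exact W.mul_mem (W.mul_mem (W.mul_mem (W.inv_mem (Subgroup.mem_inf.1 hnW).1) (W.inv_mem (hU _ _ _))) (hV _ _ _))
      (W.inv_mem (hU _ _ _))
  intro g hg
  obtain ⟨z, rfl⟩ := (g2_mem_diag hK).1 hg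
  have h2 : ringChar K ≠ 2 := by rw [ringChar.eq K 3]; decide
  by_cases hz : IsSquare (z : K)
  · obtain ⟨w, hw⟩ := hz
    have hw0 : w ≠ 0 := fun e => z.ne_zero (by rw [hw, e, mul_zero])
    rw [show z = Units.mk0 w hw0 * Units.mk0 w hw0 from Units.ext hw]
    exact hsq _
  · have hneg1 : ¬ IsSquare (-1 : K) := by
      rw [FiniteField.isSquare_neg_one_iff, hK, not_not, pow_succ, pow_mul, Nat.mul_mod, Nat.pow_mod]
      norm_num
    obtain ⟨w, hw⟩ : IsSquare (-(z : K)) := by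
      classical
      rw [← quadraticChar_one_iff_isSquare (neg_ne_zero.2 z.ne_zero), neg_eq_neg_one_mul, map_mul,
        quadraticChar_neg_one_iff_not_isSquare.2 hz, quadraticChar_neg_one_iff_not_isSquare.2 hneg1]
      norm_num
    have hw0 : w ≠ 0 := fun e => z.ne_zero (by rw [e, mul_zero, neg_eq_zero] at hw; exact hw)
    have e : z = -1 * (Units.mk0 w hw0 * Units.mk0 w hw0) := Units.ext (by simp [← hw])
    have e' : g2Par m z = g2Par m (-1) * g2Par m (Units.mk0 w hw0 * Units.mk0 w hw0) := by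
      funext (i : Fin 2)
      fin_cases i
      · show z ^ 3 ^ m = _
        rw [e, mul_pow]; rfl
      · exact e
    rw [e', map_mul]
    exact W.mul_mem hm1 (hsq _)

/-- The defined group is the group of fixed points. -/
theorem twistedG2_eq : Cfsg.Lie.twistedG2 K (3 ^ m) = (twOKG2 (K := K) m).fixed certG2C := by
  refine le_antisymm ((Subgroup.closure_le _).2 ?_) (g2_fixed_le hK (fun t u v => ?_) fun t u v => ?_)
  · rintro g ⟨w, ⟨t, u, v, rfl | rfl⟩, hg⟩
    · rw [show g = reeU m t u v from Units.ext (hg.trans (coe_reeU m t u v).symm)]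
      exact reeU_fixed hK t u v
    · rw [show g = reeV m t u v from Units.ext (hg.trans (coe_reeV m t u v).symm)]
      exact reeV_fixed hK t u v
  · exact Subgroup.subset_closure ⟨_, ⟨t, u, v, Or.inl rfl⟩, coe_reeU m t u v⟩
  · exact Subgroup.subset_closure ⟨_, ⟨t, u, v, Or.inr rfl⟩, coe_reeV m t u v⟩

/-- The orbit subgroup sees both fundamental roots. -/
theorem g2_witness : TwWitness certG2C twG2 (twG2σ (K := K) m) := by
  intro i hi
  refine ⟨0, Nat.one_pos, fun r => [0, 0, 0, 0, 0, 0, (1 : K), 1 ^ 3 ^ m, 1 ^ (3 ^ m + 1) + 0 ^ 3 ^ m,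
    1 ^ (2 * 3 ^ m + 1) + 0 ^ 3 ^ m, 0, 0].getD r 0, ?_, ?_, ?_⟩
  · revert i hi; decide +kernel
  · have : tblG2.simp' i = 6 ∨ tblG2.simp' i = 7 := by revert i hi; decide +kernel
    rcases this with e | e <;> rw [e] <;> simp
  · rw [g2_fixPart hK, show twG2.base 0 = [7, 6, 8, 9, 10, 11] from rfl, ← g2Six_lprod]
    exact ⟨1, 0, 0, rfl⟩

theorem g2_hne : ∀ J < twG2.norb, ∃ g ∈ twFixPart certG2C (twG2σ (K := K) m) (twG2.base J), g ≠ 1 := fun J hJ =>
  exists_ne_of_card (g2_card_fixPart hK hJ)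
    ((show 2 ≤ 3 ^ (2 * m + 1) from (by norm_num : 2 ≤ 3).trans (Nat.le_self_pow (by omega) 3)).trans
      (Nat.le_self_pow (by omega) _))

/-- The order of ²G₂(q). -/
theorem twistedG2_order : Nat.card ↥(Cfsg.Lie.twistedG2 K (3 ^ m)) =
    (3 ^ (2 * m + 1)) ^ 3 * (3 ^ (2 * m + 1) - 1) * ((3 ^ (2 * m + 1)) ^ 3 + 1) := by
  rw [twistedG2_eq hK, (twOKG2 (K := K) m).card_fixed certG2C fullCertG2 twCombG2 (wt := fun _ => 3) (q := 3 ^ (2 * m + 1))
    (d := 2) (fun J hJ => g2_card_fixPart hK hJ) two_pos (by decide +kernel), g2_card_diag hK]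
  have e : twG2.elts.map (fun E => (3 ^ (2 * m + 1)) ^ (E.len / 2)) = [(3 ^ (2 * m + 1)) ^ 0, (3 ^ (2 * m + 1)) ^ 3] := rfl
  rw [e, show chevG2.nroots / 2 / 2 = 3 from rfl]
  simp only [List.sum_cons, List.sum_nil, pow_zero, add_zero]
  ring

/-- Products of parameters add in the first coordinate. -/
theorem reeU_mul_fst (t u v t' u' v' : K) :
    ∃ U V, reeU m t u v * reeU m t' u' v' = reeU m (t + t') U V := by
  obtain ⟨s, U, V, e⟩ := (g2_pos_fixed hK).1
    (Subgroup.mul_mem _ ((g2_pos_fixed hK).2 ⟨t, u, v, rfl⟩) ((g2_pos_fixed hK).2 ⟨t', u', v', rfl⟩))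
  have hk : chevG2.nroots ≤ 2 * 6 := by decide
  have hsplit : ∀ A B C' D' X Y : K, ∃ a ∈ upper certG2C K 7, g2Six 7 6 8 9 10 11 A B C' D' X Y = xg certG2C 6 B * a := by
    intro A B C' D' X Y
    refine ⟨xg certG2C 6 (-B) * xg certG2C 7 A * (xg certG2C 6 (-B))⁻¹ * (xg certG2C 8 C' * xg certG2C 9 D' *
      xg certG2C 10 X * xg certG2C 11 Y), ?_, ?_⟩
    · refine mul_mem (conj_upper' certG2C fullCertG2.comm hk _ (xg_mem_upper certG2C le_rfl _)) ?_
      exact mul_mem (mul_mem (mul_mem (xg_mem_upper certG2C (by decide) _) (xg_mem_upper certG2C (by decide) _))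
        (xg_mem_upper certG2C (by decide) _)) (xg_mem_upper certG2C (by decide) _)
    · rw [g2Six, ← xg_inv]; group
  obtain ⟨a, ha, ea⟩ := hsplit (t ^ 3 ^ m) t (t ^ (3 ^ m + 1) + u ^ 3 ^ m) (t ^ (2 * 3 ^ m + 1) + v ^ 3 ^ m) u v
  obtain ⟨b, hb, eb⟩ := hsplit (t' ^ 3 ^ m) t' (t' ^ (3 ^ m + 1) + u' ^ 3 ^ m) (t' ^ (2 * 3 ^ m + 1) + v' ^ 3 ^ m) u' v'
  obtain ⟨c, hc, ec⟩ := hsplit (s ^ 3 ^ m) s (s ^ (3 ^ m + 1) + U ^ 3 ^ m) (s ^ (2 * 3 ^ m + 1) + V ^ 3 ^ m) U V
  have e' : xg certG2C 6 (t + t') * (xg certG2C 6 (-t') * a * (xg certG2C 6 (-t'))⁻¹ * b) = xg certG2C 6 s * c := by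
    rw [← xg_add, ← xg_inv, ← ec]
    refine Eq.trans ?_ e
    rw [reeU, reeU, ea, eb]; group
  obtain ⟨rfl, -⟩ := upper_unique certG2C hk (by decide) (mul_mem (conj_upper' certG2C fullCertG2.comm hk _ ha) hb) hc e'
  exact ⟨U, V, e⟩

theorem reeU_mul_zero (u v u' v' : K) : reeU m 0 u v * reeU m 0 u' v' = reeU m 0 (u + u') (v + v') := by
  obtain ⟨U, V, e⟩ := reeU_mul_fst hK 0 u v 0 u' v'
  rw [e, add_zero]
  haveI : CharP K 3 := inferInstanceAs (CharP K esymG2.p)
  have hC : ∀ a b, chkCommMod 3 tblG2 a b = true → ∀ s s' : K, xg certG2C a s * xg certG2C b s' = xg certG2C b s' * xg certG2C a s :=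
    fun a b h s s' => (xg_commute_mod certG2C fullCertG2.comm h s s').eq
  have e2 := e
  simp only [reeU, g2Six, xg_zero, zero_pow (pow_ne_zero m (by norm_num : (3 : ℕ) ≠ 0)), add_zero,
    zero_pow (Nat.succ_ne_zero _), one_mul, zero_add] at e2
  have e3 : xg certG2C 8 ((u + u') ^ 3 ^ m) * xg certG2C 9 ((v + v') ^ 3 ^ m) * xg certG2C 10 (u + u') *
      xg certG2C 11 (v + v') = xg certG2C 8 (U ^ 3 ^ m) * xg certG2C 9 (V ^ 3 ^ m) * xg certG2C 10 U * xg certG2C 11 V := by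
    rw [← e2, g2_add_pow, g2_add_pow]
    simp only [← xg_add]
    have k1 : Commute (xg certG2C 9 (v ^ 3 ^ m) * xg certG2C 10 u * xg certG2C 11 v) (xg certG2C 8 (u' ^ 3 ^ m)) :=
      Commute.mul_left (Commute.mul_left (hC 8 9 (by decide +kernel) _ _).symm (hC 8 10 (by decide +kernel) _ _).symm)
        (hC 8 11 (by decide +kernel) _ _).symm
    have k2 : Commute (xg certG2C 10 u * xg certG2C 11 v) (xg certG2C 9 (v' ^ 3 ^ m)) :=
      Commute.mul_left (hC 9 10 (by decide +kernel) _ _).symm (hC 9 11 (by decide +kernel) _ _).symm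
    have k3 : Commute (xg certG2C 11 v) (xg certG2C 10 u') := (hC 10 11 (by decide +kernel) _ _).symm
    symm
    calc xg certG2C 8 (u ^ 3 ^ m) * xg certG2C 9 (v ^ 3 ^ m) * xg certG2C 10 u * xg certG2C 11 v *
          (xg certG2C 8 (u' ^ 3 ^ m) * xg certG2C 9 (v' ^ 3 ^ m) * xg certG2C 10 u' * xg certG2C 11 v')
        = xg certG2C 8 (u ^ 3 ^ m) * ((xg certG2C 9 (v ^ 3 ^ m) * xg certG2C 10 u * xg certG2C 11 v) * xg certG2C 8 (u' ^ 3 ^ m)) *
            xg certG2C 9 (v' ^ 3 ^ m) * xg certG2C 10 u' * xg certG2C 11 v' := by group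
      _ = xg certG2C 8 (u ^ 3 ^ m) * xg certG2C 8 (u' ^ 3 ^ m) * xg certG2C 9 (v ^ 3 ^ m) *
            ((xg certG2C 10 u * xg certG2C 11 v) * xg certG2C 9 (v' ^ 3 ^ m)) * xg certG2C 10 u' * xg certG2C 11 v' := by
          rw [k1.eq]; group
      _ = xg certG2C 8 (u ^ 3 ^ m) * xg certG2C 8 (u' ^ 3 ^ m) * (xg certG2C 9 (v ^ 3 ^ m) * xg certG2C 9 (v' ^ 3 ^ m)) *
            xg certG2C 10 u * (xg certG2C 11 v * xg certG2C 10 u') * xg certG2C 11 v' := by rw [k2.eq]; group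
      _ = _ := by rw [k3.eq]; group
  have e4 : g2Six 7 6 8 9 10 11 0 0 ((u + u') ^ 3 ^ m) ((v + v') ^ 3 ^ m) (u + u') (v + v') =
      g2Six 7 6 8 9 10 11 (0 : K) 0 (U ^ 3 ^ m) (V ^ 3 ^ m) U V := by simpa [g2Six, xg_zero] using e3
  obtain ⟨-, -, -, -, h5, h6⟩ := g2Six_inj e4
  rw [h5, h6]

/-- Every character of the fixed torus on the parameters is non-trivial. -/
theorem g2_chr_eq_one {z : Kˣ} {r : ℕ} (hr : r = 6 ∨ r = 10 ∨ r = 11)
    (h : chr tblG2 chevG2 (extend' (g2Par m z)) r = 1) : z ^ 2 = 1 := by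
  rw [g2_chr hK z r hr] at h
  have h' := Units.val_eq_one.1 h
  have hq : z ^ ((3 : ℤ) ^ m * (3 * 3 ^ m)) = z := by
    rw [show ((3 : ℤ) ^ m * (3 * 3 ^ m)) = ((3 ^ m * (3 ^ m * 3) : ℕ) : ℤ) by push_cast; ring, zpow_natCast, pow_mul]
    exact Units.ext (by rw [Units.val_pow_eq_pow_val, Units.val_pow_eq_pow_val]; exact g2_theta hK _)
  set θ : ℤ := 3 ^ m
  rcases hr with rfl | rfl | rfl
  · have h1 : z ^ (3 * θ) = z ^ (2 : ℤ) := by
      simp only [↓reduceIte, Matrix.cons_val_zero] at h'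
      rw [show (3 * θ) = -(-3 * θ + 2) + 2 by ring, zpow_add, zpow_neg, h']; simp
    have h2 : z ^ (3 : ℤ) = z ^ (4 : ℤ) := by
      calc z ^ (3 : ℤ) = (z ^ (θ * (3 * θ))) ^ (3 : ℤ) := by rw [hq]
        _ = (z ^ (3 * θ)) ^ (3 * θ) := by rw [← zpow_mul, ← zpow_mul]; ring_nf
        _ = (z ^ (3 * θ)) ^ (2 : ℤ) := by rw [h1, ← zpow_mul, ← zpow_mul, mul_comm, zpow_mul, h1, ← zpow_mul]
        _ = z ^ (4 : ℤ) := by rw [h1, ← zpow_mul]; norm_num
    rw [show (4 : ℤ) = 3 + 1 by norm_num, zpow_add, zpow_one, eq_comm, mul_eq_left] at h2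
    rw [h2, one_pow]
  · have h1 : z ^ (3 * θ) = z := by
      simp only [show ¬ (10 : ℕ) = 6 by decide, if_false, ↓reduceIte, Matrix.cons_val_one, Matrix.cons_val_zero] at h'
      rw [show (3 * θ) = (3 * θ + -1) + 1 by ring, zpow_add, h', one_mul, zpow_one]
    have h2 : z ^ (3 : ℤ) = z := by
      calc z ^ (3 : ℤ) = (z ^ (θ * (3 * θ))) ^ (3 : ℤ) := by rw [hq]
        _ = (z ^ (3 * θ)) ^ (3 * θ) := by rw [← zpow_mul, ← zpow_mul]; ring_nf
        _ = z := by rw [h1, h1]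
    rw [show (3 : ℤ) = ((2 + 1 : ℕ) : ℤ) by norm_num, zpow_natCast, pow_succ, mul_eq_right] at h2
    exact h2
  · simp only [show ¬ (11 : ℕ) = 6 by decide, show ¬ (11 : ℕ) = 10 by decide, if_false, Matrix.cons_val_two,
      Matrix.tail_cons, Matrix.head_cons] at h'
    simp at h'
    rw [h', one_pow]

set_option maxHeartbeats 1000000 in
/-- Perfectness for `q ≥ 27`. -/
theorem twistedG2_perfect (hm : 1 ≤ m) : commutator ↥((twOKG2 (K := K) m).fixed certG2C) = ⊤ := by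
  set G := (twOKG2 (K := K) m).fixed certG2C
  let W : Subgroup (GL chevG2.Idx K) := (commutator ↥G).map G.subtype
  suffices h : G ≤ W by
    refine eq_top_iff.2 fun x _ => ?_
    obtain ⟨y, hy, e⟩ := h x.2
    rwa [show x = y from Subtype.ext e.symm]
  obtain ⟨z, hz⟩ : ∃ z : Kˣ, z ^ 2 ≠ 1 := by
    classical
    by_contra hno
    push Not at hno
    have hsub : (Finset.univ : Finset Kˣ) ⊆ {1, -1} := fun z _ => by
      rcases sq_eq_one_iff.1 (show ((z : Kˣ) : K) ^ 2 = 1 by rw [← Units.val_pow_eq_pow_val, hno z, Units.val_one]) with e | e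
      · simp [Units.ext_iff, e]
      · simp [Units.ext_iff, e]
    have := (Finset.card_le_card hsub).trans (Finset.card_le_two)
    rw [Finset.card_univ, Fintype.card_units, hK] at this
    have h27 : 3 ^ 3 ≤ 3 ^ (2 * m + 1) := Nat.pow_le_pow_right (by norm_num) (by omega)
    omega
  set k := torusHom chevG2 tblG2 K (g2Par m z)
  have hkG : k ∈ G := (Subgroup.mem_inf.1 (g2_torus_fixed hK z)).2
  set a := chr tblG2 chevG2 (extend' (g2Par m z)) 6
  set b := chr tblG2 chevG2 (extend' (g2Par m z)) 10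
  set c := chr tblG2 chevG2 (extend' (g2Par m z)) 11
  have ha : a - 1 ≠ 0 := sub_ne_zero.2 fun e => hz (g2_chr_eq_one hK (Or.inl rfl) e)
  have hb : b - 1 ≠ 0 := sub_ne_zero.2 fun e => hz (g2_chr_eq_one hK (Or.inr (Or.inl rfl)) e)
  have hc : c - 1 ≠ 0 := sub_ne_zero.2 fun e => hz (g2_chr_eq_one hK (Or.inr (Or.inr rfl)) e)
  have hcomm : ∀ t u v, reeU m (a * t) (b * u) (c * v) * (reeU m t u v)⁻¹ ∈ W := fun t u v => by
    rw [← g2_torus_conj hK z t u v]
    exact commutator_image_mem hkG (reeU_fixed hK t u v)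
  have hinv : ∀ u v, (reeU m (0 : K) u v)⁻¹ = reeU m 0 (-u) (-v) := fun u v => by
    refine inv_eq_of_mul_eq_one_right ?_
    rw [reeU_mul_zero hK, add_neg_cancel, add_neg_cancel]
    simp [reeU, g2Six, xg_zero, zero_pow, pow_ne_zero]
  have h0 : ∀ u v : K, reeU m 0 u v ∈ W := fun u v => by
    have := hcomm 0 ((b - 1)⁻¹ * u) ((c - 1)⁻¹ * v)
    rw [mul_zero, hinv, reeU_mul_zero hK] at this
    convert this using 2 <;> field_simp <;> ring
  have hU : ∀ t u v : K, reeU m t u v ∈ W := fun T' U' V' => by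
    have hx := hcomm ((a - 1)⁻¹ * T') 0 0
    rw [mul_zero, mul_zero] at hx
    obtain ⟨t1, u1, v1, e1⟩ := (g2_pos_fixed hK).1
      (Subgroup.inv_mem _ ((g2_pos_fixed hK).2 ⟨(a - 1)⁻¹ * T', 0, 0, rfl⟩))
    obtain ⟨U1, V1, e2⟩ := reeU_mul_fst hK ((a - 1)⁻¹ * T') 0 0 t1 u1 v1
    rw [← e1, mul_inv_cancel] at e2
    have ht1 : t1 = -((a - 1)⁻¹ * T') := by
      have e3 : g2Six 7 6 8 9 10 11 (0 : K) 0 0 0 0 0 = reeU m ((a - 1)⁻¹ * T' + t1) U1 V1 := by
        rw [← e2]; simp [g2Six, xg_zero]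
      obtain ⟨-, h2, -⟩ := g2Six_inj (e3.trans rfl)
      linear_combination -h2
    obtain ⟨U2, V2, e4⟩ := reeU_mul_fst hK (a * ((a - 1)⁻¹ * T')) 0 0 t1 u1 v1
    rw [e1, e4, ht1, show a * ((a - 1)⁻¹ * T') + -((a - 1)⁻¹ * T') = T' by field_simp; ring] at hx
    obtain ⟨t3, u3, v3, e5⟩ := (g2_pos_fixed hK).1 (Subgroup.inv_mem _ ((g2_pos_fixed hK).2 ⟨T', U2, V2, rfl⟩))
    obtain ⟨U4, V4, e6⟩ := reeU_mul_fst hK T' U2 V2 t3 u3 v3
    rw [← e5, mul_inv_cancel] at e6
    have ht3 : t3 = -T' := by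
      have e7 : g2Six 7 6 8 9 10 11 (0 : K) 0 0 0 0 0 = reeU m (T' + t3) U4 V4 := by
        rw [← e6]; simp [g2Six, xg_zero]
      obtain ⟨-, h2, -⟩ := g2Six_inj (e7.trans rfl)
      linear_combination -h2
    obtain ⟨U8, V8, e8⟩ := reeU_mul_fst hK t3 u3 v3 T' U' V'
    rw [← e5, ht3, neg_add_cancel] at e8
    have e9 : reeU m T' U' V' = reeU m T' U2 V2 * reeU m 0 U8 V8 := by rw [← e8]; group
    rw [e9]
    exact W.mul_mem hx (h0 _ _)
  refine g2_fixed_le hK hU fun t u v => ?_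
  obtain ⟨n, hn, hd⟩ := (twOKG2 (K := K) m).exists_fixed_rep certG2C twCombG2
    (show 1 < twG2.elts.length by decide)
  have hnV : n * reeV m t u v * n⁻¹ ∈ chevG2.posUnipotent K := by
    obtain ⟨c', -, hcl⟩ := mono_conj_lprod certG2C (twCombG2.eword_word certG2C (show 1 < twG2.elts.length by decide)) hd
    have hP : ∀ r ∈ [4, 5, 3, 2, 1, 0], ∀ s : K, n * xg certG2C r s * n⁻¹ ∈ chevG2.posUnipotent K := by
      intro r hr s
      have h12 : r < chevG2.nroots := by revert r hr; decide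
      have hp : chevG2.nroots ≤ 2 * wperm tblG2 (twG2.eword 1) r := by revert r hr; decide +kernel
      have := hcl [r] (fun _ => s) (by simpa using h12)
      simp [lprod] at this
      rw [this]
      exact xg_mem_pos certG2C (wperm_lt certG2C (twCombG2.eword_word certG2C (show 1 < twG2.elts.length by decide)) h12) hp _
    have key : ∀ x y : GL chevG2.Idx K, n * x * n⁻¹ ∈ chevG2.posUnipotent K →
        n * y * n⁻¹ ∈ chevG2.posUnipotent K → n * (x * y) * n⁻¹ ∈ chevG2.posUnipotent K := fun x y hx hy => by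
      have := Subgroup.mul_mem _ hx hy
      rwa [show n * x * n⁻¹ * (n * y * n⁻¹) = n * (x * y) * n⁻¹ by group] at this
    rw [reeV, g2Six]
    exact key _ _ (key _ _ (key _ _ (key _ _ (key _ _ (hP 4 (by decide) _) (hP 5 (by decide) _)) (hP 3 (by decide) _))
      (hP 2 (by decide) _)) (hP 1 (by decide) _)) (hP 0 (by decide) _)
  obtain ⟨t', u', v', e⟩ := (g2_pos_fixed hK).1
    ⟨hnV, Subgroup.mul_mem _ (Subgroup.mul_mem _ hn (reeV_fixed hK t u v)) (Subgroup.inv_mem _ hn)⟩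
  have := commutator_image_conj (Subgroup.inv_mem _ hn) (hU t' u' v')
  rwa [← e, inv_inv, show n⁻¹ * (n * reeV m t u v * n⁻¹) * n = reeV m t u v by group] at this

end Fixed

end Cfsg.Lib.Chev
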