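import Cfsg.Agent.Lib.Chev.TwG2Facts

/-! Element orders in the Sylow 3-subgroup of ²G₂(q). -/

set_option autoImplicit false
set_option linter.unusedSectionVars false
set_option maxRecDepth 100000

namespace Cfsg.Lib.Chev

open Cfsg.Lie

/-- The element with first parameter `1` and third parameter `0`, in two unknowns. -/
def g2UnitWord : List Ltr :=
  [.x 7 [⟨1, 0, 0⟩], .x 6 [⟨1, 0, 0⟩], .x 8 [⟨1, 0, 0⟩, ⟨1, 1, 0⟩], .x 9 [⟨1, 0, 0⟩], .x 10 [⟨1, 0, 1⟩]]

/-- The same with second parameter `0`. -/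
def g2UnitWord0 : List Ltr :=
  [.x 7 [⟨1, 0, 0⟩], .x 6 [⟨1, 0, 0⟩], .x 8 [⟨1, 0, 0⟩], .x 9 [⟨1, 0, 0⟩]]

theorem g2_cube_word : sameWordMod 3 tblG2 (g2UnitWord ++ g2UnitWord ++ g2UnitWord)
    [.x 9 [⟨-1, 0, 0⟩], .x 11 [⟨-1, 0, 0⟩]] = true := by decide +kernel

theorem g2_cube_word0 : sameWordMod 3 tblG2 (g2UnitWord0 ++ g2UnitWord0 ++ g2UnitWord0)
    [.x 9 [⟨-1, 0, 0⟩], .x 11 [⟨-1, 0, 0⟩]] = true := by decide +kernel

theorem g2_central_chk : ([6, 7, 8, 10].all fun r => chkCommMod 3 tblG2 9 r && chkCommMod 3 tblG2 11 r) = true := by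
  decide +kernel

variable {K : Type*} [Field K] [Fintype K] [CharP K esymG2.p] {m : ℕ} (hK : Fintype.card K = 3 ^ (2 * m + 1))
include hK

theorem g2_cube_unit (u : K) : reeU m 1 u 0 ^ 3 = reeU m 0 0 (-1) := by
  haveI : CharP K 3 := inferInstanceAs (CharP K esymG2.p)
  have hm1 : ((-1 : K)) ^ 3 ^ m = -1 := by rw [g2_neg_pow, one_pow]
  have hp : 3 ^ m ≠ 0 := pow_ne_zero _ (by norm_num)
  refine Units.ext ?_
  have hR : ((reeU m 0 0 (-1) : GL chevG2.Idx K) : Matrix chevG2.Idx chevG2.Idx K) =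
      chevG2.x K 9 (-1) * chevG2.x K 11 (-1) := by
    rw [← coe_xg certG2C, ← coe_xg certG2C, ← Units.val_mul]
    congr 1
    simp [reeU, g2Six, xg_zero, hm1, hp]
  rw [hR, Units.val_pow_eq_pow_val, pow_succ, pow_two]
  by_cases hu : u = 0
  · subst hu
    have e := wmat_eq_of_sameWordMod (1 : K) 1 (p := 3) certG2C.spec.shape one_ne_zero one_ne_zero
      (by intro L hL
          simp only [g2UnitWord0, List.mem_append, List.mem_cons, List.not_mem_nil, or_false] at hL
          rcases hL with (h | h) | h <;> rcases h with rfl | rfl | rfl | rfl <;> exact okX (by decide))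
      (by intro L hL
          simp only [List.mem_cons, List.not_mem_nil, or_false] at hL
          rcases hL with rfl | rfl <;> exact okX (by decide)) g2_cube_word0
    simp [g2UnitWord0, wmat, Ltr.mat, pval, Mono.val] at e
    rw [← e]
    simp [reeU, g2Six, xg_zero, hp, coe_xg, mul_assoc]
  · have e := wmat_eq_of_sameWordMod (u ^ 3 ^ m) u (p := 3) certG2C.spec.shape (pow_ne_zero _ hu) hu
      (by intro L hL
          simp only [g2UnitWord, List.mem_append, List.mem_cons, List.not_mem_nil, or_false] at hL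
          rcases hL with (h | h) | h <;> rcases h with rfl | rfl | rfl | rfl | rfl <;> exact okX (by decide))
      (by intro L hL
          simp only [List.mem_cons, List.not_mem_nil, or_false] at hL
          rcases hL with rfl | rfl <;> exact okX (by decide)) g2_cube_word
    simp [g2UnitWord, wmat, Ltr.mat, pval, Mono.val] at e
    rw [← e]
    simp [reeU, g2Six, xg_zero, hp, coe_xg, mul_assoc]

theorem reeU_zero : reeU m (0 : K) 0 0 = 1 := by simp [reeU, g2Six, xg_zero, zero_pow]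

theorem reeU_inj {t u v t' u' v' : K} (e : reeU m t u v = reeU m t' u' v') : t = t' ∧ u = u' ∧ v = v' := by
  rw [reeU, reeU] at e
  obtain ⟨-, a, -, -, b, c⟩ := g2Six_inj e
  exact ⟨a, b, c⟩

theorem g2_central_commute (t u v : K) : Commute (reeU m t u 0) (reeU m 0 0 v) := by
  haveI : CharP K 3 := inferInstanceAs (CharP K esymG2.p)
  have hp : 3 ^ m ≠ 0 := pow_ne_zero _ (by norm_num)
  have h := g2_central_chk
  simp only [List.all_cons, List.all_nil, Bool.and_eq_true, and_true] at h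
  obtain ⟨⟨a6, b6⟩, ⟨a7, b7⟩, ⟨a8, b8⟩, a10, b10⟩ := h
  have hc : ∀ {a b : ℕ}, chkCommMod 3 tblG2 a b = true → ∀ y y' : K, Commute (xg certG2C b y) (xg certG2C a y') :=
    fun h y y' => (xg_commute_mod certG2C fullCertG2.comm h y' y).symm
  have e1 : reeU m 0 0 v = xg certG2C 9 (v ^ 3 ^ m) * xg certG2C 11 v := by simp [reeU, g2Six, xg_zero, hp]
  rw [e1]
  unfold reeU g2Six
  have s9 : ∀ y y' : K, Commute (xg certG2C 9 y) (xg certG2C 9 y') := fun y y' => by
    show _ * _ = _ * _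
    rw [xg_add, xg_add, add_comm]
  have h911 : ∀ y y' : K, Commute (xg certG2C 9 y) (xg certG2C 11 y') := fun y y' =>
    xg_commute_mod (p := 3) certG2C fullCertG2.comm (by decide +kernel) y y'
  rw [xg_zero certG2C 11, mul_one]
  exact Commute.mul_left (Commute.mul_left (Commute.mul_left (Commute.mul_left
    (Commute.mul_right (hc a7 _ _) (hc b7 _ _)) (Commute.mul_right (hc a6 _ _) (hc b6 _ _)))
    (Commute.mul_right (hc a8 _ _) (hc b8 _ _))) (Commute.mul_right (s9 _ _) (h911 _ _)))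
    (Commute.mul_right (hc a10 _ _) (hc b10 _ _))

theorem g2_chr6_surjective : Function.Surjective fun z : Kˣ =>
    Units.mk0 (chr tblG2 chevG2 (extend' (g2Par m z)) 6) (chr_ne_zero _ (fun j _ => extend'_ne _ j) 6) := by
  haveI : CharP K 3 := inferInstanceAs (CharP K esymG2.p)
  have hval : ∀ z : Kˣ, Units.mk0 (chr tblG2 chevG2 (extend' (g2Par m z)) 6) (chr_ne_zero _ (fun j _ => extend'_ne _ j) 6)
      = z ^ ((-3 : ℤ) * 3 ^ m + 2) := fun z => by
    refine Units.ext ?_
    rw [Units.val_mk0, g2_chr hK z 6 (Or.inl rfl)]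
    simp
  let f : Kˣ →* Kˣ := zpowGroupHom ((-3 : ℤ) * 3 ^ m + 2)
  have hinj : Function.Injective f := (injective_iff_map_eq_one f).2 fun z hz => by
    have h2 : z ^ 2 = 1 := g2_chr_eq_one hK (Or.inl rfl) (by
      have := congrArg (fun w : Kˣ => (w : K)) ((hval z).trans hz)
      simpa using this)
    have hodd : Odd ((-3 : ℤ) * 3 ^ m + 2) := by
      refine Odd.add_even ?_ (by decide)
      exact Odd.mul (by decide) (Odd.pow (by decide))
    obtain ⟨j, hj⟩ := hodd
    have hz' : z ^ ((-3 : ℤ) * 3 ^ m + 2) = 1 := hz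
    have h2' : z ^ (2 : ℤ) = 1 := by rw [← h2]; exact zpow_natCast z 2
    rw [hj, zpow_add, zpow_mul, h2', one_zpow, one_mul, zpow_one] at hz'
    exact hz'
  intro w
  obtain ⟨z, hz⟩ := Finite.injective_iff_surjective.1 hinj w
  exact ⟨z, (hval z).trans hz⟩

/-- The elements of order three. -/
theorem g2_orderOf_three (t u v : K) : orderOf (reeU m t u v) = 3 ↔ t = 0 ∧ (u, v) ≠ (0, 0) := by
  haveI : CharP K 3 := inferInstanceAs (CharP K esymG2.p)
  haveI : Fact (Nat.Prime 3) := ⟨Nat.prime_three⟩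
  have h3 : (3 : K) = 0 := by
    have := CharP.cast_eq_zero K 3
    exact_mod_cast this
  have hzero : ∀ a b : K, reeU m 0 a b ^ 3 = 1 := fun a b => by
    rw [pow_succ, pow_two, reeU_mul_zero hK, reeU_mul_zero hK, show a + a + a = 3 * a by ring, show b + b + b = 3 * b by ring,
      h3, zero_mul, zero_mul, reeU_zero hK]
  by_cases ht : t = 0
  · subst ht
    simp only [true_and]
    constructor
    · intro h e
      obtain ⟨rfl, rfl⟩ := Prod.mk.injEq .. ▸ e
      rw [reeU_zero hK, orderOf_one] at h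
      omega
    · intro h
      exact orderOf_eq_prime (hzero u v) fun e => h (by
        obtain ⟨-, rfl, rfl⟩ := reeU_inj hK (e.trans (reeU_zero hK).symm)
        rfl)
  · simp only [ht, false_and, iff_false]
    intro h
    obtain ⟨z, hz⟩ := g2_chr6_surjective hK (Units.mk0 t ht)⁻¹
    have hz' : chr tblG2 chevG2 (extend' (g2Par m z)) 6 = t⁻¹ := by
      have := congrArg (fun w : Kˣ => (w : K)) hz
      simpa using this
    have hpow := pow_orderOf_eq_one (reeU m t u v)
    rw [h] at hpow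
    set k := torusHom chevG2 tblG2 K (g2Par m z)
    have hc : (k * reeU m t u v * k⁻¹) ^ 3 = 1 := by rw [conj_pow, hpow]; group
    rw [g2_torus_conj hK, hz', inv_mul_cancel₀ ht] at hc
    set a := chr tblG2 chevG2 (extend' (g2Par m z)) 10 * u
    set b := chr tblG2 chevG2 (extend' (g2Par m z)) 11 * v
    obtain ⟨U, V, e⟩ := reeU_mul_fst hK 1 a 0 0 0 b
    have e1 : reeU m 1 a b = reeU m 1 a 0 * reeU m 0 0 b := by
      have hp : 3 ^ m ≠ 0 := pow_ne_zero _ (by norm_num)
      have hC := xg_commute_mod (p := 3) certG2C fullCertG2.comm (F := K) (show chkCommMod 3 tblG2 9 10 = true by decide +kernel)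
      simp only [reeU, g2Six, xg_zero, one_pow, zero_pow hp, add_zero, mul_one, one_mul, zero_pow (Nat.succ_ne_zero _), zero_add]
      simp only [← xg_add, mul_assoc]
      rw [← mul_assoc (xg certG2C 9 (b ^ 3 ^ m)) (xg certG2C 10 a), (hC _ _).eq, mul_assoc]
    rw [e1, (g2_central_commute hK 1 a b).mul_pow, g2_cube_unit hK, hzero, mul_one] at hc
    have := (reeU_inj hK (hc.trans (reeU_zero hK).symm)).2.2
    exact neg_ne_zero.2 one_ne_zero this

theorem g2_card_order_three :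
    Nat.card {g : ↥(chevG2.posUnipotent K ⊓ (twOKG2 (K := K) m).fixed certG2C) // orderOf g = 3} =
      (3 ^ (2 * m + 1)) ^ 2 - 1 := by
  classical
  refine (Nat.card_eq_of_bijective (fun p : {p : K × K // p ≠ (0, 0)} =>
    (⟨⟨reeU m 0 p.1.1 p.1.2, (g2_pos_fixed hK).2 ⟨0, p.1.1, p.1.2, rfl⟩⟩,
      by rw [Subgroup.orderOf_mk]; exact (g2_orderOf_three hK 0 p.1.1 p.1.2).2 ⟨rfl, p.2⟩⟩ :
      {g : ↥(chevG2.posUnipotent K ⊓ (twOKG2 (K := K) m).fixed certG2C) // orderOf g = 3})) ⟨?_, ?_⟩).symm.trans ?_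
  · rintro ⟨⟨a, b⟩, _⟩ ⟨⟨c, d⟩, _⟩ e
    obtain ⟨-, rfl, rfl⟩ := reeU_inj hK (congrArg (fun x => ((x.1 : _) : GL chevG2.Idx K)) e)
    rfl
  · rintro ⟨⟨g, hg⟩, ho⟩
    obtain ⟨t, u, v, rfl⟩ := (g2_pos_fixed hK).1 hg
    rw [Subgroup.orderOf_mk] at ho
    obtain ⟨rfl, hne⟩ := (g2_orderOf_three hK t u v).1 ho
    exact ⟨⟨(u, v), hne⟩, rfl⟩
  · rw [Nat.card_eq_fintype_card, Fintype.card_subtype_compl, Fintype.card_subtype_eq, Fintype.card_prod, hK]
    ring_nf

end Cfsg.Lib.Chev
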