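import Cfsg.Agent.Lib.Chev.TorusG2Cox
import Cfsg.Agent.Lib.Chev.OrderG2
import Cfsg.Agent.Lib.Chev.SLTwo
import Cfsg.Agent.Lib.Chev.TwG2Gen
import Cfsg.Agent.Lib.Chev.TwG2Facts
import Cfsg.Agent.Lib.Chev.TwG2Orders
import Cfsg.Agent.Lib.Linear.SylowLarge
import Cfsg.Agent.Lib.TwoDim.SLValues
import Cfsg.Agent.Lib.QPair.Components

/-! The Sylow subgroups of ²G₂(q) for the primes above three are cyclic. -/

set_option autoImplicit false
set_option linter.unusedSectionVars false
set_option maxRecDepth 100000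

namespace Cfsg.Lib.Chev.MultW

open Cfsg.Lie Cfsg.Lib.Chev
open scoped MatrixGroups

/-- A Sylow subgroup is cyclic if its order divides that of a cyclic subgroup of a larger group. -/
theorem sylow_cyclic_of_cyclic {G H : Type*} [Group G] [Group H] [Finite H] {p : ℕ} [Fact p.Prime] (f : G →* H)
    (hf : Function.Injective f) (C : Subgroup H) [IsCyclic C]
    (hC : p ^ (Nat.card H).factorization p ∣ Nat.card C) (P : Sylow p G) : IsCyclic (P : Subgroup G) := by
  obtain ⟨φ, hφ⟩ := Cfsg.Lib.Linear.SylowLarge.exists_cyclic_hom hC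
  have hcard : Nat.card φ.range = p ^ (Nat.card H).factorization p := by
    rw [← Nat.card_congr (MonoidHom.ofInjective hφ).toEquiv]
    exact Nat.card_zmod _
  obtain ⟨Q, hQ⟩ := (P.isPGroup'.map f).exists_le_sylow
  have hQc : IsCyclic Q :=
    (Sylow.equiv Q (Sylow.ofCard φ.range hcard)).isCyclic.2 (isCyclic_of_surjective _ φ.rangeRestrict_surjective)
  haveI := hQc
  haveI : IsCyclic ↥((P : Subgroup G).map f) :=
    isCyclic_of_injective (Subgroup.inclusion hQ) (Subgroup.inclusion_injective hQ)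
  exact ((P : Subgroup G).equivMapOfInjective f hf).isCyclic.2 inferInstance

/-- A divisor of a product which is a power of a prime not dividing the second factor divides the first. -/
theorem prime_pow_dvd_left {p v a b : ℕ} (hp : p.Prime) (h : p ^ v ∣ a * b) (hb : ¬ p ∣ b) : p ^ v ∣ a :=
  (Nat.Coprime.pow_left v (hp.coprime_iff_not_dvd.2 hb)).dvd_of_dvd_mul_right h

theorem ree_group_card_G2 {F : Type*} [Field F] [Fintype F] :
    Nat.card ↥(chevG2.group F) = Nat.card F ^ 6 * (Nat.card F ^ 2 - 1) * (Nat.card F ^ 6 - 1) := by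
  classical
  have h := order_formula (F := F) fullCertG2.comm.cert fullCertG2 chkWeylG2 torusCertG2 (polyG2 Nat.card_pos)
  rw [show chevG2.nroots / 2 = 6 from rfl] at h
  have e : (∏ k, (Nat.card F - 1).gcd ((![1, 1] : Fin 2 → ℕ) k)) * Nat.card ↥(chevG2.group F) = _ := h
  generalize Nat.card ↥(chevG2.group F) = N at e ⊢
  generalize Nat.card F = q at e ⊢
  simp [Fin.prod_univ_succ] at e
  linear_combination e

theorem ree_chk_pairs : ([(8, 10), (8, 1), (3, 10), (3, 1)].all fun p => chkCommMod 3 tblG2 p.1 p.2) = true := by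
  decide +kernel

theorem coe_lwr' {F : Type*} [Field F] (b : F) :
    ((SLTwoRel.lwr b : SL(2, F)) : Matrix (Fin 2) (Fin 2) F) = !![1, 0; b, 1] := rfl

theorem ree_neg_roots : tblG2.neg 8 = 3 ∧ tblG2.neg 10 = 1 := by decide +kernel

variable {K : Type*} [Field K] [Fintype K] [CharP K esymG2.p]
variable {m : ℕ} (hK : Fintype.card K = 3 ^ (2 * m + 1))

include hK in
/-- A homomorphism from `SL₂(q)` onto the short-and-long diagonal subgroup. -/
theorem exists_reeSL :
    ∃ Φ : SL(2, K) →* ↥((twOKG2 (K := K) m).fixed certG2C), Φ (SLTwoRel.upr 1) ≠ 1 := by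
  classical
  haveI : CharP K 3 := inferInstanceAs (CharP K esymG2.p)
  obtain ⟨c1, c2, c3, c4⟩ :
      chkCommMod 3 tblG2 8 10 = true ∧ chkCommMod 3 tblG2 8 1 = true ∧ chkCommMod 3 tblG2 3 10 = true ∧
        chkCommMod 3 tblG2 3 1 = true := by
    simpa [List.all_cons, List.all_nil] using ree_chk_pairs
  obtain ⟨n8, n10⟩ := ree_neg_roots
  have h8 : 8 < chevG2.nroots := by decide +kernel
  have h10 : 10 < chevG2.nroots := by decide +kernel
  let θ : K →+* K := iterateFrobenius K esymG2.p m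
  let φ₁ : SL(2, K) →* GL chevG2.Idx K :=
    (rootRel (F := K) certG2C h8).hom.comp (Matrix.SpecialLinearGroup.map θ)
  let φ₂ : SL(2, K) →* GL chevG2.Idx K := (rootRel (F := K) certG2C h10).hom
  have hcomm : ∀ a b, Commute (φ₁ a) (φ₂ b) := by
    intro a b
    have ha : φ₁ a ∈ Subgroup.closure (Set.range (xg certG2C 8 (F := K)) ∪ Set.range (xg certG2C 3)) := by
      have : φ₁ a ∈ (rootRel (F := K) certG2C h8).hom.range := ⟨_, rfl⟩
      rw [SLTwoRel.hom_range] at this
      simpa [rootRel, n8] using this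
    have hb : φ₂ b ∈ Subgroup.closure (Set.range (xg certG2C 10 (F := K)) ∪ Set.range (xg certG2C 1)) := by
      have : φ₂ b ∈ (rootRel (F := K) certG2C h10).hom.range := ⟨_, rfl⟩
      rw [SLTwoRel.hom_range] at this
      simpa [rootRel, n10] using this
    have hle : Subgroup.closure (Set.range (xg certG2C 8 (F := K)) ∪ Set.range (xg certG2C 3)) ≤
        Subgroup.centralizer (Set.range (xg certG2C 10 (F := K)) ∪ Set.range (xg certG2C 1)) := by
      rw [Subgroup.closure_le]
      rintro _ (⟨t, rfl⟩ | ⟨t, rfl⟩) _ (⟨u, rfl⟩ | ⟨u, rfl⟩)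
      exacts [(xg_commute_mod certG2C fullCertG2.comm c1 t u).eq.symm, (xg_commute_mod certG2C fullCertG2.comm c2 t u).eq.symm,
        (xg_commute_mod certG2C fullCertG2.comm c3 t u).eq.symm, (xg_commute_mod certG2C fullCertG2.comm c4 t u).eq.symm]
    have h1 := hle ha
    rw [← Subgroup.centralizer_closure] at h1
    exact (h1 _ hb).symm
  let Φ₀ : SL(2, K) →* GL chevG2.Idx K := (φ₁.noncommCoprod φ₂ hcomm).comp ((MonoidHom.id _).prod (MonoidHom.id _))
  have hup : ∀ b, Φ₀ (SLTwoRel.upr b) = reeU m 0 b 0 := by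
    intro b
    have e : Matrix.SpecialLinearGroup.map θ (SLTwoRel.upr b) = SLTwoRel.upr (θ b) := by
      refine Subtype.ext ?_
      ext i j
      fin_cases i <;> fin_cases j <;> simp [SLTwoRel.coe_upr]
    show (rootRel (F := K) certG2C h8).hom (Matrix.SpecialLinearGroup.map θ (SLTwoRel.upr b)) *
      (rootRel (F := K) certG2C h10).hom (SLTwoRel.upr b) = _
    rw [e]
    simp only [show ∀ (R : SLTwoRel K (GL chevG2.Idx K)) x, R.hom x = R.toFun' x from fun _ _ => rfl,
      SLTwoRel.toFun'_upr]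
    simp [rootRel, reeU, g2Six, xg_zero, zero_pow, θ, iterateFrobenius_def, esymG2]
  have hlw : ∀ b, Φ₀ (SLTwoRel.lwr b) = reeV m 0 (-b) 0 := by
    intro b
    have e : Matrix.SpecialLinearGroup.map θ (SLTwoRel.lwr b) = SLTwoRel.lwr (θ b) := by
      refine Subtype.ext ?_
      ext i j
      fin_cases i <;> fin_cases j <;> simp [coe_lwr']
    show (rootRel (F := K) certG2C h8).hom (Matrix.SpecialLinearGroup.map θ (SLTwoRel.lwr b)) *
      (rootRel (F := K) certG2C h10).hom (SLTwoRel.lwr b) = _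
    rw [e]
    simp only [show ∀ (R : SLTwoRel K (GL chevG2.Idx K)) x, R.hom x = R.toFun' x from fun _ _ => rfl,
      SLTwoRel.toFun'_lwr]
    have hodd : Odd (3 ^ m) := Odd.pow ⟨1, rfl⟩
    simp [rootRel, reeV, g2Six, xg_zero, zero_pow, θ, iterateFrobenius_def, esymG2, n8, n10, hodd.neg_pow]
  have hmem : ∀ g, Φ₀ g ∈ (twOKG2 (K := K) m).fixed certG2C := by
    intro g
    suffices (⊤ : Subgroup SL(2, K)) ≤ ((twOKG2 (K := K) m).fixed certG2C).comap Φ₀ from this (Subgroup.mem_top g)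
    rw [← SLTwoRel.closure_eq_top, Subgroup.closure_le]
    have e : (SLTwoRel.rot : SL(2, K)) = SLTwoRel.upr 1 * SLTwoRel.lwr (-1) * SLTwoRel.upr 1 := by
      refine Subtype.ext ?_
      ext i j
      fin_cases i <;> fin_cases j <;> simp [SLTwoRel.coe_rot, SLTwoRel.coe_upr, coe_lwr', Matrix.mul_apply, Fin.sum_univ_two]
    rintro _ (⟨b, rfl⟩ | rfl)
    · rw [SetLike.mem_coe, Subgroup.mem_comap]
      rw [hup]; exact reeU_fixed hK _ _ _
    · rw [SetLike.mem_coe, Subgroup.mem_comap]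
      rw [e, map_mul, map_mul, hup, hlw]
      exact mul_mem (mul_mem (reeU_fixed hK _ _ _) (reeV_fixed hK _ _ _)) (reeU_fixed hK _ _ _)
  refine ⟨Φ₀.codRestrict _ hmem, fun h => ?_⟩
  have h1 : reeU m (0 : K) 1 0 = 1 := (hup 1).symm.trans (congrArg Subtype.val h)
  exact one_ne_zero (reeU_inj hK (h1.trans (reeU_zero hK).symm)).2.1

include hK in
/-- The cyclic subgroup of order close to `q + 1`. -/
theorem exists_cyclic_plus {p v : ℕ} (hp : p.Prime) (h3 : 3 < p) (hv : p ^ v ∣ Fintype.card K + 1) :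
    ∃ C : Subgroup ↥((twOKG2 (K := K) m).fixed certG2C), IsCyclic C ∧ p ^ v ∣ Nat.card C := by
  classical
  obtain ⟨Φ, hΦ⟩ := exists_reeSL hK
  have h2 : 3 ≤ Fintype.card K := hK ▸ Nat.le_self_pow (by omega) 3
  let ψ : ↥(Cfsg.Lib.TwoDim.normOne K) →* ↥((twOKG2 (K := K) m).fixed certG2C) := Φ.comp Cfsg.Lib.TwoDim.torusSL
  haveI : IsCyclic ↥(Cfsg.Lib.TwoDim.normOne K) := inferInstance
  refine ⟨ψ.range, isCyclic_of_surjective ψ.rangeRestrict ψ.rangeRestrict_surjective, ?_⟩
  rcases le_or_gt (Fintype.card K) 3 with h | h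
  · have : p ^ v ∣ 4 := by rwa [le_antisymm h h2] at hv
    rcases Nat.eq_zero_or_pos v with rfl | hv0
    · simp
    · have := Nat.le_of_dvd (by norm_num) ((dvd_pow_self p hv0.ne').trans this)
      exact absurd hp (by rw [show p = 4 by omega]; norm_num)
  obtain ⟨b, -, hb⟩ : ∃ b ∈ (Finset.univ : Finset K), b ∉ ({0, 1, -1} : Finset K) :=
    Finset.exists_mem_notMem_of_card_lt_card (lt_of_le_of_lt Finset.card_le_three (by simpa using h))
  simp only [Finset.mem_insert, Finset.mem_singleton, not_or] at hb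
  have hker : Φ.ker ≤ Subgroup.center SL(2, K) :=
    (Cfsg.Lib.Core.quasisimple_normal (Cfsg.Agent.Lib.QPair.sl_quasisimple hb.1
      (fun e => (mul_self_eq_one_iff.1 e).elim hb.2.1 hb.2.2))).resolve_right
      fun e => hΦ (e ▸ Subgroup.mem_top (SLTwoRel.upr 1) : SLTwoRel.upr 1 ∈ Φ.ker)
  have hne : ¬ p ∣ Nat.card ψ.ker := by
    intro hd
    haveI := Fact.mk hp
    obtain ⟨x, hx⟩ := exists_prime_orderOf_dvd_card' p hd
    have hx1 : Cfsg.Lib.TwoDim.torusSL (x : ↥(Cfsg.Lib.TwoDim.normOne K)) ∈ Φ.ker := x.2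
    obtain ⟨r, hr, hr'⟩ := Matrix.SpecialLinearGroup.mem_center_iff.1 (hker hx1)
    have hsq : (x : ↥(Cfsg.Lib.TwoDim.normOne K)) ^ 2 = 1 := Cfsg.Lib.TwoDim.torusSL_injective (by
      rw [map_pow, map_one]
      refine Subtype.ext ?_
      rw [Matrix.SpecialLinearGroup.coe_pow, ← hr', ← map_pow, show r ^ 2 = 1 by simpa using hr, map_one]
      rfl)
    have := Nat.le_of_dvd two_pos (orderOf_dvd_of_pow_eq_one hsq)
    rw [Subgroup.orderOf_coe, hx] at this
    omega
  have hcard : Nat.card ψ.ker * Nat.card ψ.range = Fintype.card K + 1 := by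
    rw [← Cfsg.Lib.TwoDim.card_normOne (F := K), Subgroup.card_eq_card_quotient_mul_card_subgroup ψ.ker,
      Nat.card_congr (QuotientGroup.quotientKerEquivRange ψ).toEquiv, mul_comm]
  exact prime_pow_dvd_left hp (by rw [mul_comm, hcard]; exact hv) hne

include hK in
/-- The Sylow subgroups for the primes above three are cyclic. -/
theorem ree_sylow_cyclic (hm : 1 ≤ m) {p : ℕ} [hpf : Fact p.Prime] (h3 : 3 < p)
    (P : Sylow p ↥((twOKG2 (K := K) m).fixed certG2C)) :
    IsCyclic (P : Subgroup ↥((twOKG2 (K := K) m).fixed certG2C)) := by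
  classical
  have hp := hpf.out
  obtain ⟨v, hv⟩ : ∃ v, v = (Nat.card ↥((twOKG2 (K := K) m).fixed certG2C)).factorization p := ⟨_, rfl⟩
  have hG := twistedG2_order (m := m) hK
  rw [twistedG2_eq hK] at hG
  set q := 3 ^ (2 * m + 1) with hq
  have hq27 : 27 ≤ q := (by norm_num : 27 ≤ 3 ^ 3).trans (Nat.pow_le_pow_right (by norm_num) (by omega))
  have hpq : ¬ p ∣ q := fun h => by
    have := Nat.le_of_dvd (by norm_num) (hp.dvd_of_dvd_pow h); omega
  have hdvd : p ^ v ∣ (q - 1) * (q ^ 3 + 1) * q ^ 3 := by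
    have := Nat.ordProj_dvd (Nat.card ↥((twOKG2 (K := K) m).fixed certG2C)) p
    rw [← hv, hG] at this
    convert this using 1; ring
  replace hdvd := prime_pow_dvd_left hp hdvd fun h => hpq (hp.dvd_of_dvd_pow h)
  have hp2 : ¬ p ∣ 2 := fun h => by have := Nat.le_of_dvd two_pos h; omega
  have hp3 : ¬ p ∣ 3 := fun h => by have := Nat.le_of_dvd three_pos h; omega
  haveI : NeZero p := ⟨hp.ne_zero⟩
  have zd : ∀ n : ℕ, p ∣ n ↔ (n : ZMod p) = 0 := fun n => (ZMod.natCast_eq_zero_iff n p).symm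
  have q1 : 1 ≤ q := by omega
  have hqq : q ≤ q ^ 2 := Nat.le_self_pow two_ne_zero q
  set s := q ^ 2 - q + 1 with hsd
  have hs : (s : ZMod p) = (q : ZMod p) ^ 2 - q + 1 := by
    rw [hsd, Nat.cast_add, Nat.cast_sub hqq, Nat.cast_pow, Nat.cast_one]
  have hfac : q ^ 3 + 1 = (q + 1) * s := by
    rw [hsd]; zify [hqq]; ring
  by_cases h1 : p ∣ q - 1
  · -- the torus
    let C := (chevG2.diagonalSubgroup K ⊓ (twOKG2 (K := K) m).fixed certG2C).subgroupOf
      ((twOKG2 (K := K) m).fixed certG2C)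
    haveI : IsCyclic C := (Subgroup.subgroupOfEquivOfLe inf_le_right).isCyclic.2 (g2_isCyclic hK)
    refine sylow_cyclic_of_cyclic (MonoidHom.id _) (fun _ _ e => e) C ?_ P
    rw [← hv, Nat.card_congr (Subgroup.subgroupOfEquivOfLe inf_le_right).toEquiv, g2_card_diag hK]
    refine prime_pow_dvd_left hp hdvd fun h => hp2 ?_
    rw [zd, Nat.cast_sub q1, Nat.cast_one, sub_eq_zero] at h1
    rw [zd] at h ⊢
    push_cast at h ⊢
    linear_combination h - ((q : ZMod p) ^ 2 + q + 1) * h1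
  rw [mul_comm] at hdvd
  replace hdvd := prime_pow_dvd_left hp hdvd h1
  rw [hfac] at hdvd
  by_cases h2 : p ∣ q + 1
  · obtain ⟨C, hC, hd⟩ := exists_cyclic_plus (m := m) hK (v := v) hp h3 (by
      rw [hK]
      refine prime_pow_dvd_left hp hdvd fun h => hp3 ?_
      rw [zd] at h2 h ⊢
      rw [hs] at h
      push_cast at h2 ⊢
      linear_combination h - ((q : ZMod p) - 2) * h2)
    haveI := hC
    exact sylow_cyclic_of_cyclic (MonoidHom.id _) (fun _ _ e => e) C (hv ▸ hd) P
  rw [mul_comm] at hdvd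
  replace hdvd := prime_pow_dvd_left hp hdvd h2
  rcases Nat.eq_zero_or_pos v with h0 | h0
  · refine sylow_cyclic_of_cyclic (MonoidHom.id _) (fun _ _ e => e) ⊥ ?_ P
    rw [← hv, h0, pow_zero]; exact one_dvd _
  have hps : p ∣ s := (dvd_pow_self p h0.ne').trans hdvd
  -- inside the group of type G₂
  have hF : Fintype.card K = q := hK
  have hle : (twOKG2 (K := K) m).fixed certG2C ≤ chevG2.group K := fun g hg => (((twOKG2 m).mem_fixed certG2C).1 hg).1
  have hsep : TorSep chevG2 tblG2 torG2cox q := by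
    refine torSep_of_large certG2 (by omega) chkLarge_G2cox ?_
    rw [ord_G2cox, show chevG2.rank = 2 from rfl]
    simp only [Finset.sum_range_succ, Finset.sum_range_zero]
    have h : (27 : ℤ) ≤ q := by exact_mod_cast hq27
    nlinarith
  obtain ⟨H, hH1, hH2, -⟩ := exists_cyclic_self_centralizing certG2 hF (K := fullCertG2) inv_G2
    (torOK_of_chk certG2 _ chkTor_G2cox) rfl hsep
  rw [ord_G2cox] at hH2
  have hH : Nat.card H = s := by
    have : (s : ℤ) = (q : ℤ) ^ 2 - q + 1 := by rw [hsd]; push_cast [hqq]; ring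
    rw [← this] at hH2; exact_mod_cast hH2
  haveI := hH1
  refine sylow_cyclic_of_cyclic (Subgroup.inclusion hle) (Subgroup.inclusion_injective hle) H ?_ P
  have hd := Nat.ordProj_dvd (Nat.card ↥(chevG2.group K)) p
  generalize (Nat.card ↥(chevG2.group K)).factorization p = w at hd ⊢
  rw [hH]
  rw [ree_group_card_G2, Nat.card_eq_fintype_card, hF] at hd
  set r := q ^ 2 + q + 1 with hr
  have e : q ^ 6 * (q ^ 2 - 1) * (q ^ 6 - 1) = s * ((q ^ 6 * ((q ^ 2 - 1) * (q ^ 2 - 1))) * r) := by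
    have h2' : 1 ≤ q ^ 2 := Nat.one_le_pow _ _ q1
    have h6' : 1 ≤ q ^ 6 := Nat.one_le_pow _ _ q1
    rw [hsd, hr]; zify [h2', h6', hqq]; ring
  rw [e] at hd
  have hq0 : (q : ZMod p) ≠ 0 := fun h => hpq ((zd q).2 h)
  rw [zd, hs] at hps
  refine prime_pow_dvd_left hp hd fun h => ?_
  rcases hp.dvd_mul.1 h with h | h
  · rcases hp.dvd_mul.1 h with h | h
    · exact hpq (hp.dvd_of_dvd_pow h)
    · replace h : p ∣ q ^ 2 - 1 := (hp.dvd_mul.1 h).elim id id
      rw [zd, Nat.cast_sub (Nat.one_le_pow _ _ q1), Nat.cast_pow, Nat.cast_one] at h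
      have h' : ((q : ZMod p) - 1) * ((q : ZMod p) + 1) = 0 := by linear_combination h
      rcases mul_eq_zero.1 h' with h' | h'
      · exact h1 ((zd _).2 (by rw [Nat.cast_sub q1, Nat.cast_one]; exact h'))
      · exact h2 ((zd _).2 (by push_cast; exact h'))
  · rw [zd, hr] at h
    push_cast at h
    have : (2 : ZMod p) * q = 0 := by linear_combination h - hps
    exact (mul_eq_zero.1 this).elim (fun e2 => hp2 ((zd 2).2 (by exact_mod_cast e2))) hq0

end Cfsg.Lib.Chev.MultW
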