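import Cfsg.Agent.Lib.Chev.TwG2AutBase

/-! The opposite Borel subgroup of ²G₂(q), normalisation of automorphisms. -/

set_option autoImplicit false
set_option linter.unusedSectionVars false
set_option maxRecDepth 20000

namespace Cfsg.Lib.Chev.G2Aut

open Cfsg.Lie Cfsg.Lib.Chev
open scoped Pointwise

variable {K : Type*} [Field K] [Fintype K] [CharP K esymG2.p] {m : ℕ}

/-- A representative of the long element. -/
structure LongRep (n : ↥(gG K m)) : Prop where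
  pos_neg : ∀ x ∈ posG K m, n * x * n⁻¹ ∈ negG K m ∧ n⁻¹ * x * n ∈ negG K m
  neg_pos : ∀ x ∈ negG K m, n * x * n⁻¹ ∈ posG K m ∧ n⁻¹ * x * n ∈ posG K m
  torus : ∀ g : ↥(gG K m), (g : GL chevG2.Idx K) ∈ chevG2.diagonalSubgroup K →
    ((n * g * n⁻¹ : ↥(gG K m)) : GL chevG2.Idx K) ∈ chevG2.diagonalSubgroup K
  cells : ∀ g : ↥(gG K m), g ∈ borG K m ∨ ∃ b ∈ borG K m, ∃ c ∈ posG K m, g = b * n * c

theorem pos_le_bor : posG K m ≤ borG K m := fun _ h =>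
  Subgroup.mem_subgroupOf.2 (Subgroup.mem_sup_left (Subgroup.mem_subgroupOf.1 h))

theorem bor_neg {g : ↥(gG K m)} (h : g ∈ borG K m) (h' : g ∈ negG K m) : g = 1 := by
  have h3 : (g : GL chevG2.Idx K) ∈ chevG2.borelSubgroup K ⊓ chevG2.negUnipotent K :=
    ⟨Subgroup.mem_subgroupOf.1 h, Subgroup.mem_subgroupOf.1 h'⟩
  rw [borel_inf_neg certG2C, Subgroup.mem_bot] at h3
  exact Subtype.ext h3

theorem bor_norm {g x : ↥(gG K m)} (hg : g ∈ borG K m) (hx : x ∈ posG K m) : g * x * g⁻¹ ∈ posG K m := by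
  have hb : (g : GL chevG2.Idx K) ∈ Subgroup.normalizer (chevG2.posUnipotent K : Set (GL chevG2.Idx K)) ⊓ chevG2.group K := by
    rw [normalizer_pos certG2C fullCertG2]; exact Subgroup.mem_subgroupOf.1 hg
  exact Subgroup.mem_subgroupOf.2 ((Subgroup.mem_normalizer_iff.1 hb.1 _).1 (Subgroup.mem_subgroupOf.1 hx))

theorem diag_norm_neg {g x : ↥(gG K m)} (hg : (g : GL chevG2.Idx K) ∈ chevG2.diagonalSubgroup K) (hx : x ∈ negG K m) :
    g * x * g⁻¹ ∈ negG K m :=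
  Subgroup.mem_subgroupOf.2 ((Subgroup.mem_normalizer_iff.1 (neg_conj_diag certG2C hg) _).1 (Subgroup.mem_subgroupOf.1 hx))

/-- Uniqueness in the big cell. -/
theorem LongRep.unique {n : ↥(gG K m)} (hn : LongRep n) {X Y : ↥(gG K m)} (hX : X ∈ borG K m) (hY : Y ∈ posG K m)
    (e : n⁻¹ * X * n = Y) : Y = 1 := by
  have h := (hn.pos_neg Y hY).1
  rw [← e, show n * (n⁻¹ * X * n) * n⁻¹ = X by group] at h
  rw [← e, bor_neg hX h]; group

variable (hK : Fintype.card K = 3 ^ (2 * m + 1))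
include hK

theorem exists_long : ∃ n : ↥(gG K m), LongRep n := by
  obtain ⟨n, hn, hnN, hconj, hdec⟩ := g2_exists_long hK
  refine ⟨⟨n, hn⟩, fun x hx => ?_, fun x hx => ?_, fun g hg => (conj_mem_diag certG2C hnN hg).1, fun g => ?_⟩
  · obtain ⟨h1, h2⟩ := hconj x (Subgroup.mem_subgroupOf.1 hx)
    exact ⟨Subgroup.mem_subgroupOf.2 h1, Subgroup.mem_subgroupOf.2 h2⟩
  · refine ⟨Subgroup.mem_subgroupOf.2 (mono_neg_to_pos certG2C hnN (fun y hy => (hconj y hy).1)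
      (Subgroup.mem_subgroupOf.1 hx)), Subgroup.mem_subgroupOf.2 ?_⟩
    have := mono_neg_to_pos certG2C (inv_mem hnN) (fun y hy => by rw [inv_inv]; exact (hconj y hy).2)
      (Subgroup.mem_subgroupOf.1 hx)
    rwa [inv_inv] at this
  · rcases hdec g g.2 with h | ⟨b, hb, c, hc, e⟩
    · exact Or.inl (Subgroup.mem_subgroupOf.2 h)
    · exact Or.inr ⟨⟨b, hb.2⟩, Subgroup.mem_subgroupOf.2 hb.1, ⟨c, hc.2⟩, Subgroup.mem_subgroupOf.2 hc.1, Subtype.ext e⟩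

theorem pos_ne_bot : ∃ x ∈ posG K m, x ≠ 1 :=
  ⟨eU hK 0 0 1, eU_mem hK 0 0 1, fun e => one_ne_zero (eU_inj hK (e.trans (eU_zero hK).symm)).2.2⟩

/-- The normaliser of the positive part. -/
theorem bor_of_norm {g : ↥(gG K m)} (h : ∀ x ∈ posG K m, g * x * g⁻¹ ∈ posG K m) : g ∈ borG K m := by
  obtain ⟨n, hn⟩ := exists_long hK
  rcases hn.cells g with hg | ⟨b, hb, c, hc, e⟩
  · exact hg
  exfalso
  obtain ⟨x, hx, hx1⟩ := pos_ne_bot hK
  have h1 := h _ (mul_mem (mul_mem (inv_mem hc) hx) hc)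
  have h2 := bor_norm (inv_mem hb) h1
  rw [e, show b⁻¹ * (b * n * c * (c⁻¹ * x * c) * (b * n * c)⁻¹) * b⁻¹⁻¹ = n * x * n⁻¹ by group] at h2
  exact hx1 (conj_eq_one_iff.1 (bor_neg (pos_le_bor h2) (hn.pos_neg x hx).1))

/-- The torus as a two-sided normaliser. -/
theorem torus_of_norm {g : ↥(gG K m)} (h : ∀ x ∈ posG K m, g * x * g⁻¹ ∈ posG K m)
    (h' : ∀ x ∈ negG K m, g * x * g⁻¹ ∈ negG K m) : ∃ z, g = eT hK z := by
  obtain ⟨u, hu, z, rfl⟩ := borG_parts hK (bor_of_norm hK h)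
  obtain ⟨n, hn⟩ := exists_long hK
  refine ⟨z, ?_⟩
  have h1 : ∀ y ∈ negG K m, u * y * u⁻¹ ∈ negG K m := fun y hy => by
    have hy' := diag_norm_neg (g := (eT hK z)⁻¹) (inv_mem (eT_mem hK z)) hy
    have := h' _ hy'
    rwa [show u * eT hK z * ((eT hK z)⁻¹ * y * (eT hK z)⁻¹⁻¹) * (u * eT hK z)⁻¹ = u * y * u⁻¹ by group] at this
  have h2 : n⁻¹ * u * n ∈ borG K m := bor_of_norm hK fun x hx => by
    have := (hn.neg_pos _ (h1 _ (hn.pos_neg x hx).1)).2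
    rwa [show n⁻¹ * (u * (n * x * n⁻¹) * u⁻¹) * n = n⁻¹ * u * n * x * (n⁻¹ * u * n)⁻¹ by group] at this
  have h3 : n⁻¹ * u * n = 1 := bor_neg h2 (hn.pos_neg u hu).2
  rw [show u = n * (n⁻¹ * u * n) * n⁻¹ by group, h3]; group

theorem card_posG : Nat.card ↥(posG K m) = (3 ^ (2 * m + 1)) ^ 3 := by
  refine (Nat.card_eq_of_bijective (fun p : K × K × K => (⟨eU hK p.1 p.2.1 p.2.2, eU_mem hK _ _ _⟩ : ↥(posG K m))) ⟨?_, ?_⟩).symm.trans ?_
  · rintro ⟨t, u, v⟩ ⟨t', u', v'⟩ e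
    obtain ⟨rfl, rfl, rfl⟩ := eU_inj hK (congrArg Subtype.val e)
    rfl
  · rintro ⟨g, hg⟩
    obtain ⟨t, u, v, rfl⟩ := exists_eU hK hg
    exact ⟨(t, u, v), rfl⟩
  · simp [Nat.card_prod, Nat.card_eq_fintype_card, hK]; ring

omit hK in
/-- A subgroup mapped into itself is kept. -/
theorem keeps_of_le {θ : MulAut ↥(gG K m)} {S : Subgroup ↥(gG K m)} (h : ∀ x ∈ S, θ x ∈ S) : AutKeeps θ S := by
  refine fun g => ⟨fun hg => ?_, h g⟩
  let r : ↥S → ↥S := fun x => ⟨θ x, h x x.2⟩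
  obtain ⟨y, hy⟩ := (Finite.injective_iff_surjective (f := r)).1
    (fun a b e => Subtype.ext (θ.injective (congrArg Subtype.val e))) ⟨θ g, hg⟩
  rw [← θ.injective (congrArg Subtype.val hy)]
  exact y.2

/-- Every automorphism can be moved to one keeping both parts. -/
theorem exists_normalise (θ : MulAut ↥(gG K m)) :
    ∃ a : ↥(gG K m), AutKeeps (MulAut.conj a * θ) (posG K m) ∧ AutKeeps (MulAut.conj a * θ) (negG K m) := by
  haveI : Fact (Nat.Prime 3) := ⟨Nat.prime_three⟩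
  have hodd : ¬ 3 ∣ (posG K m).index := by
    have h := (posG K m).card_mul_index
    have hcG := twistedG2_order hK
    rw [twistedG2_eq hK] at hcG
    rw [card_posG hK, hcG, mul_assoc ((3 ^ (2 * m + 1)) ^ 3)] at h
    rw [Nat.eq_of_mul_eq_mul_left (by positivity) h, Nat.prime_three.dvd_mul]
    have h2 : 3 ^ (2 * m + 1) % 3 = 0 := by rw [pow_succ]; omega
    have h3 : (3 ^ (2 * m + 1)) ^ 3 % 3 = 0 := by rw [Nat.pow_mod, h2]
    have h1 : 1 ≤ 3 ^ (2 * m + 1) := Nat.one_le_pow _ _ (by norm_num)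
    omega
  have hp : IsPGroup 3 ↥(posG K m) := IsPGroup.of_card (n := (2 * m + 1) * 3) (by rw [card_posG hK, ← pow_mul])
  have hodd' : ¬ 3 ∣ ((posG K m).map θ.toMonoidHom).index := by
    rwa [Subgroup.index_map_of_bijective θ.bijective]
  obtain ⟨a, ha⟩ := MulAction.exists_smul_eq ↥(gG K m) ((hp.map θ.toMonoidHom).toSylow hodd') (hp.toSylow hodd)
  have hU : AutKeeps (MulAut.conj a * θ) (posG K m) := keeps_of_le fun x hx => by
    have : a * θ x * a⁻¹ ∈ (hp.toSylow hodd : Subgroup ↥(gG K m)) := by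
      rw [← ha, Sylow.coe_subgroup_smul]
      exact ⟨θ x, ⟨x, hx, rfl⟩, rfl⟩
    exact this
  obtain ⟨n, hn⟩ := exists_long hK
  set φ := MulAut.conj a * θ
  rcases hn.cells (φ n) with hg | ⟨b, hb, c, hc, e⟩
  · exfalso
    obtain ⟨x, hx, hx1⟩ := pos_ne_bot hK
    have h1 : φ (n * x * n⁻¹) ∈ posG K m := by rw [map_mul, map_mul, map_inv]; exact bor_norm hg ((hU x).2 hx)
    exact hx1 (conj_eq_one_iff.1 (bor_neg (pos_le_bor ((hU _).1 h1)) (hn.pos_neg x hx).1))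
  refine ⟨b⁻¹ * a, ?_, ?_⟩ <;> rw [map_mul MulAut.conj, mul_assoc]
  · exact keeps_of_le fun x hx => bor_norm (inv_mem hb) ((hU x).2 hx)
  · refine keeps_of_le fun y hy => ?_
    have hx := (hn.neg_pos y hy).2
    have := (hn.pos_neg _ (mul_mem (mul_mem hc ((hU _).2 hx)) (inv_mem hc))).1
    show b⁻¹ * φ y * b⁻¹⁻¹ ∈ negG K m
    rw [show φ y = φ n * φ (n⁻¹ * y * n) * (φ n)⁻¹ by simp [mul_assoc], e]
    rwa [show b⁻¹ * (b * n * c * φ (n⁻¹ * y * n) * (b * n * c)⁻¹) * b⁻¹⁻¹ = n * (c * φ (n⁻¹ * y * n) * c⁻¹) * n⁻¹ by group]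

end Cfsg.Lib.Chev.G2Aut
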