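import Cfsg.Agent.Lib.Chev.TorusG2Cox
import Cfsg.Agent.Lib.Chev.TwG2AutNorm
import Cfsg.Agent.Lib.Chev.MultReeCyclic

/-! A cyclic torus of order `q² - q + 1` and the twisting map of ²G₂. -/

set_option autoImplicit false
set_option linter.unusedSectionVars false
set_option maxRecDepth 100000

namespace Cfsg.Lib.Chev.Ree

open Cfsg.Lie Cfsg.Lib.Chev

/-- Two conjugate regular torus elements differ by a Weyl word. -/
theorem regular_conj {D : ChevalleyDatum} {T : Tbl} {F : Type*} [Field F] (C : Cert D T) (K : FullCert D T)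
    {c c' : Fin D.rank → Fˣ} (hreg : ∀ r < D.nroots, chr T D (extend' c) r ≠ 1)
    (hreg' : ∀ r < D.nroots, chr T D (extend' c') r ≠ 1) {u : GL D.Idx F} (hu : u ∈ D.group F)
    (hc : torusHom D T F c * u = u * torusHom D T F c') :
    ∃ v, IsWord D v ∧ ∀ r < D.nroots, chr T D (extend' c) (wperm T v r) = chr T D (extend' c') r := by
  obtain ⟨v, hv, b, hb, s, hs, rfl⟩ := bruhat_normal C K hu
  obtain ⟨h, hh⟩ : ∃ h, h = torusHom D T F c := ⟨_, rfl⟩
  obtain ⟨h', hh'⟩ : ∃ h', h' = torusHom D T F c' := ⟨_, rfl⟩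
  rw [← hh, ← hh'] at hc
  have hd : h ∈ D.diagonalSubgroup F := by rw [hh, ← torusHom_range C]; exact ⟨c, rfl⟩
  have hd1 : h' ∈ D.diagonalSubgroup F := by rw [hh', ← torusHom_range C]; exact ⟨c', rfl⟩
  have hdB : ∀ {x : GL D.Idx F}, x ∈ D.diagonalSubgroup F → x ∈ D.borelSubgroup F := Subgroup.mem_sup_right
  have hd' : h * wnu C F v * h'⁻¹ * (wnu C F v)⁻¹ ∈ D.diagonalSubgroup F := by
    rw [show h * wnu C F v * h'⁻¹ * (wnu C F v)⁻¹ = h * (wnu C F v * h'⁻¹ * (wnu C F v)⁻¹) by group]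
    exact mul_mem hd (conj_mem_diag C (wnu_mem C hv) (inv_mem hd1)).1
  obtain ⟨hbb, hss⟩ := cell_unique C (b := h * b * h⁻¹ * (h * wnu C F v * h'⁻¹ * (wnu C F v)⁻¹))
    (b' := b) (n := wnu C F v) (u := h' * s * h'⁻¹) (u' := s)
    (mul_mem (mul_mem (mul_mem (hdB hd) hb) (inv_mem (hdB hd))) (hdB hd')) hb
    ((signPart_conj C K hv).1 (mul_mem hs (inv_mem (signPart_diag_conj C K hd1 hs))))
    (by
      calc _ = h * (b * wnu C F v * s) * h'⁻¹ := by group
        _ = _ := by rw [hc]; group)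
  have hs1 : s = 1 := by
    refine pos_fixed_regular C K hreg' ?_ (by rw [← hh']; exact hss)
    rw [posUnipotent_eq C]; exact signPart_le_upper C K v true _ hs
  subst hs1
  obtain ⟨u₀, hu₀, h₀, hh₀, rfl⟩ := (mem_borel C).1 hb
  have e2 : (h * u₀ * h⁻¹) * (h₀ * (h * wnu C F v * h'⁻¹ * (wnu C F v)⁻¹)) = u₀ * h₀ := by
    calc _ = h * (u₀ * h₀) * h⁻¹ * (h * wnu C F v * h'⁻¹ * (wnu C F v)⁻¹) := by
          rw [show h * (u₀ * h₀) * h⁻¹ = h * u₀ * h⁻¹ * (h * h₀ * h⁻¹) by group, diag_comm C hd hh₀]; group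
      _ = _ := hbb
  obtain ⟨e3, e4⟩ := borel_parts C ((Subgroup.mem_normalizer_iff.1 (diag_le_normalizer C hd) _).1 hu₀) hu₀
    (mul_mem hh₀ hd') hh₀ e2
  have e5 : h * wnu C F v * h'⁻¹ * (wnu C F v)⁻¹ = 1 := mul_eq_left.1 e4
  have e6 : wnu C F v * h' * (wnu C F v)⁻¹ = h := by
    calc wnu C F v * h' * (wnu C F v)⁻¹ = (h * wnu C F v * h'⁻¹ * (wnu C F v)⁻¹)⁻¹ * h := by group
      _ = h := by rw [e5]; group
  obtain ⟨e, he, hchr⟩ := torus_word_conj C hv c'
  refine ⟨v, hv, fun r hr => Eq.trans ?_ (hchr r hr)⟩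
  have h1 : torusHom D T F e = torusHom D T F c := by rw [← he, ← hh', e6, hh]
  have hv' := wperm_lt C hv hr
  have h2 := (torusHom_conj_xg C e hv' 1).symm.trans (h1 ▸ torusHom_conj_xg C c hv' 1)
  rw [mul_one, mul_one] at h2
  exact (xg_injective C hv' h2).symm

/-- The norm of a linear expression in a primitive sixth root of unity. -/
def nrm6 (p : ℤ × ℤ) : ℕ := (p.1 * p.1 + p.1 * p.2 + p.2 * p.2).natAbs

/-- The two coordinates of a root. -/
noncomputable def cc (r : ℕ) : ℤ × ℤ := (TorData.coef torG2cox tblG2 r 0, TorData.coef torG2cox tblG2 r 1)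

/-- The difference from a simple root. -/
noncomputable def dd (r i : ℕ) : ℤ × ℤ := ((cc r).1 - (cc (tblG2.simp' i)).1, (cc r).2 - (cc (tblG2.simp' i)).2)

/-- The powers of `q`. -/
def pow6 : List (ℤ × ℤ) := [(1, 0), (0, 1), (-1, 1), (-1, 0), (0, -1), (1, -1)]

theorem chk_bound : ((List.range 12).all fun r => decide ((cc r).1.natAbs ≤ 2) && decide ((cc r).2.natAbs ≤ 2) &&
    decide (nrm6 (cc r) ∣ 6 ^ 12)) = true := by decide +kernel

theorem chk_sep : ((List.range 12).all fun a => (List.range 12).all fun b =>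
    !(decide (rootPair tblG2 a b = tblG2.cartan 0 (tblG2.simp' 1)) &&
      decide (rootPair tblG2 b a = tblG2.cartan 1 (tblG2.simp' 0))) ||
    (decide (a = tblG2.simp' 0) && decide (b = tblG2.simp' 1)) ||
    decide (Nat.gcd (nrm6 (dd a 0)) (nrm6 (dd b 1)) ∣ 6 ^ 12)) = true := by decide +kernel

theorem chk_short : ((List.range 12).all fun r => pow6.contains (cc r) ||
    (List.range 12).all fun s => decide (cc s ≠ ((cc r).1 - (cc r).2, (cc r).1 + 2 * (cc r).2))) = true := by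
  decide +kernel

theorem chk_long_root : ((List.range 12).any fun r => decide (cc r = (1, 1))) = true := by decide +kernel

theorem chk_root : (decide (cc torG2cox.r0 = (1, 0)) && decide (esymG2.lam tblG2 torG2cox.r0 = 3) &&
    (List.range 12).all fun r => decide (esymG2.root tblG2 (esymG2.root tblG2 r) = r) &&
      decide (esymG2.lam tblG2 r * esymG2.lam tblG2 (esymG2.root tblG2 r) = 3) &&
      decide (esymG2.root tblG2 r < 12)) = true := by
  decide +kernel

theorem expo_cc (q : ℤ) (r : ℕ) : TorData.expo torG2cox tblG2 q r = (cc r).1 + (cc r).2 * q := by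
  rw [TorData.expo, sumBelow_eq, show tblG2.rank = 2 from rfl]
  simp [Finset.sum_range_succ, cc]

theorem cc_bound {r : ℕ} (hr : r < 12) : |(cc r).1| ≤ 2 ∧ |(cc r).2| ≤ 2 ∧ nrm6 (cc r) ∣ 6 ^ 12 := by
  have h := List.all_eq_true.1 chk_bound r (List.mem_range.2 hr)
  simp only [Bool.and_eq_true, decide_eq_true_eq] at h
  obtain ⟨⟨h1, h2⟩, h3⟩ := h
  exact ⟨by rw [Int.abs_eq_natAbs]; exact_mod_cast h1, by rw [Int.abs_eq_natAbs]; exact_mod_cast h2, h3⟩

/-- Small linear expressions are not divisible by the order. -/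
theorem small_dvd {q : ℤ} (hq : 27 ≤ q) {x y : ℤ} (hx : |x| ≤ 20) (hy : |y| ≤ 20) (h : q ^ 2 - q + 1 ∣ x + y * q) :
    x = 0 ∧ y = 0 := by
  obtain ⟨x1, x2⟩ := abs_le.1 hx
  obtain ⟨y1, y2⟩ := abs_le.1 hy
  have h0 : x + y * q = 0 := Int.eq_zero_of_abs_lt_dvd h (abs_lt.2 ⟨by nlinarith, by nlinarith⟩)
  have hy0 : y = 0 := by
    by_contra hy0
    rcases lt_or_gt_of_ne hy0 with h1 | h1 <;> nlinarith
  exact ⟨by rw [hy0] at h0; linarith, hy0⟩

theorem dvd_nrm6 {q o : ℤ} (ho : o ∣ q ^ 2 - q + 1) {p : ℤ × ℤ} (h : o ∣ p.1 + p.2 * q) : o ∣ (nrm6 p : ℤ) := by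
  rw [nrm6, Int.dvd_natAbs]
  have e : p.1 * p.1 + p.1 * p.2 + p.2 * p.2 =
      (p.1 + p.2 * q) * (p.1 + p.2 - p.2 * q) + p.2 ^ 2 * (q ^ 2 - q + 1) := by ring
  rw [e]
  exact dvd_add (h.mul_right _) (ho.mul_left _)

theorem fin_six_neg : ∀ j : Fin 6, (j : ℕ) + ((-j : Fin 6) : ℕ) = 0 ∨ (j : ℕ) + ((-j : Fin 6) : ℕ) = 6 := by decide

theorem idvd {a b c : ℤ} (h : a ∣ b) (e : b = c) : a ∣ c := e ▸ h

theorem eq_one_of_dvd {m : ℕ} {o : ℕ} (ho : (o : ℤ) ∣ (3 ^ (2 * m + 1) : ℤ) ^ 2 - 3 ^ (2 * m + 1) + 1)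
    (h : o ∣ 6 ^ 12) : o = 1 := by
  by_contra h1
  obtain ⟨p, hp, hpo⟩ := Nat.exists_prime_and_dvd h1
  have h6 : p ∣ 6 := hp.dvd_of_dvd_pow (hpo.trans h)
  have hN := (Int.natCast_dvd_natCast.2 hpo).trans ho
  have hp6 : p ≤ 6 := Nat.le_of_dvd (by norm_num) h6
  have hp2 := hp.two_le
  interval_cases p <;> first | (norm_num at h6; done) | (norm_num at hp; done) | push_cast at hN
  · have e : Even ((3 : ℤ) ^ (2 * m + 1) * (3 ^ (2 * m + 1) - 1)) := (Odd.pow (by decide)).sub_odd odd_one |>.mul_left _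
    obtain ⟨k, hk⟩ := e
    have : (2 : ℤ) ∣ 1 := by
      have h2 := dvd_sub hN (Dvd.intro k (by linarith) : (2 : ℤ) ∣ (3 : ℤ) ^ (2 * m + 1) * (3 ^ (2 * m + 1) - 1))
      exact idvd h2 (by ring)
    norm_num at this
  · have : (3 : ℤ) ∣ 1 := by
      have h3 : (3 : ℤ) ∣ 3 ^ (2 * m + 1) := dvd_pow_self 3 (by omega)
      have h2 := dvd_sub hN (h3.mul_right (3 ^ (2 * m + 1) - 1))
      exact idvd h2 (by ring)
    norm_num at this

theorem chk_pow6 {q : ℤ} {p : ℤ × ℤ} (hp : p ∈ pow6) : ∃ j : Fin 6, q ^ 2 - q + 1 ∣ p.1 + p.2 * q - q ^ (j : ℕ) := by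
  simp only [pow6, List.mem_cons, List.not_mem_nil, or_false] at hp
  rcases hp with rfl | rfl | rfl | rfl | rfl | rfl
  · exact ⟨0, 0, by simp⟩
  · exact ⟨1, 0, by simp⟩
  · exact ⟨2, -1, by show (-1 : ℤ) + 1 * q - q ^ 2 = _; ring⟩
  · exact ⟨3, -(q + 1), by show (-1 : ℤ) + 0 * q - q ^ 3 = _; ring⟩
  · exact ⟨4, -(q ^ 2 + q), by show (0 : ℤ) + (-1) * q - q ^ 4 = _; ring⟩
  · exact ⟨5, -(q ^ 3 + q ^ 2 - 1), by show (1 : ℤ) + (-1) * q - q ^ 5 = _; ring⟩

section

variable {K : Type*} [Field K] [CharP K esymG2.p] {m : ℕ}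

theorem twE_inv {g : GL chevG2.Idx K} (hg : g ∈ chevG2.group K) : twG2σ m g⁻¹ = (twG2σ m g)⁻¹ := by
  refine eq_inv_of_mul_eq_one_left ?_
  simp only [twG2σ]
  rw [← twE_mul eSymOKG2 certG2C fullCertG2 m (inv_mem hg) hg, inv_mul_cancel, twE_one]

/-- The twisting map commutes with field maps. -/
theorem twE_natural {E : Type*} [Field E] [CharP E esymG2.p] (f : K →+* E) {g : GL chevG2.Idx K}
    (hg : g ∈ chevG2.group K) :
    Matrix.GeneralLinearGroup.map f (twG2σ m g) = twG2σ m (Matrix.GeneralLinearGroup.map f g) := by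
  have hmap : ∀ x ∈ chevG2.group K, Matrix.GeneralLinearGroup.map f x ∈ chevG2.group E := fun x hx =>
    Cfsg.Lib.Linear.Chev.group_map_le chevG2 f ⟨x, hx, rfl⟩
  induction hg using Subgroup.closure_induction with
  | mem x hx =>
    obtain ⟨r, t, hx⟩ := hx
    rw [show x = xg certG2C r t from eq_xg certG2C (by rw [ChevalleyDatum.x, dif_pos r.2]; exact hx)]
    simp only [twG2σ]
    rw [twE_xg eSymOKG2 certG2C fullCertG2 m r.2, map_xg certG2C, map_xg certG2C, twE_xg eSymOKG2 certG2C fullCertG2 m r.2,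
      map_pow]
  | one => simp only [twG2σ, twE_one, map_one]
  | mul x y hx hy hx' hy' =>
    simp only [twG2σ] at hx' hy' ⊢
    rw [twE_mul eSymOKG2 certG2C fullCertG2 m hx hy, map_mul, map_mul,
      twE_mul eSymOKG2 certG2C fullCertG2 m (hmap x hx) (hmap y hy), hx', hy']
  | inv x hx hx' => rw [twE_inv hx, map_inv, map_inv, twE_inv (hmap x hx), hx']

/-- The twisting map is an involution over the field with `q` elements. -/
theorem twE_twE [Fintype K] (hK : Fintype.card K = 3 ^ (2 * m + 1)) {g : GL chevG2.Idx K} (hg : g ∈ chevG2.group K) :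
    twG2σ m g ∈ chevG2.group K ∧ twG2σ m (twG2σ m g) = g := by
  induction hg using Subgroup.closure_induction with
  | mem x hx =>
    obtain ⟨r, t, hx⟩ := hx
    rw [show x = xg certG2C r t from eq_xg certG2C (by rw [ChevalleyDatum.x, dif_pos r.2]; exact hx)]
    simp only [twG2σ]
    have h := chk_root
    simp only [Bool.and_eq_true, decide_eq_true_eq, List.all_eq_true, List.mem_range] at h
    obtain ⟨⟨h1, h2⟩, h3⟩ := h.2 r r.2
    rw [twE_xg eSymOKG2 certG2C fullCertG2 m r.2]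
    refine ⟨xg_mem_group certG2C _ _, ?_⟩
    rw [twE_xg eSymOKG2 certG2C fullCertG2 m h3, h1, ← pow_mul, ESym.ex, ESym.ex,
      show esymG2.p ^ m * esymG2.lam tblG2 r * (esymG2.p ^ m * esymG2.lam tblG2 (esymG2.root tblG2 r)) =
        esymG2.p ^ m * esymG2.p ^ m * (esymG2.lam tblG2 r * esymG2.lam tblG2 (esymG2.root tblG2 r)) by ring, h2,
      ← pow_add, show esymG2.p = 3 from rfl, ← pow_succ, show m + m + 1 = 2 * m + 1 by ring, ← hK, FiniteField.pow_card]
  | one => simp only [twG2σ]; rw [twE_one, twE_one]; exact ⟨one_mem _, rfl⟩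
  | mul x y hx hy hx' hy' =>
    simp only [twG2σ] at hx' hy' ⊢
    rw [twE_mul eSymOKG2 certG2C fullCertG2 m hx hy]
    exact ⟨mul_mem hx'.1 hy'.1, by rw [twE_mul eSymOKG2 certG2C fullCertG2 m hx'.1 hy'.1, hx'.2, hy'.2]⟩
  | inv x hx hx' => rw [twE_inv hx]; exact ⟨inv_mem hx'.1, by rw [twE_inv hx'.1, hx'.2]⟩

end

set_option maxHeartbeats 3000000 in
/-- The torus of order `q² - q + 1` with its symmetries. -/
theorem exists_singer {F : Type*} [Field F] [Fintype F] [CharP F esymG2.p] {m : ℕ} (hm : 1 ≤ m)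
    (hF : Fintype.card F = 3 ^ (2 * m + 1)) :
    ∃ t : ↥(chevG2.group F), (orderOf t : ℤ) = (3 ^ (2 * m + 1) : ℤ) ^ 2 - 3 ^ (2 * m + 1) + 1 ∧
      (∀ k : ℕ, t ^ k ≠ 1 → Subgroup.centralizer {t ^ k} = Subgroup.zpowers t) ∧
      (∀ (u : ↥(chevG2.group F)) (e : ℤ), twG2σ m ((u * t * u⁻¹ : ↥(chevG2.group F)) : GL chevG2.Idx F) =
          (((u * t * u⁻¹) ^ e : ↥(chevG2.group F)) : GL chevG2.Idx F) →
        (orderOf t : ℤ) ∣ e * e - 1 ∧
        ∃ ε : ℤ, (ε = 1 ∨ ε = -1) ∧ (orderOf t : ℤ) ∣ e * (1 + 3 ^ (2 * m + 1)) - ε * 3 ^ (m + 1)) ∧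
      (∀ (u : ↥(chevG2.group F)) (e : ℤ), u * t * u⁻¹ = t ^ e →
        ∃ j : Fin 6, (orderOf t : ℤ) ∣ e - (3 ^ (2 * m + 1) : ℤ) ^ (j : ℕ)) := by
  classical
  have C : Cert chevG2 tblG2 := certG2C
  have K : FullCert chevG2 tblG2 := fullCertG2
  have hS : TorOK chevG2 tblG2 torG2cox := torOK_of_chk certG2 _ chkTor_G2cox
  have hq27 : 27 ≤ 3 ^ (2 * m + 1) := (by norm_num : 27 ≤ 3 ^ 3).trans (Nat.pow_le_pow_right (by norm_num) (by omega))
  obtain ⟨q, hF'⟩ : ∃ q, q = 3 ^ (2 * m + 1) := ⟨_, rfl⟩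
  have hm3 : (3 : ℤ) ^ (2 * m + 1) = (q : ℤ) := by rw [hF']; push_cast; rfl
  rw [← hF'] at hq27
  rw [hm3]
  replace hF : Fintype.card F = q := hF.trans hF'.symm
  have hsep : TorSep chevG2 tblG2 torG2cox q := by
    refine torSep_of_large certG2 (by omega) chkLarge_G2cox ?_
    rw [ord_G2cox, show chevG2.rank = 2 from rfl]
    simp only [Finset.sum_range_succ, Finset.sum_range_zero]
    have h : (27 : ℤ) ≤ q := by exact_mod_cast hq27
    nlinarith
  subst hF
  obtain ⟨f, hprime, hq⟩ := FiniteField.card F esymG2.p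
  haveI := Fact.mk hprime
  let L := AlgebraicClosure F
  haveI : CharP L esymG2.p := charP_of_injective_algebraMap (algebraMap F L).injective esymG2.p
  set σ := iterateFrobenius L esymG2.p (f : ℕ) with hσdef
  have hσ : ∀ x : L, σ x = x ^ Fintype.card F := fun x => by rw [hσdef, iterateFrobenius_def, hq]
  set q := Fintype.card F with hqdef
  have hqpos : 2 ≤ q := Fintype.one_lt_card
  have hfix : ∀ t : L, σ t = t ↔ t ∈ (algebraMap F L).range := by
    intro t
    refine ⟨fun ht => ?_, ?_⟩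
    · rw [hσ] at ht
      let P : Polynomial L := Polynomial.X ^ q - Polynomial.X
      have hP : P ≠ 0 := FiniteField.X_pow_card_sub_X_ne_zero L hqpos
      have hsub : Finset.univ.image (algebraMap F L) ⊆ P.roots.toFinset := fun x hx => by
        obtain ⟨y, -, rfl⟩ := Finset.mem_image.1 hx
        rw [Multiset.mem_toFinset, Polynomial.mem_roots hP]
        simp [P, ← map_pow, hqdef, FiniteField.pow_card]
      have heq := Finset.eq_of_subset_of_card_le hsub (by
        rw [Finset.card_image_of_injective _ (algebraMap F L).injective, Finset.card_univ]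
        exact (Multiset.toFinset_card_le _).trans ((Polynomial.card_roots' P).trans
          (FiniteField.X_pow_card_sub_X_natDegree_eq L hqpos).le))
      have htm : t ∈ P.roots.toFinset := by
        rw [Multiset.mem_toFinset, Polynomial.mem_roots hP]; simp [P, ht]
      rw [← heq] at htm
      obtain ⟨y, -, e⟩ := Finset.mem_image.1 htm
      exact ⟨y, e⟩
    · rintro ⟨y, rfl⟩
      rw [hσ, ← map_pow, hqdef, FiniteField.pow_card]
  -- the order
  obtain ⟨N, hN⟩ : ∃ N : ℕ, (N : ℤ) = torG2cox.ord tblG2 q := ⟨(torG2cox.ord tblG2 q).toNat, Int.toNat_of_nonneg hsep.ord_pos.le⟩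
  have hNL : (N : L) ≠ 0 := by
    intro h0
    rw [CharP.cast_eq_zero_iff L esymG2.p] at h0
    have hd : (esymG2.p : ℤ) ∣ torG2cox.ord tblG2 q := hN ▸ Int.natCast_dvd_natCast.2 h0
    have hpq : (esymG2.p : ℤ) ∣ (q : ℤ) := by rw [hq]; exact_mod_cast dvd_pow_self esymG2.p f.ne_zero
    obtain ⟨m, hm⟩ := Nat.exists_eq_succ_of_ne_zero hS.rank_pos.ne'
    simp only [TorData.ord, sumBelow_eq, C.spec.shape.rank_eq, hm, Nat.succ_eq_add_one,
      Finset.sum_range_succ', pow_zero, mul_one, (show nth 0 torG2cox.tg 0 = 1 from rfl), ← add_assoc] at hd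
    have h1 : (esymG2.p : ℤ) ∣ (1 : ℤ) := (dvd_add_right (dvd_add (hpq.trans (dvd_pow_self _ (Nat.succ_ne_zero m)))
      (Finset.dvd_sum fun k _ => Dvd.dvd.mul_left (hpq.trans (dvd_pow_self _ (Nat.succ_ne_zero k))) _))).1 hd
    exact hprime.one_lt.ne' (by exact_mod_cast Int.eq_one_of_dvd_one (by omega) h1)
  haveI : NeZero (N : L) := ⟨hNL⟩
  obtain ⟨ζ, hζ⟩ := HasEnoughRootsOfUnity.exists_primitiveRoot L N
  have hN0 : N ≠ 0 := fun e => hNL (by rw [e]; exact Nat.cast_zero)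
  haveI : NeZero N := ⟨hN0⟩
  have hζ0 : ζ ≠ 0 := hζ.ne_zero hN0
  have hζeq : ∀ a b : ℤ, ζ ^ a = ζ ^ b ↔ torG2cox.ord tblG2 q ∣ a - b := fun a b => by
    rw [← hN, ← hζ.zpow_eq_one_iff_dvd, zpow_sub₀ hζ0, div_eq_one_iff_eq (zpow_ne_zero _ hζ0)]
  -- the torus element
  let c : Fin chevG2.rank → Lˣ := fun j => Units.mk0 ζ hζ0 ^ torG2cox.gam tblG2 q j
  have hc : ∀ r, chr tblG2 chevG2 (extend' c) r = ζ ^ torG2cox.expo tblG2 q r := by
    intro r
    rw [← sum_gam C torG2cox, ← zpow_sum' hζ0, chr]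
    refine Finset.prod_congr rfl fun j hj => ?_
    simp only [extend', dif_pos (Finset.mem_range.1 hj), c, Units.val_zpow_eq_zpow_val, Units.val_mk0, ← zpow_mul]
  have hreg : ∀ r < chevG2.nroots, chr tblG2 chevG2 (extend' c) r ≠ 1 := fun r hr e => by
    rw [hc, ← zpow_zero ζ, hζeq, sub_zero] at e
    exact hsep.ne_zero r hr e
  have hsep' : ∀ v, IsWord chevG2 v → (∀ k < chevG2.rank,
      chr tblG2 chevG2 (extend' c) (wperm tblG2 v (tblG2.simp' k)) = chr tblG2 chevG2 (extend' c) (tblG2.simp' k)) →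
      ∀ k < chevG2.rank, wperm tblG2 v (tblG2.simp' k) = tblG2.simp' k := fun v hv h =>
    hsep.sep v hv fun k hk => by
      have := h k hk
      rwa [hc, hc, hζeq] at this
  have hrev : ∀ r < chevG2.nroots, wperm tblG2 torG2cox.w (wperm tblG2 torG2cox.w.reverse r) = r := fun r hr => by
    have := wperm_reverse C hS.isWord.reverse hr
    rwa [List.reverse_reverse] at this
  let σc : (Fin chevG2.rank → Lˣ) → (Fin chevG2.rank → Lˣ) := fun d i => Units.map σ.toMonoidHom (d i)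
  have hσchr : ∀ d r, chr tblG2 chevG2 (extend' (σc d)) r = chr tblG2 chevG2 (extend' d) r ^ q := by
    intro d r
    rw [← hσ]
    simp only [chr, map_prod, map_zpow₀]
    refine Finset.prod_congr rfl fun j hj => ?_
    simp [extend', σc, Finset.mem_range.1 hj]
  set n := wnu C L torG2cox.w with hn
  set h := torusHom chevG2 tblG2 L c with hh
  have hnh : n * Matrix.GeneralLinearGroup.map σ h * n⁻¹ = h := by
    obtain ⟨e, he, hchr⟩ := torus_word_conj C hS.isWord (σc c)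
    rw [map_torusHom C, he]
    refine torusHom_congr fun r hr => ?_
    have hr' := wperm_lt C hS.isWord.reverse hr
    rw [← hrev r hr, hchr _ hr', hσchr, hc, hc, ← zpow_natCast, ← zpow_mul, hζeq, expo_step C hS q hr']
    exact ⟨torG2cox.coef tblG2 (wperm tblG2 torG2cox.w.reverse r) (chevG2.rank - 1), by ring⟩
  obtain ⟨g, hg, hgn⟩ := lang_chev C K (p := esymG2.p) (f := (f : ℕ)) (by rw [← hq]; exact hqpos) (1 : GL chevG2.Idx L)
    (fun x hx => by simpa using hx) (monomial_le_group C (wnu_mem C hS.isWord) : n ∈ chevG2.group L)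
  have hσg : Matrix.GeneralLinearGroup.map σ g = g * n := by
    rw [← hgn, hσdef]; group
  have hhd : h ∈ chevG2.diagonalSubgroup L := by rw [← torusHom_range C]; exact ⟨c, rfl⟩
  have hhG : h ∈ chevG2.group L := monomial_le_group C (diag_le_monomial C hhd)
  -- descent
  have hinjT : Function.Injective (torusHom chevG2 tblG2 L) :=
    torusHom_injective_scalar C inv_G2 fun x hx => by simpa using hx
  let φ : ↥(chevG2.group F) →* GL chevG2.Idx L :=
    (Matrix.GeneralLinearGroup.map (algebraMap F L)).comp (chevG2.group F).subtype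
  have hφinj : Function.Injective φ := (map_gl_injective _).comp Subtype.val_injective
  have hrange : ∀ x, x ∈ φ.range ↔ x ∈ chevG2.group L ∧ Matrix.GeneralLinearGroup.map σ x = x := by
    intro x
    rw [← fixed_eq C σ K hinjT, fixedRoots_eq_map C σ (algebraMap F L) hfix, Subgroup.mem_map]
    exact ⟨fun ⟨y, hy⟩ => ⟨y, y.2, hy⟩, fun ⟨y, hy, e⟩ => ⟨⟨y, hy⟩, e⟩⟩
  obtain ⟨t, ht⟩ := (hrange (g * h * g⁻¹)).2 ⟨mul_mem (mul_mem hg hhG) (inv_mem hg), by
    rw [map_mul, map_mul, map_inv, hσg]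
    calc g * n * Matrix.GeneralLinearGroup.map σ h * (g * n)⁻¹ =
        g * (n * Matrix.GeneralLinearGroup.map σ h * n⁻¹) * g⁻¹ := by group
      _ = _ := by rw [hnh]⟩
  have hord : orderOf t = N := by
    rw [← orderOf_injective φ hφinj, ht, ← MulAut.conj_apply, MulEquiv.orderOf_eq]
    refine Nat.dvd_antisymm (orderOf_dvd_of_pow_eq_one ?_) ?_
    · rw [hh, ← map_pow, ← map_one (torusHom chevG2 tblG2 L)]
      refine torusHom_congr fun r _ => ?_
      rw [chr_pow', hc, ← zpow_natCast, ← zpow_mul, show chr tblG2 chevG2 (extend' (1 : Fin chevG2.rank → Lˣ)) r = 1 by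
        simp [chr, extend'], ← zpow_zero ζ, hζeq, sub_zero, ← hN]
      exact dvd_mul_left _ _
    · have e := pow_orderOf_eq_one h
      generalize orderOf h = m at e ⊢
      rw [hh, ← map_pow, ← map_one (torusHom chevG2 tblG2 L)] at e
      have e' : chr tblG2 chevG2 (extend' (c ^ m)) torG2cox.r0 = 1 := by rw [hinjT e]; simp [chr, extend']
      rw [chr_pow', hc, expo_r0 C hS, zpow_one] at e'
      exact hζ.dvd_of_pow_eq_one m e'
  have hN' : (orderOf t : ℤ) = (q : ℤ) ^ 2 - q + 1 := by rw [hord, hN, ord_G2cox]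
  have hq27' : (27 : ℤ) ≤ q := by exact_mod_cast hq27
  have hord' : ∀ a : ℤ, (N : ℤ) ∣ a ↔ t ^ a = 1 := fun a => by rw [← hord]; exact orderOf_dvd_iff_zpow_eq_one
  have hcz : ∀ (e : ℤ) r, chr tblG2 chevG2 (extend' (c ^ e)) r = ζ ^ (e * torG2cox.expo tblG2 q r) := by
    intro e r
    rw [← sum_gam C torG2cox, Finset.mul_sum, ← zpow_sum' hζ0, chr]
    refine Finset.prod_congr rfl fun j hj => ?_
    simp only [extend', dif_pos (Finset.mem_range.1 hj), c, Pi.pow_apply, Units.val_zpow_eq_zpow_val, Units.val_mk0, ← zpow_mul]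
    congr 1; ring
  have hnr : chevG2.nroots = 12 := by decide +kernel
  have hexpo : ∀ r, torG2cox.expo tblG2 q r = (cc r).1 + (cc r).2 * q := expo_cc q
  refine ⟨t, hN', fun k hk => ?_, fun u₀ e he => ?_, fun u e he => ?_⟩
  · -- regularity of every power
    set o := N / N.gcd k with ho
    have hoN : o ∣ N := Nat.div_dvd_of_dvd (Nat.gcd_dvd_left N k)
    have ho1 : o ≠ 1 := fun e1 => hk (orderOf_eq_one_iff.1 (by
      rw [orderOf_pow, hord, ← ho, e1]))
    have hoz : (o : ℤ) ∣ (q : ℤ) ^ 2 - q + 1 := by rw [← hN', hord]; exact_mod_cast hoN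
    have hoz' : (o : ℤ) ∣ ((3 : ℤ) ^ (2 * m + 1)) ^ 2 - 3 ^ (2 * m + 1) + 1 := by rw [hm3]; exact hoz
    have hdiv : ∀ a : ℤ, (N : ℤ) ∣ (k : ℤ) * a → (o : ℤ) ∣ a := by
      intro a ha
      have h1 : (t ^ k) ^ a = 1 := by rw [← zpow_natCast, ← zpow_mul, ← hord']; exact ha
      have h2 := orderOf_dvd_iff_zpow_eq_one.2 h1
      rwa [orderOf_pow, hord] at h2
    have hchrk : ∀ r, chr tblG2 chevG2 (extend' (c ^ k)) r = ζ ^ ((k : ℤ) * torG2cox.expo tblG2 q r) := fun r => by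
      rw [← zpow_natCast c k]; exact hcz k r
    have hregk : ∀ r < chevG2.nroots, chr tblG2 chevG2 (extend' (c ^ k)) r ≠ 1 := by
      intro r hr e1
      rw [hchrk, ← zpow_zero ζ, hζeq, sub_zero, ← hN] at e1
      have h2 := hdiv _ e1
      rw [hexpo] at h2
      exact ho1 (eq_one_of_dvd hoz' (Int.natCast_dvd_natCast.1 ((dvd_nrm6 hoz h2).trans
        (Int.natCast_dvd_natCast.2 (cc_bound (hnr ▸ hr)).2.2))))
    have hsepk : ∀ v, IsWord chevG2 v → (∀ j < chevG2.rank,
        chr tblG2 chevG2 (extend' (c ^ k)) (wperm tblG2 v (tblG2.simp' j)) = chr tblG2 chevG2 (extend' (c ^ k)) (tblG2.simp' j)) →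
        ∀ j < chevG2.rank, wperm tblG2 v (tblG2.simp' j) = tblG2.simp' j := by
      intro v hv hfix'
      have h0 : (0 : ℕ) < chevG2.rank := by decide
      have h1 : (1 : ℕ) < chevG2.rank := by decide
      have hlt : ∀ j, j < chevG2.rank → wperm tblG2 v (tblG2.simp' j) < 12 := fun j hj =>
        hnr ▸ wperm_lt C hv (C.spec.simp_lt j hj)
      have hgo : ∀ j < chevG2.rank, (o : ℤ) ∣ (nrm6 (dd (wperm tblG2 v (tblG2.simp' j)) j) : ℤ) := by
        intro j hj
        have e1 := hfix' j hj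
        rw [hchrk, hchrk, hζeq, ← hN, ← mul_sub] at e1
        refine dvd_nrm6 hoz ?_
        have h2 := hdiv _ e1
        rw [hexpo, hexpo] at h2
        exact idvd h2 (by simp only [dd]; ring)
      have hs := List.all_eq_true.1 (List.all_eq_true.1 chk_sep _ (List.mem_range.2 (hlt 0 h0))) _ (List.mem_range.2 (hlt 1 h1))
      simp only [Bool.or_eq_true, Bool.not_eq_true', Bool.and_eq_false_iff, decide_eq_false_iff_not, Bool.and_eq_true,
        decide_eq_true_eq] at hs
      rcases hs with ((hs | hs) | ⟨e0, e1⟩) | hs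
      · exact absurd (by rw [rootPair_wperm C hv (C.spec.simp_lt 0 h0) (C.spec.simp_lt 1 h1), rootPair_simple C h0]) hs
      · exact absurd (by rw [rootPair_wperm C hv (C.spec.simp_lt 1 h1) (C.spec.simp_lt 0 h0), rootPair_simple C h1]) hs
      · intro j hj
        have : j = 0 ∨ j = 1 := by have : j < 2 := hj; omega
        rcases this with rfl | rfl <;> assumption
      · exact absurd (eq_one_of_dvd hoz' ((Nat.dvd_gcd (Int.natCast_dvd_natCast.1 (hgo 0 h0))
          (Int.natCast_dvd_natCast.1 (hgo 1 h1))).trans hs)) ho1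
    refine le_antisymm (fun u hu => ?_) (fun x hx => ?_)
    rotate_left
    · obtain ⟨a, rfl⟩ := Subgroup.mem_zpowers_iff.1 hx
      refine Subgroup.mem_centralizer_singleton_iff.2 ?_
      rw [← zpow_natCast]
      exact ((Commute.refl t).zpow_zpow a k).eq
    have hu' : u * t ^ k = t ^ k * u := Subgroup.mem_centralizer_singleton_iff.1 hu
    obtain ⟨hUG, hUfix⟩ := (hrange (φ u)).1 ⟨u, rfl⟩
    have htk : φ (t ^ k) = g * h ^ k * g⁻¹ := by rw [map_pow, ht, conj_pow]
    have hcomm : torusHom chevG2 tblG2 L (c ^ k) * (g⁻¹ * φ u * g) = (g⁻¹ * φ u * g) * torusHom chevG2 tblG2 L (c ^ k) := by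
      rw [map_pow, ← hh]
      calc h ^ k * (g⁻¹ * φ u * g) = g⁻¹ * (g * h ^ k * g⁻¹ * φ u) * g := by group
        _ = g⁻¹ * (φ u * (g * h ^ k * g⁻¹)) * g := by rw [← htk, ← map_mul, ← hu', map_mul]
        _ = _ := by group
    have hd := centralizer_regular C K hregk hsepk (mul_mem (mul_mem (inv_mem hg) hUG) hg) hcomm
    rw [← torusHom_range C] at hd
    obtain ⟨d, hd⟩ := hd
    have hnd : n * Matrix.GeneralLinearGroup.map σ (torusHom chevG2 tblG2 L d) * n⁻¹ = torusHom chevG2 tblG2 L d := by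
      rw [hd, map_mul, map_mul, map_inv, hUfix, hσg]; group
    obtain ⟨e, he, hchr⟩ := torus_word_conj C hS.isWord (σc d)
    rw [map_torusHom C, he] at hnd
    have hstep : ∀ r < chevG2.nroots, chr tblG2 chevG2 (extend' d) (wperm tblG2 torG2cox.w r) = chr tblG2 chevG2 (extend' d) r ^ q := fun r hr => by
      rw [← hσchr, ← hchr r hr, hinjT hnd]
    set z := chr tblG2 chevG2 (extend' d) torG2cox.r0 with hz
    have hz0 : z ≠ 0 := chr_ne_zero' C d _
    have horb : ∀ k : ℕ, chr tblG2 chevG2 (extend' d) (torG2cox.orb tblG2 k) = z ^ ((q : ℤ) ^ k) := by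
      intro k
      induction k with
      | zero => rw [pow_zero, zpow_one]; rfl
      | succ k ih =>
        rw [show torG2cox.orb tblG2 (k + 1) = wperm tblG2 torG2cox.w (torG2cox.orb tblG2 k) from rfl, hstep _ (orb_lt C hS k), ih, ← zpow_natCast,
          ← zpow_mul, pow_succ]
    have hchrd : ∀ r < chevG2.nroots, chr tblG2 chevG2 (extend' d) r = z ^ torG2cox.expo tblG2 q r := by
      intro r hr
      simp only [TorData.expo, sumBelow_eq, C.spec.shape.rank_eq]
      rw [← zpow_sum' hz0]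
      calc chr tblG2 chevG2 (extend' d) r
          = ∏ j ∈ Finset.range chevG2.rank, ∏ k ∈ Finset.range chevG2.rank,
              (extend' d j ^ tblG2.cartan j (torG2cox.orb tblG2 k)) ^ torG2cox.coef tblG2 r k := by
            refine Finset.prod_congr rfl fun j hj => ?_
            rw [hS.cart r hr j (Finset.mem_range.1 hj), ← zpow_sum' (extend'_ne d j)]
            exact Finset.prod_congr rfl fun k _ => by rw [← zpow_mul, mul_comm]
        _ = _ := by
            rw [Finset.prod_comm]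
            refine Finset.prod_congr rfl fun k _ => ?_
            rw [Finset.prod_zpow, ← chr, horb, ← zpow_mul, mul_comm]
    obtain ⟨l, hl'⟩ := Nat.exists_eq_succ_of_ne_zero hS.rank_pos.ne'
    have e3 : z ^ torG2cox.expo tblG2 q (wperm tblG2 torG2cox.w (torG2cox.orb tblG2 l)) = z ^ ((q : ℤ) * torG2cox.expo tblG2 q (torG2cox.orb tblG2 l)) := by
      rw [← hchrd _ (wperm_lt C hS.isWord (orb_lt C hS l)), hstep _ (orb_lt C hS l), hchrd _ (orb_lt C hS l),
        ← zpow_natCast, ← zpow_mul, mul_comm]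
    have hcm : torG2cox.coef tblG2 (torG2cox.orb tblG2 l) l = 1 := by
      have : ∀ k, k ≤ l → ∀ l < chevG2.rank, torG2cox.coef tblG2 (torG2cox.orb tblG2 k) l = if l = k then 1 else 0 := by
        intro k
        induction k with
        | zero => intro _ l hl; exact hS.coef_r0 l hl
        | succ k ih =>
          intro hk l hl
          rw [show torG2cox.orb tblG2 (k + 1) = wperm tblG2 torG2cox.w (torG2cox.orb tblG2 k) from rfl, hS.step _ (orb_lt C hS k) l hl,
            ih (by omega) (chevG2.rank - 1) (by omega), if_neg (show chevG2.rank - 1 ≠ k by omega), zero_mul, sub_zero]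
          rcases l with _ | l
          · simp
          · simp only [Nat.succ_ne_zero, if_false, Nat.add_sub_cancel, Nat.add_right_cancel_iff]
            exact ih (by omega) l (by omega)
      rw [this l le_rfl l (by omega), if_pos rfl]
    rw [expo_step C hS q (orb_lt C hS l), show chevG2.rank - 1 = l by omega, hcm, one_mul, zpow_sub₀ hz0,
      div_eq_iff (zpow_ne_zero _ hz0), left_eq_mul₀ (zpow_ne_zero _ hz0), ← hN, zpow_natCast] at e3
    obtain ⟨i, -, hi⟩ := hζ.eq_pow_of_pow_eq_one e3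
    have hdi : torusHom chevG2 tblG2 L d = h ^ i := by
      rw [hh, ← map_pow]
      refine torusHom_congr fun r hr => ?_
      rw [hchrd r hr, chr_pow', hc, ← hi, ← zpow_natCast, ← zpow_natCast, ← zpow_mul, ← zpow_mul, mul_comm]
    refine Subgroup.mem_zpowers_iff.2 ⟨(i : ℤ), hφinj ?_⟩
    rw [zpow_natCast, map_pow, ht, conj_pow, ← hdi, hd]
    group
  · -- the twisting map
    obtain ⟨t', ht'⟩ : ∃ t', t' = u₀ * t * u₀⁻¹ := ⟨_, rfl⟩
    rw [← ht'] at he
    obtain ⟨g₁, hg₁, hφt⟩ : ∃ g₁ ∈ chevG2.group L, φ t' = g₁ * h * g₁⁻¹ :=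
      ⟨φ u₀ * g, mul_mem ((hrange _).1 ⟨u₀, rfl⟩).1 hg, by rw [ht', map_mul, map_mul, map_inv, ht]; group⟩
    have hord'' : ∀ a : ℤ, (N : ℤ) ∣ a ↔ t' ^ a = 1 := fun a => by
      rw [hord', ht', conj_zpow, conj_eq_one_iff]
    have htt := twE_twE (m := m) (K := F) ((show Fintype.card F = 3 ^ (2 * m + 1) from hF')) t'.2
    have he2 : (N : ℤ) ∣ e * e - 1 := by
      rw [hord'', zpow_sub_one, mul_inv_eq_one]
      refine Subtype.ext ?_
      have key : ∀ a : ℤ, twG2σ m ((t' ^ a : ↥(chevG2.group F)) : GL chevG2.Idx F) = ((t' ^ (e * a) : ↥(chevG2.group F)) : GL chevG2.Idx F) := by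
        have kn : ∀ a : ℕ, twG2σ m ((t' ^ a : ↥(chevG2.group F)) : GL chevG2.Idx F) = ((t' ^ (e * a) : ↥(chevG2.group F)) : GL chevG2.Idx F) := by
          intro a
          induction a with
          | zero => simp only [pow_zero, Nat.cast_zero, mul_zero, zpow_zero, OneMemClass.coe_one, twG2σ]; rw [twE_one]
          | succ a ih =>
            simp only [twG2σ] at ih he ⊢
            rw [pow_succ, Subgroup.coe_mul, twE_mul eSymOKG2 certG2C fullCertG2 m (t' ^ a).2 t'.2, ih, he, Nat.cast_succ, mul_add, mul_one, zpow_add]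
            rfl
        intro a
        obtain ⟨b, rfl | rfl⟩ := Int.eq_nat_or_neg a
        · rw [zpow_natCast]; exact kn b
        · rw [zpow_neg, zpow_natCast, InvMemClass.coe_inv, twE_inv (t' ^ b).2, kn, mul_neg, zpow_neg, InvMemClass.coe_inv]
      rw [← key, ← he]; exact htt.2
    refine ⟨by rw [hord]; exact he2, ?_⟩
    set g' := twG2σ (K := L) m g₁ with hg'
    have hgG' : g' ∈ chevG2.group L := by
      simp only [hg', twG2σ]; exact twE_mem eSymOKG2 certG2C fullCertG2 m hg₁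
    let c' := ePar eSymOKG2 m c
    have hh'' : twG2σ (K := L) m h = torusHom chevG2 tblG2 L c' := by
      simp only [twG2σ]; rw [hh]; exact twE_torus eSymOKG2 certG2C fullCertG2 m c
    have hc' : ∀ r < chevG2.nroots, chr tblG2 chevG2 (extend' c') (esymG2.root tblG2 r) =
        chr tblG2 chevG2 (extend' c) r ^ esymG2.ex tblG2 m r ∧ esymG2.root tblG2 r < chevG2.nroots := by
      intro r hr
      have hr3 := chk_root
      simp only [Bool.and_eq_true, decide_eq_true_eq, List.all_eq_true, List.mem_range] at hr3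
      have hrr : esymG2.root tblG2 r < chevG2.nroots := hnr.symm ▸ (hr3.2 r (hnr ▸ hr)).2
      refine ⟨?_, hrr⟩
      have hxG : xg certG2C r (1 : L) ∈ chevG2.group L := xg_mem_group certG2C _ _
      have e1 := congrArg (twE eSymOKG2 certG2C fullCertG2 (F := L) m) (torusHom_conj_xg certG2C c hr (1 : L))
      have hTG : torusHom chevG2 tblG2 L c ∈ chevG2.group L := by rw [← hh]; exact hhG
      rw [twE_mul eSymOKG2 certG2C fullCertG2 m (mul_mem hTG hxG) (inv_mem hTG), twE_mul eSymOKG2 certG2C fullCertG2 m hTG hxG,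
        show twE eSymOKG2 certG2C fullCertG2 (F := L) m (torusHom chevG2 tblG2 L c)⁻¹ =
          (twE eSymOKG2 certG2C fullCertG2 (F := L) m (torusHom chevG2 tblG2 L c))⁻¹ from twE_inv hTG,
        twE_xg eSymOKG2 certG2C fullCertG2 m hr, twE_xg eSymOKG2 certG2C fullCertG2 m hr, twE_torus, one_pow,
        torusHom_conj_xg certG2C _ hrr, mul_one, mul_one] at e1
      exact xg_injective certG2C hrr e1
    have hrege : ∀ r < chevG2.nroots, chr tblG2 chevG2 (extend' (c ^ e)) r ≠ 1 := by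
      intro r hr e1
      rw [hcz, ← zpow_zero ζ, hζeq, sub_zero, ← hN] at e1
      refine hsep.ne_zero r hr (hN ▸ ?_)
      have h2 := dvd_sub (e1.mul_left e) (he2.mul_right (torG2cox.expo tblG2 q r))
      exact idvd h2 (by ring)
    have hreg'' : ∀ r < chevG2.nroots, chr tblG2 chevG2 (extend' c') r ≠ 1 := by
      intro r hr e1
      have hr3 := chk_root
      simp only [Bool.and_eq_true, decide_eq_true_eq, List.all_eq_true, List.mem_range] at hr3
      obtain ⟨⟨hrr, -⟩, hrlt⟩ := hr3.2 r (hnr ▸ hr)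
      obtain ⟨h4, -⟩ := hc' (esymG2.root tblG2 r) (hnr.symm ▸ hrlt)
      rw [hrr, e1, hc, ← zpow_natCast, ← zpow_mul, eq_comm, ← zpow_zero ζ, hζeq, sub_zero, ← hN] at h4
      obtain ⟨j, hj⟩ := ex_eq_pow eSymOKG2 (T := tblG2) m (esymG2.root tblG2 r)
      rw [hj] at h4
      refine hsep.ne_zero _ (hnr.symm ▸ hrlt) (hN ▸ ?_)
      have hco : IsCoprime (N : ℤ) ((esymG2.p ^ j : ℕ) : ℤ) := by
        rw [Nat.isCoprime_iff_coprime]
        refine Nat.Coprime.pow_right j ((Nat.coprime_comm.1 ((Nat.prime_three.coprime_iff_not_dvd).2 fun h3 => ?_)))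
        exact absurd (eq_one_of_dvd (o := 3) (m := m) (by rw [hm3, ← hN', hord]; exact Int.natCast_dvd_natCast.2 h3) (by norm_num)) (by norm_num)
      exact hco.dvd_of_dvd_mul_right h4
    have hconj : torusHom chevG2 tblG2 L (c ^ e) * (g₁⁻¹ * g') = g₁⁻¹ * g' * torusHom chevG2 tblG2 L c' := by
      have e1 : φ (t' ^ e) = g' * torusHom chevG2 tblG2 L c' * g'⁻¹ := by
        rw [← hh'', hg']
        have e2 : twG2σ (K := L) m (φ t') = φ (t' ^ e) := by
          show twG2σ m (Matrix.GeneralLinearGroup.map (algebraMap F L) (t' : GL chevG2.Idx F)) = _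
          rw [← twE_natural _ t'.2, he]
          rfl
        rw [← e2, hφt]
        simp only [twG2σ]
        rw [twE_mul eSymOKG2 certG2C fullCertG2 m (mul_mem hg₁ hhG) (inv_mem hg₁), twE_mul eSymOKG2 certG2C fullCertG2 m hg₁ hhG]
        congr 1
        exact twE_inv hg₁
      rw [map_zpow, hφt, conj_zpow] at e1
      rw [map_zpow, ← hh]
      calc h ^ e * (g₁⁻¹ * g') = g₁⁻¹ * (g₁ * h ^ e * g₁⁻¹) * g' := by group
        _ = _ := by rw [e1]; group
    obtain ⟨v, hv, hvc⟩ := regular_conj C K hrege hreg'' (mul_mem (inv_mem hg₁) hgG') hconj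
    have hroot := chk_root
    simp only [Bool.and_eq_true, decide_eq_true_eq] at hroot
    obtain ⟨⟨hc0, hl0⟩, -⟩ := hroot
    obtain ⟨h4, hlt⟩ := hc' _ hS.r0_lt
    have hex : esymG2.ex tblG2 m torG2cox.r0 = 3 ^ (m + 1) := by rw [ESym.ex, hl0, pow_succ]; rfl
    have e0 : torG2cox.expo tblG2 q torG2cox.r0 = 1 := expo_r0 C (S := torG2cox) hS q
    rw [← hvc _ hlt, hcz, hc, e0, zpow_one, hex, ← zpow_natCast ζ, hζeq, ← hN, hexpo] at h4
    push_cast at h4
    have hs12 : wperm tblG2 v (esymG2.root tblG2 torG2cox.r0) < 12 := hnr ▸ wperm_lt C hv hlt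
    obtain ⟨hb1, hb2, -⟩ := cc_bound hs12
    set a := (cc (wperm tblG2 v (esymG2.root tblG2 torG2cox.r0))).1
    set b := (cc (wperm tblG2 v (esymG2.root tblG2 torG2cox.r0))).2
    have hNq : (q : ℤ) ^ 2 - q + 1 = N := by rw [← hN', hord]
    have hsq : (q : ℤ) ^ 2 - q + 1 ∣ (a * a - b * b) + (2 * a * b + b * b - 3) * q := by
      rw [hNq]
      have h5 : (N : ℤ) ∣ (e * (a + b * q)) ^ 2 - (3 ^ (m + 1) : ℤ) ^ 2 := by
        rw [sq_sub_sq]; exact h4.mul_left _
      have h6 : (3 ^ (m + 1) : ℤ) ^ 2 = 3 * q := by rw [← hm3, ← pow_mul, ← pow_succ']; congr 1; omega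
      rw [h6] at h5
      have h7 := dvd_sub (dvd_sub h5 (he2.mul_right ((a + b * q) ^ 2))) (dvd_mul_left (N : ℤ) (b * b))
      exact idvd h7 (by rw [← hNq]; ring)
    obtain ⟨a1, a2⟩ := abs_le.1 hb1
    obtain ⟨b1, b2⟩ := abs_le.1 hb2
    have hab := small_dvd hq27' (abs_le.2 ⟨by nlinarith, by nlinarith⟩) (abs_le.2 ⟨by nlinarith, by nlinarith⟩) hsq
    rw [hord]
    interval_cases a <;> interval_cases b <;> norm_num at hab
    · exact ⟨-1, Or.inr rfl, by exact idvd h4.neg_right (by ring)⟩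
    · exact ⟨1, Or.inl rfl, by exact idvd h4 (by ring)⟩
  · -- conjugation
    have hφu := (hrange (φ u)).1 ⟨u, rfl⟩
    have hrege : ∀ r < chevG2.nroots, chr tblG2 chevG2 (extend' (c ^ e)) r ≠ 1 := by
      intro r hr e1
      rw [hcz, ← zpow_zero ζ, hζeq, sub_zero, ← hN, hord', zpow_mul, ← he, conj_zpow, conj_eq_one_iff, ← hord', hN] at e1
      exact hsep.ne_zero r hr e1
    have hconj : torusHom chevG2 tblG2 L (c ^ e) * (g⁻¹ * φ u * g) = g⁻¹ * φ u * g * torusHom chevG2 tblG2 L c := by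
      have e1 := congrArg φ he
      rw [map_mul, map_mul, map_inv, map_zpow, ht, conj_zpow] at e1
      rw [map_zpow, ← hh]
      calc h ^ e * (g⁻¹ * φ u * g) = g⁻¹ * (g * h ^ e * g⁻¹) * φ u * g := by group
        _ = _ := by rw [← e1]; group
    obtain ⟨v, hv, hvc⟩ := regular_conj C K hrege hreg (mul_mem (mul_mem (inv_mem hg) hφu.1) hg) hconj
    obtain ⟨r', hr', hr'c⟩ : ∃ r, r < 12 ∧ cc r = (1, 1) := by
      have := chk_long_root
      simpa [List.any_eq_true] using this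
    have hroot := chk_root
    simp only [Bool.and_eq_true, decide_eq_true_eq] at hroot
    have h1 := hvc _ hS.r0_lt
    have h2 := hvc r' (hnr.symm ▸ hr')
    rw [hcz, hc, hζeq, ← hN, expo_r0 C (S := torG2cox) hS, hexpo] at h1
    rw [hcz, hc, hζeq, ← hN, hexpo, hexpo, hr'c] at h2
    have hs12 : wperm tblG2 v torG2cox.r0 < 12 := hnr ▸ wperm_lt C hv hS.r0_lt
    have hl12 : wperm tblG2 v r' < 12 := hnr ▸ wperm_lt C hv (hnr.symm ▸ hr')
    obtain ⟨hb1, hb2, -⟩ := cc_bound hs12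
    obtain ⟨hd1, hd2, -⟩ := cc_bound hl12
    set A := (cc (wperm tblG2 v torG2cox.r0)).1 with hA
    set B := (cc (wperm tblG2 v torG2cox.r0)).2 with hB
    set A' := (cc (wperm tblG2 v r')).1 with hA'
    set B' := (cc (wperm tblG2 v r')).2 with hB'
    -- the inverse exponent
    have hNq : (q : ℤ) ^ 2 - q + 1 = N := by rw [← hN', hord]
    have hrel : (q : ℤ) ^ 2 - q + 1 ∣ ((A - B) - A') + ((A + 2 * B) - B') * q := by
      rw [hNq]
      have h3 := dvd_sub (dvd_sub (h1.mul_right (A' + B' * q)) (h2.mul_right (A + B * q))) (dvd_mul_right (N : ℤ) B)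
      exact idvd h3 (by rw [← hNq]; ring)
    obtain ⟨a1, a2⟩ := abs_le.1 hb1
    obtain ⟨b1, b2⟩ := abs_le.1 hb2
    obtain ⟨c1, c2⟩ := abs_le.1 hd1
    obtain ⟨d1, d2⟩ := abs_le.1 hd2
    obtain ⟨z1, z2⟩ := small_dvd hq27' (abs_le.2 ⟨by linarith, by linarith⟩) (abs_le.2 ⟨by linarith, by linarith⟩) hrel
    have hsh := List.all_eq_true.1 chk_short _ (List.mem_range.2 hs12)
    rw [Bool.or_eq_true, List.contains_iff_mem] at hsh
    rcases hsh with hsh | hsh
    · obtain ⟨j, hj⟩ := chk_pow6 (q := (q : ℤ)) hsh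
      rw [← hA, ← hB, hNq] at hj
      rw [hord]
      have hpow : (N : ℤ) ∣ (q : ℤ) ^ ((j : ℕ) + ((-j : Fin 6) : ℕ)) - 1 := by
        rcases fin_six_neg j with h | h <;> rw [h]
        · rw [pow_zero, sub_self]; exact dvd_zero _
        · exact idvd (dvd_mul_right (N : ℤ) ((q : ℤ) ^ 4 + q ^ 3 - q - 1)) (by rw [← hNq]; ring)
      refine ⟨-j, idvd (dvd_sub (dvd_add ((h1.sub (hj.mul_left e)).mul_left ((q : ℤ) ^ ((-j : Fin 6) : ℕ))) (dvd_zero _))
        (hpow.mul_left e)) ?_⟩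
      rw [pow_add]; ring
    · have := List.all_eq_true.1 hsh _ (List.mem_range.2 hl12)
      simp only [decide_eq_true_eq] at this
      refine absurd (Prod.ext ?_ ?_) this <;> simp only [← hA, ← hB, ← hA', ← hB'] <;> linarith

end Cfsg.Lib.Chev.Ree
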