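import Cfsg.Agent.Lib.Chev.StPairChk

/-!
Over a field with more than four elements a central extension of the Chevalley group contains elements over the root
elements satisfying the relators (R1), (R2).
-/

set_option autoImplicit false
set_option linter.unusedSectionVars false

namespace Cfsg.Lib.Chev

open Cfsg.Lie
open scoped commutatorElement

variable {D : ChevalleyDatum} {T : Tbl} {F : Type*} [Field F] {E : Type*} [Group E]

theorem rootPair_eq (C : Cert D T) (r s : ℕ) :
    rootPairSt T r s = ∑ i ∈ Finset.range D.rank, T.coroot r i * T.cartan i s := by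
  rw [rootPairSt, C.spec.shape.rank_eq]
  induction D.rank with
  | zero => rfl
  | succ n ih =>
    show (Nat.rec 0 (fun i acc => acc + T.coroot r i * T.cartan i s) n : ℤ) + _ = _
    rw [ih, Finset.sum_range_succ]

theorem hg_conj_pair (C : Cert D T) {r s : ℕ} (hr : r < D.nroots) (hs : s < D.nroots) {v : F} (hv : v ≠ 0) (t : F) :
    hg C r v * xg C s t * (hg C r v)⁻¹ = xg C s (v ^ rootPairSt T r s * t) := by
  rw [mul_inv_eq_iff_eq_mul]
  refine Units.ext ?_
  have hc : coDiag C r v = scal T D (fun k => v ^ T.coroot r k) := rfl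
  rw [Units.val_mul, Units.val_mul, coe_hg_eq C hr hv, hc, coe_xg, coe_xg,
    scal_mul_x C.spec _ (fun j _ => zpow_ne_zero _ hv) hs]
  congr 2
  rw [rootPair_eq C]
  simp only [chr, ← zpow_mul]
  congr 1
  induction D.rank with
  | zero => simp
  | succ n ih => rw [Finset.prod_range_succ, Finset.sum_range_succ, ih, zpow_add₀ hv]

namespace CentExt

variable {C : Cert D T} (P : CentExt C F E)

theorem act_hL {r s : ℕ} (hr : r < D.nroots) (hs : s < D.nroots) {v : F} (hv : v ≠ 0) :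
    P.Act (P.hL r v) s (v ^ rootPairSt T r s) := fun t => by rw [P.p_hL, hg_conj_pair C hr hs hv]

variable (K : FullCert D T) (hF : ∃ s : Finset F, 4 < s.card) (hM : chkMult T = true)
  (hPr : ∀ r < D.nroots, ∀ s < D.nroots, s ≠ r → s ≠ T.neg r → chkPairAt T r s = true)
  {v : F} (hv0 : v ≠ 0) (hv : v ^ 2 ≠ 1)
include K hF hM hPr hv0 hv

theorem X_comm_self {k : ℕ} (hk : k < D.nroots) (t u : F) :
    P.X v k t * P.X v k u = P.X v k u * P.X v k t := by
  obtain ⟨x, hx0, hx1, hx2⟩ := exists_good_x hF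
  have hM' := allBelow_iff.1 hM k (C.spec.shape.nroots_eq ▸ hk)
  simp only [Bool.and_eq_true, Bool.or_eq_true, decide_eq_true_eq, Bool.not_eq_true', ← Bool.not_eq_true, allBelow_iff, not_forall, exists_prop] at hM'
  obtain ⟨h2, hor⟩ := hM'
  rcases hor with ⟨i, hi, hodd⟩ | ⟨r, hr, s, hs, hd⟩
  · rw [C.spec.shape.rank_eq] at hi
    replace hodd := not_not.1 hodd
    have hsp := C.spec.simp_lt i hi
    have hall : ∀ c : F, c ≠ 0 → ∃ g, P.p g ∈ D.diagonalSubgroup F ∧ P.Act g k c := fun c hc => by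
      obtain ⟨m, hm⟩ : Odd (T.cartan i k) := Int.odd_iff.2 hodd
      refine ⟨P.hL (T.simp' i) c * P.hL k c ^ (-m), ?_, ?_⟩
      · rw [map_mul, map_zpow]
        exact mul_mem (P.tor_hL hsp hc) (zpow_mem (P.tor_hL hk hc) _)
      · have := (P.act_simple hi hk hc).mul ((P.act_coroot hk hc).zpow (pow_ne_zero 2 hc) (-m))
        have he : c ^ T.cartan i k * (c ^ 2) ^ (-m) = c := by
          rw [hm, show c ^ 2 = c ^ (2 : ℤ) from (zpow_natCast c 2).symm, ← zpow_mul, ← zpow_add₀ hc]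
          rw [show 2 * m + 1 + 2 * -m = (1 : ℤ) by ring, zpow_one]
        rwa [he] at this
    exact P.X_commute_of_mult hv0 hv hk hx2 (hall x hx0) (hall (1 + x) hx1) t u
  · rw [C.spec.shape.nroots_eq] at hr hs
    replace hd := not_not.1 hd
    obtain ⟨⟨⟨he, h1, h2'⟩, ⟨h3a, h3b⟩, h3c⟩, ⟨h4a, h4b⟩, h4c⟩ := hd
    by_cases hchar : (2 : F) = 0
    · have hsq : ∀ c : F, c ≠ 0 → ∃ g, P.p g ∈ D.diagonalSubgroup F ∧ P.Act g k (c ^ 2) := fun c hc =>
        ⟨P.hL k c, P.tor_hL hk hc, P.act_coroot hk hc⟩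
      refine P.X_commute_of_mult hv0 hv hk (x := x ^ 2) ?_ (hsq x hx0) ?_ t u
      · have e : (x ^ 2) ^ 2 + x ^ 2 + 1 = (x ^ 2 + x + 1) ^ 2 := by linear_combination (-(x ^ 3) - x ^ 2 - x) * hchar
        rw [e]; exact pow_ne_zero 2 hx2
      · rw [show 1 + x ^ 2 = (1 + x) ^ 2 by linear_combination -x * hchar]
        exact hsq _ hx1
    · rcases he with he | he
      · exact P.X_commute_of_decomp hv0 hv hk hr hs K.comm (by push_cast; exact hchar) (fun e => h1 (by rw [e, Nat.beq_refl]))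
          (fun e => h2' (by rw [e, Nat.beq_refl])) he ⟨fun e => h3a (by rw [e, Nat.beq_refl]), fun e => h3b (by rw [e, Nat.beq_refl]), h3c⟩
          ⟨fun e => h4a (by rw [e, Nat.beq_refl]), fun e => h4b (by rw [e, Nat.beq_refl]), h4c⟩ t u
      · exact P.X_commute_of_decomp hv0 hv hk hr hs K.comm (by push_cast; exact neg_ne_zero.2 hchar)
          (fun e => h1 (by rw [e, Nat.beq_refl])) (fun e => h2' (by rw [e, Nat.beq_refl])) he ⟨fun e => h3a (by rw [e, Nat.beq_refl]), fun e => h3b (by rw [e, Nat.beq_refl]), h3c⟩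
          ⟨fun e => h4a (by rw [e, Nat.beq_refl]), fun e => h4b (by rw [e, Nat.beq_refl]), h4c⟩ t u

theorem X_mul {k : ℕ} (hk : k < D.nroots) (t u : F) : P.X v k t * P.X v k u = P.X v k (t + u) :=
  P.X_add hv0 hv hk (P.X_comm_self K hF hM hPr hv0 hv hk) t u

theorem exists_sep_tor {r s : ℕ} (hr : r < D.nroots) (hs : s < D.nroots) (h1 : s ≠ r) (h2 : s ≠ T.neg r) :
    ∃ g χ, P.p g ∈ D.diagonalSubgroup F ∧ χ ≠ (1 : F) ∧ P.Act g r 1 ∧ P.Act g s χ := by
  have hc := hPr r hr s hs h1 h2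
  simp only [chkPairAt, Bool.and_eq_true, decide_eq_true_eq] at hc
  have hM' : ∀ k < D.nroots, rootPairSt T k k = 2 := fun k hk => by
    have := allBelow_iff.1 hM k (C.spec.shape.nroots_eq ▸ hk)
    simp only [Bool.and_eq_true, decide_eq_true_eq] at this
    exact this.1
  rcases hc.1 with hA | ⟨hne, hle⟩
  · refine ⟨P.hL s v, v ^ 2, P.tor_hL hs hv0, hv, ?_, P.act_coroot hs hv0⟩
    have := P.act_hL hs hr hv0
    rwa [hA, zpow_zero] at this
  · obtain ⟨w, hw, hwe⟩ := exists_pow_ne hF hne hle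
    set A := rootPairSt T s r with hA
    refine ⟨P.hL s w ^ (2 : ℤ) * P.hL r w ^ (-A), _, ?_, hwe, ?_, ?_⟩
    · rw [map_mul, map_zpow, map_zpow]
      exact mul_mem (zpow_mem (P.tor_hL hs hw) _) (zpow_mem (P.tor_hL hr hw) _)
    · have := ((P.act_hL hs hr hw).zpow (zpow_ne_zero _ hw) 2).mul ((P.act_hL hr hr hw).zpow (zpow_ne_zero _ hw) (-A))
      rwa [← hA, hM' r hr, ← zpow_mul, ← zpow_mul, ← zpow_add₀ hw, show A * 2 + 2 * -A = 0 by ring, zpow_zero] at this
    · have := ((P.act_hL hs hs hw).zpow (zpow_ne_zero _ hw) 2).mul ((P.act_hL hr hs hw).zpow (zpow_ne_zero _ hw) (-A))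
      rwa [hM' s hs, ← zpow_mul, ← zpow_mul, ← zpow_add₀ hw,
        show (2 : ℤ) * 2 + rootPairSt T r s * -A = 4 - A * rootPairSt T r s by ring] at this

theorem X_rel : ∀ (n : ℕ) {r s : ℕ}, r < D.nroots → s < D.nroots → s ≠ r → s ≠ T.neg r →
    (tTerms T r s).length = n → ∀ t u,
      P.X v s u * P.X v r t = P.X v r t * P.X v s u * termProd T (P.X v) r s t u := by
  intro n
  induction n using Nat.strong_induction_on with
  | _ n ih =>
    intro r s hr hs h1 h2 hn
    obtain ⟨g, χ, hg, hχ, hgr, hgs⟩ := P.exists_sep_tor K hF hM hPr hv0 hv hr hs h1 h2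
    let R : Set ℕ := {x | x ∈ s :: (tTerms T r s).map Prod.fst}
    have hlt : ∀ x ∈ R, x < D.nroots := fun x hx => by
      rcases List.mem_cons.1 hx with rfl | hx
      · exact hs
      · obtain ⟨c, hc, rfl⟩ := List.mem_map.1 hx
        exact (tTerms_lt C hr hs c hc).1
    have hchk : ∀ x ∈ R, ∀ y ∈ R, y ≠ x → y ≠ T.neg x →
        (tTerms T x y).length < n ∧ ∀ c ∈ tTerms T x y, c.1 ∈ R := fun x hx y hy hyx _ => by
      have hc := hPr r hr s hs h1 h2
      simp only [chkPairAt, Bool.and_eq_true, List.all_eq_true, Bool.or_eq_true, Nat.blt_eq, List.any_eq_true] at hc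
      rcases hc.2 x hx y hy with h | ⟨-, h, h'⟩
      · exact absurd (Nat.eq_of_beq_eq_true h) hyx
      · refine ⟨hn ▸ h, fun c hcc => ?_⟩
        obtain ⟨z, hz, e⟩ := h' c hcc
        rw [← Nat.eq_of_beq_eq_true e]; exact hz
    let Φ : StFam C F E R :=
      { X := P.X v
        proj := P.p
        lt := hlt
        map := fun x hx t => P.p_X hv0 hv hx t
        add := fun x hx t u => P.X_mul K hF hM hPr hv0 hv (hlt x hx) t u
        comm := fun x hx y hy e1 e2 => ih _ (hchk x hx y hy e1 e2).1 (hlt x hx) (hlt y hy) e1 e2 rfl }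
    obtain ⟨f, hf, hfr, hfs⟩ := exists_sep (C := C) K r hr s hs h1 h2
    have hpos : ∀ x ∈ R, 0 < f x := fun x hx => by
      rcases List.mem_cons.1 hx with rfl | hx
      · exact hfs
      · obtain ⟨c, hc, rfl⟩ := List.mem_map.1 hx
        obtain ⟨-, e, -, hj⟩ := term_level C hf hr hs hc
        rw [e, hfr]; nlinarith
    have hsR : s ∈ R := List.mem_cons_self
    have htR : ∀ c ∈ tTerms T r s, c.1 ∈ R := fun c hc => List.mem_cons_of_mem _ (List.mem_map.2 ⟨c, hc, rfl⟩)
    have hTP : ∀ t u, termProd T (P.X v) r s t u ∈ Φ.gen R := fun t u => list_prod_mem fun y hy => by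
      obtain ⟨c, hc, rfl⟩ := List.mem_map.1 hy
      exact Φ.mem_gen (htR c hc) _
    have hgR : ∀ y ∈ Φ.gen R, g * y * g⁻¹ ∈ Φ.gen R := by
      intro y hy
      refine conj_mem_closure ?_ hy
      rintro _ ⟨x, hx, a, rfl⟩
      have hxn := hlt x hx
      obtain ⟨c, hc⟩ : ∃ c, P.Act g x c := by
        rcases List.mem_cons.1 hx with rfl | hx'
        · exact ⟨χ, hgs⟩
        · obtain ⟨c, hc, ec⟩ := coe_diagonal C hg
          refine ⟨chr T D c x, fun t => ?_⟩
          rw [mul_inv_eq_iff_eq_mul]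
          exact Units.ext (by rw [Units.val_mul, Units.val_mul, ec, coe_xg, coe_xg, scal_mul_x C.spec _ hc hxn])
      rw [show g * Φ.X x a * g⁻¹ = Φ.X x (c * a) from P.conj_X hv0 hv hxn hg hc a]
      exact Φ.mem_gen hx _
    have hkey : ∀ t u, P.X v r (-t) * P.X v s u * (P.X v r (-t))⁻¹ = P.X v s u * termProd T (P.X v) r s t u := by
      intro t u
      have hpc : ∀ a, P.p (P.X v r (-t) * P.X v s a * (P.X v r (-t))⁻¹) =
          P.p (P.X v s a * termProd T (P.X v) r s t a) := fun a => by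
        rw [map_mul, map_mul, map_inv, map_mul, Φ.mapTermProd hr hs, P.p_X hv0 hv hr, P.p_X hv0 hv hs, xg_inv,
          neg_neg, mul_assoc, comm_xg_terms C K.comm hr hs h1 h2, ← mul_assoc, ← mul_assoc, xg_add,
          neg_add_cancel, xg_zero, one_mul]
      let a := u / (χ - 1)
      have hua : χ * a + -a = u := by simp only [a]; field_simp [sub_ne_zero.2 hχ]; ring
      let M := P.X v s a * termProd T (P.X v) r s t a
      have hM' : M ∈ Φ.gen R := mul_mem (Φ.mem_gen hsR a) (hTP t a)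
      have hgY : g * P.X v r (-t) * g⁻¹ = P.X v r (-t) := by rw [P.conj_X hv0 hv hr hg hgr, one_mul]
      have e : P.X v r (-t) * P.X v s u * (P.X v r (-t))⁻¹ = g * M * g⁻¹ * M⁻¹ := by
        have e1 : P.X v s u = g * P.X v s a * g⁻¹ * (P.X v s a)⁻¹ := by
          rw [P.conj_X hv0 hv hs hg hgs, show (P.X v s a)⁻¹ = P.X v s (-a) from Φ.inv hsR a,
            P.X_mul K hF hM hPr hv0 hv hs, hua]
        have e2 : P.X v r (-t) * P.X v s u * (P.X v r (-t))⁻¹ =
            ⁅g * 1, P.X v r (-t) * P.X v s a * (P.X v r (-t))⁻¹⁆ := by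
          rw [e1, mul_one, commutatorElement_def]
          refine Eq.symm ?_
          calc _ = (g * P.X v r (-t) * g⁻¹) * g * P.X v s a * g⁻¹ * (g * P.X v r (-t) * g⁻¹)⁻¹ * P.X v r (-t) *
                (P.X v s a)⁻¹ * (P.X v r (-t))⁻¹ := by group
            _ = _ := by rw [hgY]; group
        rw [e2, P.comm_eq rfl (hpc a), mul_one, commutatorElement_def]
      rw [e]
      refine Φ.eq_of_proj_eq (R := R) subset_rfl hf hpos (fun a ha b hb e1 e2 => (hchk a ha b hb e1 e2).2)
        (mul_mem (hgR M hM') (inv_mem hM')) (mul_mem (Φ.mem_gen hsR u) (hTP t u)) ?_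
      show P.p _ = P.p _
      rw [← e]
      exact hpc u
    intro t u
    have := hkey t u
    rw [mul_inv_eq_iff_eq_mul] at this
    have hcan : P.X v r t * P.X v r (-t) = 1 := by
      rw [P.X_mul K hF hM hPr hv0 hv hr, add_neg_cancel]
      have := P.X_mul K hF hM hPr hv0 hv hr 0 0
      rw [add_zero] at this
      exact mul_eq_left.1 this
    have hinv : (P.X v r (-t))⁻¹ = P.X v r t := inv_eq_of_mul_eq_one_left hcan
    rw [← inv_mul_cancel_left (P.X v r (-t)) (P.X v s u * P.X v r t), ← hinv, ← mul_assoc (P.X v r (-t)), this]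
    group

theorem exists_family : ∃ Φ : StAll C F E, Φ.proj = P.p :=
  ⟨{ X := P.X v
     proj := P.p
     lt := fun _ hr => hr
     map := fun x hx t => P.p_X hv0 hv hx t
     add := fun x hx t u => P.X_mul K hF hM hPr hv0 hv hx t u
     comm := fun x hx y hy e1 e2 => P.X_rel K hF hM hPr hv0 hv _ hx hy e1 e2 rfl }, rfl⟩

end CentExt

end Cfsg.Lib.Chev
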