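import Mathlib
import Cfsg.Agent.Lib.Chev.Perfect

/-!
A closure computation on roots: conjugation by one monomial element, commutators, and the passage from one root
element to a whole root subgroup by a torus element.
-/

set_option autoImplicit false

namespace Cfsg.Lib.Chev.TwoGen

open Cfsg.Lie Cfsg.Lib.Chev

/-- A step of the computation. -/
inductive Step
  | conjFull (r : ℕ)
  | conjPoint (r : ℕ)
  | comm (r s out : ℕ)
  | promote (r : ℕ)

/-- The integer is a unit in characteristic class `p` (`0` standing for a characteristic above 3). -/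
def okM (p : ℕ) (M : ℕ) : Bool :=
  Nat.beq M 1 || ((Nat.beq M 2 && !Nat.beq p 2) || (Nat.beq M 3 && !Nat.beq p 3))

/-- Powering by the integer is onto the units in characteristic class `p`. -/
def okK (p : ℕ) (k : ℕ) : Bool := Nat.beq k 1 || (Nat.beq k p && (Nat.beq p 2 || Nat.beq p 3))

/-- Membership in a list of numbers. -/
def has (l : List ℕ) (r : ℕ) : Bool := l.any fun x => Nat.beq x r

/-- One term of the commutator formula is new and linear in a parameter, the others are known. -/
def commOK (T : Tbl) (p : ℕ) (K : List ℕ) (r s out : ℕ) : Bool :=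
  has K r && (has K s && (!Nat.beq s r && (!Nat.beq s (T.neg r) &&
    ((tTerms T r s).all (fun c => Nat.beq c.1 out || has K c.1) &&
      (Nat.beq ((tTerms T r s).countP fun c => Nat.beq c.1 out) 1 &&
        (tTerms T r s).any fun c => Nat.beq c.1 out &&
          (okM p c.2.1.natAbs && (Nat.beq c.2.2.1 1 || Nat.beq c.2.2.2 1)))))))

/-- Run the steps; the result is the list of full roots. -/
def run (T : Tbl) (w : List ℕ) (j p : ℕ) : List ℕ → List ℕ → List Step → Option (List ℕ)
  | K, _, [] => some K
  | K, P, .conjFull r :: l => bif has K r then run T w j p (wperm T w r :: K) P l else none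
  | K, P, .conjPoint r :: l => bif has P r then run T w j p K (wperm T w r :: P) l else none
  | K, P, .comm r s out :: l => bif commOK T p K r s out then run T w j p (out :: K) P l else none
  | K, P, .promote r :: l => bif has P r && okK p (T.cartan j r).natAbs then run T w j p (r :: K) P l else none

/-- Every fundamental root and its negative are reached. -/
def allSimple (T : Tbl) (K : List ℕ) : Bool :=
  (List.range T.rank).all fun i => has K (T.simp' i) && has K (T.neg (T.simp' i))

end Cfsg.Lib.Chev.TwoGen

namespace Cfsg.Lib.Chev.TwoGen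

open Cfsg.Lib.Chev

/-- The check for a field with at least three elements. -/
def chkBig (T : Tbl) (w : List ℕ) (j a' g p : ℕ) (l : List Step) : Bool :=
  w.all (fun i => Nat.blt i T.rank) && (Nat.blt j T.rank && (Nat.blt a' T.nroots && (Nat.blt g T.nroots &&
    (Nat.beq (T.cartan j (wperm T w a')).natAbs 1 && (Nat.beq (T.cartan j a').natAbs 1 &&
      (Nat.beq (T.cartan j g).natAbs 0 &&
        ((run T w j p [wperm T w a'] [g] l).any (allSimple T))))))))

/-- The check for two elements, from one root and one monomial element. -/
def chkTwo (T : Tbl) (w : List ℕ) (a : ℕ) (l : List Step) : Bool :=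
  w.all (fun i => Nat.blt i T.rank) && (Nat.blt 0 T.rank && (Nat.blt a T.nroots &&
    ((run T w 0 2 [a] [] l).any (allSimple T))))

/-- The terms for `(r, d)` besides `out` are known and `out` has an odd coefficient. -/
def oddOK (T : Tbl) (K : List ℕ) (r d out : ℕ) : Bool :=
  (tTerms T r d).all (fun c => Nat.beq c.1 out || has K c.1) &&
    (Nat.beq ((tTerms T r d).countP fun c => Nat.beq c.1 out) 1 &&
      (tTerms T r d).all fun c => !Nat.beq c.1 out || okM 2 c.2.1.natAbs)

/-- The check for two elements, from a root element times an element of order three. -/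
def chkTwo' (T : Tbl) (w : List ℕ) (g r d out : ℕ) (l₁ l₂ : List Step) : Bool :=
  w.all (fun i => Nat.blt i T.rank) && (Nat.blt 0 T.rank && (Nat.blt g T.nroots && (Nat.blt r T.nroots &&
    (Nat.blt d T.nroots && ((!Nat.beq g r && !Nat.beq g (T.neg r)) && ((!Nat.beq d r && !Nat.beq d (T.neg r)) &&
      ((tTerms T r g).isEmpty && ((tTerms T (T.neg r) g).isEmpty && ((tTerms T (T.neg r) d).isEmpty &&
        ((run T w 0 2 [g] [] l₁).any fun K =>
          has K d && (oddOK T K r d out && ((run T w 0 2 (out :: K) [] l₂).any (allSimple T)))))))))))))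

end Cfsg.Lib.Chev.TwoGen
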