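import Mathlib
import Cfsg.Agent.Lib.Chev.TwoGenRun
import Cfsg.Agent.Lib.Chev.StLift

/-!
Two generators of a Chevalley group (Steinberg): a torus element times a commuting root element, and a root element
times a monomial element. Over two elements the torus is trivial and small variants are used.
-/

set_option autoImplicit false
set_option linter.unusedSectionVars false

namespace Cfsg.Lib.Chev.TwoGen

open Cfsg.Lie Cfsg.Lib.Chev
open scoped commutatorElement

variable {D : ChevalleyDatum} {T : Tbl} {F : Type*} [Field F]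

omit [Field F] in
theorem has_iff {l : List ℕ} {r : ℕ} : has l r = true ↔ r ∈ l := by
  simp [has, List.any_eq_true]

theorem zpow_natAbs_one {x : F} {k : ℤ} (hk : k.natAbs = 1) : x ^ k = x ∨ x ^ k = x⁻¹ := by
  rcases Int.natAbs_eq k with e | e <;> rw [e, hk] <;> simp

theorem okM_sound {p : ℕ} (h2 : p ≠ 2 → (2 : F) ≠ 0) (h3 : p ≠ 3 → (3 : F) ≠ 0) {M : ℤ}
    (h : okM p M.natAbs = true) : (M : F) ≠ 0 := by
  simp only [okM, Bool.or_eq_true, Bool.and_eq_true, Bool.not_eq_true'] at h
  have key : (M.natAbs : F) ≠ 0 := by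
    rcases h with h | ⟨h, hp⟩ | ⟨h, hp⟩
    · rw [Nat.eq_of_beq_eq_true h]; simp
    · rw [Nat.eq_of_beq_eq_true h]; exact_mod_cast h2 (Nat.ne_of_beq_eq_false hp)
    · rw [Nat.eq_of_beq_eq_true h]; exact_mod_cast h3 (Nat.ne_of_beq_eq_false hp)
  rcases Int.natAbs_eq M with e | e <;> rw [e] <;> simpa using key

omit [Field F] in
/-- In a product with one unknown factor the unknown one lies in the subgroup. -/
theorem mem_of_prod {G α : Type*} [Group G] (H : Subgroup G) (f : α → G) (b : α → Bool) :
    ∀ (l : List α), (∀ c ∈ l, b c = false → f c ∈ H) → l.countP b = 1 → (l.map f).prod ∈ H →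
      ∀ c ∈ l, b c = true → f c ∈ H := by
  intro l
  induction l with
  | nil => intro _ h; simp at h
  | cons x l ih =>
    intro hk hc hp c hcm hb
    rw [List.map_cons, List.prod_cons] at hp
    cases hx : b x
    · have hxH : f x ∈ H := hk x (by simp) hx
      rcases List.mem_cons.1 hcm with rfl | hcm
      · exact absurd hb (by simp [hx])
      · refine ih (fun c hc hbc => hk c (by simp [hc]) hbc) ?_ ((Subgroup.mul_mem_cancel_left _ hxH).1 hp) c hcm hb
        rwa [List.countP_cons, if_neg (by simp [hx]), add_zero] at hc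
    · have hl : l.countP b = 0 := by
        rw [List.countP_cons, if_pos hx] at hc; omega
      rw [List.countP_eq_zero] at hl
      have hlH : (l.map f).prod ∈ H := list_prod_mem fun y hy => by
        obtain ⟨z, hz, rfl⟩ := List.mem_map.1 hy
        exact hk z (by simp [hz]) (by simpa using hl z hz)
      rcases List.mem_cons.1 hcm with rfl | hcm
      · exact (Subgroup.mul_mem_cancel_right _ hlH).1 hp
      · exact absurd hb (hl c hcm)

variable (C : Cert D T) (K : CommCert D T)
include C

/-- A whole root subgroup. -/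
def Full (_C : Cert D T) (H : Subgroup (GL D.Idx F)) (r : ℕ) : Prop :=
  r < D.nroots ∧ ∀ t : F, xg _C r t ∈ H

/-- One root element. -/
def Point (_C : Cert D T) (H : Subgroup (GL D.Idx F)) (r : ℕ) : Prop :=
  r < D.nroots ∧ xg _C r (1 : F) ∈ H

theorem wnu_mem_group {w : List ℕ} : (wnu C F w : GL D.Idx F) ∈ D.group F :=
  list_prod_mem fun x hx => by
    obtain ⟨i, _, rfl⟩ := List.mem_map.1 hx
    exact ng_mem_group C _ _

omit K in
theorem rootPair_simp {j : ℕ} (hj : j < D.rank) (x : ℕ) : rootPairSt T (T.simp' j) x = T.cartan j x := by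
  rw [rootPair_eq C, Finset.sum_eq_single j]
  · rw [C.spec.cor_simple j hj j hj, if_pos rfl, one_mul]
  · intro b hb hbj
    rw [C.spec.cor_simple j hj b (Finset.mem_range.1 hb), if_neg hbj, zero_mul]
  · intro h
    exact absurd (Finset.mem_range.2 hj) h

include K in
theorem run_sound {H : Subgroup (GL D.Idx F)} {w : List ℕ} {j p : ℕ} {u : F} (hw : IsWord D w) (hj : j < D.rank)
    (hu : u ≠ 0) (hN : wnu C F w ∈ H) (hh : hg C (T.simp' j) u ∈ H) (h2 : p ≠ 2 → (2 : F) ≠ 0)
    (h3 : p ≠ 3 → (3 : F) ≠ 0)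
    (hgen : ∀ k : ℤ, okK p k.natAbs = true → ∀ t : F, t ≠ 0 → ∃ i : ℕ, (u ^ k) ^ i = t) :
    ∀ (l : List Step) (K₀ P₀ K₁ : List ℕ), (∀ r ∈ K₀, Full C H r) → (∀ r ∈ P₀, Point C H r) →
      run T w j p K₀ P₀ l = some K₁ → ∀ r ∈ K₁, Full C H r := by
  intro l
  induction l with
  | nil => intro K₀ P₀ K₁ hK _ h; simp only [run, Option.some.injEq] at h; exact h ▸ hK
  | cons st l ih =>
    intro K₀ P₀ K₁ hK hP h
    cases st with
    | conjFull r =>
      simp only [run] at h
      cases hb : has K₀ r <;> rw [hb] at h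
      · simp at h
      refine ih _ _ _ (fun x hx => ?_) hP h
      rcases List.mem_cons.1 hx with rfl | hx
      · obtain ⟨hr, hR⟩ := hK r (has_iff.1 hb)
        refine ⟨wperm_lt C hw hr, fun t => ?_⟩
        obtain ⟨c, hc, e⟩ := wnu_conj_xg C (F := F) hw hr
        have e' := e (c * t)
        rw [← mul_assoc, hc, one_mul] at e'
        rw [← e']
        exact mul_mem (mul_mem hN (hR _)) (inv_mem hN)
      · exact hK x hx
    | conjPoint r =>
      simp only [run] at h
      cases hb : has P₀ r <;> rw [hb] at h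
      · simp at h
      refine ih _ _ _ hK (fun x hx => ?_) h
      rcases List.mem_cons.1 hx with rfl | hx
      · obtain ⟨hr, hR⟩ := hP r (has_iff.1 hb)
        refine ⟨wperm_lt C hw hr, ?_⟩
        obtain ⟨c, hc, e⟩ := wnu_conj_xg C (F := F) hw hr
        have e' : xg C (wperm T w r) c ∈ H := by
          have := e 1
          rw [mul_one] at this
          rw [← this]
          exact mul_mem (mul_mem hN hR) (inv_mem hN)
        rcases mul_self_eq_one_iff.1 hc with rfl | rfl
        · exact e'
        · have := inv_mem e'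
          rwa [xg_inv, neg_neg] at this
      · exact hP x hx
    | comm r s out =>
      simp only [run] at h
      cases hb : commOK T p K₀ r s out <;> rw [hb] at h
      · simp at h
      refine ih _ _ _ (fun x hx => ?_) hP h
      rcases List.mem_cons.1 hx with rfl | hx
      · simp only [commOK, Bool.and_eq_true, Bool.not_eq_true'] at hb
        obtain ⟨hr, hs, hne, hneg, hall, hcount, hany⟩ := hb
        obtain ⟨hr, hR⟩ := hK r (has_iff.1 hr)
        obtain ⟨hs, hS⟩ := hK s (has_iff.1 hs)
        obtain ⟨c, hc, hc'⟩ := List.any_eq_true.1 hany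
        simp only [Bool.and_eq_true, Bool.or_eq_true] at hc'
        obtain ⟨hco, hM, hexp⟩ := hc'
        have hM0 := okM_sound h2 h3 hM
        have hco' : c.1 = x := Nat.eq_of_beq_eq_true hco
        refine ⟨hco' ▸ (tTerms_lt C hr hs c hc).1, ?_⟩
        have key : ∀ a v : F, xg C c.1 ((c.2.1 : F) * (-a) ^ c.2.2.1 * v ^ c.2.2.2) ∈ H := by
          intro a v
          have hmem : ((tTerms T r s).map fun c => xg C c.1 ((c.2.1 : F) * (-a) ^ c.2.2.1 * v ^ c.2.2.2)).prod ∈ H := by
            rw [← comm_xg_prod C K hr hs (Nat.ne_of_beq_eq_false hne) (Nat.ne_of_beq_eq_false hneg),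
              commutatorElement_def]
            exact mul_mem (mul_mem (mul_mem (inv_mem (hS _)) (inv_mem (hR _))) (inv_mem (inv_mem (hS _))))
              (inv_mem (inv_mem (hR _)))
          refine mem_of_prod H _ (fun c => Nat.beq c.1 x) _ (fun d hd hd' => ?_) (Nat.eq_of_beq_eq_true hcount) hmem
            c hc hco
          have := List.all_eq_true.1 hall d hd
          rw [hd', Bool.false_or] at this
          exact (hK _ (has_iff.1 this)).2 _
        intro t
        rw [← hco']
        rcases hexp with he | he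
        · have := key (-(t * (c.2.1 : F)⁻¹)) 1
          rw [Nat.eq_of_beq_eq_true he, neg_neg, pow_one, one_pow, mul_one] at this
          have e : (c.2.1 : F) * (t * (c.2.1 : F)⁻¹) = t := by field_simp
          rwa [e] at this
        · have := key (-1) (t * (c.2.1 : F)⁻¹)
          rw [Nat.eq_of_beq_eq_true he, neg_neg, one_pow, mul_one, pow_one] at this
          have e : (c.2.1 : F) * (t * (c.2.1 : F)⁻¹) = t := by field_simp
          rwa [e] at this
      · exact hK x hx
    | promote r =>
      simp only [run] at h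
      cases hb : (has P₀ r && okK p (T.cartan j r).natAbs) <;> rw [hb] at h
      · simp at h
      rw [Bool.and_eq_true] at hb
      refine ih _ _ _ (fun x hx => ?_) hP h
      rcases List.mem_cons.1 hx with rfl | hx
      · obtain ⟨hr, hR⟩ := hP x (has_iff.1 hb.1)
        refine ⟨hr, fun t => ?_⟩
        rcases eq_or_ne t 0 with rfl | ht
        · rw [xg_zero]; exact one_mem H
        obtain ⟨i, rfl⟩ := hgen _ hb.2 t ht
        clear ht
        induction i with
        | zero => simpa using hR
        | succ i ihi =>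
          have hp := hg_conj_pair C (C.spec.simp_lt j hj) hr hu ((u ^ T.cartan j x) ^ i)
          rw [rootPair_simp C hj x] at hp
          rw [pow_succ', ← hp]
          exact mul_mem (mul_mem hh ihi) (inv_mem hh)
      · exact hK x hx

theorem group_le_of_simple {H : Subgroup (GL D.Idx F)} {L : List ℕ} (hL : ∀ r ∈ L, Full C H r)
    (h : allSimple T L = true) : D.group F ≤ H := by
  have hs : ∀ i < D.rank, (∀ t : F, xg C (T.simp' i) t ∈ H) ∧ ∀ t : F, xg C (T.neg (T.simp' i)) t ∈ H := by
    intro i hi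
    have := List.all_eq_true.1 h i (List.mem_range.2 (C.spec.shape.rank_eq ▸ hi))
    rw [Bool.and_eq_true] at this
    exact ⟨(hL _ (has_iff.1 this.1)).2, (hL _ (has_iff.1 this.2)).2⟩
  have hν : ∀ i < D.rank, (nu C i : GL D.Idx F) ∈ H := fun i hi => by
    rw [nu, ng, C.spec.shape.neg_eq _ (C.spec.simp_lt i hi)]
    exact mul_mem (mul_mem ((hs i hi).1 _) ((hs i hi).2 _)) ((hs i hi).1 _)
  have hall : ∀ r < D.nroots, ∀ t : F, xg C r t ∈ H := by
    refine C.root_induction (fun b hb => (hs b hb).1) fun i hi r hr ih t => ?_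
    have e := nu_conj_xg C hi hr ((T.eta' i r : ℤ) * t : F)
    rw [← mul_assoc, eta_sq, one_mul] at e
    rw [← e]
    exact mul_mem (mul_mem (hν i hi) (ih _)) (inv_mem (hν i hi))
  refine (Subgroup.closure_le _).2 ?_
  rintro g ⟨r, t, e⟩
  rw [show g = xg C r.1 t from eq_xg C (e.trans (by rw [ChevalleyDatum.x, dif_pos r.2]))]
  exact hall r.1 r.2 t

omit C in
/-- Two elements generating the matrix group give two generators of the group. -/
theorem two_of_le {G : Subgroup (GL D.Idx F)} {a b : GL D.Idx F} (ha : a ∈ G) (hb : b ∈ G)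
    (h : G ≤ Subgroup.closure {a, b}) : ∃ x y : ↥G, Subgroup.closure ({x, y} : Set ↥G) = ⊤ := by
  refine ⟨⟨a, ha⟩, ⟨b, hb⟩, Subgroup.map_injective G.subtype_injective ?_⟩
  rw [MonoidHom.map_closure, ← MonoidHom.range_eq_map, Subgroup.range_subtype, Set.image_pair]
  refine le_antisymm ?_ h
  exact (Subgroup.closure_le _).2 (by rintro x (rfl | rfl) <;> assumption)

theorem word_of_all {w : List ℕ} (h : w.all (fun i => Nat.blt i T.rank) = true) : IsWord D w := fun i hi => by
  have := List.all_eq_true.1 h i hi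
  rw [Nat.blt_eq, C.spec.shape.rank_eq] at this
  exact this

include K in
/-- Two generators over a field with at least three elements. -/
theorem two_big [Fintype F] {w : List ℕ} {j a' g p : ℕ} {l : List Step} (hchk : chkBig T w j a' g p l = true)
    (h2 : p ≠ 2 → (2 : F) ≠ 0) (h3 : p ≠ 3 → (3 : F) ≠ 0) (hp2 : p = 2 → (2 : F) = 0) (hp3 : p = 3 → (3 : F) = 0)
    (hF : ∃ x : F, x ≠ 0 ∧ x ≠ 1) :
    ∃ a b : ↥(D.group F), Subgroup.closure ({a, b} : Set ↥(D.group F)) = ⊤ := by
  classical
  simp only [chkBig, Bool.and_eq_true, Nat.blt_eq, C.spec.shape.rank_eq, C.spec.shape.nroots_eq] at hchk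
  obtain ⟨hw, hj, ha', hgn, hka, hka', hkg, hrun⟩ := hchk
  have hw : IsWord D w := word_of_all C (by simpa [C.spec.shape.rank_eq] using hw)
  have hkg : T.cartan j g = 0 := Int.natAbs_eq_zero.1 (Nat.eq_of_beq_eq_true hkg)
  have hka := Nat.eq_of_beq_eq_true hka
  have hka' := Nat.eq_of_beq_eq_true hka'
  set a := wperm T w a' with hadef
  have haa : a < D.nroots := wperm_lt C hw ha'
  obtain ⟨v, hv⟩ := IsCyclic.exists_generator (α := Fˣ)
  set u : F := (v : F) with hudef
  have hu : u ≠ 0 := v.ne_zero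
  have hu1 : u ≠ 1 := by
    intro e
    obtain ⟨x, hx0, hx1⟩ := hF
    obtain ⟨i, hi⟩ := hv (Units.mk0 x hx0)
    have hv1 : v = 1 := Units.ext e
    exact hx1 (by simpa [hv1] using congrArg Units.val hi.symm)
  have hsj := C.spec.simp_lt j hj
  set h := hg C (T.simp' j) u with hhdef
  have hhD : h ∈ D.diagonalSubgroup F := hg_mem C hsj hu
  set N : GL D.Idx F := wnu C F w with hNdef
  have hNG : N ∈ D.group F := wnu_mem_group C
  have hconj : ∀ s < D.nroots, ∀ t : F, h * xg C s t * h⁻¹ = xg C s (u ^ T.cartan j s * t) := fun s hs t => by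
    rw [hhdef, hg_conj_pair C hsj hs hu, rootPair_simp C hj s]
  set a0 : GL D.Idx F := h * xg C g (1 : F) with ha0
  set b0 : GL D.Idx F := xg C a (1 : F) * N with hb0
  refine two_of_le (a := a0) (b := b0) (mul_mem (diag_le_group C hhD) (xg_mem_group C _ _))
    (mul_mem (xg_mem_group C _ _) hNG) ?_
  set H := Subgroup.closure ({a0, b0} : Set (GL D.Idx F)) with hH
  have haH : a0 ∈ H := Subgroup.subset_closure (Set.mem_insert _ _)
  have hbH : b0 ∈ H := Subgroup.subset_closure (Set.mem_insert_of_mem _ rfl)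
  -- the commuting parts of the first generator
  have hcomm : Commute h (xg C g (1 : F)) := by
    have := hconj g hgn 1
    rw [hkg, zpow_zero, one_mul] at this
    exact mul_inv_eq_iff_eq_mul.1 this
  have hpow : ∀ n : ℕ, xg C g (1 : F) ^ n = xg C g (n : F) := fun n => by
    induction n with
    | zero => simp [xg_zero]
    | succ n ihn => rw [pow_succ, ihn, xg_add]; push_cast; rfl
  have hhpow : ∀ n : ℕ, h ^ n = hg C (T.simp' j) (u ^ n) := fun n => by
    induction n with
    | zero =>
      rw [pow_zero, pow_zero]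
      refine Units.ext ?_
      rw [coe_hg_eq C hsj one_ne_zero, coDiag]
      simp only [one_zpow, Units.val_one]
      exact scal_one.symm
    | succ n ihn => rw [pow_succ, ihn, hhdef, hg_mul C hsj (pow_ne_zero _ hu) hu, ← pow_succ]
  have hq1 : u ^ (Fintype.card F - 1) = 1 := FiniteField.pow_card_sub_one_eq_one u hu
  have hh1 : h ^ (Fintype.card F - 1) = 1 := by
    rw [hhpow, hq1, ← pow_zero u, ← hhpow 0, pow_zero]
  have hgP : xg C g (1 : F) ∈ H := by
    have e := pow_mem haH (Fintype.card F - 1)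
    rw [ha0, hcomm.mul_pow, hh1, one_mul, hpow] at e
    have ec : ((Fintype.card F - 1 : ℕ) : F) = -1 := by
      rw [Nat.cast_sub Fintype.card_pos, FiniteField.cast_card_eq_zero, Nat.cast_one, zero_sub]
    rw [ec] at e
    simpa [xg_inv] using inv_mem e
  have hhH : h ∈ H := by
    have : h = a0 * (xg C g (1 : F))⁻¹ := by rw [ha0]; group
    rw [this]; exact mul_mem haH (inv_mem hgP)
  -- the root subgroup of `a`
  obtain ⟨c, hc, hNx⟩ := wnu_conj_xg C (F := F) hw ha'
  set y := N * h * N⁻¹ with hy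
  have hyD : y ∈ D.diagonalSubgroup F := (conj_mem_diag C (wnu_mem C hw) hhD).1
  have hyconj : ∀ t : F, y * xg C a t * y⁻¹ = xg C a (u ^ T.cartan j a' * t) := by
    intro t
    have e : xg C a t = N * xg C a' (c * t) * N⁻¹ := by rw [hNx, ← mul_assoc, hc, one_mul]
    rw [e, show y * (N * xg C a' (c * t) * N⁻¹) * y⁻¹ = N * (h * xg C a' (c * t) * h⁻¹) * N⁻¹ by rw [hy]; group,
      hconj a' ha', hNx]
    congr 1
    rw [mul_left_comm c, ← mul_assoc c, hc, one_mul]
  set v1 : F := u ^ T.cartan j a' with hv1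
  set e1 : F := u ^ T.cartan j a with he1
  have hne : ∀ k : ℤ, k.natAbs = 1 → u ^ k ≠ 1 := fun k hk e => by
    rcases zpow_natAbs_one (x := u) hk with e' | e' <;> rw [e'] at e
    · exact hu1 e
    · exact hu1 (inv_eq_one.1 e)
  have hd : (e1 - 1) * (1 - v1) ≠ 0 :=
    mul_ne_zero (sub_ne_zero.2 (hne _ hka)) (sub_ne_zero.2 (hne _ hka').symm)
  have hz : b0 * h * b0⁻¹ = xg C a (1 - v1) * y := by
    have e : y * (xg C a (1 : F))⁻¹ = xg C a (-v1) * y := by
      rw [xg_inv, ← mul_inv_eq_iff_eq_mul, hyconj, mul_neg, mul_one]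
    calc b0 * h * b0⁻¹ = xg C a (1 : F) * (y * (xg C a (1 : F))⁻¹) := by rw [hb0, hy]; group
      _ = xg C a (1 : F) * xg C a (-v1) * y := by rw [e, mul_assoc]
      _ = _ := by rw [xg_add, ← sub_eq_add_neg]
  have hpt : xg C a ((e1 - 1) * (1 - v1)) ∈ H := by
    have hzH : b0 * h * b0⁻¹ ∈ H := mul_mem (mul_mem hbH hhH) (inv_mem hbH)
    have key : h * (b0 * h * b0⁻¹) * h⁻¹ * (b0 * h * b0⁻¹)⁻¹ = xg C a ((e1 - 1) * (1 - v1)) := by
      rw [hz]
      have hhy : h * y * h⁻¹ = y := by rw [diag_comm C hhD hyD]; group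
      calc h * (xg C a (1 - v1) * y) * h⁻¹ * (xg C a (1 - v1) * y)⁻¹
          = (h * xg C a (1 - v1) * h⁻¹) * (h * y * h⁻¹) * y⁻¹ * (xg C a (1 - v1))⁻¹ := by group
        _ = _ := by rw [hconj a haa, hhy, mul_inv_cancel_right, xg_inv, xg_add]; congr 1; ring
    rw [← key]
    exact mul_mem (mul_mem (mul_mem hhH hzH) (inv_mem hhH)) (inv_mem hzH)
  have hvgen : ∀ k : ℤ, Nat.Coprime k.natAbs (Fintype.card F - 1) → ∀ t : F, t ≠ 0 → ∃ i : ℕ, (u ^ k) ^ i = t := by
    intro k hk t ht
    have ho : orderOf v = Fintype.card F - 1 := by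
      rw [orderOf_eq_card_of_forall_mem_zpowers hv, Nat.card_eq_fintype_card, Fintype.card_units]
    have hgk : ∀ x : Fˣ, x ∈ Subgroup.zpowers (v ^ k) := by
      intro x
      obtain ⟨m, hm⟩ := exists_pow_eq_self_of_coprime (G := Fˣ) (x := v) (n := k.natAbs) (by rwa [ho])
      have hkm : v ^ k.natAbs ∈ Subgroup.zpowers (v ^ k) := by
        rcases Int.natAbs_eq k with e | e
        · rw [← zpow_natCast, ← e]; exact Subgroup.mem_zpowers _
        · rw [← zpow_natCast, show ((k.natAbs : ℕ) : ℤ) = -k by omega, zpow_neg]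
          exact inv_mem (Subgroup.mem_zpowers _)
      have hvm := pow_mem hkm m
      rw [hm] at hvm
      obtain ⟨i, rfl⟩ := hv x
      exact zpow_mem hvm i
    obtain ⟨i, hi⟩ := (mem_powers_iff_mem_zpowers (x := v ^ k)).2 (hgk (Units.mk0 t ht))
    exact ⟨i, by simpa [Units.val_zpow_eq_zpow_val] using congrArg Units.val hi⟩
  have hA : ∀ t : F, xg C a t ∈ H := by
    intro t
    rcases eq_or_ne t 0 with rfl | ht
    · rw [xg_zero]; exact one_mem H
    obtain ⟨i, hi⟩ := hvgen (T.cartan j a) (by rw [hka]; exact Nat.coprime_one_left _)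
      (t / ((e1 - 1) * (1 - v1))) (div_ne_zero ht hd)
    have : ∀ i : ℕ, xg C a (e1 ^ i * ((e1 - 1) * (1 - v1))) ∈ H := fun i => by
      induction i with
      | zero => simpa using hpt
      | succ i ihi =>
        rw [pow_succ', mul_assoc, ← hconj a haa]
        exact mul_mem (mul_mem hhH ihi) (inv_mem hhH)
    have := this i
    rwa [he1, hi, div_mul_cancel₀ t hd] at this
  have hNH : N ∈ H := by
    have : N = (xg C a (1 : F))⁻¹ * b0 := by rw [hb0]; group
    rw [this]; exact mul_mem (inv_mem (hA 1)) hbH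
  obtain ⟨L, hL, hall⟩ : ∃ L, run T w j p [a] [g] l = some L ∧ allSimple T L = true := by
    cases hr : run T w j p [a] [g] l with
    | none => rw [hr] at hrun; simp at hrun
    | some L => exact ⟨L, rfl, by rw [hr] at hrun; simpa using hrun⟩
  refine group_le_of_simple C (run_sound C K hw hj hu hNH hhH h2 h3 (fun k hk => hvgen k ?_) l [a] [g] L ?_ ?_ hL) hall
  · simp only [okK, Bool.or_eq_true, Bool.and_eq_true] at hk
    rcases hk with hk | ⟨hk, hp⟩
    · rw [Nat.eq_of_beq_eq_true hk]; exact Nat.coprime_one_left _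
    · rw [Nat.eq_of_beq_eq_true hk]
      have hpf : (p : F) = 0 ∧ Nat.Prime p := by
        rcases hp with hp | hp <;> rw [Nat.eq_of_beq_eq_true hp]
        · exact ⟨by exact_mod_cast hp2 (Nat.eq_of_beq_eq_true hp), Nat.prime_two⟩
        · exact ⟨by exact_mod_cast hp3 (Nat.eq_of_beq_eq_true hp), Nat.prime_three⟩
      rw [hpf.2.coprime_iff_not_dvd]
      intro hd'
      obtain ⟨m, hm⟩ := hd'
      have h0 : ((Fintype.card F - 1 : ℕ) : F) = 0 := by rw [hm, Nat.cast_mul, hpf.1, zero_mul]
      rw [Nat.cast_sub Fintype.card_pos, FiniteField.cast_card_eq_zero, Nat.cast_one, zero_sub,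
        neg_eq_zero] at h0
      exact one_ne_zero h0
  · intro r hr
    rw [List.mem_singleton] at hr
    exact hr ▸ ⟨haa, hA⟩
  · intro r hr
    rw [List.mem_singleton] at hr
    exact hr ▸ ⟨hgn, hgP⟩

theorem hg_one {r : ℕ} (hr : r < D.nroots) : (hg C r (1 : F)) = 1 := by
  rw [hg, ← ng_inv C hr one_ne_zero, mul_inv_cancel]

include K in
theorem run_two {H : Subgroup (GL D.Idx F)} {w : List ℕ} (hw : IsWord D w) (hrank : 0 < D.rank)
    (hN : wnu C F w ∈ H) (h2 : (2 : F) = 0) (hF : ∀ x : F, x ≠ 0 → x = 1) {l : List Step} {K₀ K₁ : List ℕ}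
    (hK : ∀ r ∈ K₀, Full C H r) (h : run T w 0 2 K₀ [] l = some K₁) : ∀ r ∈ K₁, Full C H r := by
  refine run_sound C K hw hrank one_ne_zero hN (by rw [hg_one C (C.spec.simp_lt 0 hrank)]; exact one_mem H)
    (fun h => absurd rfl h) (fun _ e => ?_) (fun k _ t ht => ⟨0, by rw [pow_zero, hF t ht]⟩) l K₀ [] K₁ hK
    (fun r hr => absurd hr List.not_mem_nil) h
  exact one_ne_zero (show (1 : F) = 0 by linear_combination e - h2)

theorem full_of_one {H : Subgroup (GL D.Idx F)} (hF : ∀ x : F, x ≠ 0 → x = 1) {r : ℕ} (hr : r < D.nroots)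
    (h : xg C r (1 : F) ∈ H) : Full C H r := by
  refine ⟨hr, fun t => ?_⟩
  rcases eq_or_ne t 0 with rfl | ht
  · rw [xg_zero]; exact one_mem H
  · rw [hF t ht]; exact h

include K in
/-- Two generators over two elements, from one root element. -/
theorem two_small {w : List ℕ} {a : ℕ} {l : List Step} (hchk : chkTwo T w a l = true) (h2 : (2 : F) = 0)
    (hF : ∀ x : F, x ≠ 0 → x = 1) : ∃ x y : ↥(D.group F), Subgroup.closure ({x, y} : Set ↥(D.group F)) = ⊤ := by
  simp only [chkTwo, Bool.and_eq_true, Nat.blt_eq, C.spec.shape.rank_eq, C.spec.shape.nroots_eq] at hchk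
  obtain ⟨hw, hrk, ha, hrun⟩ := hchk
  have hw : IsWord D w := word_of_all C (by simpa [C.spec.shape.rank_eq] using hw)
  refine two_of_le (a := xg C a (1 : F)) (b := wnu C F w) (xg_mem_group C _ _) (wnu_mem_group C) ?_
  set H := Subgroup.closure ({xg C a (1 : F), wnu C F w} : Set (GL D.Idx F))
  cases hr : run T w 0 2 [a] [] l with
  | none => rw [hr] at hrun; simp at hrun
  | some L =>
    rw [hr] at hrun
    have hN : wnu C F w ∈ H := Subgroup.subset_closure (Set.mem_insert_of_mem _ rfl)
    have hX : xg C a (1 : F) ∈ H := Subgroup.subset_closure (Set.mem_insert _ _)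
    have hall : allSimple T L = true := by simpa using hrun
    have hK₀ : ∀ r ∈ [a], Full C H r := fun r hr => by
      rw [List.mem_singleton] at hr; exact hr ▸ full_of_one C hF ha hX
    exact group_le_of_simple C (run_two C K hw hrk hN h2 hF hK₀ hr) hall

include K in
/-- Two generators over two elements, from a root element times an element of order three. -/
theorem two_small' {w : List ℕ} {g r d out : ℕ} {l₁ l₂ : List Step} (hchk : chkTwo' T w g r d out l₁ l₂ = true)
    (h2 : (2 : F) = 0) (hF : ∀ x : F, x ≠ 0 → x = 1) :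
    ∃ x y : ↥(D.group F), Subgroup.closure ({x, y} : Set ↥(D.group F)) = ⊤ := by
  simp only [chkTwo', Bool.and_eq_true, Bool.not_eq_true', Nat.blt_eq, C.spec.shape.rank_eq, C.spec.shape.nroots_eq,
    List.isEmpty_iff] at hchk
  obtain ⟨hw, hrk, hgn, hr, hd, ⟨hgr, hgr'⟩, ⟨hdr, hdr'⟩, e1, e2, e3, hrun⟩ := hchk
  have hw : IsWord D w := word_of_all C (by simpa [C.spec.shape.rank_eq] using hw)
  have hgr := Nat.ne_of_beq_eq_false hgr
  have hgr' := Nat.ne_of_beq_eq_false hgr'
  have hdr := Nat.ne_of_beq_eq_false hdr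
  have hdr' := Nat.ne_of_beq_eq_false hdr'
  have hn := C.spec.neg_lt r hr
  set x := xg C r (1 : F)
  set y := xg C (T.neg r) (1 : F)
  set G := xg C g (1 : F)
  have hneg1 : (-1 : F) = 1 := by linear_combination -h2
  have sq : ∀ s, xg C s (1 : F) * xg C s (1 : F) = 1 := fun s => by
    rw [xg_add, show (1 : F) + 1 = 0 by linear_combination h2, xg_zero]
  have inv1 : ∀ s, (xg C s (1 : F))⁻¹ = xg C s (1 : F) := fun s => by rw [xg_inv, hneg1]
  have hcomm : ∀ {p q : ℕ}, p < D.nroots → q < D.nroots → q ≠ p → q ≠ T.neg p → tTerms T p q = [] →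
      Commute (xg C p (1 : F)) (xg C q (1 : F)) := by
    intro p q hp hq h1 h2' e
    have h' := comm_xg_prod C K hp hq h1 h2' (1 : F) 1
    rw [e, List.map_nil, List.prod_nil, commutatorElement_eq_one_iff_commute] at h'
    rw [inv1, inv1] at h'
    exact h'.symm
  have cxG : Commute x G := hcomm hr hgn hgr hgr' e1
  have cyG : Commute y G := hcomm hn hgn hgr' (by rw [C.spec.neg_neg r hr]; exact hgr) e2
  have cyd : Commute y (xg C d (1 : F)) := hcomm hn hd hdr' (by rw [C.spec.neg_neg r hr]; exact hdr) e3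
  have hn_eq : ng C r (1 : F) = x * y * x := by
    rw [ng, C.spec.shape.neg_eq r hr, inv_one, hneg1]
  have hnconj : ng C r (1 : F) * x * (ng C r (1 : F))⁻¹ = y := by
    rw [ng_conj_xg C hr one_ne_zero, one_pow, div_one, hneg1]
  have h3 : (x * y) ^ 3 = 1 := by
    rw [hn_eq] at hnconj
    have e : x * y * x * x * (x * y * x) = y := by
      have hxi : (x * y * x)⁻¹ = x * y * x := by
        rw [mul_inv_rev, mul_inv_rev, inv1, inv1]; simp [mul_assoc]; rfl
      rwa [hxi] at hnconj
    rw [mul_assoc (x * y) x x, sq, mul_one] at e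
    calc (x * y) ^ 3 = (x * y * (x * y * x)) * y := by rw [pow_succ, pow_two]; group
      _ = 1 := by rw [e, sq]
  refine two_of_le (a := G * (x * y)) (b := wnu C F w)
    (mul_mem (xg_mem_group C _ _) (mul_mem (xg_mem_group C _ _) (xg_mem_group C _ _))) (wnu_mem_group C) ?_
  set H := Subgroup.closure ({G * (x * y), wnu C F w} : Set (GL D.Idx F)) with hH
  have haH : G * (x * y) ∈ H := Subgroup.subset_closure (Set.mem_insert _ _)
  have hN : wnu C F w ∈ H := Subgroup.subset_closure (Set.mem_insert_of_mem _ rfl)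
  have hG : G ∈ H := by
    have e := pow_mem haH 3
    rw [(cxG.symm.mul_right cyG.symm).mul_pow, h3, mul_one, pow_succ, pow_two, sq, one_mul] at e
    exact e
  have hz : x * y ∈ H := by
    have : x * y = G⁻¹ * (G * (x * y)) := by group
    rw [this]; exact mul_mem (inv_mem hG) haH
  cases hr1 : run T w 0 2 [g] [] l₁ with
  | none => rw [hr1] at hrun; simp at hrun
  | some L₁ =>
    rw [hr1] at hrun
    simp only [Option.any_some, Bool.and_eq_true, oddOK] at hrun
    obtain ⟨hdL, ⟨hall, hcount, hodd⟩, hrun2⟩ := hrun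
    have hL₁ := run_two C K hw hrk hN h2 hF (fun s hs => by
      rw [List.mem_singleton] at hs; exact hs ▸ full_of_one C hF hgn hG) hr1
    have hdd := (hL₁ d (has_iff.1 hdL)).2
    have hout : out < D.nroots ∧ xg C out (1 : F) ∈ H := by
      have hcH : ⁅(xg C d (1 : F))⁻¹, x⁻¹⁆ ∈ H := by
        rw [inv1, show x⁻¹ = x from inv1 r, commutatorElement_def, inv1, show x⁻¹ = x from inv1 r]
        have e : xg C d (1 : F) * x * xg C d (1 : F) * x =
            xg C d (1 : F) * (x * y * xg C d (1 : F) * (x * y)⁻¹) := by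
          have hy2 : y * xg C d (1 : F) * y = xg C d (1 : F) := by rw [cyd.eq, mul_assoc, sq, mul_one]
          rw [mul_inv_rev, show x⁻¹ = x from inv1 r, show y⁻¹ = y from inv1 _]
          calc xg C d (1 : F) * x * xg C d (1 : F) * x
              = xg C d (1 : F) * (x * (y * xg C d (1 : F) * y) * x) := by rw [hy2]; simp only [mul_assoc]
            _ = _ := by simp only [mul_assoc]
        rw [e]
        exact mul_mem (hdd 1) (mul_mem (mul_mem hz (hdd 1)) (inv_mem hz))
      rw [comm_xg_prod C K hr hd hdr hdr'] at hcH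
      obtain ⟨c, hc, hco⟩ : ∃ c ∈ tTerms T r d, Nat.beq c.1 out = true := by
        by_contra hne
        push Not at hne
        have : (tTerms T r d).countP (fun c => Nat.beq c.1 out) = 0 :=
          List.countP_eq_zero.2 fun c hc => by simpa using hne c hc
        rw [this] at hcount
        simp at hcount
      have hmem := mem_of_prod H _ (fun c => Nat.beq c.1 out) _ (fun c hc hc' => by
        have := List.all_eq_true.1 hall c hc
        rw [hc', Bool.false_or] at this
        exact (hL₁ _ (has_iff.1 this)).2 _) (Nat.eq_of_beq_eq_true hcount) hcH c hc hco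
      have hco' : c.1 = out := Nat.eq_of_beq_eq_true hco
      refine ⟨hco' ▸ (tTerms_lt C hr hd c hc).1, ?_⟩
      have hM : okM 2 c.2.1.natAbs = true := by
        have := List.all_eq_true.1 hodd c hc
        rw [hco] at this
        simpa using this
      have hM0 : (c.2.1 : F) ≠ 0 := okM_sound (fun h => absurd rfl h)
        (fun _ e => one_ne_zero (show (1 : F) = 0 by linear_combination e - h2)) hM
      rw [hneg1, one_pow, one_pow, mul_one, mul_one, hF _ hM0, hco'] at hmem
      exact hmem
    cases hr2 : run T w 0 2 (out :: L₁) [] l₂ with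
    | none => rw [hr2] at hrun2; simp at hrun2
    | some L =>
      rw [hr2] at hrun2
      refine group_le_of_simple C (run_two C K hw hrk hN h2 hF (fun s hs => ?_) hr2) (by simpa using hrun2)
      rcases List.mem_cons.1 hs with rfl | hs
      · exact full_of_one C hF hout.1 hout.2
      · exact hL₁ s hs

end Cfsg.Lib.Chev.TwoGen
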