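import Mathlib
import Cfsg.Agent.Lib.Chev.TwoGenRun

/-!
A closure computation on orbits of signed roots, for a twisted group with one root length.
-/

set_option autoImplicit false

namespace Cfsg.Lib.Chev.TwoGen

open Cfsg.Lie Cfsg.Lib.Chev

/-- An orbit of signed roots: `v` goes to the product of `x_r (e fⁱ v)`. -/
abbrev Cls : Type := List (ℕ × ℤ)

/-- Equality of orbits of signed roots. -/
def eqCls : Cls → Cls → Bool
  | [], [] => true
  | (r, e) :: l, (s, d) :: m => Nat.beq r s && (decide (e = d) && eqCls l m)
  | _, _ => false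

/-- Membership in a list of orbits. -/
def hasCls (L : List Cls) (c : Cls) : Bool := L.any (eqCls c)

/-- The sign of a word of reflections at a root. -/
def sgnW (T : Tbl) : List ℕ → ℕ → ℤ
  | [], _ => 1
  | i :: w, s => T.eta' i (wperm T w s) * sgnW T w s

/-- The image of an orbit under a word of reflections. -/
def mapCls (T : Tbl) (w : List ℕ) (c : Cls) : Cls := c.map fun p => (wperm T w p.1, sgnW T w p.1 * p.2)

/-- The fundamental orbit of a list of nodes. -/
def posCls (T : Tbl) (J : List ℕ) : Cls := J.map fun i => (T.simp' i, 1)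

/-- The opposite of a fundamental orbit. -/
def negCls (T : Tbl) (J : List ℕ) : Cls := J.map fun i => (T.neg (T.simp' i), 1)

/-- All signs changed. -/
def flipCls (c : Cls) : Cls := c.map fun p => (p.1, -p.2)

/-- Distinct roots of the list commute. -/
def commAllChk (T : Tbl) : List ℕ → Bool
  | [] => true
  | r :: l => l.all (fun s => !Nat.beq s r && (!Nat.beq s (T.neg r) && (tTerms T r s).isEmpty)) && commAllChk T l

/-- An orbit is well formed: `k` or one commuting roots with signs. -/
def clsOK (T : Tbl) (k : ℕ) (c : Cls) : Bool :=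
  (Nat.beq c.length 1 || Nat.beq c.length k) && (c.all (fun p => Nat.blt p.1 T.nroots &&
    (decide (p.2 = 1) || decide (p.2 = -1))) && commAllChk T (c.map Prod.fst))

/-- The exponent at `r` of the `m`-th factor of the torus element of `J`. -/
def jExp (T : Tbl) (J : List ℕ) (m r : ℕ) : ℤ := T.cartan (J.getD m 0) r

/-- The torus element of `J` multiplies the parameter of the orbit by the character at its first root. -/
def jActs (T : Tbl) (J : List ℕ) (c : Cls) : Bool :=
  let k := J.length
  let r0 := (c.headD (0, 1)).1
  c.zipIdx.all (fun pl => (List.range k).all fun m =>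
    decide (jExp T J m pl.1.1 = jExp T J ((m + k - pl.2) % k) r0)) &&
  (!Nat.beq c.length 1 || (List.range k).all fun m => decide (jExp T J m r0 = jExp T J 0 r0))

/-- That character generates the parameters of the orbit. -/
def jGen (T : Tbl) (J : List ℕ) (c : Cls) : Bool :=
  let k := J.length
  let r0 := (c.headD (0, 1)).1
  jActs T J c && (bif Nat.beq c.length 1 then (List.range k).all fun m =>
      decide (jExp T J m r0 = jExp T J 0 r0) && Nat.beq (jExp T J 0 r0).natAbs 1
    else ((List.range k).any fun m => Nat.beq (jExp T J m r0).natAbs 1 &&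
      (List.range k).all fun m' => Nat.beq m m' || decide (jExp T J m' r0 = 0)) ||
      (Nat.beq k 3 && ((List.range k).all (fun m => Nat.beq (jExp T J m r0).natAbs 1) &&
        !(List.range k).all (fun m => decide (jExp T J m r0 = jExp T J 0 r0)))))

/-- A step of the computation. -/
inductive TStep
  | conjFull (c : Cls)
  | conjPoint (c : Cls)
  | promote (c : Cls)
  | rot (p : ℕ × ℤ) (l : Cls)
  | flip (c : Cls)
  | fixedComm (a b out : ℕ) (M : ℤ)
  | mixed (a r r' p q L : ℕ) (e e' M M' M'' : ℤ)

/-- Run the steps; the result is the list of full orbits. -/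
def runTw (T : Tbl) (w J : List ℕ) (k : ℕ) : List Cls → List Cls → List TStep → Option (List Cls)
  | K, _, [] => some K
  | K, P, .conjFull c :: l => bif hasCls K c then runTw T w J k (mapCls T w c :: K) P l else none
  | K, P, .conjPoint c :: l => bif hasCls P c then runTw T w J k K (mapCls T w c :: P) l else none
  | K, P, .promote c :: l =>
    bif hasCls P c && (clsOK T k c && jGen T J c) then runTw T w J k (c :: K) P l else none
  | K, P, .rot p c :: l =>
    bif hasCls K (p :: c) && (clsOK T k (p :: c) && Nat.beq (c.length + 1) k) then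
      runTw T w J k ((c ++ [p]) :: K) P l else none
  | K, P, .flip c :: l => bif hasCls K c then runTw T w J k (flipCls c :: K) P l else none
  | K, P, .fixedComm a b out M :: l =>
    bif hasCls K [(a, 1)] && (hasCls K [(b, 1)] && (Nat.blt a T.nroots && (Nat.blt b T.nroots &&
      ((!Nat.beq b a && !Nat.beq b (T.neg a)) &&
        (decide (tTerms T a b = [(out, M, 1, 1)]) && Nat.beq M.natAbs 1))))) then
      runTw T w J k ([(out, 1)] :: K) P l else none
  | K, P, .mixed a r r' p q L e e' M M' M'' :: l =>
    bif hasCls K [(a, 1)] && (hasCls K [(r, e), (r', e')] && (hasCls K [(L, 1)] && (Nat.beq k 2 &&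
      ([a, r, r', p, q, L].all (fun x => Nat.blt x T.nroots) &&
      ((!Nat.beq r a && !Nat.beq r (T.neg a)) && ((!Nat.beq r' a && !Nat.beq r' (T.neg a)) &&
      ((!Nat.beq p r' && !Nat.beq p (T.neg r')) && ((!Nat.beq q L && !Nat.beq q (T.neg L)) &&
      (decide (tTerms T a r = [(p, M, 1, 1)]) && (decide (tTerms T a r' = [(q, M', 1, 1)]) &&
      (decide (tTerms T r' p = [(L, M'', 1, 1)]) && ((tTerms T L q).isEmpty &&
      (Nat.beq M.natAbs 1 && Nat.beq M'.natAbs 1))))))))))))) then
      runTw T w J k ([(p, -M * e), (q, -M' * e')] :: K) P l else none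

/-- Both orbits of each list of nodes are reached. -/
def allGens (T : Tbl) (orbs : List (List ℕ)) (K : List Cls) : Bool :=
  orbs.all fun J => hasCls K (posCls T J) && hasCls K (negCls T J)

/-- Root elements at different nodes of the list, or their opposites, commute. -/
def commNodes (T : Tbl) : List ℕ → Bool
  | [] => true
  | i :: m => commNodes T m && m.all fun j => [T.simp' j, T.neg (T.simp' j)].all fun s =>
      !Nat.beq s (T.simp' i) && (!Nat.beq s (T.neg (T.simp' i)) &&
        ((tTerms T (T.simp' i) s).isEmpty && (tTerms T (T.neg (T.simp' i)) s).isEmpty))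

/-- The check for a twisted group. -/
def chkTwGen (T : Tbl) (orbs : List (List ℕ)) (J : List ℕ) (k : ℕ) (ua : List (List ℕ)) (Oa : List ℕ)
    (ug : List (List ℕ)) (Og : List ℕ) (l : List TStep) : Bool :=
  let w := orbs.flatten
  let a' := mapCls T ua.flatten (posCls T Oa)
  let g := mapCls T ug.flatten (posCls T Og)
  let a := mapCls T w a'
  orbs.all (fun O => clsOK T k (posCls T O) && (clsOK T k (negCls T O) &&
      (O.all (fun i => Nat.blt i T.rank) && commNodes T O))) &&
    (((ua ++ [Oa] ++ ug ++ [Og] ++ [J]).all fun O => orbs.contains O) && (J.all (fun i => Nat.blt i T.rank) &&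
    (Nat.beq J.length k && (Nat.blt 1 k && (commNodes T J &&
    ((clsOK T k a' && (Nat.beq a'.length k && jGen T J a')) &&
    ((clsOK T k a && jGen T J a) &&
    ((clsOK T k g && (Nat.beq g.length 1 && (List.range k).all fun m => decide (jExp T J m (g.headD (0, 1)).1 = 0))) &&
    ((runTw T w J k [a] [g] l).any (allGens T orbs))))))))))

end Cfsg.Lib.Chev.TwoGen
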