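import Mathlib
import Cfsg.Agent.Lib.Chev.TwoGen
import Cfsg.Agent.Lib.Chev.TwoGenTwRun
import Cfsg.Agent.Lib.Chev.TwSimply

/-!
Two generators of a twisted group with one root length: a torus element times a commuting fixed root element, and an
orbit element times the product of all orbit reflections.
-/

set_option autoImplicit false
set_option linter.unusedSectionVars false

namespace Cfsg.Lib.Chev.TwoGen

open Cfsg.Lie Cfsg.Lib.Chev
open scoped commutatorElement

variable {D : ChevalleyDatum} {T : Tbl} {F : Type*} [Field F]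

omit [Field F] in
theorem eqCls_iff : ∀ (c d : Cls), eqCls c d = true → c = d
  | [], [], _ => rfl
  | [], _ :: _, h => absurd h Bool.false_ne_true
  | _ :: _, [], h => absurd h Bool.false_ne_true
  | (r, e) :: l, (s, d) :: m, h => by
    simp only [eqCls, Bool.and_eq_true, Nat.beq_eq, decide_eq_true_eq] at h
    rw [h.1, h.2.1, eqCls_iff l m h.2.2]

omit [Field F] in
theorem hasCls_mem {L : List Cls} {c : Cls} (h : hasCls L c = true) : c ∈ L := by
  obtain ⟨d, hd, e⟩ := List.any_eq_true.1 h
  rwa [eqCls_iff c d e]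

variable (C : Cert D T) (f : F →+* F)
include C

/-- The element of an orbit of signed roots. -/
noncomputable def cel (C : Cert D T) (f : F →+* F) : Cls → F → GL D.Idx F
  | [], _ => 1
  | (r, e) :: l, v => xg C r ((e : F) * v) * cel C f l (f v)

/-- The torus element of a list of nodes. -/
noncomputable def hl (C : Cert D T) (f : F →+* F) : List ℕ → F → GL D.Idx F
  | [], _ => 1
  | i :: m, u => hg C (T.simp' i) u * hl C f m (f u)

theorem cel_ones : ∀ (l : List ℕ) (v : F), cel C f (l.map fun r => (r, (1 : ℤ))) v = orbEl C f l v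
  | [], _ => rfl
  | r :: l, v => by simp only [List.map_cons, cel, orbEl, Int.cast_one, one_mul, cel_ones l]

theorem cel_pos (J : List ℕ) (v : F) : cel C f (posCls T J) v = orbEl C f (J.map T.simp') v := by
  rw [← cel_ones, List.map_map]; rfl

theorem cel_neg (J : List ℕ) (v : F) : cel C f (negCls T J) v = orbEl C f ((J.map T.simp').map T.neg) v := by
  rw [← cel_ones, List.map_map, List.map_map]; rfl

theorem cel_append : ∀ (l m : Cls) (v : F), cel C f (l ++ m) v = cel C f l v * cel C f m (f^[l.length] v)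
  | [], m, v => by simp [cel]
  | p :: l, m, v => by
    simp only [List.cons_append, cel, List.length_cons, Function.iterate_succ_apply]
    rw [cel_append l m (f v), mul_assoc]

theorem cel_flip : ∀ (l : Cls) (v : F), cel C f (flipCls l) v = cel C f l (-v)
  | [], _ => rfl
  | p :: l, v => by
    simp only [flipCls, List.map_cons, cel, map_neg, Int.cast_neg, neg_mul, mul_neg]
    rw [← cel_flip l (f v)]; rfl

theorem cel_group : ∀ (l : Cls) (v : F), cel C f l v ∈ D.group F
  | [], _ => one_mem _
  | p :: l, v => mul_mem (xg_mem_group C _ _) (cel_group l _)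

theorem wnu_conj_sgn {w : List ℕ} (hw : IsWord D w) {s : ℕ} (hs : s < D.nroots) (t : F) :
    wnu C F w * xg C s t * (wnu C F w)⁻¹ = xg C (wperm T w s) ((sgnW T w s : F) * t) := by
  induction w with
  | nil => simp [wnu, wperm, sgnW]
  | cons i w ih =>
    rw [wnu_cons, mul_inv_rev, show nu C i * wnu C F w * xg C s t * ((wnu C F w)⁻¹ * (nu C i)⁻¹) =
        nu C i * (wnu C F w * xg C s t * (wnu C F w)⁻¹) * (nu C i)⁻¹ by group, ih hw.tail.2,
      nu_conj_xg C hw.tail.1 (wperm_lt C hw.tail.2 hs), ← mul_assoc, ← Int.cast_mul]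
    rfl

theorem conj_cel {w : List ℕ} (hw : IsWord D w) : ∀ (l : Cls), (∀ p ∈ l, p.1 < D.nroots) → ∀ v : F,
    wnu C F w * cel C f l v * (wnu C F w)⁻¹ = cel C f (mapCls T w l) v
  | [], _, v => by simp [cel, mapCls]
  | p :: l, h, v => by
    simp only [mapCls, List.map_cons, cel]
    rw [show wnu C F w * (xg C p.1 ((p.2 : F) * v) * cel C f l (f v)) * (wnu C F w)⁻¹ =
      (wnu C F w * xg C p.1 ((p.2 : F) * v) * (wnu C F w)⁻¹) * (wnu C F w * cel C f l (f v) * (wnu C F w)⁻¹) by group,
      wnu_conj_sgn C hw (h p (by simp)), conj_cel hw l (fun q hq => h q (by simp [hq])), Int.cast_mul, mul_assoc]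
    rfl

variable (K : CommCert D T)
include K

omit C K in
theorem clsOK_data {k : ℕ} {c : Cls} (h : clsOK T k c = true) :
    (c.length = 1 ∨ c.length = k) ∧ (∀ p ∈ c, p.1 < T.nroots ∧ (p.2 = 1 ∨ p.2 = -1)) ∧
      commAllChk T (c.map Prod.fst) = true := by
  simp only [clsOK, Bool.and_eq_true, Bool.or_eq_true, Nat.beq_eq, List.all_eq_true, Nat.blt_eq,
    decide_eq_true_eq] at h
  exact ⟨h.1, h.2.1, h.2.2⟩

theorem cel_head_commute {r : ℕ} (hr : r < D.nroots) : ∀ (l : Cls), (∀ p ∈ l, p.1 < D.nroots) →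
    ((l.map Prod.fst).all fun s => !Nat.beq s r && (!Nat.beq s (T.neg r) && (tTerms T r s).isEmpty)) = true →
    ∀ t v : F, Commute (xg C r t) (cel C f l v)
  | [], _, _, t, v => Commute.one_right _
  | p :: l, hl, h, t, v => by
    simp only [List.map_cons, List.all_cons, Bool.and_eq_true, Bool.not_eq_true', List.isEmpty_iff] at h
    exact (xg_commute C K hr (hl p (by simp)) (Nat.ne_of_beq_eq_false h.1.1) (Nat.ne_of_beq_eq_false h.1.2.1)
      h.1.2.2 t _).mul_right (cel_head_commute hr l (fun q hq => hl q (by simp [hq]))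
        (by simp only [Bool.and_eq_true, Bool.not_eq_true', List.all_eq_true, List.isEmpty_iff] at h ⊢
            exact h.2) t _)

theorem cel_add : ∀ (c : Cls), (∀ p ∈ c, p.1 < D.nroots) → commAllChk T (c.map Prod.fst) = true → ∀ v u : F,
    cel C f c v * cel C f c u = cel C f c (v + u)
  | [], _, _, v, u => by simp [cel]
  | p :: l, hl, h, v, u => by
    simp only [List.map_cons, commAllChk, Bool.and_eq_true] at h
    have hl' : ∀ q ∈ l, q.1 < D.nroots := fun q hq => hl q (by simp [hq])
    have e := (cel_head_commute C f K (hl p (by simp)) l hl' h.1 ((p.2 : F) * u) (f v)).eq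
    simp only [cel]
    calc xg C p.1 ((p.2 : F) * v) * cel C f l (f v) * (xg C p.1 ((p.2 : F) * u) * cel C f l (f u))
        = xg C p.1 ((p.2 : F) * v) * (cel C f l (f v) * xg C p.1 ((p.2 : F) * u)) * cel C f l (f u) := by group
      _ = (xg C p.1 ((p.2 : F) * v) * xg C p.1 ((p.2 : F) * u)) * (cel C f l (f v) * cel C f l (f u)) := by
          rw [← e]; group
      _ = _ := by rw [xg_add, cel_add l hl' h.2, ← mul_add, map_add]

theorem cel_zero : ∀ (c : Cls), cel C f c (0 : F) = 1
  | [] => rfl
  | p :: l => by simp [cel, xg_zero, cel_zero l]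

theorem cel_inv {c : Cls} (hl : ∀ p ∈ c, p.1 < D.nroots) (h : commAllChk T (c.map Prod.fst) = true) (v : F) :
    (cel C f c v)⁻¹ = cel C f c (-v) :=
  inv_eq_of_mul_eq_one_left (by rw [cel_add C f K c hl h, neg_add_cancel, cel_zero C f K])

omit K

/-- The character of the torus element of a list of nodes. -/
noncomputable def chi (T : Tbl) (f : F →+* F) : List ℕ → F → ℕ → F
  | [], _, _ => 1
  | i :: m, u, r => u ^ T.cartan i r * chi T f m (f u) r

theorem hl_conj : ∀ (J : List ℕ), (∀ i ∈ J, i < D.rank) → ∀ u : F, u ≠ 0 → ∀ r < D.nroots, ∀ t : F,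
    hl C f J u * xg C r t * (hl C f J u)⁻¹ = xg C r (chi T f J u r * t)
  | [], _, u, _, r, _, t => by simp [hl, chi]
  | i :: m, hJ, u, hu, r, hr, t => by
    simp only [hl, chi]
    rw [show hg C (T.simp' i) u * hl C f m (f u) * xg C r t * (hg C (T.simp' i) u * hl C f m (f u))⁻¹ =
      hg C (T.simp' i) u * (hl C f m (f u) * xg C r t * (hl C f m (f u))⁻¹) * (hg C (T.simp' i) u)⁻¹ by group,
      hl_conj m (fun j hj => hJ j (by simp [hj])) _ ((map_ne_zero f).2 hu) r hr,
      hg_conj_pair C (C.spec.simp_lt i (hJ i (by simp))) hr hu, rootPair_simp C (hJ i (by simp)), mul_assoc]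

omit C in
theorem chi_eq : ∀ (J : List ℕ) (u : F) (r : ℕ),
    chi T f J u r = ∏ m ∈ Finset.range J.length, (f^[m] u) ^ jExp T J m r
  | [], u, r => by simp [chi]
  | i :: m, u, r => by
    rw [List.length_cons, Finset.prod_range_succ', chi, chi_eq m (f u) r, mul_comm]
    congr 1

theorem hl_cel {J : List ℕ} (hJ : ∀ i ∈ J, i < D.rank) {u : F} (hu : u ≠ 0) {x : F} :
    ∀ (c : Cls) (l : ℕ), (∀ p ∈ c, p.1 < D.nroots) →
      (∀ pl ∈ c.zipIdx l, chi T f J u pl.1.1 = f^[pl.2] x) → ∀ v : F,
      hl C f J u * cel C f c v * (hl C f J u)⁻¹ = cel C f c (f^[l] x * v)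
  | [], l, _, _, v => by simp [cel]
  | p :: c, l, hc, h, v => by
    simp only [cel]
    rw [show hl C f J u * (xg C p.1 ((p.2 : F) * v) * cel C f c (f v)) * (hl C f J u)⁻¹ =
      (hl C f J u * xg C p.1 ((p.2 : F) * v) * (hl C f J u)⁻¹) *
        (hl C f J u * cel C f c (f v) * (hl C f J u)⁻¹) by group,
      hl_conj C f J hJ u hu p.1 (hc p (by simp)), h (p, l) (by simp [List.zipIdx_cons]),
      hl_cel hJ hu c (l + 1) (fun q hq => hc q (by simp [hq])) (fun pl hpl => h pl (by
        rw [List.zipIdx_cons]; exact List.mem_cons_of_mem _ hpl)), map_mul, Function.iterate_succ_apply']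
    congr 2
    ring

omit C in
theorem chi_shift {J : List ℕ} {k : ℕ} (hk : k = 2 ∨ k = 3) (hJk : J.length = k) (hfk : ∀ t, f^[k] t = t)
    {c : Cls} (hlen : c.length = 1 ∨ c.length = k) (h : jActs T J c = true) (u : F) :
    (∀ pl ∈ c.zipIdx 0, chi T f J u pl.1.1 = f^[pl.2] (chi T f J u (c.headD (0, 1)).1)) ∧
      f^[c.length] (chi T f J u (c.headD (0, 1)).1) = chi T f J u (c.headD (0, 1)).1 := by
  simp only [jActs, hJk, Bool.and_eq_true, List.all_eq_true, decide_eq_true_eq, List.mem_range, Bool.or_eq_true,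
    Bool.not_eq_true'] at h
  obtain ⟨h1, h2⟩ := h
  refine ⟨fun pl hpl => ?_, ?_⟩
  · have hl : pl.2 < k := by
      have := List.snd_lt_add_of_mem_zipIdx hpl
      rcases hlen with e | e <;> omega
    have e := h1 pl hpl
    rw [chi_eq, chi_eq, hJk]
    rcases hk with rfl | rfl
    · have f2 : ∀ t, f (f t) = t := hfk
      rw [Finset.prod_range_succ, Finset.prod_range_one, Finset.prod_range_succ, Finset.prod_range_one,
        e 0 (by norm_num), e 1 (by norm_num)]
      interval_cases pl.2 <;> simp [Function.iterate_succ_apply', map_mul, map_zpow₀, f2, mul_comm]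
    · have f3 : ∀ t, f (f (f t)) = t := hfk
      rw [Finset.prod_range_succ, Finset.prod_range_succ, Finset.prod_range_one, Finset.prod_range_succ,
        Finset.prod_range_succ, Finset.prod_range_one, e 0 (by norm_num), e 1 (by norm_num), e 2 (by norm_num)]
      interval_cases pl.2 <;>
        (simp [Function.iterate_succ_apply', map_mul, map_zpow₀, f3]; try ring)
  · rcases hlen with e | e
    · rcases h2 with h2 | h2
      · rw [e] at h2; simp at h2
      · rw [e, chi_eq, hJk, Finset.prod_congr rfl fun m hm => by rw [h2 m (Finset.mem_range.1 hm)]]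
        simp only [Function.iterate_one, map_prod, map_zpow₀]
        rcases hk with rfl | rfl
        · have f2 : ∀ t, f (f t) = t := hfk
          simp [Finset.prod_range_succ, Function.iterate_succ_apply', f2, mul_comm]
        · have f3 : ∀ t, f (f (f t)) = t := hfk
          simp [Finset.prod_range_succ, Function.iterate_succ_apply', f3]
          try ring
    · rw [e, hfk]

omit C in
theorem chi_generates [Fintype F] {q k : ℕ} (hq : 2 ≤ q) (hk : k = 2 ∨ k = 3) (hf : ∀ t, f t = t ^ q)
    (hfk : ∀ t, f^[k] t = t) (hcard : Fintype.card F = q ^ k) {v : Fˣ} (hv : ∀ x : Fˣ, x ∈ Subgroup.zpowers v)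
    {J : List ℕ} (hJk : J.length = k) {c : Cls} (hlen : c.length = 1 ∨ c.length = k) (h : jGen T J c = true)
    {t : F} (ht : t ≠ 0) (hfix : f^[c.length] t = t) :
    ∃ i : ℕ, chi T f J (v : F) (c.headD (0, 1)).1 ^ i = t := by
  classical
  have hit : ∀ m (x : F), f^[m] x = x ^ q ^ m := by
    intro m
    induction m with
    | zero => simp
    | succ m ih => intro x; rw [Function.iterate_succ_apply', ih, hf, ← pow_mul, ← pow_succ]
  set r0 := (c.headD (0, 1)).1
  set E : ℤ := ∑ m ∈ Finset.range k, (q : ℤ) ^ m * jExp T J m r0 with hE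
  have hchi : chi T f J (v : F) r0 = ((v ^ E : Fˣ) : F) := by
    rw [chi_eq, hJk, Units.val_zpow_eq_zpow_val, hE]
    rcases hk with rfl | rfl <;>
      simp [Finset.prod_range_succ, Finset.sum_range_succ, hit, zpow_add₀, ← zpow_natCast, ← zpow_mul,
        mul_assoc]
  obtain ⟨j, hj⟩ := hv (Units.mk0 t ht)
  have ho : (orderOf v : ℤ) = (q : ℤ) ^ k - 1 := by
    rw [orderOf_eq_card_of_forall_mem_zpowers hv, Nat.card_eq_fintype_card, Fintype.card_units, hcard,
      Nat.cast_sub (Nat.one_le_pow _ _ (by omega))]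
    push_cast; ring
  suffices hs : ∃ z : ℤ, ((q : ℤ) ^ k - 1) ∣ (E * z - j) by
    obtain ⟨z, hz⟩ := hs
    have e : (v ^ E) ^ z = Units.mk0 t ht := by
      rw [← zpow_mul, ← hj]
      exact (orderOf_dvd_sub_iff_zpow_eq_zpow).1 (ho ▸ hz)
    obtain ⟨i, hi⟩ := (mem_powers_iff_mem_zpowers (x := v ^ E)).2 ⟨z, e⟩
    exact ⟨i, by rw [hchi, ← Units.val_pow_eq_pow_val]; exact congrArg Units.val hi⟩
  simp only [jGen, hJk, Bool.and_eq_true] at h
  obtain ⟨-, h⟩ := h
  cases hb : Nat.beq c.length 1 <;> rw [hb] at h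
  · have hlk : c.length = k := hlen.resolve_left (Nat.ne_of_beq_eq_false hb)
    simp only [cond_false, Bool.or_eq_true, List.any_eq_true, List.mem_range, Bool.and_eq_true, Nat.beq_eq,
      List.all_eq_true, decide_eq_true_eq, Bool.not_eq_true', List.all_eq_false] at h
    suffices hc : IsCoprime E ((q : ℤ) ^ k - 1) by
      obtain ⟨a, b, hab⟩ := hc
      exact ⟨a * j, -(b * j), by linear_combination (j : ℤ) * hab⟩
    rcases h with ⟨m, hm, hm1, hm0⟩ | ⟨rfl, hall, hneq⟩
    · have eE : E = (q : ℤ) ^ m * jExp T J m r0 := by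
        rw [hE, Finset.sum_eq_single m]
        · intro b hb' hbm
          rw [(hm0 b (Finset.mem_range.1 hb')).resolve_left (fun e => hbm e.symm), mul_zero]
        · intro hm'; exact absurd (Finset.mem_range.2 hm) hm'
      have hpow : (q : ℤ) ^ m * (q : ℤ) ^ (k - m) = (q : ℤ) ^ k := by rw [← pow_add]; congr 1; omega
      rw [eE]
      rcases Int.natAbs_eq (jExp T J m r0) with e | e <;> rw [e, hm1]
      · exact ⟨(q : ℤ) ^ (k - m), -1, by push_cast; linear_combination hpow⟩
      · exact ⟨-(q : ℤ) ^ (k - m), -1, by push_cast; linear_combination hpow⟩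
    · have cases : ∀ m < 3, jExp T J m r0 = 1 ∨ jExp T J m r0 = -1 := fun m hm =>
        Int.natAbs_eq_iff.1 (hall m hm)
      obtain ⟨m, hm, hm'⟩ := hneq
      have hmne : jExp T J m r0 ≠ jExp T J 0 r0 := hm'
      have e3 : E = jExp T J 0 r0 + (q : ℤ) * jExp T J 1 r0 + (q : ℤ) ^ 2 * jExp T J 2 r0 := by
        rw [hE]; simp [Finset.sum_range_succ]
      have hne : ¬ (jExp T J 1 r0 = jExp T J 0 r0 ∧ jExp T J 2 r0 = jExp T J 0 r0) := by
        rintro ⟨a, b⟩
        interval_cases m
        · exact hmne rfl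
        · exact hmne a
        · exact hmne b
      set Q : ℤ := (q : ℤ)
      set M : ℤ := Q ^ 3 - 1 with hM
      have half : ∀ m < 3, ∃ d : ℤ, jExp T J m r0 = 2 * d + 1 := fun m hm => by
        rcases cases m hm with e | e
        · exact ⟨0, by rw [e]; norm_num⟩
        · exact ⟨-1, by rw [e]; norm_num⟩
      have hodd : Odd E := by
        obtain ⟨d0, e0⟩ := half 0 (by norm_num)
        obtain ⟨d1, e1⟩ := half 1 (by norm_num)
        obtain ⟨d2, e2⟩ := half 2 (by norm_num)
        obtain ⟨r, hr⟩ := Int.even_mul_succ_self Q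
        exact ⟨r + d0 + d1 * Q + d2 * Q ^ 2, by rw [e3, e0, e1, e2]; linear_combination hr⟩
      have key : ∃ y : ℤ, M ∣ E * y - 4 := by
        rw [e3, hM]
        rcases cases 0 (by norm_num) with x | x <;> rcases cases 1 (by norm_num) with y | y <;>
          rcases cases 2 (by norm_num) with z | z <;> rw [x, y, z] at hne ⊢
        · exact absurd ⟨rfl, rfl⟩ hne
        · exact ⟨-(2 * Q - 2 * (1 + Q + Q ^ 2)), 2 - 2 * Q, by ring⟩
        · exact ⟨-(2 * Q ^ 2 - 2 * (1 + Q + Q ^ 2)), 2, by ring⟩
        · exact ⟨(2 - 2 * (1 + Q + Q ^ 2)), 2 * Q + 4, by ring⟩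
        · exact ⟨-(2 - 2 * (1 + Q + Q ^ 2)), 2 * Q + 4, by ring⟩
        · exact ⟨(2 * Q ^ 2 - 2 * (1 + Q + Q ^ 2)), 2, by ring⟩
        · exact ⟨(2 * Q - 2 * (1 + Q + Q ^ 2)), 2 - 2 * Q, by ring⟩
        · exact absurd ⟨rfl, rfl⟩ hne
      obtain ⟨y, z, hz⟩ := key
      have h2 : IsCoprime E 2 := by
        obtain ⟨a, ha⟩ := hodd
        exact ⟨1, -a, by linear_combination ha⟩
      obtain ⟨a, b, hab⟩ := (h2.mul_right h2 : IsCoprime E (2 * 2))
      exact ⟨a + b * y, -(b * z), by linear_combination hab + b * hz⟩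
  · have hl1 : c.length = 1 := Nat.eq_of_beq_eq_true hb
    simp only [cond_true, List.all_eq_true, List.mem_range, Bool.and_eq_true, decide_eq_true_eq, Nat.beq_eq] at h
    set N : ℤ := ∑ m ∈ Finset.range k, (q : ℤ) ^ m with hN
    have hE' : E = N * jExp T J 0 r0 := by
      rw [hE, hN, Finset.sum_mul]
      exact Finset.sum_congr rfl fun m hm => by rw [(h m (Finset.mem_range.1 hm)).1]
    have hgeo : N * ((q : ℤ) - 1) = (q : ℤ) ^ k - 1 := by rw [hN, geom_sum_mul]
    rw [hl1, Function.iterate_one, hf] at hfix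
    have hv1 : v ^ (j * ((q : ℤ) - 1)) = 1 := by
      rw [zpow_mul, show v ^ j = Units.mk0 t ht from hj, zpow_sub, zpow_natCast, zpow_one]
      refine mul_inv_eq_one.2 (Units.ext ?_)
      rw [Units.val_pow_eq_pow_val, Units.val_mk0, hfix]
    have hd := orderOf_dvd_iff_zpow_eq_one.2 hv1
    rw [ho, ← hgeo] at hd
    have hq1 : (q : ℤ) - 1 ≠ 0 := by
      have : (2 : ℤ) ≤ q := by exact_mod_cast hq
      omega
    obtain ⟨i, hi⟩ := Int.dvd_of_mul_dvd_mul_right hq1 hd
    have he : jExp T J 0 r0 = 1 ∨ jExp T J 0 r0 = -1 :=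
      Int.natAbs_eq_iff.1 (h 0 (by rcases hk with rfl | rfl <;> norm_num)).2
    rcases he with e | e
    · exact ⟨i, 0, by rw [hE', e, hi]; ring⟩
    · exact ⟨-i, 0, by rw [hE', e, hi]; ring⟩

/-- A whole orbit subgroup. -/
def FullC (C : Cert D T) (f : F →+* F) (H : Subgroup (GL D.Idx F)) (c : Cls) : Prop :=
  (∀ p ∈ c, p.1 < D.nroots) ∧ ∀ v : F, f^[c.length] v = v → cel C f c v ∈ H

/-- One element of an orbit. -/
def PointC (C : Cert D T) (f : F →+* F) (H : Subgroup (GL D.Idx F)) (c : Cls) : Prop :=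
  (∀ p ∈ c, p.1 < D.nroots) ∧ cel C f c (1 : F) ∈ H

include K in
theorem runTw_sound [Fintype F] {q k : ℕ} (hq : 2 ≤ q) (hk : k = 2 ∨ k = 3) (hf : ∀ t, f t = t ^ q)
    (hfk : ∀ t, f^[k] t = t) (hcard : Fintype.card F = q ^ k) {H : Subgroup (GL D.Idx F)} {w J : List ℕ}
    (hw : IsWord D w) (hJ : ∀ i ∈ J, i < D.rank) (hJk : J.length = k) {v₀ : Fˣ}
    (hv₀ : ∀ x : Fˣ, x ∈ Subgroup.zpowers v₀) (hN : wnu C F w ∈ H) (hh : hl C f J (v₀ : F) ∈ H) :
    ∀ (l : List TStep) (K₀ P₀ K₁ : List Cls), (∀ c ∈ K₀, FullC C f H c) → (∀ c ∈ P₀, PointC C f H c) →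
      runTw T w J k K₀ P₀ l = some K₁ → ∀ c ∈ K₁, FullC C f H c := by
  intro l
  induction l with
  | nil => intro K₀ P₀ K₁ hK _ h; simp only [runTw, Option.some.injEq] at h; exact h ▸ hK
  | cons st l ih =>
    intro K₀ P₀ K₁ hK hP h
    have hmapOK : ∀ {c : Cls}, (∀ p ∈ c, p.1 < D.nroots) → ∀ p ∈ mapCls T w c, p.1 < D.nroots := by
      intro c hc p hp
      obtain ⟨p', hp', rfl⟩ := List.mem_map.1 hp
      exact wperm_lt C hw (hc p' hp')
    cases st with
    | conjFull c =>
      simp only [runTw] at h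
      cases hb : hasCls K₀ c <;> rw [hb] at h
      · simp at h
      refine ih _ _ _ (fun x hx => ?_) hP h
      rcases List.mem_cons.1 hx with rfl | hx
      · obtain ⟨hc, hC⟩ := hK c (hasCls_mem hb)
        refine ⟨hmapOK hc, fun v hv => ?_⟩
        rw [mapCls, List.length_map] at hv
        rw [← conj_cel C f hw c hc]
        exact mul_mem (mul_mem hN (hC v hv)) (inv_mem hN)
      · exact hK x hx
    | conjPoint c =>
      simp only [runTw] at h
      cases hb : hasCls P₀ c <;> rw [hb] at h
      · simp at h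
      refine ih _ _ _ hK (fun x hx => ?_) h
      rcases List.mem_cons.1 hx with rfl | hx
      · obtain ⟨hc, hC⟩ := hP c (hasCls_mem hb)
        refine ⟨hmapOK hc, ?_⟩
        rw [← conj_cel C f hw c hc]
        exact mul_mem (mul_mem hN hC) (inv_mem hN)
      · exact hP x hx
    | promote c =>
      simp only [runTw] at h
      cases hb : (hasCls P₀ c && (clsOK T k c && jGen T J c)) <;> rw [hb] at h
      · simp at h
      simp only [Bool.and_eq_true] at hb
      refine ih _ _ _ (fun x hx => ?_) hP h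
      rcases List.mem_cons.1 hx with rfl | hx
      · obtain ⟨hc, hC⟩ := hP x (hasCls_mem hb.1)
        obtain ⟨hlen, -, -⟩ := clsOK_data hb.2.1
        refine ⟨hc, fun t ht => ?_⟩
        rcases eq_or_ne t 0 with rfl | ht0
        · rw [cel_zero C f K]; exact one_mem H
        obtain ⟨i, rfl⟩ := chi_generates f hq hk hf hfk hcard hv₀ hJk hlen hb.2.2 ht0 ht
        clear ht ht0
        have hja : jActs T J x = true := by
          have := hb.2.2
          simp only [jGen, Bool.and_eq_true] at this
          exact this.1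
        have hconj := hl_cel C f hJ v₀.ne_zero x 0 hc (chi_shift f hk hJk hfk hlen hja (v₀ : F)).1
        induction i with
        | zero => simpa using hC
        | succ i ihi =>
          rw [pow_succ']
          have e := hconj (chi T f J (v₀ : F) (x.headD (0, 1)).1 ^ i)
          rw [Function.iterate_zero_apply] at e
          rw [← e]
          exact mul_mem (mul_mem hh ihi) (inv_mem hh)
      · exact hK x hx
    | rot p c =>
      simp only [runTw] at h
      cases hb : (hasCls K₀ (p :: c) && (clsOK T k (p :: c) && Nat.beq (c.length + 1) k)) <;> rw [hb] at h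
      · simp at h
      simp only [Bool.and_eq_true, Nat.beq_eq] at hb
      obtain ⟨hb1, hb2, hlen⟩ := hb
      refine ih _ _ _ (fun x hx => ?_) hP h
      rcases List.mem_cons.1 hx with rfl | hx
      · obtain ⟨hc, hC⟩ := hK _ (hasCls_mem hb1)
        obtain ⟨-, -, hcomm⟩ := clsOK_data hb2
        simp only [List.map_cons, commAllChk, Bool.and_eq_true] at hcomm
        refine ⟨fun s hs => ?_, fun v _ => ?_⟩
        · rcases List.mem_append.1 hs with hs | hs
          · exact hc s (by simp [hs])
          · rw [List.mem_singleton] at hs; subst hs; exact hc _ (by simp)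
        · have e1 : f (f^[c.length] v) = v := by
            rw [← Function.iterate_succ_apply' f, Nat.succ_eq_add_one, hlen, hfk]
          have h2 : f^[(p :: c).length] (f^[c.length] v) = f^[c.length] v := by
            rw [List.length_cons, hlen, hfk]
          have := hC _ h2
          simp only [cel] at this
          rw [e1] at this
          rw [cel_append]
          simp only [cel, mul_one]
          rwa [(cel_head_commute C f K (hc p (by simp)) c (fun s hs => hc s (by simp [hs])) hcomm.1 _ _).eq] at this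
      · exact hK x hx
    | flip c =>
      simp only [runTw] at h
      cases hb : hasCls K₀ c <;> rw [hb] at h
      · simp at h
      refine ih _ _ _ (fun x hx => ?_) hP h
      rcases List.mem_cons.1 hx with rfl | hx
      · obtain ⟨hc, hC⟩ := hK c (hasCls_mem hb)
        refine ⟨fun s hs => ?_, fun v hv => ?_⟩
        · obtain ⟨s', hs', rfl⟩ := List.mem_map.1 hs
          exact hc s' hs'
        · rw [flipCls, List.length_map] at hv
          rw [cel_flip]
          exact hC _ (by rw [iterate_map_neg f, hv])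
      · exact hK x hx
    | fixedComm a b out M =>
      simp only [runTw] at h
      cases hb : (hasCls K₀ [(a, 1)] && (hasCls K₀ [(b, 1)] && (Nat.blt a T.nroots && (Nat.blt b T.nroots &&
          ((!Nat.beq b a && !Nat.beq b (T.neg a)) &&
            (decide (tTerms T a b = [(out, M, 1, 1)]) && Nat.beq M.natAbs 1)))))) <;> rw [hb] at h
      · simp at h
      simp only [Bool.and_eq_true, Nat.blt_eq, Bool.not_eq_true', decide_eq_true_eq, Nat.beq_eq,
        C.spec.shape.nroots_eq] at hb
      obtain ⟨hA, hB, ha, hb', ⟨hne, hneg⟩, hterm, hM⟩ := hb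
      refine ih _ _ _ (fun x hx => ?_) hP h
      rcases List.mem_cons.1 hx with rfl | hx
      · refine ⟨fun s hs => ?_, fun v hv => ?_⟩
        · rw [List.mem_singleton] at hs; subst hs
          exact (tTerms_lt C ha hb' _ (hterm ▸ List.mem_singleton.2 rfl)).1
        simp only [List.length_singleton, Function.iterate_one] at hv
        have hA' := (hK _ (hasCls_mem hA)).2
        have hB' := (hK _ (hasCls_mem hB)).2
        simp only [List.length_singleton, Function.iterate_one, cel, Int.cast_one, one_mul, mul_one] at hA' hB'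
        have hMs : f (-((M : F) * v)) = -((M : F) * v) := by rw [map_neg, map_mul, map_intCast, hv]
        have e := comm_xg_prod C K ha hb' (Nat.ne_of_beq_eq_false hne) (Nat.ne_of_beq_eq_false hneg)
          (-((M : F) * v)) (1 : F)
        rw [hterm] at e
        simp only [List.map_cons, List.map_nil, List.prod_cons, List.prod_nil, mul_one, pow_one, neg_neg] at e
        have hM2 : (M : F) * ((M : F) * v) = v := by
          rcases Int.natAbs_eq M with e' | e' <;> rw [e', hM] <;> push_cast <;> ring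
        rw [hM2] at e
        simp only [cel, Int.cast_one, one_mul, mul_one]
        rw [← e, commutatorElement_def]
        have h1 := hA' _ hMs
        have h2 := hB' 1 (map_one f)
        exact mul_mem (mul_mem (mul_mem (inv_mem h2) (inv_mem h1)) (inv_mem (inv_mem h2))) (inv_mem (inv_mem h1))
      · exact hK x hx
    | mixed a r r' p q' L e e' M M' M'' =>
      simp only [runTw] at h
      revert h
      generalize hb : (hasCls K₀ [(a, 1)] && _) = bb
      intro h
      cases bb
      · simp at h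
      simp only [Bool.and_eq_true, Nat.blt_eq, Bool.not_eq_true', decide_eq_true_eq, Nat.beq_eq, List.all_cons,
        List.all_nil, Bool.and_true, List.isEmpty_iff, C.spec.shape.nroots_eq] at hb
      obtain ⟨hA, hR, hL, hk2, ⟨ha, hr, hr', hp, hq', hLn⟩, ⟨n1, n2⟩, ⟨n3, n4⟩, ⟨n5, n6⟩, ⟨n7, n8⟩, t1, t2, t3, t4,
        hM, hM'⟩ := hb
      refine ih _ _ _ (fun x hx => ?_) hP h
      rcases List.mem_cons.1 hx with rfl | hx
      · refine ⟨fun s hs => ?_, fun v hv => ?_⟩
        · simp only [List.mem_cons, List.not_mem_nil, or_false] at hs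
          rcases hs with rfl | rfl
          · exact hp
          · exact hq'
        subst hk2
        have f2 : ∀ t, f (f t) = t := hfk
        have hA' := (hK _ (hasCls_mem hA)).2 1 (by simp)
        have hR' := (hK _ (hasCls_mem hR)).2 v (f2 v)
        have hL' := (hK _ (hasCls_mem hL)).2
        simp only [List.length_singleton, Function.iterate_one, cel, Int.cast_one, one_mul, mul_one] at hA' hR' hL'
        simp only [cel, mul_one]
        have h1 := comm_xg_prod C K ha hr (Nat.ne_of_beq_eq_false n1) (Nat.ne_of_beq_eq_false n2) (1 : F) ((e : F) * v)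
        have h2 := comm_xg_prod C K ha hr' (Nat.ne_of_beq_eq_false n3) (Nat.ne_of_beq_eq_false n4) (1 : F)
          ((e' : F) * f v)
        rw [t1] at h1
        rw [t2] at h2
        simp only [List.map_cons, List.map_nil, List.prod_cons, List.prod_nil, mul_one, pow_one] at h1 h2
        have eP : (M : F) * -1 * ((e : F) * v) = ((-M * e : ℤ) : F) * v := by push_cast; ring
        have eQ : (M' : F) * -1 * ((e' : F) * f v) = ((-M' * e' : ℤ) : F) * f v := by push_cast; ring
        rw [eP] at h1
        rw [eQ] at h2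
        set A := xg C a (1 : F) with hAdef
        set X := xg C r ((e : F) * v)
        set Y := xg C r' ((e' : F) * f v)
        set P := xg C p (((-M * e : ℤ) : F) * v) with hPdef
        set Q := xg C q' (((-M' * e' : ℤ) : F) * f v)
        have h3 := comm_xg_prod C K hr' hp (Nat.ne_of_beq_eq_false n5) (Nat.ne_of_beq_eq_false n6) ((e' : F) * f v)
          (((-M * e : ℤ) : F) * v)
        rw [t3] at h3
        simp only [List.map_cons, List.map_nil, List.prod_cons, List.prod_nil, mul_one, pow_one] at h3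
        set z : F := (M'' : F) * -((e' : F) * f v) * (((-M * e : ℤ) : F) * v)
        have hz : f z = z := by
          simp only [z, map_mul, map_neg, map_intCast, f2]; ring
        have hPH : xg C L z ∈ H := hL' z hz
        have hcomm : Commute (xg C L z) Q :=
          xg_commute C K hLn hq' (Nat.ne_of_beq_eq_false n7) (Nat.ne_of_beq_eq_false n8) t4 _ _
        have key : P * Q * xg C L z = (X * Y)⁻¹ * (A⁻¹ * (X * Y) * A) := by
          rw [mul_assoc, ← hcomm.eq, ← h3, ← hPdef]
          show P * (⁅P⁻¹, Y⁻¹⁆ * Q) = _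
          rw [← h2, ← h1]
          simp only [commutatorElement_def]
          group
        have : P * Q * xg C L z ∈ H := by
          rw [key]; exact mul_mem (inv_mem hR') (mul_mem (mul_mem (inv_mem hA') hR') hA')
        exact (Subgroup.mul_mem_cancel_right _ hPH).1 this
      · exact hK x hx

omit K

theorem nGen_one : ∀ l : List ℕ, nGen C f (l.map T.simp') (1 : F) = wnu C F l
  | [] => by simp [nGen, wnu]
  | a :: l => by rw [List.map_cons, nGen, map_one, nGen_one l, wnu_cons]; rfl

theorem hl_diag : ∀ (J : List ℕ), (∀ i ∈ J, i < D.rank) → ∀ u : F, u ≠ 0 → hl C f J u ∈ D.diagonalSubgroup F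
  | [], _, u, _ => one_mem _
  | i :: m, hJ, u, hu => mul_mem (hg_mem C (C.spec.simp_lt i (hJ i (by simp))) hu)
      (hl_diag m (fun j hj => hJ j (by simp [hj])) _ ((map_ne_zero f).2 hu))

theorem hl_mul : ∀ (J : List ℕ), (∀ i ∈ J, i < D.rank) → ∀ u v : F, u ≠ 0 → v ≠ 0 →
    hl C f J u * hl C f J v = hl C f J (u * v)
  | [], _, u, v, _, _ => by simp [hl]
  | i :: m, hJ, u, v, hu, hv => by
    have hi := C.spec.simp_lt i (hJ i (by simp))
    have hm : ∀ j ∈ m, j < D.rank := fun j hj => hJ j (by simp [hj])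
    simp only [hl]
    rw [show hg C (T.simp' i) u * hl C f m (f u) * (hg C (T.simp' i) v * hl C f m (f v)) =
      hg C (T.simp' i) u * (hl C f m (f u) * hg C (T.simp' i) v) * hl C f m (f v) by group,
      diag_comm C (hl_diag C f m hm _ ((map_ne_zero f).2 hu)) (hg_mem C hi hv), ← mul_assoc, hg_mul C hi hu hv,
      mul_assoc, hl_mul m hm _ _ ((map_ne_zero f).2 hu) ((map_ne_zero f).2 hv), ← map_mul]

theorem hl_one : ∀ (J : List ℕ), (∀ i ∈ J, i < D.rank) → hl C f J (1 : F) = 1
  | [], _ => rfl
  | i :: m, hJ => by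
    simp only [hl, map_one]
    rw [hg_one C (C.spec.simp_lt i (hJ i (by simp))), one_mul, hl_one m fun j hj => hJ j (by simp [hj])]

include K in
theorem nodes_pairwise : ∀ (J : List ℕ), (∀ i ∈ J, i < D.rank) → commNodes T J = true →
    (J.map T.simp').Pairwise fun r s => ∀ t u : F, Commute (xg C r t) (xg C s u) ∧
      Commute (xg C r t) (xg C (T.neg s) u) ∧ Commute (xg C (T.neg r) t) (xg C s u) ∧
      Commute (xg C (T.neg r) t) (xg C (T.neg s) u)
  | [], _, _ => List.Pairwise.nil
  | i :: m, hJ, h => by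
    simp only [commNodes, Bool.and_eq_true] at h
    rw [List.map_cons, List.pairwise_cons]
    refine ⟨fun s hs t u => ?_, nodes_pairwise m (fun j hj => hJ j (by simp [hj])) h.1⟩
    obtain ⟨j, hj, rfl⟩ := List.mem_map.1 hs
    have := List.all_eq_true.1 h.2 j hj
    simp only [List.all_cons, List.all_nil, Bool.and_true, Bool.and_eq_true, Bool.not_eq_true',
      List.isEmpty_iff] at this
    obtain ⟨⟨a1, a2, a3, a4⟩, b1, b2, b3, b4⟩ := this
    have hi := C.spec.simp_lt i (hJ i (by simp))
    have hjn := C.spec.simp_lt j (hJ j (by simp [hj]))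
    have a1 := Nat.ne_of_beq_eq_false a1
    have a2 := Nat.ne_of_beq_eq_false a2
    have b1 := Nat.ne_of_beq_eq_false b1
    have b2 := Nat.ne_of_beq_eq_false b2
    exact ⟨xg_commute C K hi hjn a1 a2 a3 t u, xg_commute C K hi (C.spec.neg_lt _ hjn) b1 b2 b3 t u,
      xg_commute C K (C.spec.neg_lt _ hi) hjn a2 (by rw [C.spec.neg_neg _ hi]; exact a1) a4 t u,
      xg_commute C K (C.spec.neg_lt _ hi) (C.spec.neg_lt _ hjn) b2 (by rw [C.spec.neg_neg _ hi]; exact b1) b4 t u⟩

include K in
theorem hl_eq_nGen : ∀ (J : List ℕ), (∀ i ∈ J, i < D.rank) → commNodes T J = true → ∀ u : F,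
    nGen C f (J.map T.simp') u * nGen C f (J.map T.simp') (-1) = hl C f J u
  | [], _, _, u => by simp [nGen, hl]
  | i :: m, hJ, h, u => by
    obtain ⟨h1, h2⟩ := List.pairwise_cons.1 (nodes_pairwise C K (F := F) (i :: m) hJ h)
    have hi := C.spec.simp_lt i (hJ i (by simp))
    have hm : ∀ j ∈ m, j < D.rank := fun j hj => hJ j (by simp [hj])
    have hm' : commNodes T m = true := by simp only [commNodes, Bool.and_eq_true] at h; exact h.1
    have hcomm : ∀ (a b : F), Commute (ng C (T.simp' i) a) (nGen C f (m.map T.simp') b) := by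
      intro a b
      rw [nGen_eq C f _ b (fun r hr => by
        obtain ⟨j, hj, rfl⟩ := List.mem_map.1 hr
        exact C.spec.simp_lt j (hm j hj)) (nodes_pairwise C K m hm hm'), ng, C.spec.shape.neg_eq _ hi]
      have p1 : ∀ t v, Commute (xg C (T.simp' i) t) (orbEl C f (m.map T.simp') v) := fun t v =>
        orbEl_commute C _ _ fun s hs u => (h1 s hs t u).1
      have p2 : ∀ t v, Commute (xg C (T.simp' i) t) (orbEl C f ((m.map T.simp').map T.neg) v) := fun t v =>
        orbEl_commute C _ _ fun s hs u => by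
          obtain ⟨s', hs', rfl⟩ := List.mem_map.1 hs
          exact (h1 s' hs' t u).2.1
      have p3 : ∀ t v, Commute (xg C (T.neg (T.simp' i)) t) (orbEl C f (m.map T.simp') v) := fun t v =>
        orbEl_commute C _ _ fun s hs u => (h1 s hs t u).2.2.1
      have p4 : ∀ t v, Commute (xg C (T.neg (T.simp' i)) t) (orbEl C f ((m.map T.simp').map T.neg) v) := fun t v =>
        orbEl_commute C _ _ fun s hs u => by
          obtain ⟨s', hs', rfl⟩ := List.mem_map.1 hs
          exact (h1 s' hs' t u).2.2.2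
      exact (((p1 _ _).mul_left (p3 _ _)).mul_left (p1 _ _)).mul_right
        (((p2 _ _).mul_left (p4 _ _)).mul_left (p2 _ _)) |>.mul_right
          (((p1 _ _).mul_left (p3 _ _)).mul_left (p1 _ _))
    simp only [List.map_cons, nGen, hl]
    rw [← hl_eq_nGen m hm hm' (f u), map_neg, map_one, hg]
    calc ng C (T.simp' i) u * nGen C f (m.map T.simp') (f u) * (ng C (T.simp' i) (-1) * nGen C f (m.map T.simp') (-1))
        = ng C (T.simp' i) u * (nGen C f (m.map T.simp') (f u) * ng C (T.simp' i) (-1)) *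
            nGen C f (m.map T.simp') (-1) := by group
      _ = _ := by rw [← (hcomm (-1) (f u)).eq]; group

/-- The generating elements of the twisted group. -/
def clsGens (C : Cert D T) (f : F →+* F) (orbs : List (List ℕ)) : Set (GL D.Idx F) :=
  {g | ∃ O ∈ orbs, ∃ v : F, f^[O.length] v = v ∧ (g = cel C f (posCls T O) v ∨ g = cel C f (negCls T O) v)}

include K in
/-- Two generators of a twisted group. -/
theorem two_tw [Fintype F] {q k : ℕ} (hq : 2 ≤ q) (hk : k = 2 ∨ k = 3) (hf : ∀ t, f t = t ^ q)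
    (hfk : ∀ t, f^[k] t = t) (hcard : Fintype.card F = q ^ k) {orbs : List (List ℕ)} {J : List ℕ}
    {ua ug : List (List ℕ)} {Oa Og : List ℕ} {l : List TStep}
    (hchk : chkTwGen T orbs J k ua Oa ug Og l = true) {G : Subgroup (GL D.Idx F)}
    (hG : G = Subgroup.closure (clsGens C f orbs)) :
    ∃ a b : ↥G, Subgroup.closure ({a, b} : Set ↥G) = ⊤ := by
  classical
  simp only [chkTwGen, Bool.and_eq_true, Nat.blt_eq, List.all_eq_true, Nat.beq_eq, List.mem_range,
    decide_eq_true_eq, C.spec.shape.rank_eq, List.contains_iff_mem] at hchk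
  obtain ⟨horb, hmem, hJr, hJk, hk1, hJc, ⟨hoka', hlena', hgena'⟩, ⟨hoka, hgena⟩, ⟨hokg, hleng, hgexp⟩, hrun⟩ := hchk
  have hw : IsWord D orbs.flatten := fun i hi => by
    obtain ⟨O, hO, hi⟩ := List.mem_flatten.1 hi
    exact (horb O hO).2.2.1 i hi
  have hlt : ∀ {c : Cls}, clsOK T k c = true → ∀ p ∈ c, p.1 < D.nroots := fun {c} h p hp =>
    C.spec.shape.nroots_eq ▸ ((clsOK_data h).2.1 p hp).1
  have hn1 : ∀ O ∈ orbs, ∀ u : F, f^[O.length] u = u → nGen C f (O.map T.simp') u ∈ G := by
    intro O hO u hu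
    have hOr := (horb O hO).2.2.1
    rw [nGen_eq C f _ u (fun r hr => by
      obtain ⟨j, hj, rfl⟩ := List.mem_map.1 hr
      exact C.spec.simp_lt j (hOr j hj)) (nodes_pairwise C K O hOr (horb O hO).2.2.2), ← cel_pos, ← cel_neg, hG]
    have hfix : f^[O.length] (-u⁻¹) = -u⁻¹ := by
      rw [iterate_map_neg f,
        (Function.Semiconj.iterate_right (f := fun x : F => x⁻¹) (ga := f) (gb := f) (fun x => (map_inv₀ f x).symm)
          O.length u).symm, hu]
    refine mul_mem (mul_mem (Subgroup.subset_closure ⟨O, hO, u, hu, Or.inl rfl⟩)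
      (Subgroup.subset_closure ⟨O, hO, _, hfix, Or.inr rfl⟩)) (Subgroup.subset_closure ⟨O, hO, u, hu, Or.inl rfl⟩)
  have hwnu : ∀ us : List (List ℕ), (∀ O ∈ us, O ∈ orbs) → wnu C F us.flatten ∈ G := by
    intro us
    induction us with
    | nil => intro _; simp [wnu]
    | cons O us ih =>
      intro h
      rw [List.flatten_cons, wnu_append, ← nGen_one C f O]
      exact mul_mem (hn1 O (h O (by simp)) 1 (iterate_map_one f _)) (ih fun P hP => h P (by simp [hP]))
  have helG : ∀ (us : List (List ℕ)) (O : List ℕ), (∀ P ∈ us, P ∈ orbs) → O ∈ orbs → ∀ v : F,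
      f^[O.length] v = v → cel C f (mapCls T us.flatten (posCls T O)) v ∈ G := by
    intro us O hus hO v hv
    rw [← conj_cel C f (fun i hi => by
      obtain ⟨P, hP, hi⟩ := List.mem_flatten.1 hi
      exact (horb P (hus P hP)).2.2.1 i hi) _ (hlt (horb O hO).1)]
    exact mul_mem (mul_mem (hwnu us hus) (hG ▸ Subgroup.subset_closure ⟨O, hO, v, hv, Or.inl rfl⟩))
      (inv_mem (hwnu us hus))
  set a' := mapCls T ua.flatten (posCls T Oa) with ha'
  set g := mapCls T ug.flatten (posCls T Og) with hg'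
  set a := mapCls T orbs.flatten a' with ha
  have hmems : (∀ P ∈ ua, P ∈ orbs) ∧ Oa ∈ orbs ∧ (∀ P ∈ ug, P ∈ orbs) ∧ Og ∈ orbs ∧ J ∈ orbs :=
    ⟨fun P hP => hmem P (by simp [hP]), hmem _ (by simp), fun P hP => hmem P (by simp [hP]), hmem _ (by simp),
      hmem _ (by simp)⟩
  obtain ⟨v₀, hv₀⟩ := IsCyclic.exists_generator (α := Fˣ)
  set u : F := (v₀ : F) with hu
  have hu0 : u ≠ 0 := v₀.ne_zero
  set h := hl C f J u with hh
  set N : GL D.Idx F := wnu C F orbs.flatten with hN
  have hlena : a.length = k := by rw [ha, mapCls, List.length_map, hlena']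
  have hJfix : ∀ t : F, f^[J.length] t = t := fun t => by rw [hJk, hfk]
  have hhG : h ∈ G := by
    rw [hh, ← hl_eq_nGen C f K J hJr hJc]
    exact mul_mem (hn1 J hmems.2.2.2.2 _ (hJfix _)) (hn1 J hmems.2.2.2.2 _ (hJfix _))
  have hNG : N ∈ G := hwnu orbs fun P hP => hP
  have hOalen : Oa.length = k := by simpa [ha', mapCls, posCls] using hlena'
  have haG : cel C f a (1 : F) ∈ G := by
    rw [ha, ← conj_cel C f hw _ (hlt hoka')]
    exact mul_mem (mul_mem hNG (helG ua Oa hmems.1 hmems.2.1 1 (iterate_map_one f _))) (inv_mem hNG)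
  have hgG : cel C f g (1 : F) ∈ G := helG ug Og hmems.2.2.1 hmems.2.2.2.1 1 (iterate_map_one f _)
  set a0 := h * cel C f g (1 : F) with ha0
  set b0 := cel C f a (1 : F) * N with hb0
  refine two_of_le (a := a0) (b := b0) (mul_mem hhG hgG) (mul_mem haG hNG) ?_
  set H := Subgroup.closure ({a0, b0} : Set (GL D.Idx F)) with hH
  have haH : a0 ∈ H := Subgroup.subset_closure (Set.mem_insert _ _)
  have hbH : b0 ∈ H := Subgroup.subset_closure (Set.mem_insert_of_mem _ rfl)
  have gacts : jActs T J a = true ∧ jActs T J a' = true := by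
    simp only [jGen, Bool.and_eq_true] at hgena hgena'
    exact ⟨hgena.1, hgena'.1⟩
  set χ := chi T f J u (a.headD (0, 1)).1 with hχ
  set χ' := chi T f J u (a'.headD (0, 1)).1 with hχ'
  have hca : ∀ v : F, h * cel C f a v * h⁻¹ = cel C f a (χ * v) := fun v =>
    (hl_cel C f hJr hu0 a 0 (hlt hoka) (chi_shift f hk hJk hfk (Or.inr hlena) gacts.1 u).1 v)
  have hca' : ∀ v : F, h * cel C f a' v * h⁻¹ = cel C f a' (χ' * v) := fun v =>
    (hl_cel C f hJr hu0 a' 0 (hlt hoka') (chi_shift f hk hJk hfk (Or.inr hlena') gacts.2 u).1 v)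
  have hcg : ∀ v : F, h * cel C f g v * h⁻¹ = cel C f g v := fun v => by
    obtain ⟨p, hp⟩ := List.length_eq_one_iff.1 hleng
    rw [hp] at hgexp ⊢
    have h1 : chi T f J u p.1 = 1 := by
      rw [chi_eq]
      refine Finset.prod_eq_one fun m hm => ?_
      rw [hgexp m (hJk ▸ Finset.mem_range.1 hm) |> fun e => (by simpa using e : jExp T J m p.1 = 0), zpow_zero]
    have := hl_cel C f hJr hu0 (x := 1) [p] 0 (fun s hs => hlt hokg s (hp ▸ hs)) (fun pl hpl => by
      simp only [List.zipIdx_cons, List.zipIdx_nil, List.mem_singleton] at hpl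
      subst hpl
      simpa using h1) v
    rwa [Function.iterate_zero_apply, one_mul] at this
  -- the parts of the first generator
  have hcomm : Commute h (cel C f g (1 : F)) := mul_inv_eq_iff_eq_mul.1 (hcg 1)
  have hokgd := clsOK_data hokg
  have hpow : ∀ n : ℕ, cel C f g (1 : F) ^ n = cel C f g (n : F) := fun n => by
    induction n with
    | zero => rw [pow_zero, Nat.cast_zero, cel_zero C f K]
    | succ n ihn => rw [pow_succ, ihn, cel_add C f K g (hlt hokg) hokgd.2.2]; push_cast; rfl
  have hhpow : ∀ n : ℕ, h ^ n = hl C f J (u ^ n) := fun n => by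
    induction n with
    | zero => rw [pow_zero, pow_zero, hl_one C f J hJr]
    | succ n ihn => rw [pow_succ, ihn, hh, hl_mul C f J hJr _ _ (pow_ne_zero _ hu0) hu0, ← pow_succ]
  have hgP : cel C f g (1 : F) ∈ H := by
    have e := pow_mem haH (Fintype.card F - 1)
    rw [ha0, hcomm.mul_pow, hhpow, FiniteField.pow_card_sub_one_eq_one u hu0, hl_one C f J hJr, one_mul, hpow] at e
    have ec : ((Fintype.card F - 1 : ℕ) : F) = -1 := by
      rw [Nat.cast_sub Fintype.card_pos, FiniteField.cast_card_eq_zero, Nat.cast_one, zero_sub]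
    rw [ec] at e
    simpa [cel_inv C f K (hlt hokg) hokgd.2.2] using inv_mem e
  have hhH : h ∈ H := by
    have : h = a0 * (cel C f g (1 : F))⁻¹ := by rw [ha0]; group
    rw [this]; exact mul_mem haH (inv_mem hgP)
  -- the orbit subgroup of `a`
  set y := N * h * N⁻¹ with hy
  have hhD : h ∈ D.diagonalSubgroup F := hl_diag C f J hJr u hu0
  have hyD : y ∈ D.diagonalSubgroup F := (conj_mem_diag C (wnu_mem C hw) hhD).1
  have hoka_d := clsOK_data hoka
  have hyconj : ∀ v : F, y * cel C f a v * y⁻¹ = cel C f a (χ' * v) := fun v => by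
    rw [ha, ← conj_cel C f hw _ (hlt hoka'), ← conj_cel C f hw _ (hlt hoka'), ← hca', hy, hN]
    group
  have hχ1 : ∀ {c : Cls}, c.length = k → jGen T J c = true → chi T f J u (c.headD (0, 1)).1 ≠ 1 := by
    intro c hc hg1 e
    obtain ⟨i, hi⟩ := chi_generates f hq hk hf hfk hcard hv₀ hJk (Or.inr hc) hg1 hu0 (by rw [hc, hfk])
    rw [e, one_pow] at hi
    have hv1 : v₀ = 1 := Units.ext hi.symm
    have h2 : Fintype.card F ≤ 2 := by
      have := orderOf_eq_card_of_forall_mem_zpowers hv₀
      rw [hv1, orderOf_one, Nat.card_eq_fintype_card, Fintype.card_units] at this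
      omega
    rw [hcard] at h2
    have : 2 ^ 2 ≤ q ^ k := (Nat.pow_le_pow_left hq 2).trans (Nat.pow_le_pow_right (by omega) (by omega))
    omega
  set d : F := (χ - 1) * (1 - χ') with hd
  have hd0 : d ≠ 0 :=
    mul_ne_zero (sub_ne_zero.2 (hχ1 hlena hgena)) (sub_ne_zero.2 (hχ1 hlena' hgena').symm)
  have hz : b0 * h * b0⁻¹ = cel C f a (1 - χ') * y := by
    have e : y * (cel C f a (1 : F))⁻¹ = cel C f a (-χ') * y := by
      rw [cel_inv C f K (hlt hoka) hoka_d.2.2, ← mul_inv_eq_iff_eq_mul, hyconj, mul_neg, mul_one]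
    calc b0 * h * b0⁻¹ = cel C f a (1 : F) * (y * (cel C f a (1 : F))⁻¹) := by rw [hb0, hy]; group
      _ = cel C f a (1 : F) * cel C f a (-χ') * y := by rw [e, mul_assoc]
      _ = _ := by rw [cel_add C f K a (hlt hoka) hoka_d.2.2, ← sub_eq_add_neg]
  have hpt : cel C f a d ∈ H := by
    have hzH : b0 * h * b0⁻¹ ∈ H := mul_mem (mul_mem hbH hhH) (inv_mem hbH)
    have key : h * (b0 * h * b0⁻¹) * h⁻¹ * (b0 * h * b0⁻¹)⁻¹ = cel C f a d := by
      rw [hz]
      have hhy : h * y * h⁻¹ = y := by rw [diag_comm C hhD hyD]; group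
      calc h * (cel C f a (1 - χ') * y) * h⁻¹ * (cel C f a (1 - χ') * y)⁻¹
          = (h * cel C f a (1 - χ') * h⁻¹) * (h * y * h⁻¹) * y⁻¹ * (cel C f a (1 - χ'))⁻¹ := by group
        _ = _ := by
          rw [hca, hhy, mul_inv_cancel_right, cel_inv C f K (hlt hoka) hoka_d.2.2,
            cel_add C f K a (hlt hoka) hoka_d.2.2]
          congr 1
          rw [hd]; ring
    rw [← key]
    exact mul_mem (mul_mem (mul_mem hhH hzH) (inv_mem hhH)) (inv_mem hzH)
  have hA : ∀ t : F, cel C f a t ∈ H := by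
    intro t
    rcases eq_or_ne t 0 with rfl | ht
    · rw [cel_zero C f K]; exact one_mem H
    obtain ⟨i, hi⟩ := chi_generates f hq hk hf hfk hcard hv₀ hJk (Or.inr hlena) hgena (div_ne_zero ht hd0)
      (by rw [hlena, hfk])
    have : ∀ i : ℕ, cel C f a (χ ^ i * d) ∈ H := fun i => by
      induction i with
      | zero => simpa using hpt
      | succ i ihi =>
        rw [pow_succ', mul_assoc, ← hca]
        exact mul_mem (mul_mem hhH ihi) (inv_mem hhH)
    have := this i
    rwa [hχ, hi, div_mul_cancel₀ t hd0] at this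
  have hNH : N ∈ H := by
    have : N = (cel C f a (1 : F))⁻¹ * b0 := by rw [hb0]; group
    rw [this]; exact mul_mem (inv_mem (hA 1)) hbH
  cases hr : runTw T orbs.flatten J k [a] [g] l with
  | none => rw [hr] at hrun; simp at hrun
  | some L =>
    rw [hr] at hrun
    simp only [Option.any_some, allGens, List.all_eq_true, Bool.and_eq_true] at hrun
    have hK₀ : ∀ c ∈ [a], FullC C f H c := fun c hc => by
      rw [List.mem_singleton] at hc; exact hc ▸ ⟨hlt hoka, fun t _ => hA t⟩
    have hP₀ : ∀ c ∈ [g], PointC C f H c := fun c hc => by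
      rw [List.mem_singleton] at hc; exact hc ▸ ⟨hlt hokg, hgP⟩
    have hfull := runTw_sound C f K hq hk hf hfk hcard hw hJr hJk hv₀ hNH hhH l [a] [g] L hK₀ hP₀ hr
    rw [hG]
    refine (Subgroup.closure_le _).2 ?_
    rintro x ⟨O, hO, v, hv, hx⟩
    rcases hx with rfl | rfl
    · exact (hfull _ (hasCls_mem (hrun O hO).1)).2 v (by rwa [posCls, List.length_map])
    · exact (hfull _ (hasCls_mem (hrun O hO).2)).2 v (by rwa [negCls, List.length_map])

end Cfsg.Lib.Chev.TwoGen
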