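import Cfsg.Agent.Lib.Chev.StAllTypes

/-! Over a finite field the relators (R3) follow from (R1) and (R2). -/

set_option autoImplicit false
set_option linter.unusedSectionVars false

namespace Cfsg.Lib.Chev

open Cfsg.Lie

variable {D : ChevalleyDatum} {T : Tbl} {F : Type*} [Field F]

namespace StAll

variable {C : Cert D T} {E : Type*} [Group E] (Φ : StAll C F E) (K : FullCert D T) (hN : HasNbr D T)
include K hN

theorem hH_mul_root (hmul : Φ.HMul) : ∀ r < D.nroots, ∀ t u : F, t ≠ 0 → u ≠ 0 →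
    Φ.hH r t * Φ.hH r u = Φ.hH r (t * u) := by
  refine C.root_induction (P := fun r => ∀ t u : F, t ≠ 0 → u ≠ 0 → Φ.hH r t * Φ.hH r u = Φ.hH r (t * u))
    (fun i hi t u ht hu => hmul i hi t u ht hu) ?_
  intro i hi r hr ih
  have hr' := C.spec.refl_lt i hi r hr
  set η : F := ((T.eta' i r : ℤ) : F) with hη
  have hη2 : η * η = 1 := eta_sq T i r
  have hn : ∀ v : F, v ≠ 0 → Φ.nuH i * Φ.nH r v * (Φ.nuH i)⁻¹ = Φ.nH (T.refl' i r) (η * v) := fun v hv => by
    have h1 := Φ.nuH_conj K hN hi hr v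
    have h2 := Φ.nuH_conj K hN hi (C.spec.neg_lt r hr) (-v⁻¹)
    rw [C.spec.refl_neg i hi r hr, C.spec.eta_neg i hi r hr] at h2
    have he : η⁻¹ = η := inv_eq_of_mul_eq_one_right hη2
    rw [StAll.nH, ← conj_mul, ← conj_mul, h1, h2, ← hη, StAll.nH,
      show η * -v⁻¹ = -(η * v)⁻¹ by rw [mul_inv, he]; ring]
  let g : F → E := fun v => Φ.nuH i * Φ.hH r v * (Φ.nuH i)⁻¹
  have hg : ∀ t u : F, t ≠ 0 → u ≠ 0 → g t * g u = g (t * u) := fun t u ht hu => by
    show Φ.nuH i * Φ.hH r t * (Φ.nuH i)⁻¹ * (Φ.nuH i * Φ.hH r u * (Φ.nuH i)⁻¹) = _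
    rw [conj_mul, ih t u ht hu]
  have hgv : ∀ v : F, v ≠ 0 → g v = Φ.nH (T.refl' i r) (η * v) * Φ.nH (T.refl' i r) (-η) := fun v hv => by
    show Φ.nuH i * Φ.hH r v * (Φ.nuH i)⁻¹ = _
    rw [StAll.hH, ← conj_mul, hn v hv, hn _ (neg_ne_zero.2 one_ne_zero), mul_neg_one]
  rcases mul_self_eq_one_iff.1 hη2 with e | e
  · intro t u ht hu
    have h := hg t u ht hu
    rw [hgv t ht, hgv u hu, hgv _ (mul_ne_zero ht hu), e] at h
    simp only [one_mul] at h
    exact h
  · have hf : ∀ v : F, v ≠ 0 → g v = Φ.hH (T.refl' i r) (-v) * (Φ.hH (T.refl' i r) (-1))⁻¹ := fun v hv => by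
      rw [hgv v hv, e, neg_one_mul, neg_neg, StAll.hH, StAll.hH, mul_inv_rev,
        show Φ.nH (T.refl' i r) (1 : F) = (Φ.nH (T.refl' i r) (-1))⁻¹ by rw [Φ.nH_inv hr', neg_neg]]
      group
    have hgf : ∀ v : F, v ≠ 0 → Φ.hH (T.refl' i r) v = g v := fun v hv => by
      have h1 := hf (-v) (neg_ne_zero.2 hv)
      have h2 := hf (-1) (neg_ne_zero.2 one_ne_zero)
      rw [neg_neg] at h1 h2
      rw [Φ.hH_one hr', one_mul] at h2
      have h3 : Φ.hH (T.refl' i r) v = g (-v) * (g (-1))⁻¹ := by rw [h1, h2, inv_inv, inv_mul_cancel_right]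
      rw [h3, mul_inv_eq_iff_eq_mul, hg v (-1) hv (neg_ne_zero.2 one_ne_zero), mul_neg_one]
    intro t u ht hu
    rw [hgf t ht, hgf u hu, hgf _ (mul_ne_zero ht hu), hg t u ht hu]

end StAll

theorem stH_mk {D : ChevalleyDatum} {T : Tbl} (C : Cert D T) (K : CommCert D T) {rels : Set (FreeGroup (Fin D.nroots × F))}
    (h1 : D.steinbergRelsAB F ⊆ rels) (h2 : rels ⊆ D.steinbergRels F) {r : ℕ} (hr : r < D.nroots) (t : F) :
    PresentedGroup.mk rels (D.stH r t) = (presFam C K h1 h2).hH r t := by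
  rw [ChevalleyDatum.stH, hom_stWord]
  simp [ChevalleyDatum.hWord, ChevalleyDatum.nWord, StAll.hH, StAll.nH, presFam, C.spec.shape.neg_eq r hr, mul_assoc]

/-- Over a finite field the group presented by (R1), (R2) is the one presented by (R1), (R2), (R3). -/
theorem exists_coverEquiv [Finite F] {D : ChevalleyDatum}
    (hD : D ∈ [chevG2, chevB2, chevD4, chevF4, chevE6, chevE7, chevE8]) :
    ∃ e : D.SteinbergCover F ≃* D.SteinbergGroup F, ∀ (r : ℕ) (t : F), e (D.scGen F r t) = D.stGen F r t := by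
  obtain ⟨T, K, hN⟩ := exists_nbrCert hD
  let C := K.comm.cert
  let Φ := presFam (F := F) C K.comm (subset_rfl : D.steinbergRelsAB F ⊆ _) relsAB_subset
  have hmul : Φ.HMul := Φ.hMul_of_finite K hN
  have hlift : ∀ (rels : Set (FreeGroup (Fin D.nroots × F))) (g : FreeGroup (Fin D.nroots × F)),
      FreeGroup.lift (fun p => PresentedGroup.of (rels := rels) p) g = PresentedGroup.mk rels g := fun rels g =>
    DFunLike.congr_fun (FreeGroup.ext_hom _ _ (fun p => by rw [FreeGroup.lift_apply_of]; rfl) :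
      FreeGroup.lift (fun p => PresentedGroup.of (rels := rels) p) = PresentedGroup.mk rels) g
  let f₁ : D.SteinbergCover F →* D.SteinbergGroup F :=
    PresentedGroup.toGroup (f := fun p => PresentedGroup.of p) fun g hg => by
      rw [hlift]; exact PresentedGroup.one_of_mem (Or.inl hg)
  let f₂ : D.SteinbergGroup F →* D.SteinbergCover F :=
    PresentedGroup.toGroup (f := fun p => PresentedGroup.of p) fun g hg => by
      rw [hlift]
      rcases hg with hg | ⟨r, t, u, hr, ht, hu, rfl⟩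
      · exact PresentedGroup.one_of_mem hg
      · rw [map_mul, map_mul, map_inv, stH_mk C K.comm subset_rfl relsAB_subset hr,
          stH_mk C K.comm subset_rfl relsAB_subset hr, stH_mk C K.comm subset_rfl relsAB_subset hr, mul_inv_eq_one]
        exact Φ.hH_mul_root K hN hmul r hr t u ht hu
  refine ⟨MonoidHom.toMulEquiv f₁ f₂ (PresentedGroup.ext fun p => ?_) (PresentedGroup.ext fun p => ?_), fun r t => ?_⟩
  · simp [f₁, f₂]
  · simp [f₁, f₂]
  · rw [MonoidHom.toMulEquiv_apply, ChevalleyDatum.scGen, ChevalleyDatum.stGen]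
    exact hlift _ _

end Cfsg.Lib.Chev
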