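import Mathlib
import Cfsg.Agent.Lib.Chev.GraphAll
import Cfsg.Agent.Lib.Chev.GraphGen

/-!
The symmetries of the diagrams of D4 and E6 and their root permutations.
-/

set_option autoImplicit false
set_option maxRecDepth 4000
set_option synthInstance.maxSize 1000
set_option synthInstance.maxHeartbeats 400000

namespace Cfsg.Lib.Chev

open Cfsg.Lie

/-- The root permutation of a node map, as in `permRoot`. -/
def permRootFn (D : ChevalleyDatum) (f : ℕ → ℕ) (r : ℕ) : ℕ :=
  ((List.range D.nroots).find? fun s => (List.range D.rank).all fun i =>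
      (D.coroot.getD s #[]).getD (f i) 0 == (D.coroot.getD r #[]).getD i 0).getD r

theorem permRoot_eq_fn (D : ChevalleyDatum) (π : Equiv.Perm (Fin D.rank)) (f : ℕ → ℕ)
    (hf : ∀ i : Fin D.rank, (π i).val = f i) (r : ℕ) : D.permRoot π r = permRootFn D f r := by
  unfold ChevalleyDatum.permRoot permRootFn
  congr 2
  funext s
  rw [Bool.eq_iff_iff, List.all_eq_true, List.all_eq_true]
  constructor
  · intro h i hi
    have := h ⟨i, List.mem_range.1 hi⟩ (List.mem_finRange _)
    rwa [hf] at this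
  · intro h i _
    rw [hf]
    exact h i.val (List.mem_range.2 i.2)

/-- The check of one symmetry against `permRoot`. -/
def chkPermRoot (D : ChevalleyDatum) (S : Sym) : Bool :=
  (List.range D.nroots).all fun r => permRootFn D S.node r == S.root r

theorem permRootD4_0 : chkPermRoot chevD4 symD4_0 = true := by decide +kernel
theorem permRootD4_1 : chkPermRoot chevD4 symD4_1 = true := by decide +kernel
theorem permRootD4_2 : chkPermRoot chevD4 symD4_2 = true := by decide +kernel
theorem permRootD4_3 : chkPermRoot chevD4 symD4_3 = true := by decide +kernel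
theorem permRootD4_4 : chkPermRoot chevD4 symD4_4 = true := by decide +kernel
theorem permRootD4_5 : chkPermRoot chevD4 symD4_5 = true := by decide +kernel
theorem permRootE6_0 : chkPermRoot chevE6 symE6_0 = true := by decide +kernel
theorem permRootE6_1 : chkPermRoot chevE6 symE6_1 = true := by decide +kernel

theorem symsD4_classify : ∀ a : Fin 4, ∀ b : Fin 4, a ≠ b → chevD4.bonds a b = chevD4.bonds 0 1 →
    ∀ c : Fin 4, c ≠ a → c ≠ b → chevD4.bonds a c = chevD4.bonds 0 2 → chevD4.bonds b c = chevD4.bonds 1 2 →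
    ∀ d : Fin 4, d ≠ a → d ≠ b → d ≠ c → chevD4.bonds a d = chevD4.bonds 0 3 → chevD4.bonds b d = chevD4.bonds 1 3 →
      [a.val, b.val, c.val, d.val] ∈ [symD4_0.p, symD4_1.p, symD4_2.p, symD4_3.p, symD4_4.p, symD4_5.p] := by
  decide +kernel

theorem symsE6_classify : ∀ a : Fin 6, ∀ d : Fin 6, a ≠ d → chevE6.bonds a d = chevE6.bonds 0 3 →
    ∀ c : Fin 6, c ≠ a → c ≠ d → chevE6.bonds a c = chevE6.bonds 0 2 → chevE6.bonds c d = chevE6.bonds 2 3 →
    ∀ b : Fin 6, b ≠ a → b ≠ d → b ≠ c → chevE6.bonds b d = chevE6.bonds 1 3 → chevE6.bonds a b = chevE6.bonds 0 1 →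
      chevE6.bonds b c = chevE6.bonds 1 2 →
    ∀ e : Fin 6, e ≠ a → e ≠ d → e ≠ c → e ≠ b → chevE6.bonds d e = chevE6.bonds 3 4 → chevE6.bonds a e = chevE6.bonds 0 4 →
    ∀ f : Fin 6, f ≠ a → f ≠ d → f ≠ c → f ≠ b → f ≠ e → chevE6.bonds e f = chevE6.bonds 4 5 →
      chevE6.bonds d f = chevE6.bonds 3 5 →
      [a.val, b.val, c.val, d.val, e.val, f.val] ∈ [symE6_0.p, symE6_1.p] := by
  decide +kernel

theorem exists_symOK_of_symmetry {D : ChevalleyDatum} (hD : D ∈ [chevD4, chevE6]) {π : Equiv.Perm (Fin D.rank)}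
    (hπ : D.IsDiagramSymmetry π) : ∃ T S, Cert D T ∧ SymOK D T S ∧ (∀ i : Fin D.rank, (π i).val = S.node i) ∧
      ∀ r < D.nroots, D.permRoot π r = S.root r := by
  simp only [List.mem_cons, List.not_mem_nil, or_false] at hD
  rcases hD with rfl | rfl
  · let p : Fin 4 → Fin 4 := fun i => π i
    have hinj : ∀ i j : Fin 4, i ≠ j → p i ≠ p j := fun i j h e => h (π.injective e)
    have hb : ∀ i j : Fin 4, i ≠ j → chevD4.bonds (p i) (p j) = chevD4.bonds i j := fun i j h => hπ i j h
    have h := symsD4_classify (p 0) (p 1) (hinj _ _ (by decide)) (hb 0 1 (by decide))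
      (p 2) (hinj _ _ (by decide)) (hinj _ _ (by decide)) (hb 0 2 (by decide)) (hb 1 2 (by decide))
      (p 3) (hinj _ _ (by decide)) (hinj _ _ (by decide)) (hinj _ _ (by decide)) (hb 0 3 (by decide)) (hb 1 3 (by decide))
    have fin : ∀ S : Sym, [(p 0).val, (p 1).val, (p 2).val, (p 3).val] = S.p → chkSym tblD4 S = true →
        chkPermRoot chevD4 S = true → ∃ T S, Cert chevD4 T ∧ SymOK chevD4 T S ∧
          (∀ i : Fin chevD4.rank, (π i).val = S.node i) ∧ ∀ r < chevD4.nroots, chevD4.permRoot π r = S.root r := by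
      intro S hS h1 h2
      have hn : ∀ i : Fin 4, (p i).val = S.node i := fun i => by
        rw [Sym.node, ← hS]; fin_cases i <;> rfl
      refine ⟨tblD4, S, fullCertD4.comm.cert, symOK_of_chk fullCertD4.comm.cert.spec.shape h1, hn, fun r hr => ?_⟩
      rw [permRoot_eq_fn chevD4 π S.node hn]
      exact beq_iff_eq.1 (List.all_eq_true.1 h2 r (List.mem_range.2 hr))
    simp only [List.mem_cons, List.not_mem_nil, or_false] at h
    rcases h with h | h | h | h | h | h
    exacts [fin _ h chkSymD4_0 permRootD4_0, fin _ h chkSymD4_1 permRootD4_1, fin _ h chkSymD4_2 permRootD4_2,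
      fin _ h chkSymD4_3 permRootD4_3, fin _ h chkSymD4_4 permRootD4_4, fin _ h chkSymD4_5 permRootD4_5]
  · let p : Fin 6 → Fin 6 := fun i => π i
    have hinj : ∀ i j : Fin 6, i ≠ j → p i ≠ p j := fun i j h e => h (π.injective e)
    have hb : ∀ i j : Fin 6, i ≠ j → chevE6.bonds (p i) (p j) = chevE6.bonds i j := fun i j h => hπ i j h
    have h := symsE6_classify (p 0) (p 3) (hinj _ _ (by decide)) (hb 0 3 (by decide))
      (p 2) (hinj _ _ (by decide)) (hinj _ _ (by decide)) (hb 0 2 (by decide)) (hb 2 3 (by decide))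
      (p 1) (hinj _ _ (by decide)) (hinj _ _ (by decide)) (hinj _ _ (by decide)) (hb 1 3 (by decide)) (hb 0 1 (by decide))
      (hb 1 2 (by decide))
      (p 4) (hinj _ _ (by decide)) (hinj _ _ (by decide)) (hinj _ _ (by decide)) (hinj _ _ (by decide)) (hb 3 4 (by decide)) (hb 0 4 (by decide))
      (p 5) (hinj _ _ (by decide)) (hinj _ _ (by decide)) (hinj _ _ (by decide)) (hinj _ _ (by decide)) (hinj _ _ (by decide)) (hb 4 5 (by decide))
      (hb 3 5 (by decide))
    have fin : ∀ S : Sym, [(p 0).val, (p 1).val, (p 2).val, (p 3).val, (p 4).val, (p 5).val] = S.p →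
        chkSym tblE6 S = true → chkPermRoot chevE6 S = true → ∃ T S, Cert chevE6 T ∧ SymOK chevE6 T S ∧
          (∀ i : Fin chevE6.rank, (π i).val = S.node i) ∧ ∀ r < chevE6.nroots, chevE6.permRoot π r = S.root r := by
      intro S hS h1 h2
      have hn : ∀ i : Fin 6, (p i).val = S.node i := fun i => by
        rw [Sym.node, ← hS]; fin_cases i <;> rfl
      refine ⟨tblE6, S, fullCertE6.comm.cert, symOK_of_chk fullCertE6.comm.cert.spec.shape h1, hn, fun r hr => ?_⟩
      rw [permRoot_eq_fn chevE6 π S.node hn]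
      exact beq_iff_eq.1 (List.all_eq_true.1 h2 r (List.mem_range.2 hr))
    simp only [List.mem_cons, List.not_mem_nil, or_false] at h
    rcases h with h | h
    exacts [fin _ h chkSymE6_0 permRootE6_0, fin _ h chkSymE6_1 permRootE6_1]

end Cfsg.Lib.Chev
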