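import Cfsg.Agent.Lib.Chev.PairCentral
import Cfsg.Agent.Lib.Chev.Sylow

/-!
A checker of reduction trees for involutions in the positive unipotent group of a simply laced Chevalley group in
characteristic two. Positive roots are addressed by their position among the positive roots.
-/

set_option autoImplicit false
set_option maxRecDepth 100000

namespace Cfsg.Lib.Chev

/-- Polynomials modulo two: lists of monomials, each a sorted list of variables. -/
abbrev QPoly := List (List ℕ)

/-- Insert a variable into a monomial. -/
def qmIns (x : ℕ) : List ℕ → List ℕ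
  | [] => [x]
  | y :: l => bif Nat.ble x y then x :: y :: l else y :: qmIns x l

/-- The product of monomials. -/
def qmMul (a b : List ℕ) : List ℕ := a.foldr qmIns b

/-- Equality of monomials. -/
def qmEq : List ℕ → List ℕ → Bool
  | [], [] => true
  | x :: a, y :: b => Nat.beq x y && qmEq a b
  | _, _ => false

/-- Add a monomial. -/
def qTog (m : List ℕ) : QPoly → QPoly
  | [] => [m]
  | x :: p => bif qmEq x m then p else x :: qTog m p

/-- The sum of polynomials. -/
def qAdd (p q : QPoly) : QPoly := p.foldr qTog q

/-- The product of polynomials. -/
def qMul (p q : QPoly) : QPoly := p.foldr (fun a r => q.foldr (fun b r => qTog (qmMul a b) r) r) []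

/-- The sums of positive roots: the byte `j` of the number at `i` is zero, or one more than the position of the sum. -/
structure EnTbl where
  num : ℕ
  sums : BT

/-- One more than the position of the sum of two positive roots, or zero. -/
def EnTbl.sum (E : EnTbl) (i j : ℕ) : ℕ := slot (E.sums.get i) 8 j

/-- The table of sums agrees with the table of the datum. -/
noncomputable def chkEn (T : Tbl) (E : EnTbl) : Bool :=
  Nat.beq (2 * E.num) T.nroots && allBelow (fun i => allBelow (fun j => Nat.beq i j ||
    (!Nat.beq (E.num + i) (T.neg (E.num + j)) &&
      (match E.sum i j with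
        | 0 => (oddTerms T (E.num + j) (E.num + i)).isEmpty
        | c + 1 => Nat.blt i c && (Nat.blt j c && (Nat.blt c E.num &&
            (oddTerms T (E.num + j) (E.num + i) == [(E.num + c, 1, 1)])))))) E.num) E.num

/-- The positions outside `M` form an ideal. -/
noncomputable def chkMask (E : EnTbl) (M : ℕ) : Bool :=
  allBelow (fun i => allBelow (fun j => Nat.beq i j ||
    (match E.sum i j with
      | 0 => true
      | c + 1 => !M.testBit c || (M.testBit i && M.testBit j))) E.num) E.num

/-- Insert from the left into a product ordered by positions, dropping the positions outside `M`. -/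
def eIns (E : EnTbl) (M : ℕ) : ℕ → ℕ → QPoly → List (ℕ × QPoly) → List (ℕ × QPoly)
  | 0, i, a, l => (i, a) :: l
  | _ + 1, i, a, [] => [(i, a)]
  | n + 1, i, a, (j, b) :: l =>
    bif Nat.blt i j then (i, a) :: (j, b) :: l
    else bif Nat.beq i j then
      (match qAdd a b with
        | [] => l
        | m :: p => (j, m :: p) :: l)
    else (j, b) :: eIns E M n i a
      (match E.sum i j with
        | 0 => l
        | c + 1 => bif !M.testBit c then l else
            (match qMul b a with
              | [] => l
              | m :: p => eIns E M n c (m :: p) l))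

/-- The normal form of a word, without the positions outside `M`. -/
def eNf (E : EnTbl) (M : ℕ) : List (ℕ × QPoly) → List (ℕ × QPoly)
  | [] => []
  | (i, a) :: w => bif !M.testBit i then eNf E M w else eIns E M (E.num + 2) i a (eNf E M w)

/-- The coefficient at a position. -/
def eGet : List (ℕ × QPoly) → ℕ → QPoly
  | [], _ => []
  | (i, a) :: l, x => bif Nat.beq i x then a else eGet l x

/-- The positions increase from `k` on and stay below `n`. -/
def eOrd (n : ℕ) : ℕ → List (ℕ × QPoly) → Bool
  | _, [] => true
  | k, (i, _) :: l => Nat.ble k i && (Nat.blt i n && eOrd n (i + 1) l)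

/-- Steps on products of root elements with parameter one. -/
inductive EStep where
  | add (q : ℕ)
  | perm (w : List ℕ)

/-- Steps of a reduction. -/
inductive EnOp where
  | one
  | sq (x : ℕ) (ch : List (ℕ × ℕ))
  | kill (q r k c : ℕ)
  | refl (i c : ℕ)
  | add (q c : ℕ)
  | split (r c₀ c₁ : ℕ)
  | ones (m : ℕ) (Z : List (List ℤ)) (st : List EStep)

/-- A node: the possible support, the certain support, and the step. -/
abbrev EnNode := ℕ × ℕ × EnOp

/-- The positions in the support. -/
def eSupp (E : EnTbl) (S : ℕ) : List ℕ := (List.range E.num).filter (Nat.testBit S)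

/-- The generic word of a support. -/
def eWord (E : EnTbl) (S : ℕ) : List (ℕ × QPoly) := (eSupp E S).map fun x => (x, [[x]])

/-- The word with all parameters one. -/
def eOnes (l : List ℕ) : List (ℕ × QPoly) := l.map fun x => (x, [[]])

/-- The position of the image of a positive root. -/
noncomputable def eImg (T : Tbl) (E : EnTbl) (w : List ℕ) (x : ℕ) : ℕ := wperm T w (E.num + x) - E.num

/-- The images of the positions under a word are positive, and the word keeps the positions outside `M`. -/
noncomputable def eImgOk (T : Tbl) (E : EnTbl) (M : ℕ) (w : List ℕ) (l : List ℕ) : Bool :=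
  w.all (fun i => Nat.blt i T.rank) &&
    l.all (fun x => Nat.ble E.num (wperm T w (E.num + x)) && Nat.blt (wperm T w (E.num + x)) T.nroots) &&
    allBelow (fun x => M.testBit x || (Nat.ble E.num (wperm T w (E.num + x)) &&
      (Nat.blt (wperm T w (E.num + x)) T.nroots && !M.testBit (eImg T E w x)))) E.num

/-- A step on the supports of products with parameters one. -/
noncomputable def eStep (T : Tbl) (E : EnTbl) (M : ℕ) (l : List ℕ) : EStep → Option (List ℕ)
  | .add q =>
    let y := eNf E M ((q, [[]]) :: eOnes l ++ [(q, [[]])])
    bif Nat.blt q E.num && (eOrd E.num 0 y && y.all fun p => p.2 == [[]]) then some (y.map Prod.fst) else none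
  | .perm w =>
    bif eImgOk T E M w l then
      let y := eNf E M (eOnes (l.map (eImg T E w)))
      bif eOrd E.num 0 y && y.all (fun p => p.2 == [[]]) then some (y.map Prod.fst) else none
    else none

/-- Several steps. -/
noncomputable def eSteps (T : Tbl) (E : EnTbl) (M : ℕ) : List ℕ → List EStep → Option (List ℕ)
  | l, [] => some l
  | l, s :: st =>
    match eStep T E M l s with
    | none => none
    | some l' => eSteps T E M l' st

/-- The torus with parameters given by `Z` scales the supported roots by the `m`-th power of one parameter each. -/
noncomputable def eTorusOk (T : Tbl) (E : EnTbl) (l : List ℕ) (m : ℕ) (Z : List (List ℤ)) : Bool :=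
  allBelow (fun a => allBelow (fun b =>
    decide ((((List.range T.rank).map fun i => ((Z.getD a []).getD i 0) * T.cartan i (E.num + l.getD b 0)).sum) =
      if a = b then ((2 ^ m : ℕ) : ℤ) else 0)) l.length) l.length

/-- Positions that are nonzero monomials in the certain variables. -/
def eGood (E : EnTbl) (N : ℕ) : List (ℕ × QPoly) → ℕ
  | [] => 0
  | (i, p) :: l =>
    match p with
    | [mo] => bif mo.all (fun v => Nat.blt v E.num && N.testBit v) then 2 ^ i ||| eGood E N l else eGood E N l
    | _ => eGood E N l

/-- The earlier node covers the values `y`, position `skip` excepted. -/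
def eCovers (E : EnTbl) (M : ℕ) (look : ℕ → Option EnNode) (k c skip N : ℕ) (y : List (ℕ × QPoly)) : Bool :=
  Nat.blt c k && eOrd E.num 0 y &&
  (match look c with
    | none => false
    | some (S', N', _) => y.all (fun p => !M.testBit p.1 || (S'.testBit p.1 || Nat.beq p.1 skip)) &&
        (Nat.beq (N' &&& (eGood E N y &&& M)) N' &&
          Nat.beq ((S' ||| M) &&& (2 ^ E.num - 1)) (2 ^ E.num - 1)))

/-- One node is correct, given the earlier ones. -/
noncomputable def eNodeOk (T : Tbl) (E : EnTbl) (M : ℕ) (R : List (List ℕ)) (look : ℕ → Option EnNode) (k : ℕ) :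
    EnNode → Bool
  | (S, _, .one) => Nat.beq (S &&& M) 0
  | (S, N, .sq x ch) =>
      let y := eNf E (M &&& (2 ^ (x + 1) - 1)) (eWord E S ++ eWord E S)
      Nat.blt x E.num && M.testBit x && eOrd E.num 0 y &&
      (match eGet y x with
        | [mo] => mo.all (fun v => Nat.blt v E.num && (N.testBit v || ch.any fun p => Nat.beq p.1 v)) &&
            ch.all fun p => eCovers E M look k p.2 p.1 N (eWord E S)
        | _ => false)
  | (S, N, .kill q r j c) =>
      let y := eNf E M ((q, [[E.num]]) :: eWord E S ++ [(q, [[E.num]])])
      Nat.blt q E.num && Nat.blt r E.num &&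
      (match eGet y r with
        | [m₁, m₂] =>
            let d := bif qmEq m₁ [r] then m₂ else m₁
            (qmEq m₁ [r] || qmEq m₂ [r]) && Nat.beq (d.filter fun v => Nat.beq v E.num).length (2 ^ j) &&
              d.all fun v => Nat.beq v E.num || (Nat.blt v E.num && N.testBit v)
        | _ => false) &&
      eCovers E M look k c r N y
  | (S, N, .refl i c) =>
      eImgOk T E M [i] (eSupp E S) &&
      eCovers E M look k c E.num N (eNf E M ((eSupp E S).map fun x => (eImg T E [i] x, [[x]])))
  | (S, N, .add q c) =>
      Nat.blt q E.num && eCovers E M look k c E.num N (eNf E M ((q, [[]]) :: eWord E S ++ [(q, [[]])]))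
  | (S, N, .split r c₀ c₁) =>
      eCovers E M look k c₀ r N (eWord E S) && eCovers E M look k c₁ E.num (N ||| 2 ^ r) (eWord E S)
  | (S, N, .ones m Z st) =>
      (eNf E M (eWord E S) == eWord E N) && eTorusOk T E (eSupp E N) m Z &&
      Nat.beq (N &&& M) N &&
      (match eSteps T E M (eSupp E N) st with
        | none => false
        | some l => R.any fun r => qmEq r l)

/-- Lookup in a tree cut into parts of one hundred nodes. -/
def eLook (P : List (List EnNode)) (c : ℕ) : Option EnNode := ((P.getD (c / 100) []))[c % 100]?

/-- The nodes from `lo` on, `len` of them, are correct. -/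
noncomputable def eTreeOk (T : Tbl) (E : EnTbl) (M : ℕ) (R : List (List ℕ)) (P : List (List EnNode)) (lo len : ℕ) : Bool :=
  allBelow (fun k => match eLook P (lo + k) with
    | none => true
    | some nd => eNodeOk T E M R (eLook P) (lo + k) nd) len

/-- The roots of a stage: for every product of the stage before, an earlier node covering it and all positions
outside the last mask. -/
noncomputable def eStageOk (E : EnTbl) (M : ℕ) (Rprev : List (List ℕ)) (P : List (List EnNode)) (roots : List ℕ) :
    Bool :=
  ([] :: Rprev).all fun r => eOrd E.num 0 (eOnes r) && r.all (fun x => M.testBit x) &&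
    roots.any fun k => match eLook P k with
      | none => false
      | some (S, N, _) => Nat.beq S (r.foldr (fun x s => 2 ^ x ||| s) ((2 ^ E.num - 1) ^^^ M)) &&
          Nat.beq N (r.foldr (fun x s => 2 ^ x ||| s) 0)

end Cfsg.Lib.Chev
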