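import Cfsg.Agent.Lib.Chev.InvDescent

/-!
Checking the generation of the stabiliser of a sign vector by reflections.
-/

set_option autoImplicit false
set_option linter.unusedSectionVars false

namespace Cfsg.Lib.Chev

open Cfsg.Lie

/-- The word attached to a list of indices of reflections. -/
def refsWord (refs : List (List ℕ × ℕ)) (is : List ℕ) : List ℕ :=
  is.flatMap fun i => refWord (refs.getD i ([], 0))

/-- The stabiliser, listed in the order of the list of the Weyl group, is generated by the reflections. -/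
noncomputable def chkConn (D : ChevalleyDatum) (T : Tbl) (W : List (List ℕ)) (e : ℕ) (refs : List (List ℕ × ℕ))
    (M : ℕ) (tbl : List (List ℕ)) : Bool :=
  refs.all (fun p => p.1.all (fun i => Nat.blt i D.rank) && (Nat.blt p.2 D.rank && parity T e (refRoot T p))) &&
  (let Ws := W.filter fun w => allBelow (fun r => parity T e (wperm T w r) == parity T e r) D.nroots
   Nat.beq Ws.length tbl.length && (Ws.zip tbl).all fun q =>
    q.2.all (fun i => Nat.blt i refs.length) && (Nat.ble q.2.length M &&
      allBelow (fun k => Nat.beq (wperm T (refsWord refs q.2) (T.simp' k)) (wperm T q.1 (T.simp' k))) D.rank))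

variable {D : ChevalleyDatum} {T : Tbl} (C : Cert D T) (K : FullCert D T)
include C K

theorem centConn_of_chk {Ls : List WLevel} (hW : chkWeyl T Ls = true) {e : ℕ} {refs : List (List ℕ × ℕ)} {M : ℕ}
    {tbl : List (List ℕ)} (h : chkConn D T (allW (nth ([], []) Ls) D.rank) e refs M tbl = true)
    {N : ℕ} (hN : N ≠ 0) {A : Matrix (Fin refs.length) (Fin D.rank) ℤ}
    (hA : (Matrix.of fun k i => T.coroot (refRoot T (refs.get i)) (k : Fin D.rank) :
      Matrix (Fin D.rank) (Fin refs.length) ℤ) * A = Matrix.diagonal fun _ => (N : ℤ)) :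
    CentConn D T e refs M := by
  simp only [chkConn, Bool.and_eq_true, List.all_eq_true, Nat.blt_eq, Nat.ble_eq, Nat.beq_eq, allBelow_iff] at h
  obtain ⟨hrefs, hlen, hzip⟩ := h
  have hword : ∀ p ∈ refs, IsWord D p.1 ∧ p.2 < D.rank ∧ parity T e (refRoot T p) = true := fun p hp =>
    ⟨(hrefs p hp).1, (hrefs p hp).2.1, (hrefs p hp).2.2⟩
  refine ⟨hword, fun w hw hst => ?_, N, hN, A, hA⟩
  obtain ⟨v, hv, hperm⟩ := allW_complete C K hW _ le_rfl w hw
  have hvW : v ∈ (allW (nth ([], []) Ls) D.rank).filter fun w =>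
      allBelow (fun r => parity T e (wperm T w r) == parity T e r) D.nroots := by
    refine List.mem_filter.2 ⟨hv, ?_⟩
    simp only [allBelow_iff, beq_iff_eq]
    intro r hr
    rw [hperm r hr]; exact hst r hr
  obtain ⟨i, hi, hiv⟩ := List.getElem_of_mem hvW
  obtain ⟨his, hM, hsimp⟩ := hzip (v, tbl[i]'(hlen ▸ hi))
    (List.mem_iff_getElem.2 ⟨i, by rw [List.length_zip]; omega, by rw [List.getElem_zip, hiv]⟩)
  set is := tbl[i]'(hlen ▸ hi) with hisdef
  refine ⟨is.attach.map fun a => ⟨a.1, his a.1 a.2⟩, by simpa using hM, ?_⟩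
  have e1 : ((is.attach.map fun a => (⟨a.1, his a.1 a.2⟩ : Fin refs.length)).flatMap fun i =>
      refWord (refs.get i)) = refsWord refs is := by
    rw [refsWord, List.flatMap_map]
    conv_rhs => rw [← List.attach_map_subtype_val is, List.flatMap_map]
    refine congrArg (fun f => List.flatMap f is.attach) (funext fun a => ?_)
    show refWord (refs[a.1]'(his a.1 a.2)) = _
    rw [List.getD_eq_getElem _ _ (his a.1 a.2)]
  rw [e1]
  have hvw : IsWord D v := (allW_below C K hW _ le_rfl _ hv).isWord le_rfl
  have hrw : IsWord D (refsWord refs is) := by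
    intro j hj
    obtain ⟨a, ha, hj⟩ := List.mem_flatMap.1 hj
    rw [List.getD_eq_getElem _ _ (his a ha)] at hj
    obtain ⟨h1, h2, -⟩ := hword _ (List.getElem_mem (his a ha))
    simp only [refWord, List.mem_append, List.mem_singleton, List.mem_reverse] at hj
    rcases hj with (hj | rfl) | hj
    exacts [h1 j hj, h2, h1 j hj]
  exact (samePerm_of_simple C K hrw hvw hsimp).trans hperm

end Cfsg.Lib.Chev
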