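import Cfsg.Agent.Lib.Chev.PairCentral

/-!
Certificates over the field with two elements for the ranks of products of root elements minus one.
-/

set_option autoImplicit false
set_option linter.unusedSimpArgs false
set_option linter.unusedSectionVars false

namespace Cfsg.Lib.Chev

open Cfsg.Lie
open scoped Matrix

/-- An integer is odd. -/
def zOdd (z : ℤ) : Bool := Nat.beq (z.natAbs % 2) 1

/-- The parity of the entry of the chain at the row `w`. -/
def chainBit (l : List (ℕ × ℤ)) (w : ℕ) : Bool :=
  l.foldr (fun q b => bif Nat.beq q.1 w then Bool.xor (zOdd q.2) b else b) false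

/-- The chain modulo two, as a mask shifted by `k`. -/
def chainMask (l : List (ℕ × ℤ)) (k : ℕ) : ℕ :=
  l.foldr (fun q m => bif zOdd q.2 then 2 ^ (k + q.1) ^^^ m else m) 0

/-- The numbers with odd value of `f`, as a mask. -/
def oddMask (f : ℕ → ℤ) : ℕ → ℕ
  | 0 => 0
  | n + 1 => bif zOdd (f n) then 2 ^ n ||| oddMask f n else oddMask f n

/-- A column of `x_r(1)` modulo two. -/
def xColMask (T : Tbl) (r j : ℕ) : ℕ :=
  bif Nat.blt j T.rank then (bif zOdd (T.cartan j r) then 2 ^ j ||| 2 ^ (T.rank + r) else 2 ^ j)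
  else
    let s := j - T.rank
    bif Nat.beq s r then 2 ^ j
    else bif Nat.beq s (T.neg r) then oddMask (fun i => T.coroot r i) T.rank ||| (2 ^ j ||| 2 ^ (T.rank + r))
    else 2 ^ j ^^^ chainMask (T.entry r s) T.rank

/-- The transpose of `x_r(1)` modulo two, by rows. -/
def xCols (T : Tbl) (r : ℕ) : List ℕ := (List.range (T.rank + T.nroots)).map (xColMask T r)

/-- A row times a matrix of rows modulo two. The match evaluates the row before it is halved. -/
def bRow : ℕ → List ℕ → ℕ
  | _, [] => 0
  | 0, _ :: _ => 0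
  | m + 1, b :: B => bif Nat.beq ((m + 1) % 2) 1 then b ^^^ bRow ((m + 1) / 2) B else bRow ((m + 1) / 2) B

/-- The product of matrices given by rows. -/
def bMul (A B : List ℕ) : List ℕ := A.map fun a => bRow a B

/-- A matrix as a binary tree of rows; `h` is the number of rows on the left. -/
inductive RTree where
  | leaf (b : ℕ)
  | node (h : ℕ) (l r : RTree)

/-- The rows of a tree. -/
def RTree.rows : RTree → List ℕ
  | .leaf b => [b]
  | .node _ l r => l.rows ++ r.rows

/-- The numbers of rows recorded in a tree are right. -/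
def RTree.wf : RTree → Bool
  | .leaf _ => true
  | .node h l r => Nat.beq h l.rows.length && (l.wf && r.wf)

/-- A row times a tree of rows modulo two. -/
def bRowT : RTree → ℕ → ℕ
  | .leaf b, a => bif Nat.beq (a % 2) 1 then b else 0
  | .node h l r, a => bif Nat.beq a 0 then 0 else bRowT l (a % 2 ^ h) ^^^ bRowT r (a >>> h)

/-- A matrix times a tree of rows. -/
def bMulT (A : List ℕ) (t : RTree) : List ℕ := A.map (bRowT t)

/-- The unit matrix. -/
def bOne (n : ℕ) : List ℕ := (List.range n).map fun i => 2 ^ i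

/-- The sum of the unit matrix and a matrix. -/
def bAddOne (A : List ℕ) : List ℕ := A.zipIdx.map fun p => p.1 ^^^ 2 ^ p.2

/-- Equality of lists of numbers. -/
def bEq : List ℕ → List ℕ → Bool
  | [], [] => true
  | x :: a, y :: b => Nat.beq x y && bEq a b
  | _, _ => false

theorem bEq_eq : ∀ {a b : List ℕ}, bEq a b = true → a = b
  | [], [], _ => rfl
  | [], _ :: _, h => by simp [bEq] at h
  | _ :: _, [], h => by simp [bEq] at h
  | x :: a, y :: b, h => by
    simp only [bEq, Bool.and_eq_true, Nat.beq_eq] at h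
    rw [h.1, bEq_eq h.2]

/-- A certificate: the factors, the product minus one, a factorisation through `k` and a unit minor. -/
structure RankCert where
  k : ℕ
  Xs : List RTree
  M : RTree
  A : List ℕ
  B : RTree
  P : List ℕ
  PM : List ℕ
  Q : RTree

/-- The certificate is correct. -/
noncomputable def rankOk (T : Tbl) (L : List ℕ) (c : RankCert) : Bool :=
  let n := T.rank + T.nroots
  L.all (fun r => Nat.blt r T.nroots) && Nat.beq L.length c.Xs.length &&
  (L.zip c.Xs).all (fun p => p.2.wf && bEq p.2.rows (xCols T p.1)) &&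
  bEq (bAddOne (c.Xs.foldr (fun t acc => bMulT acc t) (bOne n))) c.M.rows &&
  Nat.beq c.A.length n && Nat.beq c.B.rows.length c.k && c.B.wf && bEq (bMulT c.A c.B) c.M.rows &&
  Nat.beq c.P.length c.k && c.M.wf && bEq (bMulT c.P c.M) c.PM &&
  Nat.beq c.Q.rows.length n && c.Q.wf && bEq (bMulT c.PM c.Q) (bOne c.k)

theorem natBeq_decide (a b : ℕ) : Nat.beq a b = decide (a = b) := by
  cases h : Nat.beq a b
  · symm; rw [decide_eq_false_iff_not]; intro e; subst e; simp at h
  · symm; rw [decide_eq_true_eq]; exact Nat.eq_of_beq_eq_true h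

theorem natBlt_decide (a b : ℕ) : Nat.blt a b = decide (a < b) := by
  cases h : Nat.blt a b
  · symm; rw [decide_eq_false_iff_not]; intro e; rw [← Nat.blt_eq] at e; simp [h] at e
  · symm; rw [decide_eq_true_eq]; exact Nat.blt_eq ▸ h

variable {F : Type*} [Field F]

/-- The matrix of rows. -/
def bMat (F : Type*) [Field F] (n m : ℕ) (A : List ℕ) : Matrix (Fin n) (Fin m) F :=
  Matrix.of fun i j => if (A.getD i 0).testBit j then 1 else 0

theorem bMat_one (n : ℕ) : bMat F n n (bOne n) = 1 := by
  ext i j
  simp only [bMat, Matrix.of_apply, bOne, List.getD, List.getElem?_map, List.getElem?_range i.2, Option.map_some,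
    Option.getD_some, Nat.testBit_two_pow, Matrix.one_apply, Fin.ext_iff, decide_eq_true_eq]

variable [CharP F 2]

theorem ite_xor (a b : Bool) :
    (if Bool.xor a b = true then (1 : F) else 0) = (if a = true then 1 else 0) + if b = true then 1 else 0 := by
  cases a <;> cases b <;> simp [CharTwo.add_self_eq_zero]

theorem bRow_bit : ∀ (B : List ℕ) (m a l : ℕ), B.length = m →
    (if (bRow a B).testBit l then (1 : F) else 0) =
      ∑ j ∈ Finset.range m, (if a.testBit j then (1 : F) else 0) * (if (B.getD j 0).testBit l then (1 : F) else 0) := by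
  intro B
  induction B with
  | nil => intro m a l hm; subst hm; simp [bRow]
  | cons b B ih =>
    intro m a l hm
    subst hm
    have ha : bRow a (b :: B) =
        bif Nat.beq (a % 2) 1 then b ^^^ bRow (a / 2) B else bRow (a / 2) B := by
      cases a with
      | zero => cases B <;> simp [bRow, natBeq_decide]
      | succ m => rw [bRow]
    rw [List.length_cons, Finset.sum_range_succ', ha]
    have e : ∀ j, a.testBit (j + 1) = (a / 2).testBit j := fun j => Nat.testBit_succ a j
    simp only [e, List.getD_cons_succ, List.getD_cons_zero]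
    rw [← ih B.length (a / 2) l rfl]
    have e0 : Nat.beq (a % 2) 1 = a.testBit 0 := by
      rw [natBeq_decide, Nat.testBit_zero]
    rw [e0]
    cases a.testBit 0
    · simp
    · simp only [cond_true, Nat.testBit_xor, if_true, one_mul]
      rw [ite_xor, add_comm]

theorem bMat_mul {n m l : ℕ} {A B : List ℕ} (hA : A.length = n) (hB : B.length = m) :
    bMat F n l (bMul A B) = bMat F n m A * bMat F m l B := by
  ext i j
  rw [Matrix.mul_apply]
  have hi : (i : ℕ) < A.length := by rw [hA]; exact i.2
  have e : (bMul A B).getD i 0 = bRow (A.getD i 0) B := by simp [bMul, List.getD, hi]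
  simp only [bMat, Matrix.of_apply]
  rw [e, bRow_bit B m _ _ hB, ← Fin.sum_univ_eq_sum_range]

theorem bMat_addOne {n : ℕ} {A : List ℕ} (hA : A.length = n) : bMat F n n (bAddOne A) = bMat F n n A + 1 := by
  ext i j
  simp only [bMat, Matrix.of_apply, Matrix.add_apply, bAddOne, List.getD, List.getElem?_map, List.getElem?_zipIdx,
    List.getElem?_eq_getElem (show (i : ℕ) < A.length by rw [hA]; exact i.2), Option.map_some, Option.getD_some,
    Nat.testBit_xor, Nat.zero_add, Nat.testBit_two_pow, Matrix.one_apply, Fin.ext_iff]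
  rw [ite_xor]
  simp

theorem bRow_zero : ∀ B : List ℕ, bRow 0 B = 0
  | [] => rfl
  | _ :: _ => rfl

theorem bRow_cons (a b : ℕ) (B : List ℕ) :
    bRow a (b :: B) = bif Nat.beq (a % 2) 1 then b ^^^ bRow (a / 2) B else bRow (a / 2) B := by
  cases a with
  | zero => simp [bRow, natBeq_decide, bRow_zero]
  | succ m => rw [bRow]

theorem bRow_append : ∀ (A B : List ℕ) (a : ℕ),
    bRow a (A ++ B) = bRow (a % 2 ^ A.length) A ^^^ bRow (a / 2 ^ A.length) B
  | [], B, a => by simp [bRow]
  | b :: A, B, a => by
    rw [List.cons_append, bRow_cons, bRow_cons, bRow_append A B (a / 2), List.length_cons,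
      show a % 2 ^ (A.length + 1) % 2 = a % 2 from Nat.mod_mod_of_dvd _ (dvd_pow_self 2 (Nat.succ_ne_zero _)),
      show a % 2 ^ (A.length + 1) / 2 = a / 2 % 2 ^ A.length by rw [pow_succ', Nat.mod_mul_right_div_self],
      show a / 2 ^ (A.length + 1) = a / 2 / 2 ^ A.length by rw [Nat.div_div_eq_div_mul, pow_succ']]
    cases Nat.beq (a % 2) 1
    · rfl
    · simp only [cond_true, Nat.xor_assoc]

theorem bRowT_eq : ∀ (t : RTree) (a : ℕ), t.wf = true → bRowT t a = bRow a t.rows
  | .leaf b, a, _ => by
    rw [bRowT, RTree.rows, bRow_cons]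
    simp [bRow]
  | .node h l r, a, hw => by
    simp only [RTree.wf, Bool.and_eq_true, Nat.beq_eq] at hw
    obtain ⟨rfl, hl, hr⟩ := hw
    rw [bRowT, RTree.rows, bRow_append, bRowT_eq l _ hl, bRowT_eq r _ hr, Nat.shiftRight_eq_div_pow]
    rw [natBeq_decide]
    by_cases ha : a = 0
    · subst ha; simp [bRow_zero]
    · simp [ha]

theorem bMulT_eq {t : RTree} (h : t.wf = true) (A : List ℕ) : bMulT A t = bMul A t.rows :=
  List.map_congr_left fun a _ => bRowT_eq t a h

variable {D : ChevalleyDatum} {T : Tbl}

/-- The basis of the adjoint module in one row. -/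
def idxFin (D : ChevalleyDatum) : D.Idx ≃ Fin (D.rank + D.nroots) := finSumFinEquiv

theorem cast_zOdd (z : ℤ) : ((z : ℤ) : F) = if zOdd z = true then 1 else 0 := by
  rcases Int.emod_two_eq_zero_or_one z with h | h
  · have h' : zOdd z = false := by rw [zOdd, natBeq_decide]; simp; omega
    rw [h', (CharP.intCast_eq_zero_iff F 2 z).2 (Int.dvd_of_emod_eq_zero h)]; simp
  · have h' : zOdd z = true := by rw [zOdd, natBeq_decide]; simp; omega
    rw [h', ← Int.mul_ediv_add_emod z 2, h]
    simp [(CharTwo.two_eq_zero : (2 : F) = 0)]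

theorem chainVal_bit : ∀ (l : List (ℕ × ℤ)) (k w : ℕ),
    chainVal l k (1 : F) w = if chainBit l w = true then 1 else 0
  | [], k, w => by simp [chainVal, chainBit]
  | q :: l, k, w => by
    have ih := chainVal_bit l (k + 1) w
    simp only [chainVal, List.zipIdx_cons, List.map_cons, List.sum_cons] at ih ⊢
    rw [ih]
    simp only [chainBit, List.foldr_cons, natBeq_decide]
    by_cases h : q.1 = w
    · simp only [h, if_true, decide_true, cond_true, one_pow, mul_one, cast_zOdd, ite_xor]
    · simp only [h, if_false, decide_false, cond_false, zero_add]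

theorem chainMask_bit : ∀ (l : List (ℕ × ℤ)) (k x : ℕ),
    (chainMask l k).testBit x = (decide (k ≤ x) && chainBit l (x - k))
  | [], k, x => by simp [chainMask, chainBit]
  | q :: l, k, x => by
    have ih := chainMask_bit l k x
    simp only [chainMask, chainBit, List.foldr_cons, natBeq_decide] at ih ⊢
    cases hq : zOdd q.2
    · rw [cond_false, ih]
      by_cases h : q.1 = x - k <;> simp [h]
    · rw [cond_true, Nat.testBit_xor, ih, Nat.testBit_two_pow]
      by_cases hk : k ≤ x
      · by_cases h : q.1 = x - k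
        · simp [hk, h, show k + (x - k) = x by omega]
        · simp [hk, h, show ¬ k + q.1 = x by omega]
      · simp [hk, show ¬ k + q.1 = x by omega]

theorem oddMask_bit (f : ℕ → ℤ) : ∀ n x, (oddMask f n).testBit x = (decide (x < n) && zOdd (f x))
  | 0, x => by simp [oddMask]
  | n + 1, x => by
    rw [oddMask]
    cases h : zOdd (f n)
    · rw [cond_false, oddMask_bit f n]
      by_cases hx : x = n
      · subst hx; simp [h]
      · simp [show (x < n + 1) ↔ x < n by omega]
    · rw [cond_true, Nat.testBit_or, oddMask_bit f n, Nat.testBit_two_pow]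
      by_cases hx : x = n
      · subst hx; simp [h]
      · simp [show (x < n + 1) ↔ x < n by omega, Ne.symm hx]

theorem xCols_eq (C : Cert D T) {r : ℕ} (hr : r < D.nroots) :
    (D.x F r 1).transpose.submatrix (idxFin D).symm (idxFin D).symm =
      bMat F (D.rank + D.nroots) (D.rank + D.nroots) (xCols T r) := by
  have key : ∀ a b : D.Idx, D.x F r 1 b a =
      if ((xCols T r).getD (idxFin D a : ℕ) 0).testBit (idxFin D b : ℕ) then 1 else 0 := by
    intro a b
    have e : (xCols T r).getD (idxFin D a : ℕ) 0 = xColMask T r (idxFin D a) := by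
      simp [xCols, List.getD, C.spec.shape.rank_eq, C.spec.shape.nroots_eq, (idxFin D a).2]
    rw [e, xColMask, C.spec.shape.rank_eq]
    rcases a with a | a <;> rcases b with b | b <;>
      simp only [idxFin, finSumFinEquiv_apply_left, finSumFinEquiv_apply_right, Fin.val_castAdd, Fin.val_natAdd,
        natBlt_decide, natBeq_decide, Fin.is_lt, decide_true, cond_true, decide_false, cond_false,
        Nat.not_lt.2 (Nat.le_add_right _ _), Nat.add_sub_cancel_left]
    · rw [x_inl_inl C.spec hr]
      have h1 : ¬ D.rank + r = (b : ℕ) := by omega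
      by_cases h : b = a
      · subst h; cases zOdd (T.cartan b r) <;> simp [Nat.testBit_or, Nat.testBit_two_pow]
      · have h2 : ¬ (a : ℕ) = b := fun e => h (Fin.ext e.symm)
        cases zOdd (T.cartan a r) <;> simp [Nat.testBit_or, Nat.testBit_two_pow, h, h1, h2]
    · rw [x_inr_inl C.spec hr]
      have h1 : ¬ (a : ℕ) = D.rank + b := by omega
      cases hz : zOdd (T.cartan a r) <;> by_cases h : (b : ℕ) = r
      · rw [h] at h1
        simp [Nat.testBit_two_pow, h1, h, cast_zOdd, hz]
      · simp [Nat.testBit_two_pow, h1, h]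
      · rw [h] at h1
        simp [Nat.testBit_or, Nat.testBit_two_pow, h1, h, cast_zOdd, hz, CharTwo.neg_eq]
      · simp [Nat.testBit_or, Nat.testBit_two_pow, h1, h, Ne.symm h]
    · rw [x_inl_inr C.spec hr]
      have h0 : ¬ D.rank + (a : ℕ) = b := by omega
      have h0' : ¬ D.rank + r = (b : ℕ) := by omega
      have hne := C.spec.neg_ne r hr
      by_cases h1 : (a : ℕ) = r
      · simp [h1, Nat.testBit_two_pow, h0', Ne.symm hne]
      by_cases h2 : (a : ℕ) = T.neg r
      · simp [h1, h2, hne, Nat.testBit_or, Nat.testBit_two_pow, h0', h2 ▸ h0, oddMask_bit, cast_zOdd]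
      · simp [h1, h2, Nat.testBit_xor, Nat.testBit_two_pow, h0, chainMask_bit, show ¬ D.rank ≤ (b : ℕ) by omega]
    · rw [x_inr_inr C.spec hr]
      by_cases h1 : (a : ℕ) = r
      · simp [h1, Nat.testBit_two_pow, eq_comm]
      by_cases h2 : (a : ℕ) = T.neg r
      · have hne := C.spec.neg_ne r hr
        simp [h1, h2, hne, Nat.testBit_or, Nat.testBit_two_pow, oddMask_bit, CharTwo.neg_eq,
          show ¬ D.rank + (b : ℕ) < D.rank by omega]
        split_ifs with u1 u2 u3 <;> first | (simp_all; done) | omega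
      · simp only [h1, h2, if_false, decide_false, cond_false, chainVal_bit, Nat.testBit_xor, Nat.testBit_two_pow,
          chainMask_bit, Nat.le_add_right, decide_true, Bool.true_and, Nat.add_sub_cancel_left, ite_xor,
          decide_eq_true_eq, Nat.add_left_cancel_iff]
        by_cases hab : (b : ℕ) = a
        · simp [hab]
        · simp [hab, Ne.symm hab]
  ext i j
  rw [Matrix.submatrix_apply, Matrix.transpose_apply, key]
  simp [bMat]

theorem rankOk_rank (C : Cert D T) {L : List ℕ} {c : RankCert} (h : rankOk T L c = true) :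
    (((lprod C L (fun _ => (1 : F)) : GL D.Idx F) : Matrix D.Idx D.Idx F) - 1).rank = c.k := by
  simp only [rankOk, Bool.and_eq_true, Nat.beq_eq, List.all_eq_true, Nat.blt_eq, C.spec.shape.rank_eq,
    C.spec.shape.nroots_eq] at h
  obtain ⟨⟨⟨⟨⟨⟨⟨⟨⟨⟨⟨⟨⟨hr, hlen⟩, hX⟩, hM⟩, hA⟩, hB⟩, hBw⟩, hAB⟩, hP⟩, hMw⟩, hPM⟩, hQ⟩, hQw⟩, hPQ⟩ := h
  set n := D.rank + D.nroots with hn
  have hprod : ∀ (L : List ℕ) (Xs : List RTree), L.length = Xs.length → (∀ r ∈ L, r < D.nroots) →
      (∀ p ∈ L.zip Xs, p.2.wf = true ∧ bEq p.2.rows (xCols T p.1) = true) →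
      (Xs.foldr (fun t acc => bMulT acc t) (bOne n)).length = n ∧
        (((lprod C L (fun _ => (1 : F)) : GL D.Idx F) : Matrix D.Idx D.Idx F).transpose).submatrix (idxFin D).symm
            (idxFin D).symm = bMat F n n (Xs.foldr (fun t acc => bMulT acc t) (bOne n)) := by
    intro L
    induction L with
    | nil =>
      intro Xs hl _ _
      cases Xs with
      | cons => simp at hl
      | nil =>
        refine ⟨by simp [bOne], ?_⟩
        rw [lprod_nil, List.foldr_nil, bMat_one, Units.val_one, Matrix.transpose_one, Matrix.submatrix_one_equiv]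
    | cons r L ih =>
      intro Xs hl hx hX
      cases Xs with
      | nil => simp at hl
      | cons X Xs =>
        obtain ⟨h1, h2⟩ := ih Xs (by simpa using hl) (fun p hp => hx p (List.mem_cons_of_mem _ hp))
          (fun p hp => hX p (by simp [List.zip_cons_cons, hp]))
        obtain ⟨hw, he⟩ := hX (r, X) (by simp [List.zip_cons_cons])
        rw [List.foldr_cons, bMulT_eq hw, bEq_eq he]
        refine ⟨by rw [bMul, List.length_map]; exact h1, ?_⟩
        rw [lprod_cons, Units.val_mul, coe_xg, Matrix.transpose_mul,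
          bMat_mul (m := n) h1 (by simp [xCols, hn, C.spec.shape.rank_eq, C.spec.shape.nroots_eq]), ← h2,
          ← xCols_eq C (hx r (List.mem_cons_self ..)), Matrix.submatrix_mul_equiv]
  obtain ⟨hl, hy⟩ := hprod L c.Xs hlen hr hX
  have hM' : bMat F n n c.M.rows = ((((lprod C L (fun _ => (1 : F)) : GL D.Idx F) : Matrix D.Idx D.Idx F) - 1).transpose
      ).submatrix (idxFin D).symm (idxFin D).symm := by
    rw [← bEq_eq hM, bMat_addOne hl, ← hy]
    ext i j
    simp [Matrix.one_apply, CharTwo.sub_eq_add, (idxFin D).symm.injective.eq_iff, eq_comm]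
  rw [bMulT_eq hBw] at hAB
  rw [bMulT_eq hMw] at hPM
  rw [bMulT_eq hQw, ← bEq_eq hPM] at hPQ
  have hr : (bMat F n n c.M.rows).rank = c.k := by
    refine le_antisymm ?_ ?_
    · rw [← bEq_eq hAB, bMat_mul (m := c.k) hA hB]
      exact (Matrix.rank_mul_le_left _ _).trans ((Matrix.rank_le_card_width _).trans (by simp))
    · have h1 : bMat F c.k c.k (bOne c.k) = bMat F c.k n c.P * bMat F n n c.M.rows * bMat F n c.k c.Q.rows := by
        rw [← bEq_eq hPQ, bMat_mul (m := n) (by simp [bMul, hP]) hQ, bMat_mul (m := n) hP ?_]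
        rw [← bEq_eq hM]; simp [bAddOne, hl]
      have h2 := congrArg Matrix.rank h1
      rw [bMat_one, Matrix.rank_one, Fintype.card_fin] at h2
      calc c.k = _ := h2
        _ ≤ (bMat F c.k n c.P * bMat F n n c.M.rows).rank := Matrix.rank_mul_le_left _ _
        _ ≤ (bMat F n n c.M.rows).rank := Matrix.rank_mul_le_right _ _
  rw [hM', Matrix.rank_submatrix, Matrix.rank_transpose] at hr
  exact hr

omit [CharP F 2] in
/-- Conjugate elements minus one have equal rank. -/
theorem rank_conj_sub_one {y₁ y₂ h : GL D.Idx F} (e : h * y₁ * h⁻¹ = y₂) :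
    ((y₂ : Matrix D.Idx D.Idx F) - 1).rank = ((y₁ : Matrix D.Idx D.Idx F) - 1).rank := by
  have key : ∀ (y z h : GL D.Idx F), h * y * h⁻¹ = z →
      ((z : Matrix D.Idx D.Idx F) - 1).rank ≤ ((y : Matrix D.Idx D.Idx F) - 1).rank := by
    intro y z h e
    have : (z : Matrix D.Idx D.Idx F) - 1 = (h : Matrix D.Idx D.Idx F) * ((y : Matrix D.Idx D.Idx F) - 1) * (h⁻¹ : GL D.Idx F) := by
      rw [← e, Matrix.mul_sub, Matrix.sub_mul, mul_one, Units.val_mul, Units.val_mul, ← Units.val_mul h h⁻¹,
        mul_inv_cancel, Units.val_one]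
    rw [this]
    exact (Matrix.rank_mul_le_left _ _).trans (Matrix.rank_mul_le_right _ _)
  exact le_antisymm (key y₁ y₂ h e) (key y₂ y₁ h⁻¹ (by rw [← e]; group))

end Cfsg.Lib.Chev
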