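import Cfsg.Agent.Lib.Chev.InvSound
import Cfsg.Agent.Lib.Chev.InvRank

/-!
The classes of involutions of a simply laced Chevalley group in characteristic two from a checked tree and rank
certificates.
-/

set_option autoImplicit false
set_option linter.unusedSectionVars false

namespace Cfsg.Lib.Chev

open Cfsg.Lie

/-- The lists are products of commuting positive root elements matching the representatives of the tree. -/
noncomputable def invRepsOk (D : ChevalleyDatum) (T : Tbl) (E : EnTbl) (R L : List (List ℕ)) : Bool :=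
  L.all (fun l => !l.isEmpty && decide l.Nodup && l.all (fun r => Nat.ble E.num r && Nat.blt r T.nroots) &&
    l.all (fun a => l.all fun b => oddIn D T (fun _ => false) a b)) &&
  R.all (fun r => L.any fun l => decide (l.Perm (r.map fun x => E.num + x)))

variable {D : ChevalleyDatum} {T : Tbl} (C : Cert D T) {F : Type*} [Field F] [CharP F 2] (K : FullCert D T)
  {E : EnTbl} {R L : List (List ℕ)}
include C K

theorem reps_group_two (hE : chkEn T E = true) (hL : invRepsOk D T E R L = true) {l : List ℕ} (hl : l ∈ L) :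
    (lprod C l (fun _ => (1 : F)) : GL D.Idx F) ∈ D.group F ∧ orderOf (lprod C l fun _ => (1 : F)) = 2 := by
  haveI : Fact (Nat.Prime 2) := ⟨Nat.prime_two⟩
  have h2 := en_two C K hE
  simp only [invRepsOk, Bool.and_eq_true, List.all_eq_true, Bool.not_eq_true', decide_eq_true_eq, Nat.ble_eq,
    Nat.blt_eq, C.spec.shape.nroots_eq] at hL
  obtain ⟨⟨⟨hne, hnd⟩, hr⟩, hc⟩ := hL.1 l hl
  refine ⟨list_prod_mem fun x hx => ?_, orderOf_eq_prime ?_ fun e => ?_⟩
  · obtain ⟨r, -, rfl⟩ := List.mem_map.1 hx
    exact xg_mem_group C r 1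
  · rw [sq]
    clear hne hnd hl
    induction l with
    | nil => simp [lprod_nil]
    | cons a l ih =>
      have hcm : Commute (xg C a (1 : F)) (lprod C l fun _ => (1 : F)) :=
        lprod_commute C K (fun x hx => hc x (List.mem_cons_of_mem _ hx) a (List.mem_cons_self ..)) _ _
      rw [lprod_cons, hcm.symm.mul_mul_mul_comm, xg_add, CharTwo.add_self_eq_zero, xg_zero, one_mul,
        ih (fun x hx y hy => hc x (List.mem_cons_of_mem _ hx) y (List.mem_cons_of_mem _ hy))
          (fun x hx => hr x (List.mem_cons_of_mem _ hx))]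
  · cases l with
    | nil => simp at hne
    | cons a l =>
      exact one_ne_zero (lprod_inj C K.comm hnd (t := fun _ => (1 : F)) (u := fun _ => 0)
        (fun r h => ⟨by have := hr r h; omega, (hr r h).2⟩) (e.trans (lprod_zero C (F := F) _).symm) a
        (List.mem_cons_self ..))

variable [Finite F]

theorem reps_reach (hE : chkEn T E = true) (hL : invRepsOk D T E R L = true) {M : ℕ} (hM : chkMask E M = true)
    (hfull : 2 ^ E.num - 1 = M) (hlast : ∀ u ∈ D.posUnipotent F, u * u = 1 → EReach C E M R u)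
    {g : GL D.Idx F} (hg : g ∈ D.group F)
    (h2 : orderOf g = 2) :
    ∃ h ∈ D.group F, ∃ l ∈ L, h * g * h⁻¹ = lprod C l fun _ => (1 : F) := by
  have hgg : g * g = 1 := by rw [← sq, ← h2, pow_orderOf_eq_one]
  simp only [invRepsOk, Bool.and_eq_true, List.all_eq_true, List.any_eq_true, decide_eq_true_eq] at hL
  rcases eGroup_reach C K hE hM hfull hlast hg hgg with rfl | ⟨h, hh, r, hr, e⟩
  · simp at h2
  obtain ⟨l, hl, hp⟩ := hL.2 r hr
  refine ⟨h, hh, l, hl, ?_⟩
  rw [e, lprod_perm C K hp (hL.1 l hl).2 fun _ => (1 : F)]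
  simp [eRep, lprod, Function.comp_def]

omit [Finite F] in
omit K in
theorem reps_separated {cs : List RankCert} (hcs : List.Forall₂ (fun l c => rankOk T l c = true) L cs)
    (hk : (cs.map RankCert.k).Nodup) {l₁ l₂ : List ℕ} (h1 : l₁ ∈ L) (h2 : l₂ ∈ L) {h : GL D.Idx F}
    (e : h * lprod C l₁ (fun _ => (1 : F)) * h⁻¹ = lprod C l₂ fun _ => (1 : F)) : l₁ = l₂ := by
  obtain ⟨i, hi, rfl⟩ := List.getElem_of_mem h1
  obtain ⟨j, hj, rfl⟩ := List.getElem_of_mem h2
  have hlen := hcs.length_eq
  have hget := fun (n : ℕ) (hn : n < L.length) => List.Forall₂.get hcs hn (hlen ▸ hn)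
  have ri := rankOk_rank (F := F) C (hget i hi)
  have rj := rankOk_rank (F := F) C (hget j hj)
  have hr := rank_conj_sub_one e
  simp only [List.get_eq_getElem] at ri rj
  rw [ri, rj] at hr
  have : i = j := by
    have := hk.getElem_inj_iff (i := j) (hi := by simpa [hlen] using hj) (j := i) (hj := by simpa [hlen] using hi)
    simp only [List.getElem_map] at this
    exact (this.1 hr).symm
  subst this
  rfl

/-- The number of classes of involutions is the number of representatives. -/
theorem reps_ncard (hE : chkEn T E = true) (hL : invRepsOk D T E R L = true) (hnd : L.Nodup) {M : ℕ}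
    (hM : chkMask E M = true) (hfull : 2 ^ E.num - 1 = M)
    (hlast : ∀ u ∈ D.posUnipotent F, u * u = 1 → EReach C E M R u) {cs : List RankCert}
    (hcs : List.Forall₂ (fun l c => rankOk T l c = true) L cs) (hk : (cs.map RankCert.k).Nodup) :
    (ConjClasses.mk '' {g : ↥(D.group F) | orderOf g = 2}).ncard = L.length := by
  classical
  let f : {l // l ∈ L} → ↥(D.group F) := fun l => ⟨lprod C l.1 fun _ => (1 : F), (reps_group_two C K hE hL l.2).1⟩
  have himg : ConjClasses.mk '' {g : ↥(D.group F) | orderOf g = 2} = Set.range (ConjClasses.mk ∘ f) := by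
    ext x
    constructor
    · rintro ⟨g, hg, rfl⟩
      obtain ⟨h, hh, l, hl, e⟩ := reps_reach C K hE hL hM hfull hlast g.2 (by rw [Subgroup.orderOf_coe]; exact hg)
      refine ⟨⟨l, hl⟩, (ConjClasses.mk_eq_mk_iff_isConj.2 (isConj_iff.2 ⟨⟨h, hh⟩, Subtype.ext ?_⟩)).symm⟩
      exact e
    · rintro ⟨l, rfl⟩
      exact ⟨f l, by show orderOf (f l) = 2; rw [← Subgroup.orderOf_coe]; exact (reps_group_two C K hE hL l.2).2, rfl⟩
  have hinj : Function.Injective (ConjClasses.mk ∘ f) := by
    intro a b h
    obtain ⟨c, hc⟩ := isConj_iff.1 (ConjClasses.mk_eq_mk_iff_isConj.1 h)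
    exact Subtype.ext (reps_separated C hcs hk a.2 b.2 (congrArg Subtype.val hc))
  rw [himg, Set.ncard_range_of_injective hinj, Nat.card_eq_fintype_card]
  rw [Fintype.card_of_subtype L.toFinset (fun x => List.mem_toFinset), List.toFinset_card_of_nodup hnd]

end Cfsg.Lib.Chev
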