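import Cfsg.Agent.Lib.Chev.InvCheck
import Cfsg.Agent.Lib.Chev.FullE6

/-!
The sums of positive roots of type E6.
-/

set_option autoImplicit false
set_option maxRecDepth 100000

namespace Cfsg.Lib.Chev

/-- The sums of positive roots of type E6. -/
def enE6 : EnTbl := ⟨36, (.node (.node (.node (.node (.node (.node (.leaf 0x2100001e001c000019000000000013001100000e0000000a0000000600000300) (.leaf 0x24000000000000002300002200)) (.node (.leaf 0x24000000002221001c0000000000000000000000000000001413000000) (.leaf 0))) (.node (.node (.leaf 0x23002200200000000018000000000000140012100000000000000000000a) (.leaf 0)) (.node (.leaf 0x23002221001f1e1c00000000000000000000) (.leaf 0)))) (.node (.node (.node (.leaf 0x23000000001f001d00000018000000001400120000000d00000009000000000006) (.leaf 0)) (.node (.leaf 0x1f1e1d1c1b1a0000000019181716000000000000) (.leaf 0))) (.node (.node (.leaf 0x24000000000000001f001d1b00000000000000000000001400121000000000000e) (.leaf 0)) (.node (.leaf 0x24000000000000230000200000001f001e) (.leaf 0))))) (.node (.node (.node (.node (.leaf 0x2200001f00001c000019000000001400001100000e0000000a00000006000000) (.leaf 0x2400000000000000000000)) (.node (.leaf 0x2400002300211e0000000000000000000000000000000000001400)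 (.leaf 0))) (.node (.node (.leaf 0x240000000000000000001c1b1a00000000000000000000000011100f000e0d0c000000) (.leaf 0)) (.node (.leaf 0x240000000000000000220020001f001d00001c) (.leaf 0)))) (.node (.node (.node (.leaf 0x222120000000000000001600000000000011100f00000000000a0908000000) (.leaf 0)) (.node (.leaf 0x2300002120001e1d001a00000000000000191800) (.leaf 0))) (.node (.node (.leaf 0x240000000000212000001a0000000000000000000000000000131200111000) (.leaf 0)) (.node (.leaf 0x240000000000002322000000000000) (.leaf 0)))))) (.node (.node (.node (.node (.node (.leaf 0x2200001f0000001b000018000000140000001000000d0000000900000005000003) (.leaf 0x240000000000000023000000)) (.node (.leaf 0x240000230000201d0000000000000000000000000000000000140013) (.leaf 0))) (.node (.node (.leaf 0x2300222100000000190000000000000014131100000000000000000000) (.leaf 0)) (.node (.leaf 0x24000000000000000000212000001e1d001c1b00) (.leaf 0)))) (.node (.node (.node (.leaf 0x23000000001f1e00000019000000000014130000000e0000000a000000000000) (.leaf 0)) (.node (.leaf 0x2221200000001c1b1a0000000000191817000000) (.leaf 0))) (.node (.node (.leaf 0x24000000000000001f1e1c000000000000000000000000141311000000000000)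 (.leaf 0)) (.node (.leaf 0x24000000000000230021000000001f00) (.leaf 0))))) (.node (.node (.node (.node (.leaf 0x2300000000001e1d0000000017000000001312000000000c00000008000000060500) (.leaf 0)) (.node (.leaf 0x24000023221f0000000000000000000000000000000000000000) (.leaf 0))) (.node (.node (.leaf 0x2400000000000000001e1d001a00000000000000000000001312000f0000000e0d00) (.leaf 0)) (.node (.leaf 0x240000000000000000222100001f1e000000) (.leaf 0)))) (.node (.node (.node (.leaf 0x23000021200000000000170000000000001312000f000000000000000a0900) (.leaf 0)) (.node (.leaf 0x23002200201f001d1b00000000000000000019) (.leaf 0))) (.node (.node (.leaf 0x2400000000220020001b0000000000000000000000000000140012000011) (.leaf 0)) (.node (.leaf 0x2400000000000000230000220021) (.leaf 0)))))))⟩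

theorem chkEn_E6 : chkEn tblE6 enE6 = true := by decide +kernel

end Cfsg.Lib.Chev
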