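import Cfsg.Agent.Lib.Chev.InvClasses
import Cfsg.Agent.Lib.Chev.InvRankE6
import Cfsg.Agent.Lib.Chev.FullAll
import Cfsg.Agent.Lib.Chev.InvTreeE6S1Ok

/-!
The classes of involutions of type E6 in characteristic two.
-/

set_option autoImplicit false
set_option maxRecDepth 100000

namespace Cfsg.Lib.Chev

open Cfsg.Lie

/-- The representatives, as lists of roots. -/
def enE6L : List (List ℕ) := [[71], [68, 66], [55, 65, 67]]

theorem enE6L_ok : invRepsOk chevE6 tblE6 enE6 enE6R1 enE6L = true := by decide +kernel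

theorem enE6M_full : 2 ^ enE6.num - 1 = enE6M1 := by decide +kernel

theorem enE6_reach {F : Type*} [Field F] [CharP F 2] [Finite F] :
    ∀ u ∈ chevE6.posUnipotent F, u * u = 1 → EReach certE6 enE6 enE6M1 enE6R1 u :=
  eStage_reach certE6 fullCertE6 chkEn_E6 enE6M1_ok (show chkMask enE6 0 = true by decide +kernel)
    (eTreeOk_all enE6P1_all) enE6Roots1_ok (eStage_start certE6 fullCertE6 chkEn_E6)

theorem enE6_ranks : List.Forall₂ (fun l c => rankOk tblE6 l c = true) enE6L [enE6Rank0, enE6Rank1, enE6Rank2] :=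
  (List.Forall₂.cons enE6Rank0_ok (List.Forall₂.cons enE6Rank1_ok (List.Forall₂.cons enE6Rank2_ok List.Forall₂.nil)))

theorem enE6_ranks_nodup : ([enE6Rank0, enE6Rank1, enE6Rank2].map RankCert.k).Nodup := by decide +kernel

end Cfsg.Lib.Chev
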