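import Cfsg.Agent.Lib.Chev.InvClasses
import Cfsg.Agent.Lib.Chev.InvRankE7
import Cfsg.Agent.Lib.Chev.FullAll
import Cfsg.Agent.Lib.Chev.InvTreeE7S1Ok
import Cfsg.Agent.Lib.Chev.InvTreeE7S2Ok

/-!
The classes of involutions of type E7 in characteristic two.
-/

set_option autoImplicit false
set_option maxRecDepth 100000

namespace Cfsg.Lib.Chev

open Cfsg.Lie

/-- The representatives, as lists of roots. -/
def enE7L : List (List ℕ) := [[125], [117, 122], [112, 117, 120], [82, 114, 116], [82, 113, 117, 119]]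

theorem enE7L_ok : invRepsOk chevE7 tblE7 enE7 enE7R2 enE7L = true := by decide +kernel

theorem enE7M_full : 2 ^ enE7.num - 1 = enE7M2 := by decide +kernel

theorem enE7_reach {F : Type*} [Field F] [CharP F 2] [Finite F] :
    ∀ u ∈ chevE7.posUnipotent F, u * u = 1 → EReach certE7 enE7 enE7M2 enE7R2 u :=
  eStage_reach certE7 fullCertE7 chkEn_E7 enE7M2_ok enE7M1_ok
    (eTreeOk_all enE7P2_all) enE7Roots2_ok (eStage_reach certE7 fullCertE7 chkEn_E7 enE7M1_ok (show chkMask enE7 0 = true by decide +kernel)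
    (eTreeOk_all enE7P1_all) enE7Roots1_ok (eStage_start certE7 fullCertE7 chkEn_E7))

theorem enE7_ranks : List.Forall₂ (fun l c => rankOk tblE7 l c = true) enE7L [enE7Rank0, enE7Rank1, enE7Rank2, enE7Rank3, enE7Rank4] :=
  (List.Forall₂.cons enE7Rank0_ok (List.Forall₂.cons enE7Rank1_ok (List.Forall₂.cons enE7Rank2_ok (List.Forall₂.cons enE7Rank3_ok (List.Forall₂.cons enE7Rank4_ok List.Forall₂.nil)))))

theorem enE7_ranks_nodup : ([enE7Rank0, enE7Rank1, enE7Rank2, enE7Rank3, enE7Rank4].map RankCert.k).Nodup := by decide +kernel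

end Cfsg.Lib.Chev
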