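import Cfsg.Agent.Lib.Chev.InvTreeE8S1
import Cfsg.Agent.Lib.Chev.InvTblE8

/-!
Stage 1 of the reduction of involutions of type E8 is correct.
-/

set_option autoImplicit false
set_option maxRecDepth 100000

namespace Cfsg.Lib.Chev

theorem enE8P1_ok0 : eTreeOk tblE8 enE8 enE8M1 enE8R1 enE8P1 0 100 = true := by decide +kernel

theorem enE8P1_ok1 : eTreeOk tblE8 enE8 enE8M1 enE8R1 enE8P1 100 100 = true := by decide +kernel

theorem enE8P1_ok2 : eTreeOk tblE8 enE8 enE8M1 enE8R1 enE8P1 200 100 = true := by decide +kernel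

theorem enE8P1_ok3 : eTreeOk tblE8 enE8 enE8M1 enE8R1 enE8P1 300 100 = true := by decide +kernel

theorem enE8P1_ok4 : eTreeOk tblE8 enE8 enE8M1 enE8R1 enE8P1 400 100 = true := by decide +kernel

theorem enE8P1_ok5 : eTreeOk tblE8 enE8 enE8M1 enE8R1 enE8P1 500 100 = true := by decide +kernel

theorem enE8P1_ok6 : eTreeOk tblE8 enE8 enE8M1 enE8R1 enE8P1 600 100 = true := by decide +kernel

theorem enE8P1_ok7 : eTreeOk tblE8 enE8 enE8M1 enE8R1 enE8P1 700 100 = true := by decide +kernel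

theorem enE8P1_ok8 : eTreeOk tblE8 enE8 enE8M1 enE8R1 enE8P1 800 100 = true := by decide +kernel

theorem enE8P1_ok9 : eTreeOk tblE8 enE8 enE8M1 enE8R1 enE8P1 900 100 = true := by decide +kernel

theorem enE8P1_ok10 : eTreeOk tblE8 enE8 enE8M1 enE8R1 enE8P1 1000 100 = true := by decide +kernel

theorem enE8P1_ok11 : eTreeOk tblE8 enE8 enE8M1 enE8R1 enE8P1 1100 100 = true := by decide +kernel

theorem enE8P1_ok12 : eTreeOk tblE8 enE8 enE8M1 enE8R1 enE8P1 1200 100 = true := by decide +kernel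

theorem enE8P1_ok13 : eTreeOk tblE8 enE8 enE8M1 enE8R1 enE8P1 1300 100 = true := by decide +kernel

theorem enE8P1_ok14 : eTreeOk tblE8 enE8 enE8M1 enE8R1 enE8P1 1400 100 = true := by decide +kernel

theorem enE8P1_all : ∀ i < enE8P1.length, eTreeOk tblE8 enE8 enE8M1 enE8R1 enE8P1 (100 * i) 100 = true := by
  intro i hi
  rw [show enE8P1.length = 15 from rfl] at hi
  interval_cases i
  · exact enE8P1_ok0
  · exact enE8P1_ok1
  · exact enE8P1_ok2
  · exact enE8P1_ok3
  · exact enE8P1_ok4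
  · exact enE8P1_ok5
  · exact enE8P1_ok6
  · exact enE8P1_ok7
  · exact enE8P1_ok8
  · exact enE8P1_ok9
  · exact enE8P1_ok10
  · exact enE8P1_ok11
  · exact enE8P1_ok12
  · exact enE8P1_ok13
  · exact enE8P1_ok14

theorem enE8M1_ok : chkMask enE8 enE8M1 = true := by decide +kernel

theorem enE8Roots1_ok : eStageOk enE8 (0) [] enE8P1 enE8Roots1 = true := by decide +kernel

end Cfsg.Lib.Chev
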