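import Cfsg.Agent.Lib.Chev.InvTreeE8S2
import Cfsg.Agent.Lib.Chev.InvTreeE8S1
import Cfsg.Agent.Lib.Chev.InvTblE8

/-!
Stage 2 of the reduction of involutions of type E8 is correct.
-/

set_option autoImplicit false
set_option maxRecDepth 100000

namespace Cfsg.Lib.Chev

theorem enE8P2_ok0 : eTreeOk tblE8 enE8 enE8M2 enE8R2 enE8P2 0 100 = true := by decide +kernel

theorem enE8P2_ok1 : eTreeOk tblE8 enE8 enE8M2 enE8R2 enE8P2 100 100 = true := by decide +kernel

theorem enE8P2_ok2 : eTreeOk tblE8 enE8 enE8M2 enE8R2 enE8P2 200 100 = true := by decide +kernel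

theorem enE8P2_ok3 : eTreeOk tblE8 enE8 enE8M2 enE8R2 enE8P2 300 100 = true := by decide +kernel

theorem enE8P2_ok4 : eTreeOk tblE8 enE8 enE8M2 enE8R2 enE8P2 400 100 = true := by decide +kernel

theorem enE8P2_all : ∀ i < enE8P2.length, eTreeOk tblE8 enE8 enE8M2 enE8R2 enE8P2 (100 * i) 100 = true := by
  intro i hi
  rw [show enE8P2.length = 5 from rfl] at hi
  interval_cases i
  · exact enE8P2_ok0
  · exact enE8P2_ok1
  · exact enE8P2_ok2
  · exact enE8P2_ok3
  · exact enE8P2_ok4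

theorem enE8M2_ok : chkMask enE8 enE8M2 = true := by decide +kernel

theorem enE8Roots2_ok : eStageOk enE8 (enE8M1) enE8R1 enE8P2 enE8Roots2 = true := by decide +kernel

end Cfsg.Lib.Chev
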