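import Cfsg.Agent.Lib.Chev.InvTreeE8S3
import Cfsg.Agent.Lib.Chev.InvTreeE8S2
import Cfsg.Agent.Lib.Chev.InvTblE8

/-!
Stage 3 of the reduction of involutions of type E8 is correct.
-/

set_option autoImplicit false
set_option maxRecDepth 100000

namespace Cfsg.Lib.Chev

theorem enE8P3_ok0 : eTreeOk tblE8 enE8 enE8M3 enE8R3 enE8P3 0 100 = true := by decide +kernel

theorem enE8P3_ok1 : eTreeOk tblE8 enE8 enE8M3 enE8R3 enE8P3 100 100 = true := by decide +kernel

theorem enE8P3_ok2 : eTreeOk tblE8 enE8 enE8M3 enE8R3 enE8P3 200 100 = true := by decide +kernel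

theorem enE8P3_ok3 : eTreeOk tblE8 enE8 enE8M3 enE8R3 enE8P3 300 100 = true := by decide +kernel

theorem enE8P3_ok4 : eTreeOk tblE8 enE8 enE8M3 enE8R3 enE8P3 400 100 = true := by decide +kernel

theorem enE8P3_ok5 : eTreeOk tblE8 enE8 enE8M3 enE8R3 enE8P3 500 100 = true := by decide +kernel

theorem enE8P3_ok6 : eTreeOk tblE8 enE8 enE8M3 enE8R3 enE8P3 600 100 = true := by decide +kernel

theorem enE8P3_ok7 : eTreeOk tblE8 enE8 enE8M3 enE8R3 enE8P3 700 100 = true := by decide +kernel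

theorem enE8P3_ok8 : eTreeOk tblE8 enE8 enE8M3 enE8R3 enE8P3 800 100 = true := by decide +kernel

theorem enE8P3_ok9 : eTreeOk tblE8 enE8 enE8M3 enE8R3 enE8P3 900 100 = true := by decide +kernel

theorem enE8P3_ok10 : eTreeOk tblE8 enE8 enE8M3 enE8R3 enE8P3 1000 100 = true := by decide +kernel

theorem enE8P3_ok11 : eTreeOk tblE8 enE8 enE8M3 enE8R3 enE8P3 1100 100 = true := by decide +kernel

theorem enE8P3_ok12 : eTreeOk tblE8 enE8 enE8M3 enE8R3 enE8P3 1200 100 = true := by decide +kernel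

theorem enE8P3_ok13 : eTreeOk tblE8 enE8 enE8M3 enE8R3 enE8P3 1300 100 = true := by decide +kernel

theorem enE8P3_ok14 : eTreeOk tblE8 enE8 enE8M3 enE8R3 enE8P3 1400 100 = true := by decide +kernel

theorem enE8P3_ok15 : eTreeOk tblE8 enE8 enE8M3 enE8R3 enE8P3 1500 100 = true := by decide +kernel

theorem enE8P3_ok16 : eTreeOk tblE8 enE8 enE8M3 enE8R3 enE8P3 1600 100 = true := by decide +kernel

theorem enE8P3_ok17 : eTreeOk tblE8 enE8 enE8M3 enE8R3 enE8P3 1700 100 = true := by decide +kernel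

theorem enE8P3_ok18 : eTreeOk tblE8 enE8 enE8M3 enE8R3 enE8P3 1800 100 = true := by decide +kernel

theorem enE8P3_ok19 : eTreeOk tblE8 enE8 enE8M3 enE8R3 enE8P3 1900 100 = true := by decide +kernel

theorem enE8P3_ok20 : eTreeOk tblE8 enE8 enE8M3 enE8R3 enE8P3 2000 100 = true := by decide +kernel

theorem enE8P3_all : ∀ i < enE8P3.length, eTreeOk tblE8 enE8 enE8M3 enE8R3 enE8P3 (100 * i) 100 = true := by
  intro i hi
  rw [show enE8P3.length = 21 from rfl] at hi
  interval_cases i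
  · exact enE8P3_ok0
  · exact enE8P3_ok1
  · exact enE8P3_ok2
  · exact enE8P3_ok3
  · exact enE8P3_ok4
  · exact enE8P3_ok5
  · exact enE8P3_ok6
  · exact enE8P3_ok7
  · exact enE8P3_ok8
  · exact enE8P3_ok9
  · exact enE8P3_ok10
  · exact enE8P3_ok11
  · exact enE8P3_ok12
  · exact enE8P3_ok13
  · exact enE8P3_ok14
  · exact enE8P3_ok15
  · exact enE8P3_ok16
  · exact enE8P3_ok17
  · exact enE8P3_ok18
  · exact enE8P3_ok19
  · exact enE8P3_ok20

theorem enE8M3_ok : chkMask enE8 enE8M3 = true := by decide +kernel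

theorem enE8Roots3_ok : eStageOk enE8 (enE8M2) enE8R2 enE8P3 enE8Roots3 = true := by decide +kernel

end Cfsg.Lib.Chev
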