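import Cfsg.Agent.Lib.Chev.InvClasses
import Cfsg.Agent.Lib.Chev.InvRankE8
import Cfsg.Agent.Lib.Chev.FullAll
import Cfsg.Agent.Lib.Chev.InvTreeE8S1Ok
import Cfsg.Agent.Lib.Chev.InvTreeE8S2Ok
import Cfsg.Agent.Lib.Chev.InvTreeE8S3Ok

/-!
The classes of involutions of type E8 in characteristic two.
-/

set_option autoImplicit false
set_option maxRecDepth 100000

namespace Cfsg.Lib.Chev

open Cfsg.Lie

/-- The representatives, as lists of roots. -/
def enE8L : List (List ℕ) := [[239], [232, 233], [228, 222, 218], [226, 220, 213, 216]]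

theorem enE8L_ok : invRepsOk chevE8 tblE8 enE8 enE8R3 enE8L = true := by decide +kernel

theorem enE8M_full : 2 ^ enE8.num - 1 = enE8M3 := by decide +kernel

theorem enE8_reach {F : Type*} [Field F] [CharP F 2] [Finite F] :
    ∀ u ∈ chevE8.posUnipotent F, u * u = 1 → EReach certE8 enE8 enE8M3 enE8R3 u :=
  eStage_reach certE8 fullCertE8 chkEn_E8 enE8M3_ok enE8M2_ok
    (eTreeOk_all enE8P3_all) enE8Roots3_ok (eStage_reach certE8 fullCertE8 chkEn_E8 enE8M2_ok enE8M1_ok
    (eTreeOk_all enE8P2_all) enE8Roots2_ok (eStage_reach certE8 fullCertE8 chkEn_E8 enE8M1_ok (show chkMask enE8 0 = true by decide +kernel)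
    (eTreeOk_all enE8P1_all) enE8Roots1_ok (eStage_start certE8 fullCertE8 chkEn_E8)))

theorem enE8_ranks : List.Forall₂ (fun l c => rankOk tblE8 l c = true) enE8L [enE8Rank0, enE8Rank1, enE8Rank2, enE8Rank3] :=
  (List.Forall₂.cons enE8Rank0_ok (List.Forall₂.cons enE8Rank1_ok (List.Forall₂.cons enE8Rank2_ok (List.Forall₂.cons enE8Rank3_ok List.Forall₂.nil))))

theorem enE8_ranks_nodup : ([enE8Rank0, enE8Rank1, enE8Rank2, enE8Rank3].map RankCert.k).Nodup := by decide +kernel

end Cfsg.Lib.Chev
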