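import Cfsg.Agent.Lib.Chev.InvCent

/-!
The classes of involutions in odd characteristic, by descent from the algebraic closure, and the orders of their
centralisers.
-/

set_option autoImplicit false
set_option linter.unusedSectionVars false

namespace Cfsg.Lib.Chev

open Cfsg.Lie MvPolynomial
open scoped Matrix

variable {D : ChevalleyDatum} {T : Tbl} {F : Type*} [Field F] (C : Cert D T)
include C

omit C in
theorem two_ne_zero_of_odd_card [Fintype F] (hodd : Odd (Fintype.card F)) : (2 : F) ≠ 0 := by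
  intro h
  haveI : CharP F 2 := CharTwo.of_one_ne_zero_of_two_eq_zero one_ne_zero h
  obtain ⟨n, -, hn⟩ := FiniteField.card F 2
  rw [hn, Nat.odd_iff, Nat.pow_mod] at hodd
  simp at hodd

theorem map_monomial {E : Type*} [Field E] (f : F →+* E) {g : GL D.Idx F} (hg : g ∈ D.monomialSubgroup F) :
    Matrix.GeneralLinearGroup.map f g ∈ D.monomialSubgroup E := by
  obtain ⟨w, hw, h, hh, rfl⟩ := (mem_monomial C).1 hg
  rw [map_mul, map_wnu]
  refine mul_mem (wnu_mem C hw) (diag_le_monomial C ?_)
  rw [← torusHom_range C] at hh ⊢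
  obtain ⟨c, rfl⟩ := hh
  exact ⟨_, (map_torusHom C f c).symm⟩

theorem map_sgnVec {E : Type*} [Field E] (f : F →+* E) (e : ℕ) :
    Matrix.GeneralLinearGroup.map f (torusHom D T F (sgnVec D F e)) = torusHom D T E (sgnVec D E e) := by
  rw [map_torusHom C f]
  refine congrArg _ (funext fun j => Units.ext ?_)
  show f ((sgnVec D F e j : Fˣ) : F) = _
  unfold sgnVec
  split_ifs <;> simp

variable (K : FullCert D T)
include K

set_option maxHeartbeats 800000 in
/-- An involution is conjugate to the representative of a sign vector with connected centraliser. -/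
theorem involution_conj_sgn {F : Type*} [Field F] [Fintype F] (hodd : Odd (Fintype.card F))
    {Mi : Matrix (Fin D.rank) (Fin D.rank) ℤ} (hMi : Mi * cartanMat D T = Matrix.diagonal fun _ => ((1 : ℕ) : ℤ))
    {tbl : List (ℕ × List ℕ)} (htbl : chkTorClasses D T tbl = true)
    (hconn : ∀ e < 2 ^ D.rank, e ≠ 0 → ∃ refs M, CentConn D T (tbl.getD e (0, [])).1 refs M)
    {g : GL D.Idx F} (hg : g ∈ D.group F) (hg2 : g * g = 1) (hg1 : g ≠ 1) :
    ∃ e < 2 ^ D.rank, e ≠ 0 ∧ ∃ y ∈ D.group F, y * g * y⁻¹ = torusHom D T F (sgnVec D F (tbl.getD e (0, [])).1) := by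
  classical
  obtain ⟨p, hp⟩ := CharP.exists F
  obtain ⟨f, hprime, hq⟩ := FiniteField.card F p
  haveI := Fact.mk hprime
  have h2 : (2 : F) ≠ 0 := two_ne_zero_of_odd_card hodd
  obtain ⟨x₀, hx₀, hm, hm2⟩ := exists_monomial_conj C K h2 hg hg2
  set m := x₀ * g * x₀⁻¹ with hmdef
  let L := AlgebraicClosure F
  haveI : CharP L p := charP_of_injective_algebraMap (algebraMap F L).injective p
  set ι := algebraMap F L with hιdef
  set σ := iterateFrobenius L p (f : ℕ) with hσdef
  set q := Fintype.card F with hqdef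
  have hqpos : 2 ≤ q := Fintype.one_lt_card
  have hσ : ∀ x : L, σ x = x ^ q := fun x => by rw [hσdef, iterateFrobenius_def, hq]
  have hfix : ∀ t : L, σ t = t ↔ t ∈ ι.range := by
    intro t
    refine ⟨fun ht => ?_, ?_⟩
    · rw [hσ] at ht
      let P : Polynomial L := Polynomial.X ^ q - Polynomial.X
      have hP : P ≠ 0 := FiniteField.X_pow_card_sub_X_ne_zero L hqpos
      have hsub : Finset.univ.image ι ⊆ P.roots.toFinset := fun x hx => by
        obtain ⟨y, -, rfl⟩ := Finset.mem_image.1 hx
        rw [Multiset.mem_toFinset, Polynomial.mem_roots hP]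
        simp [P, ← map_pow, hqdef, FiniteField.pow_card]
      have heq := Finset.eq_of_subset_of_card_le hsub (by
        rw [Finset.card_image_of_injective _ ι.injective, Finset.card_univ]
        exact (Multiset.toFinset_card_le _).trans ((Polynomial.card_roots' P).trans
          (FiniteField.X_pow_card_sub_X_natDegree_eq L hqpos).le))
      have htm : t ∈ P.roots.toFinset := by
        rw [Multiset.mem_toFinset, Polynomial.mem_roots hP]; simp [P, ht]
      rw [← heq] at htm
      obtain ⟨y, -, e⟩ := Finset.mem_image.1 htm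
      exact ⟨y, e⟩
    · rintro ⟨y, rfl⟩
      rw [hσ, ← map_pow, hqdef, FiniteField.pow_card]
  have h2L : (2 : L) ≠ 0 := fun h => h2 (ι.injective (by rw [map_ofNat, map_zero, h]))
  have hinjT : Function.Injective (torusHom D T L) :=
    torusHom_injective_scalar C hMi fun x hx => by simpa using hx
  have hsqrt : ∀ a : L, ∃ b, b * b = a := fun a => by
    obtain ⟨b, hb⟩ := IsAlgClosed.exists_eq_mul_self a
    exact ⟨b, hb.symm⟩
  let φ := Matrix.GeneralLinearGroup.map (n := D.Idx) ι
  have hφinj : Function.Injective φ := map_gl_injective _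
  have hrange : ∀ x, x ∈ (D.group F).map φ ↔ x ∈ D.group L ∧ Matrix.GeneralLinearGroup.map σ x = x := fun x => by
    rw [← fixed_eq C σ K hinjT, fixedRoots_eq_map C σ ι hfix]
  have hm1 : φ m ≠ 1 := fun h => hg1 (by
    have h' : m = 1 := hφinj (h.trans (map_one φ).symm)
    exact conj_eq_one_iff.1 (hmdef ▸ h'))
  obtain ⟨e, he, he0, x, hx, hxe⟩ := involution_conj_rep C K hsqrt h2L hinjT htbl (map_monomial C ι hm)
    (by rw [← map_mul, hm2, map_one]) hm1
  set ρ := (tbl.getD e (0, [])).1 with hρ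
  obtain ⟨refs, M, hcc⟩ := hconn e he he0
  set h := torusHom D T L (sgnVec D L ρ) with hh
  have hσh : Matrix.GeneralLinearGroup.map σ h = h := by rw [hh, map_sgnVec C σ]
  have hσm : Matrix.GeneralLinearGroup.map σ (φ m) = φ m :=
    ((hrange _).1 ⟨m, hmdef ▸ mul_mem (mul_mem hx₀ hg) (inv_mem hx₀), rfl⟩).2
  -- Lang's theorem in the centraliser
  let S : Subgroup (GL D.Idx L) := D.group L ⊓ Subgroup.centralizer {h}
  have hmemS : ∀ {y}, y ∈ S ↔ y ∈ D.group L ∧ h * y = y * h := fun {y} => by
    rw [Subgroup.mem_inf, Subgroup.mem_centralizer_iff]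
    simp
  obtain ⟨Ls, hLs, hcov⟩ := exists_cent_cover C K h2L hcc
  let a : GL D.Idx (MvPolynomial (Fin Ls.length) L) :=
    ((List.finRange Ls.length).map fun j => xPolU C (Ls.get j) (X j)).prod
  have ha : ∀ v : Fin Ls.length → L, Matrix.GeneralLinearGroup.map (eval v) a =
      ((List.finRange Ls.length).map fun j => xg C (Ls.get j) (v j)).prod := fun v => by
    simp only [a, map_list_prod, List.map_map]
    refine congrArg List.prod (List.map_congr_left fun j _ => ?_)
    show Matrix.GeneralLinearGroup.map (eval v) (xPolU C (Ls.get j) (X j)) = _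
    rw [map_xPolU, eval_X]
  have hS : ∀ y, y ∈ S ↔ ∃ v : Fin Ls.length → L, Matrix.GeneralLinearGroup.map (eval v) a = y := by
    intro y
    refine ⟨fun hy => ?_, ?_⟩
    · obtain ⟨hy1, hy2⟩ := hmemS.1 hy
      obtain ⟨l, hl, rfl⟩ := hcov hy1 hy2
      subst hl
      refine ⟨fun j => (l[(j : ℕ)]'(by simpa using j.2)).2, ?_⟩
      rw [ha]
      refine congrArg List.prod (List.ext_getElem (by simp) fun i h1 h2 => ?_)
      simp
    · rintro ⟨v, rfl⟩
      rw [ha]
      refine list_prod_mem fun z hz => ?_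
      obtain ⟨j, -, rfl⟩ := List.mem_map.1 hz
      obtain ⟨hj, hj1⟩ := hLs _ (List.get_mem Ls j)
      refine hmemS.2 ⟨xg_mem_group C _ _, ?_⟩
      have e1 := torusHom_conj_xg C (sgnVec D L ρ) hj (v j)
      rw [hj1, one_mul] at e1
      exact mul_inv_eq_iff_eq_mul.1 e1
  have hσS : ∀ y ∈ S, Matrix.GeneralLinearGroup.map σ y ∈ S := fun y hy => by
    obtain ⟨hy1, hy2⟩ := hmemS.1 hy
    refine hmemS.2 ⟨map_group_le C _ hy1, ?_⟩
    conv_lhs => rw [← hσh, ← map_mul, hy2, map_mul, hσh]
  have hσx : x * (Matrix.GeneralLinearGroup.map σ x)⁻¹ ∈ S := by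
    refine hmemS.2 ⟨mul_mem hx (inv_mem (map_group_le C _ hx)), ?_⟩
    have e1 : Matrix.GeneralLinearGroup.map σ x * φ m * (Matrix.GeneralLinearGroup.map σ x)⁻¹ = h := by
      obtain ⟨m', hm'⟩ : ∃ m', m' = φ m := ⟨_, rfl⟩
      rw [← hm'] at hσm ⊢
      have h' := congrArg (Matrix.GeneralLinearGroup.map σ) (show x * m' * x⁻¹ = h by rw [hm']; exact hxe)
      rw [map_mul, map_mul, map_inv, hσm, hσh] at h'
      exact h'
    calc h * (x * (Matrix.GeneralLinearGroup.map σ x)⁻¹)
        = x * φ m * x⁻¹ * (x * (Matrix.GeneralLinearGroup.map σ x)⁻¹) := by rw [hxe]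
      _ = x * (Matrix.GeneralLinearGroup.map σ x)⁻¹ *
          (Matrix.GeneralLinearGroup.map σ x * φ m * (Matrix.GeneralLinearGroup.map σ x)⁻¹) := by group
      _ = _ := by rw [e1]
  obtain ⟨z, hzS, hz⟩ := lang_theorem (p := p) (f := (f : ℕ)) (hq ▸ hqpos) S a hS hσS 1
    (fun y hy => by simpa using hy) hσx
  rw [mul_one, inv_one, mul_one] at hz
  obtain ⟨hz1, hz2⟩ := hmemS.1 hzS
  have hzx : z * x ∈ (D.group F).map φ := (hrange _).2 ⟨mul_mem hz1 hx, by
    rw [map_mul]
    calc Matrix.GeneralLinearGroup.map σ z * Matrix.GeneralLinearGroup.map σ x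
        = z * (z⁻¹ * Matrix.GeneralLinearGroup.map σ z) * Matrix.GeneralLinearGroup.map σ x := by group
      _ = _ := by
        rw [hσdef] at *
        rw [hz]; group⟩
  obtain ⟨y, hy, hyz⟩ := hzx
  refine ⟨e, he, he0, y * x₀, mul_mem hy hx₀, hφinj ?_⟩
  show φ _ = φ _
  rw [show φ (torusHom D T F (sgnVec D F ρ)) = h from map_sgnVec C ι ρ,
    show y * x₀ * g * (y * x₀)⁻¹ = y * m * y⁻¹ by rw [hmdef]; group, map_mul, map_mul, map_inv, hyz,
    show z * x * φ m * (z * x)⁻¹ = z * (x * φ m * x⁻¹) * z⁻¹ by group, hxe, ← hz2]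
  group

/-! ### The order of a centraliser -/

/-- The positive roots on which the character is one. -/
noncomputable def fixPos (D : ChevalleyDatum) (T : Tbl) (e : ℕ) : List ℕ :=
  (List.range' (D.nroots / 2) (D.nroots / 2)).filter fun r => parity T e r

/-- The exponents of the cells of a centraliser. -/
noncomputable def centExps (D : ChevalleyDatum) (T : Tbl) (W : List (List ℕ)) (e : ℕ) : List ℕ :=
  (W.filter fun w => allBelow (fun r => parity T e (wperm T w r) == parity T e r) D.nroots).map fun w =>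
    ((fixPos D T e).filter fun r => decide (2 * wperm T w r < D.nroots)).length

omit K in
theorem card_oprod [Finite F] (p : ℕ → Bool) : ∀ (m : ℕ) {k : ℕ}, D.nroots ≤ 2 * k → k + m = D.nroots →
    Nat.card {g : GL D.Idx F // ∃ t : ℕ → F, (∀ r, p r = false → t r = 0) ∧ g = oprod C k m t} =
      Nat.card F ^ ((List.range' k m).filter p).length := by
  intro m k hk hkm
  classical
  let P := {t : ℕ → F // ∀ r, ¬ (p r = true ∧ k ≤ r ∧ r < D.nroots) → t r = 0}
  have e1 : Nat.card P = Nat.card F ^ ((List.range' k m).filter p).length := by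
    let l := ((List.range' k m).filter p).toFinset
    have hl : ∀ r, r ∈ l ↔ (p r = true ∧ k ≤ r ∧ r < D.nroots) := fun r => by
      simp only [l, List.mem_toFinset, List.mem_filter, List.mem_range'_1]
      constructor
      · rintro ⟨⟨h1, h2⟩, h3⟩; exact ⟨h3, h1, by omega⟩
      · rintro ⟨h3, h1, h2⟩; exact ⟨⟨h1, by omega⟩, h3⟩
    have e : P ≃ (↥l → F) :=
      { toFun := fun t r => t.1 r
        invFun := fun f => ⟨fun r => if h : r ∈ l then f ⟨r, h⟩ else 0, fun r hr => dif_neg fun h => hr ((hl r).1 h)⟩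
        left_inv := fun t => Subtype.ext (funext fun r => by
          by_cases h : r ∈ l
          · exact dif_pos h
          · exact (dif_neg h).trans (t.2 r fun h' => h ((hl r).2 h')).symm)
        right_inv := fun f => funext fun r => dif_pos r.2 }
    rw [Nat.card_congr e, Nat.card_fun, Nat.card_eq_fintype_card (α := ↥l), Fintype.card_coe,
      List.toFinset_card_of_nodup (List.Nodup.filter _ List.nodup_range')]
  rw [← e1]
  refine (Nat.card_eq_of_bijective (fun t : P => (⟨oprod C k m t.1, t.1, fun r hr => t.2 r (by simp [hr]), rfl⟩ :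
    {g : GL D.Idx F // ∃ t : ℕ → F, (∀ r, p r = false → t r = 0) ∧ g = oprod C k m t})) ⟨?_, ?_⟩).symm
  · intro s t e
    refine Subtype.ext (funext fun r => ?_)
    by_cases h : p r = true ∧ k ≤ r ∧ r < D.nroots
    · exact oprod_inj C m hk hkm (congrArg Subtype.val e) r h.2.1 h.2.2
    · rw [s.2 r h, t.2 r h]
  · rintro ⟨g, t, ht, rfl⟩
    refine ⟨⟨fun r => if k ≤ r ∧ r < D.nroots then t r else 0, fun r hr => ?_⟩, Subtype.ext ?_⟩
    · show (if k ≤ r ∧ r < D.nroots then t r else 0) = 0
      split_ifs with h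
      · exact ht r (by cases hp : p r <;> simp_all)
      · rfl
    · show oprod C k m _ = oprod C k m t
      simp only [oprod]
      refine congrArg List.prod (List.map_congr_left fun r hr => ?_)
      have := List.mem_range'_1.1 hr
      rw [if_pos ⟨this.1, by omega⟩]

set_option maxHeartbeats 800000 in
/-- The order of the centraliser of a sign vector, from a list of representatives of the stabiliser. -/
theorem card_cent_list [Finite F] (h2 : (2 : F) ≠ 0) (e : ℕ) {Ws : List (List ℕ)}
    (hWw : ∀ w ∈ Ws, IsWord D w) (hWp : ∀ w ∈ Ws, ∀ r < D.nroots, parity T e (wperm T w r) = parity T e r)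
    (hcomp : ∀ w, IsWord D w → (∀ r < D.nroots, parity T e (wperm T w r) = parity T e r) →
      ∃ v ∈ Ws, SamePerm D T v w)
    (hpair : Ws.Pairwise fun u v => ¬ SamePerm D T u v) :
    Nat.card ↥(D.group F ⊓ Subgroup.centralizer {torusHom D T F (sgnVec D F e)}) =
      Nat.card F ^ (fixPos D T e).length * Nat.card ↥(D.diagonalSubgroup F) *
        (Ws.map fun w => Nat.card F ^ ((fixPos D T e).filter fun r => decide (2 * wperm T w r < D.nroots)).length).sum := by
  classical
  have hev := nroots_even C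
  set c := sgnVec D F e with hc
  set h := torusHom D T F c with hh
  have hWst : ∀ w ∈ Ws, ∀ r < D.nroots, chr T D (extend' c) (wperm T w r) = chr T D (extend' c) r :=
    fun w hw r hr => by rw [hc, chr_sgnVec C, chr_sgnVec C, hWp w hw r hr]
  have hsupp : ∀ (t : ℕ → F), (∀ r, parity T e r = false → t r = 0) ↔
      (∀ r, chr T D (extend' c) r ≠ 1 → t r = 0) := fun t =>
    forall_congr' fun r => by rw [hc, ne_eq, chr_sgnVec_eq_one C h2, Bool.not_eq_true]
  have hcommU : ∀ u ∈ fixU C c, h * u = u * h := by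
    rintro u ⟨t, ht, rfl⟩
    suffices oprod C (D.nroots / 2) (D.nroots / 2) t ∈ Subgroup.centralizer {h} from
      (Subgroup.mem_centralizer_iff.1 this h rfl)
    refine list_prod_mem fun z hz => ?_
    obtain ⟨r, hr, rfl⟩ := List.mem_map.1 hz
    refine Subgroup.mem_centralizer_iff.2 fun y hy => ?_
    rw [Set.mem_singleton_iff.1 hy, hh, ← mul_inv_eq_iff_eq_mul, torusHom_conj_xg C c (by
      have := List.mem_range'_1.1 hr; omega)]
    by_cases h1 : chr T D (extend' c) r = 1
    · rw [h1, one_mul]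
    · rw [ht r h1, mul_zero]
  have hfixB : ∀ u ∈ fixU C c, u ∈ D.posUnipotent F := by
    rintro u ⟨t, -, rfl⟩
    rw [posUnipotent_eq C]; exact oprod_mem C _ _ t
  -- the cells
  let SP : ℕ → Bool := fun r => parity T e r
  let Sw : List ℕ → ℕ → Bool := fun w r => parity T e r && decide (2 * wperm T w r < D.nroots)
  let A := {g : GL D.Idx F // ∃ t : ℕ → F, (∀ r, SP r = false → t r = 0) ∧
    g = oprod C (D.nroots / 2) (D.nroots / 2) t}
  let B : List ℕ → Type _ := fun w => {g : GL D.Idx F // ∃ t : ℕ → F, (∀ r, Sw w r = false → t r = 0) ∧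
    g = oprod C (D.nroots / 2) (D.nroots / 2) t}
  have hA : ∀ a : A, (a.1 : GL D.Idx F) ∈ fixU C c := fun a => by
    obtain ⟨t, ht, e'⟩ := a.2
    exact ⟨t, (hsupp t).1 ht, e'⟩
  have hB : ∀ w (b : B w), (b.1 : GL D.Idx F) ∈ fixU C c ∧
      b.1 ∈ signPart C K F w true (D.nroots / 2) := fun w b => by
    obtain ⟨t, ht, e'⟩ := b.2
    refine ⟨⟨t, (hsupp t).1 fun r hr => ht r (by simp [Sw, hr]), e'⟩, e' ▸ list_prod_mem fun z hz => ?_⟩
    obtain ⟨r, hr, rfl⟩ := List.mem_map.1 hz
    have := List.mem_range'_1.1 hr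
    by_cases hn : 2 * wperm T w r < D.nroots
    · exact xg_mem_signPart C K this.1 (by omega) (by simp [hn]) _
    · rw [ht r (by simp [Sw, hn]), xg_zero]; exact one_mem _
  have hfixB' : ∀ w, IsWord D w → ∀ s ∈ fixU C c, s ∈ signPart C K F w true (D.nroots / 2) →
      ∃ t : ℕ → F, (∀ r, Sw w r = false → t r = 0) ∧ s = oprod C (D.nroots / 2) (D.nroots / 2) t := by
    intro w hw s hs hs'
    obtain ⟨t, ht, rfl⟩ := hs
    -- elements of the sign part are supported on the roots made negative
    have hin : ∀ u : {g : GL D.Idx F // ∃ t : ℕ → F, (∀ r, decide (2 * wperm T w r < D.nroots) = false → t r = 0) ∧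
        g = oprod C (D.nroots / 2) (D.nroots / 2) t}, u.1 ∈ signPart C K F w true (D.nroots / 2) := fun u => by
      obtain ⟨t', ht', e'⟩ := u.2
      refine e' ▸ list_prod_mem fun z hz => ?_
      obtain ⟨r, hr, rfl⟩ := List.mem_map.1 hz
      have := List.mem_range'_1.1 hr
      cases hn : decide (2 * wperm T w r < D.nroots)
      · rw [ht' r hn, xg_zero]; exact one_mem _
      · exact xg_mem_signPart C K this.1 (by omega) hn _
    have hbij := (Nat.bijective_iff_injective_and_card
      (fun u => (⟨u.1, hin u⟩ : ↥(signPart C K F w true (D.nroots / 2))))).2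
      ⟨fun u v huv => Subtype.ext (congrArg (Subtype.val (p := fun g => g ∈ signPart C K F w true (D.nroots / 2))) huv),
        by rw [card_oprod C _ _ (by omega) (by omega), card_signPart C K hw (D.nroots / 2) (k := D.nroots / 2) (by omega) (by omega)]⟩
    obtain ⟨⟨u, t', ht', rfl⟩, e'⟩ := hbij.2 ⟨_, hs'⟩
    have heq := oprod_inj C (D.nroots / 2) (k := D.nroots / 2) (by omega) (by omega) (congrArg Subtype.val e')
    refine ⟨fun r => if Sw w r = true then t r else 0, fun r hr => if_neg (by simp [hr]), ?_⟩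
    simp only [oprod]
    refine congrArg List.prod (List.map_congr_left fun r hr => ?_)
    have hr' := List.mem_range'_1.1 hr
    split_ifs with hS
    · rfl
    · cases hp : parity T e r
      · rw [(hsupp t).2 ht r hp]
      · simp only [Sw, hp, Bool.true_and, Bool.not_eq_true] at hS
        rw [← heq r hr'.1 (by omega), ht' r hS]
  let X := Σ a : Fin Ws.length, A × ↥(D.diagonalSubgroup F) × B Ws[a]
  let Cent := D.group F ⊓ Subgroup.centralizer {h}
  have hmem : ∀ x : X, (x.2.1.1 : GL D.Idx F) * x.2.2.1 * wnu C F Ws[x.1] * x.2.2.2.1 ∈ Cent := by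
    rintro ⟨i, a, d, b⟩
    have hw := hWw _ (List.getElem_mem i.2)
    refine ⟨mul_mem (mul_mem (mul_mem (pos_le_group C (hfixB _ (hA a))) (diag_le_group C d.2)) (wnu_mem_group C hw))
      (pos_le_group C (hfixB _ (hB _ b).1)), ?_⟩
    have hd : h * (d : GL D.Idx F) = d * h := diag_comm C (by rw [hh, ← torusHom_range C]; exact ⟨c, rfl⟩) d.2
    have hn : h * wnu C F Ws[i] = wnu C F Ws[i] * h := by
      obtain ⟨c', hc', hchr⟩ := torus_word_conj C hw c
      refine (mul_inv_eq_iff_eq_mul.1 (hc'.trans ?_)).symm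
      refine torusHom_congr fun r hr => ?_
      have hr' := wperm_lt C hw.reverse hr
      have hwr : wperm T Ws[i] (wperm T Ws[i].reverse r) = r := by
        have := wperm_reverse C hw.reverse hr
        rwa [List.reverse_reverse] at this
      rw [← hwr]
      exact (hchr _ hr').trans (hWst _ (List.getElem_mem i.2) _ hr').symm
    refine Subgroup.mem_centralizer_iff.2 fun y hy => ?_
    rw [Set.mem_singleton_iff.1 hy]
    exact ((((show Commute h _ from hcommU _ (hA a)).mul_right hd).mul_right hn).mul_right (hcommU _ (hB _ b).1)).eq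
  let Φ : X → ↥Cent := fun x => ⟨_, hmem x⟩
  have hΦ : Function.Bijective Φ := by
    refine ⟨?_, ?_⟩
    · rintro ⟨i, a, d, b⟩ ⟨i', a', d', b'⟩ eq
      have hw := hWw _ (List.getElem_mem i.2)
      have hw' := hWw _ (List.getElem_mem i'.2)
      have eq' : (a.1 : GL D.Idx F) * d * wnu C F Ws[i] * b.1 = a'.1 * d' * wnu C F Ws[i'] * b'.1 :=
        congrArg Subtype.val eq
      have hBa : (a.1 : GL D.Idx F) * d ∈ D.borelSubgroup F :=
        mul_mem (Subgroup.mem_sup_left (hfixB _ (hA a))) (Subgroup.mem_sup_right d.2)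
      have hBa' : (a'.1 : GL D.Idx F) * d' ∈ D.borelSubgroup F :=
        mul_mem (Subgroup.mem_sup_left (hfixB _ (hA a'))) (Subgroup.mem_sup_right d'.2)
      have hsame := cells_disjoint C K hBa hBa' (wnu_mem C hw) (wnu_mem C hw')
        (signPart_le_borel C K _ _ (hB _ b).2) (signPart_le_borel C K _ _ (hB _ b').2) eq'
      have hperm : SamePerm D T Ws[i] Ws[i'] := fun s hs => perm_of_same C hw hw' hsame hs
      obtain rfl : i = i' := by
        by_contra hne
        have hpw := List.pairwise_iff_getElem.1 hpair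
        rcases Nat.lt_or_gt_of_ne (fun h => hne (Fin.ext h)) with hlt | hlt
        · exact hpw _ _ i.2 i'.2 hlt hperm
        · exact hpw _ _ i'.2 i.2 hlt hperm.symm
      obtain ⟨h1, h2⟩ := cell_unique C hBa hBa'
        ((signPart_conj C K hw (k := D.nroots / 2)).1 (mul_mem (hB _ b').2 (inv_mem (hB _ b).2))) eq'
      obtain ⟨h3, h4⟩ := borel_parts C (hfixB _ (hA a)) (hfixB _ (hA a')) d.2 d'.2 h1
      rw [Subtype.ext h3, Subtype.ext h4, Subtype.ext h2]
    · rintro ⟨g, hg1, hg2⟩
      obtain ⟨w, hw, hst, u, hu, d, hd, s, hs, hs', rfl⟩ := cent_decomp C K hg1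
        (Subgroup.mem_centralizer_iff.1 hg2 h rfl)
      obtain ⟨v, hvW, hperm⟩ := hcomp w hw fun r hr => by
        rw [Bool.eq_iff_iff, ← chr_sgnVec_eq_one C h2, ← chr_sgnVec_eq_one C h2, ← hc, hst r hr]
      obtain ⟨i, hi, rfl⟩ := List.getElem_of_mem hvW
      have hvw : IsWord D Ws[i] := hWw _ (List.getElem_mem hi)
      have hd' : (wnu C F Ws[i])⁻¹ * wnu C F w ∈ D.diagonalSubgroup F :=
        same_of_perm C K hvw hw fun k hk => hperm _ (C.spec.simp_lt k hk)
      have hd'' : wnu C F Ws[i] * ((wnu C F Ws[i])⁻¹ * wnu C F w) * (wnu C F Ws[i])⁻¹ ∈ D.diagonalSubgroup F :=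
        (conj_mem_diag C (wnu_mem C hvw) hd').1
      obtain ⟨tu, htu, rfl⟩ := hu
      refine ⟨⟨⟨i, hi⟩, ⟨_, tu, (hsupp tu).2 htu, rfl⟩, ⟨_, mul_mem hd hd''⟩,
        ⟨s, hfixB' _ hvw s hs ((signPart_congr C K hperm true _).ge hs')⟩⟩, Subtype.ext ?_⟩
      show oprod C _ _ tu * (d * (wnu C F Ws[i] * ((wnu C F Ws[i])⁻¹ * wnu C F w) * (wnu C F Ws[i])⁻¹)) *
        wnu C F Ws[i] * s = _
      group
  have hcA : Nat.card A = Nat.card F ^ (fixPos D T e).length := card_oprod C SP _ (by omega) (by omega)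
  have hcB : ∀ w, Nat.card (B w) = Nat.card F ^
      ((fixPos D T e).filter fun r => decide (2 * wperm T w r < D.nroots)).length := fun w => by
    refine (card_oprod C (Sw w) _ (by omega) (by omega)).trans ?_
    rw [fixPos, List.filter_filter]
    congr 3
    funext r
    exact Bool.and_comm _ _
  haveI : ∀ w, Finite (B w) := fun w => Subtype.finite
  haveI : Finite A := Subtype.finite
  rw [show Nat.card ↥(D.group F ⊓ Subgroup.centralizer {h}) = Nat.card X from
    (Nat.card_eq_of_bijective Φ hΦ).symm, Nat.card_sigma]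
  simp only [Nat.card_prod, hcA, hcB]
  rw [← Finset.mul_sum, mul_assoc]
  congr 1
  rw [← Finset.mul_sum]
  congr 1
  have key : ∀ (l : List (List ℕ)) (f : List ℕ → ℕ), ∑ i : Fin l.length, f l[i] = (l.map f).sum := fun l f => by
    rw [← List.ofFn_getElem_eq_map, List.sum_ofFn]; rfl
  refine (key Ws fun w =>
    Nat.card F ^ ((fixPos D T e).filter fun r => decide (2 * wperm T w r < D.nroots)).length).trans ?_
  rfl

/-- The order of the centraliser of a sign vector. -/
theorem card_cent_sgn [Finite F] (h2 : (2 : F) ≠ 0) {Ls : List WLevel} (hW : chkWeyl T Ls = true) (e : ℕ) :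
    Nat.card ↥(D.group F ⊓ Subgroup.centralizer {torusHom D T F (sgnVec D F e)}) =
      Nat.card F ^ (fixPos D T e).length * Nat.card ↥(D.diagonalSubgroup F) *
        ((centExps D T (allW (nth ([], []) Ls) D.rank) e).map fun k => Nat.card F ^ k).sum := by
  rw [centExps, List.map_map]
  refine card_cent_list C K h2 e (fun w hw => (allW_below C K hW _ le_rfl _ (List.mem_of_mem_filter hw)).isWord le_rfl)
    (fun w hw r hr => ?_) (fun w hw hst => ?_) ((allW_pairwise C K hW _ le_rfl).sublist List.filter_sublist)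
  · have := (List.mem_filter.1 hw).2
    simp only [allBelow_iff, beq_iff_eq] at this
    exact this r hr
  · obtain ⟨v, hv, hperm⟩ := allW_complete C K hW _ le_rfl w hw
    refine ⟨v, List.mem_filter.2 ⟨hv, ?_⟩, hperm⟩
    simp only [allBelow_iff, beq_iff_eq]
    intro r hr
    rw [hperm r hr]; exact hst r hr

end Cfsg.Lib.Chev
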