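import Cfsg.Agent.Lib.Chev.InvE8Data1
import Cfsg.Agent.Lib.Chev.InvE8Data3
import Cfsg.Agent.Lib.Chev.OrderE8

/-!
Representatives and words of the sign vectors for the type E8.
-/

set_option autoImplicit false
set_option maxRecDepth 100000

namespace Cfsg.Lib.Chev

open Cfsg.Lie

/-- Representatives and words of the sign vectors. -/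
def invTorTblE8 : List (ℕ × List ℕ) :=
  [(0, []), (1, []), (1, [3, 2, 1, 3, 0, 2]), (3, []), (1, [0, 2]), (1, [2]), (3, [0, 2]), (3, [2]), (1, [2, 3, 0, 2]), (3, [1, 3]), (1, [2, 1, 3, 0, 2]), (3, [3]), (1, [3, 0, 2]), (1, [3, 2]), (1, [1, 3, 0, 2]), (1, [1, 3, 2]), (1, [3, 4, 2, 3, 0, 2]), (3, [3, 4, 1, 3]), (3, [5, 4, 3, 2, 1, 3, 4, 5, 0, 2, 3, 4, 1, 3]), (1, [2, 3, 4, 1, 3, 2]), (3, [0, 2, 3, 4, 1, 3]), (3, [2, 3, 4, 1, 3]), (1, [3, 4, 1, 3, 0, 2]), (1, [3, 4, 1, 3, 2]), (1, [4, 2, 3, 0, 2]), (3, [4, 1, 3]), (1, [4, 2, 1, 3, 0, 2]), (3, [4, 3]), (1, [4, 3, 0, 2]), (1, [4, 3, 2]), (1, [4, 1, 3, 0, 2]), (1, [4, 1, 3, 2]), (1, [4, 5, 3, 4, 2, 3, 0, 2]),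 (3, [4, 5, 3, 4, 1, 3]), (3, [3, 2, 1, 3, 4, 5, 0, 2, 3, 4, 1, 3]), (1, [4, 5, 2, 3, 4, 1, 3, 2]), (3, [4, 5, 0, 2, 3, 4, 1, 3]), (3, [4, 5, 2, 3, 4, 1, 3]), (1, [4, 5, 3, 4, 1, 3, 0, 2]), (1, [4, 5, 3, 4, 1, 3, 2]), (3, [2, 3, 4, 5, 0, 2, 3, 4, 1, 3]), (1, [1, 3, 4, 5, 2, 3, 4, 1, 3, 2]), (3, [2, 1, 3, 4, 5, 0, 2, 3, 4, 1, 3]), (1, [3, 4, 5, 2, 3, 4, 1, 3, 2]), (3, [3, 4, 5, 0, 2, 3, 4, 1, 3]), (3, [3, 4, 5, 2, 3, 4, 1, 3]), (3, [1, 3, 4, 5, 0, 2, 3, 4, 1, 3]), (3, [1, 3, 4, 5, 2, 3, 4, 1, 3]), (1, [5, 3, 4, 2, 3, 0, 2]), (3, [5, 3, 4, 1, 3]), (3, [4, 3, 2, 1, 3, 4, 5, 0, 2, 3, 4, 1, 3]), (1, [5, 2, 3, 4, 1, 3, 2]), (3, [5, 0, 2, 3, 4, 1, 3]), (3, [5, 2,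 3, 4, 1, 3]), (1, [5, 3, 4, 1, 3, 0, 2]), (1, [5, 3, 4, 1, 3, 2]), (1, [5, 4, 2, 3, 0, 2]), (3, [5, 4, 1, 3]), (1, [5, 4, 2, 1, 3, 0, 2]), (3, [5, 4, 3]), (1, [5, 4, 3, 0, 2]), (1, [5, 4, 3, 2]), (1, [5, 4, 1, 3, 0, 2]), (1, [5, 4, 1, 3, 2]), (1, [5, 6, 4, 5, 3, 4, 2, 3, 0, 2]), (3, [5, 6, 4, 5, 3, 4, 1, 3]), (3, [5, 6, 3, 2, 1, 3, 4, 5, 0, 2, 3, 4, 1, 3]), (1, [5, 6, 4, 5, 2, 3, 4, 1, 3, 2]), (3, [5, 6, 4, 5, 0, 2, 3, 4, 1, 3]), (3, [5, 6, 4, 5, 2, 3, 4, 1, 3]), (1, [5, 6, 4, 5, 3, 4, 1, 3, 0, 2]), (1, [5, 6, 4, 5, 3, 4, 1, 3, 2]), (3, [5, 6, 2, 3, 4, 5, 0, 2, 3, 4, 1, 3]), (1, [5, 6, 1, 3, 4, 5, 2, 3, 4, 1, 3, 2]), (3, [5, 6, 2, 1, 3, 4, 5, 0, 2, 3, 4,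 1, 3]), (1, [5, 6, 3, 4, 5, 2, 3, 4, 1, 3, 2]), (3, [5, 6, 3, 4, 5, 0, 2, 3, 4, 1, 3]), (3, [5, 6, 3, 4, 5, 2, 3, 4, 1, 3]), (3, [5, 6, 1, 3, 4, 5, 0, 2, 3, 4, 1, 3]), (3, [5, 6, 1, 3, 4, 5, 2, 3, 4, 1, 3]), (3, [3, 4, 5, 6, 2, 3, 4, 5, 0, 2, 3, 4, 1, 3]), (1, [3, 4, 5, 6, 1, 3, 4, 5, 2, 3, 4, 1, 3, 2]), (1, [7, 6, 5, 4, 3, 2, 1, 3, 4, 5, 6, 7, 0, 2, 3, 4, 5, 6, 1, 3, 4, 5, 2, 3, 4, 1, 3, 2]), (3, [2, 3, 4, 5, 6, 1, 3, 4, 5, 2, 3, 4, 1, 3]), (1, [0, 2, 3, 4, 5, 6, 1, 3, 4, 5, 2, 3, 4, 1, 3, 2]), (1, [2, 3, 4, 5, 6, 1, 3, 4, 5, 2, 3, 4, 1, 3, 2]), (3, [3, 4, 5, 6, 1, 3, 4, 5, 0, 2, 3, 4, 1, 3]), (3, [3, 4, 5, 6, 1, 3, 4, 5, 2, 3, 4, 1, 3]), (3, [4, 5, 6,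 2, 3, 4, 5, 0, 2, 3, 4, 1, 3]), (1, [4, 5, 6, 1, 3, 4, 5, 2, 3, 4, 1, 3, 2]), (3, [4, 5, 6, 2, 1, 3, 4, 5, 0, 2, 3, 4, 1, 3]), (1, [4, 5, 6, 3, 4, 5, 2, 3, 4, 1, 3, 2]), (3, [4, 5, 6, 3, 4, 5, 0, 2, 3, 4, 1, 3]), (3, [4, 5, 6, 3, 4, 5, 2, 3, 4, 1, 3]), (3, [4, 5, 6, 1, 3, 4, 5, 0, 2, 3, 4, 1, 3]), (3, [4, 5, 6, 1, 3, 4, 5, 2, 3, 4, 1, 3]), (1, [6, 4, 5, 3, 4, 2, 3, 0, 2]), (3, [6, 4, 5, 3, 4, 1, 3]), (3, [6, 3, 2, 1, 3, 4, 5, 0, 2, 3, 4, 1, 3]), (1, [6, 4, 5, 2, 3, 4, 1, 3, 2]), (3, [6, 4, 5, 0, 2, 3, 4, 1, 3]), (3, [6, 4, 5, 2, 3, 4, 1, 3]), (1, [6, 4, 5, 3, 4, 1, 3, 0, 2]), (1, [6, 4, 5, 3, 4, 1, 3, 2]), (3, [6, 2, 3, 4, 5, 0, 2, 3, 4, 1, 3]), (1, [6,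 1, 3, 4, 5, 2, 3, 4, 1, 3, 2]), (3, [6, 2, 1, 3, 4, 5, 0, 2, 3, 4, 1, 3]), (1, [6, 3, 4, 5, 2, 3, 4, 1, 3, 2]), (3, [6, 3, 4, 5, 0, 2, 3, 4, 1, 3]), (3, [6, 3, 4, 5, 2, 3, 4, 1, 3]), (3, [6, 1, 3, 4, 5, 0, 2, 3, 4, 1, 3]), (3, [6, 1, 3, 4, 5, 2, 3, 4, 1, 3]), (1, [6, 5, 3, 4, 2, 3, 0, 2]), (3, [6, 5, 3, 4, 1, 3]), (3, [6, 4, 3, 2, 1, 3, 4, 5, 0, 2, 3, 4, 1, 3]), (1, [6, 5, 2, 3, 4, 1, 3, 2]), (3, [6, 5, 0, 2, 3, 4, 1, 3]), (3, [6, 5, 2, 3, 4, 1, 3]), (1, [6, 5, 3, 4, 1, 3, 0, 2]), (1, [6, 5, 3, 4, 1, 3, 2]), (1, [6, 5, 4, 2, 3, 0, 2]), (3, [6, 5, 4, 1, 3]), (1, [6, 5, 4, 2, 1, 3, 0, 2]), (3, [6, 5, 4, 3]), (1, [6, 5, 4, 3, 0, 2]), (1, [6, 5, 4, 3, 2]), (1,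 [6, 5, 4, 1, 3, 0, 2]), (1, [6, 5, 4, 1, 3, 2]), (1, [6, 7, 5, 6, 4, 5, 3, 4, 2, 3, 0, 2]), (3, [6, 7, 5, 6, 4, 5, 3, 4, 1, 3]), (3, [6, 7, 5, 6, 3, 2, 1, 3, 4, 5, 0, 2, 3, 4, 1, 3]), (1, [6, 7, 5, 6, 4, 5, 2, 3, 4, 1, 3, 2]), (3, [6, 7, 5, 6, 4, 5, 0, 2, 3, 4, 1, 3]), (3, [6, 7, 5, 6, 4, 5, 2, 3, 4, 1, 3]), (1, [6, 7, 5, 6, 4, 5, 3, 4, 1, 3, 0, 2]), (1, [6, 7, 5, 6, 4, 5, 3, 4, 1, 3, 2]), (3, [6, 7, 5, 6, 2, 3, 4, 5, 0, 2, 3, 4, 1, 3]), (1, [6, 7, 5, 6, 1, 3, 4, 5, 2, 3, 4, 1, 3, 2]), (3, [6, 7, 5, 6, 2, 1, 3, 4, 5, 0, 2, 3, 4, 1, 3]), (1, [6, 7, 5, 6, 3, 4, 5, 2, 3, 4, 1, 3, 2]), (3, [6, 7, 5, 6, 3, 4, 5, 0, 2, 3, 4, 1, 3]), (3, [6, 7, 5, 6, 3, 4, 5, 2,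 3, 4, 1, 3]), (3, [6, 7, 5, 6, 1, 3, 4, 5, 0, 2, 3, 4, 1, 3]), (3, [6, 7, 5, 6, 1, 3, 4, 5, 2, 3, 4, 1, 3]), (3, [6, 7, 3, 4, 5, 6, 2, 3, 4, 5, 0, 2, 3, 4, 1, 3]), (1, [6, 7, 3, 4, 5, 6, 1, 3, 4, 5, 2, 3, 4, 1, 3, 2]), (1, [5, 4, 3, 2, 1, 3, 4, 5, 6, 7, 0, 2, 3, 4, 5, 6, 1, 3, 4, 5, 2, 3, 4, 1, 3, 2]), (3, [6, 7, 2, 3, 4, 5, 6, 1, 3, 4, 5, 2, 3, 4, 1, 3]), (1, [6, 7, 0, 2, 3, 4, 5, 6, 1, 3, 4, 5, 2, 3, 4, 1, 3, 2]), (1, [6, 7, 2, 3, 4, 5, 6, 1, 3, 4, 5, 2, 3, 4, 1, 3, 2]), (3, [6, 7, 3, 4, 5, 6, 1, 3, 4, 5, 0, 2, 3, 4, 1, 3]), (3, [6, 7, 3, 4, 5, 6, 1, 3, 4, 5, 2, 3, 4, 1, 3]), (3, [6, 7, 4, 5, 6, 2, 3, 4, 5, 0, 2, 3, 4, 1, 3]), (1, [6, 7, 4, 5, 6, 1, 3,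 4, 5, 2, 3, 4, 1, 3, 2]), (3, [6, 7, 4, 5, 6, 2, 1, 3, 4, 5, 0, 2, 3, 4, 1, 3]), (1, [6, 7, 4, 5, 6, 3, 4, 5, 2, 3, 4, 1, 3, 2]), (3, [6, 7, 4, 5, 6, 3, 4, 5, 0, 2, 3, 4, 1, 3]), (3, [6, 7, 4, 5, 6, 3, 4, 5, 2, 3, 4, 1, 3]), (3, [6, 7, 4, 5, 6, 1, 3, 4, 5, 0, 2, 3, 4, 1, 3]), (3, [6, 7, 4, 5, 6, 1, 3, 4, 5, 2, 3, 4, 1, 3]), (3, [4, 5, 6, 7, 3, 4, 5, 6, 2, 3, 4, 5, 0, 2, 3, 4, 1, 3]), (1, [4, 5, 6, 7, 3, 4, 5, 6, 1, 3, 4, 5, 2, 3, 4, 1, 3, 2]), (1, [3, 2, 1, 3, 4, 5, 6, 7, 0, 2, 3, 4, 5, 6, 1, 3, 4, 5, 2, 3, 4, 1, 3, 2]), (3, [4, 5, 6, 7, 2, 3, 4, 5, 6, 1, 3, 4, 5, 2, 3, 4, 1, 3]), (1, [4, 5, 6, 7, 0, 2, 3, 4, 5, 6, 1, 3, 4, 5, 2, 3, 4, 1, 3, 2]), (1, [4,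 5, 6, 7, 2, 3, 4, 5, 6, 1, 3, 4, 5, 2, 3, 4, 1, 3, 2]), (3, [4, 5, 6, 7, 3, 4, 5, 6, 1, 3, 4, 5, 0, 2, 3, 4, 1, 3]), (3, [4, 5, 6, 7, 3, 4, 5, 6, 1, 3, 4, 5, 2, 3, 4, 1, 3]), (1, [2, 3, 4, 5, 6, 7, 0, 2, 3, 4, 5, 6, 1, 3, 4, 5, 2, 3, 4, 1, 3, 2]), (3, [1, 3, 4, 5, 6, 7, 2, 3, 4, 5, 6, 1, 3, 4, 5, 2, 3, 4, 1, 3]), (1, [2, 1, 3, 4, 5, 6, 7, 0, 2, 3, 4, 5, 6, 1, 3, 4, 5, 2, 3, 4, 1, 3, 2]), (3, [3, 4, 5, 6, 7, 2, 3, 4, 5, 6, 1, 3, 4, 5, 2, 3, 4, 1, 3]), (1, [3, 4, 5, 6, 7, 0, 2, 3, 4, 5, 6, 1, 3, 4, 5, 2, 3, 4, 1, 3, 2]), (1, [3, 4, 5, 6, 7, 2, 3, 4, 5, 6, 1, 3, 4, 5, 2, 3, 4, 1, 3, 2]), (1, [1, 3, 4, 5, 6, 7, 0, 2, 3, 4, 5, 6, 1, 3, 4, 5, 2, 3, 4, 1, 3, 2]),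 (1, [1, 3, 4, 5, 6, 7, 2, 3, 4, 5, 6, 1, 3, 4, 5, 2, 3, 4, 1, 3, 2]), (3, [5, 6, 7, 3, 4, 5, 6, 2, 3, 4, 5, 0, 2, 3, 4, 1, 3]), (1, [5, 6, 7, 3, 4, 5, 6, 1, 3, 4, 5, 2, 3, 4, 1, 3, 2]), (1, [4, 3, 2, 1, 3, 4, 5, 6, 7, 0, 2, 3, 4, 5, 6, 1, 3, 4, 5, 2, 3, 4, 1, 3, 2]), (3, [5, 6, 7, 2, 3, 4, 5, 6, 1, 3, 4, 5, 2, 3, 4, 1, 3]), (1, [5, 6, 7, 0, 2, 3, 4, 5, 6, 1, 3, 4, 5, 2, 3, 4, 1, 3, 2]), (1, [5, 6, 7, 2, 3, 4, 5, 6, 1, 3, 4, 5, 2, 3, 4, 1, 3, 2]), (3, [5, 6, 7, 3, 4, 5, 6, 1, 3, 4, 5, 0, 2, 3, 4, 1, 3]), (3, [5, 6, 7, 3, 4, 5, 6, 1, 3, 4, 5, 2, 3, 4, 1, 3]), (3, [5, 6, 7, 4, 5, 6, 2, 3, 4, 5, 0, 2, 3, 4, 1, 3]), (1, [5, 6, 7, 4, 5, 6, 1, 3, 4, 5, 2, 3, 4,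 1, 3, 2]), (3, [5, 6, 7, 4, 5, 6, 2, 1, 3, 4, 5, 0, 2, 3, 4, 1, 3]), (1, [5, 6, 7, 4, 5, 6, 3, 4, 5, 2, 3, 4, 1, 3, 2]), (3, [5, 6, 7, 4, 5, 6, 3, 4, 5, 0, 2, 3, 4, 1, 3]), (3, [5, 6, 7, 4, 5, 6, 3, 4, 5, 2, 3, 4, 1, 3]), (3, [5, 6, 7, 4, 5, 6, 1, 3, 4, 5, 0, 2, 3, 4, 1, 3]), (3, [5, 6, 7, 4, 5, 6, 1, 3, 4, 5, 2, 3, 4, 1, 3]), (1, [7, 5, 6, 4, 5, 3, 4, 2, 3, 0, 2]), (3, [7, 5, 6, 4, 5, 3, 4, 1, 3]), (3, [7, 5, 6, 3, 2, 1, 3, 4, 5, 0, 2, 3, 4, 1, 3]), (1, [7, 5, 6, 4, 5, 2, 3, 4, 1, 3, 2]), (3, [7, 5, 6, 4, 5, 0, 2, 3, 4, 1, 3]), (3, [7, 5, 6, 4, 5, 2, 3, 4, 1, 3]), (1, [7, 5, 6, 4, 5, 3, 4, 1, 3, 0, 2]), (1, [7, 5, 6, 4, 5, 3, 4, 1, 3, 2]), (3, [7, 5, 6,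 2, 3, 4, 5, 0, 2, 3, 4, 1, 3]), (1, [7, 5, 6, 1, 3, 4, 5, 2, 3, 4, 1, 3, 2]), (3, [7, 5, 6, 2, 1, 3, 4, 5, 0, 2, 3, 4, 1, 3]), (1, [7, 5, 6, 3, 4, 5, 2, 3, 4, 1, 3, 2]), (3, [7, 5, 6, 3, 4, 5, 0, 2, 3, 4, 1, 3]), (3, [7, 5, 6, 3, 4, 5, 2, 3, 4, 1, 3]), (3, [7, 5, 6, 1, 3, 4, 5, 0, 2, 3, 4, 1, 3]), (3, [7, 5, 6, 1, 3, 4, 5, 2, 3, 4, 1, 3]), (3, [7, 3, 4, 5, 6, 2, 3, 4, 5, 0, 2, 3, 4, 1, 3]), (1, [7, 3, 4, 5, 6, 1, 3, 4, 5, 2, 3, 4, 1, 3, 2]), (1, [6, 5, 4, 3, 2, 1, 3, 4, 5, 6, 7, 0, 2, 3, 4, 5, 6, 1, 3, 4, 5, 2, 3, 4, 1, 3, 2]), (3, [7, 2, 3, 4, 5, 6, 1, 3, 4, 5, 2, 3, 4, 1, 3]), (1, [7, 0, 2, 3, 4, 5, 6, 1, 3, 4, 5, 2, 3, 4, 1, 3, 2]), (1, [7, 2, 3, 4, 5,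 6, 1, 3, 4, 5, 2, 3, 4, 1, 3, 2]), (3, [7, 3, 4, 5, 6, 1, 3, 4, 5, 0, 2, 3, 4, 1, 3]), (3, [7, 3, 4, 5, 6, 1, 3, 4, 5, 2, 3, 4, 1, 3]), (3, [7, 4, 5, 6, 2, 3, 4, 5, 0, 2, 3, 4, 1, 3]), (1, [7, 4, 5, 6, 1, 3, 4, 5, 2, 3, 4, 1, 3, 2]), (3, [7, 4, 5, 6, 2, 1, 3, 4, 5, 0, 2, 3, 4, 1, 3]), (1, [7, 4, 5, 6, 3, 4, 5, 2, 3, 4, 1, 3, 2]), (3, [7, 4, 5, 6, 3, 4, 5, 0, 2, 3, 4, 1, 3]), (3, [7, 4, 5, 6, 3, 4, 5, 2, 3, 4, 1, 3]), (3, [7, 4, 5, 6, 1, 3, 4, 5, 0, 2, 3, 4, 1, 3]), (3, [7, 4, 5, 6, 1, 3, 4, 5, 2, 3, 4, 1, 3]), (1, [7, 6, 4, 5, 3, 4, 2, 3, 0, 2]), (3, [7, 6, 4, 5, 3, 4, 1, 3]), (3, [7, 6, 3, 2, 1, 3, 4, 5, 0, 2, 3, 4, 1, 3]), (1, [7, 6, 4, 5, 2, 3, 4, 1,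 3, 2]), (3, [7, 6, 4, 5, 0, 2, 3, 4, 1, 3]), (3, [7, 6, 4, 5, 2, 3, 4, 1, 3]), (1, [7, 6, 4, 5, 3, 4, 1, 3, 0, 2]), (1, [7, 6, 4, 5, 3, 4, 1, 3, 2]), (3, [7, 6, 2, 3, 4, 5, 0, 2, 3, 4, 1, 3]), (1, [7, 6, 1, 3, 4, 5, 2, 3, 4, 1, 3, 2]), (3, [7, 6, 2, 1, 3, 4, 5, 0, 2, 3, 4, 1, 3]), (1, [7, 6, 3, 4, 5, 2, 3, 4, 1, 3, 2]), (3, [7, 6, 3, 4, 5, 0, 2, 3, 4, 1, 3]), (3, [7, 6, 3, 4, 5, 2, 3, 4, 1, 3]), (3, [7, 6, 1, 3, 4, 5, 0, 2, 3, 4, 1, 3]), (3, [7, 6, 1, 3, 4, 5, 2, 3, 4, 1, 3]), (1, [7, 6, 5, 3, 4, 2, 3, 0, 2]), (3, [7, 6, 5, 3, 4, 1, 3]), (3, [7, 6, 4, 3, 2, 1, 3, 4, 5, 0, 2, 3, 4, 1, 3]), (1, [7, 6, 5, 2, 3, 4, 1, 3, 2]), (3, [7, 6, 5, 0, 2, 3, 4, 1, 3]),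 (3, [7, 6, 5, 2, 3, 4, 1, 3]), (1, [7, 6, 5, 3, 4, 1, 3, 0, 2]), (1, [7, 6, 5, 3, 4, 1, 3, 2]), (1, [7, 6, 5, 4, 2, 3, 0, 2]), (3, [7, 6, 5, 4, 1, 3]), (1, [7, 6, 5, 4, 2, 1, 3, 0, 2]), (3, [7, 6, 5, 4, 3]), (1, [7, 6, 5, 4, 3, 0, 2]), (1, [7, 6, 5, 4, 3, 2]), (1, [7, 6, 5, 4, 1, 3, 0, 2]), (1, [7, 6, 5, 4, 1, 3, 2])]

theorem invTorTblE8_ok : chkTorClasses chevE8 tblE8 invTorTblE8 = true := by decide +kernel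

end Cfsg.Lib.Chev
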