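import Cfsg.Agent.Lib.Chev.InvF4Data

/-!
The two classes of involutions of `F₄(q)`, `q` odd, with the orders of their centralisers.
-/

set_option autoImplicit false
set_option linter.unusedSectionVars false
set_option maxRecDepth 100000

namespace Cfsg.Lib.Chev

open Cfsg.Lie
open scoped Matrix

theorem sum_map_flatMap_replicate {α : Type*} (f : α → ℕ) : ∀ L : List (ℕ × α),
    ((L.flatMap fun p => List.replicate p.1 p.2).map f).sum = (L.map fun p => p.1 * f p.2).sum
  | [] => rfl
  | p :: L => by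
    rw [List.flatMap_cons, List.map_append, List.sum_append, sum_map_flatMap_replicate f L, List.map_replicate,
      List.sum_replicate, List.map_cons, List.sum_cons, smul_eq_mul]

variable {F : Type*} [Field F] [Fintype F]

private theorem cF4 : Cert chevF4 tblF4 := fullCertF4.comm.cert

theorem f4_torus_injective {F : Type*} [Field F] : Function.Injective (torusHom chevF4 tblF4 F) :=
  torusHom_injective_scalar cF4 inv_F4 fun x hx => by simpa using hx

/-- A torus involution. -/
noncomputable def f4Inv (F : Type*) [Field F] (e : ℕ) : GL chevF4.Idx F :=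
  torusHom chevF4 tblF4 F (sgnVec chevF4 F e)

theorem f4Inv_mem (e : ℕ) : f4Inv F e ∈ chevF4.group F :=
  diag_le_group cF4 (by rw [← torusHom_range cF4]; exact ⟨_, rfl⟩)

theorem f4_cent_exps_one :
    (centExps chevF4 tblF4 (allW (nth ([], []) weylF4) chevF4.rank) 1).Perm
      (([(1, 0), (4, 1), (9, 2), (16, 3), (24, 4), (32, 5), (39, 6), (44, 7), (46, 8), (44, 9), (39, 10), (32, 11),
        (24, 12), (16, 13), (9, 14), (4, 15), (1, 16)] : List (ℕ × ℕ)).flatMap fun p => List.replicate p.1 p.2) := by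
  decide +kernel

theorem f4_cent_exps_four :
    (centExps chevF4 tblF4 (allW (nth ([], []) weylF4) chevF4.rank) 4).Perm
      (([(1, 0), (4, 1), (8, 2), (12, 3), (15, 4), (16, 5), (15, 6), (12, 7), (8, 8), (4, 9), (1, 10)] :
        List (ℕ × ℕ)).flatMap fun p => List.replicate p.1 p.2) := by
  decide +kernel

theorem f4_card_torus : Nat.card ↥(chevF4.diagonalSubgroup F) = (Fintype.card F - 1) ^ 4 := by
  classical
  rw [← torusHom_range cF4, ← Nat.card_congr (MonoidHom.ofInjective f4_torus_injective).toEquiv, Nat.card_pi]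
  simp [Nat.card_eq_fintype_card, Fintype.card_units, show chevF4.rank = 4 from rfl]

theorem f4_card_one (hF : Odd (Fintype.card F)) :
    Nat.card ↥(chevF4.group F ⊓ Subgroup.centralizer {f4Inv F 1}) =
      Fintype.card F ^ 16 * (Fintype.card F ^ 2 - 1) * (Fintype.card F ^ 4 - 1) * (Fintype.card F ^ 6 - 1) *
        (Fintype.card F ^ 8 - 1) := by
  have h2 := two_ne_zero_of_odd_card hF
  rw [f4Inv, card_cent_sgn cF4 fullCertF4 h2 chkWeylF4 1, (f4_cent_exps_one.map _).sum_eq,
    sum_map_flatMap_replicate, show (fixPos chevF4 tblF4 1).length = 16 by decide +kernel, f4_card_torus,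
    Nat.card_eq_fintype_card]
  simp only [List.map_cons, List.map_nil, List.sum_cons, List.sum_nil, add_zero]
  set q := Fintype.card F
  have hq : 1 ≤ q := Fintype.card_pos
  have h (n : ℕ) : 1 ≤ q ^ n := Nat.one_le_pow _ _ hq
  zify [hq, h 2, h 4, h 6, h 8]
  ring

theorem f4_card_four (hF : Odd (Fintype.card F)) :
    Nat.card ↥(chevF4.group F ⊓ Subgroup.centralizer {f4Inv F 4}) =
      Fintype.card F ^ 10 * (Fintype.card F ^ 2 - 1) ^ 2 * (Fintype.card F ^ 4 - 1) * (Fintype.card F ^ 6 - 1) := by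
  have h2 := two_ne_zero_of_odd_card hF
  rw [f4Inv, card_cent_sgn cF4 fullCertF4 h2 chkWeylF4 4, (f4_cent_exps_four.map _).sum_eq,
    sum_map_flatMap_replicate, show (fixPos chevF4 tblF4 4).length = 10 by decide +kernel, f4_card_torus,
    Nat.card_eq_fintype_card]
  simp only [List.map_cons, List.map_nil, List.sum_cons, List.sum_nil, add_zero]
  set q := Fintype.card F
  have hq : 1 ≤ q := Fintype.card_pos
  have h (n : ℕ) : 1 ≤ q ^ n := Nat.one_le_pow _ _ hq
  zify [hq, h 2, h 4, h 6]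
  ring

omit [Fintype F] in
theorem card_centralizer_subgroup (G : Subgroup (GL chevF4.Idx F)) (z : ↥G) :
    Nat.card (Subgroup.centralizer ({z} : Set ↥G)) = Nat.card ↥(G ⊓ Subgroup.centralizer {(z : GL chevF4.Idx F)}) := by
  have e : (Subgroup.centralizer ({z} : Set ↥G)).map G.subtype = G ⊓ Subgroup.centralizer {(z : GL chevF4.Idx F)} := by
    ext g
    simp only [Subgroup.mem_map, Subgroup.mem_centralizer_iff, Set.mem_singleton_iff, forall_eq, Subgroup.mem_inf]
    constructor
    · rintro ⟨x, hx, rfl⟩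
      exact ⟨x.2, congrArg Subtype.val hx⟩
    · rintro ⟨hg, hx⟩
      exact ⟨⟨g, hg⟩, Subtype.ext hx, rfl⟩
  rw [← e]
  exact Nat.card_congr (Subgroup.equivMapOfInjective _ _ Subtype.val_injective).toEquiv

theorem f4_involution_classes (hF : Odd (Fintype.card F)) :
    ∃ s t : ↥(chevF4.group F), orderOf s = 2 ∧ orderOf t = 2 ∧ ¬ IsConj s t ∧
      (∀ u : ↥(chevF4.group F), orderOf u = 2 → IsConj u s ∨ IsConj u t) ∧
      Nat.card (Subgroup.centralizer ({s} : Set ↥(chevF4.group F))) = Fintype.card F ^ 16 *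
        (Fintype.card F ^ 2 - 1) * (Fintype.card F ^ 4 - 1) * (Fintype.card F ^ 6 - 1) * (Fintype.card F ^ 8 - 1) ∧
      Nat.card (Subgroup.centralizer ({t} : Set ↥(chevF4.group F))) =
        Fintype.card F ^ 10 * (Fintype.card F ^ 2 - 1) ^ 2 * (Fintype.card F ^ 4 - 1) * (Fintype.card F ^ 6 - 1) := by
  classical
  have h2 := two_ne_zero_of_odd_card hF
  have hord : ∀ e, e = 1 ∨ e = 4 → orderOf (⟨f4Inv F e, f4Inv_mem e⟩ : ↥(chevF4.group F)) = 2 := by
    intro e he
    rw [Subgroup.orderOf_mk, orderOf_eq_prime_iff, f4Inv, ← map_pow, ← map_one (torusHom chevF4 tblF4 F)]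
    refine ⟨congrArg _ (funext fun j => Units.ext ?_), fun h => ?_⟩
    · simp only [sgnVec, Pi.pow_apply, Pi.one_apply]; split_ifs <;> simp
    · have h1 := fun j => congrArg Units.val (congrFun (f4_torus_injective h) j)
      have hne : (-1 : F) ≠ 1 := fun h' => h2 (by linear_combination -h')
      rcases he with rfl | rfl
      · exact hne (by simpa [sgnVec] using h1 ⟨0, by decide⟩)
      · exact hne (by simpa [sgnVec, show Nat.testBit 4 2 = true from rfl] using h1 ⟨2, by decide⟩)
  have hcs := (card_centralizer_subgroup _ ⟨f4Inv F 1, f4Inv_mem 1⟩).trans (f4_card_one hF)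
  have hct := (card_centralizer_subgroup _ ⟨f4Inv F 4, f4Inv_mem 4⟩).trans (f4_card_four hF)
  refine ⟨_, _, hord 1 (Or.inl rfl), hord 4 (Or.inr rfl), fun hc => ?_, fun u hu => ?_, hcs, hct⟩
  · obtain ⟨c, hc⟩ := isConj_iff.1 hc
    have e : Nat.card (Subgroup.centralizer ({⟨f4Inv F 1, f4Inv_mem 1⟩} : Set ↥(chevF4.group F))) =
        Nat.card (Subgroup.centralizer ({⟨f4Inv F 4, f4Inv_mem 4⟩} : Set ↥(chevF4.group F))) := by
      refine Nat.card_congr ((MulAut.conj c).toEquiv.subtypeEquiv fun g => ?_)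
      simp only [Subgroup.mem_centralizer_iff, Set.mem_singleton_iff, forall_eq, MulEquiv.toEquiv_eq_coe,
        EquivLike.coe_coe, MulAut.conj_apply]
      rw [← hc]
      generalize (⟨f4Inv F 1, f4Inv_mem 1⟩ : ↥(chevF4.group F)) = s
      rw [show c * s * c⁻¹ * (c * g * c⁻¹) = c * (s * g) * c⁻¹ by group,
        show c * g * c⁻¹ * (c * s * c⁻¹) = c * (g * s) * c⁻¹ by group]
      exact ⟨fun h => by rw [h], fun h => by simpa using h⟩
    rw [hcs, hct] at e
    set q := Fintype.card F
    have hq : 2 ≤ q := Fintype.one_lt_card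
    have h (n : ℕ) (hn : n ≠ 0) : 0 < q ^ n - 1 := Nat.sub_pos_of_lt (Nat.one_lt_pow hn hq)
    have hlt : q ^ 10 * (q ^ 2 - 1) < q ^ 16 * (q ^ 8 - 1) := by
      refine Nat.mul_lt_mul_of_lt_of_le (Nat.pow_lt_pow_right hq (by norm_num)) ?_ (h 8 (by norm_num))
      exact Nat.sub_le_sub_right (Nat.pow_le_pow_right (by omega) (by norm_num)) 1
    have hpos : 0 < (q ^ 2 - 1) * (q ^ 4 - 1) * (q ^ 6 - 1) :=
      Nat.mul_pos (Nat.mul_pos (h 2 (by norm_num)) (h 4 (by norm_num))) (h 6 (by norm_num))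
    refine hlt.ne' (Nat.eq_of_mul_eq_mul_right hpos ?_)
    linear_combination e
  · obtain ⟨hu2, hu1⟩ := orderOf_eq_prime_iff.1 hu
    rw [pow_two] at hu2
    have hreps : ∀ e < 2 ^ chevF4.rank, e ≠ 0 →
        (invTorTblF4.getD e (0, [])).1 = 1 ∨ (invTorTblF4.getD e (0, [])).1 = 4 := by decide +kernel
    obtain ⟨e, he, he0, y, hy, hye⟩ := involution_conj_sgn cF4 fullCertF4 hF inv_F4 invTorTblF4_ok
      (fun e he he0 => by
        rcases hreps e he he0 with h | h <;> rw [h]
        exacts [⟨_, _, centConnF4_1⟩, ⟨_, _, centConnF4_4⟩])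
      u.2 (congrArg Subtype.val hu2) fun h => hu1 (Subtype.ext h)
    rcases hreps e he he0 with h | h <;> rw [h] at hye
    · exact Or.inl (isConj_iff.2 ⟨⟨y, hy⟩, Subtype.ext hye⟩)
    · exact Or.inr (isConj_iff.2 ⟨⟨y, hy⟩, Subtype.ext hye⟩)

end Cfsg.Lib.Chev
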