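import Cfsg.Agent.Lib.Chev.InvChk
import Cfsg.Agent.Lib.Chev.FullAll
import Cfsg.Agent.Lib.Chev.OrderF4

/-!
Data for the classes of involutions of the type F4 in odd characteristic.
-/

set_option autoImplicit false
set_option maxRecDepth 100000

namespace Cfsg.Lib.Chev

/-- Representatives and words of the sign vectors. -/
def invTorTblF4 : List (ℕ × List ℕ) :=
  [(0, []), (1, []), (1, [0, 1]), (1, [1]), (4, []), (4, [3, 2, 1, 2, 3, 0, 1]), (4, [1]), (4, [0, 1]), (4, [2, 3]), (4, [1, 2, 3, 0, 1]), (4, [2, 3, 1]), (4, [2, 3, 0, 1]), (4, [3]), (4, [2, 1, 2, 3, 0, 1]), (4, [3, 1]), (4, [3, 0, 1])]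

/-- Reflections of the stabiliser of the sign vector 1. -/
def invRefsF4_1 : List (List ℕ × ℕ) :=
  [([], 3), ([], 2), ([3], 2), ([1], 2), ([3, 1], 2), ([2, 3, 1], 2), ([], 0), ([1, 2, 1], 0), ([3, 1, 2, 1], 0), ([2, 3, 1, 2, 1], 0), ([0, 1], 2), ([3, 0, 1], 2), ([2, 3, 0, 1], 2), ([1, 2, 3, 0, 1], 2), ([2, 1, 2, 3, 0, 1], 2), ([3, 2, 1, 2, 3, 0, 1], 2)]

/-- Decompositions of the stabiliser of the sign vector 1. -/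
def invStabF4_1 : List (List ℕ) :=
  [[], [6], [1], [6, 1], [3], [7, 3], [6, 3], [10],
   [3, 1], [7, 3, 1], [6, 3, 1], [10, 1], [7], [10, 3], [7, 1], [10, 3, 1],
   [0], [6, 0], [2, 0], [6, 2, 0], [4, 0], [8, 4, 0], [6, 4, 0], [11, 0],
   [4, 2, 0], [8, 4, 2, 0], [6, 4, 2, 0], [11, 2, 0], [8, 0], [11, 4, 0], [8, 2, 0], [11, 4, 2, 0],
   [1, 0], [6, 1, 0], [2], [6, 2], [5, 1, 0], [9, 5, 1, 0], [6, 5, 1, 0], [12, 1, 0],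
   [5, 2], [9, 5, 2], [6, 5, 2], [12, 2], [9, 1, 0], [12, 5, 1, 0], [9, 2], [12, 5, 2],
   [3, 0], [7, 3, 0], [4], [8, 4], [3, 2, 0], [7, 3, 2, 0], [7, 4], [13, 3, 0],
   [4, 1], [8, 4, 1], [8, 3, 0], [13, 4], [7, 4, 1], [13, 3, 2, 0], [8, 3, 2, 0], [13, 4, 1],
   [6, 3, 0], [10, 0], [6, 4], [11], [6, 3, 2, 0], [10, 2, 0], [10, 4, 0], [11, 7],
   [6, 4, 1], [11, 1], [11, 3], [10, 8, 0], [10, 4, 2, 0], [11, 7, 1], [11, 3, 1], [10, 8, 2, 0],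
   [3, 1, 0], [7, 3, 1, 0], [5, 1], [9, 5, 1], [3, 2], [7, 3, 2], [7, 5, 1], [14, 3, 1, 0],
   [5], [9, 5], [9, 3, 1, 0], [14, 5, 1], [7, 5], [14, 3, 2], [9, 3, 2], [14, 5],
   [6, 3, 1, 0], [10, 1, 0], [6, 5, 1], [12, 1], [6, 3, 2], [10, 2], [10, 5, 1, 0], [12, 7, 1],
   [6, 5], [12], [12, 3, 1], [10, 9, 1, 0], [10, 5, 2], [12, 7], [12, 3], [10, 9, 2],
   [4, 2], [8, 4, 2], [5, 2, 0], [9, 5, 2, 0], [4, 1, 0], [8, 4, 1, 0], [8, 5, 2, 0], [15, 4, 2],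
   [5, 0], [9, 5, 0], [9, 4, 2], [15, 5, 2, 0], [8, 5, 0], [15, 4, 1, 0], [9, 4, 1, 0], [15, 5, 0],
   [7, 0], [10, 3, 0], [7, 4, 0], [13, 3], [10, 4], [11, 7, 0], [7, 2, 0], [10, 3, 2, 0],
   [13], [13, 6], [7, 4, 2, 0], [13, 3, 1], [10, 4, 1], [11, 7, 2, 0], [13, 1], [13, 6, 1],
   [6, 4, 2], [11, 2], [6, 5, 2, 0], [12, 2, 0], [6, 4, 1, 0], [11, 1, 0], [11, 5, 2], [12, 8, 2, 0],
   [6, 5, 0], [12, 0], [12, 4, 2, 0], [11, 9, 2], [11, 5, 1, 0], [12, 8, 0], [12, 4, 0], [11, 9, 1, 0],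
   [7, 1, 0], [10, 3, 1, 0], [7, 5, 1, 0], [14, 3, 1], [10, 5, 1], [12, 7, 1, 0], [7, 2], [10, 3, 2],
   [14, 1], [14, 6, 1], [7, 5, 2], [14, 3], [10, 5], [12, 7, 2], [14], [14, 6],
   [8], [11, 4], [8, 3], [13, 4, 0], [11, 3, 0], [10, 8], [8, 1], [11, 4, 1],
   [13, 0], [13, 6, 0], [8, 3, 1], [13, 4, 2, 0], [11, 3, 2, 0], [10, 8, 1], [13, 2, 0], [13, 6, 2, 0],
   [8, 2], [11, 4, 2], [8, 5, 2], [15, 4, 2, 0], [11, 5, 2, 0], [12, 8, 2], [8, 1, 0], [11, 4, 1, 0],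
   [15, 2, 0], [15, 6, 2, 0], [8, 5, 1, 0], [15, 4, 0], [11, 5, 0], [12, 8, 1, 0], [15, 0], [15, 6, 0],
   [9, 1], [12, 5, 1], [9, 3, 1], [14, 5, 1, 0], [12, 3, 1, 0], [10, 9, 1], [9], [12, 5],
   [14, 1, 0], [14, 6, 1, 0], [9, 3], [14, 5, 2], [12, 3, 2], [10, 9], [14, 2], [14, 6, 2],
   [9, 2, 0], [12, 5, 2, 0], [9, 4, 2, 0], [15, 5, 2], [12, 4, 2], [11, 9, 2, 0], [9, 0], [12, 5, 0],
   [15, 2], [15, 6, 2], [9, 4, 0], [15, 5, 1, 0], [12, 4, 1, 0], [11, 9, 0], [15, 1, 0], [15, 6, 1, 0],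
   [7, 4, 1, 0], [13, 3, 2], [7, 5, 0], [14, 3, 2, 0], [7, 4, 2], [13, 3, 1, 0], [13, 5], [13, 9, 5],
   [7, 5, 2, 0], [14, 3, 0], [14, 4, 1], [15, 7, 5, 0], [13, 5, 1], [14, 8, 3, 0], [14, 4], [14, 8, 4],
   [8, 3, 2], [13, 4, 1, 0], [8, 5], [15, 4, 1], [8, 3, 1, 0], [13, 4, 2], [13, 5, 0], [13, 9, 5, 0],
   [8, 5, 1], [15, 4], [15, 3, 2, 0], [14, 8, 5], [13, 5, 2, 0], [15, 7, 4], [15, 3, 0], [15, 7, 3, 0],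
   [10, 4, 2], [11, 7, 1, 0], [10, 5, 2, 0], [12, 7, 0], [10, 4, 1, 0], [11, 7, 2], [13, 6, 5], [13, 12],
   [10, 5, 0], [12, 7, 2, 0], [12, 7, 4, 0], [14, 11, 1], [10, 8, 5, 0], [13, 12, 1], [14, 6, 4], [14, 11],
   [11, 3, 1, 0], [10, 8, 2], [11, 5, 1], [12, 8], [11, 3, 2], [10, 8, 1, 0], [13, 6, 5, 0], [13, 12, 0],
   [11, 5], [12, 8, 1], [12, 8, 3], [15, 10, 2, 0], [11, 7, 5], [13, 12, 2, 0], [15, 6, 3, 0], [15, 10, 0],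
   [9, 3, 2, 0], [14, 5, 0], [9, 4, 1], [15, 5], [9, 3, 0], [14, 5, 2, 0], [14, 4, 1, 0], [15, 7, 5],
   [9, 4], [15, 5, 1], [15, 3, 2], [14, 8, 5, 0], [14, 4, 2], [13, 9, 3, 0], [15, 3, 1, 0], [13, 9, 4],
   [12, 3, 0], [10, 9, 2, 0], [12, 4], [11, 9, 1], [12, 3, 2, 0], [10, 9, 0], [12, 7, 4], [14, 11, 1, 0],
   [12, 4, 1], [11, 9], [12, 8, 3, 0], [15, 10, 2], [10, 9, 4, 0], [14, 11, 2], [11, 9, 3], [15, 10, 1, 0],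
   [13, 1, 0], [13, 6, 1, 0], [13, 2], [13, 6, 2], [13, 5, 1, 0], [14, 8, 3], [10, 8, 5], [13, 12, 1, 0],
   [13, 5, 2], [15, 7, 4, 0], [11, 7, 5, 0], [13, 12, 2], [14, 8], [14, 11, 4], [15, 7, 0], [15, 10, 3, 0],
   [14, 0], [14, 6, 0], [14, 2, 0], [14, 6, 2, 0], [14, 4, 0], [14, 8, 4, 0], [14, 6, 4, 0], [14, 11, 0],
   [14, 4, 2, 0], [13, 9, 3], [10, 9, 4], [14, 11, 2, 0], [14, 8, 0], [14, 11, 4, 0], [13, 9], [13, 12, 5],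
   [15], [15, 6], [15, 1], [15, 6, 1], [15, 3], [15, 7, 3], [15, 6, 3], [15, 10],
   [15, 3, 1], [13, 9, 4, 0], [11, 9, 3, 0], [15, 10, 1], [15, 7], [15, 10, 3], [13, 9, 0], [13, 12, 5, 0]]

/-- Reflections of the stabiliser of the sign vector 4. -/
def invRefsF4_4 : List (List ℕ × ℕ) :=
  [([], 2), ([3, 2], 1), ([1], 2), ([], 0), ([3, 2, 1], 0), ([1, 2, 1], 0), ([1, 2, 3, 1, 2, 1], 0), ([0, 1], 2), ([0, 1, 2, 3, 1, 2, 1], 0), ([3, 2, 1, 2, 3, 0, 1], 2)]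

/-- Decompositions of the stabiliser of the sign vector 4. -/
def invStabF4_4 : List (List ℕ) :=
  [[], [3], [0], [3, 0], [2], [5, 2], [3, 2], [7],
   [2, 0], [5, 2, 0], [3, 2, 0], [7, 0], [5], [7, 2], [5, 0], [7, 2, 0],
   [1], [4, 1], [1, 0], [4, 1, 0], [2, 1], [6, 2, 1], [4, 2, 1], [9, 1],
   [2, 1, 0], [6, 2, 1, 0], [4, 2, 1, 0], [9, 1, 0], [6, 1], [9, 2, 1], [6, 1, 0], [9, 2, 1, 0],
   [3, 1], [4], [3, 1, 0], [4, 0], [3, 2, 1], [7, 4], [4, 2], [9, 3, 1],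
   [3, 2, 1, 0], [7, 4, 0], [4, 2, 0], [9, 3, 1, 0], [8, 3, 1], [8, 4], [8, 3, 1, 0], [8, 4, 0],
   [5, 2, 1], [6, 2], [5, 2, 1, 0], [6, 2, 0], [5, 1], [5, 4, 1], [6], [6, 3],
   [5, 1, 0], [5, 4, 1, 0], [6, 0], [6, 3, 0], [7, 6], [9, 5, 1], [7, 6, 0], [9, 5, 1, 0],
   [7, 1], [7, 4, 1], [7, 1, 0], [7, 4, 1, 0], [7, 2, 1], [5, 4], [8, 3], [8],
   [7, 2, 1, 0], [5, 4, 0], [8, 3, 0], [8, 0], [7, 6, 1], [8, 2], [7, 6, 1, 0], [8, 2, 0],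
   [9], [9, 3], [9, 0], [9, 3, 0], [9, 2], [6, 3, 1], [8, 4, 1], [8, 1],
   [9, 2, 0], [6, 3, 1, 0], [8, 4, 1, 0], [8, 1, 0], [9, 5], [8, 2, 1], [9, 5, 0], [8, 2, 1, 0]]

theorem invTorTblF4_ok : chkTorClasses Cfsg.Lie.chevF4 tblF4 invTorTblF4 = true := by decide +kernel

theorem invStabF4_1_ok :
    chkConn Cfsg.Lie.chevF4 tblF4 (allW (nth ([], []) weylF4) 4) 1 invRefsF4_1 4 invStabF4_1 = true := by
  decide +kernel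

theorem centConnF4_1 : CentConn Cfsg.Lie.chevF4 tblF4 1 invRefsF4_1 4 :=
  centConn_of_chk certF4 fullCertF4 chkWeylF4 invStabF4_1_ok (N := 1) (by norm_num)
    (A := (!![0, 0, 0, 1; 0, -1, 1, 0; 0, 0, 0, 0; 0, 1, 0, 0; 0, 0, 0, 0; 0, 0, 0, 0; 1, 0, 0, 0; 0, 0, 0, 0; 0, 0, 0, 0; 0, 0, 0, 0; 0, 0, 0, 0; 0, 0, 0, 0; 0, 0, 0, 0; 0, 0, 0, 0; 0, 0, 0, 0; 0, 0, 0, 0] : Matrix (Fin 16) (Fin 4) ℤ)) (by decide +kernel)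

theorem invStabF4_4_ok :
    chkConn Cfsg.Lie.chevF4 tblF4 (allW (nth ([], []) weylF4) 4) 4 invRefsF4_4 4 invStabF4_4 = true := by
  decide +kernel

theorem centConnF4_4 : CentConn Cfsg.Lie.chevF4 tblF4 4 invRefsF4_4 4 :=
  centConn_of_chk certF4 fullCertF4 chkWeylF4 invStabF4_4_ok (N := 2) (by norm_num)
    (A := (!![0, -2, 2, -1; 0, 0, 0, 1; 0, 2, 0, -1; 2, 0, 0, 0; 0, 0, 0, 0; 0, 0, 0, 0; 0, 0, 0, 0; 0, 0, 0, 0; 0, 0, 0, 0; 0, 0, 0, 0] : Matrix (Fin 10) (Fin 4) ℤ)) (by decide +kernel)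

end Cfsg.Lib.Chev
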