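import Cfsg.Agent.Lib.Chev.InvChk
import Cfsg.Agent.Lib.Chev.FullAll
import Cfsg.Agent.Lib.Chev.OrderG2

/-!
Data for the classes of involutions of the type G2 in odd characteristic.
-/

set_option autoImplicit false
set_option maxRecDepth 100000

namespace Cfsg.Lib.Chev

/-- Representatives and words of the sign vectors. -/
def invTorTblG2 : List (ℕ × List ℕ) :=
  [(0, []), (1, []), (1, [0, 1]), (1, [1])]

/-- Reflections of the stabiliser of the sign vector 1. -/
def invRefsG2_1 : List (List ℕ × ℕ) :=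
  [([], 0), ([1, 0], 1)]

/-- Decompositions of the stabiliser of the sign vector 1. -/
def invStabG2_1 : List (List ℕ) :=
  [[], [0], [1], [1, 0]]

theorem invTorTblG2_ok : chkTorClasses Cfsg.Lie.chevG2 tblG2 invTorTblG2 = true := by decide +kernel

theorem invStabG2_1_ok :
    chkConn Cfsg.Lie.chevG2 tblG2 (allW (nth ([], []) weylG2) 2) 1 invRefsG2_1 2 invStabG2_1 = true := by
  decide +kernel

theorem centConnG2_1 : CentConn Cfsg.Lie.chevG2 tblG2 1 invRefsG2_1 2 :=
  centConn_of_chk certG2 fullCertG2 chkWeylG2 invStabG2_1_ok (N := 2) (by norm_num)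
    (A := (!![2, -1; 0, 1] : Matrix (Fin 2) (Fin 2) ℤ)) (by decide +kernel)

end Cfsg.Lib.Chev
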