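import Cfsg.Agent.Lib.Chev.InvCheck
import Cfsg.Agent.Lib.Chev.BN

/-!
Checked reduction trees, stage by stage, show that every involution of a simply laced Chevalley group in
characteristic two is conjugate to one of the given representatives.
-/

set_option autoImplicit false
set_option linter.unusedSectionVars false

namespace Cfsg.Lib.Chev

open Cfsg.Lie

variable {F : Type*} [Field F]

theorem beq_false_ne {a b : ℕ} (h : a ≠ b) : Nat.beq a b = false := by
  cases hb : Nat.beq a b
  · rfl
  · exact absurd (Nat.eq_of_beq_eq_true hb) h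

/-- The value of a monomial. -/
def qmEval (e : ℕ → F) (mo : List ℕ) : F := (mo.map e).prod

/-- The value of a polynomial. -/
def qEval (e : ℕ → F) (p : QPoly) : F := (p.map (qmEval e)).sum

theorem qmEq_eq : ∀ {a b : List ℕ}, qmEq a b = true → a = b
  | [], [], _ => rfl
  | [], _ :: _, h => by simp [qmEq] at h
  | _ :: _, [], h => by simp [qmEq] at h
  | x :: a, y :: b, h => by
    simp only [qmEq, Bool.and_eq_true, Nat.beq_eq] at h
    rw [h.1, qmEq_eq h.2]

theorem qmEval_mul (e : ℕ → F) (a b : List ℕ) : qmEval e (qmMul a b) = qmEval e a * qmEval e b := by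
  have hins : ∀ (x : ℕ) (l : List ℕ), qmEval e (qmIns x l) = e x * qmEval e l := by
    intro x l
    induction l with
    | nil => simp [qmEval, qmIns]
    | cons y l ih =>
      rw [qmIns]
      cases Nat.ble x y
      · simp only [cond_false, qmEval, List.map_cons, List.prod_cons] at ih ⊢
        rw [ih]; ring
      · simp [qmEval]
  induction a with
  | nil => simp [qmMul, qmEval]
  | cons x a ih =>
    rw [qmMul, List.foldr_cons, hins, ← qmMul, ih]
    simp [qmEval, mul_assoc]

section Char

variable [CharP F 2]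

theorem qEval_tog (e : ℕ → F) (mo : List ℕ) (p : QPoly) : qEval e (qTog mo p) = qmEval e mo + qEval e p := by
  induction p with
  | nil => simp [qTog, qEval]
  | cons x p ih =>
    rw [qTog]
    cases h : qmEq x mo
    · simp only [cond_false, qEval, List.map_cons, List.sum_cons] at ih ⊢
      rw [ih]; ring
    · rw [qmEq_eq h]
      simp only [cond_true, qEval, List.map_cons, List.sum_cons]
      rw [← add_assoc, CharTwo.add_self_eq_zero, zero_add]

theorem qEval_add (e : ℕ → F) (p q : QPoly) : qEval e (qAdd p q) = qEval e p + qEval e q := by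
  induction p with
  | nil => simp [qAdd, qEval]
  | cons x p ih =>
    rw [qAdd, List.foldr_cons, qEval_tog, ← qAdd, ih]
    simp [qEval, add_assoc]

theorem qEval_mul (e : ℕ → F) (p q : QPoly) : qEval e (qMul p q) = qEval e p * qEval e q := by
  have hq : ∀ (a : List ℕ) (r : QPoly), qEval e (q.foldr (fun b r => qTog (qmMul a b) r) r) =
      qmEval e a * qEval e q + qEval e r := by
    intro a r
    induction q with
    | nil => simp [qEval]
    | cons b q ih =>
      rw [List.foldr_cons, qEval_tog, ih, qmEval_mul]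
      simp only [qEval, List.map_cons, List.sum_cons]
      ring
  induction p with
  | nil => simp [qMul, qEval]
  | cons a p ih =>
    rw [qMul, List.foldr_cons, hq, ← qMul, ih]
    simp only [qEval, List.map_cons, List.sum_cons]
    ring

end Char

theorem qEval_var (e : ℕ → F) (x : ℕ) : qEval e [[x]] = e x := by simp [qEval, qmEval]

theorem qEval_one (e : ℕ → F) : qEval e [[]] = 1 := by simp [qEval, qmEval]

theorem eOrd_lt (n : ℕ) : ∀ (k : ℕ) (l : List (ℕ × QPoly)), eOrd n k l = true → ∀ p ∈ l, k ≤ p.1 ∧ p.1 < n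
  | _, [], _, p, hp => by simp at hp
  | k, (i, a) :: l, h, p, hp => by
    simp only [eOrd, Bool.and_eq_true, Nat.ble_eq, Nat.blt_eq] at h
    rcases List.mem_cons.1 hp with rfl | hp
    · exact ⟨h.1, h.2.1⟩
    · have := eOrd_lt n (i + 1) l h.2.2 p hp
      exact ⟨by omega, this.2⟩

theorem eGet_none : ∀ {l : List (ℕ × QPoly)} {x : ℕ}, (∀ p ∈ l, p.1 ≠ x) → eGet l x = []
  | [], _, _ => rfl
  | (i, a) :: l, x, h => by
    rw [eGet]
    have : Nat.beq i x = false := beq_false_ne (h (i, a) (List.mem_cons_self ..))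
    rw [this]
    exact eGet_none fun p hp => h p (List.mem_cons_of_mem _ hp)

theorem eGet_mem : ∀ {l : List (ℕ × QPoly)} {x : ℕ}, eGet l x ≠ [] → ∃ p ∈ l, p.1 = x := by
  intro l x h
  by_contra hno
  push Not at hno
  exact h (eGet_none hno)

theorem eGood_spec (E : EnTbl) (N n : ℕ) : ∀ (l : List (ℕ × QPoly)) (k x : ℕ), eOrd n k l = true →
    (eGood E N l).testBit x = true →
    k ≤ x ∧ ∃ mo, eGet l x = [mo] ∧ ∀ v ∈ mo, v < E.num ∧ N.testBit v = true
  | [], k, x, _, h => by simp [eGood] at h
  | (i, p) :: l, k, x, ho, h => by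
    simp only [eOrd, Bool.and_eq_true, Nat.ble_eq, Nat.blt_eq] at ho
    have hrec : (eGood E N l).testBit x = true →
        k ≤ x ∧ ∃ mo, eGet ((i, p) :: l) x = [mo] ∧ ∀ v ∈ mo, v < E.num ∧ N.testBit v = true := fun h => by
      obtain ⟨h1, mo, h2, h3⟩ := eGood_spec E N n l (i + 1) x ho.2.2 h
      refine ⟨by omega, mo, ?_, h3⟩
      rw [eGet, beq_false_ne (show i ≠ x by omega)]
      exact h2
    rcases p with _ | ⟨mo, _ | ⟨m₂, p⟩⟩
    · exact hrec (by simpa only [eGood] using h)
    swap
    · exact hrec (by simpa only [eGood] using h)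
    simp only [eGood] at h
    cases hm : mo.all fun v => Nat.blt v E.num && N.testBit v
    · rw [hm, cond_false] at h; exact hrec h
    · rw [hm, cond_true, Nat.testBit_or, Bool.or_eq_true, Nat.testBit_two_pow] at h
      rcases h with h | h
      · rw [decide_eq_true_eq] at h
        subst h
        refine ⟨ho.1, mo, by simp [eGet], fun v hv => ?_⟩
        simpa using List.all_eq_true.1 hm v hv
      · exact hrec h

variable {D : ChevalleyDatum} {T : Tbl} (C : Cert D T)

/-- The value of a word. -/
noncomputable def qVal (E : EnTbl) (e : ℕ → F) (l : List (ℕ × QPoly)) : GL D.Idx F :=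
  (l.map fun p => xg C (E.num + p.1) (qEval e p.2)).prod

/-- The ordered product with parameters `v`. -/
noncomputable def eEl (E : EnTbl) (v : ℕ → F) : GL D.Idx F := oprod C E.num E.num fun r => v (r - E.num)

/-- The product of the root elements with parameter one at the given positions. -/
noncomputable def eRep (F : Type*) [Field F] (E : EnTbl) (l : List ℕ) : GL D.Idx F :=
  (l.map fun x => xg C (E.num + x) (1 : F)).prod

/-- The roots of the positions outside `M`. -/
def eOut (E : EnTbl) (M r : ℕ) : Bool :=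
  Nat.ble E.num r && Nat.blt r (2 * E.num) && !M.testBit (r - E.num)

/-- The part generated by the root elements of the positions outside `M`. -/
noncomputable def eSub (F : Type*) [Field F] (E : EnTbl) (M : ℕ) : Subgroup (GL D.Idx F) := rootGen F C (eOut E M)

/-- Conjugate to one of the representatives, or to one, modulo the positions outside `M`. -/
def EReach (E : EnTbl) (M : ℕ) (R : List (List ℕ)) (g : GL D.Idx F) : Prop :=
  ∃ h ∈ D.group F, ∃ r ∈ [] :: R, (eRep C F E r)⁻¹ * (h * g * h⁻¹) ∈ eSub C F E M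

theorem EReach.conj {E : EnTbl} {M : ℕ} {R : List (List ℕ)} {g h : GL D.Idx F} (hh : h ∈ D.group F)
    (H : EReach C E M R (h * g * h⁻¹)) : EReach C E M R g := by
  obtain ⟨k, hk, r, hr, e⟩ := H
  refine ⟨k * h, mul_mem hk hh, r, hr, ?_⟩
  convert e using 2; group

/-- What a node asserts. -/
def ENodeGood (F : Type*) [Field F] (E : EnTbl) (M : ℕ) (R : List (List ℕ)) : EnNode → Prop
  | (S, N, _) => ∀ v : ℕ → F, (∀ x < E.num, S.testBit x = false → v x = 0) →
      (∀ x < E.num, N.testBit x = true → v x ≠ 0) → eEl C E v * eEl C E v = 1 → EReach C E M R (eEl C E v)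

theorem eEl_congr (E : EnTbl) {v w : ℕ → F} (h : ∀ x < E.num, v x = w x) : eEl C E v = eEl C E w := by
  rw [eEl, eEl, oprod, oprod]
  congr 1
  refine List.map_congr_left fun r hr => ?_
  have := List.mem_range'_1.1 hr
  rw [h (r - E.num) (by omega)]

theorem qVal_cons (E : EnTbl) (e : ℕ → F) (p : ℕ × QPoly) (l : List (ℕ × QPoly)) :
    qVal C E e (p :: l) = xg C (E.num + p.1) (qEval e p.2) * qVal C E e l := by simp [qVal]

theorem qVal_append (E : EnTbl) (e : ℕ → F) (l m : List (ℕ × QPoly)) :
    qVal C E e (l ++ m) = qVal C E e l * qVal C E e m := by simp [qVal]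

theorem qVal_ordered (E : EnTbl) (e : ℕ → F) : ∀ (l : List (ℕ × QPoly)) (k : ℕ), k ≤ E.num →
    eOrd E.num k l = true →
    qVal C E e l = oprod C (E.num + k) (E.num - k) fun r => qEval e (eGet l (r - E.num))
  | [], k, _, _ => by
    simp [qVal, oprod, eGet, qEval, xg_zero]
  | (i, a) :: l, k, hk, h => by
    have h' := h
    simp only [eOrd, Bool.and_eq_true, Nat.ble_eq, Nat.blt_eq] at h
    obtain ⟨h1, h2, h3⟩ := h
    rw [qVal_cons, qVal_ordered E e l (i + 1) h2 h3, oprod, oprod]
    have e1 : List.range' (E.num + k) (E.num - k) =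
        List.range' (E.num + k) (i - k) ++ (E.num + i) :: List.range' (E.num + (i + 1)) (E.num - (i + 1)) := by
      rw [show E.num - k = (i - k) + (E.num - (i + 1) + 1) by omega, ← List.range'_append_1, List.range'_succ,
        show E.num + k + (i - k) = E.num + i by omega, show E.num + i + 1 = E.num + (i + 1) by omega]
    rw [e1, List.map_append, List.map_cons, List.prod_append, List.prod_cons]
    have e2 : ((List.range' (E.num + k) (i - k)).map fun r =>
        xg C r (qEval e (eGet ((i, a) :: l) (r - E.num)))).prod = 1 := by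
      refine List.prod_eq_one fun y hy => ?_
      obtain ⟨r, hr, rfl⟩ := List.mem_map.1 hy
      have := List.mem_range'_1.1 hr
      rw [eGet_none fun p hp => ?_]
      · simp [qEval, xg_zero]
      · rcases List.mem_cons.1 hp with rfl | hp
        · show i ≠ r - E.num; omega
        · have := eOrd_lt E.num (i + 1) l h3 p hp; omega
    rw [e2, one_mul, show E.num + i - E.num = i by omega]
    congr 1
    · simp [eGet]
    · congr 1
      refine List.map_congr_left fun r hr => ?_
      have := List.mem_range'_1.1 hr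
      simp only [eGet]
      rw [beq_false_ne (show i ≠ r - E.num by omega)]
      rfl

theorem qVal_eEl {E : EnTbl} (e : ℕ → F) {l : List (ℕ × QPoly)} (h : eOrd E.num 0 l = true) :
    qVal C E e l = eEl C E fun x => qEval e (eGet l x) := by
  rw [qVal_ordered C E e l 0 (Nat.zero_le _) h, Nat.add_zero, Nat.sub_zero]
  rfl

theorem eWord_get (E : EnTbl) (S x : ℕ) :
    eGet (eWord E S) x = if x < E.num ∧ S.testBit x = true then [[x]] else [] := by
  have h : ∀ l : List ℕ, eGet (l.map fun y => (y, ([[y]] : QPoly))) x = if x ∈ l then [[x]] else [] := by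
    intro l
    induction l with
    | nil => simp [eGet]
    | cons y l ih =>
      simp only [List.map_cons, eGet, ih, List.mem_cons]
      by_cases hy : y = x
      · subst hy; simp
      · simp [hy, Ne.symm hy]
  rw [eWord, h]
  simp [eSupp, List.mem_filter]

theorem eWord_ord (E : EnTbl) (S : ℕ) : eOrd E.num 0 (eWord E S) = true := by
  have h : ∀ (n k : ℕ), k + n = E.num →
      eOrd E.num k (((List.range' k n).filter (Nat.testBit S)).map fun x => (x, ([[x]] : QPoly))) = true := by
    intro n
    induction n with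
    | zero => intros; simp [eOrd]
    | succ n ih =>
      intro k hk
      rw [List.range'_succ]
      cases hb : S.testBit k
      · rw [List.filter_cons_of_neg (by simp [hb])]
        have hweak : ∀ l, eOrd E.num (k + 1) l = true → eOrd E.num k l = true := by
          intro l hl
          cases l with
          | nil => rfl
          | cons p l =>
            obtain ⟨i, a⟩ := p
            simp only [eOrd, Bool.and_eq_true, Nat.ble_eq] at hl ⊢
            exact ⟨by omega, hl.2⟩
        exact hweak _ (ih (k + 1) (by omega))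
      · rw [List.filter_cons_of_pos hb, List.map_cons]
        simp only [eOrd, Bool.and_eq_true, Nat.ble_eq, Nat.blt_eq]
        exact ⟨le_rfl, by omega, ih (k + 1) (by omega)⟩
  rw [eWord, eSupp, List.range_eq_range']
  exact h E.num 0 (by simp)

theorem qVal_eWord {E : EnTbl} {S : ℕ} {e v : ℕ → F} (hS : ∀ x < E.num, S.testBit x = false → v x = 0)
    (he : ∀ x < E.num, e x = v x) : qVal C E e (eWord E S) = eEl C E v := by
  rw [qVal_eEl C e (eWord_ord E S)]
  refine eEl_congr C E fun x hx => ?_
  rw [eWord_get]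
  cases hb : S.testBit x
  · simp [qEval, hS x hx hb]
  · simp [hx, qEval_var, he x hx]

theorem qVal_conj (E : EnTbl) (e : ℕ → F) (h : GL D.Idx F) (f : ℕ → ℕ) : ∀ (w : List (ℕ × QPoly)),
    (∀ p ∈ w, ∀ t : F, h * xg C (E.num + p.1) t * h⁻¹ = xg C (E.num + f p.1) t) →
    h * qVal C E e w * h⁻¹ = qVal C E e (w.map fun p => (f p.1, p.2))
  | [], _ => by simp [qVal]
  | p :: w, hw => by
    rw [List.map_cons, qVal_cons, qVal_cons, ← qVal_conj E e h f w fun q hq => hw q (List.mem_cons_of_mem _ hq),
      ← hw p (List.mem_cons_self ..)]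
    group

theorem qVal_ones (E : EnTbl) (e : ℕ → F) : ∀ {y : List (ℕ × QPoly)}, (∀ p ∈ y, p.2 = [[]]) →
    qVal C E e y = eRep C F E (y.map Prod.fst)
  | [], _ => by simp [qVal, eRep]
  | p :: y, h => by
    rw [qVal_cons, qVal_ones E e fun q hq => h q (List.mem_cons_of_mem _ hq), h p (List.mem_cons_self ..), qEval_one]
    simp [eRep]

variable [CharP F 2] (K : FullCert D T) {E : EnTbl} (hE : chkEn T E = true)
include C K hE

theorem en_two : 2 * E.num = D.nroots := by
  simp only [chkEn, Bool.and_eq_true, Nat.beq_eq] at hE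
  rw [hE.1, C.spec.shape.nroots_eq]

theorem en_terms {i j : ℕ} (hi : i < E.num) (hj : j < E.num) (hne : i ≠ j) :
    E.num + i ≠ T.neg (E.num + j) ∧
      ((E.sum i j = 0 ∧ oddTerms T (E.num + j) (E.num + i) = []) ∨
        ∃ c, E.sum i j = c + 1 ∧ i < c ∧ j < c ∧ c < E.num ∧
          oddTerms T (E.num + j) (E.num + i) = [(E.num + c, 1, 1)]) := by
  have hc := hE
  simp only [chkEn, Bool.and_eq_true, allBelow_iff, Bool.or_eq_true, Nat.beq_eq, Bool.not_eq_true'] at hc
  obtain ⟨hneg, hterm⟩ := (hc.2 i hi j hj).resolve_left hne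
  refine ⟨Nat.ne_of_beq_eq_false hneg, ?_⟩
  cases hsum : E.sum i j with
  | zero =>
    rw [hsum] at hterm
    exact Or.inl ⟨rfl, List.isEmpty_iff.1 hterm⟩
  | succ c =>
    rw [hsum] at hterm
    simp only [Bool.and_eq_true, Nat.blt_eq, beq_iff_eq] at hterm
    exact Or.inr ⟨c, rfl, hterm.1, hterm.2.1, hterm.2.2.1, hterm.2.2.2⟩

theorem qVal_pos (e : ℕ → F) (l : List (ℕ × QPoly)) : qVal C E e l ∈ D.posUnipotent F := by
  have h2 := en_two C K hE
  rw [posUnipotent_eq C]
  refine list_prod_mem fun x hx => ?_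
  obtain ⟨p, -, rfl⟩ := List.mem_map.1 hx
  exact xg_mem_upper C (by omega) _

theorem eEl_pos (v : ℕ → F) : eEl C E v ∈ D.posUnipotent F := by
  have h2 := en_two C K hE
  rw [posUnipotent_eq C, show D.nroots / 2 = E.num by omega, eEl]
  exact oprod_mem C _ _ _

theorem eEl_surj {g : GL D.Idx F} (hg : g ∈ D.posUnipotent F) : ∃ v, g = eEl C E v := by
  have h2 := en_two C K hE
  rw [posUnipotent_eq C] at hg
  obtain ⟨t, ht⟩ := upper_normal_form C K.comm E.num (k := D.nroots / 2) (by omega) (by omega) hg
  rw [show D.nroots / 2 = E.num by omega] at ht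
  refine ⟨fun i => t (E.num + i), ?_⟩
  rw [ht, eEl, oprod, oprod]
  congr 1
  refine List.map_congr_left fun r hr => ?_
  have := List.mem_range'_1.1 hr
  rw [show E.num + (r - E.num) = r by omega]

theorem eSub_le_pos (M : ℕ) : eSub C F E M ≤ D.posUnipotent F := by
  have h2 := en_two C K hE
  rw [posUnipotent_eq C]
  refine (Subgroup.closure_le _).2 ?_
  rintro g ⟨r, t, -, hp, rfl⟩
  simp only [eOut, Bool.and_eq_true, Nat.ble_eq] at hp
  exact xg_mem_upper C (by omega) t

theorem xg_mem_eSub {M i : ℕ} (hi : i < E.num) (h : M.testBit i = false) (t : F) :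
    xg C (E.num + i) t ∈ eSub C F E M := by
  have h2 := en_two C K hE
  refine xg_mem_rootGen C (by omega) ?_ t
  simp [eOut, h]; omega

variable {M : ℕ} (hM : chkMask E M = true)
include hM

/-- The positions outside `M` and beyond `k` form an ideal. -/
theorem eOut_ideal (k : ℕ) {r : ℕ} (hr : (eOut E M r && Nat.ble k r) = true) {s : ℕ} (hs : E.num ≤ s)
    (hsn : s < D.nroots) : oddIn D T (fun x => eOut E M x && Nat.ble k x) r s = true := by
  have h2 := en_two C K hE
  simp only [eOut, Bool.and_eq_true, Nat.ble_eq, Nat.blt_eq, Bool.not_eq_true'] at hr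
  obtain ⟨⟨⟨hr1, hr2⟩, hr3⟩, hr4⟩ := hr
  obtain ⟨i, rfl⟩ : ∃ i, r = E.num + i := ⟨r - E.num, by omega⟩
  obtain ⟨j, rfl⟩ : ∃ j, s = E.num + j := ⟨s - E.num, by omega⟩
  rw [Nat.add_sub_cancel_left] at hr3
  simp only [oddIn, Bool.and_eq_true, Nat.blt_eq, Bool.or_eq_true, Nat.beq_eq, Bool.not_eq_true',
    List.all_eq_true]
  refine ⟨by omega, hsn, ?_⟩
  by_cases hne : j = i
  · exact Or.inl (by omega)
  obtain ⟨hneg, hcase⟩ := en_terms C K hE (i := j) (j := i) (by omega) (by omega) hne
  refine Or.inr ⟨beq_false_ne hneg, ?_⟩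
  rcases hcase with ⟨-, e⟩ | ⟨c, hsum, hc1, hc2, hc3, e⟩
  · simp [e]
  · intro x hx
    rw [e, List.mem_singleton] at hx
    subst hx
    have hm := hM
    simp only [chkMask, allBelow_iff, Bool.or_eq_true, Nat.beq_eq] at hm
    have hb := (hm j (by omega) i (by omega)).resolve_left hne
    rw [hsum] at hb
    simp only [Bool.or_eq_true, Bool.not_eq_true', Bool.and_eq_true, hr3, Bool.false_eq_true, and_false,
      or_false] at hb
    simp only [eOut, Bool.and_eq_true, Nat.ble_eq, Nat.blt_eq, Bool.not_eq_true', Nat.add_sub_cancel_left, hb,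
      and_true]
    omega

theorem eSub_normal {g y : GL D.Idx F} (hy : y ∈ D.posUnipotent F) (hg : g ∈ eSub C F E M) :
    y * g * y⁻¹ ∈ eSub C F E M := by
  have h2 := en_two C K hE
  have hgen : ∀ s, E.num ≤ s → s < D.nroots → ∀ (u : F) (x : GL D.Idx F), x ∈ eSub C F E M →
      xg C s u * x * (xg C s u)⁻¹ ∈ eSub C F E M := fun s hs hsn u x hx =>
    xg_conj_rootGen C K (P := eOut E M) (fun r hr => by
      simp only [eOut, Bool.and_eq_true, Nat.blt_eq] at hr; omega) (fun r hr => by
      have e : (fun x => eOut E M x && Nat.ble 0 x) = eOut E M := by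
        funext x
        rw [show Nat.ble 0 x = true from Nat.ble_eq ▸ Nat.zero_le x, Bool.and_true]
      have := eOut_ideal C K hE hM 0 (r := r) (by rw [show Nat.ble 0 r = true from Nat.ble_eq ▸ Nat.zero_le r, hr]; rfl)
        hs hsn
      rwa [e] at this) u hx
  rw [posUnipotent_eq C, upper] at hy
  induction hy using Subgroup.closure_induction'' generalizing g with
  | mem x hx =>
    obtain ⟨s, u, h1, h3, rfl⟩ := hx
    exact hgen s (by omega) h3 u g hg
  | inv_mem x hx =>
    obtain ⟨s, u, h1, h3, rfl⟩ := hx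
    rw [xg_inv]
    exact hgen s (by omega) h3 (-u) g hg
  | one => simpa using hg
  | mul a b _ _ ha hb =>
    have := ha (hb hg)
    simpa [mul_assoc] using this

theorem eSub_normal' {g y : GL D.Idx F} (hy : y ∈ D.posUnipotent F) (hg : g ∈ eSub C F E M) :
    y⁻¹ * g * y ∈ eSub C F E M := by
  simpa using eSub_normal C K hE hM (inv_mem hy) hg

/-- Elements of the part outside `M` lying in a term of the filtration have no coordinates in `M` there. -/
theorem eSub_step {k : ℕ} (hk : E.num ≤ k) (hkn : k < D.nroots) (hkM : M.testBit (k - E.num) = true)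
    {g : GL D.Idx F} (hg : g ∈ eSub C F E M) (hgu : g ∈ upper C F k) : g ∈ upper C F (k + 1) := by
  have h2 := en_two C K hE
  let H : ℕ → Subgroup (GL D.Idx F) := fun j => rootGen F C (fun x => eOut E M x && Nat.ble j x)
  have hle : ∀ j, H j ≤ upper C F j := fun j => (Subgroup.closure_le _).2 (by
    rintro x ⟨r, t, -, hp, rfl⟩
    simp only [Bool.and_eq_true, Nat.ble_eq] at hp
    exact xg_mem_upper C hp.2 t)
  have split : ∀ j, E.num ≤ j → j < D.nroots → ∀ x ∈ H j, ∃ t : F, (M.testBit (j - E.num) = true → t = 0) ∧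
      ∃ b ∈ H (j + 1), x = xg C j t * b := by
    intro j hj hjn x hx
    have hc : ∀ (u : F) (b : GL D.Idx F), b ∈ H (j + 1) → xg C j u * b * (xg C j u)⁻¹ ∈ H (j + 1) := fun u b hb =>
      xg_conj_rootGen C K (fun r hr => by
        simp only [eOut, Bool.and_eq_true, Nat.blt_eq] at hr; omega)
        (fun r hr => eOut_ideal C K hE hM (j + 1) hr hj hjn) u hb
    induction hx using Subgroup.closure_induction with
    | mem x hx =>
      obtain ⟨r, t, hr, hp, rfl⟩ := hx
      simp only [Bool.and_eq_true, Nat.ble_eq] at hp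
      rcases hp.2.eq_or_lt with rfl | h
      · refine ⟨t, fun hm => ?_, 1, one_mem _, (mul_one _).symm⟩
        simp [eOut, hm] at hp
      · exact ⟨0, fun _ => rfl, _, xg_mem_rootGen C hr (by simp [hp.1]; omega) t, by rw [xg_zero, one_mul]⟩
    | one => exact ⟨0, fun _ => rfl, 1, one_mem _, by rw [xg_zero, one_mul]⟩
    | mul a b _ _ ha hb =>
      obtain ⟨t, ht, a', ha', rfl⟩ := ha
      obtain ⟨u, hu, b', hb', rfl⟩ := hb
      refine ⟨t + u, fun hm => by rw [ht hm, hu hm, add_zero], _, mul_mem (hc (-u) _ ha') hb', ?_⟩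
      rw [← xg_add, ← xg_inv]; group
    | inv a _ ha =>
      obtain ⟨t, ht, a', ha', rfl⟩ := ha
      refine ⟨-t, fun hm => by rw [ht hm, neg_zero], _, hc t _ (inv_mem ha'), ?_⟩
      rw [← xg_inv]; group
  have key : ∀ n j, E.num + n = j → j ≤ k → g ∈ H j := by
    intro n
    induction n with
    | zero =>
      intro j hj _
      subst hj
      refine (Subgroup.closure_le _).2 ?_ hg
      rintro x ⟨r, t, hr, hp, rfl⟩
      have hp' := hp
      simp only [eOut, Bool.and_eq_true, Nat.ble_eq] at hp'
      exact xg_mem_rootGen C hr (by simp [hp]; omega) t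
    | succ n ih =>
      intro j hj hjk
      subst hj
      obtain ⟨t, -, b, hb, e⟩ := split (E.num + n) (by omega) (by omega) g (ih _ rfl (by omega))
      have h1 := upper_unique C (F := F) (k := E.num + n) (by omega) (by omega) (t := t) (u := 0) (hle _ hb)
        (upper_anti C (F := F) (show E.num + n + 1 ≤ k by omega) hgu) (by rw [← e, xg_zero, one_mul])
      rw [e, h1.1, xg_zero, one_mul]
      exact hb
  obtain ⟨t, ht, b, hb, e⟩ := split k hk hkn g (key (k - E.num) k (by omega) le_rfl)
  rw [e, ht hkM, xg_zero, one_mul]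
  exact hle _ hb

/-- Elements congruent modulo the part outside `M` have the same coordinates in `M`. -/
theorem eEl_coord {a b : ℕ → F} (h : (eEl C E a)⁻¹ * eEl C E b ∈ eSub C F E M) :
    ∀ x < E.num, M.testBit x = true → a x = b x := by
  have h2 := en_two C K hE
  let A : (ℕ → F) → ℕ → GL D.Idx F := fun c k => oprod C k (D.nroots - k) fun r => c (r - E.num)
  have hA : ∀ (c : ℕ → F) k, E.num ≤ k → k < D.nroots → A c k = xg C k (c (k - E.num)) * A c (k + 1) := by
    intro c k hk hkn
    simp only [A, oprod]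
    rw [show D.nroots - k = (D.nroots - (k + 1)) + 1 by omega, List.range'_succ, List.map_cons, List.prod_cons]
  have hAu : ∀ (c : ℕ → F) k, A c k ∈ upper C F k := fun c k => oprod_mem C _ _ _
  have hAp : ∀ (c : ℕ → F) k, E.num ≤ k → A c k ∈ D.posUnipotent F := fun c k hk => by
    rw [posUnipotent_eq C]; exact upper_anti C (F := F) (by omega) (hAu c k)
  have step : ∀ n k, k + n = D.nroots → E.num ≤ k → (A a k)⁻¹ * A b k ∈ eSub C F E M →
      ∀ x, k ≤ E.num + x → x < E.num → M.testBit x = true → a x = b x := by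
    intro n
    induction n with
    | zero => intros; omega
    | succ n ih =>
      intro k hkn hk hm x hx1 hx2 hxM
      set d := -a (k - E.num) + b (k - E.num) with hd
      have e : (A a k)⁻¹ * A b k = (A a (k + 1))⁻¹ * xg C k d * A b (k + 1) := by
        rw [hA a k hk (by omega), hA b k hk (by omega), hd, ← xg_add, ← xg_inv]; group
      rw [e] at hm
      by_cases hd0 : M.testBit (k - E.num) = true
      · have hu := eSub_step C K hE hM hk (by omega) hd0 hm
          (mul_mem (mul_mem (inv_mem (upper_anti C (F := F) (Nat.le_succ k) (hAu a _))) (xg_mem_upper C le_rfl _))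
            (upper_anti C (F := F) (Nat.le_succ k) (hAu b _)))
        have hx : xg C k d ∈ upper C F (k + 1) := by
          have := mul_mem (mul_mem (hAu a (k + 1)) hu) (inv_mem (hAu b (k + 1)))
          simpa [mul_assoc] using this
        have hdz := (upper_unique C (F := F) (k := k) (by omega) (by omega) (t := d) (u := 0) (one_mem _) hx
          (by rw [mul_one, xg_zero, one_mul])).1
        rw [hdz, xg_zero, mul_one] at hm
        by_cases hkx : k = E.num + x
        · subst hkx
          rw [hdz, Nat.add_sub_cancel_left] at hd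
          linear_combination hd
        · exact ih (k + 1) (by omega) (by omega) hm x (by omega) hx2 hxM
      · have hxH : xg C k d ∈ eSub C F E M := by
          have := xg_mem_eSub C K hE (F := F) (M := M) (i := k - E.num) (by omega) (by simpa using hd0) d
          rwa [show E.num + (k - E.num) = k by omega] at this
        have h3 := mul_mem (eSub_normal' C K hE hM (hAp a (k + 1) (by omega)) (inv_mem hxH)) hm
        refine ih (k + 1) (by omega) (by omega) (by simpa [mul_assoc] using h3) x ?_ hx2 hxM
        by_contra hlt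
        exact hd0 (by rw [show k - E.num = x by omega]; exact hxM)
  intro x hx hxM
  refine step E.num E.num (by omega) le_rfl ?_ x (Nat.le_add_right _ _) hx hxM
  simp only [A, show D.nroots - E.num = E.num by omega]
  exact h

theorem eIns_val (e : ℕ → F) : ∀ (n i : ℕ) (a : QPoly) (l : List (ℕ × QPoly)), i < E.num →
    (∀ p ∈ l, p.1 < E.num) →
    (∀ p ∈ eIns E M n i a l, p.1 < E.num) ∧
      (qVal C E e (eIns E M n i a l))⁻¹ * (xg C (E.num + i) (qEval e a) * qVal C E e l) ∈ eSub C F E M := by
  intro n
  induction n with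
  | zero =>
    intro i a l hi hl
    refine ⟨fun p hp => ?_, ?_⟩
    · rcases List.mem_cons.1 hp with rfl | hp
      · exact hi
      · exact hl p hp
    · rw [eIns, qVal_cons, inv_mul_cancel]; exact one_mem _
  | succ n ih =>
    intro i a l hi hl
    cases l with
    | nil =>
      refine ⟨fun p hp => ?_, ?_⟩
      · simp only [eIns, List.mem_singleton] at hp
        subst hp; exact hi
      · simp [eIns, qVal_cons, qVal, one_mem]
    | cons p l =>
      obtain ⟨j, b⟩ := p
      have hj : j < E.num := hl (j, b) (List.mem_cons_self ..)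
      have hl' : ∀ p ∈ l, p.1 < E.num := fun p hp => hl p (List.mem_cons_of_mem _ hp)
      rw [eIns]
      cases hlt : Nat.blt i j
      case true =>
        rw [cond_true]
        refine ⟨fun p hp => ?_, ?_⟩
        · rcases List.mem_cons.1 hp with rfl | hp
          · exact hi
          · exact hl p hp
        · rw [qVal_cons, inv_mul_cancel]; exact one_mem _
      rw [cond_false]
      cases heq : Nat.beq i j
      case true =>
        rw [cond_true]
        obtain rfl : i = j := Nat.eq_of_beq_eq_true heq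
        have hv : xg C (E.num + i) (qEval e a) * qVal C E e ((i, b) :: l) =
            xg C (E.num + i) (qEval e (qAdd a b)) * qVal C E e l := by
          rw [qVal_cons, ← mul_assoc, xg_add, qEval_add]
        split
        · rename_i h0
          refine ⟨hl', ?_⟩
          rw [hv, h0]
          simp [qEval, xg_zero, one_mem]
        · rename_i m p h0
          refine ⟨fun q hq => ?_, ?_⟩
          · rcases List.mem_cons.1 hq with rfl | hq
            · exact hi
            · exact hl' q hq
          · rw [hv, qVal_cons, h0, inv_mul_cancel]; exact one_mem _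
      rw [cond_false]
      have hne : i ≠ j := fun h => by simp [h] at heq
      obtain ⟨hneg, hcase⟩ := en_terms C K hE hi hj hne
      have h2 := en_two C K hE
      have hs := xg_swap C K (F := F) (r := E.num + j) (s := E.num + i) (by omega) (by omega) (by omega)
        hneg (qEval e b) (qEval e a)
      set l₂ := (match E.sum i j with
        | 0 => l
        | c + 1 => bif !M.testBit c then l else
            (match qMul b a with
              | [] => l
              | m :: p => eIns E M n c (m :: p) l)) with hl₂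
      have key : (∀ p ∈ l₂, p.1 < E.num) ∧ ∃ z : GL D.Idx F,
          xg C (E.num + i) (qEval e a) * xg C (E.num + j) (qEval e b) =
            xg C (E.num + j) (qEval e b) * xg C (E.num + i) (qEval e a) * z ∧
          (qVal C E e l₂)⁻¹ * (z * qVal C E e l) ∈ eSub C F E M := by
        rw [hl₂]
        rcases hcase with ⟨hsum, hodd⟩ | ⟨c, hsum, -, -, hcn, hodd⟩
        · rw [hodd] at hs
          rw [hsum]
          exact ⟨hl', 1, by simpa using hs, by simp [one_mem]⟩
        · rw [hodd] at hs
          simp only [List.map_cons, List.map_nil, List.prod_cons, List.prod_nil, mul_one, pow_one] at hs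
          rw [← qEval_mul] at hs
          rw [hsum]
          dsimp only
          cases htop : M.testBit c
          · rw [Bool.not_false, cond_true]
            refine ⟨hl', _, hs, ?_⟩
            rw [← mul_assoc]
            exact eSub_normal' C K hE hM (qVal_pos C K hE e l) (xg_mem_eSub C K hE hcn htop _)
          · rw [Bool.not_true, cond_false]
            split
            · rename_i h0
              refine ⟨hl', _, hs, ?_⟩
              rw [h0]
              simp [qEval, xg_zero, one_mem]
            · rename_i m p h0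
              obtain ⟨h3, h4⟩ := ih c (m :: p) l hcn hl'
              refine ⟨h3, _, hs, ?_⟩
              rw [h0]
              exact h4
      obtain ⟨hl2, z, hz, hmem⟩ := key
      obtain ⟨h5, h6⟩ := ih i a l₂ hi hl2
      refine ⟨fun q hq => ?_, ?_⟩
      · rcases List.mem_cons.1 hq with rfl | hq
        · exact hj
        · exact h5 q hq
      · rw [qVal_cons, qVal_cons, ← mul_assoc (xg C (E.num + i) _), hz]
        have := mul_mem h6 hmem
        rw [hl₂] at this
        simp [mul_assoc] at this ⊢
        exact this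

theorem eNf_val (e : ℕ → F) : ∀ w : List (ℕ × QPoly), (∀ p ∈ w, p.1 < E.num) →
    (∀ p ∈ eNf E M w, p.1 < E.num) ∧ (qVal C E e (eNf E M w))⁻¹ * qVal C E e w ∈ eSub C F E M
  | [], _ => ⟨fun p hp => by simp [eNf] at hp, by simp [eNf, qVal, one_mem]⟩
  | (i, a) :: w, hw => by
    obtain ⟨h1, h2⟩ := eNf_val e w fun q hq => hw q (List.mem_cons_of_mem _ hq)
    have hi : i < E.num := hw (i, a) (List.mem_cons_self ..)
    rw [eNf]
    cases ht : M.testBit i
    · rw [Bool.not_false, cond_true]
      refine ⟨h1, ?_⟩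
      have hx := eSub_normal' C K hE hM (qVal_pos C K hE e (eNf E M w)) (xg_mem_eSub C K hE hi ht (qEval e a))
      have := mul_mem hx h2
      simpa [mul_assoc, qVal_cons] using this
    · rw [Bool.not_true, cond_false]
      obtain ⟨h3, h4⟩ := eIns_val C K hE hM e (E.num + 2) i a _ hi h1
      refine ⟨h3, ?_⟩
      have := mul_mem h4 h2
      simpa [mul_assoc, qVal_cons] using this

theorem eCovers_reach {R : List (List ℕ)} {look : ℕ → Option EnNode} {k : ℕ}
    (hns : ∀ c < k, ∀ nd, look c = some nd → ENodeGood C F E M R nd) {c skip N : ℕ} {y : List (ℕ × QPoly)}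
    (h : eCovers E M look k c skip N y = true) {e : ℕ → F} (he : ∀ x < E.num, N.testBit x = true → e x ≠ 0)
    (hskip : skip < E.num → qEval e (eGet y skip) = 0) {z : GL D.Idx F} (hz : z ∈ D.posUnipotent F)
    (hrel : (qVal C E e y)⁻¹ * z ∈ eSub C F E M) (hsq : z * z = 1) : EReach C E M R z := by
  unfold eCovers at h
  simp only [Bool.and_eq_true, Nat.blt_eq] at h
  obtain ⟨⟨hck, hord⟩, h⟩ := h
  obtain ⟨w, rfl⟩ := eEl_surj C K hE hz
  rw [qVal_eEl C e hord] at hrel
  have hw := eEl_coord C K hE hM hrel
  cases hc : look c with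
  | none => simp [hc] at h
  | some nd =>
    obtain ⟨S', N', op⟩ := nd
    simp only [hc, List.all_eq_true, Bool.or_eq_true, Nat.beq_eq, Bool.and_eq_true, Bool.not_eq_true'] at h
    refine hns c hck _ hc _ ?_ ?_ hsq
    · intro x hx hS
      cases hxM : M.testBit x
      · have := congrArg (fun n => Nat.testBit n x) h.2.2
        simp [hS, hxM, hx] at this
      · rw [← hw x hx hxM]
        by_contra hne
        obtain ⟨p, hp, rfl⟩ := eGet_mem (l := y) (x := x) fun h0 => hne (by rw [h0]; simp [qEval])
        rcases h.1 p hp with h1 | h1 | h1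
        · simp [hxM] at h1
        · simp [hS] at h1
        · exact hne (h1 ▸ hskip (h1 ▸ hx))
    · intro x hx hN
      have hg : (eGood E N y).testBit x = true ∧ M.testBit x = true := by
        have := congrArg (fun n => Nat.testBit n x) h.2.1
        simpa [Nat.testBit_and, hN] using this
      obtain ⟨-, mo, hmo, hv⟩ := eGood_spec E N E.num y 0 x hord hg.1
      rw [← hw x hx hg.2, hmo]
      simp only [qEval, qmEval, List.map_cons, List.map_nil, List.sum_cons, List.sum_nil, add_zero, ne_eq,
        List.prod_eq_zero_iff, List.mem_map, not_exists, not_and]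
      exact fun u hu => he u (hv u hu).1 (hv u hu).2

omit hE hM in
theorem xg_inv_two (r : ℕ) (t : F) : (xg C r t)⁻¹ = xg C r t := by rw [xg_inv, CharTwo.neg_eq]

theorem eImg_conj {w l : List ℕ} (h : eImgOk T E M w l = true) (hl : ∀ x ∈ l, x < E.num) :
    wnu C F w ∈ D.group F ∧ (∀ g ∈ eSub C F E M, wnu C F w * g * (wnu C F w)⁻¹ ∈ eSub C F E M) ∧
      ∀ x ∈ l, eImg T E w x < E.num ∧
      ∀ t : F, wnu C F w * xg C (E.num + x) t * (wnu C F w)⁻¹ = xg C (E.num + eImg T E w x) t := by
  have h2 := en_two C K hE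
  simp only [eImgOk, Bool.and_eq_true, List.all_eq_true, allBelow_iff, Bool.or_eq_true, Bool.not_eq_true',
    Nat.blt_eq, Nat.ble_eq, C.spec.shape.rank_eq, C.spec.shape.nroots_eq] at h
  obtain ⟨⟨hw, himg⟩, hout⟩ := h
  have hpos : ∀ x < E.num, E.num ≤ wperm T w (E.num + x) → wperm T w (E.num + x) < D.nroots →
      eImg T E w x < E.num ∧
        ∀ t : F, wnu C F w * xg C (E.num + x) t * (wnu C F w)⁻¹ = xg C (E.num + eImg T E w x) t := by
    intro x hx h3 h4
    obtain ⟨c, hc, hct⟩ := wnu_conj_xg (F := F) C hw (show E.num + x < D.nroots by omega)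
    have hc1 : c = 1 := by
      have : (c - 1) ^ 2 = 0 := by linear_combination hc - (c - 1) * CharTwo.two_eq_zero (R := F)
      exact sub_eq_zero.1 (pow_eq_zero_iff two_ne_zero |>.1 this)
    refine ⟨by unfold eImg; omega, fun t => ?_⟩
    rw [hct, hc1, one_mul, show E.num + eImg T E w x = wperm T w (E.num + x) by unfold eImg; omega]
  refine ⟨wnu_mem_group C hw, fun g hg => conj_mem_closure ?_ hg,
    fun x hx => hpos x (hl x hx) (himg x hx).1 (himg x hx).2⟩
  rintro y ⟨r, t, -, hp, rfl⟩
  simp only [eOut, Bool.and_eq_true, Nat.ble_eq, Nat.blt_eq, Bool.not_eq_true'] at hp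
  obtain ⟨⟨h5, h6⟩, h7⟩ := hp
  obtain ⟨h8, h9, h10⟩ := (hout (r - E.num) (by omega)).resolve_left (by simp [h7])
  obtain ⟨h11, h12⟩ := hpos (r - E.num) (by omega) h8 h9
  have := h12 t
  rw [show E.num + (r - E.num) = r by omega] at this
  rw [this]
  exact xg_mem_eSub C K hE h11 h10 t

theorem eStep_conj {l l' : List ℕ} {s : EStep} (h : eStep T E M l s = some l') (hl : ∀ x ∈ l, x < E.num) :
    (∀ x ∈ l', x < E.num) ∧ ∃ g ∈ D.group F, ∀ z : GL D.Idx F, (eRep C F E l)⁻¹ * z ∈ eSub C F E M →
      (eRep C F E l')⁻¹ * (g * z * g⁻¹) ∈ eSub C F E M := by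
  have hones : ∀ m : List ℕ, qVal C E (fun _ => (0 : F)) (eOnes m) = eRep C F E m := fun m => by
    rw [qVal_ones C E _ (y := eOnes m) (fun p hp => by obtain ⟨x, -, rfl⟩ := List.mem_map.1 hp; rfl)]
    simp [eOnes, Function.comp_def]
  have htrans : ∀ (g : GL D.Idx F) (y w : List (ℕ × QPoly)), (∀ x ∈ eSub C F E M, g * x * g⁻¹ ∈ eSub C F E M) →
      (∀ p ∈ w, p.1 < E.num) → y = eNf E M w → (∀ p ∈ y, p.2 = [[]]) →
      qVal C E (fun _ => (0 : F)) w = g * eRep C F E l * g⁻¹ →
      ∀ z : GL D.Idx F, (eRep C F E l)⁻¹ * z ∈ eSub C F E M →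
        (eRep C F E (y.map Prod.fst))⁻¹ * (g * z * g⁻¹) ∈ eSub C F E M := by
    intro g y w hg hw hy hall hval z hz
    subst hy
    have h1 := (eNf_val C K hE hM (fun _ => (0 : F)) w hw).2
    rw [qVal_ones C E _ hall, hval] at h1
    have := mul_mem h1 (hg _ hz)
    simpa [mul_assoc] using this
  cases s with
  | add q =>
    simp only [eStep] at h
    cases hok : Nat.blt q E.num && (eOrd E.num 0 (eNf E M ((q, [[]]) :: eOnes l ++ [(q, [[]])])) &&
      (eNf E M ((q, [[]]) :: eOnes l ++ [(q, [[]])])).all fun p => p.2 == [[]])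
    · rw [hok] at h; simp at h
    rw [hok, cond_true, Option.some.injEq] at h
    simp only [Bool.and_eq_true, Nat.blt_eq, List.all_eq_true, beq_iff_eq] at hok
    obtain ⟨hq, hord, hall⟩ := hok
    subst h
    have h2 := en_two C K hE
    refine ⟨fun x hx => ?_, xg C (E.num + q) 1, xg_mem_group C _ _, htrans _ _ _ ?_ ?_ rfl hall ?_⟩
    · obtain ⟨p, hp, rfl⟩ := List.mem_map.1 hx
      exact (eOrd_lt E.num 0 _ hord p hp).2
    · exact fun x hx => eSub_normal C K hE hM (by rw [posUnipotent_eq C]; exact xg_mem_upper C (by omega) _) hx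
    · intro p hp
      simp only [List.mem_append, List.mem_cons, List.not_mem_nil, or_false] at hp
      rcases hp with (rfl | hp) | rfl
      · exact hq
      · obtain ⟨x, hx, rfl⟩ := List.mem_map.1 hp; exact hl x hx
      · exact hq
    · rw [← hones l, xg_inv_two C K, List.cons_append, qVal_cons, qVal_append, qVal_cons, qEval_one]
      simp [qVal, mul_assoc]
  | perm w =>
    simp only [eStep] at h
    cases hok : eImgOk T E M w l
    · simp [hok] at h
    simp only [hok, cond_true] at h
    cases hy : eOrd E.num 0 (eNf E M (eOnes (l.map (eImg T E w)))) &&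
      (eNf E M (eOnes (l.map (eImg T E w)))).all fun p => p.2 == [[]]
    · rw [hy] at h; simp at h
    rw [hy, cond_true, Option.some.injEq] at h
    simp only [Bool.and_eq_true, List.all_eq_true, beq_iff_eq] at hy
    obtain ⟨hord, hall⟩ := hy
    obtain ⟨hg, hgs, himg⟩ := eImg_conj C K hE hM (F := F) hok hl
    subst h
    refine ⟨fun x hx => ?_, wnu C F w, hg, htrans _ _ _ hgs ?_ rfl hall ?_⟩
    · obtain ⟨p, hp, rfl⟩ := List.mem_map.1 hx
      exact (eOrd_lt E.num 0 _ hord p hp).2
    · intro p hp
      simp only [eOnes, List.map_map, List.mem_map] at hp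
      obtain ⟨x, hx, rfl⟩ := hp
      exact (himg x hx).1
    · rw [← hones l, qVal_conj C E _ (wnu C F w) (eImg T E w) _ fun p hp => ?_]
      · simp [eOnes, Function.comp_def]
      · obtain ⟨x, hx, rfl⟩ := List.mem_map.1 hp; exact (himg x hx).2

theorem eSteps_conj : ∀ {st : List EStep} {l l' : List ℕ}, eSteps T E M l st = some l' → (∀ x ∈ l, x < E.num) →
    ∃ g ∈ D.group F, ∀ z : GL D.Idx F, (eRep C F E l)⁻¹ * z ∈ eSub C F E M →
      (eRep C F E l')⁻¹ * (g * z * g⁻¹) ∈ eSub C F E M := by
  intro st
  induction st with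
  | nil =>
    intro l l' h _
    simp only [eSteps, Option.some.injEq] at h
    exact ⟨1, one_mem _, by simp [h]⟩
  | cons s st ih =>
    intro l l' h hl
    simp only [eSteps] at h
    split at h
    · simp at h
    rename_i l₁ h₁
    obtain ⟨hl₁, g, hg, e⟩ := eStep_conj C K hE hM (F := F) h₁ hl
    obtain ⟨g', hg', e'⟩ := ih h hl₁
    refine ⟨g' * g, mul_mem hg' hg, fun z hz => ?_⟩
    have := e' _ (e z hz)
    simpa [mul_assoc] using this

variable [Finite F]

theorem eTorus_reach {l : List ℕ} (hl : ∀ x ∈ l, x < E.num) {m : ℕ} {Z : List (List ℤ)}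
    (h : eTorusOk T E l m Z = true) {v : ℕ → F} (hv : ∀ x ∈ l, v x ≠ 0) :
    ∃ g ∈ D.group F, (∀ x ∈ eSub C F E M, g * x * g⁻¹ ∈ eSub C F E M) ∧
      g * (l.map fun x => xg C (E.num + x) (v x)).prod * g⁻¹ = eRep C F E l := by
  have h2 := en_two C K hE
  simp only [eTorusOk, allBelow_iff, decide_eq_true_eq] at h
  have hroot : ∀ a : Fin l.length, ∃ c : Fˣ, (c : F) ^ (2 ^ m) = (v (l.getD a 0))⁻¹ := fun a => by
    have hinj : Function.Injective (iterateFrobenius F 2 m) := RingHom.injective _
    obtain ⟨t, ht⟩ := (Finite.injective_iff_surjective.1 hinj) ((v (l.getD a 0))⁻¹)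
    rw [iterateFrobenius_def] at ht
    have hx : v (l.getD a 0) ≠ 0 := hv _ (by simp [List.getD])
    refine ⟨Units.mk0 t fun h0 => ?_, ht⟩
    rw [h0, zero_pow (pow_ne_zero m two_ne_zero)] at ht
    exact inv_ne_zero hx ht.symm
  choose c hc using hroot
  set z : Fin D.rank → Fˣ := fun i => ∏ a : Fin l.length, c a ^ ((Z.getD a []).getD i 0) with hz
  refine ⟨torusHom D T F z, diag_le_group C (torusHom_range C (F := F) ▸ ⟨z, rfl⟩), fun g hg => conj_mem_closure
    ?_ hg, ?_⟩
  · rintro y ⟨r, t, hr, hp, rfl⟩
    rw [torusHom_conj_xgP C K (F := F) z hr t]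
    exact xg_mem_rootGen C hr hp _
  have hchr : ∀ b : Fin l.length, chr T D (extend' z) (E.num + l.getD b 0) * v (l.getD b 0) = 1 := by
    intro b
    have e1 : chr T D (extend' z) (E.num + l.getD b 0) =
        ∏ a : Fin l.length, ((c a ^ (∑ i : Fin D.rank, (Z.getD a []).getD i 0 * T.cartan i (E.num + l.getD b 0)) : Fˣ) : F) := by
      rw [chr, ← Fin.prod_univ_eq_prod_range (fun j => extend' z j ^ T.cartan j (E.num + l.getD b 0)),
        ← Units.coe_prod]
      have e3 : ∀ j : Fin D.rank, extend' z j ^ T.cartan j (E.num + l.getD b 0) =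
          ((z j ^ T.cartan j (E.num + l.getD b 0) : Fˣ) : F) := fun j => by
        simp [extend', j.2]
      simp only [e3]
      rw [← Units.coe_prod]
      congr 1
      simp only [hz, ← Finset.prod_zpow, ← zpow_mul]
      rw [Finset.prod_comm]
      refine Finset.prod_congr rfl fun a _ => ?_
      induction (Finset.univ : Finset (Fin D.rank)) using Finset.induction with
      | empty => simp
      | insert j s hj ih => rw [Finset.prod_insert hj, Finset.sum_insert hj, zpow_add, ih]
    have e2 : ∀ a : Fin l.length, (∑ i : Fin D.rank, (Z.getD a []).getD i 0 * T.cartan i (E.num + l.getD b 0)) =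
        if a = b then ((2 ^ m : ℕ) : ℤ) else 0 := fun a => by
      have := h a a.2 b b.2
      rw [C.spec.shape.rank_eq] at this
      simp only [← Fin.ext_iff] at this
      rw [← this, Fin.sum_univ_def, ← List.map_coe_finRange_eq_range, List.map_map]
      rfl
    rw [e1, Finset.prod_eq_single b (fun a _ ha => by rw [e2, if_neg ha, zpow_zero, Units.val_one])
      (fun hb => absurd (Finset.mem_univ _) hb), e2, if_pos rfl, zpow_natCast, Units.val_pow_eq_pow_val, hc,
      inv_mul_cancel₀ (hv _ (by simp [List.getD]))]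
  have key : ∀ l' : List ℕ, (∀ x ∈ l', ∃ b : Fin l.length, l.getD b 0 = x) →
      torusHom D T F z * (l'.map fun x => xg C (E.num + x) (v x)).prod * (torusHom D T F z)⁻¹ =
        eRep C F E l' := by
    intro l'
    induction l' with
    | nil => intro _; simp [eRep]
    | cons x l' ih =>
      intro hx
      obtain ⟨b, hb⟩ := hx x (List.mem_cons_self ..)
      have e := ih fun y hy => hx y (List.mem_cons_of_mem _ hy)
      have e' := torusHom_conj_xgP C K (F := F) z (r := E.num + x)
        (by have := hl x (by rw [← hb]; simp [List.getD]); omega) (v x)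
      rw [← hb, hchr b, hb] at e'
      simp only [eRep, List.map_cons, List.prod_cons] at e ⊢
      rw [← e, ← e']
      group
  exact key l fun x hx => by
    obtain ⟨b, hb, rfl⟩ := List.getElem_of_mem hx
    exact ⟨⟨b, hb⟩, by simp [List.getD, hb]⟩

omit C K hE hM in
theorem qEval_split (e : ℕ → F) : ∀ d : List ℕ, qmEval e d =
    e E.num ^ (d.filter fun v => Nat.beq v E.num).length * qmEval e (d.filter fun v => !Nat.beq v E.num)
  | [] => by simp [qmEval]
  | u :: d => by
    rw [show qmEval e (u :: d) = e u * qmEval e d by simp [qmEval], qEval_split e d]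
    by_cases hu : u = E.num
    · subst hu; simp [pow_succ]; ring
    · simp [hu, beq_false_ne hu, qmEval]; ring

theorem eNode_sound {R : List (List ℕ)} {look : ℕ → Option EnNode} {k : ℕ}
    (hns : ∀ c < k, ∀ nd, look c = some nd → ENodeGood C F E M R nd) :
    ∀ nd : EnNode, eNodeOk T E M R look k nd = true → ENodeGood C F E M R nd := by
  rintro ⟨S, N, op⟩ hok v hS hN hsq
  have hsupp : ∀ S, ∀ x ∈ eSupp E S, x < E.num := fun S x hx => List.mem_range.1 (List.mem_filter.1 hx).1
  have hwlt : ∀ p ∈ eWord E S, p.1 < E.num := fun p hp => (eOrd_lt E.num 0 _ (eWord_ord E S) p hp).2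
  have hconj2 : ∀ X : GL D.Idx F, X * eEl C E v * X⁻¹ * (X * eEl C E v * X⁻¹) = 1 := fun X => by
    rw [show X * eEl C E v * X⁻¹ * (X * eEl C E v * X⁻¹) = X * (eEl C E v * eEl C E v) * X⁻¹ by group, hsq, mul_one,
      mul_inv_cancel]
  have hu := eEl_pos C K hE (F := F) v
  have hvars : ∀ {c skip N' : ℕ}, eCovers E M look k c skip N' (eWord E S) = true →
      (∀ x < E.num, N'.testBit x = true → v x ≠ 0) → (skip < E.num → v skip = 0) →
      EReach C E M R (eEl C E v) := by
    intro c skip N' hc hN' hs
    refine eCovers_reach C K hE hM hns hc (e := v) hN' (fun h => ?_) hu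
      (by rw [qVal_eWord C hS fun _ _ => rfl, inv_mul_cancel]; exact one_mem _) hsq
    rw [eWord_get]
    split_ifs
    · rw [qEval_var]; exact hs h
    · simp [qEval]
  have hsand : ∀ (q : ℕ) (e : ℕ → F) (p : QPoly), (∀ x < E.num, e x = v x) → q < E.num →
      xg C (E.num + q) (qEval e p) * eEl C E v * (xg C (E.num + q) (qEval e p))⁻¹ ∈ D.posUnipotent F ∧
      (qVal C E e (eNf E M ((q, p) :: eWord E S ++ [(q, p)])))⁻¹ *
        (xg C (E.num + q) (qEval e p) * eEl C E v * (xg C (E.num + q) (qEval e p))⁻¹) ∈ eSub C F E M := by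
    intro q e p he hq
    have hval : qVal C E e ((q, p) :: eWord E S ++ [(q, p)]) =
        xg C (E.num + q) (qEval e p) * eEl C E v * (xg C (E.num + q) (qEval e p))⁻¹ := by
      rw [xg_inv_two C K, List.cons_append, qVal_cons, qVal_append, qVal_eWord C hS he]
      simp [qVal, mul_assoc]
    rw [← hval]
    refine ⟨qVal_pos C K hE e _, (eNf_val C K hE hM e _ fun x hx => ?_).2⟩
    simp only [List.mem_append, List.mem_cons, List.not_mem_nil, or_false] at hx
    rcases hx with (rfl | hx) | rfl
    · exact hq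
    · exact hwlt x hx
    · exact hq
  cases op with
  | one =>
    simp only [eNodeOk, Nat.beq_eq] at hok
    refine ⟨1, one_mem _, [], List.mem_cons_self .., ?_⟩
    simp only [eRep, List.map_nil, List.prod_nil, inv_one, one_mul, mul_one]
    rw [eEl, oprod]
    refine list_prod_mem fun y hy => ?_
    obtain ⟨r, hr, rfl⟩ := List.mem_map.1 hy
    have := List.mem_range'_1.1 hr
    cases hM' : M.testBit (r - E.num)
    · have h3 := xg_mem_eSub C K hE (F := F) (show r - E.num < E.num by omega) hM' (v (r - E.num))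
      rwa [show E.num + (r - E.num) = r by omega] at h3
    · have h3 := congrArg (fun n => Nat.testBit n (r - E.num)) hok
      simp [hM'] at h3
      rw [hS (r - E.num) (by omega) h3, xg_zero]
      exact one_mem _
  | sq x ch =>
    simp only [eNodeOk, Bool.and_eq_true, Nat.blt_eq] at hok
    obtain ⟨⟨⟨hx, hxM⟩, hord⟩, hok⟩ := hok
    set M' := M &&& (2 ^ (x + 1) - 1) with hM'
    have hbit : ∀ c, M'.testBit c = (M.testBit c && decide (c < x + 1)) := fun c => by
      rw [hM', Nat.testBit_and, Nat.testBit_two_pow_sub_one]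
    have hMask : chkMask E M' = true := by
      have hm := hM
      simp only [chkMask, allBelow_iff, Bool.or_eq_true, Nat.beq_eq] at hm ⊢
      intro i hi j hj
      by_cases hne : i = j
      · exact Or.inl hne
      refine Or.inr ?_
      have hb := (hm i hi j hj).resolve_left hne
      rcases (en_terms C K hE hi hj hne).2 with ⟨h3, -⟩ | ⟨c, h3, h4, h5, -, -⟩
      · rw [h3]
      · rw [h3] at hb ⊢
        simp only [Bool.or_eq_true, Bool.not_eq_true', Bool.and_eq_true, hbit, Bool.and_eq_false_iff,
          decide_eq_true_eq, decide_eq_false_iff_not] at hb ⊢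
        by_cases hc : c < x + 1
        · exact hb.imp Or.inl fun h => ⟨⟨h.1, by omega⟩, h.2, by omega⟩
        · exact Or.inl (Or.inr hc)
    set y := eNf E M' (eWord E S ++ eWord E S) with hy
    split at hok
    case h_2 => simp at hok
    rename_i mo hmo
    simp only [Bool.and_eq_true, List.all_eq_true, Bool.or_eq_true, List.any_eq_true, Nat.blt_eq, Nat.beq_eq] at hok
    obtain ⟨hvs, hch⟩ := hok
    have hw2 : ∀ p ∈ eWord E S ++ eWord E S, p.1 < E.num := fun p hp => (List.mem_append.1 hp).elim (hwlt p) (hwlt p)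
    have h1 := (eNf_val C K hE hMask v _ hw2).2
    rw [← hy, qVal_append, qVal_eWord C hS fun _ _ => rfl, hsq, mul_one, qVal_eEl C v hord] at h1
    have h0 : eEl C E (fun _ => (0 : F)) = 1 := by
      rw [eEl, oprod]
      exact List.prod_eq_one fun z hz => by
        obtain ⟨r, -, rfl⟩ := List.mem_map.1 hz
        exact xg_zero C r
    have h3 := eEl_coord C K hE hMask (a := fun x => qEval v (eGet y x)) (b := fun _ => (0 : F))
      (by rw [h0, mul_one]; exact h1) x hx (by simp [hbit, hxM])
    simp only [hmo] at h3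
    obtain ⟨u, hu', hu0⟩ : ∃ u ∈ mo, v u = 0 := by
      simpa [qEval, qmEval, List.prod_eq_zero_iff] using h3
    obtain ⟨huN, hu'' | ⟨p, hp, hpu⟩⟩ := hvs u hu'
    · exact absurd hu0 (hN u huN hu'')
    · subst hpu
      exact hvars (hch p hp) hN fun _ => hu0
  | kill q r j c =>
    simp only [eNodeOk, Bool.and_eq_true, Nat.blt_eq] at hok
    obtain ⟨⟨⟨hq, hr⟩, hshape⟩, hcov⟩ := hok
    set y := eNf E M ((q, [[E.num]]) :: eWord E S ++ [(q, [[E.num]])]) with hy
    split at hshape
    case h_2 => simp at hshape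
    rename_i m₁ m₂ hyr
    simp only [Bool.and_eq_true, Bool.or_eq_true, Nat.beq_eq, List.all_eq_true, Nat.blt_eq] at hshape
    obtain ⟨⟨hm, hcnt⟩, hd⟩ := hshape
    set d := (bif qmEq m₁ [r] then m₂ else m₁) with hdd
    have hev : ∀ e : ℕ → F, qEval e (eGet y r) = e r + qmEval e d := by
      intro e
      rw [hyr]
      cases h : qmEq m₁ [r]
      · have h' := qmEq_eq (hm.resolve_left (by simp [h]))
        subst h'
        simp [hdd, h, qEval, qmEval, add_comm]
      · rw [hdd, h, cond_true, qmEq_eq h]
        simp [qEval, qmEval]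
    set rest := d.filter (fun u => !Nat.beq u E.num) with hrest
    have hrest0 : qmEval v rest ≠ 0 := by
      intro h0
      obtain ⟨u, hu, hu0⟩ : ∃ u ∈ rest, v u = 0 := by
        simpa [qmEval, List.prod_eq_zero_iff] using h0
      obtain ⟨hud, hu24⟩ := List.mem_filter.1 hu
      rcases hd u hud with h | h
      · subst h; simp at hu24
      · exact hN u h.1 h.2 hu0
    obtain ⟨t, ht⟩ : ∃ t : F, t ^ 2 ^ j = v r / qmEval v rest := by
      have hinj : Function.Injective (iterateFrobenius F 2 j) := RingHom.injective _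
      obtain ⟨t, ht⟩ := (Finite.injective_iff_surjective.1 hinj) (v r / qmEval v rest)
      exact ⟨t, by rwa [iterateFrobenius_def] at ht⟩
    let e : ℕ → F := fun x => if x < E.num then v x else t
    have he : ∀ x < E.num, e x = v x := fun x hx => if_pos hx
    have her : qmEval e rest = qmEval v rest := by
      simp only [qmEval]
      congr 1
      refine List.map_congr_left fun u hu => ?_
      obtain ⟨hud, hu24⟩ := List.mem_filter.1 hu
      rcases hd u hud with h | h
      · subst h; simp at hu24
      · exact he u h.1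
    have hzero : qEval e (eGet y r) = 0 := by
      rw [hev, qEval_split e d, hcnt, ← hrest, her, he r hr,
        show e E.num = t from if_neg (lt_irrefl _), ht, div_mul_cancel₀ _ hrest0, CharTwo.add_self_eq_zero]
    obtain ⟨hzp, hzr⟩ := hsand q e [[E.num]] he hq
    exact (eCovers_reach C K hE hM hns hcov (e := e) (fun x hx h => by rw [he x hx]; exact hN x hx h)
      (fun _ => hzero) hzp hzr (hconj2 _)).conj C (xg_mem_group C _ _)
  | add q c =>
    simp only [eNodeOk, Bool.and_eq_true, Nat.blt_eq] at hok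
    obtain ⟨hq, hcov⟩ := hok
    obtain ⟨hzp, hzr⟩ := hsand q v [[]] (fun _ _ => rfl) hq
    exact (eCovers_reach C K hE hM hns hcov (e := v) hN (fun h => absurd h (lt_irrefl _)) hzp hzr
      (hconj2 _)).conj C (xg_mem_group C _ _)
  | refl i c =>
    simp only [eNodeOk, Bool.and_eq_true] at hok
    obtain ⟨himg, hcov⟩ := hok
    obtain ⟨hg, -, hconj⟩ := eImg_conj C K hE hM (F := F) himg (hsupp S)
    set n := wnu C F [i] with hn
    set w := (eSupp E S).map fun x => (eImg T E [i] x, ([[x]] : QPoly)) with hw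
    have hval : qVal C E v w = n * eEl C E v * n⁻¹ := by
      rw [← qVal_eWord C hS (e := v) fun _ _ => rfl,
        qVal_conj C E v n (eImg T E [i]) (eWord E S) fun p hp => ?_]
      · simp [hw, eWord, Function.comp_def]
      · obtain ⟨x, hx, rfl⟩ := List.mem_map.1 hp
        exact (hconj x hx).2
    have hwl : ∀ p ∈ w, p.1 < E.num := fun p hp => by
      obtain ⟨x, hx, rfl⟩ := List.mem_map.1 hp
      exact (hconj x hx).1
    exact (eCovers_reach C K hE hM hns hcov (e := v) hN (fun h => absurd h (lt_irrefl _))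
      (hval ▸ qVal_pos C K hE v w) (by rw [← hval]; exact (eNf_val C K hE hM v w hwl).2) (hconj2 _)).conj C hg
  | split r c₀ c₁ =>
    simp only [eNodeOk, Bool.and_eq_true] at hok
    by_cases h : v r = 0
    · exact hvars hok.1 hN fun _ => h
    · refine hvars hok.2 (fun x hx hb => ?_) fun h24 => absurd h24 (lt_irrefl _)
      rw [Nat.testBit_or, Bool.or_eq_true, Nat.testBit_two_pow] at hb
      rcases hb with hb | hb
      · exact hN x hx hb
      · rw [decide_eq_true_eq] at hb; subst hb; exact h
  | ones m Z st =>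
    simp only [eNodeOk, Bool.and_eq_true, Nat.beq_eq, beq_iff_eq] at hok
    obtain ⟨⟨⟨hnf, htor⟩, -⟩, hst⟩ := hok
    split at hst
    · simp at hst
    rename_i l' hl'
    obtain ⟨r, hr, hrl⟩ := List.any_eq_true.1 hst
    obtain rfl := qmEq_eq hrl
    obtain ⟨g, hg, hgs, eg⟩ := eTorus_reach C K hE hM (hsupp N) htor (v := v) fun x hx =>
      hN x (hsupp N x hx) (by simpa [eSupp] using (List.mem_filter.1 hx).2)
    obtain ⟨g', hg', eg'⟩ := eSteps_conj C K hE hM (F := F) hl' (hsupp N)
    have h1 := (eNf_val C K hE hM v _ hwlt).2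
    rw [hnf, qVal_eWord C hS fun _ _ => rfl] at h1
    have h2 : qVal C E v (eWord E N) = ((eSupp E N).map fun x => xg C (E.num + x) (v x)).prod := by
      simp [qVal, eWord, qEval_var, Function.comp_def]
    rw [h2] at h1
    have h3 := eg' (g * eEl C E v * g⁻¹) (by
      rw [← eg]
      simpa [mul_assoc] using hgs _ h1)
    exact ⟨g' * g, mul_mem hg' hg, r, List.mem_cons_of_mem _ hr, by simpa [mul_assoc] using h3⟩

theorem eTree_good {R : List (List ℕ)} {P : List (List EnNode)}
    (hok : ∀ k nd, eLook P k = some nd → eNodeOk T E M R (eLook P) k nd = true) :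
    ∀ k, ∀ nd, eLook P k = some nd → ENodeGood C F E M R nd := by
  intro k
  induction k using Nat.strong_induction_on with
  | _ k ih => exact fun nd hnd => eNode_sound C K hE hM ih nd (hok k nd hnd)

/-- A stage: reach modulo `M'` gives reach modulo `M`. -/
theorem eStage_reach {M' : ℕ} (hM' : chkMask E M' = true) {Rprev R : List (List ℕ)} {P : List (List EnNode)}
    (hok : ∀ k nd, eLook P k = some nd → eNodeOk T E M R (eLook P) k nd = true) {roots : List ℕ}
    (hroots : eStageOk E M' Rprev P roots = true)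
    (hprev : ∀ u ∈ D.posUnipotent F, u * u = 1 → EReach C E M' Rprev u) :
    ∀ u ∈ D.posUnipotent F, u * u = 1 → EReach C E M R u := by
  intro u hu h2
  obtain ⟨h, hh, r, hr, hrel⟩ := hprev u hu h2
  simp only [eStageOk, List.all_eq_true, Bool.and_eq_true, List.any_eq_true] at hroots
  obtain ⟨⟨hord, -⟩, root, -, hroot⟩ := hroots r hr
  split at hroot
  · simp at hroot
  rename_i S N op hlk
  simp only [Bool.and_eq_true, Nat.beq_eq] at hroot
  obtain ⟨rfl, rfl⟩ := hroot
  have hones : qVal C E (fun _ => (0 : F)) (eOnes r) = eRep C F E r := by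
    rw [qVal_ones C E _ (y := eOnes r) (fun p hp => by obtain ⟨x, -, rfl⟩ := List.mem_map.1 hp; rfl)]
    simp [eOnes, Function.comp_def]
  have hzpos : h * u * h⁻¹ ∈ D.posUnipotent F := by
    have := mul_mem (qVal_pos C K hE (fun _ => (0 : F)) (eOnes r)) (eSub_le_pos C K hE M' hrel)
    rw [hones] at this
    simpa [mul_assoc] using this
  obtain ⟨w, hw⟩ := eEl_surj C K hE hzpos
  rw [hw, ← hones, qVal_eEl C _ hord] at hrel
  have hco := eEl_coord C K hE hM' hrel
  have hget : ∀ x, eGet (eOnes r) x = if x ∈ r then [[]] else [] := by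
    intro x
    clear hord hlk hrel hones hzpos hco hr
    induction r with
    | nil => simp [eOnes, eGet]
    | cons y l ih =>
      simp only [eOnes, List.map_cons, eGet, List.mem_cons] at ih ⊢
      by_cases hy : y = x
      · subst hy; simp
      · simp [hy, Ne.symm hy, ih]
  have hbit : ∀ (b x : ℕ), (r.foldr (fun x s => 2 ^ x ||| s) b).testBit x = (decide (x ∈ r) || b.testBit x) := by
    intro b x
    clear hord hlk hrel hones hzpos hco hget hr
    induction r with
    | nil => simp
    | cons y l ih => simp [Nat.testBit_or, ih, Nat.testBit_two_pow, eq_comm, Bool.or_assoc]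
  have hgood := eTree_good C K hE hM hok root _ hlk w
  refine EReach.conj C hh (hw ▸ hgood ?_ ?_ ?_)
  · intro x hx hS
    simp [hbit, hx, Nat.testBit_xor, Nat.testBit_two_pow_sub_one] at hS
    rw [← hco x hx hS.2, hget, if_neg hS.1]
    simp [qEval]
  · intro x hx hN
    simp [hbit] at hN
    have hxM : M'.testBit x = true := by
      have := hroots r hr
      exact this.1.2 x hN
    rw [← hco x hx hxM, hget, if_pos hN, qEval_one]
    exact one_ne_zero
  · rw [← hw, show h * u * h⁻¹ * (h * u * h⁻¹) = h * (u * u) * h⁻¹ by group, h2, mul_one, mul_inv_cancel]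

omit hM in
/-- Before the first stage every element reaches the empty product. -/
theorem eStage_start : ∀ u ∈ D.posUnipotent F, u * u = 1 → EReach C E 0 [] u := by
  intro u hu _
  obtain ⟨v, rfl⟩ := eEl_surj C K hE hu
  refine ⟨1, one_mem _, [], List.mem_cons_self .., ?_⟩
  simp only [eRep, List.map_nil, List.prod_nil, inv_one, one_mul, mul_one]
  rw [eEl, oprod]
  refine list_prod_mem fun y hy => ?_
  obtain ⟨r, hr, rfl⟩ := List.mem_map.1 hy
  have := List.mem_range'_1.1 hr
  have h3 := xg_mem_eSub C K hE (F := F) (M := 0) (show r - E.num < E.num by omega) (by simp) (v (r - E.num))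
  rwa [show E.num + (r - E.num) = r by omega] at h3

/-- Every involution of the group is conjugate to one of the representatives of a last stage with the full mask. -/
theorem eGroup_reach {R : List (List ℕ)} (hfull : 2 ^ E.num - 1 = M)
    (hlast : ∀ u ∈ D.posUnipotent F, u * u = 1 → EReach C E M R u) {g : GL D.Idx F} (hg : g ∈ D.group F)
    (h2g : g * g = 1) : g = 1 ∨ ∃ h ∈ D.group F, ∃ r ∈ R, h * g * h⁻¹ = eRep C F E r := by
  haveI : Fact (Nat.Prime 2) := ⟨Nat.prime_two⟩
  obtain ⟨Q₀, hQ₀⟩ := exists_sylow C K (F := F) 2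
  set x : ↥(D.group F) := ⟨g, hg⟩ with hx
  have hxp : IsPGroup 2 ↥(Subgroup.zpowers x) := by
    have hd : orderOf x ∣ 2 ^ 1 := orderOf_dvd_of_pow_eq_one (Subtype.ext (by simpa [hx, sq] using h2g))
    obtain ⟨k, -, hk⟩ := (Nat.dvd_prime_pow Nat.prime_two).1 hd
    exact IsPGroup.of_card (n := k) (by rw [Nat.card_zpowers, hk])
  obtain ⟨Q, hQ⟩ := hxp.exists_le_sylow
  obtain ⟨c, hc⟩ := MulAction.exists_smul_eq ↥(D.group F) Q Q₀
  have hmem : c * x * c⁻¹ ∈ (Q₀ : Subgroup ↥(D.group F)) := by
    rw [← hc, Sylow.coe_subgroup_smul, Subgroup.mem_pointwise_smul_iff_inv_smul_mem]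
    simpa [MulAut.smul_def, MulAut.conj_symm_apply, mul_assoc] using hQ (Subgroup.mem_zpowers x)
  rw [hQ₀, Subgroup.mem_subgroupOf] at hmem
  have hx2 : ((c * x * c⁻¹ : ↥(D.group F)) : GL D.Idx F) * (c * x * c⁻¹ : ↥(D.group F)) = 1 := by
    show (c : GL D.Idx F) * g * (c : GL D.Idx F)⁻¹ * ((c : GL D.Idx F) * g * (c : GL D.Idx F)⁻¹) = 1
    rw [show (c : GL D.Idx F) * g * (c : GL D.Idx F)⁻¹ * ((c : GL D.Idx F) * g * (c : GL D.Idx F)⁻¹) =
      (c : GL D.Idx F) * (g * g) * (c : GL D.Idx F)⁻¹ by group, h2g, mul_one, mul_inv_cancel]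
  obtain ⟨h, hh, r, hr, hrel⟩ := EReach.conj C (g := g) c.2 (hlast _ hmem hx2)
  have hbot : eSub C F E M ≤ ⊥ := (Subgroup.closure_le _).2 (by
    rintro y ⟨r, t, -, hp, rfl⟩
    simp only [eOut, Bool.and_eq_true, Nat.ble_eq, Nat.blt_eq, Bool.not_eq_true', ← hfull,
      Nat.testBit_two_pow_sub_one, decide_eq_false_iff_not] at hp
    omega)
  have he : h * g * h⁻¹ = eRep C F E r := (inv_mul_eq_one.1 (Subgroup.mem_bot.1 (hbot hrel))).symm
  rcases List.mem_cons.1 hr with rfl | hr
  · exact Or.inl (conj_eq_one_iff.1 (he.trans (by simp [eRep])))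
  · exact Or.inr ⟨h, hh, r, hr, he⟩

omit C K hE hM [CharP F 2] [Finite F] in
/-- The parts of a tree checked one by one give the whole tree. -/
theorem eTreeOk_all {R : List (List ℕ)} {P : List (List EnNode)}
    (h : ∀ i < P.length, eTreeOk T E M R P (100 * i) 100 = true) :
    ∀ k nd, eLook P k = some nd → eNodeOk T E M R (eLook P) k nd = true := by
  intro k nd hk
  have hlt : k / 100 < P.length := by
    by_contra hc
    simp [eLook, List.getD, List.getElem?_eq_none (not_lt.1 hc)] at hk
  have := h _ hlt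
  simp only [eTreeOk, allBelow_iff] at this
  have h' := this (k % 100) (Nat.mod_lt _ (by norm_num))
  rw [Nat.div_add_mod] at h'
  rw [hk] at h'
  exact h'

end Cfsg.Lib.Chev
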