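import Mathlib
import Cfsg.Agent.Lib.Chev.NormalForm
import Cfsg.Agent.Lib.Chev.SpecialTwist
import Cfsg.Agent.Lib.Chev.AnyOrder
import Cfsg.Agent.Lib.Chev.Perfect
import Cfsg.Agent.Lib.Chev.FullAll

/-!
The centraliser of a root involution of the highest root in characteristic two.
-/

set_option autoImplicit false
set_option linter.unusedSectionVars false

namespace Cfsg.Lib.Chev

open Cfsg.Lie

/-- The pairing of the coroot of `r` with the root `s`. -/
def corPair (T : Tbl) (r s : ℕ) : ℤ := ((List.range T.rank).map fun j => T.coroot r j * T.cartan j s).sum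

/-- The combinatorial data for the centraliser: `m` is the node adjacent to the highest root, `l` lists the
negatives of the other fundamental roots. -/
noncomputable def topCentChk (D : ChevalleyDatum) (T : Tbl) (m : ℕ) (l : List ℕ) : Bool :=
  Nat.blt m D.rank && ((List.all l fun s => Nat.blt s D.nroots && (!Nat.beq s (D.nroots - 1) &&
      (!Nat.beq s (T.neg (D.nroots - 1)) && (tTerms T (D.nroots - 1) s).isEmpty))) &&
    (allBelow (fun j => Nat.beq j m && decide (T.cartan j (D.nroots - 1) = 1) ||
        (decide (T.cartan j (D.nroots - 1) = 0) && (l.contains (T.neg (T.simp' j)) &&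
          Nat.beq (T.refl' j (D.nroots - 1)) (D.nroots - 1)))) D.rank &&
    (allBelow (fun j => decide (corPair T (D.nroots - 1) (T.simp' j) ≠ 0) ||
        decide (T.cartan j (D.nroots - 1) = 0)) D.rank &&
    allBelow (fun s => Nat.blt (2 * s) D.nroots || decide (0 ≤ corPair T (D.nroots - 1) s)) D.nroots)))

variable {D : ChevalleyDatum} {T : Tbl} {F : Type*} [Field F] (C : Cert D T)
include C

theorem corPair_refl {i r s : ℕ} (hi : i < D.rank) (hr : r < D.nroots) (hs : s < D.nroots) :
    corPair T (T.refl' i r) (T.refl' i s) = corPair T r s := by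
  simp only [corPair, C.spec.shape.rank_eq]
  have sum_eq : ∀ f : ℕ → ℤ, ((List.range D.rank).map f).sum = ∑ j ∈ Finset.range D.rank, f j := fun f => by
    rw [Finset.sum_eq_multiset_sum]; rfl
  rw [sum_eq, sum_eq]
  have hX := sum_eq fun j => T.coroot r j * T.cartan j (T.simp' i)
  set X := ∑ j ∈ Finset.range D.rank, T.coroot r j * T.cartan j (T.simp' i) with hXdef
  calc ∑ j ∈ Finset.range D.rank, T.coroot (T.refl' i r) j * T.cartan j (T.refl' i s)
      = ∑ j ∈ Finset.range D.rank, ((T.coroot r j * T.cartan j s - T.cartan i s * (T.coroot r j * T.cartan j (T.simp' i))) -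
          (if j = i then X * (T.cartan j s - T.cartan i s * T.cartan j (T.simp' i)) else 0)) := by
        refine Finset.sum_congr rfl fun j hj => ?_
        have hj' := Finset.mem_range.1 hj
        rw [C.spec.cor_refl i hi r hr j hj', hX, C.spec.cart_refl i hi j hj' s hs]
        split_ifs <;> ring
    _ = _ := by
        rw [Finset.sum_sub_distrib, Finset.sum_sub_distrib, ← Finset.mul_sum, ← hXdef,
          Finset.sum_ite_eq' (Finset.range D.rank) i, if_pos (Finset.mem_range.2 hi), C.spec.cart_simple i hi]
        ring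

theorem corPair_wperm {w : List ℕ} (hw : IsWord D w) {r s : ℕ} (hr : r < D.nroots) (hs : s < D.nroots) :
    corPair T (wperm T w r) (wperm T w s) = corPair T r s := by
  induction w with
  | nil => rfl
  | cons i w ih =>
    show corPair T (T.refl' i (wperm T w r)) (T.refl' i (wperm T w s)) = _
    rw [corPair_refl C hw.tail.1 (wperm_lt C hw.tail.2 hr) (wperm_lt C hw.tail.2 hs)]
    exact ih hw.tail.2

variable (K : FullCert D T)
include K

theorem top_centralizer_eq [CharP F 2] {m : ℕ} {l : List ℕ} (hn : 0 < D.nroots) (hchk : topCentChk D T m l = true)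
    {t : GL D.Idx F} (ht : (t : Matrix D.Idx D.Idx F) = D.x F (D.nroots - 1) 1) :
    D.group F ⊓ Subgroup.centralizer {t} =
      D.posUnipotent F ⊔ Subgroup.closure {g : GL D.Idx F | ∃ s ∈ l, ∃ c : F, (g : Matrix D.Idx D.Idx F) = D.x F s c} := by
  have hev := nroots_even C
  obtain rfl := eq_xg C ht
  simp only [topCentChk, Bool.and_eq_true, Nat.blt_eq, List.all_eq_true, allBelow_iff, Bool.or_eq_true,
    decide_eq_true_eq, Nat.beq_eq, List.contains_iff_mem, Bool.not_eq_true', List.isEmpty_iff] at hchk
  set θ := D.nroots - 1 with hθ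
  set W := D.posUnipotent F ⊔
    Subgroup.closure {g : GL D.Idx F | ∃ s ∈ l, ∃ c : F, (g : Matrix D.Idx D.Idx F) = D.x F s c} with hW
  obtain ⟨hm, hl, hnode, hstab, hdom⟩ := hchk
  have hθn : θ < D.nroots := by omega
  have hWG : W ≤ D.group F := sup_le (pos_le_group C) ((Subgroup.closure_le _).2 fun g ⟨s, _, c, e⟩ =>
    eq_xg C e ▸ xg_mem_group C s c)
  have hWC : ∀ g ∈ W, Commute g (xg C θ (1 : F)) := by
    intro g hg
    suffices h : W ≤ Subgroup.centralizer {xg C θ (1 : F)} from
      (Subgroup.mem_centralizer_iff.1 (h hg) _ rfl).symm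
    refine sup_le (fun u hu => ?_) ((Subgroup.closure_le _).2 ?_)
    · rw [Subgroup.mem_centralizer_iff]
      rintro _ rfl
      have hc := (upper_central C K.comm (F := F) (k := θ) (by omega) hθn hu).2 1
      rw [upper_top C (by omega), Subgroup.mem_bot] at hc
      calc xg C θ (1 : F) * u = u * xg C θ 1 * ((xg C θ (1 : F))⁻¹ * u⁻¹ * xg C θ 1 * u) := by group
        _ = u * xg C θ 1 := by rw [hc, mul_one]
    · rintro g ⟨s, hs, c, e⟩
      rw [eq_xg C e, SetLike.mem_coe, Subgroup.mem_centralizer_iff]
      rintro _ rfl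
      obtain ⟨hsn, hne, hneg, hterm⟩ := hl s hs
      have hc := comm_xg_prod C K.comm hθn hsn (Nat.ne_of_beq_eq_false hne) (Nat.ne_of_beq_eq_false hneg) (1 : F) c
      rw [hterm, List.map_nil, List.prod_nil, commutatorElement_eq_one_iff_commute] at hc
      exact hc.inv_inv.symm.eq.trans rfl
  refine le_antisymm (fun g hg => ?_) fun g hg =>
    ⟨hWG hg, Subgroup.mem_centralizer_iff.2 fun x hx => by rw [hx]; exact ((hWC g hg).eq).symm⟩
  obtain ⟨hgG, hgc⟩ := hg
  have hgc : g * xg C θ (1 : F) * g⁻¹ = xg C θ 1 := by
    rw [← Subgroup.mem_centralizer_iff.1 hgc _ rfl, mul_inv_cancel_right]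
  -- the part of the monomial subgroup
  have hnu : ∀ j < D.rank, T.cartan j θ = 0 → nu C j ∈ W := by
    intro j hj h0
    have hlj : T.neg (T.simp' j) ∈ l := by
      rcases hnode j hj with h | h
      · rw [h0] at h; exact absurd h.2 (by norm_num)
      · exact h.2.1
    have hp : ∀ c : F, xg C (T.simp' j) c ∈ W := fun c =>
      Subgroup.mem_sup_left (xg_mem_pos C (C.spec.simp_lt j hj) (K.simple_pos hj) c)
    rw [nu, ng]
    refine mul_mem (mul_mem (hp _) (Subgroup.mem_sup_right (Subgroup.subset_closure ⟨_, hlj, -(1 : F)⁻¹, ?_⟩))) (hp _)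
    rw [coe_xg, C.spec.shape.neg_eq _ (C.spec.simp_lt j hj)]
  have hword : ∀ (N : ℕ) (w : List ℕ), IsWord D w → wperm T w θ = θ →
      ((Finset.range D.nroots).filter fun s => D.nroots ≤ 2 * s ∧ 2 * wperm T w s < D.nroots).card = N →
      ∃ d ∈ D.diagonalSubgroup F, ∃ x ∈ W, wnu C F w = d * x := by
    intro N
    induction N using Nat.strong_induction_on with
    | _ N ih =>
      intro w hw hwθ hN
      by_cases hk : ∃ k < D.rank, 2 * wperm T w (T.simp' k) < D.nroots
      · obtain ⟨k, hk, hkn⟩ := hk
        have hsk := C.spec.simp_lt k hk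
        have hwk := wperm_lt C hw hsk
        have h0 : corPair T θ (T.simp' k) = 0 := by
          have h1 := (hdom _ hsk).resolve_left (by have := K.simple_pos hk; omega)
          have h2 := (hdom (T.neg (wperm T w (T.simp' k))) (C.spec.neg_lt _ hwk)).resolve_left (by
            rw [C.neg_eq hwk]; omega)
          have h3 : corPair T θ (T.neg (wperm T w (T.simp' k))) = -corPair T θ (T.simp' k) := by
            have e := corPair_wperm C hw hθn (C.spec.neg_lt _ hsk)
            rw [hwθ, wperm_neg C hw hsk] at e
            rw [e]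
            simp only [corPair, C.spec.shape.rank_eq]
            have key : ∀ ls : List ℕ, (∀ j ∈ ls, j < D.rank) →
                (ls.map fun j => T.coroot θ j * T.cartan j (T.neg (T.simp' k))).sum =
                  -(ls.map fun j => T.coroot θ j * T.cartan j (T.simp' k)).sum := by
              intro ls
              induction ls with
              | nil => simp
              | cons j ls ihl =>
                intro hls
                simp only [List.map_cons, List.sum_cons, C.spec.cart_neg j (hls j (List.mem_cons_self ..)) _ hsk,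
                  ihl fun x hx => hls x (List.mem_cons_of_mem _ hx)]
                ring
            exact key _ fun j hj => List.mem_range.1 hj
          omega
        have hkθ : T.cartan k θ = 0 := (hstab k hk).resolve_left fun h => h h0
        have hfix : T.refl' k θ = θ := by
          rcases hnode k hk with h | h
          · rw [hkθ] at h; exact absurd h.2 (by norm_num)
          · exact h.2.2
        have hw' : IsWord D (w ++ [k]) := hw.append (IsWord.cons hk fun j hj => absurd hj List.not_mem_nil)
        have hval : ∀ s, wperm T (w ++ [k]) s = wperm T w (T.refl' k s) := fun s => by rw [wperm_append]; rfl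
        obtain ⟨d, hd, x, hx, e⟩ := ih
          ((Finset.range D.nroots).filter fun s => D.nroots ≤ 2 * s ∧ 2 * wperm T (w ++ [k]) s < D.nroots).card (by
          subst hN
          refine lt_of_le_of_lt ((le_of_eq (Finset.card_image_of_injOn (f := T.refl' k) ?_).symm).trans
              (Finset.card_le_card (t := ((Finset.range D.nroots).filter
                fun s => D.nroots ≤ 2 * s ∧ 2 * wperm T w s < D.nroots).erase (T.simp' k)) ?_)) ?_
          · intro a ha b hb e
            simp only [Finset.coe_filter, Finset.mem_range, Set.mem_setOf_eq] at ha hb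
            rw [← C.spec.refl_refl k hk a ha.1, e, C.spec.refl_refl k hk b hb.1]
          · intro r hr
            obtain ⟨s, hs, rfl⟩ := Finset.mem_image.1 hr
            simp only [Finset.mem_filter, Finset.mem_range, hval] at hs
            obtain ⟨hsn, hsp, hsw⟩ := hs
            have hne : s ≠ T.simp' k := by
              rintro rfl
              rw [C.spec.refl_simple k hk, wperm_neg C hw hsk, C.neg_eq hwk] at hsw
              omega
            refine Finset.mem_erase.2 ⟨fun e => ?_, ?_⟩
            · have := congrArg (T.refl' k) e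
              rw [C.spec.refl_refl k hk s hsn, C.spec.refl_simple k hk, C.neg_eq hsk] at this
              have := K.simple_pos hk
              omega
            · simp only [Finset.mem_filter, Finset.mem_range]
              exact ⟨C.spec.refl_lt k hk s hsn, K.refl_pos hk hsn hsp hne, hsw⟩
          · exact Finset.card_erase_lt_of_mem (by simp [hsk, K.simple_pos hk, hkn]))
          (w ++ [k]) hw' (by rw [hval, hfix, hwθ]) rfl
        refine ⟨d, hd, x * (nu C k)⁻¹, mul_mem hx (inv_mem (hnu k hk hkθ)), ?_⟩
        rw [← mul_assoc, ← e, wnu_append, wnu_cons, show wnu C F ([] : List ℕ) = 1 from List.prod_nil, mul_one,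
          mul_inv_cancel_right]
      · push Not at hk
        exact ⟨wnu C F w, word_kernel C K _ rfl hw hk, 1, one_mem _, (mul_one _).symm⟩
  obtain ⟨w, hw, b, hb, c, hc, rfl⟩ := bruhat_normal C K hgG
  obtain ⟨u, hu, h, hh, rfl⟩ := (mem_borel C).1 hb
  have hcW : c ∈ W := Subgroup.mem_sup_left ((posUnipotent_eq C (F := F)) ▸ signPart_le_upper C K w true _ hc)
  obtain ⟨cw, hcw1, hcw⟩ := wnu_conj_xg C (F := F) hw hθn
  obtain ⟨χ, hχ⟩ := diag_conj_xg C hh
  have hwn := wperm_lt C hw hθn
  have e1 : xg C θ (1 : F) = xg C (wperm T w θ) (χ (wperm T w θ) * (cw * 1)) := by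
    rw [← (hχ _ hwn).2, ← hcw]
    have hu1 := (hWC u (Subgroup.mem_sup_left hu)).eq
    have hc1 := (hWC c hcW).eq
    calc xg C θ (1 : F) = u⁻¹ * (xg C θ 1 * u) := by rw [← hu1, inv_mul_cancel_left]
      _ = u⁻¹ * (u * h * wnu C F w * c * xg C θ 1 * (u * h * wnu C F w * c)⁻¹ * u) := by rw [hgc]
      _ = h * (wnu C F w * (c * xg C θ 1 * c⁻¹) * (wnu C F w)⁻¹) * h⁻¹ := by group
      _ = _ := by rw [hc1, mul_inv_cancel_right]
  have hwθ : wperm T w θ = θ := (xg_index C hθn hwn one_ne_zero e1).symm
  obtain ⟨d, hd, x, hx, ew⟩ := hword _ w hw hwθ rfl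
  rw [ew]
  suffices hhd : h * d ∈ W by
    rw [show u * h * (d * x) * c = u * (h * d) * x * c by group]
    exact mul_mem (mul_mem (mul_mem (Subgroup.mem_sup_left hu) hhd) hx) hcW
  have hcomm : Commute (h * d) (xg C θ (1 : F)) := by
    have h' : Commute (u * h * wnu C F w * c) (xg C θ (1 : F)) := mul_inv_eq_iff_eq_mul.1 hgc
    rw [ew, show u * h * (d * x) * c = u * (h * d) * (x * c) by group] at h'
    have h2 := ((hWC u (Subgroup.mem_sup_left hu)).inv_left.mul_left h').mul_left
      (hWC _ (mul_mem hx hcW)).inv_left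
    simpa [mul_assoc] using h2
  obtain ⟨z, hz⟩ : ∃ z, torusHom D T F z = h * d :=
    MonoidHom.mem_range.1 ((torusHom_range C (F := F)).symm ▸ mul_mem hh hd)
  rw [← hz] at hcomm ⊢
  have hzd : torusHom D T F z ∈ D.diagonalSubgroup F := torusHom_range C (F := F) ▸ ⟨z, rfl⟩
  have hzc : chr T D (extend' z) θ = 1 := by
    have e := congrFun (congrFun (congrArg (fun g : GL D.Idx F => (g : Matrix D.Idx D.Idx F)) hcomm.eq)
      (Sum.inr ⟨θ, hθn⟩))
    by_contra hne
    have hnn := C.spec.neg_lt θ hθn
    refine hne (sub_eq_zero.1 (coroot_primitive C hθn fun k hk => ?_))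
    have e' := congrFun (congrFun (congrArg (fun g : GL D.Idx F => (g : Matrix D.Idx D.Idx F)) hcomm.eq)
      (Sum.inl ⟨k, hk⟩)) (Sum.inr ⟨T.neg θ, hnn⟩)
    simp only [Units.val_mul, coe_torusHom, coe_xg, scal, Matrix.mul_diagonal, Matrix.diagonal_mul,
      x_inl_inr C.spec hθn, if_true, Sum.elim_inl, Sum.elim_inr, mul_one, one_mul] at e'
    have hch : chr T D (extend' z) (T.neg θ) * chr T D (extend' z) θ = 1 := by
      simp only [chr, ← Finset.prod_mul_distrib]
      refine Finset.prod_eq_one fun j hj => ?_
      rw [Finset.mem_range] at hj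
      rw [← zpow_add₀ (extend'_ne z j), C.spec.cart_neg j hj θ hθn, neg_add_cancel, zpow_zero]
    linear_combination (chr T D (extend' z) θ) * e' + ((T.coroot θ k : ℤ) : F) * hch
  rw [torusHom_eq_prod C z List.nodup_range (fun i => List.mem_range.1) (fun i hi => List.mem_range.2 hi)]
  refine list_prod_mem fun y hy => ?_
  obtain ⟨j, hj, rfl⟩ := List.mem_map.1 hy
  have hj' := List.mem_range.1 hj
  rcases hnode j hj' with ⟨rfl, hjc⟩ | ⟨-, hlj, -⟩
  · have hzj : extend' z j = 1 := by
      rw [chr, Finset.prod_eq_single j] at hzc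
      · rwa [hjc, zpow_one] at hzc
      · intro i hi hij
        rcases hnode i (Finset.mem_range.1 hi) with h | h
        · exact absurd h.1 hij
        · rw [h.1, zpow_zero]
      · exact fun h => absurd (Finset.mem_range.2 hj') h
    rw [hzj]
    have : hg C (T.simp' j) (1 : F) = 1 := by
      refine Units.ext ?_
      rw [coe_hg_eq C (C.spec.simp_lt j hj') one_ne_zero, coDiag]
      simp only [one_zpow]
      exact scal_one
    rw [this]
    exact W.one_mem
  · have hp : ∀ c : F, xg C (T.simp' j) c ∈ W := fun c =>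
      Subgroup.mem_sup_left (xg_mem_pos C (C.spec.simp_lt j hj') (K.simple_pos hj') c)
    have hn' : ∀ c : F, ng C (T.simp' j) c ∈ W := fun c => by
      rw [ng]
      refine mul_mem (mul_mem (hp _) (Subgroup.mem_sup_right (Subgroup.subset_closure ⟨_, hlj, -c⁻¹, ?_⟩))) (hp _)
      rw [coe_xg, C.spec.shape.neg_eq _ (C.spec.simp_lt j hj')]
    exact mul_mem (hn' _) (hn' _)

end Cfsg.Lib.Chev
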