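import Cfsg.Agent.Lib.Chev.InvChk
import Cfsg.Agent.Lib.Chev.TopCentralizer

/-!
The reflection subgroup fixing a sign vector: generation of the stabiliser from a base of the fixed roots, without
a list of the whole Weyl group.
-/

set_option autoImplicit false
set_option linter.unusedSectionVars false

namespace Cfsg.Lib.Chev

open Cfsg.Lie

/-- The root of the base with index `i`. -/
def bRoot (T : Tbl) (B : List (List ℕ × ℕ)) (i : ℕ) : ℕ := refRoot T (B.getD i ([], 0))

/-- The reflection word of the base with index `i`. -/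
def bWord (B : List (List ℕ × ℕ)) (i : ℕ) : List ℕ := refWord (B.getD i ([], 0))

/-- `N` times the coefficient at the base root `i` of the coroot of `r`, given the inverse matrix. -/
noncomputable def subCoef (T : Tbl) (A : List (List ℤ)) (r i : ℕ) : ℤ :=
  sumBelow (fun k => nth 0 (nth [] A i) k * T.coroot r k) T.rank

/-- A positive root fixed by the sign vector. -/
noncomputable def isFP (D : ChevalleyDatum) (T : Tbl) (e r : ℕ) : Bool :=
  Nat.ble D.nroots (2 * r) && parity T e r

/-- Permutations of the base compatible with the pairings. -/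
noncomputable def isoExt (T : Tbl) (B : List (List ℕ × ℕ)) (cands : List (List ℕ)) (i : ℕ) : List (List ℕ) :=
  cands.flatMap fun p => ((List.range B.length).filter fun x =>
    allBelow (fun a => !Nat.beq (nth 0 p a) x &&
      (decide (corPair T (bRoot T B (nth 0 p a)) (bRoot T B x) = corPair T (bRoot T B a) (bRoot T B i)) &&
        decide (corPair T (bRoot T B x) (bRoot T B (nth 0 p a)) = corPair T (bRoot T B i) (bRoot T B a)))) i).map
    fun x => p ++ [x]

/-- All candidates. -/
noncomputable def isoCands (T : Tbl) (B : List (List ℕ × ℕ)) : List (List ℕ) :=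
  (List.range B.length).foldl (isoExt T B) [[]]

/-- The base is a base of the fixed roots and `A` inverts its coroots up to `N`. -/
noncomputable def chkSubBase (D : ChevalleyDatum) (T : Tbl) (e : ℕ) (B : List (List ℕ × ℕ)) (A : List (List ℤ))
    (N : ℕ) : Bool :=
  Nat.blt 0 N &&
  (B.all (fun p => p.1.all (fun i => Nat.blt i D.rank) && (Nat.blt p.2 D.rank && parity T e (refRoot T p))) &&
  (allBelow (fun i => Nat.ble D.nroots (2 * bRoot T B i) &&
    allBelow (fun j => decide (subCoef T A (bRoot T B j) i = bif Nat.beq i j then (N : ℤ) else 0)) B.length) B.length &&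
  allBelow (fun k => allBelow (fun l =>
    decide (sumBelow (fun i => T.coroot (bRoot T B i) k * nth 0 (nth [] A i) l) B.length =
      bif Nat.beq k l then (N : ℤ) else 0)) D.rank) D.rank))

/-- The reflections keep the fixed roots and change only one positive one to negative; heights. -/
noncomputable def chkSubRefl (D : ChevalleyDatum) (T : Tbl) (e : ℕ) (B : List (List ℕ × ℕ)) (A : List (List ℤ))
    (N : ℕ) : Bool :=
  allBelow (fun i => allBelow (fun r =>
    (parity T e (wperm T (bWord B i) r) == parity T e r) &&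
      (!isFP D T e r || (Nat.beq r (bRoot T B i) || Nat.ble D.nroots (2 * wperm T (bWord B i) r)))) D.nroots)
    B.length &&
  allBelow (fun r => !isFP D T e r ||
    (allBelow (fun i => decide (0 ≤ subCoef T A r i)) B.length &&
      (decide ((N : ℤ) < sumBelow (fun i => subCoef T A r i) B.length) || B.any fun p => Nat.beq (refRoot T p) r)))
    D.nroots

/-- Only the identity extends to the roots; fundamental coroots determine their roots. -/
noncomputable def chkSubRigid (D : ChevalleyDatum) (T : Tbl) (B : List (List ℕ × ℕ)) (A : List (List ℤ))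
    (N : ℕ) (wit : List ℕ) : Bool :=
  ((isoCands T B).all fun p => eqNats p (List.range B.length) || wit.any fun r => Nat.blt r D.nroots &&
    allBelow (fun s => !allBelow (fun k => decide ((N : ℤ) * T.coroot s k =
      sumBelow (fun i => subCoef T A r i * T.coroot (bRoot T B (nth 0 p i)) k) B.length)) D.rank) D.nroots) &&
  allBelow (fun k => allBelow (fun s =>
    !allBelow (fun j => decide (T.coroot s j = T.coroot (T.simp' k) j)) D.rank || Nat.beq s (T.simp' k)) D.nroots)
    D.rank

/-- The facts about a base of the fixed roots. -/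
structure SubOK (D : ChevalleyDatum) (T : Tbl) (e : ℕ) (B : List (List ℕ × ℕ)) (A : List (List ℤ)) (N : ℕ) : Prop where
  npos : 0 < N
  word : ∀ p ∈ B, IsWord D p.1 ∧ p.2 < D.rank ∧ parity T e (refRoot T p) = true
  base_pos : ∀ i < B.length, D.nroots ≤ 2 * bRoot T B i
  coef_base : ∀ i < B.length, ∀ j < B.length, subCoef T A (bRoot T B j) i = if i = j then (N : ℤ) else 0
  span : ∀ k < D.rank, ∀ l < D.rank,
    ∑ i ∈ Finset.range B.length, T.coroot (bRoot T B i) k * nth 0 (nth [] A i) l = if k = l then (N : ℤ) else 0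
  refl_par : ∀ i < B.length, ∀ r < D.nroots, parity T e (wperm T (bWord B i) r) = parity T e r
  refl_pos : ∀ i < B.length, ∀ r < D.nroots, D.nroots ≤ 2 * r → parity T e r = true → r ≠ bRoot T B i →
    D.nroots ≤ 2 * wperm T (bWord B i) r
  coef_nonneg : ∀ r < D.nroots, D.nroots ≤ 2 * r → parity T e r = true → ∀ i < B.length, 0 ≤ subCoef T A r i
  height : ∀ r < D.nroots, D.nroots ≤ 2 * r → parity T e r = true →
    (N : ℤ) < ∑ i ∈ Finset.range B.length, subCoef T A r i ∨ ∃ i < B.length, bRoot T B i = r
  rigid : ∀ p ∈ isoCands T B, p = List.range B.length ∨ ∃ r < D.nroots, ∀ s < D.nroots, ∃ k < D.rank,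
    (N : ℤ) * T.coroot s k ≠ ∑ i ∈ Finset.range B.length, subCoef T A r i * T.coroot (bRoot T B (nth 0 p i)) k
  simp_unique : ∀ k < D.rank, ∀ s < D.nroots, (∀ j < D.rank, T.coroot s j = T.coroot (T.simp' k) j) → s = T.simp' k

variable {D : ChevalleyDatum} {T : Tbl} {e : ℕ} {B : List (List ℕ × ℕ)} {A : List (List ℤ)} {N : ℕ}

theorem subOK_of_chk {wit : List ℕ} (h1 : chkSubBase D T e B A N = true) (h2 : chkSubRefl D T e B A N = true)
    (h3 : chkSubRigid D T B A N wit = true) : SubOK D T e B A N := by
  simp only [chkSubBase, Bool.and_eq_true, List.all_eq_true, Nat.blt_eq, Nat.ble_eq, allBelow_iff, decide_eq_true_eq,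
    sumBelow_eq] at h1
  simp only [chkSubRefl, isFP, Bool.and_eq_true, Bool.or_eq_true, Bool.not_eq_true', Nat.beq_eq, Nat.ble_eq,
    allBelow_iff, decide_eq_true_eq, sumBelow_eq, beq_iff_eq, List.any_eq_true, Bool.and_eq_false_iff] at h2
  simp only [chkSubRigid, Bool.and_eq_true, Bool.or_eq_true, List.all_eq_true, List.any_eq_true, Nat.blt_eq,
    Bool.not_eq_true', allBelow_iff, decide_eq_true_eq, sumBelow_eq, Nat.beq_eq] at h3
  obtain ⟨hN, hw, hb, hs⟩ := h1
  have hbeq : ∀ a b : ℕ, (bif Nat.beq a b then (N : ℤ) else 0) = if a = b then (N : ℤ) else 0 := fun a b => by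
    by_cases h : a = b
    · rw [if_pos h, show Nat.beq a b = true from Nat.beq_eq.mpr h, cond_true]
    · rw [if_neg h, show Nat.beq a b = false from Bool.eq_false_iff.2 fun h' => h (Nat.eq_of_beq_eq_true h'),
        cond_false]
  have hfp : ∀ r, D.nroots ≤ 2 * r → parity T e r = true →
      ¬ (Nat.ble D.nroots (2 * r) = false ∨ parity T e r = false) := fun r hr hp h => by
    rcases h with h | h
    · rw [Nat.ble_eq_true_of_le hr] at h; exact Bool.noConfusion h
    · rw [hp] at h; exact Bool.noConfusion h
  refine ⟨hN, fun p hp => ⟨(hw p hp).1, (hw p hp).2.1, (hw p hp).2.2⟩, fun i hi => (hb i hi).1,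
    fun i hi j hj => ((hb i hi).2 j hj).trans (hbeq i j), fun k hk l hl => (hs k hk l hl).trans (hbeq k l),
    fun i hi r hr => (h2.1 i hi r hr).1, fun i hi r hr hp hq hne => ?_, fun r hr hp hq i hi => ?_,
    fun r hr hp hq => ?_, fun p hp => ?_, fun k hk s hs' hj => ?_⟩
  · exact (((h2.1 i hi r hr).2).resolve_left (hfp r hp hq)).resolve_left hne
  · exact ((h2.2 r hr).resolve_left (hfp r hp hq)).1 i hi
  · rcases ((h2.2 r hr).resolve_left (hfp r hp hq)).2 with h | ⟨p, hp', e'⟩
    · exact Or.inl h
    · obtain ⟨i, hi, rfl⟩ := List.getElem_of_mem hp'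
      exact Or.inr ⟨i, hi, by rw [bRoot, List.getD_eq_getElem _ _ hi]; exact e'⟩
  · rcases h3.1 p hp with h | ⟨r, -, hr, hs'⟩
    · exact Or.inl (eqNats_iff _ _ h)
    · refine Or.inr ⟨r, hr, fun s hs'' => ?_⟩
      by_contra hall
      push Not at hall
      have h' := hs' s hs''
      have hT : allBelow (fun k => decide ((N : ℤ) * T.coroot s k =
          sumBelow (fun i => subCoef T A r i * T.coroot (bRoot T B (nth 0 p i)) k) B.length)) D.rank = true := by
        simp only [allBelow_iff, decide_eq_true_eq, sumBelow_eq]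
        exact hall
      simp only [sumBelow_eq] at hT h'
      rw [hT] at h'
      exact Bool.noConfusion h'
  · refine (h3.2 k hk s hs').resolve_left fun h => ?_
    have hT : allBelow (fun j => decide (T.coroot s j = T.coroot (T.simp' k) j)) D.rank = true := by
      simp only [allBelow_iff, decide_eq_true_eq]
      exact hj
    rw [hT] at h
    exact Bool.noConfusion h

theorem isoCands_mem {σ : ℕ → ℕ} (hlt : ∀ i < B.length, σ i < B.length)
    (hinj : ∀ i < B.length, ∀ j < B.length, σ i = σ j → i = j)
    (hpair : ∀ i < B.length, ∀ j < B.length, corPair T (bRoot T B (σ i)) (bRoot T B (σ j)) =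
      corPair T (bRoot T B i) (bRoot T B j)) :
    (List.range B.length).map σ ∈ isoCands T B := by
  have key : ∀ m ≤ B.length, (List.range m).map σ ∈ (List.range m).foldl (isoExt T B) [[]] := by
    intro m
    induction m with
    | zero => intro _; simp
    | succ m ih =>
      intro hm
      rw [List.range_succ, List.foldl_append, List.foldl_cons, List.foldl_nil, List.map_append]
      refine List.mem_flatMap.2 ⟨_, ih (by omega), List.mem_map.2 ⟨σ m, List.mem_filter.2 ⟨List.mem_range.2
        (hlt m (by omega)), ?_⟩, rfl⟩⟩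
      simp only [allBelow_iff, Bool.and_eq_true, decide_eq_true_eq, Bool.not_eq_true']
      intro a ha
      have e : nth 0 ((List.range m).map σ) a = σ a := by
        rw [nth_eq, List.getD_eq_getElem _ _ (by simpa using ha), List.getElem_map, List.getElem_range]
      rw [e]
      exact ⟨Bool.eq_false_iff.2 fun h => by
          have := hinj a (by omega) m (by omega) (Nat.eq_of_beq_eq_true h)
          omega,
        hpair a (by omega) m (by omega), hpair m (by omega) a (by omega)⟩
  exact key _ le_rfl

variable (C : Cert D T) (K : FullCert D T) (hS : SubOK D T e B A N)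
include C hS

theorem bRoot_lt {i : ℕ} (hi : i < B.length) : bRoot T B i < D.nroots := by
  rw [bRoot, List.getD_eq_getElem _ _ hi]
  obtain ⟨h1, h2, -⟩ := hS.word _ (List.getElem_mem hi)
  exact wperm_lt C h1 (C.spec.simp_lt _ h2)

theorem bRoot_par {i : ℕ} (hi : i < B.length) : parity T e (bRoot T B i) = true := by
  rw [bRoot, List.getD_eq_getElem _ _ hi]
  exact (hS.word _ (List.getElem_mem hi)).2.2

theorem bWord_isWord {i : ℕ} (hi : i < B.length) : IsWord D (bWord B i) := by
  rw [bWord, List.getD_eq_getElem _ _ hi]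
  obtain ⟨h1, h2, -⟩ := hS.word _ (List.getElem_mem hi)
  intro j hj
  simp only [refWord, List.mem_append, List.mem_singleton, List.mem_reverse] at hj
  rcases hj with (hj | rfl) | hj
  exacts [h1 j hj, h2, h1 j hj]

theorem refsWord_isWord {is : List ℕ} (his : ∀ i ∈ is, i < B.length) : IsWord D (refsWord B is) := by
  intro j hj
  obtain ⟨a, ha, hj⟩ := List.mem_flatMap.1 hj
  exact bWord_isWord C hS (his a ha) j hj

theorem refsWord_par : ∀ {is : List ℕ}, (∀ i ∈ is, i < B.length) → ∀ r < D.nroots,
    parity T e (wperm T (refsWord B is) r) = parity T e r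
  | [], _, r, _ => rfl
  | i :: is, his, r, hr => by
    have his' : ∀ j ∈ is, j < B.length := fun j hj => his j (List.mem_cons_of_mem _ hj)
    rw [show refsWord B (i :: is) = bWord B i ++ refsWord B is from List.flatMap_cons, wperm_append,
      hS.refl_par i (his i (List.mem_cons_self ..)) _ (wperm_lt C (refsWord_isWord C hS his') hr),
      refsWord_par his' r hr]

omit hS in
theorem refWord_neg {p : List ℕ × ℕ} (hp : IsWord D p.1) (hk : p.2 < D.rank) :
    wperm T (refWord p) (refRoot T p) = T.neg (refRoot T p) := by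
  have hsk := C.spec.simp_lt _ hk
  rw [refWord, refRoot, wperm_append, wperm_append, wperm_reverse C hp hsk]
  show wperm T p.1 (T.refl' p.2 (T.simp' p.2)) = _
  rw [C.spec.refl_simple _ hk, wperm_neg C hp hsk]

omit hS in
theorem refWord_invol {p : List ℕ × ℕ} (hp : IsWord D p.1) (hk : p.2 < D.rank) {r : ℕ} (hr : r < D.nroots) :
    wperm T (refWord p) (wperm T (refWord p) r) = r := by
  have hrw : refWord p = (refWord p).reverse := by simp [refWord]
  conv_lhs => arg 2; rw [hrw]
  refine wperm_reverse C ?_ hr
  intro j hj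
  simp only [refWord, List.mem_append, List.mem_singleton, List.mem_reverse] at hj
  rcases hj with (hj | rfl) | hj
  exacts [hp j hj, hk, hp j hj]

/-- The coroot of a root in terms of the base. -/
theorem coef_repr {r k : ℕ} (hk : k < D.rank) : (N : ℤ) * T.coroot r k =
    ∑ i ∈ Finset.range B.length, subCoef T A r i * T.coroot (bRoot T B i) k := by
  simp only [subCoef, sumBelow_eq, C.spec.shape.rank_eq, Finset.sum_mul]
  rw [Finset.sum_comm]
  have : ∀ l ∈ Finset.range D.rank, ∑ i ∈ Finset.range B.length,
      nth 0 (nth [] A i) l * T.coroot r l * T.coroot (bRoot T B i) k = T.coroot r l * (if k = l then (N : ℤ) else 0) := by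
    intro l hl
    rw [← hS.span k hk l (Finset.mem_range.1 hl), Finset.mul_sum]
    exact Finset.sum_congr rfl fun i _ => by ring
  rw [Finset.sum_congr rfl this, Finset.sum_eq_single k (fun l _ hl => by rw [if_neg (Ne.symm hl), mul_zero])
    (fun h => absurd (Finset.mem_range.2 hk) h), if_pos rfl, mul_comm]

/-- Words act linearly on the coroots in terms of the base. -/
theorem cor_image {w : List ℕ} (hw : IsWord D w) {r : ℕ} (hr : r < D.nroots) {k : ℕ} (hk : k < D.rank) :
    (N : ℤ) * T.coroot (wperm T w r) k =
      ∑ i ∈ Finset.range B.length, subCoef T A r i * T.coroot (wperm T w (bRoot T B i)) k := by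
  rw [coroot_wperm C hw hr k hk, Finset.mul_sum]
  calc ∑ j ∈ Finset.range D.rank, (N : ℤ) * (T.coroot r j * T.coroot (wperm T w (T.simp' j)) k)
      = ∑ j ∈ Finset.range D.rank, ∑ i ∈ Finset.range B.length,
          subCoef T A r i * T.coroot (bRoot T B i) j * T.coroot (wperm T w (T.simp' j)) k := by
        refine Finset.sum_congr rfl fun j hj => ?_
        rw [← Finset.sum_mul, ← coef_repr C hS (Finset.mem_range.1 hj), mul_assoc]
    _ = _ := by
        rw [Finset.sum_comm]
        refine Finset.sum_congr rfl fun i hi => ?_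
        rw [coroot_wperm C hw (bRoot_lt C hS (Finset.mem_range.1 hi)) k hk, Finset.mul_sum]
        exact Finset.sum_congr rfl fun j _ => by ring

/-- Words act linearly on the coefficients. -/
theorem coef_image {w : List ℕ} (hw : IsWord D w) {r : ℕ} (hr : r < D.nroots) (i' : ℕ) :
    (N : ℤ) * subCoef T A (wperm T w r) i' =
      ∑ i ∈ Finset.range B.length, subCoef T A r i * subCoef T A (wperm T w (bRoot T B i)) i' := by
  have e : ∀ x, subCoef T A x i' = ∑ l ∈ Finset.range D.rank, nth 0 (nth [] A i') l * T.coroot x l := fun x => by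
    simp only [subCoef, sumBelow_eq, C.spec.shape.rank_eq]
  simp only [e, Finset.mul_sum]
  rw [Finset.sum_comm]
  refine Finset.sum_congr rfl fun l hl => ?_
  have := cor_image C hS hw hr (Finset.mem_range.1 hl)
  rw [show (N : ℤ) * (nth 0 (nth [] A i') l * T.coroot (wperm T w r) l) =
    nth 0 (nth [] A i') l * ((N : ℤ) * T.coroot (wperm T w r) l) by ring, this, Finset.mul_sum]
  refine Finset.sum_congr rfl fun i _ => ?_
  ring

/-- A fixed positive root stays positive if the base roots in its support do. -/
theorem pos_image {w : List ℕ} (hw : IsWord D w) {r : ℕ} (hr : r < D.nroots) (hp : D.nroots ≤ 2 * r)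
    (hq : parity T e r = true)
    (hb : ∀ i < B.length, subCoef T A r i ≠ 0 → D.nroots ≤ 2 * wperm T w (bRoot T B i)) :
    D.nroots ≤ 2 * wperm T w r := by
  refine pos_of_forall C (wperm_lt C hw hr) fun k hk => ?_
  have h := cor_image C hS hw hr hk
  have h0 : 0 ≤ (N : ℤ) * T.coroot (wperm T w r) k := by
    rw [h]
    refine Finset.sum_nonneg fun i hi => ?_
    rw [Finset.mem_range] at hi
    by_cases hz : subCoef T A r i = 0
    · rw [hz, zero_mul]
    · exact mul_nonneg (hS.coef_nonneg r hr hp hq i hi)
        (coroot_nonneg C (wperm_lt C hw (bRoot_lt C hS hi)) (hb i hi hz) hk)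
  have hN : (0 : ℤ) < N := by exact_mod_cast hS.npos
  exact nonneg_of_mul_nonneg_right h0 hN

include K

/-- A word fixing the sign vector and keeping the base positive is trivial. -/
theorem preserve_id {w : List ℕ} (hw : IsWord D w)
    (hst : ∀ r < D.nroots, parity T e (wperm T w r) = parity T e r)
    (hb : ∀ i < B.length, D.nroots ≤ 2 * wperm T w (bRoot T B i)) : SamePerm D T w [] := by
  classical
  let S := (Finset.range D.nroots).filter fun r => D.nroots ≤ 2 * r ∧ parity T e r = true
  have hmaps : ∀ r ∈ S, wperm T w r ∈ S := fun r hr => by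
    simp only [S, Finset.mem_filter, Finset.mem_range] at hr ⊢
    exact ⟨wperm_lt C hw hr.1, pos_image C hS hw hr.1 hr.2.1 hr.2.2 fun i hi _ => hb i hi, by
      rw [hst r hr.1]; exact hr.2.2⟩
  have hsurj : ∀ x ∈ S, ∃ r ∈ S, wperm T w r = x := by
    intro x hx
    have himg : S.image (wperm T w) = S := Finset.eq_of_subset_of_card_le
      (fun y hy => by obtain ⟨r, hr, rfl⟩ := Finset.mem_image.1 hy; exact hmaps r hr)
      (le_of_eq (Finset.card_image_of_injOn fun a ha b hb' h => wperm_inj C hw
        (Finset.mem_range.1 (Finset.mem_filter.1 ha).1) (Finset.mem_range.1 (Finset.mem_filter.1 hb').1) h).symm)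
    rw [← himg] at hx
    exact Finset.mem_image.1 hx
  have hN : (0 : ℤ) < N := by exact_mod_cast hS.npos
  have hbS : ∀ i < B.length, bRoot T B i ∈ S := fun i hi => by
    simp only [S, Finset.mem_filter, Finset.mem_range]
    exact ⟨bRoot_lt C hS hi, hS.base_pos i hi, bRoot_par C hS hi⟩
  have hht : ∀ r ∈ S, (N : ℤ) ≤ ∑ i ∈ Finset.range B.length, subCoef T A r i := fun r hr => by
    simp only [S, Finset.mem_filter, Finset.mem_range] at hr
    rcases hS.height r hr.1 hr.2.1 hr.2.2 with h | ⟨j, hj, rfl⟩
    · exact h.le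
    · rw [Finset.sum_congr rfl fun i hi => hS.coef_base i (Finset.mem_range.1 hi) j hj,
        Finset.sum_ite_eq' (Finset.range B.length) j, if_pos (Finset.mem_range.2 hj)]
  have hσ : ∀ j < B.length, ∃ i < B.length, wperm T w (bRoot T B i) = bRoot T B j := by
    intro j hj
    obtain ⟨r, hr, hrx⟩ := hsurj _ (hbS j hj)
    have hr' := hr
    simp only [S, Finset.mem_filter, Finset.mem_range] at hr'
    rcases hS.height r hr'.1 hr'.2.1 hr'.2.2 with h | ⟨i, hi, rfl⟩
    · exfalso
      have e1 : (N : ℤ) * ∑ l ∈ Finset.range B.length, subCoef T A (bRoot T B j) l =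
          ∑ i ∈ Finset.range B.length, subCoef T A r i *
            ∑ l ∈ Finset.range B.length, subCoef T A (wperm T w (bRoot T B i)) l := by
        rw [← hrx, Finset.mul_sum, Finset.sum_congr rfl fun l _ => coef_image C hS hw hr'.1 l, Finset.sum_comm]
        exact Finset.sum_congr rfl fun i _ => (Finset.mul_sum _ _ _).symm
      rw [Finset.sum_congr rfl fun i hi => hS.coef_base i (Finset.mem_range.1 hi) j hj,
        Finset.sum_ite_eq' (Finset.range B.length) j, if_pos (Finset.mem_range.2 hj)] at e1
      have e2 : ∑ i ∈ Finset.range B.length, subCoef T A r i * (N : ℤ) ≤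
          ∑ i ∈ Finset.range B.length, subCoef T A r i *
            ∑ l ∈ Finset.range B.length, subCoef T A (wperm T w (bRoot T B i)) l :=
        Finset.sum_le_sum fun i hi => mul_le_mul_of_nonneg_left (hht _ (hmaps _ (hbS i (Finset.mem_range.1 hi))))
          (hS.coef_nonneg r hr'.1 hr'.2.1 hr'.2.2 i (Finset.mem_range.1 hi))
      rw [← Finset.sum_mul, ← e1] at e2
      have : (∑ i ∈ Finset.range B.length, subCoef T A r i) ≤ N := le_of_mul_le_mul_right e2 hN
      omega
    · exact ⟨i, hi, hrx⟩
  choose! τ hτ using hσ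
  have hbinj : ∀ i < B.length, ∀ j < B.length, bRoot T B i = bRoot T B j → i = j := fun i hi j hj h => by
    by_contra hne
    have h1 := hS.coef_base i hi j hj
    rw [← h, hS.coef_base i hi i hi, if_pos rfl, if_neg hne] at h1
    omega
  have hτinj : Set.InjOn τ (Finset.range B.length : Set ℕ) := fun a ha b hb' h => by
    simp only [Finset.coe_range, Set.mem_Iio] at ha hb'
    exact hbinj a ha b hb' ((hτ a ha).2.symm.trans ((congrArg (fun i => wperm T w (bRoot T B i)) h).trans (hτ b hb').2))
  have hτimg : (Finset.range B.length).image τ = Finset.range B.length := Finset.eq_of_subset_of_card_le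
    (fun y hy => by
      obtain ⟨j, hj, rfl⟩ := Finset.mem_image.1 hy
      exact Finset.mem_range.2 (hτ j (Finset.mem_range.1 hj)).1)
    (le_of_eq (Finset.card_image_of_injOn hτinj).symm)
  have hσ' : ∀ i < B.length, ∃ j < B.length, wperm T w (bRoot T B i) = bRoot T B j := fun i hi => by
    have := hτimg.symm ▸ Finset.mem_range.2 hi
    obtain ⟨j, hj, rfl⟩ := Finset.mem_image.1 this
    exact ⟨j, Finset.mem_range.1 hj, (hτ j (Finset.mem_range.1 hj)).2⟩
  choose! σ hσ2 using hσ'
  have hmem := isoCands_mem (T := T) (B := B) (σ := σ) (fun i hi => (hσ2 i hi).1)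
    (fun i hi j hj h => hbinj i hi j hj (wperm_inj C hw (bRoot_lt C hS hi) (bRoot_lt C hS hj)
      (by rw [(hσ2 i hi).2, (hσ2 j hj).2, h])))
    (fun i hi j hj => by
      rw [← (hσ2 i hi).2, ← (hσ2 j hj).2, corPair_wperm C hw (bRoot_lt C hS hi) (bRoot_lt C hS hj)])
  have himage : ∀ {r : ℕ}, r < D.nroots → ∀ {k : ℕ}, k < D.rank → (N : ℤ) * T.coroot (wperm T w r) k =
      ∑ i ∈ Finset.range B.length,
        subCoef T A r i * T.coroot (bRoot T B (nth 0 ((List.range B.length).map σ) i)) k := by
    intro r hr k hk
    rw [cor_image C hS hw hr hk]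
    refine Finset.sum_congr rfl fun i hi => ?_
    rw [Finset.mem_range] at hi
    rw [(hσ2 i hi).2, nth_eq, List.getD_eq_getElem _ _ (by simpa using hi), List.getElem_map, List.getElem_range]
  rcases hS.rigid _ hmem with hid | ⟨r, hr, hno⟩
  swap
  · obtain ⟨k, hk, hne⟩ := hno _ (wperm_lt C hw hr)
    exact absurd (himage hr hk) hne
  refine samePerm_of_simple C K hw (fun i hi => absurd hi List.not_mem_nil) fun k hk => ?_
  refine hS.simp_unique k hk _ (wperm_lt C hw (C.spec.simp_lt k hk)) fun j hj => ?_
  have h := himage (C.spec.simp_lt k hk) hj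
  rw [hid, Finset.sum_congr rfl (fun i hi => by
    rw [nth_eq, List.getD_eq_getElem _ _ (by simpa using hi), List.getElem_range] :
    ∀ i ∈ Finset.range B.length, subCoef T A (T.simp' k) i * T.coroot (bRoot T B (nth 0 (List.range B.length) i)) j =
      subCoef T A (T.simp' k) i * T.coroot (bRoot T B i) j), ← coef_repr C hS hj] at h
  exact mul_left_cancel₀ hN.ne' h

/-- The stabiliser is generated by the reflections of the base. -/
theorem exists_refs {w : List ℕ} (hw : IsWord D w)
    (hst : ∀ r < D.nroots, parity T e (wperm T w r) = parity T e r) :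
    ∃ is : List ℕ, (∀ i ∈ is, i < B.length) ∧ is.length ≤ D.nroots ∧ SamePerm D T (refsWord B is) w := by
  classical
  let cnt : List ℕ → ℕ := fun w => ((Finset.range D.nroots).filter fun r =>
    D.nroots ≤ 2 * r ∧ parity T e r = true ∧ 2 * wperm T w r < D.nroots).card
  suffices h : ∀ (n : ℕ) (w : List ℕ), IsWord D w →
      (∀ r < D.nroots, parity T e (wperm T w r) = parity T e r) → cnt w = n →
      ∃ is : List ℕ, (∀ i ∈ is, i < B.length) ∧ is.length ≤ n ∧ SamePerm D T (refsWord B is) w by
    obtain ⟨is, h1, h2, h3⟩ := h _ w hw hst rfl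
    exact ⟨is, h1, h2.trans ((Finset.card_filter_le _ _).trans (Finset.card_range _).le), h3⟩
  intro n
  induction n using Nat.strong_induction_on with
  | _ n ih =>
    intro w hw hst hn
    by_cases hb : ∀ i < B.length, D.nroots ≤ 2 * wperm T w (bRoot T B i)
    · exact ⟨[], fun i hi => absurd hi List.not_mem_nil, Nat.zero_le _, (preserve_id C K hS hw hst hb).symm⟩
    push Not at hb
    obtain ⟨i, hi, hneg⟩ := hb
    obtain ⟨hp1, hp2, -⟩ := hS.word _ (List.getElem_mem hi)
    have hbw := bWord_isWord C hS hi
    have hroot : bRoot T B i = refRoot T B[i] := by rw [bRoot, List.getD_eq_getElem _ _ hi]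
    have hwd : bWord B i = refWord B[i] := by rw [bWord, List.getD_eq_getElem _ _ hi]
    set w' := w ++ bWord B i with hw'
    have hw'w : IsWord D w' := hw.append hbw
    have hst' : ∀ r < D.nroots, parity T e (wperm T w' r) = parity T e r := fun r hr => by
      rw [hw', wperm_append, hst _ (wperm_lt C hbw hr), hS.refl_par i hi r hr]
    have hlt : cnt w' < n := by
      subst hn
      refine lt_of_le_of_lt ((le_of_eq (Finset.card_image_of_injOn (f := wperm T (bWord B i)) ?_).symm).trans
        (Finset.card_le_card (t := ((Finset.range D.nroots).filter fun r => D.nroots ≤ 2 * r ∧ parity T e r = true ∧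
          2 * wperm T w r < D.nroots).erase (bRoot T B i)) ?_)) (Finset.card_lt_card (Finset.erase_ssubset ?_))
      · exact fun a ha b hb' h => wperm_inj C hbw (Finset.mem_range.1 (Finset.mem_filter.1 ha).1)
          (Finset.mem_range.1 (Finset.mem_filter.1 hb').1) h
      · intro x hx
        obtain ⟨r, hr, rfl⟩ := Finset.mem_image.1 hx
        simp only [Finset.mem_filter, Finset.mem_range] at hr
        obtain ⟨hrn, hrp, hrq, hrw⟩ := hr
        rw [hw', wperm_append] at hrw
        have hne : r ≠ bRoot T B i := by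
          rintro rfl
          rw [hwd, hroot, refWord_neg C hp1 hp2, ← hroot, wperm_neg C hw (bRoot_lt C hS hi),
            C.neg_eq (wperm_lt C hw (bRoot_lt C hS hi))] at hrw
          have := wperm_lt C hw (bRoot_lt C hS hi)
          have := nroots_even C
          omega
        refine Finset.mem_erase.2 ⟨fun h => ?_, Finset.mem_filter.2 ⟨Finset.mem_range.2 (wperm_lt C hbw hrn),
          hS.refl_pos i hi r hrn hrp hrq hne, by rw [hS.refl_par i hi r hrn]; exact hrq, hrw⟩⟩
        have h' := congrArg (wperm T (bWord B i)) h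
        rw [hwd, refWord_invol C hp1 hp2 hrn, hroot, refWord_neg C hp1 hp2] at h'
        rw [h', ← hroot, C.neg_eq (bRoot_lt C hS hi)] at hrp
        have := hS.base_pos i hi
        have := bRoot_lt C hS hi
        omega
      · simp only [Finset.mem_filter, Finset.mem_range]
        exact ⟨bRoot_lt C hS hi, hS.base_pos i hi, bRoot_par C hS hi, hneg⟩
    obtain ⟨is, h1, h2, h3⟩ := ih _ hlt w' hw'w hst' rfl
    refine ⟨is ++ [i], ?_, ?_, fun s hs => ?_⟩
    · intro j hj
      rcases List.mem_append.1 hj with h | h
      · exact h1 j h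
      · rw [List.mem_singleton] at h; omega
    · rw [List.length_append, List.length_singleton]; omega
    · rw [show refsWord B (is ++ [i]) = refsWord B is ++ bWord B i by simp [refsWord, bWord], wperm_append,
        h3 _ (wperm_lt C hbw hs), hw', wperm_append, hwd, refWord_invol C hp1 hp2 hs]

theorem centConn_of_sub : CentConn D T e B D.nroots := by
  refine ⟨hS.word, fun w hw hst => ?_, N, hS.npos.ne',
    Matrix.of fun i k => nth 0 (nth [] A (i : ℕ)) (k : ℕ), ?_⟩
  · obtain ⟨is, h1, h2, h3⟩ := exists_refs C K hS hw hst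
    refine ⟨is.attach.map fun a => ⟨a.1, h1 a.1 a.2⟩, by simpa using h2, ?_⟩
    have e1 : ((is.attach.map fun a => (⟨a.1, h1 a.1 a.2⟩ : Fin B.length)).flatMap fun i =>
        refWord (B.get i)) = refsWord B is := by
      rw [refsWord, List.flatMap_map]
      conv_rhs => rw [← List.attach_map_subtype_val is, List.flatMap_map]
      refine congrArg (fun f => List.flatMap f is.attach) (funext fun a => ?_)
      show refWord (B[a.1]'(h1 a.1 a.2)) = _
      rw [List.getD_eq_getElem _ _ (h1 a.1 a.2)]
    exact e1 ▸ h3
  · ext k l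
    rw [Matrix.mul_apply, Matrix.diagonal_apply]
    have e : ∀ i : Fin B.length, T.coroot (refRoot T (B.get i)) k * nth 0 (nth [] A (i : ℕ)) (l : ℕ) =
        T.coroot (bRoot T B i) k * nth 0 (nth [] A (i : ℕ)) (l : ℕ) := fun i => by
      rw [bRoot, List.getD_eq_getElem _ _ i.2, List.get_eq_getElem]
    simp only [Matrix.of_apply, e]
    rw [Fin.sum_univ_eq_sum_range (fun i => T.coroot (bRoot T B i) k * nth 0 (nth [] A i) (l : ℕ)),
      hS.span k k.2 l l.2]
    simp [Fin.ext_iff]

end Cfsg.Lib.Chev
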