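import Cfsg.Agent.Lib.Chev.InvSub

/-!
The length generating function of the stabiliser of a sign vector, from a checked chain of transversals, and the
order of the centraliser.
-/

set_option autoImplicit false
set_option linter.unusedSectionVars false

namespace Cfsg.Lib.Chev

open Cfsg.Lie

/-- The points whose images are recorded: fundamental roots, then fixed positive roots. -/
noncomputable def subPts (D : ChevalleyDatum) (T : Tbl) (e : ℕ) : List ℕ :=
  (List.range D.rank).map T.simp' ++ fixPos D T e

/-- The check of one representative of a transversal. -/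
noncomputable def chkSubRep (D : ChevalleyDatum) (T : Tbl) (e : ℕ) (B : List (List ℕ × ℕ)) (Lv : WLevel)
    (m a : ℕ) : Bool :=
  let R := getRep Lv a
  let P := getRep Lv R.1
  (bif Nat.beq a 0 then eqNats R.2.1 [] && eqNats R.2.2 (subPts D T e)
    else List.rec (motive := fun _ => Bool) false (fun i w _ => Nat.ble i m && (Nat.blt R.1 a && (eqNats w P.2.1 &&
      eqNats R.2.2 (P.2.2.map fun x => wperm T (bWord B i) x)))) R.2.1) &&
  allBelow (fun q => !((List.range m).any fun k => Nat.beq (bRoot T B k) (nth 0 (fixPos D T e) q)) ||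
    Nat.ble D.nroots (2 * nth 0 R.2.2 (D.rank + q))) (fixPos D T e).length

/-- The check of the table of left multiplication. -/
noncomputable def chkSubNext (D : ChevalleyDatum) (T : Tbl) (e : ℕ) (B : List (List ℕ × ℕ)) (Lv : WLevel)
    (m a : ℕ) : Bool :=
  let R := getRep Lv a
  let row := nth [] Lv.2 a
  allBelow (fun j =>
    let c := nth 0 row j
    bif Nat.blt c Lv.1.length then
      allBelow (fun k => Nat.beq (wperm T (bWord B j) (nth 0 R.2.2 k)) (nth 0 (getRep Lv c).2.2 k)) D.rank
    else Nat.blt (c - Lv.1.length) m && (List.range (fixPos D T e).length).any fun q =>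
      Nat.beq (nth 0 (fixPos D T e) q) (bRoot T B (c - Lv.1.length)) &&
        Nat.beq (nth 0 R.2.2 (D.rank + q)) (bRoot T B j)) (m + 1)

/-- Distinct representatives move the fundamental roots differently. -/
noncomputable def chkSubDistinct (D : ChevalleyDatum) (Lv : WLevel) : Bool :=
  allBelow (fun a => allBelow (fun b =>
    !allBelow (fun k => Nat.beq (nth 0 (getRep Lv a).2.2 k) (nth 0 (getRep Lv b).2.2 k)) D.rank) a) Lv.1.length

/-- The check of a level. -/
noncomputable def chkSubLevel (D : ChevalleyDatum) (T : Tbl) (e : ℕ) (B : List (List ℕ × ℕ)) (Lv : WLevel)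
    (m : ℕ) : Bool :=
  (Nat.blt 0 Lv.1.length && chkSubDistinct D Lv) &&
    allBelow (fun a => chkSubRep D T e B Lv m a && chkSubNext D T e B Lv m a) Lv.1.length

/-- A reflection changes one coefficient. -/
noncomputable def chkSubSpan (D : ChevalleyDatum) (T : Tbl) (e : ℕ) (B : List (List ℕ × ℕ)) (A : List (List ℤ)) :
    Bool :=
  allBelow (fun j => allBelow (fun r => !parity T e r || allBelow (fun i => Nat.beq i j ||
    decide (subCoef T A (wperm T (bWord B j) r) i = subCoef T A r i)) B.length) D.nroots) B.length

/-- The products of representatives. -/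
def subW (Ls : ℕ → WLevel) : ℕ → List (List ℕ)
  | 0 => [[]]
  | m + 1 => ((Ls m).1.map fun R => R.2.1).flatMap fun d => (subW Ls m).map (d ++ ·)

/-- The exponents of a level. -/
noncomputable def subExps (D : ChevalleyDatum) (Lv : WLevel) : List ℕ :=
  Lv.1.map fun R => ((R.2.2.drop D.rank).filter fun x => decide (2 * x < D.nroots)).length

variable {D : ChevalleyDatum} {T : Tbl} {e : ℕ} {B : List (List ℕ × ℕ)} {A : List (List ℤ)} {N : ℕ}

/-- The fixed positive roots made negative. -/
noncomputable def negF (D : ChevalleyDatum) (T : Tbl) (e : ℕ) (w : List ℕ) : Finset ℕ :=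
  (Finset.range D.nroots).filter fun r => D.nroots ≤ 2 * r ∧ parity T e r = true ∧ 2 * wperm T w r < D.nroots

theorem mem_negF {w : List ℕ} {r : ℕ} : r ∈ negF D T e w ↔
    r < D.nroots ∧ D.nroots ≤ 2 * r ∧ parity T e r = true ∧ 2 * wperm T w r < D.nroots := by simp [negF]

theorem refsWord_append (x y : List ℕ) : refsWord B (x ++ y) = refsWord B x ++ refsWord B y := by
  simp [refsWord]

theorem refsWord_reverse : ∀ x : List ℕ, (refsWord B x).reverse = refsWord B x.reverse
  | [] => rfl
  | i :: x => by
    rw [show refsWord B (i :: x) = bWord B i ++ refsWord B x from List.flatMap_cons, List.reverse_append,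
      refsWord_reverse x, List.reverse_cons, refsWord_append]
    simp [refsWord, refWord, bWord]

variable (C : Cert D T) (K : FullCert D T) (hS : SubOK D T e B A N)
include C hS

theorem mem_fixPos {r : ℕ} :
    r ∈ fixPos D T e ↔ r < D.nroots ∧ D.nroots ≤ 2 * r ∧ parity T e r = true := by
  have := nroots_even C
  simp only [fixPos, List.mem_filter, List.mem_range'_1]
  constructor
  · rintro ⟨⟨h1, h2⟩, h3⟩; exact ⟨by omega, by omega, h3⟩
  · rintro ⟨h1, h2, h3⟩; exact ⟨⟨by omega, by omega⟩, h3⟩

theorem negF_card (w : List ℕ) :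
    (negF D T e w).card = ((fixPos D T e).filter fun r => decide (2 * wperm T w r < D.nroots)).length := by
  classical
  have hnd : ((fixPos D T e).filter fun r => decide (2 * wperm T w r < D.nroots)).Nodup :=
    ((List.nodup_range' (step := 1) (by simp)).filter _).filter _
  rw [← List.toFinset_card_of_nodup hnd]
  congr 1
  ext r
  rw [mem_negF, List.mem_toFinset, List.mem_filter, decide_eq_true_eq]
  constructor
  · rintro ⟨h1, h2, h3, h4⟩; exact ⟨(mem_fixPos C hS).2 ⟨h1, h2, h3⟩, h4⟩
  · rintro ⟨h1, h2⟩
    obtain ⟨a, b, c⟩ := (mem_fixPos C hS).1 h1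
    exact ⟨a, b, c, h2⟩

theorem parity_neg {r : ℕ} (hr : r < D.nroots) : parity T e (T.neg r) = parity T e r := by
  have key : sumBelow (fun j => bif Nat.testBit e j then T.cartan j (T.neg r) else 0) T.rank =
      -sumBelow (fun j => bif Nat.testBit e j then T.cartan j r else 0) T.rank := by
    simp only [sumBelow_eq, C.spec.shape.rank_eq, ← Finset.sum_neg_distrib]
    refine Finset.sum_congr rfl fun j hj => ?_
    cases Nat.testBit e j
    · simp
    · simp [C.spec.cart_neg j (Finset.mem_range.1 hj) r hr]
  rw [parity, parity, key]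
  exact decide_eq_decide.2 (by omega)

theorem coef_neg {r : ℕ} (hr : r < D.nroots) (i : ℕ) : subCoef T A (T.neg r) i = -subCoef T A r i := by
  simp only [subCoef, sumBelow_eq, C.spec.shape.rank_eq, ← Finset.sum_neg_distrib]
  refine Finset.sum_congr rfl fun l hl => ?_
  rw [C.spec.cor_neg r hr l (Finset.mem_range.1 hl)]
  ring

/-- A fixed root with a positive coefficient is positive. -/
theorem pos_of_coef {r : ℕ} (hr : r < D.nroots) (hq : parity T e r = true) {i : ℕ} (hi : i < B.length)
    (h : 0 < subCoef T A r i) : D.nroots ≤ 2 * r := by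
  by_contra hn
  have hn' := C.neg_eq hr
  have := hS.coef_nonneg (T.neg r) (C.spec.neg_lt r hr) (by have := nroots_even C; omega)
    (by rw [parity_neg C hS hr]; exact hq) i hi
  rw [coef_neg C hS hr] at this
  omega

/-- Facts about a chain of transversals. -/
structure SubLevelsOK (D : ChevalleyDatum) (T : Tbl) (e : ℕ) (B : List (List ℕ × ℕ)) (Ls : ℕ → WLevel) : Prop where
  nonempty : ∀ m < B.length, 0 < (Ls m).1.length
  rep_le : ∀ m < B.length, ∀ a < (Ls m).1.length, ∀ i ∈ (getRep (Ls m) a).2.1, i ≤ m
  rep_imgs : ∀ m < B.length, ∀ a < (Ls m).1.length,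
    (getRep (Ls m) a).2.2 = (subPts D T e).map fun x => wperm T (refsWord B (getRep (Ls m) a).2.1) x
  rep_zero : ∀ m < B.length, (getRep (Ls m) 0).2.1 = []
  rep_pos : ∀ m < B.length, ∀ a < (Ls m).1.length, ∀ k < m,
    D.nroots ≤ 2 * wperm T (refsWord B (getRep (Ls m) a).2.1) (bRoot T B k)
  next : ∀ m < B.length, ∀ a < (Ls m).1.length, ∀ j ≤ m,
    (∃ c < (Ls m).1.length, SamePerm D T (refsWord B (j :: (getRep (Ls m) a).2.1)) (refsWord B (getRep (Ls m) c).2.1)) ∨
    ∃ k < m, SamePerm D T (refsWord B (j :: (getRep (Ls m) a).2.1)) (refsWord B ((getRep (Ls m) a).2.1 ++ [k]))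
  distinct : ∀ m < B.length, ∀ a < (Ls m).1.length, ∀ b < a,
    ∃ k < D.rank, wperm T (refsWord B (getRep (Ls m) a).2.1) (T.simp' k) ≠
      wperm T (refsWord B (getRep (Ls m) b).2.1) (T.simp' k)
  span : ∀ j < B.length, ∀ r < D.nroots, parity T e r = true → ∀ i < B.length, i ≠ j →
    subCoef T A (wperm T (bWord B j) r) i = subCoef T A r i

include K

/-- Two reflection words of the same root act in the same way. -/
theorem samePerm_refl {p p' : List ℕ × ℕ} (hp : IsWord D p.1) (hk : p.2 < D.rank) (hp' : IsWord D p'.1)
    (hk' : p'.2 < D.rank) (h : refRoot T p = refRoot T p') : SamePerm D T (refWord p) (refWord p') := by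
  set d := p.1.reverse ++ p'.1 with hd
  have hdw : IsWord D d := hp.reverse.append hp'
  have hsk' := C.spec.simp_lt _ hk'
  have hsk := C.spec.simp_lt _ hk
  have e1 : wperm T d (T.simp' p'.2) = T.simp' p.2 := by
    rw [hd, wperm_append, show wperm T p'.1 (T.simp' p'.2) = wperm T p.1 (T.simp' p.2) from h.symm,
      wperm_reverse C hp hsk]
  have h1 := samePerm_conj C K hdw hk' hk e1
  intro s hs
  have hp'r := wperm_lt C hp'.reverse hs
  have hback : ∀ x < D.nroots, wperm T p'.1 (wperm T p'.1.reverse x) = x := fun x hx => by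
    have := wperm_reverse C hp'.reverse hx
    rwa [List.reverse_reverse] at this
  have hpb : ∀ x < D.nroots, wperm T p.1 (wperm T p.1.reverse x) = x := fun x hx => by
    have := wperm_reverse C hp.reverse hx
    rwa [List.reverse_reverse] at this
  have h2 := h1 _ hp'r
  have e2 : wperm T (p.2 :: d) (wperm T p'.1.reverse s) = T.refl' p.2 (wperm T p.1.reverse s) := by
    show T.refl' p.2 (wperm T d (wperm T p'.1.reverse s)) = _
    rw [hd, wperm_append, hback s hs]
  have e3 : wperm T (d ++ [p'.2]) (wperm T p'.1.reverse s) =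
      wperm T p.1.reverse (wperm T p'.1 (T.refl' p'.2 (wperm T p'.1.reverse s))) := by
    rw [hd, wperm_append, wperm_append]; rfl
  rw [e2, e3] at h2
  calc wperm T (refWord p) s = wperm T p.1 (T.refl' p.2 (wperm T p.1.reverse s)) := by
        rw [refWord, wperm_append, wperm_append]; rfl
    _ = wperm T p'.1 (T.refl' p'.2 (wperm T p'.1.reverse s)) := by
        rw [h2, hpb _ (wperm_lt C hp' (C.spec.refl_lt _ hk' _ hp'r))]
    _ = _ := by rw [refWord, wperm_append, wperm_append]; rfl

variable {Ls : ℕ → WLevel}

theorem subLevelsOK_of_chk (h : ∀ m < B.length, chkSubLevel D T e B (Ls m) m = true)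
    (hspan : chkSubSpan D T e B A = true) : SubLevelsOK (A := A) D T e B Ls := by
  simp only [chkSubSpan, allBelow_iff, Bool.or_eq_true, Bool.not_eq_true', Nat.beq_eq, decide_eq_true_eq] at hspan
  have hlev : ∀ m < B.length, (0 < (Ls m).1.length ∧ chkSubDistinct D (Ls m) = true) ∧
      ∀ a < (Ls m).1.length, chkSubRep D T e B (Ls m) m a = true ∧ chkSubNext D T e B (Ls m) m a = true :=
    fun m hm => by
      have := h m hm
      simpa only [chkSubLevel, Bool.and_eq_true, Nat.blt_eq, allBelow_iff] using this
  have hpts : ∀ x ∈ subPts D T e, x < D.nroots := fun x hx => by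
    rcases List.mem_append.1 hx with hx | hx
    · obtain ⟨k, hk, rfl⟩ := List.mem_map.1 hx
      exact C.spec.simp_lt k (List.mem_range.1 hk)
    · exact ((mem_fixPos C hS).1 hx).1
  have hrep : ∀ m < B.length, ∀ a, a < (Ls m).1.length →
      (∀ i ∈ (getRep (Ls m) a).2.1, i ≤ m) ∧
      (getRep (Ls m) a).2.2 = (subPts D T e).map (fun x => wperm T (refsWord B (getRep (Ls m) a).2.1) x) := by
    intro m hm a
    induction a using Nat.strong_induction_on with
    | _ a ih =>
      intro ha
      have h1 := ((hlev m hm).2 a ha).1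
      simp only [chkSubRep, Bool.and_eq_true] at h1
      obtain ⟨h1, -⟩ := h1
      by_cases ha0 : a = 0
      · subst ha0
        simp only [show Nat.beq 0 0 = true from rfl, cond_true, Bool.and_eq_true] at h1
        rw [eqNats_iff _ _ h1.1, eqNats_iff _ _ h1.2]
        exact ⟨fun i hi => absurd hi List.not_mem_nil, by simp [refsWord, wperm]⟩
      · rw [show Nat.beq a 0 = false from Bool.eq_false_iff.2 fun h' => ha0 (Nat.eq_of_beq_eq_true h'),
          cond_false] at h1
        rcases hR : (getRep (Ls m) a).2.1 with _ | ⟨i, w⟩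
        · rw [hR] at h1; exact absurd h1 Bool.false_ne_true
        rw [hR] at h1
        change (Nat.ble i m && (Nat.blt (getRep (Ls m) a).1 a && (eqNats w (getRep (Ls m) (getRep (Ls m) a).1).2.1 &&
          eqNats (getRep (Ls m) a).2.2 ((getRep (Ls m) (getRep (Ls m) a).1).2.2.map
            fun x => wperm T (bWord B i) x)))) = true at h1
        simp only [Bool.and_eq_true, Nat.ble_eq, Nat.blt_eq] at h1
        obtain ⟨him, hpa, hw, himg⟩ := h1
        obtain ⟨ih1, ih2⟩ := ih _ hpa (by omega)
        have hw' := eqNats_iff _ _ hw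
        refine ⟨fun j hj => ?_, ?_⟩
        · rcases List.mem_cons.1 hj with rfl | hj
          · exact him
          · exact ih1 j (hw' ▸ hj)
        · rw [eqNats_iff _ _ himg, ih2, List.map_map, hw']
          refine List.map_congr_left fun x _ => ?_
          rw [show refsWord B (i :: (getRep (Ls m) (getRep (Ls m) a).1).2.1) =
            bWord B i ++ refsWord B (getRep (Ls m) (getRep (Ls m) a).1).2.1 from List.flatMap_cons, wperm_append]
          rfl
  have himgk : ∀ m < B.length, ∀ a < (Ls m).1.length, ∀ k < D.rank,
      nth 0 (getRep (Ls m) a).2.2 k = wperm T (refsWord B (getRep (Ls m) a).2.1) (T.simp' k) := by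
    intro m hm a ha k hk
    rw [(hrep m hm a ha).2, nth_eq, List.getD_eq_getElem _ _ (by simp [subPts]; omega), List.getElem_map]
    simp [subPts, List.getElem_append_left, hk]
  have himgq : ∀ m < B.length, ∀ a < (Ls m).1.length, ∀ q < (fixPos D T e).length,
      nth 0 (getRep (Ls m) a).2.2 (D.rank + q) =
        wperm T (refsWord B (getRep (Ls m) a).2.1) (nth 0 (fixPos D T e) q) := by
    intro m hm a ha q hq
    rw [(hrep m hm a ha).2, nth_eq, nth_eq, List.getD_eq_getElem _ _ (by simp [subPts]; omega), List.getElem_map,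
      List.getD_eq_getElem _ _ hq]
    simp [subPts, List.getElem_append_right]
  refine ⟨fun m hm => (hlev m hm).1.1, fun m hm a ha => (hrep m hm a ha).1, fun m hm a ha => (hrep m hm a ha).2,
    fun m hm => ?_, fun m hm a ha k hk => ?_, fun m hm a ha j hj => ?_, fun m hm a ha b hb => ?_, ?_⟩
  · have h1 := ((hlev m hm).2 0 (hlev m hm).1.1).1
    simp only [chkSubRep, show Nat.beq 0 0 = true from rfl, cond_true, Bool.and_eq_true] at h1
    exact eqNats_iff _ _ h1.1.1
  · have h1 := ((hlev m hm).2 a ha).1
    simp only [chkSubRep, Bool.and_eq_true, allBelow_iff, Bool.or_eq_true, Bool.not_eq_true', List.any_eq_false,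
      Nat.beq_eq, Nat.ble_eq, List.mem_range] at h1
    have hkL : k < B.length := hk.trans hm
    obtain ⟨q, hq, hqe⟩ := List.getElem_of_mem ((mem_fixPos C hS).2
      ⟨bRoot_lt C hS hkL, hS.base_pos k hkL, bRoot_par C hS hkL⟩)
    have hq' : nth 0 (fixPos D T e) q = bRoot T B k := by rw [nth_eq, List.getD_eq_getElem _ _ hq, hqe]
    have := (h1.2 q hq).resolve_left fun hall => hall k hk hq'.symm
    rwa [himgq m hm a ha q hq, hq'] at this
  · have h1 := ((hlev m hm).2 a ha).2
    simp only [chkSubNext, allBelow_iff] at h1
    have h1 := h1 j (by omega)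
    have hjL : j < B.length := by omega
    have haw : ∀ i ∈ (getRep (Ls m) a).2.1, i < B.length := fun i hi => by
      have := (hrep m hm a ha).1 i hi; omega
    have hcons : refsWord B (j :: (getRep (Ls m) a).2.1) = bWord B j ++ refsWord B (getRep (Ls m) a).2.1 :=
      List.flatMap_cons
    cases hc : Nat.blt (nth 0 (nth [] (Ls m).2 a) j) (Ls m).1.length
    · rw [hc, cond_false] at h1
      simp only [Bool.and_eq_true, Nat.blt_eq, List.any_eq_true, List.mem_range, Nat.beq_eq] at h1
      obtain ⟨hk, q, hq, hq1, hq2⟩ := h1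
      set k := nth 0 (nth [] (Ls m).2 a) j - (Ls m).1.length with hkdef
      rw [himgq m hm a ha q hq, hq1] at hq2
      refine Or.inr ⟨k, hk, ?_⟩
      have hkL : k < B.length := hk.trans hm
      set d := refsWord B (getRep (Ls m) a).2.1 with hd
      have hdw : IsWord D d := refsWord_isWord C hS haw
      obtain ⟨hk1, hk2, -⟩ := hS.word _ (List.getElem_mem hkL)
      obtain ⟨hj1, hj2, -⟩ := hS.word _ (List.getElem_mem hjL)
      have hroot : refRoot T (d ++ B[k].1, B[k].2) = refRoot T B[j] := by
        rw [refRoot, wperm_append]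
        have : bRoot T B j = refRoot T B[j] := by rw [bRoot, List.getD_eq_getElem _ _ hjL]
        rw [← this, ← hq2, bRoot, List.getD_eq_getElem _ _ hkL]
        rfl
      have hsame := samePerm_refl C K hS (p := (d ++ B[k].1, B[k].2)) (p' := B[j]) (hdw.append hk1) hk2 hj1 hj2 hroot
      intro s hs
      rw [hcons, refsWord_append, wperm_append, wperm_append, show refsWord B [k] = refWord B[k] by
        simp only [refsWord, List.flatMap_cons, List.flatMap_nil, List.append_nil, bWord]
        rw [List.getD_eq_getElem _ _ hkL], ← hd, show bWord B j = refWord B[j] by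
        rw [bWord, List.getD_eq_getElem _ _ hjL], ← hsame _ (wperm_lt C hdw hs)]
      simp only [refWord, List.reverse_append, wperm_append]
      rw [wperm_reverse C hdw hs]
    · rw [hc, cond_true] at h1
      simp only [allBelow_iff, Nat.beq_eq] at h1
      have hc' : nth 0 (nth [] (Ls m).2 a) j < (Ls m).1.length := Nat.le_of_ble_eq_true hc
      refine Or.inl ⟨_, hc', samePerm_of_simple C K ?_ (refsWord_isWord C hS fun i hi => by
        have := (hrep m hm _ hc').1 i hi; omega) fun k hk => ?_⟩
      · rw [hcons]; exact (bWord_isWord C hS hjL).append (refsWord_isWord C hS haw)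
      · rw [hcons, wperm_append, ← himgk m hm a ha k hk, ← himgk m hm _ hc' k hk]
        exact h1 k hk
  · have h1 := (hlev m hm).1.2
    simp only [chkSubDistinct, allBelow_iff, Bool.not_eq_true'] at h1
    have h2 := h1 a ha b hb
    by_contra hall
    push Not at hall
    have : allBelow (fun k => Nat.beq (nth 0 (getRep (Ls m) a).2.2 k) (nth 0 (getRep (Ls m) b).2.2 k)) D.rank = true := by
      simp only [allBelow_iff, Nat.beq_eq]
      intro k hk
      rw [himgk m hm a ha k hk, himgk m hm b (hb.trans ha) k hk]
      exact hall k hk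
    rw [this] at h2
    exact Bool.noConfusion h2
  · intro j hj r hr hp i hi hne
    exact (((hspan j hj r hr).resolve_left (by simp [hp])) i hi).resolve_left hne

variable (hL : SubLevelsOK (A := A) D T e B Ls)
include hL

theorem subW_below : ∀ m ≤ B.length, ∀ u ∈ subW Ls m, ∀ i ∈ u, i < m := by
  intro m
  induction m with
  | zero => intro _ u hu i hi; simp [subW] at hu; subst hu; simp at hi
  | succ m ih =>
    intro hm u hu i hi
    obtain ⟨d, hd, hu⟩ := List.mem_flatMap.1 hu
    obtain ⟨u', hu', rfl⟩ := List.mem_map.1 hu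
    obtain ⟨R, hR, rfl⟩ := List.mem_map.1 hd
    obtain ⟨a, ha, rfl⟩ := List.getElem_of_mem hR
    rcases List.mem_append.1 hi with hi | hi
    · have := hL.rep_le m (by omega) a ha i (by rw [getRep_eq ha]; exact hi)
      omega
    · have := ih (by omega) u' hu' i hi
      omega

/-- Reflections of smaller index do not change the larger coefficients. -/
theorem coef_fixed {m : ℕ} (hm : m ≤ B.length) : ∀ {u : List ℕ}, (∀ i ∈ u, i < m) → ∀ {r : ℕ}, r < D.nroots →
    parity T e r = true → ∀ i < B.length, m ≤ i → subCoef T A (wperm T (refsWord B u) r) i = subCoef T A r i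
  | [], _, r, _, _, i, _, _ => rfl
  | j :: u, hu, r, hr, hp, i, hi, hmi => by
    have hu' : ∀ x ∈ u, x < m := fun x hx => hu x (List.mem_cons_of_mem _ hx)
    have huL : ∀ x ∈ u, x < B.length := fun x hx => (hu' x hx).trans_le hm
    have hj := hu j (List.mem_cons_self ..)
    rw [show refsWord B (j :: u) = bWord B j ++ refsWord B u from List.flatMap_cons, wperm_append,
      hL.span j (hj.trans_le hm) _ (wperm_lt C (refsWord_isWord C hS huL) hr)
        (by rw [refsWord_par C hS huL r hr]; exact hp) i hi (by omega),
      coef_fixed hm hu' hr hp i hi hmi]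

/-- Lengths add in a product of a representative and an element of the previous level. -/
theorem negF_add {m : ℕ} (hm : m < B.length) {a : ℕ} (ha : a < (Ls m).1.length) {u : List ℕ}
    (hu : ∀ i ∈ u, i < m) :
    (negF D T e (refsWord B ((getRep (Ls m) a).2.1 ++ u))).card =
      (negF D T e (refsWord B (getRep (Ls m) a).2.1)).card + (negF D T e (refsWord B u)).card := by
  classical
  have hev := nroots_even C
  set d := refsWord B (getRep (Ls m) a).2.1 with hd
  set v := refsWord B u with hv
  have hdw : IsWord D d := refsWord_isWord C hS fun i hi => by have := hL.rep_le m hm a ha i hi; omega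
  have huL : ∀ i ∈ u, i < B.length := fun i hi => (hu i hi).trans hm
  have hvw : IsWord D v := refsWord_isWord C hS huL
  have hvp : ∀ r < D.nroots, parity T e (wperm T v r) = parity T e r := fun r hr => refsWord_par C hS huL r hr
  have hdp : ∀ {x}, x < D.nroots → D.nroots ≤ 2 * x → parity T e x = true →
      (∀ i < B.length, m ≤ i → subCoef T A x i = 0) → D.nroots ≤ 2 * wperm T d x := fun hx hxp hxq h0 =>
    pos_image C hS hdw hx hxp hxq fun i hi hne => hL.rep_pos m hm a ha i (by
      by_contra hni
      exact hne (h0 i hi (by omega)))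
  have hout : ∀ {x}, x < D.nroots → D.nroots ≤ 2 * x → parity T e x = true →
      2 * wperm T d x < D.nroots → ∃ i < B.length, m ≤ i ∧ 0 < subCoef T A x i := fun hx hxp hxq hneg => by
    by_contra hall
    push Not at hall
    have := hdp hx hxp hxq fun i hi hmi =>
      le_antisymm (hall i hi hmi) (hS.coef_nonneg _ hx hxp hxq i hi)
    omega
  have hinv : ∀ x < D.nroots, wperm T v (wperm T v.reverse x) = x := fun x hx => by
    have := wperm_reverse C hvw.reverse hx
    rwa [List.reverse_reverse] at this
  have hsplit : negF D T e (refsWord B ((getRep (Ls m) a).2.1 ++ u)) =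
      negF D T e v ∪ (negF D T e d).image (wperm T v.reverse) := by
    ext r
    rw [Finset.mem_union, Finset.mem_image, mem_negF, mem_negF, refsWord_append, wperm_append, ← hd, ← hv]
    constructor
    · rintro ⟨hr, hrp, hrq, hneg⟩
      by_cases hvn : 2 * wperm T v r < D.nroots
      · exact Or.inl ⟨hr, hrp, hrq, hvn⟩
      · exact Or.inr ⟨_, mem_negF.2 ⟨wperm_lt C hvw hr, by omega, by rw [hvp r hr]; exact hrq, hneg⟩,
          wperm_reverse C hvw hr⟩
    · rintro (⟨hr, hrp, hrq, hvn⟩ | ⟨x, hx, rfl⟩)
      · refine ⟨hr, hrp, hrq, ?_⟩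
        have hx := wperm_lt C hvw hr
        have hspan : ∀ i < B.length, m ≤ i → subCoef T A r i = 0 := by
          intro i hi hmi
          rcases lt_or_eq_of_le (hS.coef_nonneg r hr hrp hrq i hi) with h | h
          · have := pos_of_coef C hS hx (by rw [hvp r hr]; exact hrq) hi
              (by rw [hv, coef_fixed C K hS hL hm.le hu hr hrq i hi hmi]; exact h)
            omega
          · exact h.symm
        have hnx := C.neg_eq hx
        have h3 := hdp (C.spec.neg_lt _ hx) (by omega) (by rw [parity_neg C hS hx, hvp r hr]; exact hrq)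
          fun i hi hmi => by
            rw [coef_neg C hS hx, hv, coef_fixed C K hS hL hm.le hu hr hrq i hi hmi, hspan i hi hmi, neg_zero]
        rw [wperm_neg C hdw hx, C.neg_eq (wperm_lt C hdw hx)] at h3
        have := wperm_lt C hdw hx
        omega
      · obtain ⟨hx1, hx2, hx3, hx4⟩ := mem_negF.1 hx
        have hr := wperm_lt C hvw.reverse hx1
        have hrq : parity T e (wperm T v.reverse x) = true := by
          rw [hv, refsWord_reverse, refsWord_par C hS (fun i hi => huL i (List.mem_reverse.1 hi)) x hx1]; exact hx3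
        refine ⟨hr, ?_, hrq, by rw [hinv x hx1]; exact hx4⟩
        obtain ⟨i, hi, hmi, hpos⟩ := hout hx1 hx2 hx3 hx4
        refine pos_of_coef C hS hr hrq hi ?_
        rw [hv, refsWord_reverse, coef_fixed C K hS hL hm.le (fun i hi => hu i (List.mem_reverse.1 hi)) hx1 hx3 i hi hmi]
        exact hpos
  have hdisj : Disjoint (negF D T e v) ((negF D T e d).image (wperm T v.reverse)) := by
    rw [Finset.disjoint_left]
    rintro r hr hr'
    obtain ⟨x, hx, rfl⟩ := Finset.mem_image.1 hr'
    obtain ⟨hx1, hx2, -⟩ := mem_negF.1 hx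
    obtain ⟨-, -, -, h4⟩ := mem_negF.1 hr
    rw [hinv x hx1] at h4
    omega
  rw [hsplit, Finset.card_union_of_disjoint hdisj, Finset.card_image_of_injOn fun x hx y hy h =>
    wperm_inj C hvw.reverse (mem_negF.1 hx).1 (mem_negF.1 hy).1 h, add_comm]

theorem subW_complete : ∀ m ≤ B.length, ∀ is : List ℕ, (∀ i ∈ is, i < m) →
    ∃ u ∈ subW Ls m, SamePerm D T (refsWord B u) (refsWord B is) := by
  intro m
  induction m with
  | zero =>
    intro _ is his
    rcases is with _ | ⟨i, is⟩
    · exact ⟨[], by simp [subW], SamePerm.rfl'⟩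
    · exact absurd (his i (List.mem_cons_self ..)) (Nat.not_lt_zero _)
  | succ m ih =>
    intro hm is
    have hm' : m < B.length := hm
    suffices h : (∀ i ∈ is, i < m + 1) → ∃ a, a < (Ls m).1.length ∧ ∃ u ∈ subW Ls m,
        SamePerm D T (refsWord B ((getRep (Ls m) a).2.1 ++ u)) (refsWord B is) by
      intro his
      obtain ⟨a, ha, u, hu, hsame⟩ := h his
      exact ⟨_, List.mem_flatMap.2 ⟨(getRep (Ls m) a).2.1, List.mem_map.2
        ⟨_, by rw [getRep_eq ha]; exact List.getElem_mem ha, rfl⟩, List.mem_map.2 ⟨u, hu, rfl⟩⟩, hsame⟩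
    induction is with
    | nil =>
      intro _
      obtain ⟨u, hu, hs⟩ := ih (by omega) [] (fun i hi => absurd hi List.not_mem_nil)
      exact ⟨0, hL.nonempty m hm', u, hu, by rw [hL.rep_zero m hm', List.nil_append]; exact hs⟩
    | cons j is ih2 =>
      intro his
      obtain ⟨a, ha, u, hu, hsame⟩ := ih2 fun i hi => his i (List.mem_cons_of_mem _ hi)
      have hj : j ≤ m := Nat.lt_succ_iff.1 (his j (List.mem_cons_self ..))
      have huL : ∀ i ∈ u, i < B.length := fun i hi => (subW_below C K hS hL m (by omega) u hu i hi).trans hm'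
      have hisL : ∀ i ∈ is, i < B.length := fun i hi => by
        have := his i (List.mem_cons_of_mem _ hi); omega
      have hcons : ∀ (x : List ℕ), refsWord B (j :: x) = bWord B j ++ refsWord B x := fun x => List.flatMap_cons
      rcases hL.next m hm' a ha j hj with ⟨c, hc, hn⟩ | ⟨k, hk, hn⟩
      · refine ⟨c, hc, u, hu, fun s hs => ?_⟩
        rw [refsWord_append, wperm_append, ← hn _ (wperm_lt C (refsWord_isWord C hS huL) hs), hcons, hcons,
          wperm_append, wperm_append, ← hsame s hs, refsWord_append, wperm_append]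
      · obtain ⟨u', hu', hs'⟩ := ih (by omega) (k :: u) fun i hi => by
          rcases List.mem_cons.1 hi with rfl | hi
          · exact hk
          · exact subW_below C K hS hL m (by omega) u hu i hi
        refine ⟨a, ha, u', hu', fun s hs => ?_⟩
        rw [refsWord_append, wperm_append, hs' s hs, hcons, wperm_append, ← hsame s hs, refsWord_append,
          wperm_append, show refsWord B (k :: u) = refsWord B [k] ++ refsWord B u from (refsWord_append [k] u),
          wperm_append]
        have h2 := hn _ (wperm_lt C (refsWord_isWord C hS huL) hs)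
        rw [hcons, wperm_append, refsWord_append, wperm_append] at h2
        exact h2.symm

theorem subW_pairwise : ∀ m ≤ B.length,
    (subW Ls m).Pairwise fun u v => ¬ SamePerm D T (refsWord B u) (refsWord B v) := by
  intro m
  induction m with
  | zero => intro _; simp [subW]
  | succ m ih =>
    intro hm
    have hm' : m < B.length := hm
    have hbel : ∀ u ∈ subW Ls m, ∀ i ∈ u, i < m := subW_below C K hS hL m (by omega)
    have key : ∀ a b, b < a → a < (Ls m).1.length → ∀ u ∈ subW Ls m, ∀ u' ∈ subW Ls m,
        ¬ SamePerm D T (refsWord B ((getRep (Ls m) a).2.1 ++ u)) (refsWord B ((getRep (Ls m) b).2.1 ++ u')) := by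
      intro a b hba ha u hu u' hu' hsame
      have hb := hba.trans ha
      have hin : ∀ {x}, x ∈ subW Ls m → ∀ i ∈ x, i < B.length := fun hx i hi => (hbel _ hx i hi).trans hm'
      have hw : ∀ {c}, c < (Ls m).1.length → IsWord D (refsWord B (getRep (Ls m) c).2.1) := fun hc =>
        refsWord_isWord C hS fun i hi => by have := hL.rep_le m hm' _ hc i hi; omega
      -- `d = d' v` and symmetrically
      have side : ∀ {a b u u'}, a < (Ls m).1.length → u ∈ subW Ls m → u' ∈ subW Ls m →
          SamePerm D T (refsWord B ((getRep (Ls m) a).2.1 ++ u)) (refsWord B ((getRep (Ls m) b).2.1 ++ u')) →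
          SamePerm D T (refsWord B (getRep (Ls m) a).2.1)
            (refsWord B ((getRep (Ls m) b).2.1 ++ (u' ++ u.reverse))) := by
        intro a b u u' ha hu hu' h s hs
        have hurev : IsWord D (refsWord B u).reverse := (refsWord_isWord C hS (hin hu)).reverse
        have h1 := h _ (wperm_lt C hurev hs)
        rw [refsWord_append, refsWord_append, wperm_append, wperm_append] at h1
        have hback : wperm T (refsWord B u) (wperm T (refsWord B u).reverse s) = s := by
          have := wperm_reverse C hurev hs
          rwa [List.reverse_reverse] at this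
        rw [hback] at h1
        rw [h1, refsWord_append, refsWord_append, wperm_append, wperm_append, ← refsWord_reverse]
      have hvm : ∀ {x y}, x ∈ subW Ls m → y ∈ subW Ls m → ∀ i ∈ x ++ y.reverse, i < m := fun hx hy i hi => by
        rcases List.mem_append.1 hi with hi | hi
        · exact hbel _ hx i hi
        · exact hbel _ hy i (List.mem_reverse.1 hi)
      have h1 := side ha hu hu' hsame
      have h2 := side hb hu' hu hsame.symm
      have hcard : ∀ {x y}, SamePerm D T x y → (negF D T e x).card = (negF D T e y).card := fun {x y} hxy => by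
        congr 1
        exact Finset.filter_congr fun r hr => by rw [hxy r (Finset.mem_range.1 hr)]
      have e1 := (hcard h1).trans (negF_add C K hS hL hm' hb (hvm hu' hu))
      have e2 := (hcard h2).trans (negF_add C K hS hL hm' ha (hvm hu hu'))
      have hvw : IsWord D (refsWord B (u' ++ u.reverse)) :=
        refsWord_isWord C hS fun i hi => (hvm hu' hu i hi).trans hm'
      have hid : SamePerm D T (refsWord B (u' ++ u.reverse)) [] := by
        refine preserve_id C K hS hvw (fun r hr => refsWord_par C hS (fun i hi => (hvm hu' hu i hi).trans hm') r hr)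
          fun i hi => ?_
        by_contra hneg
        have : bRoot T B i ∈ negF D T e (refsWord B (u' ++ u.reverse)) :=
          mem_negF.2 ⟨bRoot_lt C hS hi, hS.base_pos i hi, bRoot_par C hS hi, by omega⟩
        have := Finset.card_pos.2 ⟨_, this⟩
        omega
      obtain ⟨k, hk, hne⟩ := hL.distinct m hm' a ha b hba
      refine hne ?_
      rw [h1 _ (C.spec.simp_lt k hk), refsWord_append, wperm_append, hid _ (C.spec.simp_lt k hk)]
      rfl
    show (((Ls m).1.map fun R => R.2.1).flatMap fun d => (subW Ls m).map (d ++ ·)).Pairwise _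
    rw [List.pairwise_flatMap]
    refine ⟨fun d hd => ?_, ?_⟩
    · obtain ⟨R, hR, rfl⟩ := List.mem_map.1 hd
      obtain ⟨a, ha, rfl⟩ := List.getElem_of_mem hR
      rw [List.pairwise_map]
      refine (List.Pairwise.and_mem.1 (ih (by omega))).imp ?_
      rintro u u' ⟨hu, hu', hne⟩ hsame
      refine hne fun s hs => ?_
      have hw : IsWord D (refsWord B (Ls m).1[a].2.1) := refsWord_isWord C hS fun i hi => by
        have := hL.rep_le m hm' a ha i (by rw [getRep_eq ha]; exact hi)
        omega
      have h1 := hsame s hs
      rw [refsWord_append, refsWord_append, wperm_append, wperm_append] at h1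
      exact wperm_inj C hw (wperm_lt C (refsWord_isWord C hS fun i hi => (hbel u hu i hi).trans hm') hs)
        (wperm_lt C (refsWord_isWord C hS fun i hi => (hbel u' hu' i hi).trans hm') hs) h1
    · rw [List.pairwise_map, List.pairwise_iff_getElem]
      intro a b ha hb hab x hx y hy
      obtain ⟨u, hu, rfl⟩ := List.mem_map.1 hx
      obtain ⟨u', hu', rfl⟩ := List.mem_map.1 hy
      intro hsame
      refine key b a hab hb u' hu' u hu ?_
      rw [getRep_eq ha, getRep_eq hb]
      exact hsame.symm

theorem subW_sum (q : ℕ) : ∀ m ≤ B.length,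
    ((subW Ls m).map fun u => q ^ (negF D T e (refsWord B u)).card).sum =
      ∏ j ∈ Finset.range m, ((subExps D (Ls j)).map fun k => q ^ k).sum := by
  intro m
  induction m with
  | zero =>
    intro _
    have : negF D T e (refsWord B []) = ∅ := Finset.filter_eq_empty_iff.2 fun r _ h => by
      have h4 := h.2.2
      change 2 * r < D.nroots at h4
      omega
    simp [subW, this]
  | succ m ih =>
    intro hm
    have hm' : m < B.length := hm
    rw [Finset.prod_range_succ, ← ih hm'.le, subW, List.flatMap_def, List.map_flatten, List.sum_flatten,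
      List.map_map, List.map_map, List.map_map, subExps, List.map_map, ← List.sum_map_mul_left]
    refine congrArg List.sum (List.map_congr_left fun R hR => ?_)
    obtain ⟨a, ha, rfl⟩ := List.getElem_of_mem hR
    have he : ((((Ls m).1[a]).2.2.drop D.rank).filter fun x => decide (2 * x < D.nroots)).length =
        (negF D T e (refsWord B ((Ls m).1[a]).2.1)).card := by
      have h1 := hL.rep_imgs m hm' a ha
      rw [getRep_eq ha] at h1
      rw [negF_card C hS, h1, ← List.map_drop, subPts, List.drop_left' (by simp), List.filter_map, List.length_map]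
      rfl
    simp only [Function.comp_apply, List.map_map, he]
    rw [← List.sum_map_mul_right]
    refine congrArg List.sum (List.map_congr_left fun v hv => ?_)
    simp only [Function.comp_apply]
    have := negF_add C K hS hL hm' ha (subW_below C K hS hL m hm'.le v hv)
    rw [getRep_eq ha] at this
    rw [this, pow_add, mul_comm]

/-- The order of the centraliser of a sign vector, from a checked base and chain of transversals. -/
theorem card_cent_sub {F : Type*} [Field F] [Finite F] (h2 : (2 : F) ≠ 0) :
    Nat.card ↥(D.group F ⊓ Subgroup.centralizer {torusHom D T F (sgnVec D F e)}) =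
      Nat.card F ^ (fixPos D T e).length * Nat.card ↥(D.diagonalSubgroup F) *
        ∏ j ∈ Finset.range B.length, ((subExps D (Ls j)).map fun k => Nat.card F ^ k).sum := by
  classical
  rw [← subW_sum C K hS hL (Nat.card F) B.length le_rfl]
  have hbel := subW_below C K hS hL B.length le_rfl
  rw [card_cent_list C K h2 e (Ws := (subW Ls B.length).map (refsWord B))
    (fun w hw => by
      obtain ⟨u, hu, rfl⟩ := List.mem_map.1 hw
      exact refsWord_isWord C hS (hbel u hu))
    (fun w hw r hr => by
      obtain ⟨u, hu, rfl⟩ := List.mem_map.1 hw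
      exact refsWord_par C hS (hbel u hu) r hr)
    (fun w hw hst => by
      obtain ⟨is, h1, -, h3⟩ := exists_refs C K hS hw hst
      obtain ⟨u, hu, hs⟩ := subW_complete C K hS hL B.length le_rfl is h1
      exact ⟨_, List.mem_map.2 ⟨u, hu, rfl⟩, hs.trans h3⟩)
    (List.pairwise_map.2 (subW_pairwise C K hS hL B.length le_rfl)), List.map_map]
  congr 2
  refine List.map_congr_left fun u _ => ?_
  simp only [Function.comp_apply]
  rw [negF_card C hS]

end Cfsg.Lib.Chev
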