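import Cfsg.Agent.Lib.Chev.TorusLang

/-!
Involutions of a Chevalley group in odd characteristic: conjugation into the monomial subgroup, and from there
into the torus when square roots are present.
-/

set_option autoImplicit false
set_option linter.unusedSectionVars false

namespace Cfsg.Lib.Chev

open Cfsg.Lie
open scoped Matrix

variable {D : ChevalleyDatum} {T : Tbl} {F : Type*} [Field F] (C : Cert D T)
include C

/-- A root element pushed through a rank one reflection. -/
theorem xg_mul_ng {r : ℕ} (hr : r < D.nroots) {v : F} (hv : v ≠ 0) (a : F) :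
    xg C r a * ng C r v = ng C r v * xg C (T.neg r) (-a / v ^ 2) := by
  have h := ng_conj_xg C hr (neg_ne_zero.2 hv) a
  rw [← ng_inv C hr hv, inv_inv, neg_sq] at h
  rw [← h]; group

variable (K : FullCert D T)
include K

theorem negSet_snoc_lt {w : List ℕ} (hw : IsWord D w) {k : ℕ} (hk : k < D.rank)
    (h : 2 * wperm T w (T.simp' k) < D.nroots) :
    (negSet D T (w ++ [k])).card < (negSet D T w).card := by
  have hsk := C.spec.simp_lt k hk
  have hval : ∀ s, wperm T (w ++ [k]) s = wperm T w (T.refl' k s) := fun s => by rw [wperm_append]; rfl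
  have hmem : T.simp' k ∈ negSet D T w := mem_negSet.2 ⟨hsk, K.simple_pos hk, h⟩
  refine lt_of_le_of_lt ((le_of_eq (Finset.card_image_of_injOn (f := T.refl' k) ?_).symm).trans
    (Finset.card_le_card (t := (negSet D T w).erase (T.simp' k)) ?_))
    (Finset.card_lt_card (Finset.erase_ssubset hmem))
  · intro a ha b hb e
    simp only [Finset.mem_coe, mem_negSet] at ha hb
    rw [← C.spec.refl_refl k hk a ha.1, e, C.spec.refl_refl k hk b hb.1]
  · intro r hr
    obtain ⟨s, hs, rfl⟩ := Finset.mem_image.1 hr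
    rw [mem_negSet, hval] at hs
    obtain ⟨hsn, hsp, hsw⟩ := hs
    have hne : s ≠ T.simp' k := by
      rintro rfl
      rw [C.spec.refl_simple k hk, wperm_neg C hw hsk, C.neg_eq (wperm_lt C hw hsk)] at hsw
      have := wperm_lt C hw hsk
      have := nroots_even C
      omega
    have hpos := K.refl_pos hk hsn hsp hne
    refine Finset.mem_erase.2 ⟨fun e => hne ?_, mem_negSet.2 ⟨C.spec.refl_lt k hk s hsn, hpos, hsw⟩⟩
    have e' := congrArg (T.refl' k) e
    rw [C.spec.refl_refl k hk s hsn, C.spec.refl_simple k hk] at e'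
    subst e'
    rw [C.neg_eq hsk] at hsp
    have := K.simple_pos hk
    omega

theorem negSet_cons_lt {w : List ℕ} (hw : IsWord D w) {k : ℕ} (hk : k < D.rank)
    (h : 2 * wperm T w.reverse (T.simp' k) < D.nroots) :
    (negSet D T (k :: w)).card < (negSet D T w).card := by
  have hsk := C.spec.simp_lt k hk
  have hp : D.nroots ≤ 2 * wperm T (k :: w).reverse (T.simp' k) := by
    rw [List.reverse_cons, wperm_append]
    show D.nroots ≤ 2 * wperm T w.reverse (T.refl' k (T.simp' k))
    rw [C.spec.refl_simple k hk, wperm_neg C hw.reverse hsk, C.neg_eq (wperm_lt C hw.reverse hsk)]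
    have := wperm_lt C hw.reverse hsk
    have := nroots_even C
    omega
  have h1 := negSet_cons C K ((hw.cons hk).cons hk) hp
  have h2 : negSet D T (k :: k :: w) = negSet D T w := negSet_congr fun s hs => by
    show T.refl' k (T.refl' k (wperm T w s)) = _
    rw [C.spec.refl_refl k hk _ (wperm_lt C hw hs)]
  rw [h2] at h1
  omega

/-- An involution is conjugate to an involution of the monomial subgroup. -/
theorem exists_monomial_conj [Finite F] (h2 : (2 : F) ≠ 0) {g : GL D.Idx F} (hg : g ∈ D.group F) (hsq : g * g = 1) :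
    ∃ x ∈ D.group F, x * g * x⁻¹ ∈ D.monomialSubgroup F ∧
      (x * g * x⁻¹) * (x * g * x⁻¹) = 1 := by
  obtain ⟨w, hw, b, hb, c, hc, rfl⟩ := bruhat_normal C K hg
  have hcB : c ∈ D.borelSubgroup F := signPart_le_borel C K _ _ hc
  obtain ⟨u, hu, h, hh, hcb⟩ := (mem_borel C).1 (mul_mem hcB hb)
  set n := wnu C F w with hn
  have hnN : n ∈ D.monomialSubgroup F := wnu_mem C hw
  set m := h * n with hm
  have hmN : m ∈ D.monomialSubgroup F := mul_mem (diag_le_monomial C hh) hnN
  have hum : c * (b * n * c) * c⁻¹ = u * m := by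
    calc c * (b * n * c) * c⁻¹ = c * b * n := by group
      _ = _ := by rw [hcb, hm, mul_assoc]
  have hum2 : u * m * (u * m) = 1 := by
    rw [← hum]
    calc c * (b * n * c) * c⁻¹ * (c * (b * n * c) * c⁻¹) = c * (b * n * c * (b * n * c)) * c⁻¹ := by group
      _ = _ := by rw [hsq]; group
  have huB : u ∈ D.borelSubgroup F := Subgroup.mem_sup_left hu
  obtain ⟨t, ht, htH⟩ : ∃ t, t = m * m ∧ t ∈ D.diagonalSubgroup F := by
    refine ⟨_, rfl, ?_⟩
    have e : u * m * 1 = 1 * m⁻¹ * u⁻¹ := by
      rw [mul_one, one_mul, ← mul_inv_rev]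
      exact eq_inv_of_mul_eq_one_left hum2
    have h' := cells_disjoint C K huB (one_mem _) hmN (inv_mem hmN) (one_mem _) (inv_mem huB) e
    have := inv_mem h'
    simpa using this
  have hv : m * u * m⁻¹ = u⁻¹ * t⁻¹ := by
    rw [ht]
    calc m * u * m⁻¹ = u⁻¹ * (u * m * (u * m)) * m⁻¹ * m⁻¹ := by group
      _ = _ := by rw [hum2]; group
  -- the conjugate of `u` lies in `U`
  have hmu : m * u * m⁻¹ ∈ D.posUnipotent F := by
    have hev := nroots_even C
    have hu' := hu
    rw [posUnipotent_eq C] at hu'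
    obtain ⟨a, ha, s, hs, hus⟩ := upper_split C K w (D.nroots / 2) (k := D.nroots / 2) (by omega) (by omega) hu'
    have ha' := (signPart_conj C K hw).2 ha
    have hs' := (signPart_conj C K hw).1 hs
    rw [← hn] at ha' hs'
    have hnB : n * u * n⁻¹ ∈ D.borelSubgroup F := by
      have hH : h ∈ D.borelSubgroup F := Subgroup.mem_sup_right hh
      have hB : m * u * m⁻¹ ∈ D.borelSubgroup F :=
        hv ▸ mul_mem (inv_mem huB) (inv_mem (Subgroup.mem_sup_right htH))
      have := mul_mem (mul_mem (inv_mem hH) hB) hH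
      simpa [hm, mul_assoc] using this
    have hs1 : n * s * n⁻¹ = 1 := (Subgroup.eq_bot_iff_forall _).1 (borel_inf_neg C) _
      ⟨by
        have haB : n * a * n⁻¹ ∈ D.borelSubgroup F := Subgroup.mem_sup_left ha'
        have := mul_mem (inv_mem haB) hnB
        simpa [hus, mul_assoc] using this, hs'⟩
    have hs2 : s = 1 := conj_eq_one_iff.1 hs1
    rw [hus, hs2, mul_one]
    have := (Subgroup.mem_normalizer_iff.1 (diag_le_normalizer C hh) _).1 ha'
    simpa [hm, mul_assoc] using this
  have ht1 : t = 1 := by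
    have : t⁻¹ ∈ D.posUnipotent F := by
      have := mul_mem hu (hv ▸ hmu)
      simpa using this
    exact inv_eq_one.1 ((Subgroup.eq_bot_iff_forall _).1 (pos_inf_diag C) _ ⟨this, Subgroup.inv_mem _ htH⟩)
  have hmm : m * m = 1 := ht ▸ ht1
  rw [ht1, inv_one, mul_one] at hv
  -- the order of `u` is odd
  have hodd : Odd (orderOf u) := by
    have hd : orderOf (⟨u, hu⟩ : ↥(D.posUnipotent F)) ∣ Nat.card ↥(D.posUnipotent F) := orderOf_dvd_natCard _
    rw [Subgroup.orderOf_mk, card_pos C K] at hd
    have hq : Odd (Nat.card F) := by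
      classical
      haveI := Fintype.ofFinite F
      rw [Nat.card_eq_fintype_card, Nat.odd_iff]
      exact FiniteField.odd_card_of_char_ne_two fun h' => h2 (by
        haveI : CharP F 2 := h' ▸ ringChar.charP F
        exact CharTwo.two_eq_zero)
    exact Odd.of_dvd_nat hq.pow hd
  obtain ⟨k, hk⟩ := hodd
  set v := u ^ (k + 1) with hvdef
  have hvv : v * v = u := by
    rw [hvdef, ← pow_add, show k + 1 + (k + 1) = orderOf u + 1 by omega, pow_succ, pow_orderOf_eq_one, one_mul]
  have hmv : m * v * m⁻¹ = v⁻¹ := by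
    rw [hvdef, ← MulAut.conj_apply, map_pow, MulAut.conj_apply, hv, inv_pow]
  have e : v⁻¹ * c * (b * n * c) * (v⁻¹ * c)⁻¹ = m := by
    calc v⁻¹ * c * (b * n * c) * (v⁻¹ * c)⁻¹ = v⁻¹ * (c * (b * n * c) * c⁻¹) * v := by group
      _ = v⁻¹ * (v * v) * (m * v * m⁻¹) * m := by rw [hum, ← hvv]; group
      _ = _ := by rw [hmv]; group
  refine ⟨v⁻¹ * c, mul_mem (inv_mem (pos_le_group C (by rw [hvdef]; exact pow_mem hu _)))
    (borel_le_group C hcB), ?_⟩
  rw [e]
  exact ⟨hmN, hmm⟩

/-- With square roots, an involution of the monomial subgroup is conjugate to one of the torus. -/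
theorem exists_torus_conj (hsq : ∀ a : F, ∃ b, b * b = a) (h2 : (2 : F) ≠ 0) :
    ∀ (N : ℕ) (w : List ℕ), IsWord D w → (negSet D T w).card = N → ∀ h ∈ D.diagonalSubgroup F,
      wnu C F w * h * (wnu C F w * h) = 1 →
      ∃ x ∈ D.group F, x * (wnu C F w * h) * x⁻¹ ∈ D.diagonalSubgroup F := by
  intro N
  induction N using Nat.strong_induction_on with
  | _ N ih =>
    intro w hw hN h hh hinv
    set n := wnu C F w with hn
    have hnN : n ∈ D.monomialSubgroup F := wnu_mem C hw
    by_cases hk : ∃ k < D.rank, 2 * wperm T w (T.simp' k) < D.nroots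
    swap
    · push Not at hk
      exact ⟨1, one_mem _, by simpa using mul_mem (word_kernel C K _ rfl hw hk) hh⟩
    obtain ⟨k, hk, hneg⟩ := hk
    have hsk := C.spec.simp_lt k hk
    -- the word is an involution on the roots
    have hinvw : ∀ s < D.nroots, wperm T w (wperm T w s) = s := by
      intro s hs
      have hd : (wnu C F ([] : List ℕ))⁻¹ * wnu C F (w ++ w) ∈ D.diagonalSubgroup F := by
        rw [show wnu C F ([] : List ℕ) = 1 from List.prod_nil, inv_one, one_mul, wnu_append, ← hn]
        have e : n * n = (n * h * n⁻¹)⁻¹ * h⁻¹ := by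
          calc n * n = (n * h * n⁻¹)⁻¹ * (n * h * (n * h)) * h⁻¹ := by group
            _ = _ := by rw [hinv, mul_one]
        rw [e]
        exact mul_mem (inv_mem (conj_mem_diag C hnN hh).1) (inv_mem hh)
      have := perm_of_same C (F := F) (v := []) (fun i hi => absurd hi List.not_mem_nil) (hw.append hw) hd hs
      rw [wperm_append] at this
      exact this.symm
    have hrev : ∀ s < D.nroots, wperm T w.reverse s = wperm T w s := fun s hs => by
      calc wperm T w.reverse s = wperm T w.reverse (wperm T w (wperm T w s)) := by rw [hinvw s hs]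
        _ = _ := wperm_reverse C hw (wperm_lt C hw hs)
    have hrevneg : 2 * wperm T w.reverse (T.simp' k) < D.nroots := by rw [hrev _ hsk]; exact hneg
    have hkw : IsWord D (k :: w) := hw.cons hk
    obtain ⟨χ, hχ⟩ := diag_conj_xg C hh
    obtain ⟨e₁, he₁, het⟩ := wnu_conj_xg C (F := F) hw hsk
    by_cases hfix : wperm T w (T.simp' k) = T.neg (T.simp' k)
    · -- one step down inside the rank one subgroup
      set r := T.simp' k with hr
      set κ := e₁ * χ r with hκdef
      have hκ0 : κ ≠ 0 := mul_ne_zero (left_ne_zero_of_mul (by rw [he₁]; exact one_ne_zero)) (hχ r hsk).1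
      have hmx : ∀ a, n * h * xg C r a * (n * h)⁻¹ = xg C (T.neg r) (κ * a) := fun a => by
        rw [show n * h * xg C r a * (n * h)⁻¹ = n * (h * xg C r a * h⁻¹) * n⁻¹ by group, (hχ r hsk).2, hn, het, hfix,
          hκdef, mul_assoc]
      have hmy : ∀ a, n * h * xg C (T.neg r) a * (n * h)⁻¹ = xg C r (a / κ) := fun a => by
        have e := hmx (a / κ)
        rw [mul_div_cancel₀ _ hκ0] at e
        rw [← e]
        calc n * h * (n * h * xg C r (a / κ) * (n * h)⁻¹) * (n * h)⁻¹
            = (n * h * (n * h)) * xg C r (a / κ) * (n * h * (n * h))⁻¹ := by group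
          _ = _ := by rw [hinv]; group
      obtain ⟨b, hb⟩ := hsq κ
      have hb0 : b ≠ 0 := fun h0 => hκ0 (by rw [← hb, h0, zero_mul])
      set g := xg C r (-(1 / (2 * b))) * xg C (T.neg r) b with hgdef
      have hv0 : (-(1 / b)) ≠ 0 := neg_ne_zero.2 (one_div_ne_zero hb0)
      have hP : g * (n * h * g⁻¹ * (n * h)⁻¹) = ng C r (-(1 / b)) := by
        rw [hgdef, mul_inv_rev, xg_inv C r, xg_inv C (T.neg r),
          show n * h * (xg C (T.neg r) (-b) * xg C r (-(-(1 / (2 * b))))) * (n * h)⁻¹ =
            (n * h * xg C (T.neg r) (-b) * (n * h)⁻¹) * (n * h * xg C r (-(-(1 / (2 * b)))) * (n * h)⁻¹) by group,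
          hmy, hmx]
        have e1 : xg C r (-(1 / (2 * b))) = xg C r (1 / (2 * b)) * xg C r (-(1 / b)) := by
          rw [xg_add]; congr 1; field_simp; ring
        have e2 : -b / κ = -(1 / b) := by rw [← hb]; field_simp
        have e3 : κ * -(-(1 / (2 * b))) = b / 2 := by rw [← hb]; field_simp
        have e4 : ng C r (-(1 / b)) = xg C r (-(1 / b)) * xg C (T.neg r) b * xg C r (-(1 / b)) := by
          rw [ng, C.spec.shape.neg_eq r hsk]; congr 3; field_simp
        rw [e1, e2, e3, show xg C r (1 / (2 * b)) * xg C r (-(1 / b)) * xg C (T.neg r) b *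
            (xg C r (-(1 / b)) * xg C (T.neg r) (b / 2)) =
          xg C r (1 / (2 * b)) * (xg C r (-(1 / b)) * xg C (T.neg r) b * xg C r (-(1 / b))) * xg C (T.neg r) (b / 2) by
            group, ← e4, xg_mul_ng C hsk hv0, mul_assoc, xg_add]
        rw [show -(1 / (2 * b)) / (-(1 / b)) ^ 2 + b / 2 = 0 by field_simp; ring, xg_zero, mul_one]
      have hgG : g ∈ D.group F := mul_mem (xg_mem_group C _ _) (xg_mem_group C _ _)
      -- the new word
      set h' := (wnu C F (k :: w))⁻¹ * hg C r (-(1 / b)) * wnu C F (k :: w) * h with hh'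
      have hh'D : h' ∈ D.diagonalSubgroup F :=
        mul_mem (conj_mem_diag C (wnu_mem C hkw) (hg_mem C hsk hv0)).2 hh
      have e : g * (n * h) * g⁻¹ = wnu C F (k :: w) * h' := by
        calc g * (n * h) * g⁻¹ = g * (n * h * g⁻¹ * (n * h)⁻¹) * (n * h) := by group
          _ = hg C r (-(1 / b)) * nu C k * (n * h) := by rw [hP, ng_eq C hsk, nu, hr]
          _ = _ := by rw [hh', wnu_cons, hn]; group
      have hinv' : wnu C F (k :: w) * h' * (wnu C F (k :: w) * h') = 1 := by
        rw [← e, show g * (n * h) * g⁻¹ * (g * (n * h) * g⁻¹) = g * (n * h * (n * h)) * g⁻¹ by group, hinv]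
        group
      obtain ⟨x, hx, hxd⟩ := ih _ (hN ▸ negSet_cons_lt C K hw hk hrevneg) (k :: w) hkw rfl h' hh'D hinv'
      refine ⟨x * g, mul_mem hx hgG, ?_⟩
      rw [← e] at hxd
      simpa [mul_assoc] using hxd
    · -- two steps down by a fundamental reflection
      set w' := k :: w ++ [k] with hw'def
      have hk1 : IsWord D [k] := IsWord.cons hk fun j hj => absurd hj List.not_mem_nil
      have hw' : IsWord D w' := hkw.append hk1
      have hneg2 : 2 * wperm T (k :: w) (T.simp' k) < D.nroots := by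
        show 2 * T.refl' k (wperm T w (T.simp' k)) < D.nroots
        have h1 : wperm T w (T.simp' k) ≠ T.simp' k := fun e => by
          have := K.simple_pos hk; rw [e] at hneg; omega
        have := (K.refl_pos_iff hk (wperm_lt C hw hsk) h1 hfix).not
        omega
      have hcard : (negSet D T w').card < N := by
        have := negSet_snoc_lt C K hkw hk hneg2
        have := negSet_cons_lt C K hw hk hrevneg
        simp only [hw'def] at *
        omega
      obtain ⟨d, hd, hdd⟩ : ∃ d ∈ D.diagonalSubgroup F, (nu C k : GL D.Idx F)⁻¹ = nu C k * d :=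
        ⟨(hg C (T.simp' k) (-1 : F))⁻¹, inv_mem (hg_mem C hsk (neg_ne_zero.2 one_ne_zero)), by
          rw [← nu_sq C hk]; group⟩
      set h' := (nu C k)⁻¹ * h * nu C k * d with hh'
      have hh'D : h' ∈ D.diagonalSubgroup F := mul_mem (conj_mem_diag C (nu_mem C k hk) hh).2 hd
      have e : nu C k * (n * h) * (nu C k)⁻¹ = wnu C F w' * h' := by
        rw [hw'def, wnu_append, wnu_cons, show wnu C F [k] = nu C k by simp [wnu], hh', ← hn]
        conv_lhs => rw [hdd]
        group
      have hinv' : wnu C F w' * h' * (wnu C F w' * h') = 1 := by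
        rw [← e, show nu C k * (n * h) * (nu C k)⁻¹ * (nu C k * (n * h) * (nu C k)⁻¹) =
          nu C k * (n * h * (n * h)) * (nu C k)⁻¹ by group, hinv]
        group
      obtain ⟨x, hx, hxd⟩ := ih _ hcard w' hw' rfl h' hh'D hinv'
      refine ⟨x * nu C k, mul_mem hx (ng_mem_group C _ _), ?_⟩
      rw [← e] at hxd
      simpa [mul_assoc] using hxd

end Cfsg.Lib.Chev
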