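import Mathlib
import Cfsg.Agent.Lib.Chev.NormalForm

/-!
Connectedness of the diagram and irreducibility of the `(B, N)`-pair.
-/

set_option autoImplicit false

namespace Cfsg.Lib.Chev

open Cfsg.Lie

/-- Each node but the first is linked to one of smaller distance. -/
noncomputable def chkLinked (T : Tbl) (dist : List ℕ) : Bool :=
  allBelow (fun i => Nat.beq i 0 || anyBelow (fun j => Nat.blt (dist.getD j 0) (dist.getD i 0) &&
    !Nat.beq (T.refl' i (T.refl' j (T.simp' i))) (T.refl' j (T.refl' i (T.simp' i)))) T.rank) T.rank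

variable {D : ChevalleyDatum} {T : Tbl} {F : Type*} [Field F] (C : Cert D T) (K : FullCert D T)
include C K

theorem bnPair_irreducible {dist : List ℕ} (h : chkLinked T dist = true) : (bnPair C K F).Irreducible := by
  intro J hJ ⟨a, ha⟩ ⟨b, hb⟩
  by_contra hcon
  push Not at hcon
  let s : ∀ i, i < D.rank → ↥(D.group F) := fun i _ => ⟨nu C i, ng_mem_group C _ _⟩
  have hsS : ∀ i (hi : i < D.rank), s i hi ∈ (bnPair C K F).S := fun i hi => ⟨i, hi, (eq_nu_iff C hi).2 rfl⟩
  have hnc : ∀ i j (hi : i < D.rank) (hj : j < D.rank),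
      T.refl' i (T.refl' j (T.simp' i)) ≠ T.refl' j (T.refl' i (T.simp' i)) →
      s i hi * s j hj * (s i hi)⁻¹ * (s j hj)⁻¹ ∉ (bnPair C K F).B := by
    intro i j hi hj hne hB
    apply hne
    have hB' : nu C i * nu C j * (nu C i)⁻¹ * (nu C j)⁻¹ ∈ D.borelSubgroup F := hB
    have hi' : IsWord D [i] := IsWord.cons hi fun k hk => absurd hk List.not_mem_nil
    have hj' : IsWord D [j] := IsWord.cons hj fun k hk => absurd hk List.not_mem_nil
    have hH : nu C i * nu C j * (nu C i)⁻¹ * (nu C j)⁻¹ ∈ D.diagonalSubgroup F := by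
      rw [← borel_inf_monomial C]
      exact Subgroup.mem_inf.2 ⟨hB', Subgroup.mul_mem _ (Subgroup.mul_mem _ (Subgroup.mul_mem _ (nu_mem C i hi) (nu_mem C j hj))
        (Subgroup.inv_mem _ (nu_mem C i hi))) (Subgroup.inv_mem _ (nu_mem C j hj))⟩
    have hsame : (wnu C F (j :: [i]))⁻¹ * wnu C F (i :: [j]) ∈ D.diagonalSubgroup F := by
      have := (conj_mem_diag C (wnu_mem C (hj'.append hi')) hH).2
      simp only [List.singleton_append, wnu_cons, show wnu C F ([] : List ℕ) = 1 from List.prod_nil, mul_one] at this ⊢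
      rw [show (nu C j * nu C i)⁻¹ * (nu C i * nu C j) = (nu C j * nu C i)⁻¹ *
        (nu C i * nu C j * (nu C i)⁻¹ * (nu C j)⁻¹) * (nu C j * nu C i) by group]
      exact this
    exact (perm_of_same C (hj'.append hi') (hi'.append hj') hsame (C.spec.simp_lt i hi)).symm
  have key : ∀ n i (hi : i < D.rank), dist.getD i 0 = n →
      (s i hi ∈ J ↔ s 0 (Nat.lt_of_le_of_lt (Nat.zero_le i) hi) ∈ J) := by
    intro n
    induction n using Nat.strong_induction_on with
    | _ n ih =>
      intro i hi hd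
      by_cases h0 : i = 0
      · subst h0; rfl
      · have h' := allBelow_iff.1 h i (C.spec.shape.rank_eq ▸ hi)
        rw [Bool.or_eq_true, Nat.beq_eq] at h'
        obtain ⟨j, hj, hj'⟩ := exists_of_anyBelow (h'.resolve_left h0)
        rw [C.spec.shape.rank_eq] at hj
        simp only [Bool.and_eq_true, Nat.blt_eq, Bool.not_eq_true'] at hj'
        have hne : T.refl' i (T.refl' j (T.simp' i)) ≠ T.refl' j (T.refl' i (T.simp' i)) := fun e => by
          have := hj'.2
          rw [e, Nat.beq_refl] at this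
          exact Bool.noConfusion this
        refine Iff.trans ?_ (ih _ (hd ▸ hj'.1) j hj rfl)
        constructor <;> intro hm <;> by_contra hm'
        · exact hnc i j hi hj hne (hcon _ hm _ ⟨hsS j hj, hm'⟩)
        · have := hcon _ hm _ ⟨hsS i hi, hm'⟩
          refine hnc i j hi hj hne ?_
          have h2 := inv_mem this
          simpa [mul_assoc] using h2
  obtain ⟨i, hi, ei⟩ := hJ ha
  obtain ⟨j, hj, ej⟩ := hb.1
  have ha' : a = s i hi := Subtype.ext ((eq_nu_iff C hi).1 ei)
  have hb' : b = s j hj := Subtype.ext ((eq_nu_iff C hj).1 ej)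
  rw [ha'] at ha
  rw [hb'] at hb
  exact hb.2 ((key _ j hj rfl).2 ((key _ i hi rfl).1 ha))

theorem group_not_isMulCommutative (hr : 0 < D.rank) (hperf : commutator ↥(D.group F) = ⊤) :
    ¬ IsMulCommutative ↥(D.group F) := by
  intro hc
  have h1 : commutator ↥(D.group F) = ⊥ := by
    rw [commutator_def, eq_bot_iff, Subgroup.commutator_le]
    intro a _ b _
    rw [Subgroup.mem_bot, commutatorElement_eq_one_iff_mul_comm]
    exact hc.is_comm.comm a b
  have hp := C.spec.simp_lt 0 hr
  let x : ↥(D.group F) := ⟨xg C (T.simp' 0) 1, xg_mem_group C _ _⟩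
  have hx : x ∈ (⊥ : Subgroup ↥(D.group F)) := by rw [← h1, hperf]; exact Subgroup.mem_top x
  exact one_ne_zero (xg_eq_one C hp (congrArg Subtype.val (Subgroup.mem_bot.1 hx) : xg C (T.simp' 0) (1 : F) = 1))

end Cfsg.Lib.Chev
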