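import Cfsg.Agent.Lib.Chev.SUCode
import Cfsg.Agent.Lib.Chev.B2Sp
import Cfsg.Agent.S0270
import Cfsg.Agent.S0280

/-!
The projective special unitary group in dimension four over the field with four elements is the projective
symplectic group in dimension four over the field with three elements.
-/

set_option autoImplicit false
set_option maxRecDepth 100000

namespace Cfsg.Lib.Chev.IsoB2SU

open Cfsg.Lie MatCode

/-- The field with four elements; two is a cube root of one. -/
def fc4 : FCode := ⟨4, 0x123103223013210, 0x2130132032100000, 0x3210, 0x2310⟩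

/-- The images of the root elements. -/
def tbl : List (List ℕ) :=
  [[1152922604119523329, 1382659168687620098, 1306080313831587843],
   [1152922604119523329, 3468337081682567952, 2320201678428647952],
   [1152922604119523329, 72057663025840129, 4521191830192129],
   [1152922604119523329, 1297635935112929793, 1369992600607535873],
   [1152922604119523329, 2305845208239046657, 3458767812358569985],
   [1152922604119523329, 72057598333947904, 299067163803904],
   [1152922604119523329, 2305846307749625857, 3458766712844845057],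
   [1152922604119523329, 3458767812356472835, 2305845208237998082]]

/-- The numbers for which the code is an element of the special unitary group. -/
noncomputable def okSU (A : ℕ) : Bool :=
  okM fc4 4 A && (Nat.beq (mulM fc4 4 (starM fc4 4 A) A) (oneM 4) && Nat.beq (det4C fc4 A) 1)

theorem tbl_ok : CodeHom.chkRels chevB2 (mulM fc4 4) (oneM 4) okSU 3 tbl = true := by decide +kernel

/-- The commutator of two generators. -/
def cm : ℕ :=
  mulM fc4 4 (CodeHom.tblAt tbl 4 2) (mulM fc4 4 (CodeHom.tblAt tbl 5 2)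
    (mulM fc4 4 (CodeHom.tblAt tbl 4 1) (mulM fc4 4 (CodeHom.tblAt tbl 5 1) (oneM 4))))

variable {F : Type*} [Field F] [Fintype F]

theorem exists_real (hF : Fintype.card F = 4) :
    ∃ (e : ℕ → F) (f : F →+* F), fc4.Real e f ∧ ∀ x, f x = x ^ 2 := by
  classical
  haveI : Fact (Nat.Prime 2) := ⟨Nat.prime_two⟩
  haveI : CharP F 2 := charP_of_card_eq_prime_pow (f := 2) (by rw [hF]; norm_num)
  obtain ⟨w, hw0, hw1⟩ : ∃ w : F, w ≠ 0 ∧ w ≠ 1 := by
    by_contra hall
    push Not at hall
    have : Finset.univ ⊆ ({0, 1} : Finset F) := fun x _ => by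
      by_cases h : x = 0
      · simp [h]
      · simp [hall x h]
    have h2 := Finset.card_le_card this
    rw [Finset.card_univ, hF] at h2
    have h3 : ({0, 1} : Finset F).card ≤ 2 := Finset.card_le_two
    omega
  have hw : w * w = w + 1 := by
    have h : w ^ 4 = w := by rw [← hF]; exact FiniteField.pow_card w
    have h' : w * (w - 1) * (w * w + w + 1) = 0 := by linear_combination h
    rcases mul_eq_zero.1 h' with h'' | h''
    · rcases mul_eq_zero.1 h'' with h3 | h3
      · exact absurd h3 hw0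
      · exact absurd (sub_eq_zero.1 h3) hw1
    · linear_combination h'' - (w + 1) * CharTwo.two_eq_zero (R := F)
  have h2 : (2 : F) = 0 := CharTwo.two_eq_zero
  let e : ℕ → F := fun c => match c with
    | 0 => 0
    | 1 => 1
    | 2 => w
    | 3 => w + 1
    | _ => 0
  have e0 : e 0 = 0 := rfl
  have e1 : e 1 = 1 := rfl
  have e2 : e 2 = w := rfl
  have e3 : e 3 = w + 1 := rfl
  refine ⟨e, iterateFrobenius F 2 1, ⟨by decide +kernel, e0, e1, ?_, ?_, ?_, ?_, ?_⟩, fun x => by
    rw [iterateFrobenius_def, pow_one]⟩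
  · intro a ha b hb
    change a < 4 at ha; change b < 4 at hb
    interval_cases a <;> interval_cases b <;>
      simp [fc4, FCode.add, slot, e0, e1, e2, e3] <;> grind
  · intro a ha b hb
    change a < 4 at ha; change b < 4 at hb
    interval_cases a <;> interval_cases b <;>
      simp [fc4, FCode.mul, slot, e0, e1, e2, e3, mul_add, add_mul, hw] <;> grind
  · intro a ha
    change a < 4 at ha
    interval_cases a <;> simp [fc4, FCode.neg, slot, e0, e1, e2, e3, CharTwo.neg_eq]
  · intro a ha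
    change a < 4 at ha
    interval_cases a <;> simp [fc4, FCode.cj, slot, e0, e1, e2, e3, iterateFrobenius_def, frobenius_def, sq, mul_add, add_mul, hw] <;>
      grind
  · intro a ha b hb h
    change a < 4 at ha; change b < 4 at hb
    have hw1' : w + 1 ≠ 0 := fun h => hw1 (CharTwo.add_eq_zero.1 h)
    interval_cases a <;> interval_cases b <;> simp_all [e0, e1, e2, e3]

theorem card_psu (hF : Fintype.card F = 4) : Nat.card (Cfsg.PSU 4 F 2) = 25920 := by
  have h := Cfsg.Agent.S0280.result (q := 2) (by rw [hF]; norm_num) 4 (by norm_num)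
  simp [Finset.prod_range_succ, Nat.even_iff, show Nat.gcd 4 3 = 1 from rfl] at h
  omega

/-- The isomorphism. -/
theorem nonempty_equiv {K : Type*} [Field K] [Fintype K] (hF : Fintype.card F = 4) (hK : Fintype.card K = 3) :
    Nonempty (Cfsg.PSU 4 F 2 ≃* Cfsg.PSp 2 K) := by
  classical
  obtain ⟨e, f, R, hf⟩ := exists_real hF
  let P : ℕ → Prop := fun A => okM fc4 4 A = true ∧ ∃ g : Cfsg.SU 4 F 2, suMat g = evM e 4 A
  obtain ⟨ev, hev⟩ : ∃ ev : ℕ → Cfsg.SU 4 F 2, ∀ A, P A → suMat (ev A) = evM e 4 A :=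
    ⟨fun A => if h : ∃ g : Cfsg.SU 4 F 2, suMat g = evM e 4 A then h.choose else 1,
      fun A hA => by simp only [dif_pos hA.2]; exact hA.2.choose_spec⟩
  have h1 : P (oneM 4) := ⟨(oneM_spec R).1, 1, by rw [(oneM_spec R).2, suMat_one]⟩
  let X : CodeHom.Code (Cfsg.SU 4 F 2) :=
    { mul := mulM fc4 4
      one := oneM 4
      good := P
      ev := ev
      one_good := h1
      ev_one := suMat_inj (by rw [hev _ h1, (oneM_spec R).2, suMat_one])
      mul_spec := fun A B hA hB => by
        have hs := mulM_spec R hA.1 hB.1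
        have hg : P (mulM fc4 4 A B) := ⟨hs.1, ev A * ev B, by
          rw [suMat_mul, hev A hA, hev B hB, hs.2]⟩
        refine ⟨hg, suMat_inj ?_⟩
        rw [suMat_mul, hev _ hg, hev A hA, hev B hB, hs.2] }
  have hgb : ∀ A, okSU A = true → P A := by
    intro A hA
    simp only [okSU, Bool.and_eq_true, Nat.beq_eq] at hA
    refine ⟨hA.1, exists_su_of_code R hf hA.1 hA.2.1 ?_⟩
    rw [← (det4C_spec R hA.1).2, hA.2.2, R.one]
  obtain ⟨φ, hφ⟩ := CodeHom.exists_stHom (D := chevB2) (K := K) X tbl Nat.prime_three le_rfl hK hgb tbl_ok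
  let C := fullCertB2.comm.cert
  let π := stHom C fullCertB2.comm (F := K)
  have hπ : ∀ r < chevB2.nroots, ∀ t, π (chevB2.stGen K r t) = xg C r t := fun r hr t =>
    stHom_gen C fullCertB2.comm hr t
  let π' : chevB2.SteinbergGroup K →* ↥(chevB2.group K) := π.codRestrict _ fun g =>
    (stHom_range C fullCertB2 π hπ).le ⟨g, rfl⟩
  have hsurj : Function.Surjective π' := fun y => by
    obtain ⟨g, hg⟩ := (stHom_range C fullCertB2 π hπ).ge y.2
    exact ⟨g, Subtype.ext hg⟩
  let ψ : chevB2.SteinbergGroup K →* Cfsg.PSU 4 F 2 := (QuotientGroup.mk' _).comp φ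
  let θ₀ : chevB2.SteinbergGroup K →* ↥ψ.range ⧸ Subgroup.center ↥ψ.range :=
    (QuotientGroup.mk' _).comp ψ.rangeRestrict
  have hker : π'.ker ≤ θ₀.ker := fun g hg => by
    have hg' : π g = 1 := congrArg Subtype.val hg
    have hc := (st_ker_le C fullCertB2 (by decide +kernel) π hπ hg').2
    exact (QuotientGroup.eq_one_iff _).2 (B2Sp.map_center_le _ ψ.rangeRestrict_surjective hc)
  let θ := π'.liftOfSurjective hsurj ⟨θ₀, hker⟩
  have hθ : ∀ g, θ (π' g) = θ₀ g := fun g => MonoidHom.liftOfRightInverse_comp_apply _ _ _ _ g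
  have hcentral : ¬ ∀ x y : chevB2.SteinbergGroup K, Commute (ψ x) (ψ y) := by
    intro hall
    have hc4 : ∀ a b : ℕ, a < 8 → b < 3 →
        φ (chevB2.stGen K a (b : K)) = ev (CodeHom.tblAt tbl a b) ∧ P (CodeHom.tblAt tbl a b) :=
      fun a b ha hb => hφ a ha b hb
    let s : ℕ → ℕ → chevB2.SteinbergGroup K := fun a b => chevB2.stGen K a (b : K)
    let c := s 4 2 * (s 5 2 * (s 4 1 * s 5 1))
    have hcw : P cm ∧ φ c = ev cm := by
      have gen : ∀ x₁ x₂ x₃ x₄ : ℕ, φ (s 4 2) = ev x₁ ∧ P x₁ → φ (s 5 2) = ev x₂ ∧ P x₂ →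
          φ (s 4 1) = ev x₃ ∧ P x₃ → φ (s 5 1) = ev x₄ ∧ P x₄ →
          P (mulM fc4 4 x₁ (mulM fc4 4 x₂ (mulM fc4 4 x₃ (mulM fc4 4 x₄ (oneM 4))))) ∧
            φ c = ev (mulM fc4 4 x₁ (mulM fc4 4 x₂ (mulM fc4 4 x₃ (mulM fc4 4 x₄ (oneM 4))))) := by
        intro x₁ x₂ x₃ x₄ ⟨a1, g1⟩ ⟨a2, g2⟩ ⟨a3, g3⟩ ⟨a4, g4⟩
        obtain ⟨m4, v4⟩ := X.mul_spec _ _ g4 X.one_good
        obtain ⟨m3, v3⟩ := X.mul_spec _ _ g3 m4
        obtain ⟨m2, v2⟩ := X.mul_spec _ _ g2 m3
        obtain ⟨m1, v1⟩ := X.mul_spec _ _ g1 m2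
        refine ⟨m1, ?_⟩
        refine Eq.trans ?_ v1.symm
        rw [v2, v3, v4, X.ev_one, mul_one]
        simp only [c, map_mul]
        rw [a1, a2, a3, a4]
      unfold cm
      exact gen _ _ _ _ (hc4 4 2 (by norm_num) (by norm_num)) (hc4 5 2 (by norm_num) (by norm_num))
        (hc4 4 1 (by norm_num) (by norm_num)) (hc4 5 1 (by norm_num) (by norm_num))
    have hone : ψ c = 1 := by
      have e1 : ψ (s 4 2) * ψ (s 4 1) = 1 := by
        rw [← map_mul]
        have : φ (s 4 2 * s 4 1) = 1 := by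
          obtain ⟨a1, g1⟩ := hc4 4 2 (by norm_num) (by norm_num)
          obtain ⟨a3, g3⟩ := hc4 4 1 (by norm_num) (by norm_num)
          rw [map_mul, a1, a3]
          show ev _ * ev _ = 1
          rw [← (X.mul_spec _ _ g1 g3).2, ← X.ev_one]
          exact congrArg ev (show mulM fc4 4 (CodeHom.tblAt tbl 4 2) (CodeHom.tblAt tbl 4 1) = oneM 4 by decide +kernel)
        show QuotientGroup.mk' _ (φ _) = 1
        rw [this, map_one]
      have e2 : ψ (s 5 2) * ψ (s 5 1) = 1 := by
        rw [← map_mul]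
        have : φ (s 5 2 * s 5 1) = 1 := by
          obtain ⟨a1, g1⟩ := hc4 5 2 (by norm_num) (by norm_num)
          obtain ⟨a3, g3⟩ := hc4 5 1 (by norm_num) (by norm_num)
          rw [map_mul, a1, a3]
          show ev _ * ev _ = 1
          rw [← (X.mul_spec _ _ g1 g3).2, ← X.ev_one]
          exact congrArg ev (show mulM fc4 4 (CodeHom.tblAt tbl 5 2) (CodeHom.tblAt tbl 5 1) = oneM 4 by decide +kernel)
        show QuotientGroup.mk' _ (φ _) = 1
        rw [this, map_one]
      simp only [c, map_mul]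
      rw [(hall (s 4 1) (s 5 1)).eq, ← mul_assoc (ψ (s 5 2)), e2, one_mul, e1]
    have hcen : φ c ∈ Subgroup.center (Cfsg.SU 4 F 2) := (QuotientGroup.eq_one_iff _).1 hone
    rw [hcw.2] at hcen
    obtain ⟨a0, g0⟩ := hc4 0 1 (by norm_num) (by norm_num)
    have hcomm := Subgroup.mem_center_iff.1 hcen (ev (CodeHom.tblAt tbl 0 1))
    obtain ⟨mA, vA⟩ := X.mul_spec _ _ g0 hcw.1
    obtain ⟨mB, vB⟩ := X.mul_spec _ _ hcw.1 g0
    have hmat : evM e 4 (mulM fc4 4 cm (CodeHom.tblAt tbl 0 1)) = evM e 4 (mulM fc4 4 (CodeHom.tblAt tbl 0 1) cm) := by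
      rw [← hev _ mA, ← hev _ mB]
      exact congrArg suMat ((vB.trans hcomm.symm).trans vA.symm)
    have key : (List.range 16).all (fun k => Nat.beq (slot (mulM fc4 4 cm (CodeHom.tblAt tbl 0 1)) 4 k)
        (slot (mulM fc4 4 (CodeHom.tblAt tbl 0 1) cm) 4 k)) = true := by
      simp only [List.all_eq_true, List.mem_range, Nat.beq_eq]
      exact fun k hk => evM_inj R mB.1 mA.1 hmat hk
    revert key
    decide +kernel
  have hnb := Cfsg.Lib.Chev.B2Sp.nonempty_equiv_psp (F := K)
  obtain ⟨eB⟩ := hnb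
  haveI : IsSimpleGroup ↥(chevB2.group K) := by
    haveI := Cfsg.Agent.S0270.result (F := K) 2 le_rfl (fun _ => by rw [hK])
    exact eB.isSimpleGroup
  have hinj : Function.Injective θ := by
    rw [← MonoidHom.ker_eq_bot_iff]
    refine (IsSimpleGroup.eq_bot_or_eq_top_of_normal θ.ker inferInstance).resolve_right fun htop => hcentral ?_
    intro x y
    have h1 : θ₀ y = 1 := by rw [← hθ]; exact MonoidHom.mem_ker.1 (htop ▸ Subgroup.mem_top _)
    have hy : ψ.rangeRestrict y ∈ Subgroup.center ↥ψ.range := (QuotientGroup.eq_one_iff _).1 h1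
    exact congrArg Subtype.val (Subgroup.mem_center_iff.1 hy (ψ.rangeRestrict x))
  have hcardB : Nat.card ↥(chevB2.group K) = 25920 := by
    have h := Cfsg.Agent.S1060.result (F := K) hK
    rw [show Nat.gcd 2 (3 - 1) = 2 from rfl] at h
    norm_num [← Nat.card_eq_fintype_card] at h
    omega
  have h1 := Nat.card_le_card_of_injective θ hinj
  have h2 := Subgroup.card_eq_card_quotient_mul_card_subgroup (Subgroup.center ↥ψ.range)
  have h3 : Nat.card ↥ψ.range ≤ 25920 := (card_psu hF) ▸ Subgroup.card_le_card_group ψ.range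
  rw [hcardB] at h1
  have hZ1 : 1 ≤ Nat.card ↥(Subgroup.center ↥ψ.range) := Nat.one_le_iff_ne_zero.2 Nat.card_pos.ne'
  have hq : Nat.card (↥ψ.range ⧸ Subgroup.center ↥ψ.range) = 25920 := by nlinarith
  have hZ : Nat.card ↥(Subgroup.center ↥ψ.range) = 1 := by nlinarith
  have htop : ψ.range = ⊤ := Subgroup.eq_top_of_card_eq _ (by rw [card_psu hF]; nlinarith)
  have hbij : Function.Bijective θ :=
    (Nat.bijective_iff_injective_and_card θ).2 ⟨hinj, by rw [hcardB, hq]⟩
  let i1 : ↥ψ.range ⧸ Subgroup.center ↥ψ.range ≃* ↥ψ.range :=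
    (QuotientGroup.quotientMulEquivOfEq (Subgroup.card_eq_one.1 hZ)).trans QuotientGroup.quotientBot
  let i2 : ↥ψ.range ≃* Cfsg.PSU 4 F 2 := (MulEquiv.subgroupCongr htop).trans Subgroup.topEquiv
  exact ⟨((((MulEquiv.ofBijective θ hbij).trans i1).trans i2).symm).trans eB⟩

end Cfsg.Lib.Chev.IsoB2SU
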