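import Cfsg.Agent.Lib.Chev.LangRing

/-!
Lang's theorem for matrix groups covered by a single polynomial parametrisation.
-/

set_option autoImplicit false
set_option linter.unusedSectionVars false

namespace Cfsg.Lib.Chev

open Matrix MvPolynomial

section Extend

/-- Homomorphisms into an algebraically closed field extend along integral extensions. -/
theorem exists_extend_integral {A B K : Type*} [CommRing A] [CommRing B] [Field K] [IsAlgClosed K] [Algebra A B]
    [Algebra.IsIntegral A B] (hinj : Function.Injective (algebraMap A B)) (χ : A →+* K) (hχ : Function.Surjective χ) :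
    ∃ Ψ : B →+* K, ∀ a, Ψ (algebraMap A B a) = χ a := by
  haveI hmax : (RingHom.ker χ).IsMaximal := RingHom.ker_isMaximal_of_surjective χ hχ
  have hk : RingHom.ker (algebraMap A B) ≤ RingHom.ker χ := by
    rw [(RingHom.injective_iff_ker_eq_bot _).1 hinj]; exact bot_le
  obtain ⟨Q, hQ, hQc⟩ := Ideal.exists_ideal_over_maximal_of_isIntegral (S := B) (RingHom.ker χ) hk
  haveI := hQ
  letI : Field (B ⧸ Q) := Ideal.Quotient.field Q
  let g : K →+* B ⧸ Q := RingHom.liftOfSurjective χ hχ
    ⟨(Ideal.Quotient.mk Q).comp (algebraMap A B), fun a ha => by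
      rw [← hQc, Ideal.mem_comap] at ha
      rw [RingHom.mem_ker, RingHom.comp_apply]
      exact Ideal.Quotient.eq_zero_iff_mem.2 ha⟩
  have hg : ∀ a, g (χ a) = Ideal.Quotient.mk Q (algebraMap A B a) := fun a =>
    RingHom.liftOfRightInverse_comp_apply _ _ _ ⟨(Ideal.Quotient.mk Q).comp (algebraMap A B), _⟩ a
  letI : Algebra K (B ⧸ Q) := g.toAlgebra
  haveI : Algebra.IsIntegral K (B ⧸ Q) := ⟨fun z => by
    obtain ⟨b, rfl⟩ := Ideal.Quotient.mk_surjective z
    obtain ⟨pp, hpm, hpe⟩ := Algebra.IsIntegral.isIntegral (R := A) b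
    refine ⟨pp.map χ, hpm.map χ, ?_⟩
    have := congrArg (Ideal.Quotient.mk Q) hpe
    rw [Polynomial.hom_eval₂, map_zero] at this
    rw [Polynomial.eval₂_map, ← this]
    congr 1
    exact RingHom.ext fun a => hg a⟩
  let e : K ≃+* B ⧸ Q := RingEquiv.ofBijective (algebraMap K (B ⧸ Q)) IsAlgClosed.algebraMap_bijective_of_isIntegral
  refine ⟨(e.symm : B ⧸ Q →+* K).comp (Ideal.Quotient.mk Q), fun a => ?_⟩
  show e.symm (Ideal.Quotient.mk Q _) = _
  rw [← hg]
  exact e.symm_apply_apply _

set_option maxHeartbeats 1000000 in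
/-- Extending points of an algebra generated by polynomials. -/
theorem exists_point {K A : Type*} [Field K] [IsAlgClosed K] [CommRing A] [IsDomain A] [Algebra K A]
    {ι κ : Type*} [Fintype ι] (emb : A →ₐ[K] MvPolynomial ι K) (hemb : Function.Injective emb)
    (a : κ → MvPolynomial ι K) (e : κ → A) (he : ∀ k, emb (e k) = a k) :
    ∃ δ : A, δ ≠ 0 ∧ ∀ χ : A →+* K, (∀ c, χ (algebraMap K A c) = c) → χ δ ≠ 0 →
      ∃ v : ι → K, ∀ k, eval v (a k) = χ (e k) := by
  classical
  let E := FractionRing A
  let R' := FractionRing (MvPolynomial ι K)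
  have hinj : Function.Injective ((algebraMap (MvPolynomial ι K) R').comp emb.toRingHom) :=
    (IsFractionRing.injective (MvPolynomial ι K) R').comp hemb
  let ψ : E →+* R' := IsFractionRing.lift hinj
  have hψ : ∀ b : A, ψ (algebraMap A E b) = algebraMap _ R' (emb b) :=
    IsFractionRing.lift_algebraMap hinj
  have hψK : ∀ c : K, ψ (algebraMap K E c) = algebraMap (MvPolynomial ι K) R' (C c) := fun c => by
    rw [IsScalarTower.algebraMap_apply K A E, hψ, emb.commutes]; rfl
  let I : Ideal (MvPolynomial ι E) :=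
    Ideal.span (Set.range fun k => MvPolynomial.map (algebraMap K E) (a k) - C (algebraMap A E (e k)))
  have hI : I ≠ ⊤ := by
    intro htop
    have hle : I ≤ RingHom.ker (eval₂Hom ψ fun i => algebraMap (MvPolynomial ι K) R' (X i)) := by
      refine Ideal.span_le.2 ?_
      rintro _ ⟨k, rfl⟩
      rw [SetLike.mem_coe, RingHom.mem_ker, map_sub, eval₂Hom_C, hψ, sub_eq_zero, eval₂Hom_map_hom,
        show ψ.comp (algebraMap K E) = (algebraMap (MvPolynomial ι K) R').comp C from RingHom.ext hψK, he]
      have h2 : eval₂Hom ((algebraMap (MvPolynomial ι K) R').comp C) (fun i => algebraMap (MvPolynomial ι K) R' (X i)) =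
          algebraMap (MvPolynomial ι K) R' :=
        MvPolynomial.ringHom_ext (fun r => by rw [eval₂Hom_C]; rfl) (fun i => by rw [eval₂Hom_X'])
      rw [h2]
    have := hle (htop ▸ Submodule.mem_top (x := (1 : MvPolynomial ι E)))
    rw [RingHom.mem_ker, map_one] at this
    exact one_ne_zero this
  obtain ⟨M, hM, hIM⟩ := Ideal.exists_le_maximal I hI
  let L := AlgebraicClosure E
  obtain ⟨x, hx⟩ := eq_vanishingIdeal_singleton_of_isMaximal L hM
  have hxe : ∀ k, eval₂ (algebraMap K L) x (a k) = algebraMap A L (e k) := by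
    intro k
    have hk : MvPolynomial.map (algebraMap K E) (a k) - C (algebraMap A E (e k)) ∈ M :=
      hIM (Ideal.subset_span ⟨k, rfl⟩)
    rw [hx, mem_vanishingIdeal_singleton_iff, map_sub, aeval_C, aeval_map_algebraMap, sub_eq_zero,
      ← IsScalarTower.algebraMap_apply] at hk
    exact hk
  have hAL : Function.Injective (algebraMap A L) := by
    rw [IsScalarTower.algebraMap_eq A E L]
    exact (algebraMap E L).injective.comp (IsFractionRing.injective A E)
  have halg : ∀ i, IsAlgebraic A (x i) := fun i =>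
    (IsFractionRing.isAlgebraic_iff A E L).2 (Algebra.IsAlgebraic.isAlgebraic (x i))
  choose y hy hyi using fun i => (halg i).exists_integral_multiple
  let δ := ∏ i, y i
  have hwi : ∀ i, IsIntegral A (δ • x i) := fun i => by
    have h1 : δ = (∏ j ∈ Finset.univ.erase i, y j) * y i :=
      (Finset.prod_erase_mul _ _ (Finset.mem_univ i)).symm
    rw [h1, mul_smul]
    exact (hyi i).smul _
  refine ⟨δ, Finset.prod_ne_zero_iff.2 fun i _ => hy i, fun χ hχK hχδ => ?_⟩
  let C' := integralClosure A L
  let w : ι → ↥C' := fun i => ⟨δ • x i, hwi i⟩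
  have hCinj : Function.Injective (algebraMap A ↥C') := fun b b' h =>
    hAL (congrArg (Subtype.val : ↥C' → L) h)
  obtain ⟨Ψ, hΨ⟩ := exists_extend_integral hCinj χ fun c => ⟨_, hχK c⟩
  refine ⟨fun i => Ψ (w i) / χ δ, fun k => ?_⟩
  have hN : ∀ d ∈ (a k).support, ∑ i, d i ≤ (a k).totalDegree := fun d hd => by
    refine le_trans (le_of_eq ?_) (le_totalDegree hd)
    rw [Finsupp.sum_fintype _ _ fun _ => rfl]
  have key : algebraMap A ↥C' (δ ^ (a k).totalDegree * e k) =
      ∑ d ∈ (a k).support, algebraMap A ↥C' (algebraMap K A ((a k).coeff d) * δ ^ ((a k).totalDegree - ∑ i, d i)) *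
        ∏ i, w i ^ d i := by
    refine Subtype.ext ?_
    rw [AddSubmonoidClass.coe_finset_sum]
    show algebraMap A L _ = _
    rw [map_mul, ← hxe, eval₂_eq', Finset.mul_sum]
    refine Finset.sum_congr rfl fun d hd => ?_
    have hKL : algebraMap K L ((a k).coeff d) = algebraMap A L (algebraMap K A ((a k).coeff d)) :=
      IsScalarTower.algebraMap_apply K A L _
    simp only [Subalgebra.coe_mul, Subalgebra.coe_algebraMap, SubmonoidClass.coe_finset_prod, SubmonoidClass.coe_pow,
      w, Algebra.smul_def, mul_pow, Finset.prod_mul_distrib, Finset.prod_pow_eq_pow_sum, map_mul, map_pow, hKL]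
    conv_lhs => rw [← Nat.sub_add_cancel (hN d hd), pow_add]
    ring
  have := congrArg Ψ key
  simp only [map_sum, map_mul, map_prod, map_pow, hΨ, hχK] at this
  refine mul_left_cancel₀ (pow_ne_zero (a k).totalDegree hχδ) (Eq.trans ?_ this.symm)
  rw [eval_eq', Finset.mul_sum]
  refine Finset.sum_congr rfl fun d hd => ?_
  simp only [div_pow, Finset.prod_div_distrib, Finset.prod_pow_eq_pow_sum]
  conv_lhs => rw [← Nat.sub_add_cancel (hN d hd), pow_add]
  field_simp

/-- Almost every point satisfying the relations of a polynomial map is in its image. -/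
theorem exists_image_open {K : Type*} [Field K] [IsAlgClosed K] {ι κ : Type*} [Fintype ι]
    (a : κ → MvPolynomial ι K) :
    ∃ F : MvPolynomial κ K, aeval a F ≠ 0 ∧ ∀ h : κ → K,
      (∀ G : MvPolynomial κ K, aeval a G = 0 → eval h G = 0) → eval h F ≠ 0 →
        ∃ v : ι → K, ∀ k, eval v (a k) = h k := by
  set ψa := (aeval (R := K) a).rangeRestrict with hψa
  have hψs : Function.Surjective ψa := AlgHom.rangeRestrict_surjective _
  obtain ⟨δ, hδ, hext⟩ := exists_point (aeval (R := K) a).range.val Subtype.val_injective a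
    (fun k => ψa (X k)) (fun k => aeval_X a k)
  obtain ⟨F, hF⟩ := hψs δ
  refine ⟨F, fun h0 => hδ (hF ▸ Subtype.ext h0), fun h hh hne => ?_⟩
  let χ : ↥(aeval (R := K) a).range →+* K := RingHom.liftOfSurjective (ψa : MvPolynomial κ K →+* _) hψs
    ⟨eval h, fun G hG => hh G (congrArg Subtype.val hG)⟩
  have hχ : ∀ G, χ (ψa G) = eval h G := fun G =>
    RingHom.liftOfRightInverse_comp_apply _ _ _ ⟨eval h, _⟩ G
  obtain ⟨v, hv⟩ := hext χ (fun c => by
    rw [show algebraMap K ↥(aeval (R := K) a).range c = ψa (C c) from Subtype.ext (aeval_C a c).symm, hχ, eval_C])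
    (by rwa [← hF, hχ])
  exact ⟨v, fun k => by rw [hv k, hχ, eval_X]⟩

end Extend

section Main

variable {n : Type*} [Fintype n] [DecidableEq n] {K : Type*} [Field K]

theorem glPt_injective {E : Type*} [CommRing E] : Function.Injective (glPt : GL n E → MVar n → E) := fun a b h =>
  Units.ext (Matrix.ext fun i j => congrFun h (Sum.inl (i, j)))

theorem eval_aeval_glPt {ι : Type*} (a : GL n (MvPolynomial ι K)) (v : ι → K) (f : MvPolynomial (MVar n) K) :
    eval v (aeval (glPt a) f) = eval (glPt (Matrix.GeneralLinearGroup.map (eval v) a)) f := by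
  rw [glPt_map]
  have h : (eval v).comp (aeval (R := K) (glPt a)).toRingHom = eval (⇑(eval v) ∘ glPt a) :=
    MvPolynomial.ringHom_ext (fun r => by simp) (fun i => by simp)
  exact RingHom.congr_fun h f

set_option maxHeartbeats 1000000 in
/-- **Lang's theorem.** -/
theorem lang_theorem [IsAlgClosed K] {p : ℕ} [ExpChar K p] {f : ℕ} (hq : 2 ≤ p ^ f) {ι : Type*} [Fintype ι]
    (S : Subgroup (GL n K)) (a : GL n (MvPolynomial ι K))
    (hS : ∀ g, g ∈ S ↔ ∃ v : ι → K, Matrix.GeneralLinearGroup.map (eval v) a = g)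
    (hσ : ∀ g ∈ S, Matrix.GeneralLinearGroup.map (iterateFrobenius K p f) g ∈ S)
    (P : GL n K) (hP : ∀ g ∈ S, P * g * P⁻¹ ∈ S) {y : GL n K} (hy : y ∈ S) :
    ∃ g ∈ S, g⁻¹ * P * Matrix.GeneralLinearGroup.map (iterateFrobenius K p f) g * P⁻¹ = y := by
  classical
  haveI : Infinite K := IsAlgClosed.instInfinite
  let Ω := FractionRing (MvPolynomial ι K)
  haveI : ExpChar (MvPolynomial ι K) p := expChar_of_injective_ringHom (C_injective ι K) p
  haveI : ExpChar Ω p := expChar_of_injective_ringHom (IsFractionRing.injective (MvPolynomial ι K) Ω) p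
  let al := algebraMap (MvPolynomial ι K) Ω
  let g := Matrix.GeneralLinearGroup.map al a
  have hev : ∀ (b : GL n (MvPolynomial ι K)) (F : MvPolynomial (MVar n) K),
      aeval (glPt (Matrix.GeneralLinearGroup.map al b)) F = al (aeval (glPt b) F) := fun b F => by
    rw [glPt_map]
    exact (AlgHom.congr_fun (MvPolynomial.comp_aeval (f := glPt b)
      (IsScalarTower.toAlgHom K (MvPolynomial ι K) Ω)) F).symm
  have hvan : ∀ (b : GL n (MvPolynomial ι K)) (F : MvPolynomial (MVar n) K),
      (∀ v, eval (glPt (Matrix.GeneralLinearGroup.map (eval v) b)) F = 0) → aeval (glPt b) F = 0 := fun b F h =>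
    MvPolynomial.funext fun v => by rw [eval_aeval_glPt, h, map_zero]
  have hg : ∀ F, F ∈ vanishing (S : Set (GL n K)) ↔ aeval (glPt g) F = 0 := by
    intro F
    rw [hev, map_eq_zero_iff _ (IsFractionRing.injective (MvPolynomial ι K) Ω)]
    refine ⟨fun hF => hvan a F fun v => hF _ ((hS _).2 ⟨v, rfl⟩), fun h s hs => ?_⟩
    obtain ⟨v, rfl⟩ := (hS s).1 hs
    rw [← eval_aeval_glPt, h, map_zero]
  let PR := Matrix.GeneralLinearGroup.map (C : K →+* MvPolynomial ι K) P
  let xR := a⁻¹ * PR * Matrix.GeneralLinearGroup.map (iterateFrobenius (MvPolynomial ι K) p f) a * PR⁻¹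
  have hxv : ∀ v, Matrix.GeneralLinearGroup.map (eval v) xR ∈ S := by
    intro v
    have hgv : Matrix.GeneralLinearGroup.map (eval v) a ∈ S := (hS _).2 ⟨v, rfl⟩
    have h1 : Matrix.GeneralLinearGroup.map (eval v) PR = P := by
      refine Units.ext (Matrix.ext fun i j => ?_)
      exact eval_C _
    have h2 : Matrix.GeneralLinearGroup.map (eval v) (Matrix.GeneralLinearGroup.map
        (iterateFrobenius (MvPolynomial ι K) p f) a) =
        Matrix.GeneralLinearGroup.map (iterateFrobenius K p f) (Matrix.GeneralLinearGroup.map (eval v) a) := by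
      refine Units.ext (Matrix.ext fun i j => ?_)
      exact RingHom.map_iterateFrobenius (eval v) p _ f
    simp only [xR, map_mul, map_inv, h1, h2]
    rw [show (Matrix.GeneralLinearGroup.map (eval v) a)⁻¹ * P *
      Matrix.GeneralLinearGroup.map (iterateFrobenius K p f) (Matrix.GeneralLinearGroup.map (eval v) a) * P⁻¹ =
      (Matrix.GeneralLinearGroup.map (eval v) a)⁻¹ * (P *
      Matrix.GeneralLinearGroup.map (iterateFrobenius K p f) (Matrix.GeneralLinearGroup.map (eval v) a) * P⁻¹) by group]
    exact mul_mem (inv_mem hgv) (hP _ (hσ _ hgv))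
  have hx : ∀ F ∈ vanishing (S : Set (GL n K)), aeval (glPt (g⁻¹ * Matrix.GeneralLinearGroup.map (algebraMap K Ω) P *
      Matrix.GeneralLinearGroup.map (iterateFrobenius Ω p f) g *
        (Matrix.GeneralLinearGroup.map (algebraMap K Ω) P)⁻¹)) F = 0 := by
    intro F hF
    have h1 : Matrix.GeneralLinearGroup.map al PR = Matrix.GeneralLinearGroup.map (algebraMap K Ω) P :=
      Units.ext (Matrix.ext fun i j => (IsScalarTower.algebraMap_apply K (MvPolynomial ι K) Ω _).symm)
    have h2 : Matrix.GeneralLinearGroup.map al (Matrix.GeneralLinearGroup.map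
        (iterateFrobenius (MvPolynomial ι K) p f) a) = Matrix.GeneralLinearGroup.map (iterateFrobenius Ω p f) g := by
      refine Units.ext (Matrix.ext fun i j => ?_)
      exact RingHom.map_iterateFrobenius al p _ f
    rw [show g⁻¹ * Matrix.GeneralLinearGroup.map (algebraMap K Ω) P *
      Matrix.GeneralLinearGroup.map (iterateFrobenius Ω p f) g *
        (Matrix.GeneralLinearGroup.map (algebraMap K Ω) P)⁻¹ = Matrix.GeneralLinearGroup.map al xR by
      simp only [xR, map_mul, map_inv, h1, h2, g], hev, hvan xR F (fun v => hF _ (hxv v)), map_zero]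
  obtain ⟨h, hh, hhy⟩ := lang_lift hq (iterateFrobenius K p f) (fun _ => iterateFrobenius_def p f _)
    (iterateFrobenius Ω p f) (fun _ => iterateFrobenius_def p f _) P g hg hx y (fun F hF => hF y hy)
  refine ⟨h, ?_, hhy⟩
  -- the points satisfying the equations lie in `S`
  obtain ⟨F, hF0, hF⟩ := exists_image_open (glPt a)
  have hne : F ∉ vanishing (S : Set (GL n K)) := fun hc => hF0 (hvan a F fun v => hc _ ((hS _).2 ⟨v, rfl⟩))
  have hin : ∀ z : GL n K, InClosure (S : Set (GL n K)) z → eval (glPt z) F ≠ 0 → z ∈ S := by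
    intro z hz hz'
    obtain ⟨v, hv⟩ := hF (glPt z) (fun G hG => hz G fun s hs => by
      obtain ⟨v, rfl⟩ := (hS s).1 hs
      rw [← eval_aeval_glPt, hG, map_zero]) hz'
    refine (hS z).2 ⟨v, glPt_injective ?_⟩
    rw [glPt_map]
    exact funext hv
  have hhc : h ∈ closureSubgroup S := fun G hG => hh G hG
  obtain ⟨s, hs, hsne⟩ : ∃ s ∈ S, eval (glPt (h * s)) F ≠ 0 := by
    by_contra hc
    push Not at hc
    refine hne fun t ht => ?_
    have h2 := mul_mem (inv_mem hhc) (show t ∈ closureSubgroup S from fun G hG => hG t ht) (bind₁ (subLeft h) F)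
      (fun s hs => by rw [eval_subLeft]; exact hc s hs)
    rw [eval_subLeft, mul_inv_cancel_left] at h2
    exact h2
  have hhs : h * s ∈ S := hin _ (mul_mem hhc (show s ∈ closureSubgroup S from fun G hG => hG s hs)) hsne
  simpa using mul_mem hhs (inv_mem hs)

end Main

end Cfsg.Lib.Chev
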