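import Mathlib

/-!
Finite extensions from Frobenius-linear relations, vanishing ideals of matrix groups, and the lifting step of Lang's
theorem.
-/

set_option autoImplicit false
set_option linter.unusedSectionVars false

namespace Cfsg.Lib.Chev

open Matrix

section Frob

variable {A B : Type*} [CommRing A] [CommRing B] [Algebra A B] {ι : Type*} [Fintype ι] [DecidableEq ι]

/-- Elements whose `q`-th powers are linear combinations of the elements are integral. -/
theorem isIntegral_of_frob_linear {q : ℕ} (hq : 2 ≤ q) (v : ι → B) (a : ι → ι → A)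
    (h : ∀ i, v i ^ q = ∑ k, a i k • v k) (i : ι) : IsIntegral A (v i) := by
  classical
  let mono : (ι → ℕ) → B := fun e => ∏ j, v j ^ e j
  let M : Submodule A B := Submodule.span A (mono '' {e : ι → ℕ | ∀ j, e j < q})
  have hall : ∀ (d : ℕ) (e : ι → ℕ), ∑ j, e j = d → mono e ∈ M := by
    intro d
    induction d using Nat.strong_induction_on with
    | _ d ih =>
      intro e he
      by_cases hlt : ∀ j, e j < q
      · exact Submodule.subset_span ⟨e, hlt, rfl⟩
      · push Not at hlt
        obtain ⟨j, hj⟩ := hlt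
        have e1 : mono e = (∑ k, a j k • v k) * mono (Function.update e j (e j - q)) := by
          simp only [mono]
          rw [← h j, ← Finset.mul_prod_erase _ _ (Finset.mem_univ j), ← Finset.mul_prod_erase _ _ (Finset.mem_univ j),
            Function.update_self, ← mul_assoc, ← pow_add, Nat.add_sub_cancel' hj]
          exact congrArg _ (Finset.prod_congr rfl fun k hk => by
            rw [Function.update_of_ne (Finset.ne_of_mem_erase hk)])
        rw [e1, Finset.sum_mul]
        refine Submodule.sum_mem _ fun k _ => ?_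
        rw [smul_mul_assoc]
        refine Submodule.smul_mem _ _ ?_
        have e2 : v k * mono (Function.update e j (e j - q)) =
            mono (Function.update (Function.update e j (e j - q)) k ((Function.update e j (e j - q)) k + 1)) := by
          simp only [mono]
          conv_lhs => rw [← Finset.mul_prod_erase _ _ (Finset.mem_univ k)]
          conv_rhs => rw [← Finset.mul_prod_erase _ _ (Finset.mem_univ k)]
          rw [Function.update_self, pow_succ', mul_assoc]
          exact congrArg _ (congrArg _ (Finset.prod_congr rfl fun l hl => by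
            rw [Function.update_of_ne (Finset.ne_of_mem_erase hl) (f := Function.update e j (e j - q))]))
        rw [e2]
        refine ih _ ?_ _ rfl
        rw [← he]
        set e' := Function.update e j (e j - q) with he'
        have h1 : ∑ l, Function.update e' k (e' k + 1) l = (∑ l, e' l) + 1 := by
          rw [Finset.sum_update_of_mem (Finset.mem_univ k), Finset.sdiff_singleton_eq_erase,
            ← Finset.add_sum_erase _ e' (Finset.mem_univ k)]
          ring
        have h2 : (∑ l, e' l) + q = ∑ l, e l := by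
          rw [he', Finset.sum_update_of_mem (Finset.mem_univ j), Finset.sdiff_singleton_eq_erase,
            ← Finset.add_sum_erase _ e (Finset.mem_univ j)]
          omega
        omega
  have hsub : (Algebra.adjoin A (Set.range v)).toSubmodule = M := by
    refine le_antisymm ?_ (Submodule.span_le.2 ?_)
    · rw [Algebra.adjoin_eq_span]
      refine Submodule.span_le.2 fun x hx => ?_
      obtain ⟨e, rfl⟩ : ∃ e : ι → ℕ, mono e = x := by
        induction hx using Submonoid.closure_induction with
        | mem y hy =>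
          obtain ⟨k, rfl⟩ := hy
          refine ⟨Pi.single k 1, ?_⟩
          simp only [mono]
          rw [Finset.prod_eq_single k (fun b _ hb => by simp [Pi.single_eq_of_ne hb]) (by simp)]
          simp
        | one => exact ⟨0, by simp [mono]⟩
        | mul y z _ _ hy hz =>
          obtain ⟨e, rfl⟩ := hy
          obtain ⟨f, rfl⟩ := hz
          exact ⟨e + f, by simp [mono, pow_add, Finset.prod_mul_distrib]⟩
      exact hall _ e rfl
    · rintro _ ⟨e, -, rfl⟩
      exact Subalgebra.prod_mem _ fun k _ => Subalgebra.pow_mem _ (Algebra.subset_adjoin (Set.mem_range_self k)) _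
  refine IsIntegral.of_mem_of_fg (Algebra.adjoin A (Set.range v)) ?_ _ (Algebra.subset_adjoin (Set.mem_range_self i))
  rw [hsub]
  refine Submodule.fg_span (Set.Finite.image _ ?_)
  refine Set.Finite.subset (Set.Finite.pi' (t := fun _ : ι => Set.Iio q) fun _ => Set.finite_Iio q) fun e he => ?_
  exact he

end Frob

section Points

variable {n : Type*} [Fintype n] [DecidableEq n] {E : Type*} [CommRing E]

/-- Coordinates of a matrix and of its inverse. -/
abbrev MVar (n : Type*) : Type _ := (n × n) ⊕ (n × n)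

/-- The coordinates of an invertible matrix. -/
def glPt (a : GL n E) : MVar n → E :=
  Sum.elim (fun ij => (a : Matrix n n E) ij.1 ij.2) fun ij => ((a⁻¹ : GL n E) : Matrix n n E) ij.1 ij.2

theorem glPt_inv (a : GL n E) : glPt a⁻¹ = glPt a ∘ Sum.swap := by
  funext v; rcases v with v | v <;> simp [glPt]

theorem glPt_map {E' : Type*} [CommRing E'] (f : E →+* E') (a : GL n E) :
    glPt (Matrix.GeneralLinearGroup.map f a) = f ∘ glPt a := by
  funext v
  rcases v with v | v
  · rfl
  · show ((Matrix.GeneralLinearGroup.map f a)⁻¹ : GL n E') v.1 v.2 = _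
    rw [← map_inv]; rfl

/-- Substituting `X ↦ X a`. -/
noncomputable def subRight (a : GL n E) : MVar n → MvPolynomial (MVar n) E
  | Sum.inl ij => ∑ k, MvPolynomial.X (Sum.inl (ij.1, k)) * MvPolynomial.C ((a : Matrix n n E) k ij.2)
  | Sum.inr ij => ∑ k, MvPolynomial.C (((a⁻¹ : GL n E) : Matrix n n E) ij.1 k) * MvPolynomial.X (Sum.inr (k, ij.2))

/-- Substituting `X ↦ a X`. -/
noncomputable def subLeft (a : GL n E) : MVar n → MvPolynomial (MVar n) E
  | Sum.inl ij => ∑ k, MvPolynomial.C ((a : Matrix n n E) ij.1 k) * MvPolynomial.X (Sum.inl (k, ij.2))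
  | Sum.inr ij => ∑ k, MvPolynomial.X (Sum.inr (ij.1, k)) * MvPolynomial.C (((a⁻¹ : GL n E) : Matrix n n E) k ij.2)

theorem eval_subRight (a z : GL n E) (F : MvPolynomial (MVar n) E) :
    MvPolynomial.eval (glPt z) (MvPolynomial.bind₁ (subRight a) F) = MvPolynomial.eval (glPt (z * a)) F := by
  show MvPolynomial.eval₂Hom (RingHom.id E) (glPt z) _ = MvPolynomial.eval₂Hom (RingHom.id E) _ F
  rw [MvPolynomial.eval₂Hom_bind₁]
  refine congrArg (fun g => MvPolynomial.eval₂Hom (RingHom.id E) g F) (funext fun v => ?_)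
  rcases v with v | v
  · simp [subRight, glPt, Matrix.mul_apply]
  · simp [subRight, glPt, Matrix.mul_apply]

theorem eval_subLeft (a z : GL n E) (F : MvPolynomial (MVar n) E) :
    MvPolynomial.eval (glPt z) (MvPolynomial.bind₁ (subLeft a) F) = MvPolynomial.eval (glPt (a * z)) F := by
  show MvPolynomial.eval₂Hom (RingHom.id E) (glPt z) _ = MvPolynomial.eval₂Hom (RingHom.id E) _ F
  rw [MvPolynomial.eval₂Hom_bind₁]
  refine congrArg (fun g => MvPolynomial.eval₂Hom (RingHom.id E) g F) (funext fun v => ?_)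
  rcases v with v | v
  · simp [subLeft, glPt, Matrix.mul_apply]
  · simp [subLeft, glPt, Matrix.mul_apply]

theorem eval_swap (z : GL n E) (F : MvPolynomial (MVar n) E) :
    MvPolynomial.eval (glPt z) (MvPolynomial.rename Sum.swap F) = MvPolynomial.eval (glPt z⁻¹) F := by
  rw [MvPolynomial.eval_rename, glPt_inv]

/-- All equations of the set `S` hold at `a`. -/
def InClosure (S : Set (GL n E)) (a : GL n E) : Prop :=
  ∀ F : MvPolynomial (MVar n) E, (∀ s ∈ S, MvPolynomial.eval (glPt s) F = 0) → MvPolynomial.eval (glPt a) F = 0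

/-- The elements satisfying all equations of a subgroup form a subgroup. -/
def closureSubgroup (S : Subgroup (GL n E)) : Subgroup (GL n E) where
  carrier := {a | InClosure (S : Set (GL n E)) a}
  one_mem' := fun F hF => hF 1 S.one_mem
  mul_mem' := by
    intro b a hb ha F hF
    rw [← eval_subRight a b]
    refine hb _ fun s hs => ?_
    rw [eval_subRight, ← eval_subLeft]
    refine ha _ fun t ht => ?_
    rw [eval_subLeft]
    exact hF _ (S.mul_mem hs ht)
  inv_mem' := by
    intro a ha F hF
    rw [← eval_swap]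
    refine ha _ fun s hs => ?_
    rw [eval_swap]
    exact hF _ (S.inv_mem hs)

theorem mem_closureSubgroup {S : Subgroup (GL n E)} {a : GL n E} :
    a ∈ closureSubgroup S ↔ InClosure (S : Set (GL n E)) a := Iff.rfl

end Points

section Lift

variable {n : Type*} [Fintype n] [DecidableEq n] {K : Type*} [Field K]

/-- The polynomials vanishing on a set of matrices. -/
def vanishing (S : Set (GL n K)) : Set (MvPolynomial (MVar n) K) :=
  {f | ∀ s ∈ S, MvPolynomial.eval (glPt s) f = 0}

variable {Ω : Type*} [Field Ω] [Algebra K Ω]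

theorem krullDim_le_of_integral {A B : Type*} [CommRing A] [CommRing B] [Algebra A B] [Algebra.IsIntegral A B] :
    ringKrullDim B ≤ ringKrullDim A :=
  Order.krullDim_le_of_strictMono (PrimeSpectrum.comap (algebraMap A B)) fun I J h => by
    haveI := I.isPrime
    exact Ideal.IsIntegral.comap_lt_comap (I := I.asIdeal) (J := J.asIdeal) h

set_option maxHeartbeats 2000000 in
/-- Lifting points along the twisted Lang map of a generic matrix. -/
theorem lang_lift [IsAlgClosed K] {S : Set (GL n K)} {q : ℕ} (hq : 2 ≤ q) (σK : K →+* K) (hσK : ∀ x, σK x = x ^ q)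
    (σ : Ω →+* Ω) (hσ : ∀ x, σ x = x ^ q) (P : GL n K) (g : GL n Ω)
    (hg : ∀ f, f ∈ vanishing S ↔ MvPolynomial.aeval (glPt g) f = 0)
    (hx : ∀ f ∈ vanishing S, MvPolynomial.aeval (glPt (g⁻¹ * Matrix.GeneralLinearGroup.map (algebraMap K Ω) P *
      Matrix.GeneralLinearGroup.map σ g * (Matrix.GeneralLinearGroup.map (algebraMap K Ω) P)⁻¹)) f = 0)
    (y : GL n K) (hy : ∀ f ∈ vanishing S, MvPolynomial.eval (glPt y) f = 0) :
    ∃ h : GL n K, (∀ f ∈ vanishing S, MvPolynomial.eval (glPt h) f = 0) ∧
      h⁻¹ * P * Matrix.GeneralLinearGroup.map σK h * P⁻¹ = y := by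
  classical
  set ι := algebraMap K Ω with hι
  set P' := Matrix.GeneralLinearGroup.map ι P with hP'
  set x := g⁻¹ * P' * Matrix.GeneralLinearGroup.map σ g * P'⁻¹ with hxdef
  set A := (MvPolynomial.aeval (R := K) (glPt x)).range with hA
  set B := (MvPolynomial.aeval (R := K) (glPt g)).range with hB
  have hgmem : ∀ v, glPt g v ∈ B := fun v => ⟨MvPolynomial.X v, MvPolynomial.aeval_X _ v⟩
  have hxmem : ∀ v, glPt x v ∈ A := fun v => ⟨MvPolynomial.X v, MvPolynomial.aeval_X _ v⟩
  -- the generic element over `B`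
  let gB : GL n ↥B :=
    ⟨Matrix.of fun i j => ⟨_, hgmem (Sum.inl (i, j))⟩, Matrix.of fun i j => ⟨_, hgmem (Sum.inr (i, j))⟩,
      by
        refine Matrix.map_injective (f := B.val) Subtype.val_injective ?_
        simp only [Matrix.map_mul, Matrix.map_one _ (map_zero B.val) (map_one B.val)]
        exact g.mul_inv,
      by
        refine Matrix.map_injective (f := B.val) Subtype.val_injective ?_
        simp only [Matrix.map_mul, Matrix.map_one _ (map_zero B.val) (map_one B.val)]
        exact g.inv_mul⟩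
  let σB : ↥B →+* ↥B :=
    { toFun := fun b => ⟨σ b, by rw [hσ]; exact Subalgebra.pow_mem _ b.2 _⟩
      map_one' := Subtype.ext (map_one σ)
      map_mul' := fun a b => Subtype.ext (map_mul σ (a : Ω) b)
      map_zero' := Subtype.ext (map_zero σ)
      map_add' := fun a b => Subtype.ext (map_add σ (a : Ω) b) }
  let PB := Matrix.GeneralLinearGroup.map (algebraMap K ↥B) P
  let xB : GL n ↥B := gB⁻¹ * PB * Matrix.GeneralLinearGroup.map σB gB * PB⁻¹
  have hval : ∀ a b : GL n ↥B, Matrix.GeneralLinearGroup.map (B.val : ↥B →+* Ω) (a * b) =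
      Matrix.GeneralLinearGroup.map (B.val : ↥B →+* Ω) a * Matrix.GeneralLinearGroup.map (B.val : ↥B →+* Ω) b :=
    fun a b => map_mul _ a b
  have hxB : Matrix.GeneralLinearGroup.map (B.val : ↥B →+* Ω) xB = x := by
    have hgv : Matrix.GeneralLinearGroup.map (B.val : ↥B →+* Ω) gB = g := Units.ext rfl
    have hPv : Matrix.GeneralLinearGroup.map (B.val : ↥B →+* Ω) PB = P' := Units.ext rfl
    have hσv : Matrix.GeneralLinearGroup.map (B.val : ↥B →+* Ω) (Matrix.GeneralLinearGroup.map σB gB) =
        Matrix.GeneralLinearGroup.map σ g := Units.ext rfl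
    simp only [xB, hval, map_inv, hgv, hPv, hσv, hxdef]
  have hxpt : ∀ v, glPt x v = ((glPt xB v : ↥B) : Ω) := fun v => by rw [← hxB, glPt_map]; rfl
  have hAB : A ≤ B := by
    rintro _ ⟨f, rfl⟩
    show MvPolynomial.aeval (glPt x) f ∈ B
    induction f using MvPolynomial.induction_on with
    | C c => rw [MvPolynomial.aeval_C]; exact Subalgebra.algebraMap_mem _ c
    | add a b ha hb => rw [map_add]; exact Subalgebra.add_mem _ ha hb
    | mul_X a v ha => rw [map_mul, MvPolynomial.aeval_X, hxpt]; exact Subalgebra.mul_mem _ ha (glPt xB v).2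
  letI algAB : Algebra ↥A ↥B := (Subalgebra.inclusion hAB).toRingHom.toAlgebra
  haveI : IsScalarTower K ↥A ↥B := IsScalarTower.of_algebraMap_eq fun c => rfl
  -- integrality
  let aA : MVar n → MVar n → ↥A := fun v w => match v, w with
    | Sum.inl (i, j), Sum.inl (k, l) =>
      algebraMap K ↥A (((P⁻¹ : GL n K) : Matrix n n K) i k) * ∑ m, ⟨_, hxmem (Sum.inl (l, m))⟩ * algebraMap K ↥A ((P : Matrix n n K) m j)
    | Sum.inr (i, j), Sum.inr (k, l) =>
      (∑ m, algebraMap K ↥A (((P⁻¹ : GL n K) : Matrix n n K) i m) * ⟨_, hxmem (Sum.inr (m, k))⟩) * algebraMap K ↥A ((P : Matrix n n K) l j)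
    | _, _ => 0
  have hσg : Matrix.GeneralLinearGroup.map σ g = P'⁻¹ * g * (x * P') := by rw [hxdef]; group
  have hσgi : (Matrix.GeneralLinearGroup.map σ g)⁻¹ = P'⁻¹ * x⁻¹ * g⁻¹ * P' := by rw [hxdef]; group
  have hint : ∀ v, IsIntegral ↥A (⟨glPt g v, hgmem v⟩ : ↥B) := by
    refine isIntegral_of_frob_linear hq (fun v => (⟨glPt g v, hgmem v⟩ : ↥B)) aA fun v => Subtype.ext ?_
    rw [SubmonoidClass.coe_pow, AddSubmonoidClass.coe_finset_sum]
    have hsm : ∀ (a : ↥A) (b : ↥B), ((a • b : ↥B) : Ω) = (a : Ω) * (b : Ω) := fun a b => rfl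
    simp only [hsm]
    rw [← hσ, Fintype.sum_sum_type]
    rcases v with ⟨i, j⟩ | ⟨i, j⟩
    · have e : σ (glPt g (Sum.inl (i, j))) = (P'⁻¹ * g * (x * P') : GL n Ω) i j := by rw [← hσg]; rfl
      rw [e]
      simp only [aA, ZeroMemClass.coe_zero, zero_mul, Finset.sum_const_zero, add_zero, Units.val_mul,
        Matrix.mul_apply, Fintype.sum_prod_type, Subalgebra.coe_mul, AddSubmonoidClass.coe_finset_sum,
        Subalgebra.coe_algebraMap]
      have hPi : ∀ a b, ((P'⁻¹ : GL n Ω) : Matrix n n Ω) a b = ι (((P⁻¹ : GL n K) : Matrix n n K) a b) := fun a b => by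
        rw [hP', ← map_inv]; rfl
      have hPv : ∀ a b, (P' : Matrix n n Ω) a b = ι ((P : Matrix n n K) a b) := fun _ _ => rfl
      simp only [hPi, hPv, glPt, Sum.elim_inl, Finset.sum_mul, Finset.mul_sum]
      conv_lhs => enter [2, a]; rw [Finset.sum_comm]
      rw [Finset.sum_comm]
      rw [← hι]
      refine Finset.sum_congr rfl fun k _ => Finset.sum_congr rfl fun l _ => Finset.sum_congr rfl fun m _ => by ring
    · have e : σ (glPt g (Sum.inr (i, j))) = (P'⁻¹ * x⁻¹ * g⁻¹ * P' : GL n Ω) i j := by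
        rw [← hσgi, ← map_inv]; rfl
      rw [e]
      simp only [aA, ZeroMemClass.coe_zero, zero_mul, Finset.sum_const_zero, zero_add, Units.val_mul,
        Matrix.mul_apply, Fintype.sum_prod_type, Subalgebra.coe_mul, AddSubmonoidClass.coe_finset_sum,
        Subalgebra.coe_algebraMap]
      have hPi : ∀ a b, ((P'⁻¹ : GL n Ω) : Matrix n n Ω) a b = ι (((P⁻¹ : GL n K) : Matrix n n K) a b) := fun a b => by
        rw [hP', ← map_inv]; rfl
      have hPv : ∀ a b, (P' : Matrix n n Ω) a b = ι ((P : Matrix n n K) a b) := fun _ _ => rfl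
      simp only [hPi, hPv, glPt, Sum.elim_inr, Finset.sum_mul]
      rw [Finset.sum_comm, ← hι]
      refine Finset.sum_congr rfl fun k _ => ?_
      refine Finset.sum_congr rfl fun l _ => Finset.sum_congr rfl fun m _ => by ring
  haveI hI : Algebra.IsIntegral ↥A ↥B := ⟨by
    rintro ⟨_, f, rfl⟩
    induction f using MvPolynomial.induction_on with
    | C c =>
      have : (⟨_, ⟨MvPolynomial.C c, rfl⟩⟩ : ↥B) = algebraMap ↥A ↥B (algebraMap K ↥A c) :=
        Subtype.ext (MvPolynomial.aeval_C _ c)
      rw [this]; exact isIntegral_algebraMap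
    | add a b ha hb =>
      have : (⟨_, ⟨a + b, rfl⟩⟩ : ↥B) = ⟨_, ⟨a, rfl⟩⟩ + ⟨_, ⟨b, rfl⟩⟩ := Subtype.ext (map_add (MvPolynomial.aeval (glPt g)) a b)
      rw [this]; exact ha.add hb
    | mul_X a v ha =>
      have : (⟨_, ⟨a * MvPolynomial.X v, rfl⟩⟩ : ↥B) = ⟨_, ⟨a, rfl⟩⟩ * ⟨glPt g v, hgmem v⟩ :=
        Subtype.ext ((map_mul (MvPolynomial.aeval (glPt g)) a _).trans (congrArg _ (MvPolynomial.aeval_X _ v)))
      rw [this]; exact ha.mul (hint v)⟩
  -- the kernels agree
  set ψg := (MvPolynomial.aeval (R := K) (glPt g)).rangeRestrict with hψg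
  set ψx := (MvPolynomial.aeval (R := K) (glPt x)).rangeRestrict with hψx
  have hgs : Function.Surjective ψg := AlgHom.rangeRestrict_surjective _
  have hxs : Function.Surjective ψx := AlgHom.rangeRestrict_surjective _
  have hzero : ∀ f, MvPolynomial.aeval (glPt g) f = 0 → MvPolynomial.aeval (glPt x) f = 0 := fun f hf => hx f ((hg f).2 hf)
  let φ : ↥B →+* ↥A := RingHom.liftOfSurjective (ψg : MvPolynomial (MVar n) K →+* ↥B) hgs
    ⟨(ψx : MvPolynomial (MVar n) K →+* ↥A), fun f hf => Subtype.ext (hzero f (congrArg Subtype.val hf))⟩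
  have hφ : ∀ f, φ (ψg f) = ψx f := fun f =>
    RingHom.liftOfRightInverse_comp_apply _ _ _ ⟨(ψx : MvPolynomial (MVar n) K →+* ↥A), _⟩ f
  have hφs : Function.Surjective φ := fun a => by obtain ⟨f, rfl⟩ := hxs a; exact ⟨_, hφ f⟩
  have hker : ∀ f, MvPolynomial.aeval (glPt x) f = 0 → f ∈ vanishing S := by
    intro f hf
    refine (hg f).2 ?_
    by_contra hne
    have h1 : ringKrullDim ↥A + 1 ≤ ringKrullDim ↥B := ringKrullDim_succ_le_of_surjective φ hφs
      (r := ψg f) (mem_nonZeroDivisors_of_ne_zero fun e => hne (congrArg Subtype.val e))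
      (by rw [hφ]; exact Subtype.ext hf)
    have h2 := h1.trans (krullDim_le_of_integral (A := ↥A) (B := ↥B))
    have h3 : ringKrullDim ↥A ≤ ringKrullDim (MvPolynomial (MVar n) K) :=
      ringKrullDim_le_of_surjective (ψx : MvPolynomial (MVar n) K →+* ↥A) hxs
    rw [MvPolynomial.ringKrullDim_of_isNoetherianRing, ringKrullDim_eq_zero_of_field, zero_add] at h3
    have h4 : (0 : WithBot ℕ∞) ≤ ringKrullDim ↥A := ringKrullDim_nonneg_of_nontrivial
    generalize ringKrullDim ↥A = d at h2 h3 h4
    induction d using WithBot.recBotCoe with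
    | bot => simp at h4
    | coe d =>
      rw [← WithBot.coe_one, ← WithBot.coe_add, WithBot.coe_le_coe] at h2
      have h3' : d ≤ (Nat.card (MVar n) : ℕ∞) := WithBot.coe_le_coe.1 h3
      induction d using ENat.recTopCoe with
      | top => exact absurd (top_le_iff.1 h3') (ENat.coe_ne_top _)
      | coe m =>
        have : m + 1 ≤ m := by exact_mod_cast h2
        omega
  -- extending the point
  let χ : ↥A →+* K := RingHom.liftOfSurjective (ψx : MvPolynomial (MVar n) K →+* ↥A) hxs
    ⟨MvPolynomial.eval (glPt y), fun f hf => hy f (hker f (congrArg Subtype.val hf))⟩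
  have hχ : ∀ f, χ (ψx f) = MvPolynomial.eval (glPt y) f := fun f =>
    RingHom.liftOfRightInverse_comp_apply _ _ _ ⟨MvPolynomial.eval (glPt y), _⟩ f
  have hχK : ∀ c, χ (algebraMap K ↥A c) = c := fun c => by
    rw [show algebraMap K ↥A c = ψx (MvPolynomial.C c) from Subtype.ext (MvPolynomial.aeval_C _ c).symm, hχ,
      MvPolynomial.eval_C]
  have hχs : Function.Surjective χ := fun c => ⟨_, hχK c⟩
  haveI hmax : (RingHom.ker χ).IsMaximal := RingHom.ker_isMaximal_of_surjective χ hχs
  have hinj : RingHom.ker (algebraMap ↥A ↥B) ≤ RingHom.ker χ := by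
    intro a ha
    rw [show a = 0 from Subtype.ext (congrArg (Subtype.val : ↥B → Ω) ha)]
    exact Submodule.zero_mem _
  obtain ⟨Q, hQ, hQc⟩ := Ideal.exists_ideal_over_maximal_of_isIntegral (S := ↥B) (RingHom.ker χ) hinj
  haveI := hQ
  letI : Field (↥B ⧸ Q) := Ideal.Quotient.field Q
  letI algKQ : Algebra K (↥B ⧸ Q) := ((Ideal.Quotient.mk Q).comp (algebraMap K ↥B)).toAlgebra
  have hAQ : ∀ a : ↥A, Ideal.Quotient.mk Q (algebraMap ↥A ↥B a) = algebraMap K (↥B ⧸ Q) (χ a) := by
    intro a
    show _ = Ideal.Quotient.mk Q (algebraMap K ↥B (χ a))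
    rw [Ideal.Quotient.eq]
    have : a - algebraMap K ↥A (χ a) ∈ RingHom.ker χ := by rw [RingHom.mem_ker, map_sub, hχK, sub_self]
    rw [← hQc, Ideal.mem_comap, map_sub, ← IsScalarTower.algebraMap_apply] at this
    exact this
  haveI : Algebra.IsIntegral K (↥B ⧸ Q) := ⟨fun z => by
    obtain ⟨b, rfl⟩ := Ideal.Quotient.mk_surjective z
    obtain ⟨pp, hpm, hpe⟩ := hI.isIntegral b
    refine ⟨pp.map χ, hpm.map χ, ?_⟩
    have := congrArg (Ideal.Quotient.mk Q) hpe
    rw [Polynomial.hom_eval₂, map_zero] at this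
    rw [Polynomial.eval₂_map, ← this]
    congr 1
    exact RingHom.ext fun a => (hAQ a).symm⟩
  let e : K ≃+* ↥B ⧸ Q := RingEquiv.ofBijective (algebraMap K (↥B ⧸ Q)) IsAlgClosed.algebraMap_bijective_of_isIntegral
  let χ' : ↥B →+* K := (e.symm : ↥B ⧸ Q →+* K).comp (Ideal.Quotient.mk Q)
  have hχ'A : ∀ a : ↥A, χ' (algebraMap ↥A ↥B a) = χ a := fun a => by
    show e.symm (Ideal.Quotient.mk Q _) = _
    rw [hAQ]; exact e.symm_apply_apply _
  have hχ'K : ∀ c, χ' (algebraMap K ↥B c) = c := fun c => by
    rw [IsScalarTower.algebraMap_apply K ↥A ↥B, hχ'A, hχK]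
  refine ⟨Matrix.GeneralLinearGroup.map χ' gB, fun f hf => ?_, ?_⟩
  · rw [glPt_map]
    have hval' : ∀ f, χ' (ψg f) = MvPolynomial.eval (χ' ∘ glPt gB) f := by
      intro f
      induction f using MvPolynomial.induction_on with
      | C c => rw [MvPolynomial.eval_C, show ψg (MvPolynomial.C c) = algebraMap K ↥B c from
          Subtype.ext (MvPolynomial.aeval_C _ c), hχ'K]
      | add a b ha hb => rw [map_add, map_add, map_add, ha, hb]
      | mul_X a v ha =>
        rw [map_mul, map_mul, map_mul, ha, MvPolynomial.eval_X]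
        congr 1
        refine congrArg χ' (Subtype.ext ?_)
        rw [show ((ψg (MvPolynomial.X v) : ↥B) : Ω) = glPt g v from MvPolynomial.aeval_X _ v]
        rcases v with v | v <;> rfl
    rw [← hval', show ψg f = 0 from Subtype.ext ((hg f).1 hf), map_zero]
  · have hσχ : Matrix.GeneralLinearGroup.map σK (Matrix.GeneralLinearGroup.map χ' gB) =
        Matrix.GeneralLinearGroup.map χ' (Matrix.GeneralLinearGroup.map σB gB) := by
      refine Units.ext (Matrix.ext fun i j => ?_)
      show σK (χ' _) = χ' (σB _)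
      rw [hσK, ← map_pow]
      exact congrArg χ' (Subtype.ext (hσ _).symm)
    have hPχ : Matrix.GeneralLinearGroup.map χ' PB = P := Units.ext (Matrix.ext fun i j => hχ'K _)
    rw [hσχ, ← hPχ, ← map_inv, ← map_inv, ← map_mul, ← map_mul, ← map_mul]
    refine Units.ext (Matrix.ext fun i j => ?_)
    show χ' ((xB : Matrix n n ↥B) i j) = _
    have hm : (⟨_, hxmem (Sum.inl (i, j))⟩ : ↥A) = ψx (MvPolynomial.X (Sum.inl (i, j))) :=
      Subtype.ext (MvPolynomial.aeval_X (glPt x) (Sum.inl (i, j))).symm
    have hxa : (xB : Matrix n n ↥B) i j = algebraMap ↥A ↥B ⟨_, hxmem (Sum.inl (i, j))⟩ :=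
      Subtype.ext (hxpt (Sum.inl (i, j))).symm
    rw [hxa, hχ'A, hm, hχ, MvPolynomial.eval_X]
    rfl

end Lift

end Cfsg.Lib.Chev
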