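import Mathlib
import Cfsg.Agent.Lib.Chev.Sparse

/-!
Matrices over a small finite field packed into natural numbers, four bits an entry, and words in them.
-/

set_option autoImplicit false
set_option maxRecDepth 100000

namespace Cfsg.Lib.Chev.MatCode

/-- The tables of a field with fewer than sixteen elements, numbered from zero; one is numbered one. -/
structure FCode where
  Q : ℕ
  addT : ℕ
  mulT : ℕ
  negT : ℕ
  cjT : ℕ

/-- The sum of two numbers. -/
def FCode.add (C : FCode) (a b : ℕ) : ℕ := slot C.addT 4 (C.Q * a + b)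

/-- The product of two numbers. -/
def FCode.mul (C : FCode) (a b : ℕ) : ℕ := slot C.mulT 4 (C.Q * a + b)

/-- The negative of a number. -/
def FCode.neg (C : FCode) (a : ℕ) : ℕ := slot C.negT 4 a

/-- The conjugate of a number. -/
def FCode.cj (C : FCode) (a : ℕ) : ℕ := slot C.cjT 4 a

/-- The tables are closed. -/
noncomputable def FCode.chk (C : FCode) : Bool :=
  Nat.ble 2 C.Q && Nat.ble C.Q 16 && (List.range C.Q).all fun a =>
    Nat.blt (C.neg a) C.Q && Nat.blt (C.cj a) C.Q &&
      (List.range C.Q).all fun b => Nat.blt (C.add a b) C.Q && Nat.blt (C.mul a b) C.Q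

/-- A field realises the tables through a numbering, with a conjugation. -/
structure FCode.Real (C : FCode) {K : Type*} [Field K] (e : ℕ → K) (f : K →+* K) : Prop where
  chk : C.chk = true
  zero : e 0 = 0
  one : e 1 = 1
  add : ∀ a < C.Q, ∀ b < C.Q, e (C.add a b) = e a + e b
  mul : ∀ a < C.Q, ∀ b < C.Q, e (C.mul a b) = e a * e b
  neg : ∀ a < C.Q, e (C.neg a) = -e a
  cj : ∀ a < C.Q, e (C.cj a) = f (e a)
  inj : ∀ a < C.Q, ∀ b < C.Q, e a = e b → a = b

/-- Pack the values of a function on the numbers below `N`. -/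
def pack : ℕ → (ℕ → ℕ) → ℕ
  | 0, _ => 0
  | N + 1, g => g 0 + 16 * pack N (fun k => g (k + 1))

theorem slot_pack : ∀ (N : ℕ) (g : ℕ → ℕ) (k : ℕ), k < N → (∀ i < N, g i < 16) → slot (pack N g) 4 k = g k
  | 0, _, k, hk, _ => by omega
  | N + 1, g, 0, _, hg => by
    have := hg 0 (by omega)
    simp only [slot, Nat.mul_zero, Nat.shiftRight_zero, pack]
    omega
  | N + 1, g, k + 1, hk, hg => by
    have h0 := hg 0 (by omega)
    have ih := slot_pack N (fun k => g (k + 1)) k (by omega) fun i hi => hg (i + 1) (by omega)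
    simp only [slot, pack] at ih ⊢
    rw [Nat.mul_succ, Nat.shiftRight_eq_div_pow, pow_add, show (2 : ℕ) ^ 4 = 16 by norm_num,
      mul_comm (2 ^ (4 * k)) 16, ← Nat.div_div_eq_div_mul, Nat.add_mul_div_left _ _ (by norm_num : 0 < 16),
      Nat.div_eq_of_lt h0, zero_add]
    rw [Nat.shiftRight_eq_div_pow, show (2 : ℕ) ^ 4 = 16 by norm_num] at ih
    exact ih

/-- The entries of a code are numbers below `Q`. -/
noncomputable def okM (C : FCode) (n A : ℕ) : Bool := (List.range (n * n)).all fun k => Nat.blt (slot A 4 k) C.Q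

/-- The identity. -/
def oneM (n : ℕ) : ℕ := pack (n * n) fun k => bif Nat.beq (k / n) (k % n) then 1 else 0

/-- An entry of a product. -/
def dot (C : FCode) (n A B i j : ℕ) : ℕ :=
  (List.range n).foldr (fun l t => C.add (C.mul (slot A 4 (n * i + l)) (slot B 4 (n * l + j))) t) 0

/-- The product. -/
def mulM (C : FCode) (n A B : ℕ) : ℕ := pack (n * n) fun k => dot C n A B (k / n) (k % n)

/-- The conjugate of each entry. -/
def cjM (C : FCode) (n A : ℕ) : ℕ := pack (n * n) fun k => C.cj (slot A 4 k)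

/-- The conjugate transpose. -/
def starM (C : FCode) (n A : ℕ) : ℕ := pack (n * n) fun k => C.cj (slot A 4 (n * (k % n) + k / n))

variable {K : Type*} [Field K]

/-- The matrix of a code. -/
def evM (e : ℕ → K) (n A : ℕ) : Matrix (Fin n) (Fin n) K := fun i j => e (slot A 4 (n * i + j))

variable {C : FCode} {e : ℕ → K} {f : K →+* K} (R : C.Real e f) {n : ℕ}
include R

theorem FCode.Real.Q_bounds : 2 ≤ C.Q ∧ C.Q ≤ 16 := by
  have h := R.chk
  simp only [FCode.chk, Bool.and_eq_true, Nat.ble_eq] at h
  exact ⟨h.1.1, h.1.2⟩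

theorem FCode.Real.lt {a b : ℕ} (ha : a < C.Q) (hb : b < C.Q) :
    C.add a b < C.Q ∧ C.mul a b < C.Q ∧ C.neg a < C.Q ∧ C.cj a < C.Q := by
  have h := R.chk
  simp only [FCode.chk, Bool.and_eq_true, List.all_eq_true, List.mem_range, Nat.blt_eq] at h
  obtain ⟨⟨h1, h2⟩, h3⟩ := h.2 a ha
  exact ⟨(h3 b hb).1, (h3 b hb).2, h1, h2⟩

omit R in
theorem okM_slot {A : ℕ} (hA : okM C n A = true) {i j : ℕ} (hi : i < n) (hj : j < n) :
    slot A 4 (n * i + j) < C.Q := by
  simp only [okM, List.all_eq_true, List.mem_range, Nat.blt_eq] at hA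
  refine hA _ ?_
  calc n * i + j < n * i + n := by omega
    _ = n * (i + 1) := by ring
    _ ≤ n * n := Nat.mul_le_mul_left _ hi

theorem dot_spec {A B i j : ℕ} (hA : okM C n A = true) (hB : okM C n B = true) (hi : i < n) (hj : j < n) :
    dot C n A B i j < C.Q ∧ e (dot C n A B i j) =
      ((List.range n).map fun l => e (slot A 4 (n * i + l)) * e (slot B 4 (n * l + j))).sum := by
  have key : ∀ L : List ℕ, (∀ l ∈ L, l < n) →
      (L.foldr (fun l t => C.add (C.mul (slot A 4 (n * i + l)) (slot B 4 (n * l + j))) t) 0) < C.Q ∧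
      e (L.foldr (fun l t => C.add (C.mul (slot A 4 (n * i + l)) (slot B 4 (n * l + j))) t) 0) =
        (L.map fun l => e (slot A 4 (n * i + l)) * e (slot B 4 (n * l + j))).sum := by
    intro L
    induction L with
    | nil => intro _; exact ⟨by have := R.Q_bounds; simp only [List.foldr_nil]; omega, by simpa using R.zero⟩
    | cons l L ih =>
      intro hL
      obtain ⟨h1, h2⟩ := ih fun x hx => hL x (List.mem_cons_of_mem _ hx)
      have hl := hL l (List.mem_cons_self ..)
      have a := okM_slot hA hi hl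
      have b := okM_slot hB hl hj
      simp only [List.foldr_cons, List.map_cons, List.sum_cons]
      have hm := (R.lt a b).2.1
      exact ⟨(R.lt hm h1).1, by rw [R.add _ hm _ h1, R.mul _ a _ b, h2]⟩
  exact key _ fun l hl => List.mem_range.1 hl

omit R in
theorem idx_div {i j : ℕ} (hj : j < n) : (n * i + j) / n = i ∧ (n * i + j) % n = j := by
  constructor
  · rw [Nat.mul_add_div (by omega), Nat.div_eq_of_lt hj, add_zero]
  · rw [Nat.mul_add_mod, Nat.mod_eq_of_lt hj]

theorem mulM_spec {A B : ℕ} (hA : okM C n A = true) (hB : okM C n B = true) :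
    okM C n (mulM C n A B) = true ∧ evM e n (mulM C n A B) = evM e n A * evM e n B := by
  have hQ := R.Q_bounds
  have hd : ∀ k < n * n, dot C n A B (k / n) (k % n) < C.Q := fun k hk => by
    have hn : 0 < n := by rcases n with _ | n <;> simp_all
    exact (dot_spec R hA hB ((Nat.div_lt_iff_lt_mul hn).2 hk) (Nat.mod_lt _ hn)).1
  have hs : ∀ k < n * n, slot (mulM C n A B) 4 k = dot C n A B (k / n) (k % n) := fun k hk =>
    slot_pack _ _ k hk fun l hl => by have := hd l hl; omega
  refine ⟨?_, ?_⟩
  · simp only [okM, List.all_eq_true, List.mem_range, Nat.blt_eq]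
    intro k hk
    rw [hs k hk]; exact hd k hk
  · ext i j
    have hk : n * (i : ℕ) + j < n * n := by
      calc n * (i : ℕ) + j < n * i + n := by omega
        _ = n * (i + 1) := by ring
        _ ≤ n * n := Nat.mul_le_mul_left _ i.2
    show e (slot (mulM C n A B) 4 (n * i + j)) = _
    rw [hs _ hk, (idx_div j.2).1, (idx_div j.2).2, (dot_spec R hA hB i.2 j.2).2, Matrix.mul_apply,
      Fin.sum_univ_def, ← List.map_coe_finRange_eq_range, List.map_map]
    rfl

theorem oneM_spec : okM C n (oneM n) = true ∧ evM e n (oneM n) = 1 := by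
  have hQ := R.Q_bounds
  have hs : ∀ k < n * n, slot (oneM n) 4 k = bif Nat.beq (k / n) (k % n) then 1 else 0 := fun k hk =>
    slot_pack _ _ k hk fun l _ => by cases Nat.beq (l / n) (l % n) <;> simp
  refine ⟨?_, ?_⟩
  · simp only [okM, List.all_eq_true, List.mem_range, Nat.blt_eq]
    intro k hk
    rw [hs k hk]
    cases Nat.beq (k / n) (k % n) <;> simp only [cond_true, cond_false] <;> omega
  · ext i j
    have hk : n * (i : ℕ) + j < n * n := by
      calc n * (i : ℕ) + j < n * i + n := by omega
        _ = n * (i + 1) := by ring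
        _ ≤ n * n := Nat.mul_le_mul_left _ i.2
    show e (slot (oneM n) 4 (n * i + j)) = _
    rw [hs _ hk, (idx_div j.2).1, (idx_div j.2).2]
    by_cases h : i = j
    · subst h; simp [R.one]
    · have : Nat.beq (i : ℕ) j = false := by
        cases hb : Nat.beq (i : ℕ) j
        · rfl
        · exact absurd (Fin.ext (Nat.eq_of_beq_eq_true hb)) h
      simp [this, R.zero, Matrix.one_apply_ne h]

theorem cjM_spec {A : ℕ} (hA : okM C n A = true) :
    okM C n (cjM C n A) = true ∧ evM e n (cjM C n A) = (evM e n A).map f := by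
  have hQ := R.Q_bounds
  simp only [okM, List.all_eq_true, List.mem_range, Nat.blt_eq] at hA ⊢
  have hd : ∀ k < n * n, C.cj (slot A 4 k) < C.Q := fun k hk => (R.lt (hA k hk) (hA k hk)).2.2.2
  have hs : ∀ k < n * n, slot (cjM C n A) 4 k = C.cj (slot A 4 k) := fun k hk =>
    slot_pack _ _ k hk fun l hl => by have := hd l hl; omega
  refine ⟨fun k hk => by rw [hs k hk]; exact hd k hk, ?_⟩
  ext i j
  have hk : n * (i : ℕ) + j < n * n := by
    calc n * (i : ℕ) + j < n * i + n := by omega
      _ = n * (i + 1) := by ring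
      _ ≤ n * n := Nat.mul_le_mul_left _ i.2
  show e (slot (cjM C n A) 4 (n * i + j)) = f (e (slot A 4 (n * i + j)))
  rw [hs _ hk, R.cj _ (hA _ hk)]

theorem starM_spec {A : ℕ} (hA : okM C n A = true) :
    okM C n (starM C n A) = true ∧ evM e n (starM C n A) = ((evM e n A).map f).transpose := by
  have hQ := R.Q_bounds
  have hd : ∀ k < n * n, C.cj (slot A 4 (n * (k % n) + k / n)) < C.Q := fun k hk => by
    have hn : 0 < n := by rcases n with _ | n <;> simp_all
    have := okM_slot hA (Nat.mod_lt k hn) ((Nat.div_lt_iff_lt_mul hn).2 hk)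
    exact (R.lt this this).2.2.2
  have hs : ∀ k < n * n, slot (starM C n A) 4 k = C.cj (slot A 4 (n * (k % n) + k / n)) := fun k hk =>
    slot_pack _ _ k hk fun l hl => by have := hd l hl; omega
  refine ⟨?_, ?_⟩
  · simp only [okM, List.all_eq_true, List.mem_range, Nat.blt_eq]
    intro k hk
    rw [hs k hk]; exact hd k hk
  · ext i j
    have hk : n * (i : ℕ) + j < n * n := by
      calc n * (i : ℕ) + j < n * i + n := by omega
        _ = n * (i + 1) := by ring
        _ ≤ n * n := Nat.mul_le_mul_left _ i.2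
    show e (slot (starM C n A) 4 (n * i + j)) = f (e (slot A 4 (n * j + i)))
    rw [hs _ hk, (idx_div j.2).1, (idx_div j.2).2, R.cj _ (okM_slot hA j.2 i.2)]

theorem evM_inj {A B : ℕ} (hA : okM C n A = true) (hB : okM C n B = true) (h : evM e n A = evM e n B)
    {k : ℕ} (hk : k < n * n) : slot A 4 k = slot B 4 k := by
  have hn : 0 < n := by rcases n with _ | n <;> simp_all
  have hi := (Nat.div_lt_iff_lt_mul hn).2 hk
  have hj := Nat.mod_lt k hn
  have := congrFun (congrFun h ⟨_, hi⟩) ⟨_, hj⟩
  have e1 : n * (k / n) + k % n = k := Nat.div_add_mod k n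
  rw [← e1]
  exact R.inj _ (okM_slot hA hi hj) _ (okM_slot hB hi hj) this

end Cfsg.Lib.Chev.MatCode
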