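import Cfsg.Agent.Lib.Chev.MultWeights

/-!
The norm over a torus on an abelian layer of the preimage of a Sylow subgroup.
-/

set_option autoImplicit false
set_option linter.unusedSectionVars false

namespace Cfsg.Lib.Chev.MultW

open Subgroup
open scoped commutatorElement Pointwise

universe u

variable {G Γ : Type u} [Group G] [Group Γ] {σ : Γ →* G} (hs : Function.Surjective σ) (hc : σ.ker ≤ center Γ)
variable {K : Type*} [Field K] [Finite K] (p : ℕ) [Fact p.Prime] [CharP K p]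
include hs hc

/-- Preimages of two commuting layers commute when their weights are unlinked. -/
theorem lcomm_pair (X Y : K → G) (t : G) {lam mu : K} (hcom : ∀ a b, Commute (X a) (Y b))
    (hX : ∀ a a', ∃ w, (∀ b, LComm σ w (Y b)) ∧ X (a + a') = X a * X a' * w) (hY : ∀ b b', Y (b + b') = Y b * Y b')
    (htX : ∀ a, t * X a * t⁻¹ = X (lam * a)) (htY : ∀ b, t * Y b * t⁻¹ = Y (mu * b)) (hmu : mu ≠ 0)
    (hne : ∀ k : ℕ, lam ^ p ^ k * mu ≠ 1) : ∀ a b, LComm σ (X a) (Y b) := by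
  letI : CommGroup ↥σ.ker := { (inferInstance : Group ↥σ.ker) with
    mul_comm := fun x y => Subtype.ext (mem_center_comm hc y.2 x) }
  have hk : ∀ a b, br hs (X a) (Y b) ∈ σ.ker := fun a b => by
    rw [MonoidHom.mem_ker, map_br hs hc, commutatorElement_eq_one_iff_mul_comm]; exact hcom a b
  let c : K → K → ↥σ.ker := fun a b => ⟨br hs (X a) (Y b), hk a b⟩
  have hfix : ∀ (a b : K) (T : Γ), T * br hs (X a) (Y b) * T⁻¹ = br hs (X a) (Y b) := fun a b T => by
    rw [mem_center_comm hc (hk a b) T, mul_inv_cancel_right]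
  intro a b
  rw [← br_eq_one_iff hs hc]
  refine congrArg Subtype.val (pair_trivial (Z := ↥σ.ker) p c (fun a a' b => Subtype.ext ?_)
    (fun a b b' => Subtype.ext ?_) hmu (fun a b => Subtype.ext ?_) hne a b)
  · show br hs (X (a + a')) (Y b) = br hs (X a) (Y b) * br hs (X a') (Y b)
    obtain ⟨w, hw, e⟩ := hX a a'
    rw [e, br_mul_left hs hc, (br_eq_one_iff hs hc).2 (hw b), mul_one, mul_inv_cancel, one_mul, br_mul_left hs hc,
      hfix, mem_center_comm hc (hk a b)]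
  · show br hs (X a) (Y (b + b')) = br hs (X a) (Y b) * br hs (X a) (Y b')
    rw [hY, br_mul_right hs hc, hfix]
  · show br hs (X (lam * a)) (Y (mu * b)) = br hs (X a) (Y b)
    obtain ⟨T, rfl⟩ := hs t
    rw [← htX, ← htY, br_conj hs hc, hfix]

variable {V : Type*} [AddCommGroup V] (f : Multiplicative V →* G)

theorem range_comm (hab : ∀ v v', LComm σ (f (.ofAdd v)) (f (.ofAdd v'))) :
    ∀ a ∈ f.range.comap σ, ∀ b ∈ f.range.comap σ, a * b = b * a := by
  rintro a ⟨v, hv⟩ b ⟨v', hv'⟩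
  exact hab v.toAdd v'.toAdd a b (by rw [← hv]; rfl) (by rw [← hv']; rfl)

variable (τ : Kˣ →* G) (w : Kˣ → V → V)

/-- The norm over the torus. -/
theorem exists_norm [Fintype Kˣ] (hcard : Nat.card σ.ker = p) (hab : ∀ v v', LComm σ (f (.ofAdd v)) (f (.ofAdd v')))
    (hconj : ∀ z v, τ z * f (.ofAdd v) * (τ z)⁻¹ = f (.ofAdd (w z v))) (hsum : ∀ v, ∑ z, w z v = 0) :
    ∃ N : ↥(f.range.comap σ) →* ↥σ.ker, (∀ a : ↥(f.range.comap σ), (a : Γ) ∈ σ.ker → N a = 1 → a = 1) ∧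
      ∀ (y : Kˣ) (S : Γ), σ S = τ y → ∀ a b : ↥(f.range.comap σ), (b : Γ) = S * (a : Γ) * S⁻¹ → N b = N a := by
  classical
  set A := f.range.comap σ with hA
  letI : CommGroup ↥A := { (inferInstance : Group ↥A) with
    mul_comm := fun x y => Subtype.ext (range_comm hs hc f hab x x.2 y y.2) }
  choose T hT using fun z : Kˣ => hs (τ z)
  have hmem : ∀ (z : Kˣ) (a : ↥A), T z * (a : Γ) * (T z)⁻¹ ∈ A := fun z a => by
    obtain ⟨v, hv⟩ := a.2
    refine ⟨.ofAdd (w z v.toAdd), ?_⟩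
    rw [map_mul, map_mul, map_inv, hT, ← hv, ← hconj]; rfl
  let C : Kˣ → (↥A →* ↥A) := fun z =>
    { toFun := fun a => ⟨T z * (a : Γ) * (T z)⁻¹, hmem z a⟩
      map_one' := Subtype.ext (by simp)
      map_mul' := fun a b => Subtype.ext (by simp [mul_assoc]) }
  have himg : ∀ (a : ↥A) (v : V), σ (a : Γ) = f (.ofAdd v) → ∀ s : Finset Kˣ,
      σ ((∏ z ∈ s, C z a : ↥A) : Γ) = f (.ofAdd (∑ z ∈ s, w z v)) := by
    intro a v hv s
    induction s using Finset.induction_on with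
    | empty => simp
    | insert z s hz ih =>
      rw [Finset.prod_insert hz, Finset.sum_insert hz, ofAdd_add, map_mul, ← ih, ← hconj, Subgroup.coe_mul, map_mul]
      congr 1
      show σ (T z * (a : Γ) * (T z)⁻¹) = _
      rw [map_mul, map_mul, map_inv, hT, hv]
  let N0 : ↥A →* ↥A := ∏ z : Kˣ, C z
  have hN0 : ∀ a, N0 a = ∏ z : Kˣ, C z a := fun a => MonoidHom.finsetProd_apply ..
  have hker : ∀ a, (N0 a : Γ) ∈ σ.ker := fun a => by
    obtain ⟨v, hv⟩ := a.2
    rw [MonoidHom.mem_ker, hN0, himg a v.toAdd (by rw [← hv]; rfl), hsum, ofAdd_zero, map_one]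
  refine ⟨(A.subtype.comp N0).codRestrict σ.ker hker, fun a ha h1 => ?_, fun y S hS a b hb => Subtype.ext ?_⟩
  · have hCa : ∀ z, C z a = a := fun z => Subtype.ext (by
      show T z * (a : Γ) * (T z)⁻¹ = a
      rw [mem_center_comm hc ha, mul_inv_cancel_right])
    have h2 : N0 a = 1 := Subtype.ext (congrArg (fun x : ↥σ.ker => (x : Γ)) h1)
    rw [hN0, Finset.prod_congr rfl fun z _ => hCa z, Finset.prod_const, Finset.card_univ] at h2
    have hp : (a : Γ) ^ p = 1 := congrArg Subtype.val (show (⟨a, ha⟩ : σ.ker) ^ p = 1 from hcard ▸ pow_card_eq_one')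
    have h3 : (a : Γ) ^ Fintype.card Kˣ = 1 := congrArg Subtype.val h2
    have hcop : Nat.Coprime p (Fintype.card Kˣ) := by
      haveI := Fintype.ofFinite K
      rw [← Nat.card_eq_fintype_card, Nat.card_units, Nat.card_eq_fintype_card, (Fact.out : p.Prime).coprime_iff_not_dvd]
      obtain ⟨n, -, hn⟩ := FiniteField.card K p
      intro hd
      have h4 : p ∣ Fintype.card K := hn ▸ dvd_pow_self p n.ne_zero
      have h5 : p ∣ 1 := by
        have := Nat.dvd_sub h4 hd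
        rwa [Nat.sub_sub_self Fintype.card_pos] at this
      exact (Fact.out : p.Prime).not_dvd_one h5
    have := pow_gcd_eq_one.2 ⟨hp, h3⟩
    rw [hcop.gcd_eq_one, pow_one] at this
    exact Subtype.ext this
  · show (N0 b : Γ) = (N0 a : Γ)
    rw [hN0, hN0]
    have hCb : ∀ z, C z b = C (z * y) a := fun z => Subtype.ext (by
      show T z * (b : Γ) * (T z)⁻¹ = T (z * y) * (a : Γ) * (T (z * y))⁻¹
      have hk : (T (z * y))⁻¹ * (T z * S) ∈ σ.ker := by
        rw [MonoidHom.mem_ker, map_mul, map_mul, map_inv, hT, hT, hS, map_mul, inv_mul_cancel]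
      have h1 := mem_center_comm hc hk (a : Γ)
      calc T z * (b : Γ) * (T z)⁻¹ = T (z * y) * ((T (z * y))⁻¹ * (T z * S) * (a : Γ)) * (T z * S)⁻¹ := by
            rw [hb]; group
        _ = T (z * y) * ((a : Γ) * ((T (z * y))⁻¹ * (T z * S))) * (T z * S)⁻¹ := by rw [h1]
        _ = _ := by group)
    rw [Fintype.prod_congr _ _ hCb]
    exact congrArg Subtype.val (Equiv.prod_comp (Equiv.mulRight y) fun z => C z a)

variable (N : ↥(f.range.comap σ) →* ↥σ.ker)

/-- The norm of a commutator whose value lies in the layer. -/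
noncomputable def nrm (g h : G) : ↥σ.ker := by
  classical
  exact if e : ⁅g, h⁆ ∈ f.range then N ⟨br hs g h, by rw [mem_comap, map_br hs hc]; exact e⟩ else 1

theorem nrm_eq {g h : G} (e : ⁅g, h⁆ ∈ f.range) :
    nrm hs hc f N g h = N ⟨br hs g h, by rw [mem_comap, map_br hs hc]; exact e⟩ := by
  rw [nrm]; exact dif_pos e

theorem nrm_lcomm {g h : G} (e : LComm σ g h) : nrm hs hc f N g h = 1 := by
  have h1 := (br_eq_one_iff hs hc).2 e
  have hv : ⁅g, h⁆ ∈ f.range := by rw [← map_br hs hc, h1, map_one]; exact one_mem _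
  rw [nrm_eq hs hc f N hv, ← map_one N]
  exact congrArg N (Subtype.ext h1)

theorem nrm_conj (hN : ∀ (y : Kˣ) (S : Γ), σ S = τ y → ∀ a b : ↥(f.range.comap σ), (b : Γ) = S * (a : Γ) * S⁻¹ → N b = N a)
    (hconj : ∀ z v, τ z * f (.ofAdd v) * (τ z)⁻¹ = f (.ofAdd (w z v))) (y : Kˣ) {g h : G} (e : ⁅g, h⁆ ∈ f.range) :
    nrm hs hc f N (τ y * g * (τ y)⁻¹) (τ y * h * (τ y)⁻¹) = nrm hs hc f N g h := by
  obtain ⟨S, hS⟩ := hs (τ y)
  have e' : ⁅τ y * g * (τ y)⁻¹, τ y * h * (τ y)⁻¹⁆ ∈ f.range := by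
    obtain ⟨v, hv⟩ := e
    refine ⟨.ofAdd (w y v.toAdd), ?_⟩
    rw [← hconj, show Multiplicative.ofAdd v.toAdd = v from rfl, hv, commutatorElement_def, commutatorElement_def]
    group
  rw [nrm_eq hs hc f N e, nrm_eq hs hc f N e']
  refine hN y S hS _ _ ?_
  show br hs _ _ = S * br hs g h * S⁻¹
  rw [← br_conj hs hc, hS]

/-- Multiplicativity when the conjugation does not move the norm. -/
theorem nrm_mul_left {g g' h : G} (e : ⁅g, h⁆ ∈ f.range) (e' : ⁅g', h⁆ ∈ f.range) (hg : nrm hs hc f N g ⁅g', h⁆ = 1)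
    (hgv : ⁅g, ⁅g', h⁆⁆ ∈ f.range) : nrm hs hc f N (g * g') h = nrm hs hc f N g' h * nrm hs hc f N g h := by
  have hC : (hs g).choose * br hs g' h * (hs g).choose⁻¹ = br hs g ⁅g', h⁆ * br hs g' h := by
    rw [← br_eq hs hc (A := (hs g).choose) (B := br hs g' h) (hs g).choose_spec (map_br hs hc _ _),
      commutatorElement_def]
    group
  have e'' : ⁅g * g', h⁆ ∈ f.range := by
    rw [← map_br hs hc, br_mul_left hs hc, hC, map_mul, map_mul, map_br hs hc, map_br hs hc, map_br hs hc]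
    exact mul_mem (mul_mem hgv e') e
  rw [nrm_eq hs hc f N e''] 
  rw [nrm_eq hs hc f N hgv] at hg
  rw [nrm_eq hs hc f N e, nrm_eq hs hc f N e', ← map_mul, ← one_mul (N (_ * _)), ← hg, ← map_mul]
  refine congrArg N (Subtype.ext ?_)
  show br hs (g * g') h = br hs g ⁅g', h⁆ * (br hs g' h * br hs g h)
  rw [br_mul_left hs hc, hC, mul_assoc]

theorem nrm_swap (g h : G) : nrm hs hc f N g h = (nrm hs hc f N h g)⁻¹ := by
  by_cases e : ⁅g, h⁆ ∈ f.range
  · have e' : ⁅h, g⁆ ∈ f.range := by rw [← commutatorElement_inv g h]; exact inv_mem e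
    rw [nrm_eq hs hc f N e, nrm_eq hs hc f N e', ← map_inv]
    refine congrArg N (Subtype.ext ?_)
    show br hs g h = (br hs h g)⁻¹
    rw [br, br, commutatorElement_inv]
  · have e' : ⁅h, g⁆ ∉ f.range := fun e' => e (by rw [← commutatorElement_inv h g]; exact inv_mem e')
    rw [nrm, nrm, dif_neg e, dif_neg e', inv_one]

/-- The norm is a pairing with conjugation invariance, so it vanishes for unlinked weights. -/
theorem nrm_pair (hN : ∀ (y : Kˣ) (S : Γ), σ S = τ y → ∀ a b : ↥(f.range.comap σ), (b : Γ) = S * (a : Γ) * S⁻¹ → N b = N a)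
    (hconj : ∀ z v, τ z * f (.ofAdd v) * (τ z)⁻¹ = f (.ofAdd (w z v)))
    (X Y : K → G) (y : Kˣ) {lam mu : K} (hval : ∀ a b, ⁅X a, Y b⁆ ∈ f.range)
    (hXY : ∀ c a b, LComm σ (X c) ⁅X a, Y b⁆) (hYX : ∀ c a b, LComm σ (Y c) ⁅X a, Y b⁆)
    (hX : ∀ a a', ∃ u, (∀ b, LComm σ u (Y b)) ∧ X (a + a') = X a * X a' * u) (hY : ∀ b b', Y (b + b') = Y b * Y b')
    (htX : ∀ a, τ y * X a * (τ y)⁻¹ = X (lam * a)) (htY : ∀ b, τ y * Y b * (τ y)⁻¹ = Y (mu * b)) (hmu : mu ≠ 0)
    (hne : ∀ k : ℕ, lam ^ p ^ k * mu ≠ 1) : ∀ a b, nrm hs hc f N (X a) (Y b) = 1 := by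
  letI : CommGroup ↥σ.ker := { (inferInstance : Group ↥σ.ker) with
    mul_comm := fun x y => Subtype.ext (mem_center_comm hc y.2 x) }
  have hone : ∀ {g h : G}, LComm σ g h → ⁅g, h⁆ ∈ f.range := fun {g h} e => by
    rw [← map_br hs hc, (br_eq_one_iff hs hc).2 e, map_one]; exact one_mem _
  refine pair_trivial p (fun a b => nrm hs hc f N (X a) (Y b)) (fun a a' b => ?_) (fun a b b' => ?_) hmu
    (fun a b => ?_) hne
  · obtain ⟨u, hu, e⟩ := hX a a'
    have h1 : ⁅u, Y b⁆ = 1 := by rw [← map_br hs hc, (br_eq_one_iff hs hc).2 (hu b), map_one]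
    have hXX : ⁅X a * X a', Y b⁆ ∈ f.range := by
      rw [show ⁅X a * X a', Y b⁆ = ⁅X a, ⁅X a', Y b⁆⁆ * ⁅X a', Y b⁆ * ⁅X a, Y b⁆ by
        simp only [commutatorElement_def]; group]
      exact mul_mem (mul_mem (hone (hXY a a' b)) (hval a' b)) (hval a b)
    rw [e, nrm_mul_left hs hc f N hXX (by rw [h1]; exact one_mem _)
      (by rw [h1]; exact nrm_lcomm hs hc f N (lcomm_one hs hc _)) (by rw [h1, commutatorElement_one_right]; exact one_mem _),
      nrm_lcomm hs hc f N (hu b), one_mul,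
      nrm_mul_left hs hc f N (hval a b) (hval a' b) (nrm_lcomm hs hc f N (hXY a a' b)) (hone (hXY a a' b)), mul_comm]
  · rw [nrm_swap, hY, nrm_mul_left hs hc f N (by rw [← commutatorElement_inv]; exact inv_mem (hval a b))
      (by rw [← commutatorElement_inv]; exact inv_mem (hval a b')), mul_inv, mul_comm, ← nrm_swap, ← nrm_swap]
    · have k : LComm σ (Y b) ⁅Y b', X a⁆ := by
        intro A B eA eB
        have := hYX b a b' A B⁻¹ eA (by rw [map_inv, eB, commutatorElement_inv])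
        exact (Commute.inv_right_iff.1 this)
      exact nrm_lcomm hs hc f N k
    · refine hone ?_
      intro A B eA eB
      have := hYX b a b' A B⁻¹ eA (by rw [map_inv, eB, commutatorElement_inv])
      exact (Commute.inv_right_iff.1 this)
  · rw [← htX, ← htY]
    exact nrm_conj hs hc f τ w N hN hconj y (hval a b)

/-- The criterion: the layer contains the derived subgroup and the pairings on the top vanish. -/
theorem comm_meet_bot (hN1 : ∀ a : ↥(f.range.comap σ), (a : Γ) ∈ σ.ker → N a = 1 → a = 1)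
    (hN : ∀ (y : Kˣ) (S : Γ), σ S = τ y → ∀ a b : ↥(f.range.comap σ), (b : Γ) = S * (a : Γ) * S⁻¹ → N b = N a)
    (hconj : ∀ z v, τ z * f (.ofAdd v) * (τ z)⁻¹ = f (.ofAdd (w z v)))
    (P : Subgroup G) (hfP : ∀ v, f v ∈ P) (hP : ∀ g ∈ P, ∀ h ∈ P, ⁅g, h⁆ ∈ f.range) (x : K → G) (hxP : ∀ a, x a ∈ P)
    (hgen : ∀ g ∈ P, ∃ a, ∃ v ∈ f.range, g = x a * v) (hab : ∀ v v', LComm σ (f (.ofAdd v)) (f (.ofAdd v')))
    (hxv : ∀ a v, nrm hs hc f N (x a) (f v) = 1) (y : Kˣ) {lam : K}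
    (htx : ∀ a, τ y * x a * (τ y)⁻¹ = x (lam * a))
    (hadd : ∀ a a', ∃ u ∈ f.range, x (a + a') = x a * x a' * u) (hlam : lam ≠ 0)
    (hne : ∀ k : ℕ, lam ^ p ^ k * lam ≠ 1) : ⁅P.comap σ, P.comap σ⁆ ⊓ σ.ker = ⊥ := by
  letI : CommGroup ↥σ.ker := { (inferInstance : Group ↥σ.ker) with
    mul_comm := fun x y => Subtype.ext (mem_center_comm hc y.2 x) }
  have hA : ∀ u ∈ f.range, ∀ v ∈ f.range, LComm σ u v := by
    rintro _ ⟨u, rfl⟩ _ ⟨v, rfl⟩; exact hab u.toAdd v.toAdd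
  have hone : ∀ g ∈ P, ∀ u ∈ f.range, nrm hs hc f N g u = 1 := by
    intro g hg u hu
    obtain ⟨a, v, hv, rfl⟩ := hgen g hg
    have hvu : ⁅v, u⁆ = 1 := by rw [← map_br hs hc, (br_eq_one_iff hs hc).2 (hA v hv u hu), map_one]
    have hxu : ⁅x a, u⁆ ∈ f.range := hP _ (hxP a) _ (by obtain ⟨u, rfl⟩ := hu; exact hfP u)
    obtain ⟨u', rfl⟩ := hu
    rw [nrm_mul_left hs hc f N hxu (by rw [hvu]; exact one_mem _) (by rw [hvu]; exact nrm_lcomm hs hc f N (lcomm_one hs hc _))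
      (by rw [hvu, commutatorElement_one_right]; exact one_mem _), nrm_lcomm hs hc f N (hA v hv _ ⟨u', rfl⟩), hxv, one_mul]
  have hfr : ∀ u ∈ f.range, u ∈ P := by rintro _ ⟨u, rfl⟩; exact hfP u
  have hmul : ∀ g ∈ P, ∀ g' ∈ P, ∀ h ∈ P, nrm hs hc f N (g * g') h = nrm hs hc f N g' h * nrm hs hc f N g h :=
    fun g hg g' hg' h hh => nrm_mul_left hs hc f N (hP g hg h hh) (hP g' hg' h hh) (hone g hg _ (hP g' hg' h hh))
      (hP g hg _ (hfr _ (hP g' hg' h hh)))
  have hleft : ∀ u ∈ f.range, ∀ h ∈ P, nrm hs hc f N u h = 1 := fun u hu h hh => by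
    rw [nrm_swap, hone h hh u hu, inv_one]
  have hc1 : ∀ a b, nrm hs hc f N (x a) (x b) = 1 := by
    refine pair_trivial p (fun a b => nrm hs hc f N (x a) (x b)) (fun a a' b => ?_) (fun a b b' => ?_) hlam
      (fun a b => ?_) hne
    · obtain ⟨u, hu, e⟩ := hadd a a'
      rw [e, hmul _ (mul_mem (hxP a) (hxP a')) _ (hfr u hu) _ (hxP b), hleft u hu _ (hxP b), one_mul,
        hmul _ (hxP a) _ (hxP a') _ (hxP b), mul_comm]
    · obtain ⟨u, hu, e⟩ := hadd b b'
      rw [nrm_swap, e, hmul _ (mul_mem (hxP b) (hxP b')) _ (hfr u hu) _ (hxP a), hleft u hu _ (hxP a), one_mul,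
        hmul _ (hxP b) _ (hxP b') _ (hxP a), mul_inv, ← nrm_swap, ← nrm_swap, mul_comm]
    · rw [← htx, ← htx]
      exact nrm_conj hs hc f τ w N hN hconj y (hP _ (hxP a) _ (hxP b))
  have hall : ∀ g ∈ P, ∀ h ∈ P, nrm hs hc f N g h = 1 := by
    intro g hg h hh
    obtain ⟨a, v, hv, rfl⟩ := hgen g hg
    rw [hmul _ (hxP a) _ (hfr v hv) _ hh, hleft v hv _ hh, one_mul]
    obtain ⟨b, v', hv', rfl⟩ := hgen h hh
    rw [nrm_swap, hmul _ (hxP b) _ (hfr v' hv') _ (hxP a), hleft v' hv' _ (hxP a), one_mul, hc1, inv_one]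
  refine (eq_bot_iff_forall _).2 fun z hz => ?_
  have hle : ⁅P.comap σ, P.comap σ⁆ ≤ N.ker.map (f.range.comap σ).subtype := by
    rw [commutator_le]
    intro A hA' B hB'
    have hv := hP _ hA' _ hB'
    refine ⟨⟨br hs (σ A) (σ B), by rw [mem_comap, map_br hs hc]; exact hv⟩, ?_, (br_eq hs hc rfl rfl).symm⟩
    have := hall _ hA' _ hB'
    rwa [nrm_eq hs hc f N hv] at this
  obtain ⟨a, ha, rfl⟩ := hle hz.1
  exact congrArg Subtype.val (hN1 a hz.2 ha)

end Cfsg.Lib.Chev.MultW
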