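import Cfsg.Agent.Lib.Chev.MultNorm
import Cfsg.Agent.Lib.Linear.Suzuki.Partition
import Cfsg.Agent.Lib.Linear.Suzuki.LieForm

/-! The Schur multiplier of the Suzuki groups. -/

set_option autoImplicit false
set_option linter.unusedSectionVars false

namespace Cfsg.Lib.Chev.MultW

open Subgroup Cfsg.Lib.Linear.Suz
open scoped commutatorElement

universe u

theorem gen_pow_ne {K : Type*} [Field K] [Fintype K] {t : Kˣ} (ht : orderOf t = Fintype.card K - 1) {e : ℕ}
    (he0 : 0 < e) (he : e < Fintype.card K - 1) : (t : K) ^ e ≠ 1 := by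
  intro h
  have := orderOf_dvd_of_pow_eq_one (Units.ext (by simpa using h) : t ^ e = 1)
  rw [ht] at this
  exact absurd (Nat.le_of_dvd he0 this) (by omega)

theorem exists_gen (K : Type*) [Field K] [Fintype K] : ∃ t : Kˣ, orderOf t = Fintype.card K - 1 := by
  obtain ⟨t, ht⟩ := IsCyclic.exists_generator (α := Kˣ)
  exact ⟨t, by rw [orderOf_eq_card_of_forall_mem_zpowers ht, Nat.card_units, Nat.card_eq_fintype_card]⟩

/-- Powers of the characteristic reduce modulo the degree. -/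
theorem pow_frob_mod {K : Type*} [Field K] [Fintype K] {p n : ℕ} (hK : Fintype.card K = p ^ n) (x : K) (k : ℕ) :
    x ^ p ^ k = x ^ p ^ (k % n) := by
  have hper : ∀ j : ℕ, x ^ p ^ (n * j) = x := fun j => by
    induction j with
    | zero => simp
    | succ j ih => rw [Nat.mul_succ, pow_add, pow_mul, ih, ← hK, FiniteField.pow_card]
  conv_lhs => rw [← Nat.mod_add_div k n, pow_add, mul_comm, pow_mul, hper]

variable {F : Type u} [Field F] [Fintype F] {m : ℕ} (h : Params F m)
include h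

theorem suz_weight_one (hm : 2 ≤ m) {t : Fˣ} (ht : orderOf t = Fintype.card F - 1) (k : ℕ) :
    (t : F) ^ 2 ^ k * t ≠ 1 ∧ (t : F) ^ 2 ^ k * ((t : F) * th m (t : F)) ≠ 1 := by
  have hk : k % (2 * m + 1) ≤ 2 * m := Nat.lt_succ_iff.1 (Nat.mod_lt _ (Nat.succ_pos _))
  have h1 : 2 ^ (k % (2 * m + 1)) ≤ 2 ^ (2 * m) := Nat.pow_le_pow_right (by norm_num) hk
  have h2 : 2 ^ (m + 1) + 2 < 2 ^ (2 * m) := by
    have : 2 ^ (m + 1) * 2 ≤ 2 ^ (2 * m) := by
      rw [← pow_succ]; exact Nat.pow_le_pow_right (by norm_num) (by omega)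
    have : 4 ≤ 2 ^ (m + 1) := le_trans (by norm_num) (Nat.pow_le_pow_right (show 1 ≤ 2 by norm_num) (show 2 ≤ m + 1 by omega))
    omega
  have h3 : 2 ^ (2 * m + 1) = 2 * 2 ^ (2 * m) := pow_succ' 2 _
  have h4 : 1 ≤ 2 ^ m := Nat.one_le_two_pow
  have h5 : 1 ≤ 2 ^ (k % (2 * m + 1)) := Nat.one_le_two_pow
  rw [pow_frob_mod h.card, th]
  refine ⟨?_, ?_⟩
  · rw [← pow_succ]
    exact gen_pow_ne ht (Nat.succ_pos _) (by rw [h.card, h3]; omega)
  · rw [← pow_succ', ← pow_add]
    exact gen_pow_ne ht (by omega) (by rw [h.card, h3]; omega)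

/-- The centre of the unipotent subgroup. -/
def suzZ : Multiplicative F →* ↥(Cfsg.Sz F m) where
  toFun v := uS h 0 v.toAdd
  map_one' := uS_zero h
  map_mul' a b := by rw [uS_mul h, toAdd_mul]; simp

/-- The torus. -/
def suzT : Fˣ →* ↥(Cfsg.Sz F m) := dS h

theorem suz_conj (k : Fˣ) (a b : F) :
    suzT h k * uS h a b * (suzT h k)⁻¹ = uS h ((k : F) * a) ((k : F) * th m (k : F) * b) := by
  rw [suzT, dS_mul_uS h, mul_inv_cancel_right]

theorem suzuki_multiplier (hm : 2 ≤ m) : Cfsg.HasCyclicSchurMultiplier ↥(Cfsg.Sz F m) 1 := by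
  classical
  refine trivial_multiplier fun p hp Γ _ _ σ hs hc hcard => ?_
  haveI := Fact.mk hp
  rcases ne_or_eq p 2 with hp2 | rfl
  · obtain ⟨P⟩ := (inferInstance : Nonempty (Sylow p ↥(Cfsg.Sz F m)))
    haveI := sylow_odd_cyclic h hp2 P
    exact not_le_of_meet hs hc hcard P (comm_meet_of_lcomm _ (lcomm_cyclic hs hc))
  haveI := charP_two h
  -- the Sylow 2-subgroup
  have hpU : IsPGroup 2 ↥(US h) := IsPGroup.of_card (n := (2 * m + 1) * 2) (by rw [card_US h, ← pow_mul])
  obtain ⟨S, hS⟩ := hpU.exists_le_sylow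
  have hSeq : (S : Subgroup ↥(Cfsg.Sz F m)) = US h := by
    refine (eq_of_le_of_card_ge hS ?_).symm
    rw [S.card_eq_multiplicity, card_Sz' h, card_US h]
    apply le_of_eq
    have hq : 2 ≤ 2 ^ (2 * m + 1) := Nat.le_self_pow (by omega) 2
    have he : 2 ∣ 2 ^ (2 * m + 1) := dvd_pow_self 2 (by omega)
    have hodd1 : ¬ 2 ∣ 2 ^ (2 * m + 1) - 1 := by omega
    have hodd2 : ¬ 2 ∣ (2 ^ (2 * m + 1)) ^ 2 + 1 := fun hd => by
      have := (Nat.dvd_add_right (dvd_pow he two_ne_zero)).1 hd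
      omega
    rw [Nat.factorization_mul (by positivity) (by omega), Nat.factorization_mul (by positivity) (by omega),
      Finsupp.add_apply, Finsupp.add_apply, Nat.factorization_eq_zero_of_not_dvd hodd1,
      Nat.factorization_eq_zero_of_not_dvd hodd2, ← pow_mul, Nat.Prime.factorization_pow hp, Finsupp.single_eq_same]
    simp
  refine not_le_of_meet hs hc hcard S ?_
  rw [hSeq]
  obtain ⟨t, ht⟩ := exists_gen F
  have hw : ∀ k, (t : F) ^ 2 ^ k * t ≠ 1 := fun k => (suz_weight_one h hm ht k).1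
  have hw' : ∀ k, (t : F) ^ 2 ^ k * ((t : F) * th m (t : F)) ≠ 1 := fun k => (suz_weight_one h hm ht k).2
  have hbij : Function.Surjective fun l : F => l * th m l := mul_th_surjective h
  have hw2 : ∀ k, ((t : F) * th m (t : F)) ^ 2 ^ k * ((t : F) * th m (t : F)) ≠ 1 := fun k e => by
    have e' : (fun l : F => l * th m l) ((t : F) ^ 2 ^ k * t) = (fun l : F => l * th m l) 1 := by
      simp only [th_mul h, th_pow h, th_one h, mul_one]
      linear_combination e
    exact hw k ((Finite.injective_iff_surjective.2 hbij) e')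
  have hmu : (t : F) * th m (t : F) ≠ 0 := mul_ne_zero t.ne_zero fun e => t.ne_zero ((th_eq_zero h).1 e)
  have hZ : ∀ a b : F, LComm σ (uS h 0 a) (uS h 0 b) :=
    lcomm_pair hs hc (p := 2) (fun a => uS h 0 a) (fun b => uS h 0 b) (suzT h t)
      (fun a b => by show _ * _ = _ * _; rw [uS_mul h, uS_mul h]; simp [add_comm])
      (fun a a' => ⟨1, fun b => lcomm_symm (lcomm_one hs hc _), by rw [mul_one, uS_mul h]; simp⟩)
      (fun b b' => by rw [uS_mul h]; simp)
      (fun a => by rw [suz_conj h, mul_zero]) (fun b => by rw [suz_conj h, mul_zero]) hmu hw2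
  have hXZ : ∀ a b : F, LComm σ (uS h a 0) (uS h 0 b) :=
    lcomm_pair hs hc (p := 2) (fun a => uS h a 0) (fun b => uS h 0 b) (suzT h t)
      (fun a b => by show _ * _ = _ * _; rw [uS_mul h, uS_mul h]; simp [th_zero h])
      (fun a a' => ⟨uS h 0 (th m a * a'), fun b => hZ _ b, by
        rw [uS_mul h, uS_mul h]; simp [add_assoc, add_self h]⟩)
      (fun b b' => by rw [uS_mul h]; simp)
      (fun a => by rw [suz_conj h, mul_zero]) (fun b => by rw [suz_conj h, mul_zero]) hmu hw'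
  have hconj : ∀ (z : Fˣ) (v : F), suzT h z * suzZ h (.ofAdd v) * (suzT h z)⁻¹ =
      suzZ h (.ofAdd ((z : F) * th m (z : F) * v)) := fun z v => by
    show suzT h z * uS h 0 v * _ = uS h 0 _
    rw [suz_conj h, mul_zero]
    rfl
  obtain ⟨N, hN1, hN⟩ := exists_norm hs hc 2 (suzZ h) (suzT h) (fun z v => (z : F) * th m (z : F) * v) hcard
    (fun v v' => hZ v v') hconj fun v => by
      let χ : Fˣ →* F :=
        { toFun := fun z => (z : F) * th m (z : F)
          map_one' := by simp [th_one h]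
          map_mul' := fun a b => by rw [Units.val_mul, th_mul h]; ring }
      have hχ : χ ≠ 1 := fun e => by
        have : (t : F) * th m (t : F) = 1 := DFunLike.congr_fun e t
        exact hw2 0 (by rw [this, one_pow, one_mul])
      rw [← Finset.sum_mul, show (∑ i : Fˣ, (i : F) * th m (i : F)) = ∑ i, χ i from rfl, sum_hom_units χ, if_neg hχ]
      simp
  refine comm_meet_bot hs hc 2 (suzZ h) (suzT h) (fun z v => (z : F) * th m (z : F) * v) N hN1 hN hconj (US h)
    (fun v => ⟨_, _, rfl⟩) ?_ (fun a => uS h a 0) (fun a => ⟨_, _, rfl⟩) ?_ (fun v v' => hZ v v') ?_ t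
    (fun a => by rw [suz_conj h, mul_zero]) ?_ t.ne_zero hw
  · rintro _ ⟨a, b, rfl⟩ _ ⟨a', b', rfl⟩
    refine ⟨.ofAdd (th m a * a' + th m a' * a), ?_⟩
    show uS h 0 (th m a * a' + th m a' * a) = _
    rw [commutatorElement_def, uS_inv h, uS_inv h, uS_mul h, uS_mul h, uS_mul h]
    simp only [th_add h]
    congr 1
    · linear_combination -(a + a') * two_eq h
    · linear_combination -(b + b' + th m a * a + th m a * a' + th m a' * a') * two_eq h
  · rintro _ ⟨a, b, rfl⟩
    exact ⟨a, _, ⟨.ofAdd b, rfl⟩, by show _ = uS h a 0 * uS h 0 b; rw [uS_mul h]; simp⟩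
  · exact fun a v => nrm_lcomm hs hc _ N (hXZ a v.toAdd)
  · exact fun a a' => ⟨_, ⟨.ofAdd (th m a * a'), rfl⟩, by
      show _ = uS h a 0 * uS h a' 0 * uS h 0 _; rw [uS_mul h, uS_mul h]; simp [add_self h]⟩

end Cfsg.Lib.Chev.MultW
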