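import Cfsg.Agent.Lib.Chev.MultReeTwo
import Cfsg.Agent.Lib.Chev.MultNorm
import Cfsg.Agent.Lib.Chev.TwG2Gen
import Cfsg.Agent.Lib.Chev.MultSuzuki

/-! The primes two and three in the Schur multiplier of ²G₂(q). -/

set_option autoImplicit false
set_option linter.unusedSectionVars false
set_option maxRecDepth 100000

namespace Cfsg.Lib.Chev.MultW

open Cfsg.Lie Cfsg.Lib.Chev Cfsg.Lib.Chev.G2Aut
open scoped commutatorElement

universe u

/-- The two weight exponents annihilate nothing small. -/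
theorem ree_arith {m k : ℕ} (hm : 1 ≤ m) (hk : k < 2 * m + 1) {N : ℤ} (hN : N = 3 ^ (2 * m + 1) - 1) :
    let T : ℤ := 3 ^ k
    let A : ℤ := (-3 : ℤ) * 3 ^ m + 2
    let B : ℤ := (3 : ℤ) * 3 ^ m + -1
    ¬ N ∣ A * T + A ∧ ¬ N ∣ T + 1 ∧ ¬ N ∣ B * T + B ∧ ¬ N ∣ A * T + 1 ∧ ¬ N ∣ A * T + B ∧ ¬ N ∣ B * T + 1 := by
  intro T A B
  have hT : 1 ≤ T := one_le_pow₀ (by norm_num)
  have hT' : T ≤ 3 ^ (2 * m) := pow_le_pow_right₀ (by norm_num) (by omega)
  have hq : (3 : ℤ) ^ (2 * m + 1) = 3 * 3 ^ (2 * m) := pow_succ' 3 _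
  set r : ℤ := 3 * 3 ^ m with hr
  have hA : A = 2 - r := by simp only [A, hr]; ring
  have hB : B = r - 1 := by simp only [B, hr]; ring
  have hr2 : r * r = 3 * (N + 1) := by rw [hN, sub_add_cancel, hq, hr, two_mul, pow_add]; ring
  have hs : (3 : ℤ) ≤ 3 ^ m := le_self_pow₀ (by norm_num) (by omega)
  have hQ : (3 : ℤ) ^ (2 * m) = 3 ^ m * 3 ^ m := by rw [two_mul, pow_add]
  have hQr : r ≤ 3 ^ (2 * m) := by rw [hQ, hr]; exact mul_le_mul_of_nonneg_right hs (by positivity)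
  have h9 : (9 : ℤ) ≤ 3 ^ (2 * m) := by rw [hQ]; nlinarith
  have small : ∀ X : ℤ, 0 < X → X < N → ¬ N ∣ X := fun X h0 h1 hd => absurd (Int.le_of_dvd h0 hd) (not_le.2 h1)
  have hN' : N = 3 * 3 ^ (2 * m) - 1 := by rw [hN, hq]
  refine ⟨fun hd => ?_, small _ (by linarith) (by linarith), fun hd => ?_, fun hd => ?_, fun hd => ?_, fun hd => ?_⟩
  · have h1 : N ∣ (2 + r) * (A * T + A) + 3 * N * (T + 1) := dvd_add (hd.mul_left _) ⟨3 * (T + 1), by ring⟩
    rw [show (2 + r) * (A * T + A) + 3 * N * (T + 1) = T + 1 by rw [hA]; linear_combination -(T + 1) * hr2] at h1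
    exact small _ (by linarith) (by linarith) h1
  · have h1 : N ∣ (r + 1) * (B * T + B) - 3 * N * (T + 1) := dvd_sub (hd.mul_left _) ⟨3 * (T + 1), by ring⟩
    rw [show (r + 1) * (B * T + B) - 3 * N * (T + 1) = 2 * (T + 1) by rw [hB]; linear_combination (T + 1) * hr2] at h1
    exact small _ (by linarith) (by linarith) h1
  · have h1 : N ∣ (2 + r) * (A * T + 1) + 3 * N * T := dvd_add (hd.mul_left _) ⟨3 * T, by ring⟩
    rw [show (2 + r) * (A * T + 1) + 3 * N * T = T + 2 + r by rw [hA]; linear_combination -T * hr2] at h1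
    exact small _ (by linarith) (by linarith) h1
  · have h1 : N ∣ (2 + r) * (A * T + B) + 3 * N * (T - 1) := dvd_add (hd.mul_left _) ⟨3 * (T - 1), by ring⟩
    rw [show (2 + r) * (A * T + B) + 3 * N * (T - 1) = T + r + 1 by rw [hA, hB]; linear_combination (1 - T) * hr2] at h1
    exact small _ (by linarith) (by linarith) h1
  · have h1 : N ∣ (r + 1) * (B * T + 1) - 3 * N * T := dvd_sub (hd.mul_left _) ⟨3 * T, by ring⟩
    rw [show (r + 1) * (B * T + 1) - 3 * N * T = 2 * T + r + 1 by rw [hB]; linear_combination T * hr2] at h1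
    obtain ⟨c, hc⟩ := h1
    have hc0 : 1 ≤ c := by nlinarith
    have hc1 : c ≤ 1 := by nlinarith
    obtain rfl : c = 1 := le_antisymm hc1 hc0
    rw [mul_one, hN'] at hc
    rcases Nat.eq_zero_or_pos k with rfl | hk0
    · simp only [T, pow_zero] at hc
      linarith
    · have e1 : (3 : ℤ) ∣ 2 * T + r + 3 - 3 * 3 ^ (2 * m) :=
        dvd_sub (dvd_add (dvd_add (Dvd.dvd.mul_left (dvd_pow_self 3 hk0.ne') 2) ⟨_, hr⟩) dvd_rfl) (dvd_mul_right 3 _)
      rw [show 2 * T + r + 3 - 3 * 3 ^ (2 * m) = 1 by linarith] at e1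
      norm_num at e1

variable {K : Type u} [Field K] [Fintype K] [CharP K esymG2.p] {m : ℕ} (hK : Fintype.card K = 3 ^ (2 * m + 1))
include hK

/-- The weights on a generator of the torus. -/
theorem ree_weights (hm : 1 ≤ m) {t : Kˣ} (ht : orderOf t = Fintype.card K - 1) (k : ℕ) :
    let w1 : K := chr tblG2 chevG2 (extend' (g2Par m t)) 6
    let w2 : K := chr tblG2 chevG2 (extend' (g2Par m t)) 10
    let w3 : K := chr tblG2 chevG2 (extend' (g2Par m t)) 11
    w1 ^ 3 ^ k * w1 ≠ 1 ∧ w3 ^ 3 ^ k * w3 ≠ 1 ∧ w2 ^ 3 ^ k * w2 ≠ 1 ∧ w1 ^ 3 ^ k * w3 ≠ 1 ∧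
      w1 ^ 3 ^ k * w2 ≠ 1 ∧ w2 ^ 3 ^ k * w3 ≠ 1 := by
  intro w1 w2 w3
  have hk : k % (2 * m + 1) < 2 * m + 1 := Nat.mod_lt _ (Nat.succ_pos _)
  obtain ⟨a1, a2, a3, a4, a5, a6⟩ := ree_arith hm hk (N := ((Fintype.card K - 1 : ℕ) : ℤ)) (by
    rw [hK, Nat.cast_sub (Nat.one_le_pow _ _ (by norm_num))]; push_cast; ring)
  have hw3 : w3 = ((t ^ (1 : ℤ) : Kˣ) : K) := by simp only [w3, chr11 hK, zpow_one]
  have hne : ∀ {i j : ℤ}, ¬ ((Fintype.card K - 1 : ℕ) : ℤ) ∣ i * (3 : ℤ) ^ (k % (2 * m + 1)) + j →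
      ((t ^ i : Kˣ) : K) ^ 3 ^ k * ((t ^ j : Kˣ) : K) ≠ 1 := fun {i j} h e => h (by
    rw [pow_frob_mod hK, ← Units.val_pow_eq_pow_val, ← Units.val_mul, Units.val_eq_one, ← zpow_natCast,
      ← zpow_mul, ← zpow_add] at e
    push_cast at e
    rw [← ht]
    exact orderOf_dvd_iff_zpow_eq_one.2 e)
  simp only [w1, w2, chr6 hK, chr10 hK, hw3]
  exact ⟨hne a1, hne (by simpa using a2), hne a3, hne a4, hne a5, hne a6⟩

/-- The abelian layer. -/
noncomputable def reeA : Multiplicative (K × K) →* ↥(gG K m) where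
  toFun v := eU hK 0 v.toAdd.1 v.toAdd.2
  map_one' := eU_zero hK
  map_mul' a b := (eU_mul_zero hK _ _ _ _).symm

/-- The torus. -/
noncomputable def reeT : Kˣ →* ↥(gG K m) where
  toFun := eT hK
  map_one' := eT_one hK
  map_mul' := eT_mul hK

theorem eU_val_comm (a b : K) : ∃ v, ⁅eU hK a 0 0, eU hK 0 b 0⁆ = eU hK 0 0 v := by
  rcases eq_or_ne a 0 with rfl | ha
  · exact ⟨0, by rw [eU_zero hK, commutatorElement_one_left]⟩
  obtain ⟨z, hz⟩ := (c6_bijective hK).2 (Units.mk0 a ha)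
  have hz' : chr tblG2 chevG2 (extend' (g2Par m z)) 6 = a := by rw [← c6_val hK, hz]; rfl
  have h10 : chr tblG2 chevG2 (extend' (g2Par m z)) 10 ≠ 0 := by rw [chr10 hK]; exact Units.ne_zero _
  set u := b / chr tblG2 chevG2 (extend' (g2Par m z)) 10 with hu
  refine ⟨chr tblG2 chevG2 (extend' (g2Par m z)) 11 * u, ?_⟩
  have e1 : eT hK z * eU hK 1 0 0 * (eT hK z)⁻¹ = eU hK a 0 0 := by rw [eT_conj, hz', mul_one, mul_zero, mul_zero]
  have e2 : eT hK z * eU hK 0 u 0 * (eT hK z)⁻¹ = eU hK 0 b 0 := by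
    rw [eT_conj, mul_zero, mul_zero, hu, mul_div_cancel₀ _ h10]
  have e3 : eT hK z * eU hK 0 0 u * (eT hK z)⁻¹ = eU hK 0 0 (chr tblG2 chevG2 (extend' (g2Par m z)) 11 * u) := by
    rw [eT_conj, mul_zero, mul_zero]
  rw [← e1, ← e2, ← e3]
  have h := eU_comm hK u
  rw [eU_zero_split hK u (-u)] at h
  have hinv : (eU hK 0 0 (-u))⁻¹ = eU hK 0 0 u := inv_eq_of_mul_eq_one_right (by
    rw [eU_mul_zero hK, add_zero, neg_add_cancel, eU_zero hK])
  have hx : eU hK 1 0 0 * eU hK 0 u 0 = eU hK 0 0 u * (eU hK 0 u 0 * eU hK 1 0 0) := by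
    calc eU hK 1 0 0 * eU hK 0 u 0 = eU hK 1 0 0 * (eU hK 0 u 0 * eU hK 0 0 (-u)) * (eU hK 0 0 (-u))⁻¹ := by group
      _ = eU hK 0 u 0 * eU hK 1 0 0 * eU hK 0 0 u := by rw [← h, hinv]
      _ = _ := by rw [mul_assoc, (eU_central hK 1 0 0 u).eq, ← mul_assoc, (eU_central hK 0 u 0 u).eq, mul_assoc]
  rw [show ⁅eT hK z * eU hK 1 0 0 * (eT hK z)⁻¹, eT hK z * eU hK 0 u 0 * (eT hK z)⁻¹⁆ =
    eT hK z * (eU hK 1 0 0 * eU hK 0 u 0 * (eU hK 1 0 0)⁻¹ * (eU hK 0 u 0)⁻¹) * (eT hK z)⁻¹ by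
    rw [commutatorElement_def]; group, hx]
  group

theorem ree_three_meet (hm : 1 ≤ m) {Γ : Type u} [Group Γ] (σ : Γ →* ↥(gG K m)) (hs : Function.Surjective σ)
    (hc : σ.ker ≤ Subgroup.center Γ) (hcard : Nat.card σ.ker = 3) :
    ⁅(posG K m).comap σ, (posG K m).comap σ⁆ ⊓ σ.ker = ⊥ := by
  classical
  haveI : Fact (Nat.Prime 3) := ⟨Nat.prime_three⟩
  haveI : CharP K 3 := inferInstanceAs (CharP K esymG2.p)
  obtain ⟨t, ht⟩ := exists_gen K
  set w1 : K := chr tblG2 chevG2 (extend' (g2Par m t)) 6 with hw1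
  set w2 : K := chr tblG2 chevG2 (extend' (g2Par m t)) 10 with hw2
  set w3 : K := chr tblG2 chevG2 (extend' (g2Par m t)) 11 with hw3
  have hw := fun k => ree_weights hK hm ht k
  have hw20 : w2 ≠ 0 := by rw [hw2, chr10 hK]; exact Units.ne_zero _
  have hw30 : w3 ≠ 0 := by rw [hw3, chr11 hK]; exact Units.ne_zero _
  have hw10 : w1 ≠ 0 := by rw [hw1, chr6 hK]; exact Units.ne_zero _
  have cX2 : ∀ b, reeT hK t * eU hK 0 b 0 * (reeT hK t)⁻¹ = eU hK 0 (w2 * b) 0 := fun b => by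
    exact (eT_conj hK t 0 b 0).trans (by rw [mul_zero, mul_zero])
  have cX3 : ∀ b, reeT hK t * eU hK 0 0 b * (reeT hK t)⁻¹ = eU hK 0 0 (w3 * b) := fun b => by
    exact (eT_conj hK t 0 0 b).trans (by rw [mul_zero, mul_zero])
  have cX1 : ∀ a, reeT hK t * eU hK a 0 0 * (reeT hK t)⁻¹ = eU hK (w1 * a) 0 0 := fun a => by
    exact (eT_conj hK t a 0 0).trans (by rw [mul_zero, mul_zero])
  have ctriv : ∀ g : ↥(gG K m), LComm σ 1 g := fun g => lcomm_symm (lcomm_one hs hc g)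
  have aX2 : ∀ b b', eU hK 0 (b + b') 0 = eU hK 0 b 0 * eU hK 0 b' 0 := fun b b' => by rw [eU_mul_zero hK, add_zero]
  have aX3 : ∀ b b', eU hK 0 0 (b + b') = eU hK 0 0 b * eU hK 0 0 b' := fun b b' => by rw [eU_mul_zero hK, add_zero]
  have h33 : ∀ a b, LComm σ (eU hK 0 0 a) (eU hK 0 0 b) :=
    lcomm_pair hs hc 3 (fun a => eU hK 0 0 a) (fun b => eU hK 0 0 b) (reeT hK t) (fun a b => eU_central hK _ _ _ _)
      (fun a a' => ⟨1, fun b => ctriv _, by rw [mul_one]; exact aX3 a a'⟩) aX3 cX3 cX3 hw30 fun k => (hw k).2.1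
  have h22 : ∀ a b, LComm σ (eU hK 0 a 0) (eU hK 0 b 0) :=
    lcomm_pair hs hc 3 (fun a => eU hK 0 a 0) (fun b => eU hK 0 b 0) (reeT hK t)
      (fun a b => by show _ * _ = _ * _; rw [← aX2, ← aX2, add_comm])
      (fun a a' => ⟨1, fun b => ctriv _, by rw [mul_one]; exact aX2 a a'⟩) aX2 cX2 cX2 hw20 fun k => (hw k).2.2.1
  have h23 : ∀ a b, LComm σ (eU hK 0 a 0) (eU hK 0 0 b) :=
    lcomm_pair hs hc 3 (fun a => eU hK 0 a 0) (fun b => eU hK 0 0 b) (reeT hK t) (fun a b => eU_central hK _ _ _ _)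
      (fun a a' => ⟨1, fun b => ctriv _, by rw [mul_one]; exact aX2 a a'⟩) aX3 cX2 cX3 hw30 fun k => (hw k).2.2.2.2.2
  have hA3 : ∀ u v b, LComm σ (eU hK 0 u v) (eU hK 0 0 b) := fun u v b => by
    rw [eU_zero_split hK u v]; exact lcomm_mul hs (h23 u b) (h33 v b)
  have hsplit : ∀ a a', ∃ U V, eU hK (a + a') 0 0 = eU hK a 0 0 * eU hK a' 0 0 * eU hK 0 U V := fun a a' => by
    obtain ⟨U, V, e⟩ := eU_mul_fst hK a 0 0 a' 0 0
    obtain ⟨A, B, e'⟩ := eU_split hK (a + a') U V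
    refine ⟨-A, -B, ?_⟩
    rw [e, e', mul_assoc, eU_mul_zero hK, add_neg_cancel, add_neg_cancel, eU_zero hK, mul_one]
  have h13 : ∀ a b, LComm σ (eU hK a 0 0) (eU hK 0 0 b) :=
    lcomm_pair hs hc 3 (fun a => eU hK a 0 0) (fun b => eU hK 0 0 b) (reeT hK t) (fun a b => eU_central hK _ _ _ _)
      (fun a a' => by obtain ⟨U, V, e⟩ := hsplit a a'; exact ⟨_, fun b => hA3 U V b, e⟩) aX3 cX1 cX3 hw30
      fun k => (hw k).2.2.2.1
  have hA2 : ∀ u v b, LComm σ (eU hK 0 u v) (eU hK 0 b 0) := fun u v b => by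
    rw [eU_zero_split hK u v]; exact lcomm_mul hs (h22 u b) (lcomm_symm (h23 b v))
  have hab : ∀ v v' : K × K, LComm σ (reeA hK (.ofAdd v)) (reeA hK (.ofAdd v')) := fun v v' => by
    show LComm σ (eU hK 0 v.1 v.2) (eU hK 0 v'.1 v'.2)
    rw [eU_zero_split hK v'.1 v'.2]
    exact lcomm_symm (lcomm_mul hs (lcomm_symm (hA2 _ _ _)) (lcomm_symm (hA3 _ _ _)))
  let w : Kˣ → K × K → K × K := fun z v =>
    (chr tblG2 chevG2 (extend' (g2Par m z)) 10 * v.1, chr tblG2 chevG2 (extend' (g2Par m z)) 11 * v.2)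
  have hconj : ∀ (z : Kˣ) (v : K × K), reeT hK z * reeA hK (.ofAdd v) * (reeT hK z)⁻¹ = reeA hK (.ofAdd (w z v)) :=
    fun z v => by exact (eT_conj hK z 0 v.1 v.2).trans (by rw [mul_zero]; rfl)
  obtain ⟨N, hN1, hN⟩ := exists_norm hs hc 3 (reeA hK) (reeT hK) w hcard hab hconj fun v => by
    let χ : Kˣ →* K :=
      { toFun := fun z => chr tblG2 chevG2 (extend' (g2Par m z)) 10
        map_one' := by rw [chr10 hK, one_zpow, Units.val_one]
        map_mul' := fun a b => by rw [chr10 hK, chr10 hK, chr10 hK, mul_zpow, Units.val_mul] }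
    have h2 : ∑ z : Kˣ, χ z = 0 := by
      rw [sum_hom_units χ, if_neg fun e => (hw 0).2.2.1 (by
        rw [show chr tblG2 chevG2 (extend' (g2Par m t)) 10 = (1 : K) from DFunLike.congr_fun e t, one_pow, one_mul])]
      simp
    have h3 : ∑ z : Kˣ, (z : K) = 0 := by
      have hne : (Units.coeHom K) ≠ 1 := fun e => (hw 0).2.1 (by
        rw [chr11 hK, show (t : K) = 1 from DFunLike.congr_fun e t, one_pow, one_mul])
      have := sum_hom_units (Units.coeHom K)
      rw [if_neg hne] at this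
      simpa using this
    refine Prod.ext ?_ ?_
    · rw [Prod.fst_sum]
      show ∑ z : Kˣ, χ z * v.1 = 0
      rw [← Finset.sum_mul, h2, zero_mul]
    · rw [Prod.snd_sum]
      show ∑ z : Kˣ, chr tblG2 chevG2 (extend' (g2Par m z)) 11 * v.2 = 0
      simp only [chr11 hK]
      rw [← Finset.sum_mul, h3, zero_mul]
  have h12 : ∀ a b, nrm hs hc (reeA hK) N (eU hK a 0 0) (eU hK 0 b 0) = 1 := by
    refine nrm_pair hs hc 3 (reeA hK) (reeT hK) w N hN hconj (fun a => eU hK a 0 0) (fun b => eU hK 0 b 0) t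
      (fun a b => ?_) (fun c a b => ?_) (fun c a b => ?_) (fun a a' => ?_) aX2 cX1 cX2 hw20 fun k => (hw k).2.2.2.2.1
    · obtain ⟨v, e⟩ := eU_val_comm hK a b; exact ⟨.ofAdd (0, v), e.symm⟩
    · obtain ⟨v, e⟩ := eU_val_comm hK a b; rw [e]; exact h13 c v
    · obtain ⟨v, e⟩ := eU_val_comm hK a b; rw [e]; exact h23 c v
    · obtain ⟨U, V, e⟩ := hsplit a a'; exact ⟨_, fun b => hA2 U V b, e⟩
  refine comm_meet_bot hs hc 3 (reeA hK) (reeT hK) w N hN1 hN hconj (posG K m)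
    (fun v => eU_mem hK _ _ _) ?_ (fun a => eU hK a 0 0) (fun a => eU_mem hK _ _ _) ?_ hab ?_ t cX1 ?_ hw10
    fun k => (hw k).1
  · intro g hg h hh
    obtain ⟨a, b, c, rfl⟩ := exists_eU hK hg
    obtain ⟨a', b', c', rfl⟩ := exists_eU hK hh
    obtain ⟨U, V, e1⟩ := eU_mul_fst hK a b c a' b' c'
    obtain ⟨U', V', e2⟩ := eU_inv_fst hK a b c
    obtain ⟨U'', V'', e3⟩ := eU_inv_fst hK a' b' c'
    rw [commutatorElement_def, e1, e2, e3]
    obtain ⟨X, Y, e4⟩ := eU_mul_fst hK (a + a') U V (-a) U' V'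
    rw [e4]
    obtain ⟨X', Y', e5⟩ := eU_mul_fst hK (a + a' + -a) X Y (-a') U'' V''
    rw [e5, show a + a' + -a + -a' = 0 by ring]
    exact ⟨.ofAdd (X', Y'), rfl⟩
  · intro g hg
    obtain ⟨a, b, c, rfl⟩ := exists_eU hK hg
    obtain ⟨A, B, e⟩ := eU_split hK a b c
    exact ⟨a, _, ⟨.ofAdd (A, B), rfl⟩, e⟩
  · intro a v
    show nrm hs hc (reeA hK) N (eU hK a 0 0) (eU hK 0 v.toAdd.1 v.toAdd.2) = 1
    rw [eU_zero_split hK v.toAdd.1 v.toAdd.2, nrm_swap, nrm_mul_left hs hc (reeA hK) N]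
    · rw [nrm_lcomm hs hc _ N (lcomm_symm (h13 a _)), one_mul, ← nrm_swap, h12]
    · rw [← commutatorElement_inv]
      obtain ⟨u, e⟩ := eU_val_comm hK a v.toAdd.1
      exact inv_mem ⟨.ofAdd (0, u), e.symm⟩
    · rw [commutatorElement_eq_one_iff_mul_comm.2 (eU_central hK a 0 0 v.toAdd.2).symm.eq]; exact one_mem _
    · rw [commutatorElement_eq_one_iff_mul_comm.2 (eU_central hK a 0 0 v.toAdd.2).symm.eq]
      exact nrm_lcomm hs hc _ N (lcomm_one hs hc _)
    · rw [commutatorElement_eq_one_iff_mul_comm.2 (eU_central hK a 0 0 v.toAdd.2).symm.eq, commutatorElement_one_right]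
      exact one_mem _
  · intro a a'
    obtain ⟨U, V, e⟩ := hsplit a a'
    exact ⟨_, ⟨.ofAdd (U, V), rfl⟩, e⟩

/-- The eight elements have abelian preimage. -/
theorem ree_two_meet {Γ : Type u} [Group Γ] [Finite Γ] (σ : Γ →* ↥(gG K m)) (hs : Function.Surjective σ)
    (hc : σ.ker ≤ Subgroup.center Γ) (h8 : ∀ P : Sylow 2 ↥(gG K m), Nat.card ↥(P : Subgroup ↥(gG K m)) = 8) :
    ∃ P : Sylow 2 ↥(gG K m), ⁅(P : Subgroup ↥(gG K m)).comap σ, (P : Subgroup ↥(gG K m)).comap σ⁆ ⊓ σ.ker = ⊥ := by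
  classical
  haveI : Fact (Nat.Prime 2) := ⟨Nat.prime_two⟩
  haveI : Finite ↥(gG K m) := Finite.of_surjective σ hs
  obtain ⟨A, g, hA1, hA2, hAB, hC⟩ := exists_eight (m := m) hK
  set c := MulAut.conj g with hcdef
  have hc_apply : ∀ x, c x = g * x * g⁻¹ := fun x => rfl
  set B := c A with hB
  set C := c B with hCdef
  have hgC : c C = A * B := by rw [hCdef, hB, hc_apply, hc_apply, hc_apply, ← hC]; group
  have cAB : Commute A B := hAB
  have cBC : Commute B C := cAB.map c.toMonoidHom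
  have cCD : Commute C (A * B) := by
    have := cBC.map c.toMonoidHom
    simpa [← hCdef, hgC] using this
  have cAC : Commute A C := by
    have := (cCD.mul_right cBC.symm.inv_right).symm
    simpa using this
  have hA2' : A * A = 1 := hA2
  have hB2 : B * B = 1 := by rw [hB, ← map_mul, hA2', map_one]
  have hC2 : C * C = 1 := by rw [hCdef, ← map_mul, hB2, map_one]
  -- preimages commute
  obtain ⟨a, ha⟩ := hs A
  obtain ⟨G', hG'⟩ := hs g
  set d := MulAut.conj G' with hd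
  have hσd : ∀ x, σ (d x) = c (σ x) := fun x => by
    show σ (G' * x * G'⁻¹) = g * σ x * g⁻¹; rw [map_mul, map_mul, map_inv, hG']
  set b := d a with hb
  set e := d b with he
  have hσb : σ b = B := by rw [hb, hσd, ha]
  have hσe : σ e = C := by rw [he, hσd, hσb]
  have hk : ∀ {x y : Γ}, Commute (σ x) (σ y) → ⁅x, y⁆ ∈ σ.ker := fun {x y} h => by
    rw [MonoidHom.mem_ker, map_commutatorElement, commutatorElement_eq_one_iff_mul_comm]; exact h
  have hfix : ∀ {z : Γ}, z ∈ σ.ker → d z = z := fun {z} hz => by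
    show G' * z * G'⁻¹ = z; rw [mem_center_comm hc hz, mul_inv_cancel_right]
  have hsq : ∀ {x y : Γ}, Commute (σ x) (σ y) → σ y * σ y = 1 → ⁅x, y⁆ * ⁅x, y⁆ = 1 := fun {x y} h h2 => by
    have hy : y * y ∈ σ.ker := by rw [MonoidHom.mem_ker, map_mul, h2]
    have h1 : ⁅x, y * y⁆ = 1 := commutatorElement_eq_one_iff_mul_comm.2 (mem_center_comm hc hy x)
    rw [show ⁅x, y * y⁆ = ⁅x, y⁆ * (y * ⁅x, y⁆ * y⁻¹) by simp only [commutatorElement_def]; group,
      mem_center_comm hc (hk h), mul_inv_cancel_right] at h1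
    exact h1
  have hbe : ⁅b, e⁆ = ⁅a, b⁆ := by
    rw [hb, he, ← map_commutatorElement, ← hb, hfix (hk (by rw [ha, hσb]; exact cAB))]
  have hde : σ (d e) = σ (a * b) := by rw [hσd, hσe, hgC, map_mul, ha, hσb]
  have hed : ⁅e, a * b⁆ = ⁅b, e⁆ := by
    have h1 : ⁅e, d e⁆ = ⁅b, e⁆ := by
      conv_lhs => rw [show e = d b from rfl]
      rw [← map_commutatorElement, hfix (hk (by rw [hσb, hσe]; exact cBC))]
    rw [← h1]
    have hz : (a * b)⁻¹ * d e ∈ σ.ker := by rw [MonoidHom.mem_ker, map_mul, map_inv, hde, inv_mul_cancel]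
    rw [show d e = (a * b) * ((a * b)⁻¹ * d e) by group]
    generalize (a * b)⁻¹ * d e = z at hz
    have hzz := mem_center_comm hc hz
    rw [show a * b * z = z * (a * b) from hzz _]
    have := Cfsg.Lib.Schur.commutatorElement_mul_central (E := Γ) (one_mem _) (hc hz) e (a * b)
    rw [one_mul] at this
    exact this.symm
  have hae : ⁅a, e⁆ = 1 := by
    rw [show ⁅e, a * b⁆ = ⁅e, a⁆ * (a * ⁅e, b⁆ * a⁻¹) by simp only [commutatorElement_def]; group,
      mem_center_comm hc (hk (by rw [hσe, hσb]; exact cBC.symm)), mul_inv_cancel_right] at hed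
    have h2 := hsq (x := b) (y := e) (by rw [hσb, hσe]; exact cBC) (by rw [hσe]; exact hC2)
    have h4 : ⁅e, a⁆ = ⁅b, e⁆ * ⁅e, b⁆⁻¹ := eq_mul_inv_iff_mul_eq.2 hed
    rw [commutatorElement_inv, h2] at h4
    rw [← commutatorElement_inv e a, h4, inv_one]
  -- the next conjugate of a and e
  have hab : ⁅a, b⁆ = 1 := by
    have h1 : ⁅d a, d e⁆ = 1 := by rw [← map_commutatorElement, hae, map_one]
    have hz : (a * b)⁻¹ * d e ∈ σ.ker := by rw [MonoidHom.mem_ker, map_mul, map_inv, hde, inv_mul_cancel]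
    rw [← hb, show d e = (a * b) * ((a * b)⁻¹ * d e) by group] at h1
    generalize (a * b)⁻¹ * d e = z at hz h1
    rw [show a * b * z = z * (a * b) from mem_center_comm hc hz _] at h1
    have := Cfsg.Lib.Schur.commutatorElement_mul_central (E := Γ) (one_mem _) (hc hz) b (a * b)
    rw [one_mul] at this
    rw [this, show ⁅b, a * b⁆ = ⁅b, a⁆ by simp only [commutatorElement_def]; group] at h1
    rw [← commutatorElement_inv, h1, inv_one]
  have hbe1 : ⁅b, e⁆ = 1 := hbe.trans hab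
  have kab : Commute a b := commutatorElement_eq_one_iff_mul_comm.1 hab
  have kbe : Commute b e := commutatorElement_eq_one_iff_mul_comm.1 hbe1
  have kae : Commute a e := commutatorElement_eq_one_iff_mul_comm.1 hae
  -- the group
  let H : Subgroup ↥(gG K m) := Subgroup.closure {A, B, C}
  have hcomm : ∀ x ∈ ({A, B, C} : Set ↥(gG K m)), ∀ y ∈ ({A, B, C} : Set ↥(gG K m)), x * y = y * x := by
    rintro x (rfl | rfl | rfl) y (rfl | rfl | rfl)
    exacts [rfl, cAB, cAC, cAB.symm, rfl, cBC, cAC.symm, cBC.symm, rfl]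
  have hinv : ∀ x ∈ H, x * x = 1 := by
    letI := Subgroup.closureCommGroupOfComm hcomm
    intro x hx
    induction hx using Subgroup.closure_induction with
    | mem x hx => rcases hx with rfl | rfl | rfl <;> assumption
    | one => rw [one_mul]
    | mul x y hx hy ex ey =>
      have : x * y = y * x := congrArg Subtype.val (mul_comm (⟨x, hx⟩ : ↥H) ⟨y, hy⟩)
      rw [show x * y * (x * y) = x * (y * x) * y by group, ← this, show x * (x * y) * y = (x * x) * (y * y) by group,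
        ex, ey, one_mul]
    | inv x hx ex => rw [← mul_inv_rev, ex, inv_one]
  -- eight products
  let f : Bool × Bool × Bool → ↥(gG K m) := fun i =>
    (bif i.1 then A else 1) * (bif i.2.1 then B else 1) * (bif i.2.2 then C else 1)
  have hfH : ∀ i, f i ∈ H := fun i => by
    have : ∀ (i : Bool) {x}, x ∈ ({A, B, C} : Set ↥(gG K m)) → (bif i then x else 1) ∈ H := fun i x hx => by
      cases i
      · exact one_mem _
      · exact Subgroup.subset_closure hx
    exact mul_mem (mul_mem (this _ (by simp)) (this _ (by simp))) (this _ (by simp))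
  have hB1 : B ≠ 1 := fun h => hA1 (c.injective (h.trans (map_one c).symm))
  have hC1 : C ≠ 1 := fun h => hB1 (c.injective (h.trans (map_one c).symm))
  have hnAB : A ≠ B := fun h => by
    have hCA : C = A := by rw [hCdef, ← h]; exact (hB.symm.trans h.symm)
    rw [hCA, ← hB, ← h, hA2'] at hgC
    exact hA1 hgC
  have hnBC : B ≠ C := fun h => hnAB (c.injective h)
  have hnAC : A ≠ C := fun h => by
    have hBD : B = A * B := by rw [← hgC, ← h]
    exact hA1 (right_eq_mul.1 hBD)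
  have hABC : A * B ≠ C := fun h => by
    have h1 : c (A * B) = c C := by rw [h]
    rw [map_mul, ← hB, ← hCdef, hgC] at h1
    rw [cAB.eq] at h1
    exact hnAC (mul_left_cancel h1).symm
  have hinj : Function.Injective f := by
    have key : ∀ i, f i = 1 → i = (false, false, false) := by
      rintro ⟨_ | _, _ | _, _ | _⟩ h <;> simp [f] at h
      · rfl
      · exact absurd h hC1
      · exact absurd h hB1
      · exact absurd (mul_left_cancel (h.trans hB2.symm)).symm hnBC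
      · exact absurd h hA1
      · exact absurd (mul_left_cancel (h.trans hA2'.symm)).symm hnAC
      · exact absurd (mul_left_cancel (h.trans hA2'.symm)).symm hnAB
      · exact absurd (mul_right_cancel (h.trans hC2.symm)) hABC
    intro i j hij
    have hmul : ∀ i j, f i * f j = f (xor i.1 j.1, xor i.2.1 j.2.1, xor i.2.2 j.2.2) := by
      letI := Subgroup.closureCommGroupOfComm hcomm
      intro i j
      have hA' : A ∈ H := Subgroup.subset_closure (by simp)
      have hB' : B ∈ H := Subgroup.subset_closure (by simp)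
      have hC' : C ∈ H := Subgroup.subset_closure (by simp)
      have sq : ∀ (x : ↥H) (p q : Bool), (bif p then x else 1) * (bif q then x else 1) = bif xor p q then x else 1 := by
        intro x p q
        cases p <;> cases q <;> simp
        exact Subtype.ext (hinv _ x.2)
      have key' : ∀ i, f i = (((bif i.1 then (⟨A, hA'⟩ : ↥H) else 1) * (bif i.2.1 then (⟨B, hB'⟩ : ↥H) else 1) *
          (bif i.2.2 then (⟨C, hC'⟩ : ↥H) else 1) : ↥H) : ↥(gG K m)) := by
        rintro ⟨_ | _, _ | _, _ | _⟩ <;> simp [f]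
      rw [key', key', key', ← Subgroup.coe_mul, ← sq, ← sq, ← sq]
      exact congrArg Subtype.val (by ac_rfl)
    have h0 := key _ ((hmul i j).symm.trans (by rw [hij]; exact hinv _ (hfH j)))
    simp only [Prod.mk.injEq] at h0
    have hx : ∀ p q : Bool, xor p q = false → p = q := by decide
    exact Prod.ext (hx _ _ h0.1) (Prod.ext (hx _ _ h0.2.1) (hx _ _ h0.2.2))
  have h8le : 8 ≤ Nat.card ↥H := by
    refine le_trans (le_of_eq ?_) (Nat.card_le_card_of_injective (fun i => (⟨f i, hfH i⟩ : ↥H))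
      fun i j h => hinj (congrArg Subtype.val h))
    simp
  have hH2 : IsPGroup 2 ↥H := fun x => ⟨1, Subtype.ext (by rw [pow_one]; push_cast; rw [pow_two]; exact hinv _ x.2)⟩
  obtain ⟨P, hP⟩ := hH2.exists_le_sylow
  have hPH : (P : Subgroup ↥(gG K m)) = H := (Subgroup.eq_of_le_of_card_ge hP (by rw [h8 P]; exact h8le)).symm
  refine ⟨P, ?_⟩
  rw [hPH]
  refine comm_meet_of_lcomm H fun x hx y hy => ?_
  have base : ∀ {x y}, x ∈ ({A, B, C} : Set ↥(gG K m)) → y ∈ ({A, B, C} : Set ↥(gG K m)) → LComm σ x y := by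
    have hlift : ∀ {x y : ↥(gG K m)} {u v : Γ}, σ u = x → σ v = y → Commute u v → LComm σ x y :=
      fun {x y u v} eu ev huv => (br_eq_one_iff hs hc).1 (by
        rw [← br_eq hs hc eu ev]; exact commutatorElement_eq_one_iff_mul_comm.2 huv)
    rintro x y (rfl | rfl | rfl) (rfl | rfl | rfl)
    exacts [hlift ha ha (Commute.refl _), hlift ha hσb kab, hlift ha hσe kae, hlift hσb ha kab.symm,
      hlift hσb hσb (Commute.refl _), hlift hσb hσe kbe, hlift hσe ha kae.symm, hlift hσe hσb kbe.symm,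
      hlift hσe hσe (Commute.refl _)]
  have step : ∀ y, y ∈ ({A, B, C} : Set ↥(gG K m)) → ∀ x ∈ H, LComm σ x y := by
    intro y hy x hx
    induction hx using Subgroup.closure_induction'' with
    | mem x hx => exact base hx hy
    | inv_mem x hx =>
      rw [inv_eq_of_mul_eq_one_right (hinv x (Subgroup.subset_closure hx))]; exact base hx hy
    | one => exact lcomm_symm (lcomm_one hs hc y)
    | mul x z _ _ ex ez => exact lcomm_mul hs ex ez
  induction hy using Subgroup.closure_induction'' with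
  | mem y hy => exact step y hy x hx
  | inv_mem y hy =>
    rw [inv_eq_of_mul_eq_one_right (hinv y (Subgroup.subset_closure hy))]; exact step y hy x hx
  | one => exact lcomm_one hs hc x
  | mul y z _ _ ey ez => exact lcomm_symm (lcomm_mul hs (lcomm_symm ey) (lcomm_symm ez))

end Cfsg.Lib.Chev.MultW
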