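import Cfsg.Agent.Lib.Chev.MultReeCyclic
import Cfsg.Agent.Lib.Chev.MultReeThree
import Cfsg.Agent.Lib.Chev.TwG2AutNorm

/-! The Schur multiplier of ²G₂(q) is trivial. -/

set_option autoImplicit false
set_option linter.unusedSectionVars false
set_option maxRecDepth 100000

namespace Cfsg.Lib.Chev.MultW

open Cfsg.Lie Cfsg.Lib.Chev Cfsg.Lib.Chev.G2Aut
open scoped commutatorElement

variable {K : Type*} [Field K] [Fintype K] [CharP K esymG2.p] {m : ℕ} (hK : Fintype.card K = 3 ^ (2 * m + 1))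

include hK in
theorem ree_card_gG : Nat.card ↥(gG K m) =
    (3 ^ (2 * m + 1)) ^ 3 * ((3 ^ (2 * m + 1) - 1) * ((3 ^ (2 * m + 1)) ^ 3 + 1)) := by
  have hG := twistedG2_order (m := m) hK
  rw [twistedG2_eq hK] at hG
  rw [← mul_assoc]; exact hG

include hK in
theorem ree_two_card (P : Sylow 2 ↥(gG K m)) : Nat.card ↥(P : Subgroup ↥(gG K m)) = 8 := by
  haveI : Fact (Nat.Prime 2) := ⟨Nat.prime_two⟩
  rw [P.card_eq_multiplicity, ree_card_gG hK]
  set q := 3 ^ (2 * m + 1) with hq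
  have h8 : q % 8 = 3 := by
    rw [hq, pow_succ, pow_mul, Nat.mul_mod, Nat.pow_mod]; norm_num
  have h4 : (q ^ 3 + 1) % 8 = 4 := by rw [Nat.add_mod, Nat.pow_mod, h8]
  obtain ⟨a, ha⟩ : ∃ a, q - 1 = 2 * (2 * a + 1) := ⟨q / 4, by omega⟩
  obtain ⟨b, hb⟩ : ∃ b, q ^ 3 + 1 = 4 * (2 * b + 1) := ⟨(q ^ 3 + 1) / 8, by omega⟩
  have hodd : Odd q := by rw [hq]; exact Odd.pow ⟨1, rfl⟩
  have e : q ^ 3 * ((q - 1) * (q ^ 3 + 1)) = 2 ^ 3 * (q ^ 3 * (2 * a + 1) * (2 * b + 1)) := by rw [ha, hb]; ring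
  have ho : Odd (q ^ 3 * (2 * a + 1) * (2 * b + 1)) := ((hodd.pow).mul ⟨a, rfl⟩).mul ⟨b, rfl⟩
  rw [e, Nat.factorization_mul (by norm_num) (Nat.ne_of_gt ho.pos), Finsupp.add_apply,
    Nat.factorization_eq_zero_of_not_dvd (n := q ^ 3 * (2 * a + 1) * (2 * b + 1))
      (fun h => Nat.not_even_iff_odd.2 ho (even_iff_two_dvd.2 h)),
    Nat.Prime.factorization_pow Nat.prime_two, Finsupp.single_eq_same]
  norm_num

include hK in
/-- The multiplier is trivial. -/
theorem ree_multiplier (hm : 1 ≤ m) : Cfsg.HasCyclicSchurMultiplier ↥(gG K m) 1 := by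
  classical
  refine trivial_multiplier fun p hp Γ _ _ σ hs hc hcard => ?_
  haveI := Fact.mk hp
  rcases Nat.lt_or_ge 3 p with h3 | h3
  · obtain ⟨P⟩ := (inferInstance : Nonempty (Sylow p ↥(gG K m)))
    haveI := ree_sylow_cyclic hK hm h3 P
    exact not_le_of_meet hs hc hcard P (comm_meet_of_lcomm _ (lcomm_cyclic hs hc))
  rcases (show p = 2 ∨ p = 3 by
    have := hp.two_le; omega) with rfl | rfl
  · obtain ⟨P, hP⟩ := ree_two_meet hK σ hs hc (ree_two_card hK)
    exact not_le_of_meet hs hc hcard P hP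
  · have hpU : IsPGroup 3 ↥(posG K m) := IsPGroup.of_card (n := (2 * m + 1) * 3) (by rw [card_posG hK, ← pow_mul])
    obtain ⟨S, hS⟩ := hpU.exists_le_sylow
    have hSeq : (S : Subgroup ↥(gG K m)) = posG K m := by
      refine (Subgroup.eq_of_le_of_card_ge hS ?_).symm
      rw [S.card_eq_multiplicity, ree_card_gG hK, card_posG hK]
      apply le_of_eq
      set q := 3 ^ (2 * m + 1) with hq
      have hq3 : 3 ∣ q := dvd_pow_self 3 (by omega)
      have h3q : 3 ≤ q := Nat.le_of_dvd (by positivity) hq3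
      have h1 : ¬ 3 ∣ q - 1 := by omega
      have h2 : ¬ 3 ∣ q ^ 3 + 1 := fun hd => by
        have := (Nat.dvd_add_right (dvd_pow hq3 three_ne_zero)).1 hd
        omega
      have hne : (q - 1) * (q ^ 3 + 1) ≠ 0 := Nat.mul_ne_zero (by omega) (by omega)
      rw [Nat.factorization_mul (by positivity) hne, Finsupp.add_apply,
        Nat.factorization_eq_zero_of_not_dvd (n := (q - 1) * (q ^ 3 + 1)) (fun h => (Nat.prime_three.dvd_mul.1 h).elim h1 h2),
        hq, ← pow_mul, Nat.Prime.factorization_pow Nat.prime_three, Finsupp.single_eq_same]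
      simp
    refine not_le_of_meet hs hc hcard S ?_
    rw [hSeq]
    exact ree_three_meet hK hm σ hs hc hcard

end Cfsg.Lib.Chev.MultW
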