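import Cfsg.Agent.Lib.Schur.Basic
import Mathlib

/-!
Vanishing of the primary parts of Schur multipliers from torus weights on a Sylow subgroup.
-/

set_option autoImplicit false
set_option linter.unusedSectionVars false

namespace Cfsg.Lib.Chev.MultW

open Subgroup
open scoped commutatorElement Pointwise

universe u

/-! ### Pairings between two weights -/

section Pairing

variable {K : Type*} [Field K] [Finite K] {Z : Type*} [CommGroup Z]

/-- An invariant pairing vanishes when no conjugate of one weight is inverse to the other. -/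
theorem pair_trivial (p : ℕ) [Fact p.Prime] [CharP K p] (c : K → K → Z) (hl : ∀ a a' b, c (a + a') b = c a b * c a' b)
    (hr : ∀ a b b', c a (b + b') = c a b * c a b') {lam mu : K} (hmu : mu ≠ 0)
    (hinv : ∀ a b, c (lam * a) (mu * b) = c a b) (hne : ∀ k : ℕ, lam ^ p ^ k * mu ≠ 1) : ∀ a b, c a b = 1 := by
  letI := ZMod.algebra K p
  let S : Subring (K × K) :=
    { carrier := {x | ∀ a b, c (x.1 * a) b = c a (x.2 * b)}
      one_mem' := fun a b => by simp
      mul_mem' := fun {x y} hx hy a b => by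
        show c (x.1 * y.1 * a) b = c a (x.2 * y.2 * b)
        rw [mul_assoc, hx, hy, ← mul_assoc, mul_comm y.2]
      add_mem' := fun {x y} hx hy a b => by
        show c ((x.1 + y.1) * a) b = c a ((x.2 + y.2) * b)
        rw [add_mul, add_mul, hl, hr, hx, hy]
      zero_mem' := fun a b => by
        show c (0 * a) b = c a (0 * b)
        have h1 := hl 0 0 b
        have h2 := hr a 0 0
        rw [add_zero, left_eq_mul] at h1 h2
        simp [h1, h2]
      neg_mem' := fun {x} hx a b => by
        show c (-x.1 * a) b = c a (-x.2 * b)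
        have h1 := hl (x.1 * a) (-x.1 * a) b
        have h2 := hr a (x.2 * b) (-x.2 * b)
        have h0 := hl 0 0 b
        have h0' := hr a 0 0
        rw [add_zero, left_eq_mul] at h0 h0'
        rw [show x.1 * a + -x.1 * a = 0 by ring, h0, hx] at h1
        rw [show x.2 * b + -x.2 * b = 0 by ring, h0'] at h2
        exact mul_left_cancel (h1.symm.trans h2) }
  have hmem : (lam, mu⁻¹) ∈ S := fun a b => by
    show c (lam * a) b = c a (mu⁻¹ * b)
    conv_lhs => rw [show b = mu * (mu⁻¹ * b) by rw [mul_inv_cancel_left₀ hmu]]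
    exact hinv _ _
  obtain ⟨f, hf⟩ := Polynomial.map_surjective (Int.castRingHom (ZMod p)) ZMod.intCast_surjective (minpoly (ZMod p) lam)
  let ψ : Polynomial ℤ →+* ↥S := Polynomial.eval₂RingHom (Int.castRingHom _) ⟨_, hmem⟩
  have hψ : ∀ φ : K × K →+* K, φ (ψ f : K × K) = Polynomial.aeval (φ (lam, mu⁻¹)) (minpoly (ZMod p) lam) := by
    intro φ
    rw [← hf, Polynomial.aeval_def, Polynomial.eval₂_map]
    show φ (S.subtype (Polynomial.eval₂ _ _ f)) = _
    rw [Polynomial.hom_eval₂, Polynomial.hom_eval₂]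
    congr 1
    exact RingHom.ext_int _ _
  have h1 : (ψ f : K × K).1 = 0 := (hψ (RingHom.fst K K)).trans (minpoly.aeval _ _)
  have h2 : (ψ f : K × K).2 ≠ 0 := fun e => by
    have e' : Polynomial.aeval mu⁻¹ (minpoly (ZMod p) lam) = 0 := (hψ (RingHom.snd K K)).symm.trans e
    obtain ⟨σ, hσ⟩ := minpoly.exists_algEquiv_of_root' (Algebra.IsAlgebraic.isAlgebraic (R := ZMod p) lam) e'
    obtain ⟨⟨k, hk⟩, hks⟩ := (FiniteField.bijective_frobeniusAlgEquivOfAlgebraic_pow (ZMod p) K).2 σ
    refine hne k ?_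
    have : σ lam = lam ^ p ^ k := by
      rw [← hks]
      simp [AlgEquiv.coe_pow, FiniteField.coe_frobeniusAlgEquivOfAlgebraic, ZMod.card, pow_iterate]
    rw [← this, hσ, inv_mul_cancel₀ hmu]
  intro a b
  have h := (ψ f).2 a ((ψ f : K × K).2⁻¹ * b)
  rw [h1, mul_inv_cancel_left₀ h2, zero_mul] at h
  have h0 := hl 0 0 ((ψ f : K × K).2⁻¹ * b)
  rw [add_zero, left_eq_mul] at h0
  rw [← h, h0]

end Pairing

/-! ### Reduction to kernels of prime order -/

/-- A trivial multiplier follows from the absence of stem extensions with kernel of prime order. -/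
theorem trivial_multiplier {G : Type u} [Group G] [Finite G]
    (h : ∀ p : ℕ, p.Prime → ∀ (Γ : Type u) [Group Γ] [Finite Γ] (σ : Γ →* G), Function.Surjective σ →
      σ.ker ≤ center Γ → Nat.card σ.ker = p → ¬ σ.ker ≤ commutator Γ) :
    Cfsg.HasCyclicSchurMultiplier G 1 := by
  have hid : (MonoidHom.id G).ker = ⊥ := (MonoidHom.ker_eq_bot_iff _).2 fun _ _ e => e
  refine ⟨⟨G, inferInstance, inferInstance, MonoidHom.id G, ⟨Function.surjective_id, by rw [hid]; exact bot_le,
    by rw [hid]; exact bot_le⟩, ?_⟩, ?_⟩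
  · exact ⟨{ toFun := fun _ => 1, invFun := fun _ => 1
             left_inv := fun x => Subtype.ext (MonoidHom.mem_ker.1 x.2).symm
             right_inv := fun _ => Subsingleton.elim _ _
             map_mul' := fun _ _ => Subsingleton.elim _ _ }⟩
  intro Γ _ _ σ hσ
  obtain ⟨hs, hc, hle⟩ := hσ
  have hker : σ.ker = ⊥ := by
    classical
    by_contra hne
    obtain ⟨M, ⟨hML, hMne⟩, hmax⟩ := (Set.toFinite {M : Subgroup Γ | M ≤ σ.ker ∧ M ≠ σ.ker}).exists_maximalFor
      id _ ⟨⊥, bot_le, Ne.symm hne⟩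
    have hMn : M.Normal := ⟨fun n hn g => by
      rw [mem_center_iff.1 (hc (hML hn)) g, mul_inv_cancel_right]; exact hn⟩
    let σ' : Γ ⧸ M →* G := QuotientGroup.lift M σ hML
    have hs' : Function.Surjective σ' := fun g => by
      obtain ⟨x, rfl⟩ := hs g; exact ⟨QuotientGroup.mk x, rfl⟩
    have hk' : σ'.ker = σ.ker.map (QuotientGroup.mk' M) := QuotientGroup.ker_lift _ _ _
    have hc' : σ'.ker ≤ center (Γ ⧸ M) := by
      rw [hk']
      rintro _ ⟨x, hx, rfl⟩
      refine mem_center_iff.2 fun g => ?_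
      obtain ⟨g, rfl⟩ := QuotientGroup.mk_surjective g
      exact congrArg (QuotientGroup.mk' M) (mem_center_iff.1 (hc hx) g)
    have hle' : σ'.ker ≤ commutator (Γ ⧸ M) := by
      rw [hk', _root_.commutator_def, ← map_top_of_surjective (QuotientGroup.mk' M)
        (QuotientGroup.mk'_surjective M), ← Subgroup.map_commutator, ← _root_.commutator_def]
      exact map_mono hle
    obtain ⟨p, hp, hcard⟩ : ∃ p : ℕ, p.Prime ∧ Nat.card σ'.ker = p := by
      have hne1 : Nat.card σ'.ker ≠ 1 := by
        intro e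
        refine hMne (le_antisymm hML fun x hx => ?_)
        have := (eq_bot_iff_forall _).1 (eq_bot_of_card_eq _ e) (QuotientGroup.mk x)
          (show σ x = 1 from hx)
        exact (QuotientGroup.eq_one_iff _).1 this
      obtain ⟨p, hp, hpd⟩ := Nat.exists_prime_and_dvd hne1
      haveI := Fact.mk hp
      obtain ⟨⟨y, hy⟩, hyo⟩ := exists_prime_orderOf_dvd_card' (G := σ'.ker) p hpd
      refine ⟨p, hp, ?_⟩
      have hyo' : orderOf y = p := by rw [← hyo]; exact orderOf_coe (⟨y, hy⟩ : σ'.ker)
      have hcomap : (zpowers y).comap (QuotientGroup.mk' M) = σ.ker := by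
        have hMle : M ≤ (zpowers y).comap (QuotientGroup.mk' M) := fun x hx => by
          show QuotientGroup.mk' M x ∈ zpowers y
          rw [QuotientGroup.mk'_apply, (QuotientGroup.eq_one_iff x).2 hx]; exact one_mem _
        have hle2 : (zpowers y).comap (QuotientGroup.mk' M) ≤ σ.ker := fun x hx =>
          show σ' (QuotientGroup.mk x) = 1 from (zpowers_le.2 hy : zpowers y ≤ σ'.ker) hx
        by_contra hne2
        have heq := le_antisymm (hmax ⟨hle2, hne2⟩ hMle) hMle
        obtain ⟨x, rfl⟩ := QuotientGroup.mk_surjective y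
        have : x ∈ M := by
          rw [← show (zpowers (QuotientGroup.mk x : Γ ⧸ M)).comap (QuotientGroup.mk' M) = M from heq]
          exact mem_zpowers _
        rw [(QuotientGroup.eq_one_iff x).2 this, orderOf_one] at hyo'
        exact hp.ne_one hyo'.symm
      rw [hk', ← hcomap, map_comap_eq_self_of_surjective (QuotientGroup.mk'_surjective M),
        Nat.card_zpowers, hyo']
    exact h p hp (Γ ⧸ M) σ' hs' hc' hcard hle'
  exact ⟨1, fun x => ⟨1, Subtype.ext (by have := x.2; simp only [hker, mem_bot] at this; simpa using this.symm)⟩⟩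

/-! ### Central extensions -/

variable {G Γ : Type u} [Group G] [Group Γ] {σ : Γ →* G}

theorem mem_center_comm (hc : σ.ker ≤ center Γ) {z : Γ} (hz : z ∈ σ.ker) (g : Γ) : g * z = z * g :=
  mem_center_iff.1 (hc hz) g

/-- Preimages of two elements commute, whatever they are. -/
def LComm (σ : Γ →* G) (g h : G) : Prop := ∀ A B : Γ, σ A = g → σ B = h → A * B = B * A

/-- The transfer argument: an element of prime order of the kernel is no product of commutators unless it is one in
the preimage of a Sylow subgroup. -/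
theorem not_le_of_meet [Finite Γ] {p : ℕ} [Fact p.Prime] (hs : Function.Surjective σ) (hc : σ.ker ≤ center Γ)
    (hcard : Nat.card σ.ker = p) (P : Sylow p G)
    (hmeet : ⁅(P : Subgroup G).comap σ, (P : Subgroup G).comap σ⁆ ⊓ σ.ker = ⊥) : ¬ σ.ker ≤ commutator Γ := by
  intro hle
  obtain ⟨E, hE⟩ : ∃ E, E = (P : Subgroup G).comap σ := ⟨_, rfl⟩
  rw [← hE] at hmeet
  haveI : Finite G := Finite.of_surjective σ hs
  have hone : ∀ z ∈ σ.ker, z = 1 := by
    intro z hz
    have hzE : z ∈ E := by rw [hE, mem_comap, MonoidHom.mem_ker.1 hz]; exact one_mem _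
    let φ : ↥E →* Abelianization ↥E := Abelianization.of
    have h1 : φ.transfer z = 1 := Abelianization.commutator_subset_ker φ.transfer (hle hz)
    rw [MonoidHom.transfer_eq_pow φ z (fun k g₀ _ => by
      rw [mul_assoc, ← mem_center_iff.1 (pow_mem (hc hz) k) g₀, inv_mul_cancel_left])] at h1
    have h2 : z ^ E.index ∈ ⁅E, E⁆ := by
      have h3 := (QuotientGroup.eq_one_iff _).1 h1
      have h4 : ((commutator ↥E).map E.subtype) = ⁅E, E⁆ := by
        rw [_root_.commutator_def, Subgroup.map_commutator, ← MonoidHom.range_eq_map, range_subtype]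
      exact h4 ▸ mem_map_of_mem E.subtype h3
    have h5 : z ^ E.index = 1 := by
      have : z ^ E.index ∈ ⁅E, E⁆ ⊓ σ.ker := ⟨h2, pow_mem hz _⟩
      rwa [hmeet, mem_bot] at this
    have hzp : z ^ p = 1 := congrArg Subtype.val (show (⟨z, hz⟩ : σ.ker) ^ p = 1 from hcard ▸ pow_card_eq_one')
    have hcop : Nat.Coprime p E.index := by
      rw [hE, index_comap_of_surjective _ hs]
      exact (Fact.out : p.Prime).coprime_iff_not_dvd.2 P.not_dvd_index
    have := pow_gcd_eq_one.2 ⟨hzp, h5⟩
    rwa [hcop.gcd_eq_one, pow_one] at this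
  rw [(eq_bot_iff_forall _).2 hone, card_bot] at hcard
  exact (Fact.out : p.Prime).ne_one hcard.symm

theorem comm_meet_of_lcomm (P : Subgroup G) (h : ∀ g ∈ P, ∀ g' ∈ P, LComm σ g g') :
    ⁅P.comap σ, P.comap σ⁆ ⊓ σ.ker = ⊥ := by
  rw [(commutator_eq_bot_iff_le_centralizer (H₁ := P.comap σ) (H₂ := P.comap σ)).2 fun A hA =>
    mem_centralizer_iff.2 fun B hB => h _ hB _ hA B A rfl rfl, bot_inf_eq]

/-- A cyclic subgroup has abelian preimage. -/
theorem lcomm_cyclic (hs : Function.Surjective σ) (hc : σ.ker ≤ center Γ) {P : Subgroup G} [hP : IsCyclic ↥P] :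
    ∀ g ∈ P, ∀ g' ∈ P, LComm σ g g' := by
  obtain ⟨⟨z, hz⟩, hgen⟩ := hP.exists_generator
  obtain ⟨Z, hZ⟩ := hs z
  intro g hg g' hg' A B eA eB
  have key : ∀ {A : Γ} {g : G}, g ∈ P → σ A = g → ∃ w ∈ σ.ker, ∃ i : ℤ, A = w * Z ^ i := fun {A g} hg e => by
    obtain ⟨i, hi⟩ := hgen ⟨g, hg⟩
    have hi' : z ^ i = g := congrArg Subtype.val hi
    exact ⟨A * (Z ^ i)⁻¹, by rw [MonoidHom.mem_ker, map_mul, map_inv, map_zpow, hZ, hi', e, mul_inv_cancel], i,
      (inv_mul_cancel_right _ _).symm⟩
  obtain ⟨w, hw, i, rfl⟩ := key hg eA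
  obtain ⟨w', hw', j, rfl⟩ := key hg' eB
  have c1 : Commute w (w' * Z ^ j) := (mem_center_comm hc hw _).symm
  have c2 : Commute (Z ^ i) (w' * Z ^ j) := Commute.mul_right (mem_center_comm hc hw' _) (Commute.zpow_zpow_self Z i j)
  exact c1.mul_left c2

section Lift

variable (hs : Function.Surjective σ) (hc : σ.ker ≤ center Γ)
include hs hc

/-- The commutator of preimages. -/
noncomputable def br (g h : G) : Γ := ⁅(hs g).choose, (hs h).choose⁆

theorem br_eq {A B : Γ} {g h : G} (eA : σ A = g) (eB : σ B = h) : ⁅A, B⁆ = br hs g h := by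
  have key : ∀ {A : Γ} {g : G}, σ A = g → ∃ w ∈ center Γ, A = w * (hs g).choose := fun {A g} e =>
    ⟨A * (hs g).choose⁻¹, hc (by rw [MonoidHom.mem_ker, map_mul, map_inv, (hs g).choose_spec, e, mul_inv_cancel]),
      (inv_mul_cancel_right _ _).symm⟩
  obtain ⟨w, hw, rfl⟩ := key eA
  obtain ⟨w', hw', rfl⟩ := key eB
  exact Cfsg.Lib.Schur.commutatorElement_mul_central hw hw' _ _

theorem map_br (g h : G) : σ (br hs g h) = ⁅g, h⁆ := by
  rw [br, map_commutatorElement, (hs g).choose_spec, (hs h).choose_spec]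

theorem br_eq_one_iff {g h : G} : br hs g h = 1 ↔ LComm σ g h := by
  refine ⟨fun e A B eA eB => commutatorElement_eq_one_iff_mul_comm.1 ((br_eq hs hc eA eB).trans e), fun e =>
    commutatorElement_eq_one_iff_mul_comm.2 (e _ _ (hs g).choose_spec (hs h).choose_spec)⟩

theorem lcomm_one (g : G) : LComm σ g 1 := fun A B _ eB => mem_center_comm hc (MonoidHom.mem_ker.2 eB) A

omit hs hc in
theorem lcomm_symm {g h : G} (e : LComm σ g h) : LComm σ h g := fun A B eA eB => (e B A eB eA).symm

omit hc in
theorem lcomm_mul {g g' h : G} (e : LComm σ g h) (e' : LComm σ g' h) : LComm σ (g * g') h := by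
  intro A B eA eB
  obtain ⟨C, hC⟩ := hs g'
  have h1 : σ (A * C⁻¹) = g := by rw [map_mul, map_inv, eA, hC, mul_inv_cancel_right]
  have k1 : Commute (A * C⁻¹) B := e _ _ h1 eB
  have k2 : Commute C B := e' _ _ hC eB
  have := k1.mul_left k2
  rw [inv_mul_cancel_right] at this
  exact this

/-- `br` is multiplicative in the first variable up to conjugation. -/
theorem br_mul_left (g g' h : G) :
    br hs (g * g') h = (hs g).choose * br hs g' h * (hs g).choose⁻¹ * br hs g h := by
  rw [← br_eq hs hc (A := (hs g).choose * (hs g').choose) (B := (hs h).choose)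
    (by rw [map_mul, (hs g).choose_spec, (hs g').choose_spec]) (hs h).choose_spec, br, br, commutatorElement_def,
    commutatorElement_def, commutatorElement_def]
  group

theorem br_mul_right (g h h' : G) :
    br hs g (h * h') = br hs g h * ((hs h).choose * br hs g h' * (hs h).choose⁻¹) := by
  rw [← br_eq hs hc (B := (hs h).choose * (hs h').choose) (A := (hs g).choose) (hs g).choose_spec
    (by rw [map_mul, (hs h).choose_spec, (hs h').choose_spec]), br, br, commutatorElement_def,
    commutatorElement_def, commutatorElement_def]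
  group

theorem br_conj (T : Γ) (g h : G) : br hs (σ T * g * (σ T)⁻¹) (σ T * h * (σ T)⁻¹) = T * br hs g h * T⁻¹ := by
  rw [← br_eq hs hc (A := T * (hs g).choose * T⁻¹) (B := T * (hs h).choose * T⁻¹)
    (by rw [map_mul, map_mul, map_inv, (hs g).choose_spec]) (by rw [map_mul, map_mul, map_inv, (hs h).choose_spec]),
    br, commutatorElement_def, commutatorElement_def]
  group

end Lift

end Cfsg.Lib.Chev.MultW
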