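import Cfsg.Agent.Lib.Chev.TwG2Facts

/-! The double coset structure of ²G₂(q). -/

set_option autoImplicit false
set_option linter.unusedSectionVars false
set_option maxRecDepth 20000

namespace Cfsg.Lib.Chev

open Cfsg.Lie
open scoped Pointwise

variable {K : Type*} [Field K] [Fintype K] [CharP K esymG2.p] {m : ℕ} (hK : Fintype.card K = 3 ^ (2 * m + 1))
include hK

/-- The fixed representative of the long element. -/
theorem g2_exists_long :
    ∃ n ∈ (twOKG2 (K := K) m).fixed certG2C, n ∈ chevG2.monomialSubgroup K ∧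
      (∀ x ∈ chevG2.posUnipotent K, n * x * n⁻¹ ∈ chevG2.negUnipotent K ∧ n⁻¹ * x * n ∈ chevG2.negUnipotent K) ∧
      ∀ g ∈ (twOKG2 (K := K) m).fixed certG2C, g ∈ chevG2.borelSubgroup K ∨
        ∃ b ∈ chevG2.borelSubgroup K ⊓ (twOKG2 (K := K) m).fixed certG2C,
          ∃ c ∈ chevG2.posUnipotent K ⊓ (twOKG2 (K := K) m).fixed certG2C, g = b * n * c := by
  have he1 : 1 < twG2.elts.length := by decide
  obtain ⟨n, hn, hd⟩ := (twOKG2 (K := K) m).exists_fixed_rep certG2C twCombG2 he1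
  have hw := twCombG2.eword_word certG2C he1
  have hnN : n ∈ chevG2.monomialSubgroup K := by
    have := mul_mem (wnu_mem certG2C (F := K) hw) (diag_le_monomial certG2C hd)
    rwa [mul_inv_cancel_left] at this
  have hneg : ∀ r < chevG2.nroots, wperm tblG2 (twG2.eword 1) r = tblG2.neg r := by decide +kernel
  have hconj : ∀ x ∈ chevG2.posUnipotent K, n * x * n⁻¹ ∈ chevG2.negUnipotent K := by
    intro x hx
    induction hx using Subgroup.closure_induction with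
    | mem g hg =>
      obtain ⟨r, t, hr, e⟩ := hg
      obtain ⟨c, -, hc⟩ := mono_conj_lprod certG2C hw hd
      have h1 := hc [r] (fun _ => t) (by simpa using hr.1)
      simp [lprod] at h1
      rw [eq_xg certG2C e, h1, hneg r hr.1]
      refine xg_mem_neg certG2C (certG2C.spec.neg_lt r hr.1) ?_ _
      have := (certG2C.isPos_iff hr.1).1 hr
      have := hr.1
      rw [certG2C.neg_eq hr.1]
      omega
    | one => simp
    | mul a b _ _ ha hb =>
      have := mul_mem ha hb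
      rwa [show n * a * n⁻¹ * (n * b * n⁻¹) = n * (a * b) * n⁻¹ by group] at this
    | inv a _ ha =>
      have := inv_mem ha
      rwa [show (n * a * n⁻¹)⁻¹ = n * a⁻¹ * n⁻¹ by group] at this
  have hnn : n * n ∈ chevG2.diagonalSubgroup K := by
    have h2 : wnu certG2C K (twG2.eword 1) * wnu certG2C K (twG2.eword 1) ∈ chevG2.diagonalSubgroup K := by
      have := same_of_perm certG2C fullCertG2 (F := K) (show IsWord chevG2 [] from fun i hi => absurd hi List.not_mem_nil)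
        (hw.append hw) fun k hk => by
          revert k; decide +kernel
      simpa [wnu] using this
    have := mul_mem (mul_mem h2 (conj_mem_diag certG2C (wnu_mem certG2C hw) hd).2) hd
    simpa [mul_assoc] using this
  refine ⟨n, hn, hnN, fun x hx => ⟨hconj x hx, ?_⟩, fun g hg => ?_⟩
  · have h1 := (Subgroup.mem_normalizer_iff.1 (neg_conj_diag certG2C (inv_mem hnn)) _).1 (hconj x hx)
    rwa [show (n * n)⁻¹ * (n * x * n⁻¹) * ((n * n)⁻¹)⁻¹ = n⁻¹ * x * n by group] at h1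
  obtain ⟨e, he, hall⟩ := (twOKG2 (K := K) m).bruhat_fixed certG2C fullCertG2 twCombG2 hg
  have he2 : e = 0 ∨ e = 1 := by
    have : e < 2 := he
    omega
  rcases he2 with rfl | rfl
  · left
    obtain ⟨b, hb, c, hc, e0⟩ := hall 1 (one_mem _) (by rw [show twG2.eword 0 = [] from rfl]; simp [wnu])
    rw [e0, mul_one]
    exact mul_mem hb.1 (signPart_le_borel certG2C fullCertG2 _ true hc.1)
  · right
    obtain ⟨b, hb, c, hc, e0⟩ := hall n hn hd
    exact ⟨b, hb, c, ⟨((signPart_iff_conj certG2C fullCertG2 hw hd).1 hc.1).1, hc.2⟩, e0⟩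

/-- Sylow 3-subgroups intersect trivially. -/
theorem g2_sylow_inter (P Q : Sylow 3 ↥((twOKG2 (K := K) m).fixed certG2C)) (hPQ : P ≠ Q) :
    (P : Subgroup ↥((twOKG2 (K := K) m).fixed certG2C)) ⊓ Q = ⊥ := by
  haveI : Fact (Nat.Prime 3) := ⟨Nat.prime_three⟩
  obtain ⟨n, hn, hnN, hconj, hdec⟩ := g2_exists_long hK
  let U := (chevG2.posUnipotent K ⊓ (twOKG2 (K := K) m).fixed certG2C).subgroupOf ((twOKG2 (K := K) m).fixed certG2C)
  have hcU : Nat.card ↥U = (3 ^ (2 * m + 1)) ^ 3 := by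
    rw [Nat.card_congr (Subgroup.subgroupOfEquivOfLe inf_le_right).toEquiv,
      (twOKG2 (K := K) m).card_pos_fixed certG2C fullCertG2 twCombG2 (wt := fun _ => 3) (fun J hJ => g2_card_fixPart hK hJ)
        two_pos (by decide +kernel)]
    rfl
  have hodd : ¬ 3 ∣ U.index := by
    have h := U.card_mul_index
    have hcG := twistedG2_order hK
    rw [twistedG2_eq hK] at hcG
    rw [hcU, hcG, mul_assoc ((3 ^ (2 * m + 1)) ^ 3)] at h
    rw [Nat.eq_of_mul_eq_mul_left (by positivity) h, Nat.prime_three.dvd_mul]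
    have h2 : 3 ^ (2 * m + 1) % 3 = 0 := by rw [pow_succ]; omega
    have h3 : (3 ^ (2 * m + 1)) ^ 3 % 3 = 0 := by rw [Nat.pow_mod, h2]
    have h1 : 1 ≤ 3 ^ (2 * m + 1) := Nat.one_le_pow _ _ (by norm_num)
    omega
  let Q0 : Sylow 3 ↥((twOKG2 (K := K) m).fixed certG2C) :=
    (IsPGroup.of_card (n := (2 * m + 1) * 3) (by rw [hcU, ← pow_mul]) : IsPGroup 3 ↥U).toSylow hodd
  obtain ⟨a, ha⟩ := MulAction.exists_smul_eq ↥((twOKG2 (K := K) m).fixed certG2C) P Q0
  have key : ∀ R : Sylow 3 ↥((twOKG2 (K := K) m).fixed certG2C), R ≠ Q0 →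
      ∀ x, x ∈ (Q0 : Subgroup ↥((twOKG2 (K := K) m).fixed certG2C)) → x ∈ (R : Subgroup _) → x = 1 := by
    intro R hR x hx hxR
    obtain ⟨g, hg⟩ := MulAction.exists_smul_eq ↥((twOKG2 (K := K) m).fixed certG2C) Q0 R
    rw [← hg, Sylow.coe_subgroup_smul] at hxR
    obtain ⟨y, hy, exy⟩ := hxR
    have hxU : (x : GL chevG2.Idx K) ∈ chevG2.posUnipotent K := (Subgroup.mem_subgroupOf.1 (show x ∈ U from hx)).1
    have hyU : (y : GL chevG2.Idx K) ∈ chevG2.posUnipotent K := (Subgroup.mem_subgroupOf.1 (show y ∈ U from hy)).1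
    have ex : (g : GL chevG2.Idx K) * y * (g : GL chevG2.Idx K)⁻¹ = x := congrArg Subtype.val exy
    have hBn : ∀ b ∈ chevG2.borelSubgroup K, ∀ z ∈ chevG2.posUnipotent K, b * z * b⁻¹ ∈ chevG2.posUnipotent K := by
      intro b hb z hz
      have hb' : b ∈ Subgroup.normalizer (chevG2.posUnipotent K : Set (GL chevG2.Idx K)) ⊓ chevG2.group K := by
        rw [normalizer_pos certG2C fullCertG2]; exact hb
      exact (Subgroup.mem_normalizer_iff.1 hb'.1 z).1 hz
    rcases hdec g g.2 with hgB | ⟨b, hb, c, hc, e⟩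
    · exfalso
      refine hR ?_
      rw [← hg]
      refine Sylow.ext ?_
      rw [Sylow.coe_subgroup_smul]
      refine le_antisymm ?_ fun z hz => ?_
      · rintro _ ⟨z, hz, rfl⟩
        exact Subgroup.mem_subgroupOf.2 ⟨hBn _ hgB _ (Subgroup.mem_subgroupOf.1 (show z ∈ U from hz)).1, (g * z * g⁻¹).2⟩
      · refine ⟨g⁻¹ * z * g, Subgroup.mem_subgroupOf.2 ⟨?_, (g⁻¹ * z * g).2⟩, by show g * (g⁻¹ * z * g) * g⁻¹ = z; group⟩
        have := hBn _ (Subgroup.inv_mem _ hgB) _ (Subgroup.mem_subgroupOf.1 (show z ∈ U from hz)).1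
        simpa using this
    · have h1 : n * (c * y * c⁻¹) * n⁻¹ ∈ chevG2.negUnipotent K :=
        (hconj _ (Subgroup.mul_mem _ (Subgroup.mul_mem _ hc.1 hyU) (Subgroup.inv_mem _ hc.1))).1
      have h2 : n * ((c : GL chevG2.Idx K) * y * c⁻¹) * n⁻¹ = b⁻¹ * x * b := by rw [← ex, e]; group
      rw [h2] at h1
      have h3 : b⁻¹ * (x : GL chevG2.Idx K) * b ∈ chevG2.borelSubgroup K ⊓ chevG2.negUnipotent K :=
        ⟨Subgroup.mul_mem _ (Subgroup.mul_mem _ (Subgroup.inv_mem _ hb.1) (Subgroup.mem_sup_left hxU)) hb.1, h1⟩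
      rw [borel_inf_neg certG2C, Subgroup.mem_bot] at h3
      refine Subtype.ext ?_
      rw [show (x : GL chevG2.Idx K) = b * (b⁻¹ * x * b) * b⁻¹ by group, h3]
      simp
  refine (Subgroup.eq_bot_iff_forall _).2 fun x hx => ?_
  have h := key (a • Q) (fun e => hPQ (by rw [← ha] at e; exact (MulAction.injective a e).symm)) (a * x * a⁻¹) ?_ ?_
  · exact conj_eq_one_iff.1 h
  · rw [← ha, Sylow.coe_subgroup_smul]; exact ⟨x, hx.1, rfl⟩
  · rw [Sylow.coe_subgroup_smul]; exact ⟨x, hx.2, rfl⟩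

/-- Stabilisers of three points on the cosets of the Borel subgroup. -/
theorem g2_three_point :
    let G := (twOKG2 (K := K) m).fixed certG2C
    (∀ x y z : ↥G ⧸ (chevG2.borelSubgroup K ⊓ G).subgroupOf G, x ≠ y → x ≠ z → y ≠ z →
      Nat.card ↥(MulAction.stabilizer ↥G x ⊓ MulAction.stabilizer ↥G y ⊓ MulAction.stabilizer ↥G z) ≤ 2) ∧
    ∃ x y z : ↥G ⧸ (chevG2.borelSubgroup K ⊓ G).subgroupOf G, x ≠ y ∧ x ≠ z ∧ y ≠ z ∧
      Nat.card ↥(MulAction.stabilizer ↥G x ⊓ MulAction.stabilizer ↥G y ⊓ MulAction.stabilizer ↥G z) = 2 := by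
  intro G
  haveI : CharP K 3 := inferInstanceAs (CharP K esymG2.p)
  obtain ⟨n0, hn0, hnN, hconj, hdec⟩ := g2_exists_long hK
  set B := (chevG2.borelSubgroup K ⊓ G).subgroupOf G
  let n : ↥G := ⟨n0, hn0⟩
  have hB : ∀ g : ↥G, g ∈ B ↔ (g : GL chevG2.Idx K) ∈ chevG2.borelSubgroup K := fun g =>
    ⟨fun h => (Subgroup.mem_subgroupOf.1 h).1, fun h => Subgroup.mem_subgroupOf.2 ⟨h, g.2⟩⟩
  let T : ↥G → Subgroup ↥G := fun u => MulAction.stabilizer ↥G ((1 : ↥G) : ↥G ⧸ B) ⊓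
    MulAction.stabilizer ↥G ((n : ↥G) : ↥G ⧸ B) ⊓ MulAction.stabilizer ↥G ((u * n : ↥G) : ↥G ⧸ B)
  have hst : ∀ a g : ↥G, g ∈ MulAction.stabilizer ↥G ((a : ↥G) : ↥G ⧸ B) ↔ a⁻¹ * g * a ∈ B := by
    intro a g
    rw [MulAction.mem_stabilizer_iff, MulAction.Quotient.smul_coe, eq_comm, QuotientGroup.eq, smul_eq_mul, mul_assoc]
  -- the stabiliser of the two base points
  have htwo : ∀ g : ↥G, g ∈ B → n⁻¹ * g * n ∈ B → (g : GL chevG2.Idx K) ∈ chevG2.diagonalSubgroup K := by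
    intro g h1 h2
    obtain ⟨v, hv, d, hd, e⟩ := (mem_borel certG2C).1 ((hB g).1 h1)
    have h2' : n0⁻¹ * (g : GL chevG2.Idx K) * n0 ∈ chevG2.borelSubgroup K := (hB _).1 h2
    have hd' : n0⁻¹ * d * n0 ∈ chevG2.borelSubgroup K := Subgroup.mem_sup_right (conj_mem_diag certG2C hnN hd).2
    have h3 : n0⁻¹ * v * n0 ∈ chevG2.borelSubgroup K ⊓ chevG2.negUnipotent K := by
      refine ⟨?_, (hconj v hv).2⟩
      have := Subgroup.mul_mem _ h2' (Subgroup.inv_mem _ hd')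
      rwa [e, show n0⁻¹ * (v * d) * n0 * (n0⁻¹ * d * n0)⁻¹ = n0⁻¹ * v * n0 by group] at this
    rw [borel_inf_neg certG2C, Subgroup.mem_bot] at h3
    have hv1 : v = 1 := by
      rw [show v = n0 * (n0⁻¹ * v * n0) * n0⁻¹ by group, h3]; group
    rw [e, hv1, one_mul]; exact hd
  have hT : ∀ (u g : ↥G), (u : GL chevG2.Idx K) ∈ chevG2.posUnipotent K → g ∈ T u →
      ∃ z : Kˣ, (g : GL chevG2.Idx K) = torusHom chevG2 tblG2 K (g2Par m z) ∧
        (g : GL chevG2.Idx K) * u = u * g := by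
    intro u g hu hg
    obtain ⟨⟨h1, h2⟩, h3⟩ := hg
    have h1' : g ∈ B := by have := (hst 1 g).1 h1; simpa using this
    have hd := htwo g h1' ((hst n g).1 h2)
    obtain ⟨z, hz⟩ := (g2_mem_diag hK).1 ⟨hd, g.2⟩
    refine ⟨z, hz, ?_⟩
    have h3' := (hB _).1 ((hst (u * n) g).1 h3)
    simp only [Subgroup.coe_mul, InvMemClass.coe_inv] at h3'
    have hgn : n0⁻¹ * (g : GL chevG2.Idx K) * n0 ∈ chevG2.borelSubgroup K :=
      Subgroup.mem_sup_right (conj_mem_diag certG2C hnN hd).2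
    have hw : (u : GL chevG2.Idx K)⁻¹ * ((g : GL chevG2.Idx K) * u * (g : GL chevG2.Idx K)⁻¹) ∈ chevG2.posUnipotent K :=
      Subgroup.mul_mem _ (Subgroup.inv_mem _ hu) ((Subgroup.mem_normalizer_iff.1 (diag_le_normalizer certG2C hd) _).1 hu)
    have h4 : n0⁻¹ * ((u : GL chevG2.Idx K)⁻¹ * ((g : GL chevG2.Idx K) * u * (g : GL chevG2.Idx K)⁻¹)) * n0 ∈
        chevG2.borelSubgroup K ⊓ chevG2.negUnipotent K := by
      refine ⟨?_, (hconj _ hw).2⟩
      have := Subgroup.mul_mem _ h3' (Subgroup.inv_mem _ hgn)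
      rwa [show ((u : GL chevG2.Idx K) * (n : GL chevG2.Idx K))⁻¹ * (g : GL chevG2.Idx K) *
        ((u : GL chevG2.Idx K) * (n : GL chevG2.Idx K)) * (n0⁻¹ * (g : GL chevG2.Idx K) * n0)⁻¹ =
        n0⁻¹ * ((u : GL chevG2.Idx K)⁻¹ * ((g : GL chevG2.Idx K) * u * (g : GL chevG2.Idx K)⁻¹)) * n0 by
          show ((u : GL chevG2.Idx K) * n0)⁻¹ * (g : GL chevG2.Idx K) * ((u : GL chevG2.Idx K) * n0) * _ = _
          group] at this
    rw [borel_inf_neg certG2C, Subgroup.mem_bot] at h4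
    have h5 : (u : GL chevG2.Idx K)⁻¹ * ((g : GL chevG2.Idx K) * u * (g : GL chevG2.Idx K)⁻¹) = 1 := by
      have := congrArg (fun x => n0 * x * n0⁻¹) h4
      simpa [mul_assoc] using this
    rw [inv_mul_eq_one, eq_comm, mul_inv_eq_iff_eq_mul] at h5
    exact h5
  let k : ↥G := ⟨torusHom chevG2 tblG2 K (g2Par m (-1)), (g2_torus_fixed hK (-1)).2⟩
  have hle : ∀ u : ↥G, (u : GL chevG2.Idx K) ∈ chevG2.posUnipotent K → u ≠ 1 →
      (T u : Set ↥G) ⊆ {1, k} := by
    intro u hu hu1 g hg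
    obtain ⟨z, hz, hcomm⟩ := hT u g hu hg
    obtain ⟨t, a, b, e⟩ := (g2_pos_fixed hK).1 ⟨hu, u.2⟩
    have e2 : torusHom chevG2 tblG2 K (g2Par m z) * reeU m t a b * (torusHom chevG2 tblG2 K (g2Par m z))⁻¹ =
        reeU m t a b := by
      rw [← hz, ← e, mul_inv_eq_iff_eq_mul]; exact hcomm
    rw [g2_torus_conj hK, reeU, reeU] at e2
    obtain ⟨-, e6, -, -, e10, e11⟩ := g2Six_inj e2
    have hne : t ≠ 0 ∨ a ≠ 0 ∨ b ≠ 0 := by
      by_contra hno
      push Not at hno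
      obtain ⟨rfl, rfl, rfl⟩ := hno
      exact hu1 (Subtype.ext (by rw [e]; simp [reeU, g2Six, xg_zero, zero_pow]))
    have hz2 : z ^ 2 = 1 := by
      rcases hne with h | h | h
      · exact g2_chr_eq_one hK (Or.inl rfl) ((mul_eq_right₀ h).1 e6)
      · exact g2_chr_eq_one hK (Or.inr (Or.inl rfl)) ((mul_eq_right₀ h).1 e10)
      · exact g2_chr_eq_one hK (Or.inr (Or.inr rfl)) ((mul_eq_right₀ h).1 e11)
    rcases sq_eq_one_iff.1 (show ((z : Kˣ) : K) ^ 2 = 1 by rw [← Units.val_pow_eq_pow_val, hz2, Units.val_one]) with h | h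
    · refine Or.inl (Subtype.ext ?_)
      rw [hz, show z = 1 from Units.ext h, show g2Par (K := K) m 1 = 1 by funext (i : Fin 2); fin_cases i <;> (simp [g2Par]; rfl),
        map_one]
      rfl
    · refine Or.inr (Subtype.ext ?_)
      rw [hz, show z = -1 from Units.ext h]
  -- moving three points to standard position
  have hstd : ∀ x y z : ↥G ⧸ B, x ≠ y → x ≠ z → y ≠ z → ∃ g u : ↥G,
      (u : GL chevG2.Idx K) ∈ chevG2.posUnipotent K ∧ u ≠ 1 ∧
        g • x = ((1 : ↥G) : ↥G ⧸ B) ∧ g • y = ((n : ↥G) : ↥G ⧸ B) ∧ g • z = ((u * n : ↥G) : ↥G ⧸ B) := by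
    intro x y z hxy hxz hyz
    have hcell : ∀ w : ↥G, ((w : ↥G) : ↥G ⧸ B) ≠ ((1 : ↥G) : ↥G ⧸ B) → ∃ u : ↥G,
        (u : GL chevG2.Idx K) ∈ chevG2.posUnipotent K ∧ ((w : ↥G) : ↥G ⧸ B) = ((u * n : ↥G) : ↥G ⧸ B) := by
      intro w hw
      rcases hdec w w.2 with h | ⟨b, hb, c, hc, e⟩
      · exact absurd (QuotientGroup.eq.2 (by simpa using inv_mem ((hB w).2 h))) hw
      obtain ⟨v, hv, d, hd, eb⟩ := (mem_borel certG2C).1 hb.1
      have hbG := hb.2
      have hdd : d ∈ chevG2.borelSubgroup K := Subgroup.mem_sup_right hd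
      have e1 : twG2σ (K := K) m v * twG2σ m d = v * d := by
        rw [← (twOKG2 (K := K) m).map_mul _ (pos_le_group certG2C hv) _ (diag_le_group certG2C hd)]
        rw [← eb]; exact hbG.2
      have hx : v⁻¹ * twG2σ (K := K) m v ∈ chevG2.posUnipotent K ⊓ chevG2.diagonalSubgroup K := by
        refine ⟨Subgroup.mul_mem _ (Subgroup.inv_mem _ hv) ((twOKG2 (K := K) m).map_pos certG2C twCombG2 hv), ?_⟩
        rw [show v⁻¹ * twG2σ (K := K) m v = d * (twG2σ (K := K) m d)⁻¹ by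
          rw [eq_mul_inv_iff_mul_eq, mul_assoc, e1, inv_mul_cancel_left]]
        exact Subgroup.mul_mem _ hd (Subgroup.inv_mem _ ((twOKG2 (K := K) m).map_diag d hd))
      rw [pos_inf_diag certG2C, Subgroup.mem_bot, inv_mul_eq_one] at hx
      have hvG : v ∈ G := ⟨pos_le_group certG2C hv, hx.symm⟩
      refine ⟨⟨v, hvG⟩, hv, QuotientGroup.eq.2 ((hB _).2 ?_)⟩
      show (w : GL chevG2.Idx K)⁻¹ * (v * n0) ∈ chevG2.borelSubgroup K
      have : (w : GL chevG2.Idx K)⁻¹ * (v * n0) = c⁻¹ * (n0⁻¹ * d * n0)⁻¹ := by rw [e, eb]; group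
      rw [this]
      exact Subgroup.mul_mem _ (Subgroup.inv_mem _ (Subgroup.mem_sup_left hc.1))
        (Subgroup.inv_mem _ (Subgroup.mem_sup_right (conj_mem_diag certG2C hnN hd).2))
    obtain ⟨a, rfl⟩ := QuotientGroup.mk_surjective x
    obtain ⟨b, rfl⟩ := QuotientGroup.mk_surjective y
    obtain ⟨c, rfl⟩ := QuotientGroup.mk_surjective z
    have h1 : ((a⁻¹ * b : ↥G) : ↥G ⧸ B) ≠ ((1 : ↥G) : ↥G ⧸ B) := fun e => hxy (by
      rw [QuotientGroup.eq] at e ⊢; simpa using inv_mem e)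
    obtain ⟨u1, hu1, e1⟩ := hcell _ h1
    have h2 : ((u1⁻¹ * a⁻¹ * c : ↥G) : ↥G ⧸ B) ≠ ((1 : ↥G) : ↥G ⧸ B) := fun e => hxz (by
      have hu1B : u1 ∈ B := (hB u1).2 (Subgroup.mem_sup_left hu1)
      rw [QuotientGroup.eq] at e ⊢
      have h := mul_mem hu1B (inv_mem e)
      simpa [mul_assoc] using h)
    obtain ⟨u2, hu2, e2⟩ := hcell _ h2
    have ey : (u1⁻¹ * a⁻¹) • ((b : ↥G) : ↥G ⧸ B) = ((n : ↥G) : ↥G ⧸ B) := by
      rw [mul_smul, MulAction.Quotient.smul_coe, smul_eq_mul, e1, MulAction.Quotient.smul_coe, smul_eq_mul,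
        inv_mul_cancel_left]
    refine ⟨u1⁻¹ * a⁻¹, u2, hu2, fun e => hyz ?_, ?_, ey, ?_⟩
    · refine MulAction.injective (u1⁻¹ * a⁻¹) ?_
      show (u1⁻¹ * a⁻¹) • ((b : ↥G) : ↥G ⧸ B) = (u1⁻¹ * a⁻¹) • ((c : ↥G) : ↥G ⧸ B)
      rw [ey, MulAction.Quotient.smul_coe, smul_eq_mul, e2, e, one_mul]
    · rw [MulAction.Quotient.smul_coe, smul_eq_mul, QuotientGroup.eq]
      simpa [mul_assoc] using (hB u1).2 (Subgroup.mem_sup_left hu1)
    · rw [MulAction.Quotient.smul_coe, smul_eq_mul, e2]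
  have hcard : ∀ S : Subgroup ↥G, (S : Set ↥G) ⊆ {1, k} → Nat.card ↥S ≤ 2 := by
    intro S hS
    refine (Nat.card_mono (Set.toFinite _) hS).trans ?_
    rw [Nat.card_coe_set_eq]
    exact (Set.ncard_insert_le _ _).trans (by simp)
  refine ⟨fun x y z hxy hxz hyz => ?_, ?_⟩
  · obtain ⟨g, u, hu, hu1, ex, ey, ez⟩ := hstd x y z hxy hxz hyz
    refine le_of_eq_of_le ?_ (hcard (T u) (hle u hu hu1))
    have hmap : T u = (MulAction.stabilizer ↥G x ⊓ MulAction.stabilizer ↥G y ⊓ MulAction.stabilizer ↥G z).map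
        (MulAut.conj g).toMonoidHom := by
      rw [Subgroup.map_inf _ _ _ (MulAut.conj g).injective, Subgroup.map_inf _ _ _ (MulAut.conj g).injective,
        ← MulAction.stabilizer_smul_eq_stabilizer_map_conj, ← MulAction.stabilizer_smul_eq_stabilizer_map_conj,
        ← MulAction.stabilizer_smul_eq_stabilizer_map_conj, ex, ey, ez]
    rw [hmap]
    exact Nat.card_congr (Subgroup.equivMapOfInjective _ _ (MulAut.conj g).injective).toEquiv
  · let u : ↥G := ⟨reeU m 0 1 0, reeU_fixed hK 0 1 0⟩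
    have huU : (u : GL chevG2.Idx K) ∈ chevG2.posUnipotent K := ((g2_pos_fixed hK).2 ⟨0, 1, 0, rfl⟩).1
    have hu0 : reeU m (0 : K) 1 0 ≠ 1 := fun e => by
      have e' : g2Six 7 6 8 9 10 11 ((0 : K) ^ 3 ^ m) 0 (0 ^ (3 ^ m + 1) + 1 ^ 3 ^ m) (0 ^ (2 * 3 ^ m + 1) + 0 ^ 3 ^ m) 1 0 =
          g2Six 7 6 8 9 10 11 (0 : K) 0 0 0 0 0 := by
        show reeU m (0 : K) 1 0 = _
        rw [e]; simp [g2Six, xg_zero]
      exact one_ne_zero (g2Six_inj e').2.2.2.2.1
    have hk1 : k ≠ 1 := fun e => by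
      have h1 : torusHom chevG2 tblG2 K (g2Par m (-1)) = torusHom chevG2 tblG2 K (g2Par m 1) := by
        rw [show g2Par (K := K) m 1 = 1 by funext (i : Fin 2); fin_cases i <;> (simp [g2Par]; rfl), map_one]
        exact congrArg Subtype.val e
      have h2 := congrArg (fun w : Kˣ => (w : K)) (g2Par_injective h1)
      simp at h2
      have h3 : (2 : K) = 0 := by linear_combination -h2
      have h4 := CharP.cast_eq_zero K 3
      push_cast at h4
      exact one_ne_zero (α := K) (by linear_combination h4 - h3)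
    have hknot : ∀ w : ↥G, (w : GL chevG2.Idx K) ∈ chevG2.posUnipotent K → w * n ∉ B := fun w hw h => by
      have hn0 : n0 ∈ chevG2.borelSubgroup K := by
        have hwB : (w : GL chevG2.Idx K) ∈ chevG2.borelSubgroup K := Subgroup.mem_sup_left hw
        have := Subgroup.mul_mem _ (Subgroup.inv_mem _ hwB) ((hB _).1 h)
        rwa [show ((w * n : ↥G) : GL chevG2.Idx K) = (w : GL chevG2.Idx K) * n0 from rfl, inv_mul_cancel_left] at this
      have hx : n0 * reeU m 0 1 0 * n0⁻¹ ∈ chevG2.borelSubgroup K ⊓ chevG2.negUnipotent K :=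
        ⟨Subgroup.mul_mem _ (Subgroup.mul_mem _ hn0 (Subgroup.mem_sup_left huU)) (Subgroup.inv_mem _ hn0),
          (hconj _ huU).1⟩
      rw [borel_inf_neg certG2C, Subgroup.mem_bot, conj_eq_one_iff] at hx
      exact hu0 hx
    refine ⟨((1 : ↥G) : ↥G ⧸ B), ((n : ↥G) : ↥G ⧸ B), ((u * n : ↥G) : ↥G ⧸ B), ?_, ?_, ?_, ?_⟩
    · intro e
      rw [QuotientGroup.eq] at e
      exact hknot 1 (one_mem _) (by simpa using e)
    · intro e
      rw [QuotientGroup.eq] at e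
      exact hknot u huU (by simpa using e)
    · intro e
      rw [QuotientGroup.eq] at e
      have h1 := (hB _).1 e
      have h2 : n0⁻¹ * reeU m 0 1 0 * n0 ∈ chevG2.borelSubgroup K ⊓ chevG2.negUnipotent K :=
        ⟨by simpa [n, u, mul_assoc] using h1, (hconj _ huU).2⟩
      rw [borel_inf_neg certG2C, Subgroup.mem_bot] at h2
      refine hu0 ?_
      rw [show reeU m (0 : K) 1 0 = n0 * (n0⁻¹ * reeU m 0 1 0 * n0) * n0⁻¹ by group, h2]; group
    · have hkB : ∀ w : ↥G, (w : GL chevG2.Idx K) ∈ chevG2.monomialSubgroup K → w⁻¹ * k * w ∈ B := fun w hw =>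
        (hB _).2 (Subgroup.mem_sup_right (conj_mem_diag certG2C hw (g2_torus_fixed hK (-1)).1).2)
      have hku : u⁻¹ * k * u = k := by
        have h := g2_torus_conj hK (-1 : Kˣ) 0 1 0
        have hc : chr tblG2 chevG2 (extend' (g2Par (K := K) m (-1))) 10 = 1 := by
          rw [g2_chr hK _ 10 (Or.inr (Or.inl rfl))]
          obtain ⟨j, hj⟩ : Even ((3 : ℤ) * 3 ^ m + -1) :=
            Odd.add_odd (Odd.mul (by decide) (Odd.pow (by decide))) (by decide)
          simp only [show ¬ (10 : ℕ) = 6 by decide, if_false, ↓reduceIte, Matrix.cons_val_one, Matrix.cons_val_zero]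
          rw [hj, zpow_add, ← mul_zpow]
          simp
        rw [mul_zero, mul_zero, hc, one_mul, mul_inv_eq_iff_eq_mul] at h
        refine Subtype.ext ?_
        simp only [Subgroup.coe_mul, InvMemClass.coe_inv, u, k]
        rw [mul_assoc, h, inv_mul_cancel_left]
      have hkT : k ∈ T u := by
        refine ⟨⟨(hst 1 k).2 (hkB 1 (one_mem _)), (hst n k).2 (hkB n hnN)⟩, (hst (u * n) k).2 ?_⟩
        rw [show (u * n)⁻¹ * k * (u * n) = n⁻¹ * (u⁻¹ * k * u) * n by group, hku]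
        exact hkB n hnN
      refine le_antisymm (hcard (T u) (hle u huU fun e => hu0 (congrArg Subtype.val e))) ?_
      have h12 : ({1, k} : Set ↥G) ⊆ (T u : Set ↥G) := by
        rintro w (rfl | rfl)
        exacts [one_mem _, hkT]
      have := Set.ncard_le_ncard h12 (Set.toFinite _)
      rwa [Set.ncard_pair (Ne.symm hk1), ← Nat.card_coe_set_eq] at this

end Cfsg.Lib.Chev
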