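import Cfsg.Agent.Lib.Chev.TwG2Orders
import Cfsg.Agent.Lib.Chev.TwG2Cosets
import Cfsg.Agent.Lib.Chev.AutNorm
import Cfsg.Agent.Lib.Chev.Descent

/-! Facts on the Borel subgroup of ²G₂(q) used for its automorphisms. -/

set_option autoImplicit false
set_option linter.unusedSectionVars false
set_option maxRecDepth 20000

namespace Cfsg.Lib.Chev.G2Aut

open Cfsg.Lie Cfsg.Lib.Chev

/-- A reordering of two elements of the Borel subgroup. -/
theorem comm_word : sameWordMod 3 tblG2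
    [.x 8 [⟨1, 1, 0⟩], .x 10 [⟨1, 0, 1⟩], .x 7 [⟨1, 0, 0⟩], .x 6 [⟨1, 0, 0⟩], .x 8 [⟨1, 0, 0⟩], .x 9 [⟨1, 0, 0⟩]]
    [.x 7 [⟨1, 0, 0⟩], .x 6 [⟨1, 0, 0⟩], .x 8 [⟨1, 0, 0⟩], .x 9 [⟨1, 0, 0⟩], .x 8 [⟨1, 1, 0⟩], .x 10 [⟨1, 0, 1⟩],
      .x 9 [⟨-1, 1, 0⟩], .x 11 [⟨-1, 0, 1⟩]] = true := by
  decide +kernel

variable {D : ChevalleyDatum} {T : Tbl} {F : Type*} [Field F]

/-- A monomial element carrying the positive group into the negative one carries the negative group into the positive. -/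
theorem mono_neg_to_pos (C : Cert D T) {n : GL D.Idx F} (hn : n ∈ D.monomialSubgroup F)
    (h : ∀ x ∈ D.posUnipotent F, n * x * n⁻¹ ∈ D.negUnipotent F) {x : GL D.Idx F} (hx : x ∈ D.negUnipotent F) :
    n * x * n⁻¹ ∈ D.posUnipotent F := by
  obtain ⟨w, hw, d, hd, e⟩ := (mem_monomial C).1 hn
  obtain ⟨c, hc0, hc⟩ := mono_conj_lprod C hw (n := n) (by rw [e, inv_mul_cancel_left]; exact hd)
  have hone : ∀ r < D.nroots, ∀ y : F, n * xg C r y * n⁻¹ = xg C (wperm T w r) (c r * y) := fun r hr y => by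
    have := hc [r] (fun _ => y) (by simpa using hr)
    simpa [lprod] using this
  have hpos : ∀ r < D.nroots, D.nroots ≤ 2 * r → 2 * wperm T w r < D.nroots := by
    intro r hr hp
    by_contra hno
    have hlt := wperm_lt C hw hr
    have h1 : xg C (wperm T w r) (c r * 1) ∈ D.borelSubgroup F ⊓ D.negUnipotent F :=
      ⟨xg_mem_borel C hlt (by omega) _, hone r hr 1 ▸ h _ (xg_mem_pos C hr hp _)⟩
    rw [borel_inf_neg C, Subgroup.mem_bot] at h1
    exact hc0 r hr (by simpa using xg_eq_one C hlt h1)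
  suffices hle : D.negUnipotent F ≤ (D.posUnipotent F).comap (MulAut.conj n).toMonoidHom from hle hx
  refine (Subgroup.closure_le _).2 ?_
  rintro g ⟨r, t, hr, hg⟩
  show n * g * n⁻¹ ∈ D.posUnipotent F
  rw [eq_xg C hg, hone r hr.1]
  have hneg : 2 * r < D.nroots := (C.isNeg_iff hr.1).1 hr
  have hev := nroots_even C
  have h2 := hpos _ (C.spec.neg_lt r hr.1) (by rw [C.neg_eq hr.1]; omega)
  rw [wperm_neg C hw hr.1, C.neg_eq (wperm_lt C hw hr.1)] at h2
  have := wperm_lt C hw hr.1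
  exact xg_mem_pos C this (by omega) _

variable {K : Type*} [Field K] [Fintype K] [CharP K esymG2.p]

/-- The group. -/
noncomputable abbrev gG (K : Type*) [Field K] [Fintype K] [CharP K esymG2.p] (m : ℕ) :
    Subgroup (GL chevG2.Idx K) := (twOKG2 (K := K) m).fixed certG2C

/-- Its positive part. -/
noncomputable abbrev posG (K : Type*) [Field K] [Fintype K] [CharP K esymG2.p] (m : ℕ) : Subgroup ↥(gG K m) :=
  (chevG2.posUnipotent K).subgroupOf (gG K m)

/-- Its negative part. -/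
noncomputable abbrev negG (K : Type*) [Field K] [Fintype K] [CharP K esymG2.p] (m : ℕ) : Subgroup ↥(gG K m) :=
  (chevG2.negUnipotent K).subgroupOf (gG K m)

/-- Its Borel part. -/
noncomputable abbrev borG (K : Type*) [Field K] [Fintype K] [CharP K esymG2.p] (m : ℕ) : Subgroup ↥(gG K m) :=
  (chevG2.borelSubgroup K).subgroupOf (gG K m)

variable {m : ℕ} (hK : Fintype.card K = 3 ^ (2 * m + 1))

/-- A positive element by its parameters. -/
noncomputable def eU (t u v : K) : ↥(gG K m) := ⟨reeU m t u v, reeU_fixed hK t u v⟩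

/-- A torus element by its parameter. -/
noncomputable def eT (z : Kˣ) : ↥(gG K m) := ⟨torusHom chevG2 tblG2 K (g2Par m z), (g2_torus_fixed hK z).2⟩

include hK

theorem eT_mul (z w : Kˣ) : eT hK (z * w) = eT hK z * eT hK w :=
  by
  have := congrArg Subtype.val (map_mul (g2TorusMap hK) z w)
  exact Subtype.ext this

theorem eT_one : eT hK 1 = 1 := by
  have := congrArg Subtype.val (map_one (g2TorusMap hK))
  exact Subtype.ext this

theorem eT_injective : Function.Injective (eT hK) := fun _ _ e => g2Par_injective (congrArg Subtype.val e)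

theorem eT_mem (z : Kˣ) : (eT hK z : GL chevG2.Idx K) ∈ chevG2.diagonalSubgroup K := (g2_torus_fixed hK z).1

theorem exists_eT {g : ↥(gG K m)} (h : (g : GL chevG2.Idx K) ∈ chevG2.diagonalSubgroup K) : ∃ z, g = eT hK z := by
  obtain ⟨z, hz⟩ := (g2_mem_diag hK).1 ⟨h, g.2⟩
  exact ⟨z, Subtype.ext hz⟩

theorem eU_mem (t u v : K) : eU hK t u v ∈ posG K m :=
  Subgroup.mem_subgroupOf.2 ((g2_pos_fixed hK).2 ⟨t, u, v, rfl⟩).1

theorem exists_eU {g : ↥(gG K m)} (h : g ∈ posG K m) : ∃ t u v, g = eU hK t u v := by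
  obtain ⟨t, u, v, e⟩ := (g2_pos_fixed hK).1 ⟨Subgroup.mem_subgroupOf.1 h, g.2⟩
  exact ⟨t, u, v, Subtype.ext e⟩

theorem eU_inj {t u v t' u' v' : K} (e : eU hK t u v = eU hK t' u' v') : t = t' ∧ u = u' ∧ v = v' :=
  reeU_inj hK (congrArg Subtype.val e)

theorem eU_zero : eU hK 0 0 0 = 1 := Subtype.ext (reeU_zero hK)

theorem eU_mul_fst (t u v t' u' v' : K) : ∃ U V, eU hK t u v * eU hK t' u' v' = eU hK (t + t') U V := by
  obtain ⟨U, V, e⟩ := reeU_mul_fst hK t u v t' u' v'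
  exact ⟨U, V, Subtype.ext e⟩

theorem eU_mul_zero (u v u' v' : K) : eU hK 0 u v * eU hK 0 u' v' = eU hK 0 (u + u') (v + v') :=
  Subtype.ext (reeU_mul_zero hK u v u' v')

theorem eU_inv_fst (t u v : K) : ∃ U V, (eU hK t u v)⁻¹ = eU hK (-t) U V := by
  obtain ⟨t', U, V, e⟩ := exists_eU hK (inv_mem (eU_mem hK t u v))
  obtain ⟨U', V', e'⟩ := eU_mul_fst hK t u v t' U V
  rw [← e, mul_inv_cancel, ← eU_zero hK] at e'
  refine ⟨U, V, ?_⟩
  rw [e, show -t = t' by linear_combination (eU_inj hK e').1]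

/-- Splitting off the first parameter. -/
theorem eU_split (t u v : K) : ∃ a b, eU hK t u v = eU hK t 0 0 * eU hK 0 a b := by
  obtain ⟨U, V, e⟩ := eU_inv_fst hK t 0 0
  obtain ⟨a, b, e'⟩ := eU_mul_fst hK (-t) U V t u v
  rw [neg_add_cancel, ← e] at e'
  exact ⟨a, b, by rw [← e', mul_inv_cancel_left]⟩

theorem eU_zero_split (u v : K) : eU hK 0 u v = eU hK 0 u 0 * eU hK 0 0 v := by
  rw [eU_mul_zero, add_zero, zero_add]

theorem eU_central (t u v w : K) : Commute (eU hK t u v) (eU hK 0 0 w) := by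
  obtain ⟨a, b, e⟩ := eU_split hK t u v
  rw [e]
  refine Commute.mul_left (Subtype.ext (g2_central_commute hK t 0 w).eq) ?_
  show _ * _ = _ * _
  rw [eU_mul_zero, eU_mul_zero, add_comm b, add_zero, zero_add]

theorem eT_conj (z : Kˣ) (t u v : K) : eT hK z * eU hK t u v * (eT hK z)⁻¹ =
    eU hK (chr tblG2 chevG2 (extend' (g2Par m z)) 6 * t) (chr tblG2 chevG2 (extend' (g2Par m z)) 10 * u)
      (chr tblG2 chevG2 (extend' (g2Par m z)) 11 * v) :=
  Subtype.ext (g2_torus_conj hK z t u v)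

theorem chr6 (z : Kˣ) : chr tblG2 chevG2 (extend' (g2Par m z)) 6 = ((z ^ ((-3 : ℤ) * 3 ^ m + 2) : Kˣ) : K) := by
  rw [g2_chr hK z 6 (Or.inl rfl)]; simp

theorem chr10 (z : Kˣ) : chr tblG2 chevG2 (extend' (g2Par m z)) 10 = ((z ^ ((3 : ℤ) * 3 ^ m + -1) : Kˣ) : K) := by
  rw [g2_chr hK z 10 (Or.inr (Or.inl rfl))]; simp

theorem chr11 (z : Kˣ) : chr tblG2 chevG2 (extend' (g2Par m z)) 11 = (z : K) := by
  rw [g2_chr hK z 11 (Or.inr (Or.inr rfl))]; simp

/-- The first character. -/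
noncomputable def c6 (K : Type*) [Field K] (m : ℕ) : Kˣ →* Kˣ := zpowGroupHom ((-3 : ℤ) * 3 ^ m + 2)

theorem c6_bijective : Function.Bijective (c6 K m) := by
  refine Finite.surjective_iff_bijective.1 fun w => ?_
  obtain ⟨z, hz⟩ := g2_chr6_surjective hK w
  refine ⟨z, Units.ext ?_⟩
  rw [← congrArg (fun y : Kˣ => (y : K)) hz]
  exact (chr6 hK z).symm

theorem c6_val (z : Kˣ) : ((c6 K m z : Kˣ) : K) = chr tblG2 chevG2 (extend' (g2Par m z)) 6 := (chr6 hK z).symm

theorem signs : chr tblG2 chevG2 (extend' (g2Par (K := K) m (-1))) 6 = -1 ∧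
    chr tblG2 chevG2 (extend' (g2Par (K := K) m (-1))) 10 = 1 ∧
    chr tblG2 chevG2 (extend' (g2Par (K := K) m (-1))) 11 = -1 := by
  have ho : Odd ((3 : ℤ) * 3 ^ m) := Odd.mul (by decide) (Odd.pow (by decide))
  refine ⟨?_, ?_, ?_⟩
  · obtain ⟨j, hj⟩ : Odd ((-3 : ℤ) * 3 ^ m + 2) := by rw [neg_mul]; exact ho.neg.add_even (by decide)
    rw [chr6 hK, hj, zpow_add, zpow_mul]
    simp
  · obtain ⟨j, hj⟩ : Even ((3 : ℤ) * 3 ^ m + -1) := ho.add_odd (by decide)
    rw [chr10 hK, hj, zpow_add, ← mul_zpow]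
    simp
  · rw [chr11 hK]; simp

/-- The commutator of a first and a second parameter. -/
theorem eU_comm (u : K) : eU hK 0 u 0 * eU hK 1 0 0 = eU hK 1 0 0 * eU hK 0 u (-u) := by
  haveI : CharP K 3 := inferInstanceAs (CharP K esymG2.p)
  rcases eq_or_ne u 0 with rfl | hu
  · rw [neg_zero, eU_zero, one_mul, mul_one]
  have hp : 3 ^ m ≠ 0 := pow_ne_zero _ (by norm_num)
  rw [show eU hK 0 u (-u) = eU hK 0 u 0 * eU hK 0 0 (-u) from eU_zero_split hK u (-u)]
  refine Subtype.ext (Units.ext ?_)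
  have e := wmat_eq_of_sameWordMod (u ^ 3 ^ m) u (p := 3) certG2C.spec.shape (pow_ne_zero _ hu) hu
    (by intro L hL
        simp only [List.mem_cons, List.not_mem_nil, or_false] at hL
        rcases hL with rfl | rfl | rfl | rfl | rfl | rfl <;> exact okX (by decide))
    (by intro L hL
        simp only [List.mem_cons, List.not_mem_nil, or_false] at hL
        rcases hL with rfl | rfl | rfl | rfl | rfl | rfl | rfl | rfl <;> exact okX (by decide)) comm_word
  simp [wmat, Ltr.mat, pval, Mono.val] at e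
  have hneg : (-u) ^ 3 ^ m = -(u ^ 3 ^ m) := g2_neg_pow u m
  simp [eU, reeU, g2Six, xg_zero, hp, coe_xg, mul_assoc, hneg, e]

/-- A field map acts on the positive elements through the parameters. -/
theorem map_reeU (σ : K →+* K) (t u v : K) :
    Matrix.GeneralLinearGroup.map σ (reeU m t u v) = reeU m (σ t) (σ u) (σ v) := by
  simp [reeU, g2Six, map_xg]

theorem map_reeV (σ : K →+* K) (t u v : K) :
    Matrix.GeneralLinearGroup.map σ (reeV m t u v) = reeV m (σ t) (σ u) (σ v) := by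
  simp [reeV, g2Six, map_xg]

theorem map_gG_le (σ : K →+* K) : (gG K m).map (Matrix.GeneralLinearGroup.map σ) ≤ gG K m := by
  refine Subgroup.map_le_iff_le_comap.2 (g2_fixed_le hK (fun t u v => ?_) fun t u v => ?_)
  · show Matrix.GeneralLinearGroup.map σ (reeU m t u v) ∈ gG K m
    rw [map_reeU hK]; exact reeU_fixed hK _ _ _
  · show Matrix.GeneralLinearGroup.map σ (reeV m t u v) ∈ gG K m
    rw [map_reeV hK]; exact reeV_fixed hK _ _ _

theorem map_neg' (σ : K →+* K) {g : GL chevG2.Idx K} (hg : g ∈ chevG2.negUnipotent K) :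
    Matrix.GeneralLinearGroup.map σ g ∈ chevG2.negUnipotent K := by
  suffices h : chevG2.negUnipotent K ≤ (chevG2.negUnipotent K).comap (Matrix.GeneralLinearGroup.map (n := chevG2.Idx) σ)
    from h hg
  refine (Subgroup.closure_le _).2 ?_
  rintro x ⟨r, t, hr, e⟩
  show Matrix.GeneralLinearGroup.map σ x ∈ chevG2.negUnipotent K
  rw [eq_xg certG2C e, map_xg certG2C]
  exact Subgroup.subset_closure ⟨r, σ t, hr, coe_xg certG2C r _⟩

/-- A field automorphism acts on the group. -/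
theorem exists_field (σ : K ≃+* K) : ∃ δ : MulAut ↥(gG K m), (∀ t u v, δ (eU hK t u v) = eU hK (σ t) (σ u) (σ v)) ∧
    AutKeeps δ (posG K m) ∧ AutKeeps δ (negG K m) := by
  let f : ∀ τ : K ≃+* K, ↥(gG K m) →* ↥(gG K m) := fun τ =>
    { toFun := fun g => ⟨Matrix.GeneralLinearGroup.map τ.toRingHom g, map_gG_le hK τ.toRingHom ⟨g, g.2, rfl⟩⟩
      map_one' := Subtype.ext (map_one _)
      map_mul' := fun a b => Subtype.ext (map_mul _ _ _) }
  have hinv : ∀ τ : K ≃+* K, ∀ g : GL chevG2.Idx K,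
      Matrix.GeneralLinearGroup.map τ.symm.toRingHom (Matrix.GeneralLinearGroup.map τ.toRingHom g) = g :=
    fun τ g => Units.ext (Matrix.ext fun i j => τ.symm_apply_apply _)
  let δ : MulAut ↥(gG K m) :=
    { toFun := f σ
      invFun := f σ.symm
      left_inv := fun g => Subtype.ext (hinv σ g)
      right_inv := fun g => Subtype.ext (hinv σ.symm (g : GL chevG2.Idx K))
      map_mul' := map_mul (f σ) }
  refine ⟨δ, fun t u v => Subtype.ext (map_reeU hK σ.toRingHom t u v), fun g => ?_, fun g => ?_⟩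
  · rw [Subgroup.mem_subgroupOf, Subgroup.mem_subgroupOf]
    refine ⟨fun h => ?_, fun h => map_pos certG2C _ h⟩
    have := map_pos certG2C σ.symm.toRingHom h
    rwa [show Matrix.GeneralLinearGroup.map σ.symm.toRingHom (δ g : GL chevG2.Idx K) = g from hinv σ g] at this
  · rw [Subgroup.mem_subgroupOf, Subgroup.mem_subgroupOf]
    refine ⟨fun h => ?_, fun h => map_neg' hK _ h⟩
    have := map_neg' hK σ.symm.toRingHom h
    rwa [show Matrix.GeneralLinearGroup.map σ.symm.toRingHom (δ g : GL chevG2.Idx K) = g from hinv σ g] at this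

/-- Elements of the Borel part. -/
theorem borG_parts {g : ↥(gG K m)} (h : g ∈ borG K m) : ∃ u ∈ posG K m, ∃ z, g = u * eT hK z := by
  obtain ⟨v, hv, d, hd, e⟩ := (mem_borel certG2C).1 (Subgroup.mem_subgroupOf.1 h)
  have e1 : twG2σ (K := K) m v * twG2σ m d = v * d := by
    rw [← (twOKG2 (K := K) m).map_mul _ (pos_le_group certG2C hv) _ (diag_le_group certG2C hd)]
    rw [← e]; exact g.2.2
  have hx : v⁻¹ * twG2σ (K := K) m v ∈ chevG2.posUnipotent K ⊓ chevG2.diagonalSubgroup K := by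
    refine ⟨Subgroup.mul_mem _ (Subgroup.inv_mem _ hv) ((twOKG2 (K := K) m).map_pos certG2C twCombG2 hv), ?_⟩
    rw [show v⁻¹ * twG2σ (K := K) m v = d * (twG2σ (K := K) m d)⁻¹ by
      rw [eq_mul_inv_iff_mul_eq, mul_assoc, e1, inv_mul_cancel_left]]
    exact Subgroup.mul_mem _ hd (Subgroup.inv_mem _ ((twOKG2 (K := K) m).map_diag d hd))
  rw [pos_inf_diag certG2C, Subgroup.mem_bot, inv_mul_eq_one] at hx
  have hvG : v ∈ gG K m := ⟨pos_le_group certG2C hv, hx.symm⟩
  have hdG : d ∈ gG K m := by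
    have := mul_mem (inv_mem hvG) g.2
    rwa [e, inv_mul_cancel_left] at this
  obtain ⟨z, hz⟩ := exists_eT hK (g := (⟨d, hdG⟩ : ↥(gG K m))) hd
  exact ⟨⟨v, hvG⟩, Subgroup.mem_subgroupOf.2 hv, z, by rw [← hz]; exact Subtype.ext e⟩

end Cfsg.Lib.Chev.G2Aut
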