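import Cfsg.Agent.Lib.Chev.TwG2AutNorm
import Cfsg.Agent.Lib.Chev.TwG2AutBase
import Cfsg.Agent.Lib.Chev.MultWeights

/-! An elementary abelian subgroup of order eight of ²G₂(q) with an element permuting it. -/

set_option autoImplicit false
set_option linter.unusedSectionVars false
set_option maxRecDepth 100000

namespace Cfsg.Lib.Chev.MultW

open Cfsg.Lie Cfsg.Lib.Chev

/-- Merge and reduce modulo `p`. -/
def normMod (p : ℕ) (v : List Trm) : List Trm :=
  ((norm v).map fun x => (⟨x.row, x.c % (p : ℤ), x.a, x.b⟩ : Trm)).filter fun x => !decide (x.c = 0)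

/-- The image of a basis vector, reduced after every letter. -/
def wcMod (p : ℕ) (T : Tbl) : List Ltr → ℕ → List Trm
  | [], col => [⟨col, 1, 0, 0⟩]
  | L :: w, col => normMod p (applyLtr T L (wcMod p T w col))

/-- Two constant words have the same matrix in characteristic `p`. -/
def sameConst (p : ℕ) (T : Tbl) (w₁ w₂ : List Ltr) : Bool :=
  (List.range (T.rank + T.nroots)).all fun col => allZeroMod p (wcMod p T w₁ col ++ negV (wcMod p T w₂ col))

theorem gl_eq_of_sameConst {D : ChevalleyDatum} {T : Tbl} {F : Type*} [Field F] {p : ℕ} [CharP F p] (C : Cert D T)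
    {w₁ w₂ : List Ltr} (h1 : ∀ L ∈ w₁, L.ok D) (h2 : ∀ L ∈ w₂, L.ok D) (h : sameConst p T w₁ w₂ = true) :
    (w₁.map (Ltr.gl C (F := F))).prod = (w₂.map (Ltr.gl C)).prod := by
  have hmod : ∀ v : List Trm, vec (1 : F) 1 D (normMod p v) = vec 1 1 D v := by
    intro v
    rw [normMod, ← vec_norm (1 : F) 1 v]
    generalize norm v = l
    induction l with
    | nil => rfl
    | cons x l ih =>
      rw [List.map_cons, vec_cons _ _ x l]
      have hc : ((x.c % (p : ℤ) : ℤ) : F) = (x.c : F) := by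
        rw [Int.emod_def]; push_cast; simp [CharP.cast_eq_zero F p]
      by_cases h0 : x.c % (p : ℤ) = 0
      · rw [List.filter_cons_of_neg (by simp [h0]), ih]
        rw [h0, Int.cast_zero] at hc
        have : vec (1 : F) 1 D [x] = 0 := by funext i; simp [vec, Trm.val, ← hc]
        rw [this, zero_add]
      · rw [List.filter_cons_of_pos (by simp [h0]), vec_cons, ih]
        congr 1
        funext i
        simp [vec, Trm.val, hc]
  have key : ∀ w : List Ltr, (∀ L ∈ w, L.ok D) → ∀ j i : D.Idx,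
      vec (1 : F) 1 D (wcMod p T w (enc j)) i = wmat 1 1 T D w i j := by
    intro w
    induction w with
    | nil =>
      intro _ j i
      by_cases h : i = j
      · subst h; simp [wcMod, vec, Trm.val, wmat]
      · simp [wcMod, vec, wmat, h, show ¬ enc j = enc i from fun e => h (enc_injective e).symm]
    | cons L w ih =>
      intro hw j i
      rw [wcMod, hmod, vec_applyLtr 1 1 C.spec.shape one_ne_zero one_ne_zero
          (rep_mat 1 1 C.spec.shape one_ne_zero one_ne_zero (hw L (List.mem_cons_self ..))),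
        show wmat (1 : F) 1 T D (L :: w) = L.mat 1 1 T D * wmat 1 1 T D w from by simp [wmat], Matrix.mul_apply]
      simp only [Matrix.mulVec, dotProduct]
      refine Finset.sum_congr rfl fun k _ => ?_
      rw [ih (fun M hM => hw M (List.mem_cons_of_mem _ hM))]
  have hcoe : ∀ w : List Ltr, (∀ L ∈ w, L.ok D) →
      (((w.map (Ltr.gl C (F := F))).prod : GL D.Idx F) : Matrix D.Idx D.Idx F) = wmat 1 1 T D w := by
    intro w
    induction w with
    | nil => intro _; simp [wmat]
    | cons L w ih =>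
      intro hw
      rw [List.map_cons, List.prod_cons, Units.val_mul, coe_gl C (hw L (List.mem_cons_self ..)),
        ih fun M hM => hw M (List.mem_cons_of_mem _ hM)]
      simp [wmat]
  refine Units.ext ?_
  rw [hcoe w₁ h1, hcoe w₂ h2]
  ext i j
  have hj := List.all_eq_true.1 h (enc j) (List.mem_range.2 (by rw [C.spec.shape.rank_eq, C.spec.shape.nroots_eq]; exact enc_lt j))
  have hz : vec (1 : F) 1 D (wcMod p T w₁ (enc j) ++ negV (wcMod p T w₂ (enc j))) = 0 := by
    rw [← vec_norm]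
    funext k
    refine List.sum_eq_zero fun z hz => ?_
    obtain ⟨x, hx, rfl⟩ := List.mem_map.1 hz
    have hx0 := of_decide_eq_true (List.all_eq_true.1 hj x hx)
    simp [Trm.val, (CharP.intCast_eq_zero_iff F p x.c).2 (Int.dvd_of_emod_eq_zero hx0)]
  have e := congrFun hz i
  rw [vec_append, vec_negV, Pi.add_apply, Pi.neg_apply, key w₁ h1, key w₂ h2, Pi.zero_apply, add_neg_eq_zero] at e
  exact e

/-- The involution. -/
def reeWA : List Ltr :=
  [.x 9 [⟨1, 0, 0⟩], .x 11 [⟨1, 0, 0⟩], .x 4 [⟨-1, 0, 0⟩], .x 5 [⟨-1, 0, 0⟩], .x 3 [⟨-2, 0, 0⟩], .x 1 [⟨-1, 0, 0⟩],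
    .x 0 [⟨1, 0, 0⟩]]

/-- The element of order seven. -/
def reeWg : List Ltr :=
  [.x 8 [⟨-1, 0, 0⟩], .x 10 [⟨-1, 0, 0⟩], .x 3 [⟨-1, 0, 0⟩], .x 2 [⟨-1, 0, 0⟩], .x 1 [⟨-1, 0, 0⟩], .x 0 [⟨-1, 0, 0⟩]]

/-- Its inverse. -/
def reeWgi : List Ltr :=
  [.x 0 [⟨1, 0, 0⟩], .x 1 [⟨1, 0, 0⟩], .x 2 [⟨1, 0, 0⟩], .x 3 [⟨1, 0, 0⟩], .x 10 [⟨1, 0, 0⟩], .x 8 [⟨1, 0, 0⟩]]

theorem ree_chk_sq : sameConst 3 tblG2 (reeWA ++ reeWA) [] = true := by decide +kernel

theorem ree_chk_comm : sameConst 3 tblG2 (reeWA ++ (reeWg ++ reeWA ++ reeWgi)) (reeWg ++ reeWA ++ reeWgi ++ reeWA) = true := by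
  decide +kernel

theorem ree_chk_cube : sameConst 3 tblG2 (reeWg ++ reeWg ++ reeWg ++ reeWA ++ reeWgi ++ reeWgi ++ reeWgi)
    (reeWA ++ (reeWg ++ reeWA ++ reeWgi)) = true := by decide +kernel

theorem ree_chk_inv : sameConst 3 tblG2 (reeWg ++ reeWgi) [] = true := by decide +kernel

theorem ree_ok {w : List Ltr} (hw : w.all (fun L => match L with | .x r _ => decide (r < 12) | _ => false) = true) :
    ∀ L ∈ w, L.ok chevG2 := fun L hL => by
  have := List.all_eq_true.1 hw L hL
  cases L with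
  | x r p => exact show r < 12 from of_decide_eq_true this
  | n i m => exact absurd this Bool.false_ne_true
  | d i m => exact absurd this Bool.false_ne_true

variable {K : Type*} [Field K] [Fintype K] [CharP K esymG2.p] {m : ℕ} (hK : Fintype.card K = 3 ^ (2 * m + 1))
include hK

open G2Aut in
/-- The elementary abelian group and the element permuting it. -/
theorem exists_eight : ∃ A g : ↥(gG K m), A ≠ 1 ∧ A * A = 1 ∧ A * (g * A * g⁻¹) = g * A * g⁻¹ * A ∧
    g * g * g * A * g⁻¹ * g⁻¹ * g⁻¹ = A * (g * A * g⁻¹) := by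
  haveI : CharP K 3 := inferInstanceAs (CharP K esymG2.p)
  have hp : 3 ^ m ≠ 0 := pow_ne_zero _ (by norm_num)
  have hm1 : ((-1 : K)) ^ 3 ^ m = -1 := by rw [g2_neg_pow, one_pow]
  let V : ↥(gG K m) := ⟨reeV m 1 1 (-1), reeV_fixed hK 1 1 (-1)⟩
  let V' : ↥(gG K m) := ⟨reeV m 0 1 1, reeV_fixed hK 0 1 1⟩
  let ev : List Ltr → GL chevG2.Idx K := fun w => (w.map (Ltr.gl certG2C)).prod
  have hev : ∀ w w', ev (w ++ w') = ev w * ev w' := fun w w' => by simp [ev]
  have hA : ((eU hK 0 0 1 * V : ↥(gG K m)) : GL chevG2.Idx K) = ev reeWA := by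
    show reeU m 0 0 1 * reeV m 1 1 (-1) = _
    simp [ev, reeWA, reeU, reeV, g2Six, Ltr.gl, pval, Mono.val, xg_zero, hp, hm1, mul_assoc]
    norm_num
  have hg : ((eU hK 0 (-1) 0 * V' : ↥(gG K m)) : GL chevG2.Idx K) = ev reeWg := by
    show reeU m 0 (-1) 0 * reeV m 0 1 1 = _
    simp [ev, reeWg, reeU, reeV, g2Six, Ltr.gl, pval, Mono.val, xg_zero, hp, hm1, mul_assoc]
  have key : ∀ {w w' : List Ltr}, sameConst 3 tblG2 w w' = true →
      w.all (fun L => match L with | .x r _ => decide (r < 12) | _ => false) = true →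
      w'.all (fun L => match L with | .x r _ => decide (r < 12) | _ => false) = true → ev w = ev w' :=
    fun h h1 h2 => gl_eq_of_sameConst certG2C (ree_ok h1) (ree_ok h2) h
  have hgi : (ev reeWg)⁻¹ = ev reeWgi := by
    rw [inv_eq_iff_mul_eq_one, ← hev, key ree_chk_inv rfl rfl]
    rfl
  refine ⟨eU hK 0 0 1 * V, eU hK 0 (-1) 0 * V', fun h => ?_, Subtype.ext ?_, Subtype.ext ?_, Subtype.ext ?_⟩
  · have hV : V ∈ negG K m := by
      rw [Subgroup.mem_subgroupOf]
      show reeV m 1 1 (-1) ∈ chevG2.negUnipotent K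
      have hx : ∀ r, chevG2.IsNegRoot r → ∀ t : K, xg certG2C r t ∈ chevG2.negUnipotent K := fun r hr t =>
        Subgroup.subset_closure ⟨r, t, hr, coe_xg certG2C r _⟩
      exact mul_mem (mul_mem (mul_mem (mul_mem (mul_mem (hx _ (by decide +kernel) _) (hx _ (by decide +kernel) _)) (hx _ (by decide +kernel) _))
        (hx _ (by decide +kernel) _)) (hx _ (by decide +kernel) _)) (hx _ (by decide +kernel) _)
    have hv : V ∈ borG K m := by
      rw [eq_inv_of_mul_eq_one_right h]
      exact inv_mem (pos_le_bor (eU_mem hK 0 0 1))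
    rw [bor_neg hv hV, mul_one, ← eU_zero hK] at h
    exact one_ne_zero (eU_inj hK h).2.2
  · show _ * _ = (1 : GL chevG2.Idx K)
    rw [hA, ← hev, key ree_chk_sq rfl rfl]
    rfl
  · simp only [Subgroup.coe_mul, InvMemClass.coe_inv] at hA hg ⊢
    simp only [hA, hg, hgi]
    simp only [← hev]
    exact key ree_chk_comm rfl rfl
  · simp only [Subgroup.coe_mul, InvMemClass.coe_inv] at hA hg ⊢
    simp only [hA, hg, hgi]
    simp only [← hev]
    exact key ree_chk_cube rfl rfl

end Cfsg.Lib.Chev.MultW
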