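import Mathlib
import Cfsg.Prelude.Def_ChevAutomorphisms
import Cfsg.Agent.Lib.Chev.FullAll
import Cfsg.Agent.Lib.Chev.Perfect

/-!
The group is generated by the monomial subgroup and one or two root subgroups.
-/

set_option autoImplicit false
set_option linter.unusedSectionVars false

namespace Cfsg.Lib.Chev

open Cfsg.Lie

/-- One fundamental root subgroup is carried to another by two reflections. -/
def stepChk (T : Tbl) (a b : ℕ) : Bool := Nat.beq (T.refl' a (T.refl' b (T.simp' a))) (T.simp' b)

/-- The fundamental root `b` is, up to a reflection, the sum in a commutator of two roots in the orbit of `a`. -/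
def sumChk (T : Tbl) (q a b : ℕ) : Bool :=
  Nat.blt 0 q && [T.refl' b (T.simp' a), T.refl' a (T.refl' b (T.simp' a))].any fun s =>
    match tTerms T (T.simp' a) s with
    | [(p, M, 1, 1)] => !Nat.beq s (T.simp' a) && (!Nat.beq s (T.neg (T.simp' a)) &&
        (Nat.beq M.natAbs q && Nat.beq (T.refl' a p) (T.simp' b)))
    | _ => false

/-- The fundamental roots reached from a starting list. -/
def reachList (T : Tbl) (q : ℕ) : ℕ → List ℕ → List ℕ
  | 0, l => l
  | k + 1, l => reachList T q k
      (l ++ (List.range T.rank).filter fun b => l.any fun a => stepChk T a b || sumChk T q a b)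

/-- All fundamental roots are reached. -/
def reachChk (T : Tbl) (q : ℕ) (l : List ℕ) : Bool :=
  (List.range T.rank).all fun b => (reachList T q T.rank l).contains b

variable {D : ChevalleyDatum} {T : Tbl} {F : Type*} [Field F] (C : Cert D T) (K : CommCert D T)
include C K

theorem mem_of_stepChk {H : Subgroup (GL D.Idx F)} (hN : D.monomialSubgroup F ≤ H) {a b : ℕ} (ha : a < D.rank)
    (hb : b < D.rank) (h : stepChk T a b = true) (hA : ∀ t : F, xg C (T.simp' a) t ∈ H) :
    ∀ t : F, xg C (T.simp' b) t ∈ H := by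
  have conj : ∀ i < D.rank, ∀ r < D.nroots, (∀ t : F, xg C r t ∈ H) → ∀ t : F, xg C (T.refl' i r) t ∈ H := by
    intro i hi r hr hR t
    have e := nu_conj_xg C hi hr ((T.eta' i r : ℤ) * t : F)
    rw [← mul_assoc, eta_sq, one_mul] at e
    rw [← e]
    have hν : nu C i ∈ H := hN (by simpa [wnu] using wnu_mem C (F := F) (show IsWord D [i] from
      IsWord.cons hi fun j hj => absurd hj List.not_mem_nil))
    exact mul_mem (mul_mem hν (hR _)) (inv_mem hν)
  have hsa := C.spec.simp_lt a ha
  have := conj a ha _ (C.spec.refl_lt b hb _ hsa) (conj b hb _ hsa hA)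
  rwa [Nat.eq_of_beq_eq_true h] at this

theorem mem_of_sumChk {H : Subgroup (GL D.Idx F)} (hN : D.monomialSubgroup F ≤ H) {q a b : ℕ} (ha : a < D.rank)
    (hb : b < D.rank) (hq : (q : F) ≠ 0) (h : sumChk T q a b = true) (hA : ∀ t : F, xg C (T.simp' a) t ∈ H) :
    ∀ t : F, xg C (T.simp' b) t ∈ H := by
  have conj : ∀ i < D.rank, ∀ r < D.nroots, (∀ t : F, xg C r t ∈ H) → ∀ t : F, xg C (T.refl' i r) t ∈ H := by
    intro i hi r hr hR t
    have e := nu_conj_xg C hi hr ((T.eta' i r : ℤ) * t : F)
    rw [← mul_assoc, eta_sq, one_mul] at e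
    rw [← e]
    have hν : nu C i ∈ H := hN (by simpa [wnu] using wnu_mem C (F := F) (show IsWord D [i] from
      IsWord.cons hi fun j hj => absurd hj List.not_mem_nil))
    exact mul_mem (mul_mem hν (hR _)) (inv_mem hν)
  rw [sumChk, Bool.and_eq_true] at h
  obtain ⟨s, hs, h⟩ := List.any_eq_true.1 h.2
  have hsa := C.spec.simp_lt a ha
  have h1 := C.spec.refl_lt b hb _ hsa
  have hsn : s < D.nroots ∧ ∀ t : F, xg C s t ∈ H := by
    simp only [List.mem_cons, List.not_mem_nil, or_false] at hs
    rcases hs with rfl | rfl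
    · exact ⟨h1, conj b hb _ hsa hA⟩
    · exact ⟨C.spec.refl_lt a ha _ h1, conj a ha _ h1 (conj b hb _ hsa hA)⟩
  split at h
  · rename_i p M e
    simp only [Bool.and_eq_true, Bool.not_eq_true'] at h
    obtain ⟨hne, hneg, hM, hp⟩ := h
    have hM0 : (M : F) ≠ 0 := by
      intro h0
      have hM' : M.natAbs = q := Nat.eq_of_beq_eq_true hM
      rcases Int.natAbs_eq M with e' | e' <;> rw [e', hM'] at h0 <;> simp [hq] at h0
    have hpn : p < D.nroots := (tTerms_lt C hsa hsn.1 _ (e ▸ List.mem_singleton.2 rfl)).1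
    have key : ∀ u : F, xg C p u ∈ H := by
      intro u
      have hc := comm_xg_prod C K hsa hsn.1 (Nat.ne_of_beq_eq_false hne) (Nat.ne_of_beq_eq_false hneg)
        (-(u * (M : F)⁻¹)) (1 : F)
      rw [e] at hc
      simp only [List.map_cons, List.map_nil, List.prod_cons, List.prod_nil, mul_one, pow_one, neg_neg] at hc
      have e' : (M : F) * (u * (M : F)⁻¹) = u := by field_simp
      rw [e'] at hc
      rw [← hc, commutatorElement_def]
      exact mul_mem (mul_mem (mul_mem (inv_mem (hsn.2 _)) (inv_mem (hA _))) (inv_mem (inv_mem (hsn.2 _))))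
        (inv_mem (inv_mem (hA _)))
    have := conj a ha p hpn key
    rwa [Nat.eq_of_beq_eq_true hp] at this
  · exact absurd h Bool.false_ne_true

/-- If the check passes the subgroup is everything. -/
theorem group_le_of_reach {H : Subgroup (GL D.Idx F)} (hN : D.monomialSubgroup F ≤ H) {q : ℕ}
    (hq : q = 0 ∨ (q : F) ≠ 0) {l : List ℕ} (hl : ∀ a ∈ l, a < D.rank ∧ ∀ t : F, xg C (T.simp' a) t ∈ H)
    (h : reachChk T q l = true) : D.group F ≤ H := by
  have key : ∀ k (l : List ℕ), (∀ a ∈ l, a < D.rank ∧ ∀ t : F, xg C (T.simp' a) t ∈ H) →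
      ∀ a ∈ reachList T q k l, a < D.rank ∧ ∀ t : F, xg C (T.simp' a) t ∈ H := by
    intro k
    induction k with
    | zero => exact fun l hl => hl
    | succ k ih =>
      intro l hl
      refine ih _ fun b hb => ?_
      rcases List.mem_append.1 hb with hb | hb
      · exact hl b hb
      · obtain ⟨hbr, hb⟩ := List.mem_filter.1 hb
        obtain ⟨a, ha, hab⟩ := List.any_eq_true.1 hb
        rw [List.mem_range, C.spec.shape.rank_eq] at hbr
        refine ⟨hbr, ?_⟩
        rw [Bool.or_eq_true] at hab
        rcases hab with hab | hab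
        · exact mem_of_stepChk C K hN (hl a ha).1 hbr hab (hl a ha).2
        · rcases hq with hq | hq
          · subst hq
            simp [sumChk] at hab
          · exact mem_of_sumChk C K hN (hl a ha).1 hbr hq hab (hl a ha).2
  have hall : ∀ r < D.nroots, ∀ t : F, xg C r t ∈ H := by
    refine C.root_induction (fun b hb => ?_) fun i hi r hr ih t => ?_
    · have hb' := List.all_eq_true.1 h b (List.mem_range.2 (C.spec.shape.rank_eq ▸ hb))
      exact (key _ l hl b (List.contains_iff_mem.1 hb')).2
    · have e := nu_conj_xg C hi hr ((T.eta' i r : ℤ) * t : F)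
      rw [← mul_assoc, eta_sq, one_mul] at e
      rw [← e]
      have hν : nu C i ∈ H := hN (by simpa [wnu] using wnu_mem C (F := F) (show IsWord D [i] from
        IsWord.cons hi fun j hj => absurd hj List.not_mem_nil))
      exact mul_mem (mul_mem hν (ih _)) (inv_mem hν)
  refine (Subgroup.closure_le _).2 ?_
  rintro g ⟨r, t, e⟩
  rw [show g = xg C r.1 t from eq_xg C (e.trans (by rw [ChevalleyDatum.x, dif_pos r.2]))]
  exact hall r.1 r.2 t

end Cfsg.Lib.Chev
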