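import Mathlib
import Cfsg.Agent.Lib.Chev.Card
import Cfsg.Agent.Lib.Chev.Torus

/-!
The order formula.
-/

set_option autoImplicit false

namespace Cfsg.Lib.Chev

open Cfsg.Lie

variable {D : ChevalleyDatum} {T : Tbl} {F : Type*} [Field F]

/-- A certificate for the torus. -/
structure TorusCert (D : ChevalleyDatum) (T : Tbl) (d : Fin D.rank → ℕ) : Prop where
  exists_snf : ∃ P P' Q Q' : Matrix (Fin D.rank) (Fin D.rank) ℤ,
    P * cartanMat D T * Q = Matrix.diagonal (fun k => (d k : ℤ)) ∧ P' * P = 1 ∧ Q * Q' = 1 ∧ Q' * Q = 1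

theorem TorusCert.card (C : Cert D T) {d : Fin D.rank → ℕ} (h : TorusCert D T d) [Finite F] :
    (∏ k, (Nat.card F - 1).gcd (d k)) * Nat.card ↥(D.diagonalSubgroup F) = (Nat.card F - 1) ^ D.rank := by
  obtain ⟨P, P', Q, Q', h1, h2, h3, h4⟩ := h.exists_snf
  exact card_diagonal C h1 h2 h3 h4

theorem order_formula (C : Cert D T) (K : FullCert D T) [Finite F] {Ls : List WLevel} (hW : chkWeyl T Ls = true)
    {d : Fin D.rank → ℕ} (hT : TorusCert D T d) {R : ℕ}
    (hpoly : (Nat.card F - 1) ^ D.rank * ∏ j ∈ Finset.range D.rank,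
        (((nth ([], []) Ls j).1.map fun R => R.2.1.length).map fun e => Nat.card F ^ e).sum = R) :
    (∏ k, (Nat.card F - 1).gcd (d k)) * Nat.card ↥(D.group F) = Nat.card F ^ (D.nroots / 2) * R := by
  rw [card_group C K hW, ← hpoly, ← hT.card C]
  ring

end Cfsg.Lib.Chev
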