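import Cfsg.Agent.Lib.Chev.TorusData
import Cfsg.Agent.Lib.Chev.AnyOrder
import Cfsg.Agent.Lib.Chev.Perfect
import Cfsg.Agent.Lib.Chev.UnipotentCount

/-!
Centralizers of the elements of a dominant root subgroup: they lie in a parabolic subgroup, and the part of its
radical which they contain has a centralizer consisting of unipotent elements.
-/

set_option autoImplicit false
set_option linter.unusedSectionVars false

namespace Cfsg.Lib.Chev

open Cfsg.Lie

/-- Data attached to a dominant root: the orbit, the tail and two families of integer combinations. -/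
structure RootData where
  /-- The root. -/
  rho : ℕ
  /-- The start of the tail. -/
  k : ℕ
  /-- Its orbit. -/
  orb : List ℕ
  /-- A scalar. -/
  N : ℤ
  /-- Combinations over the tail giving the scalar times the fundamental roots. -/
  tailComb : List (List (ℕ × ℤ))
  /-- Combinations over the commuting part of the radical giving the fundamental roots. -/
  radComb : List (List (ℕ × ℤ))

/-- A fundamental reflection moves the root and the coroot of `r` involves it. -/
noncomputable def outRoot (D : ChevalleyDatum) (T : Tbl) (ρ r : ℕ) : Bool :=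
  !allBelow (fun j => Nat.beq (T.refl' j ρ) ρ || decide (T.coroot r j = 0)) D.rank

/-- The root is positive, outside the parabolic subsystem and commutes with the dominant root. -/
noncomputable def inRad (D : ChevalleyDatum) (T : Tbl) (ρ r : ℕ) : Bool :=
  (Nat.blt r D.nroots && Nat.ble D.nroots (2 * r)) &&
    (outRoot D T ρ r && (Nat.beq r ρ || (tTerms T ρ r).isEmpty))

/-- The `j`-th coordinate of a combination. -/
def combVal (T : Tbl) (l : List (ℕ × ℤ)) (j : ℕ) : ℤ := (l.map fun x => x.2 * T.cartan j x.1).sum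

/-- The checks. -/
noncomputable def rootChk (D : ChevalleyDatum) (T : Tbl) (R : RootData) : Bool :=
  ((Nat.blt R.rho D.nroots && Nat.ble D.nroots (2 * R.k)) && (Nat.ble R.k R.rho && decide (R.N ≠ 0))) &&
  ((R.orb.contains R.rho && allBelow (fun i => allBelow (fun r => !R.orb.contains r || R.orb.contains (T.refl' i r))
      D.nroots) D.rank) &&
  ((allBelow (fun r => Nat.blt r (R.rho + 1) || (!R.orb.contains r &&
      allBelow (fun s => Nat.blt s R.rho || (Nat.ble r s || (tTerms T s r).isEmpty)) D.nroots)) D.nroots &&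
    allBelow (fun r => Nat.blt r R.k || inRad D T R.rho r) D.nroots) &&
  ((allBelow (fun s => Nat.blt (2 * s) D.nroots || decide (0 ≤ rootPair T R.rho s)) D.nroots &&
    allBelow (fun i => !decide (rootPair T R.rho (T.simp' i) = 0) || Nat.beq (T.refl' i R.rho) R.rho) D.rank) &&
  (allBelow (fun i => (nth [] R.tailComb i).all (fun x => Nat.ble R.k x.1 && Nat.blt x.1 D.nroots) &&
      allBelow (fun j => decide (combVal T (nth [] R.tailComb i) j = R.N * T.cartan j (T.simp' i))) D.rank) D.rank &&
    allBelow (fun i => (nth [] R.radComb i).all (fun x => inRad D T R.rho x.1) &&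
      allBelow (fun j => decide (combVal T (nth [] R.radComb i) j = T.cartan j (T.simp' i))) D.rank) D.rank))))

/-- The consequences of the checks. -/
structure RootOK (D : ChevalleyDatum) (T : Tbl) (R : RootData) : Prop where
  lt : R.rho < D.nroots
  kpos : D.nroots ≤ 2 * R.k
  kle : R.k ≤ R.rho
  N_ne : R.N ≠ 0
  orb_rho : R.rho ∈ R.orb
  orb_refl : ∀ i < D.rank, ∀ r < D.nroots, r ∈ R.orb → T.refl' i r ∈ R.orb
  above : ∀ r, R.rho < r → r < D.nroots → r ∉ R.orb ∧ ∀ s, R.rho ≤ s → s < r → tTerms T s r = []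
  tail_rad : ∀ r, R.k ≤ r → r < D.nroots → inRad D T R.rho r = true
  dom : ∀ s < D.nroots, D.nroots ≤ 2 * s → 0 ≤ rootPair T R.rho s
  dom_fix : ∀ i < D.rank, rootPair T R.rho (T.simp' i) = 0 → T.refl' i R.rho = R.rho
  tailComb : ∀ i < D.rank, ∃ l : List (ℕ × ℤ), (∀ x ∈ l, R.k ≤ x.1 ∧ x.1 < D.nroots) ∧
    ∀ j < D.rank, combVal T l j = R.N * T.cartan j (T.simp' i)
  radComb : ∀ i < D.rank, ∃ l : List (ℕ × ℤ), (∀ x ∈ l, inRad D T R.rho x.1 = true) ∧
    ∀ j < D.rank, combVal T l j = T.cartan j (T.simp' i)

variable {D : ChevalleyDatum} {T : Tbl} {R : RootData}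

theorem rootOK_of_chk (h : rootChk D T R = true) : RootOK D T R := by
  simp only [rootChk, Bool.and_eq_true, allBelow_iff, Bool.or_eq_true, Bool.not_eq_true', Nat.blt_eq, Nat.ble_eq,
    decide_eq_true_eq, decide_eq_false_iff_not, List.all_eq_true, List.contains_iff_mem, List.isEmpty_iff,
    Nat.beq_eq] at h
  obtain ⟨⟨⟨h1, h2⟩, h3, h4⟩, ⟨h5, h6⟩, ⟨h7, h8⟩, ⟨h9, h10⟩, h11, h12⟩ := h
  refine ⟨h1, h2, h3, h4, h5, fun i hi r hr hm => ?_, fun r hr hrn => ?_, fun r hr hrn => ?_, fun s hs hp => ?_,
    fun i hi h0 => ?_, fun i hi => ⟨_, (h11 i hi).1, (h11 i hi).2⟩, fun i hi => ⟨_, (h12 i hi).1, (h12 i hi).2⟩⟩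
  · exact (h6 i hi r hr).resolve_left (by simp [hm])
  · obtain ⟨ha, hb⟩ := (h7 r hrn).resolve_left (by omega)
    refine ⟨by simpa using ha, fun s hs hsr => ?_⟩
    exact ((hb s (by omega)).resolve_left (by omega)).resolve_left (by omega)
  · exact (h8 r hrn).resolve_left (by omega)
  · exact (h9 s hs).resolve_left (by omega)
  · exact (h10 i hi).resolve_left (fun h => h h0)

/-- The fundamental reflections fixing the root. -/
def rootStab (D : ChevalleyDatum) (T : Tbl) (ρ : ℕ) : Set ℕ := {i | i < D.rank ∧ T.refl' i ρ = ρ}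

variable {F : Type*} [Field F] (C : Cert D T) (K : FullCert D T)
include C

theorem inRad_spec {ρ r : ℕ} (h : inRad D T ρ r = true) :
    r < D.nroots ∧ D.nroots ≤ 2 * r ∧ ¬ D.InRootSub (rootStab D T ρ) r ∧ (r = ρ ∨ tTerms T ρ r = []) := by
  simp only [inRad, outRoot, Bool.and_eq_true, Bool.or_eq_true, Nat.blt_eq, Nat.ble_eq, Nat.beq_eq, List.isEmpty_iff,
    Bool.not_eq_true', ← Bool.not_eq_true, allBelow_iff, decide_eq_true_eq] at h
  obtain ⟨⟨h1, h2⟩, h3, h4⟩ := h
  refine ⟨h1, h2, fun hS => h3 fun j hj => ?_, h4⟩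
  by_cases hfix : T.refl' j ρ = ρ
  · exact Or.inl hfix
  · exact Or.inr (((inRootSub_iff C).1 hS).2 j hj fun hm => hfix hm.2)

theorem rootPair_eq_rootCent (r s : ℕ) : rootPair T r s = ∑ j ∈ Finset.range D.rank, T.coroot r j * T.cartan j s := by
  rw [rootPair, sumBelow_eq, C.spec.shape.rank_eq]

theorem wperm_orb (hR : RootOK D T R) {w : List ℕ} (hw : IsWord D w) : wperm T w R.rho ∈ R.orb := by
  induction w with
  | nil => exact hR.orb_rho
  | cons i w ih => exact hR.orb_refl i hw.tail.1 _ (wperm_lt C hw.tail.2 hR.lt) (ih hw.tail.2)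

include K

/-- A word fixing a dominant root is, as a permutation, in the stabilizer. -/
theorem exists_stab_word (hR : RootOK D T R) : ∀ (n : ℕ) {w : List ℕ}, IsWord D w → wperm T w R.rho = R.rho →
    (negSet D T w).card = n → ∃ a, InW D (rootStab D T R.rho) a ∧ SamePerm D T w a := by
  intro n
  induction n using Nat.strong_induction_on with
  | _ n ih =>
    intro w hw hfix hn
    by_cases hk : ∃ i < D.rank, 2 * wperm T w (T.simp' i) < D.nroots
    · obtain ⟨i, hi, hneg⟩ := hk
      have hsi := C.spec.simp_lt i hi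
      have hwi := wperm_lt C hw hsi
      have h0 : rootPair T R.rho (T.simp' i) = 0 := by
        have h1 := hR.dom _ hsi (K.simple_pos hi)
        have h2 := hR.dom _ (C.spec.neg_lt _ hwi) ((K.neg_pos_iff hwi).2 hneg)
        have h3 := rootPair_wperm C hw hR.lt (C.spec.neg_lt _ hsi)
        rw [hfix, wperm_neg C hw hsi] at h3
        have h4 : rootPair T R.rho (T.neg (T.simp' i)) = -rootPair T R.rho (T.simp' i) := by
          simp only [rootPair_eq_rootCent C, ← Finset.sum_neg_distrib]
          exact Finset.sum_congr rfl fun j hj => by rw [C.spec.cart_neg j (Finset.mem_range.1 hj) _ hsi]; ring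
        omega
      have hri := hR.dom_fix i hi h0
      have hw' : IsWord D (w ++ [i]) := hw.append (inW_single (J := rootStab D T R.rho) hi ⟨hi, hri⟩).1
      obtain ⟨a, ha, hsame⟩ := ih (negSet D T (w ++ [i])).card
        (by have := card_descent_right C K hi hw hneg; omega) hw'
        (by rw [wperm_append, show wperm T [i] R.rho = R.rho from hri, hfix]) rfl
      refine ⟨a ++ [i], ha.append (inW_single hi ⟨hi, hri⟩), fun s hs => ?_⟩
      have hs' := C.spec.refl_lt i hi s hs
      have := hsame _ hs'
      rw [wperm_append, show wperm T [i] (T.refl' i s) = s from C.spec.refl_refl i hi s hs] at this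
      rw [this, wperm_append]; rfl
    · push Not at hk
      exact ⟨[], inW_nil _, samePerm_nil C K hw hk⟩

theorem xg_comm_of_terms {r s : ℕ} (hr : r < D.nroots) (hs : s < D.nroots) (hrp : D.nroots ≤ 2 * r)
    (hsp : D.nroots ≤ 2 * s) (h : s = r ∨ tTerms T r s = []) (t u : F) : Commute (xg C r t) (xg C s u) := by
  rcases eq_or_ne s r with rfl | hne
  · show _ = _
    rw [xg_add, xg_add, add_comm]
  · have h2 : s ≠ T.neg r := by rw [C.neg_eq hr]; omega
    have e := comm_xg_prod C K.comm hr hs hne h2 t u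
    rw [h.resolve_left hne, List.map_nil, List.prod_nil, commutatorElement_eq_one_iff_commute] at e
    exact e.inv_inv.symm

theorem upper_conj_root {r : ℕ} (hr : r < D.nroots) (hp : D.nroots ≤ 2 * r) {a : GL D.Idx F}
    (ha : a ∈ D.posUnipotent F) (t : F) : (xg C r t)⁻¹ * (a⁻¹ * xg C r t * a) ∈ upper C F (r + 1) := by
  simpa [mul_assoc] using (upper_central C K.comm hp hr ha).2 t

theorem conj_borel_root {r : ℕ} (hr : r < D.nroots) (hp : D.nroots ≤ 2 * r) {b : GL D.Idx F}
    (hb : b ∈ D.borelSubgroup F) : ∃ χ : F, χ ≠ 0 ∧ ∀ t, (xg C r (χ * t))⁻¹ * (b⁻¹ * xg C r t * b) ∈ upper C F (r + 1) := by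
  obtain ⟨u, hu, h, hh, rfl⟩ := (mem_borel C).1 hb
  obtain ⟨χ, hχ⟩ := diag_conj_xg C (inv_mem hh)
  refine ⟨χ r, (hχ r hr).1, fun t => ?_⟩
  have h2 := upper_conj_root C K hr hp hu t
  have h3 : h⁻¹ * ((xg C r t)⁻¹ * (u⁻¹ * xg C r t * u)) * h⁻¹⁻¹ ∈ upper C F (r + 1) :=
    (Subgroup.mem_normalizer_iff.1 (diag_le_normalizer_upper C (r + 1) (inv_mem hh)) _).1 h2
  convert h3 using 1
  rw [← (hχ r hr).2 t]; group

theorem neg_inf_pos {g : GL D.Idx F} (h1 : g ∈ D.posUnipotent F) (h2 : g ∈ D.negUnipotent F) : g = 1 :=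
  (Subgroup.eq_bot_iff_forall _).1 (borel_inf_neg C) _ ⟨Subgroup.mem_sup_left h1, h2⟩

/-- The Weyl part of an element moving a dominant root element within its root subgroup fixes the root. -/
theorem wperm_fix_root (hR : RootOK D T R) {w : List ℕ} (hw : IsWord D w) {b c : GL D.Idx F}
    (hb : b ∈ D.borelSubgroup F) (hc : c ∈ D.posUnipotent F) {t t' : F} (ht' : t' ≠ 0)
    (e : b * wnu C F w * c * xg C R.rho t * (b * wnu C F w * c)⁻¹ = xg C R.rho t') :
    wperm T w R.rho = R.rho := by
  classical
  by_contra hne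
  have hev := nroots_even C
  have hρ : D.nroots ≤ 2 * R.rho := by have := hR.kpos; have := hR.kle; omega
  set n := wnu C F w with hn
  -- the preimage
  obtain ⟨f, hf⟩ : ∃ f, c * xg C R.rho t * c⁻¹ = oprod C R.rho (D.nroots - R.rho) f := by
    refine upper_normal_form C K.comm _ hρ (by have := hR.lt; omega) ?_
    have := upper_conj_root C K hR.lt hρ (inv_mem hc) t
    have h2 := mul_mem (xg_mem_upper C (le_refl R.rho) t) (upper_anti C (Nat.le_succ R.rho) this)
    simpa [mul_assoc] using h2
  -- the image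
  obtain ⟨χ, hχ0, hχ⟩ := conj_borel_root C K hR.lt hρ hb
  have himg : n * (c * xg C R.rho t * c⁻¹) * n⁻¹ = b⁻¹ * xg C R.rho t' * b := by
    rw [← e]; group
  set l := List.range' R.rho (D.nroots - R.rho) with hl
  have hlr : ∀ r ∈ l, R.rho ≤ r ∧ r < D.nroots := fun r hr => by
    rw [hl, List.mem_range'_1] at hr; omega
  have hex : ∀ r, ∃ c : F, r < D.nroots → ∀ t, n * xg C r t * n⁻¹ = xg C (wperm T w r) (c * t) := fun r => by
    by_cases hr : r < D.nroots
    · obtain ⟨c, -, hc⟩ := wnu_conj_xg C (F := F) hw hr; exact ⟨c, fun _ => hc⟩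
    · exact ⟨0, fun h => absurd h hr⟩
  choose η hη using hex
  have hcomm : ∀ r ∈ l, ∀ s ∈ l, ∀ u v : F, Commute (xg C r u) (xg C s v) := by
    intro r hr s hs u v
    obtain ⟨hr1, hr2⟩ := hlr r hr
    obtain ⟨hs1, hs2⟩ := hlr s hs
    rcases lt_trichotomy r s with h | h | h
    · exact xg_comm_of_terms C K hr2 hs2 (by omega) (by omega) (Or.inr ((hR.above s (by omega) hs2).2 r hr1 h)) u v
    · exact xg_comm_of_terms C K hr2 hs2 (by omega) (by omega) (Or.inl h.symm) u v
    · exact (xg_comm_of_terms C K hs2 hr2 (by omega) (by omega) (Or.inr ((hR.above r (by omega) hr2).2 s hs1 h)) v u).symm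
  let y : ℕ → GL D.Idx F := fun r => xg C (wperm T w r) (η r * f r)
  have himg2 : n * (c * xg C R.rho t * c⁻¹) * n⁻¹ = (l.map y).prod := by
    rw [hf, oprod, ← hl]
    have : ∀ m : List ℕ, (∀ r ∈ m, r < D.nroots) → n * (m.map fun r => xg C r (f r)).prod * n⁻¹ = (m.map y).prod := by
      intro m
      induction m with
      | nil => simp
      | cons r m ih =>
        intro hm
        rw [List.map_cons, List.prod_cons, List.map_cons, List.prod_cons, ← ih fun s hs => hm s (List.mem_cons_of_mem _ hs)]
        simp only [y, ← hη r (hm r (List.mem_cons_self ..))]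
        group
    exact this l fun r hr => (hlr r hr).2
  -- split by sign
  let p : ℕ → Bool := fun r => decide (D.nroots ≤ 2 * wperm T w r)
  have hsplit : (l.map y).prod = ((l.filter p).map y).prod * ((l.filter fun r => !p r).map y).prod := by
    rw [← List.prod_append, ← List.map_append]
    refine ((List.filter_append_perm p l).symm.map y).prod_eq' ?_
    rw [List.pairwise_map]
    refine List.pairwise_of_forall_mem_list fun r hr s hs => ?_
    obtain ⟨hr1, hr2⟩ := hlr r hr
    obtain ⟨hs1, hs2⟩ := hlr s hs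
    simp only [y, ← hη r hr2, ← hη s hs2]
    exact (hcomm r hr s hs _ _).map (MulAut.conj n)
  obtain ⟨z, hz, hzu⟩ : ∃ z ∈ upper C F (R.rho + 1), b⁻¹ * xg C R.rho t' * b = xg C R.rho (χ * t') * z :=
    ⟨_, hχ t', by group⟩
  have hUimg : b⁻¹ * xg C R.rho t' * b ∈ upper C F R.rho := by
    rw [hzu]; exact mul_mem (xg_mem_upper C le_rfl _) (upper_anti C (Nat.le_succ _) hz)
  let P := (l.filter p).map (wperm T w)
  have hPmem : ∀ σ ∈ P, D.nroots / 2 ≤ σ ∧ σ < D.nroots := by
    intro σ hσ
    obtain ⟨r, hr, rfl⟩ := List.mem_map.1 hσ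
    rw [List.mem_filter, decide_eq_true_eq] at hr
    exact ⟨by omega, wperm_lt C hw (hlr r hr.1).2⟩
  have hnd : P.Nodup := by
    refine List.Nodup.map_on (fun a ha b hb hab => ?_) ((List.nodup_range' (s := R.rho) (n := D.nroots - R.rho)).filter _)
    exact wperm_inj C hw (hlr a (List.mem_filter.1 ha).1).2 (hlr b (List.mem_filter.1 hb).1).2 hab
  let g : ℕ → F := fun σ => η (wperm T w.reverse σ) * f (wperm T w.reverse σ)
  have hpos : ((l.filter p).map y).prod = lprod C P g := by
    simp only [lprod, P, List.map_map]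
    refine congrArg List.prod (List.map_congr_left fun r hr => ?_)
    simp only [y, g, Function.comp, wperm_reverse C hw (hlr r (List.mem_filter.1 hr).1).2]
  have hnegone : ((l.filter fun r => !p r).map y).prod = 1 := by
    refine neg_inf_pos C K ?_ (list_prod_mem fun x hx => ?_)
    · have h1 : ((l.filter p).map y).prod ∈ D.posUnipotent F := by
        rw [hpos]; exact lprod_mem_pos C (fun r hr => (hPmem r hr).1) g
      have h2 : (l.map y).prod ∈ D.posUnipotent F := by
        rw [← himg2, himg, posUnipotent_eq C]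
        exact upper_anti C (by omega) hUimg
      rw [hsplit] at h2
      exact (Subgroup.mul_mem_cancel_left _ h1).1 h2
    · obtain ⟨r, hr, rfl⟩ := List.mem_map.1 hx
      rw [List.mem_filter] at hr
      exact xg_mem_neg C (wperm_lt C hw (hlr r hr.1).2) (by simpa [p] using hr.2) _
  rw [hsplit, hnegone, mul_one, hpos] at himg2
  have hU : lprod C P g ∈ upper C F R.rho := by rw [← himg2, himg]; exact hUimg
  -- the coefficients below the root vanish
  have hzero : ∀ r, r < R.rho → r ∈ P → g r = 0 := by
    intro r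
    induction r using Nat.strong_induction_on with
    | _ r ih =>
      intro hrρ hrP
      obtain ⟨h1, h2⟩ := hPmem r hrP
      have h := lprod_agree C K.comm (k := r) (t := fun _ => (0 : F)) (u := g) (by omega) h2 hnd hPmem
        (fun s hs hsr => (ih s hsr (by omega) hs).symm)
      rw [if_pos hrP, sub_zero, lprod_zero, inv_one, one_mul] at h
      have h' : lprod C P g ∈ upper C F (r + 1) := upper_anti C (by omega) hU
      have h'' := mul_mem h (inv_mem h')
      rw [mul_assoc, mul_inv_cancel, mul_one, xg_inv] at h''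
      have := upper_unique C (F := F) (k := r) (by omega) h2 (t := -g r) (u := 0) (one_mem _) h''
        (by rw [xg_zero, one_mul, mul_one])
      exact neg_eq_zero.1 this.1
  -- the root itself is absent
  have hnotin : R.rho ∉ P := by
    intro hmem
    obtain ⟨r, hr, e'⟩ := List.mem_map.1 hmem
    obtain ⟨hr1, hr2⟩ := hlr r (List.mem_filter.1 hr).1
    rcases hr1.eq_or_lt with rfl | hlt
    · exact hne e'
    · have hor : wperm T w.reverse R.rho ∈ R.orb := wperm_orb C hR hw.reverse
      rw [← e', wperm_reverse C hw hr2] at hor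
      exact (hR.above r hlt hr2).1 hor
  have h := lprod_agree C K.comm (k := R.rho) (t := fun _ => (0 : F)) (u := g) hρ hR.lt hnd hPmem
    (fun s hs hsr => (hzero s hsr hs).symm)
  rw [if_neg hnotin, xg_zero, lprod_zero, inv_one, one_mul, one_mul, ← himg2, himg, hzu] at h
  have h' := mul_mem h (inv_mem hz)
  rw [mul_inv_cancel_right] at h'
  have := upper_unique C (F := F) (k := R.rho) hρ hR.lt (t := χ * t') (u := 0) (one_mem _) h'
    (by rw [xg_zero, one_mul, mul_one])
  exact mul_ne_zero hχ0 ht' this.1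

/-- An element moving a dominant root element within its root subgroup lies in the parabolic subgroup of the
stabilizer. -/
theorem mem_parabolic_of_root (hR : RootOK D T R) {g : GL D.Idx F} (hg : g ∈ D.group F) {t t' : F} (ht' : t' ≠ 0)
    (e : g * xg C R.rho t * g⁻¹ = xg C R.rho t') : g ∈ D.parabolicSubgroup F (rootStab D T R.rho) := by
  obtain ⟨w, hw, b, hb, c, hc, rfl⟩ := bruhat_normal C K hg
  have hcU : c ∈ D.posUnipotent F := (posUnipotent_eq C (F := F)).symm ▸ signPart_le_upper C K w true _ hc
  have hfix := wperm_fix_root C K hR hw hb hcU ht' e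
  obtain ⟨a, ha, hsame⟩ := exists_stab_word C K hR _ hw hfix rfl
  have hd := same_of_perm C K (F := F) hw ha.1 fun k hk => hsame _ (C.spec.simp_lt k hk)
  have : wnu C F w ∈ D.parabolicSubgroup F (rootStab D T R.rho) := by
    have h1 := mul_mem (mem_parabolic_of_word C K (F := F) ha)
      (inv_mem (Subgroup.mem_sup_left (T := Subgroup.closure _) (Subgroup.mem_sup_right (S := D.posUnipotent F) hd)))
    rwa [mul_inv_rev, inv_inv, mul_inv_cancel_left] at h1
  exact mul_mem (mul_mem (Subgroup.mem_sup_left hb) this) (Subgroup.mem_sup_left (Subgroup.mem_sup_left hcU))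

theorem xg_mem_radical_cent (hR : RootOK D T R) {r : ℕ} (h : inRad D T R.rho r = true) (t u : F) :
    xg C r u ∈ D.unipotentRadical F (rootStab D T R.rho) ∧ Commute (xg C r u) (xg C R.rho t) := by
  obtain ⟨h1, h2, h3, h4⟩ := inRad_spec C h
  refine ⟨xg_mem_radical C h1 h2 h3 u, (xg_comm_of_terms C K hR.lt h1 (by have := hR.kpos; have := hR.kle; omega) h2 h4 t u).symm⟩

/-- An element centralizing the commuting part of the radical is unipotent upper triangular. -/
theorem mem_pos_of_centralizes (hR : RootOK D T R) {g : GL D.Idx F} (hg : g ∈ D.group F)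
    (hc : ∀ r, inRad D T R.rho r = true → ∀ u : F, Commute g (xg C r u)) : g ∈ D.posUnipotent F := by
  classical
  obtain ⟨w, hw, b, hb, c, hcs, rfl⟩ := bruhat_normal C K hg
  have hcU : c ∈ D.posUnipotent F := (posUnipotent_eq C (F := F)).symm ▸ signPart_le_upper C K w true _ hcs
  have hfix : ∀ m r, D.nroots - r = m → R.k ≤ r → r < D.nroots → wperm T w r = r := by
    intro m
    induction m using Nat.strong_induction_on with
    | _ m ih =>
      intro r hm hkr hr
      have hp : D.nroots ≤ 2 * r := by have := hR.kpos; omega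
      have ihr : ∀ s, r + 1 ≤ s → s < D.nroots → wperm T w s = s := fun s h1 h2 =>
        ih _ (by omega) s rfl (by omega) h2
      have hkeep : ∀ z ∈ upper C F (r + 1), wnu C F w * z * (wnu C F w)⁻¹ ∈ upper C F (r + 1) := by
        intro z hz
        induction hz using Subgroup.closure_induction with
        | mem z hz =>
          obtain ⟨s, u, h1, h2, rfl⟩ := hz
          obtain ⟨η, -, hη⟩ := wnu_conj_xg C (F := F) hw h2
          rw [hη, ihr s h1 h2]
          exact xg_mem_upper C h1 _
        | one => simp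
        | mul x y _ _ hx hy => simpa [mul_assoc] using mul_mem hx hy
        | inv x _ hx => simpa [mul_assoc] using inv_mem hx
      have hz1 : (xg C r (1 : F))⁻¹ * (c * xg C r 1 * c⁻¹) ∈ upper C F (r + 1) := by
        simpa using upper_conj_root C K hr hp (inv_mem hcU) (1 : F)
      obtain ⟨χ, hχ0, hχ⟩ := conj_borel_root C K hr hp hb
      obtain ⟨η, hη2, hη⟩ := wnu_conj_xg C (F := F) hw hr
      have e : xg C (wperm T w r) (η * 1) * (wnu C F w * ((xg C r (1 : F))⁻¹ * (c * xg C r 1 * c⁻¹)) * (wnu C F w)⁻¹) =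
          xg C r (χ * 1) * ((xg C r (χ * 1))⁻¹ * (b⁻¹ * xg C r 1 * b)) := by
        have hcm := (hc r (hR.tail_rad r hkr hr) 1).eq
        rw [← hη 1, mul_inv_cancel_left]
        calc wnu C F w * xg C r 1 * (wnu C F w)⁻¹ * (wnu C F w * ((xg C r (1 : F))⁻¹ * (c * xg C r 1 * c⁻¹)) * (wnu C F w)⁻¹)
            = b⁻¹ * (b * wnu C F w * c * xg C r 1) * (c⁻¹ * (wnu C F w)⁻¹) := by group
          _ = b⁻¹ * (xg C r 1 * (b * wnu C F w * c)) * (c⁻¹ * (wnu C F w)⁻¹) := by rw [hcm]
          _ = _ := by group
      have hη0 : η * 1 ≠ 0 := by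
        rw [mul_one]; exact fun h => by simp [h] at hη2
      have hwr := wperm_lt C hw hr
      rcases lt_trichotomy (wperm T w r) r with hlt | heq | hgt
      · exfalso
        by_cases hpos : D.nroots ≤ 2 * wperm T w r
        · exact hη0 (upper_unique C (F := F) (k := wperm T w r) hpos hwr (t := η * 1) (u := 0)
            (upper_anti C (by omega) (hkeep _ hz1))
            (mul_mem (xg_mem_upper C (k := wperm T w r + 1) (r := r) (by omega) (χ * 1)) (upper_anti C (by omega) (hχ 1)))
            (by rw [xg_zero, one_mul, e])).1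
        · have hB : xg C (wperm T w r) (η * 1) ∈ D.borelSubgroup F := by
            refine Subgroup.mem_sup_left ?_
            have hU : ∀ z ∈ upper C F r, z ∈ D.posUnipotent F := fun z hz =>
              (posUnipotent_eq C (F := F)).symm ▸ upper_anti C (by omega) hz
            have := mul_mem (hU _ (mul_mem (xg_mem_upper C le_rfl (χ * 1)) (upper_anti C (Nat.le_succ r) (hχ 1))))
              (inv_mem (hU _ (upper_anti C (Nat.le_succ r) (hkeep _ hz1))))
            rwa [← e, mul_inv_cancel_right] at this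
          exact hη0 (xg_neg_not_borel C hwr (by omega) hB)
      · exact heq
      · exact wperm_inj C hw hwr hr (ihr _ (by omega) hwr)
  -- the Weyl part is trivial
  have hlin : ∀ (l : List (ℕ × ℤ)) (a : ℕ) (N : ℤ) (v : List ℕ), IsWord D v → a < D.nroots →
      (∀ x ∈ l, x.1 < D.nroots) → (∀ j < D.rank, combVal T l j = N * T.cartan j a) →
      ∀ j < D.rank, (l.map fun x => x.2 * T.cartan j (wperm T v x.1)).sum = N * T.cartan j (wperm T v a) := by
    intro l a N v hv ha hl hcomb
    induction v with
    | nil => exact hcomb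
    | cons i v ih =>
      intro j hj
      have hvi := hv.tail
      show (l.map fun x => x.2 * T.cartan j (T.refl' i (wperm T v x.1))).sum = N * T.cartan j (T.refl' i (wperm T v a))
      rw [C.spec.cart_refl i hvi.1 j hj _ (wperm_lt C hvi.2 ha), mul_sub, ← ih hvi.2 j hj, ← mul_assoc,
        ← ih hvi.2 i hvi.1]
      clear hcomb ih
      induction l with
      | nil => simp
      | cons x l ihl =>
        simp only [List.map_cons, List.sum_cons,
          C.spec.cart_refl i hvi.1 j hj _ (wperm_lt C hvi.2 (hl x (List.mem_cons_self ..))),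
          ihl fun y hy => hl y (List.mem_cons_of_mem _ hy)]
        ring
  have hpos : ∀ i < D.rank, D.nroots ≤ 2 * wperm T w (T.simp' i) := by
    intro i hi
    have hsi := C.spec.simp_lt i hi
    obtain ⟨l, hl, hcomb⟩ := hR.tailComb i hi
    have hfun : fun' C (wperm T w (T.simp' i)) = fun' C (T.simp' i) := by
      have := fun'_linear C (r := T.simp' i) (s := T.simp' i) (k := wperm T w (T.simp' i)) (i := 1) (j := 0) fun j hj => by
        refine mul_left_cancel₀ hR.N_ne ?_
        rw [one_mul, zero_mul, add_zero, ← hlin l _ _ w hw hsi (fun x hx => (hl x hx).2) hcomb j hj, ← hcomb j hj]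
        exact congrArg List.sum (List.map_congr_left fun x hx => by rw [hfix _ x.1 rfl (hl x hx).1 (hl x hx).2])
      rw [this]; ring
    have hwi := wperm_lt C hw hsi
    have heq : wperm T w (T.simp' i) = T.simp' i := le_antisymm
      (le_of_not_gt fun h => ((fun'_lt C hwi h).ne hfun.symm)) (le_of_not_gt fun h => ((fun'_lt C hsi h).ne hfun))
    rw [heq]; exact K.simple_pos hi
  have hwd : wnu C F w ∈ D.diagonalSubgroup F := word_kernel C K _ rfl hw hpos
  have hgB : b * wnu C F w * c ∈ D.borelSubgroup F :=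
    mul_mem (mul_mem hb (Subgroup.mem_sup_right hwd)) (Subgroup.mem_sup_left hcU)
  obtain ⟨u, hu, h, hh, e⟩ := (mem_borel C).1 hgB
  rw [e] at hc ⊢
  obtain ⟨a, ha0, he⟩ := coe_diagonal C hh
  have hconj : ∀ r < D.nroots, ∀ s : F, h * xg C r s = xg C r (chr T D a r * s) * h := fun r hr s =>
    Units.ext (by rw [Units.val_mul, Units.val_mul, he, coe_xg, coe_xg, scal_mul_x C.spec a ha0 hr])
  have hchr : ∀ r, inRad D T R.rho r = true → chr T D a r = 1 := by
    intro r hrad
    obtain ⟨hr, hp, -, -⟩ := inRad_spec C hrad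
    have h2 := upper_conj_root C K hr hp (inv_mem hu) (chr T D a r)
    rw [inv_inv] at h2
    have e1 : u * xg C r (chr T D a r) * u⁻¹ = xg C r 1 := by
      have h5 := (hc r hrad 1).eq
      have h6 := hconj r hr 1
      rw [mul_one] at h6
      calc u * xg C r (chr T D a r) * u⁻¹ = u * (xg C r (chr T D a r) * h) * (u * h)⁻¹ := by group
        _ = u * h * xg C r 1 * (u * h)⁻¹ := by rw [← h6]; group
        _ = _ := by rw [h5, mul_inv_cancel_right]
    rw [e1] at h2
    exact (upper_unique C (F := F) (k := r) hp hr (one_mem _) h2 (by rw [mul_one, mul_inv_cancel_left])).1.symm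
  have hsimple : ∀ i < D.rank, chr T D a (T.simp' i) = 1 := by
    intro i hi
    obtain ⟨l, hl, hcomb⟩ := hR.radComb i hi
    have key : ∀ m : List (ℕ × ℤ), (∀ x ∈ m, inRad D T R.rho x.1 = true) →
        ∏ j ∈ Finset.range D.rank, a j ^ combVal T m j = 1 := by
      intro m
      induction m with
      | nil => intro _; simp [combVal]
      | cons x m ihm =>
        intro hm
        simp only [combVal, List.map_cons, List.sum_cons]
        rw [Finset.prod_congr rfl fun j hj => zpow_add₀ (ha0 j (Finset.mem_range.1 hj)) _ _, Finset.prod_mul_distrib]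
        rw [show ∏ j ∈ Finset.range D.rank, a j ^ (m.map fun x => x.2 * T.cartan j x.1).sum = 1 from
          ihm fun y hy => hm y (List.mem_cons_of_mem _ hy), mul_one,
          Finset.prod_congr rfl fun j _ => by rw [mul_comm, zpow_mul], Finset.prod_zpow]
        rw [show ∏ j ∈ Finset.range D.rank, a j ^ T.cartan j x.1 = 1 from hchr _ (hm x (List.mem_cons_self ..)), one_zpow]
    rw [chr, ← key l hl]
    exact Finset.prod_congr rfl fun j hj => by rw [hcomb j (Finset.mem_range.1 hj)]
  have hall : ∀ r < D.nroots, chr T D a r = 1 := by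
    refine C.root_induction (P := fun r => chr T D a r = 1) hsimple fun i hi r hr ih => ?_
    have h2 : chr T D a (T.refl' i r) = chr T D a r * chr T D a (T.simp' i) ^ (-T.cartan i r) := by
      simp only [chr, ← Finset.prod_zpow, ← Finset.prod_mul_distrib]
      refine Finset.prod_congr rfl fun j hj => ?_
      rw [C.spec.cart_refl i hi j (Finset.mem_range.1 hj) r hr, ← zpow_mul, ← zpow_add₀ (ha0 j (Finset.mem_range.1 hj))]
      congr 1; ring
    rw [h2, ih, hsimple i hi, one_zpow, one_mul]
  have h1 : h = 1 := diag_eq_one_of_comm C hh fun r hr => by rw [hconj r hr 1, hall r hr, one_mul]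
  rw [h1, mul_one]
  exact hu

end Cfsg.Lib.Chev
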