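import Cfsg.Agent.Lib.Chev.Perfect
import Cfsg.Agent.Lib.Chev.Irreducible
import Cfsg.Agent.Lib.Chev.FullAll

/-! Perfectness and connectedness for the seven types. -/

set_option autoImplicit false

namespace Cfsg.Lib.Chev

open Cfsg.Lie

theorem linkedG2 : chkLinked tblG2 [0, 1] = true := by decide +kernel

theorem linkedB2 : chkLinked tblB2 [0, 1] = true := by decide +kernel

theorem linkedD4 : chkLinked tblD4 [0, 1, 2, 2] = true := by decide +kernel

theorem cleanD4 : chkClean tblD4 [(6, 22), (1, 23), (3, 22), (2, 22)] = true := by decide +kernel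

theorem linkedF4 : chkLinked tblF4 [0, 1, 2, 3] = true := by decide +kernel

theorem cleanF4 : chkClean tblF4 [(7, 44), (8, 40), (2, 46), (1, 47)] = true := by decide +kernel

theorem linkedE6 : chkLinked tblE6 [0, 3, 1, 2, 3, 4] = true := by decide +kernel

theorem cleanE6 : chkClean tblE6 [(16, 66), (1, 71), (5, 69), (2, 70), (3, 69), (4, 68)] = true := by decide +kernel

theorem linkedE7 : chkLinked tblE7 [0, 3, 1, 2, 3, 4, 5] = true := by decide +kernel

theorem cleanE7 : chkClean tblE7 [(1, 125), (7, 122), (2, 124), (3, 123), (4, 122), (5, 121), (6, 120)] = true := by decide +kernel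

theorem linkedE8 : chkLinked tblE8 [0, 3, 1, 2, 3, 4, 5, 6] = true := by decide +kernel

theorem cleanE8 : chkClean tblE8 [(14, 233), (7, 234), (6, 234), (5, 235), (4, 236), (3, 237), (2, 238), (1, 239)] = true := by decide +kernel

theorem perfectB2 {F : Type*} [Field F] (hF : ∃ a : F, a ≠ 0 ∧ a ≠ 1) : commutator ↥(chevB2.group F) = ⊤ := by
  have C := fullCertB2.comm.cert
  have K := fullCertB2.comm
  refine perfect_of_simple C fun i hi => ?_
  rcases field_dichotomy hF with ⟨a, ha, ha2⟩ | h3
  · exact inDerived_of_sq C ha ha2 (C.spec.simp_lt i hi)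
  have h2 : ((2 : ℤ) : F) ≠ 0 := fun e => one_ne_zero (α := F) (by push_cast at e; linear_combination h3 - e)
  have h2' : ((-2 : ℤ) : F) ≠ 0 := by push_cast at h2 ⊢; exact neg_ne_zero.2 h2
  have r3 : InDerived C F 3 := inDerived_of_terms C K (r := 5) (s := 1) (rest := [])
    (by decide) (by decide) (by decide) (by decide +kernel) (by decide +kernel : tTerms tblB2 5 1 = [(3, 2, 1, 1)]) h2 (by simp)
  have r4 : InDerived C F 4 := inDerived_of_terms C K (r := 2) (s := 6) (rest := [])
    (by decide) (by decide) (by decide) (by decide +kernel) (by decide +kernel : tTerms tblB2 2 6 = [(4, -2, 1, 1)]) h2' (by simp)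
  have r5 : InDerived C F 5 := inDerived_of_terms C K (r := 1) (s := 7) (rest := [(3, 1, 2, 1)])
    (by decide) (by decide) (by decide) (by decide +kernel)
    (by decide +kernel : tTerms tblB2 1 7 = [(5, -1, 1, 1), (3, 1, 2, 1)]) (by simp)
    (fun p hp => Or.inr (by rw [List.mem_singleton.1 hp]; exact r3))
  change i < 2 at hi
  interval_cases i
  · rw [show tblB2.simp' 0 = 5 by decide +kernel]; exact r5
  · rw [show tblB2.simp' 1 = 4 by decide +kernel]; exact r4

theorem perfectG2 {F : Type*} [Field F] (hF : ∃ a : F, a ≠ 0 ∧ a ≠ 1) : commutator ↥(chevG2.group F) = ⊤ := by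
  have C := fullCertG2.comm.cert
  have K := fullCertG2.comm
  refine perfect_of_simple C fun i hi => ?_
  rcases field_dichotomy hF with ⟨a, ha, ha2⟩ | h3
  · exact inDerived_of_sq C ha ha2 (C.spec.simp_lt i hi)
  have h2 : ((2 : ℤ) : F) ≠ 0 := fun e => one_ne_zero (α := F) (by push_cast at e; linear_combination h3 - e)
  have r6 : InDerived C F 6 := inDerived_of_terms C K (r := 1) (s := 11) (rest := [])
    (by decide) (by decide) (by decide) (by decide +kernel) (by decide +kernel : tTerms tblG2 1 11 = [(6, -1, 1, 1)]) (by simp) (by simp)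
  have r7 : InDerived C F 7 := inDerived_of_terms C K (r := 3) (s := 9) (rest := [(5, -3, 2, 1), (10, 3, 1, 2)])
    (by decide) (by decide) (by decide) (by decide +kernel)
    (by decide +kernel : tTerms tblG2 3 9 = [(7, 2, 1, 1), (5, -3, 2, 1), (10, 3, 1, 2)]) h2
    (fun p hp => Or.inl (by
      rcases List.mem_cons.1 hp with rfl | hp
      · push_cast; linear_combination -h3
      · rw [List.mem_singleton.1 hp]; push_cast; exact h3))
  change i < 2 at hi
  interval_cases i
  · rw [show tblG2.simp' 0 = 7 by decide +kernel]; exact r7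
  · rw [show tblG2.simp' 1 = 6 by decide +kernel]; exact r6

end Cfsg.Lib.Chev
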