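import Cfsg.Agent.Lib.Chev.StPairAll

/-!
Projective representations in the defining characteristic lift to the group presented by (R1), (R2), over every field.
-/

set_option autoImplicit false
set_option linter.unusedSectionVars false

namespace Cfsg.Lib.Chev.ProjLift

open Cfsg.Lie
open scoped Matrix commutatorElement

/-- A homomorphism of a finite group of prime power order lifts uniquely through a central kernel with unique roots. -/
theorem existsUnique_hom_lift {U E Q : Type*} [Group U] [Group E] [Group Q] [Finite U] {p : ℕ} [Fact p.Prime]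
    (hU : IsPGroup p U) (π : E →* Q) (hc : π.ker ≤ Subgroup.center E)
    (hroot : Function.Bijective fun z : π.ker => z ^ p) (φ : U →* Q) (hφ : ∀ x, ∃ e, π e = φ x) :
    ∃! l : U →* E, π.comp l = φ := by
  classical
  have := Fintype.ofFinite U
  obtain ⟨k, hk⟩ := IsPGroup.iff_card.1 hU
  have hN : Function.Bijective fun z : π.ker => z ^ Nat.card U := by
    rw [hk]
    clear hk
    induction k with
    | zero => exact ⟨fun a b h => by simpa using h, fun b => ⟨b, by simp⟩⟩
    | succ k ih =>
      have : (fun z : π.ker => z ^ p ^ (k + 1)) = (fun z : π.ker => z ^ p) ∘ fun z : π.ker => z ^ p ^ k :=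
        funext fun z => by simp [pow_succ, pow_mul]
      rw [this]
      exact hroot.comp ih
  have hcomm : ∀ a b : π.ker, a * b = b * a := fun a b =>
    Subtype.ext (Subgroup.mem_center_iff.1 (hc b.2) a)
  let _ : CommGroup π.ker := { (inferInstance : Group π.ker) with mul_comm := hcomm }
  have hcen : ∀ (z : π.ker) (e : E), (z : E) * e = e * (z : E) := fun z e =>
    (Subgroup.mem_center_iff.1 (hc z.2) e).symm
  choose s hs using hφ
  let c : U → U → π.ker := fun x y => ⟨s x * s y * (s (x * y))⁻¹, by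
    rw [MonoidHom.mem_ker, map_mul, map_mul, map_inv, hs, hs, hs, map_mul]; group⟩
  have hcs : ∀ x y, s x * s y = (c x y : E) * s (x * y) := fun x y => by simp [c]
  have hcoc : ∀ x y z, c x y * c (x * y) z = c y z * c x (y * z) := by
    intro x y z
    refine Subtype.ext ?_
    refine mul_right_cancel (b := s (x * y * z)) ?_
    show (c x y : E) * (c (x * y) z : E) * _ = (c y z : E) * (c x (y * z) : E) * _
    calc (c x y : E) * (c (x * y) z : E) * s (x * y * z)
        = (c x y : E) * (s (x * y) * s z) := by rw [hcs (x * y) z, mul_assoc]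
      _ = s x * s y * s z := by rw [← mul_assoc, ← hcs x y]
      _ = s x * ((c y z : E) * s (y * z)) := by rw [mul_assoc, hcs y z]
      _ = (c y z : E) * (s x * s (y * z)) := by rw [← mul_assoc, ← hcen (c y z) (s x), mul_assoc]
      _ = (c y z : E) * (c x (y * z) : E) * s (x * y * z) := by rw [hcs x (y * z), ← mul_assoc, mul_assoc x y z]
  let f : U → π.ker := fun x => ∏ y, c x y
  have hf : ∀ x y, c x y ^ Nat.card U * f (x * y) = f y * f x := by
    intro x y
    have h := Finset.prod_congr rfl fun z (_ : z ∈ (Finset.univ : Finset U)) => hcoc x y z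
    rw [Finset.prod_mul_distrib, Finset.prod_mul_distrib, Finset.prod_const, Finset.card_univ,
      ← Nat.card_eq_fintype_card, Fintype.prod_equiv (Equiv.mulLeft y) (fun z => c x (y * z)) (c x) fun z => rfl] at h
    exact h
  choose g hg' using fun x => hN.2 (f x)
  have hg : ∀ x, g x ^ Nat.card U = f x := hg'
  have hf' := hf
  have hkey : ∀ x y, c x y * g (x * y) = g x * g y := fun x y => hN.1 (by
    show (c x y * g (x * y)) ^ Nat.card U = (g x * g y) ^ Nat.card U
    rw [mul_pow, mul_pow, hg, hg, hg, hf, mul_comm])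
  have hl : ∀ x y, (g x : E)⁻¹ * s x * ((g y : E)⁻¹ * s y) = (g (x * y) : E)⁻¹ * s (x * y) := by
    intro x y
    have h := congrArg Subtype.val (hkey x y)
    rw [Subgroup.coe_mul, Subgroup.coe_mul] at h
    calc (g x : E)⁻¹ * s x * ((g y : E)⁻¹ * s y)
        = (g x : E)⁻¹ * (s x * (g y : E)⁻¹) * s y := by group
      _ = ((g x : E)⁻¹ * (g y : E)⁻¹) * (s x * s y) := by
        rw [show s x * (g y : E)⁻¹ = ((g y)⁻¹ : π.ker) * s x from (hcen (g y)⁻¹ (s x)).symm]
        push_cast
        group
      _ = ((g y : E) * (g x : E))⁻¹ * (c x y : E) * s (x * y) := by rw [hcs, mul_inv_rev]; group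
      _ = ((c x y : E) * g (x * y))⁻¹ * (c x y : E) * s (x * y) := by rw [h, hcen (g y) (g x)]
      _ = _ := by group
  refine ⟨MonoidHom.mk' (fun x => (g x : E)⁻¹ * s x) fun x y => (hl x y).symm, MonoidHom.ext fun x => ?_,
    fun l' hl' => MonoidHom.ext fun x => ?_⟩
  · show π ((g x : E)⁻¹ * s x) = φ x
    rw [map_mul, map_inv, MonoidHom.mem_ker.1 (g x).2, inv_one, one_mul, hs]
  · let l : U →* E := MonoidHom.mk' (fun x => (g x : E)⁻¹ * s x) fun x y => (hl x y).symm
    have hz : ∀ y, l' y * (l y)⁻¹ ∈ π.ker := fun y => by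
      rw [MonoidHom.mem_ker, map_mul, map_inv, show π (l' y) = φ y from DFunLike.congr_fun hl' y,
        show π (l y) = φ y by
          show π ((g y : E)⁻¹ * s y) = φ y
          rw [map_mul, map_inv, MonoidHom.mem_ker.1 (g y).2, inv_one, one_mul, hs], mul_inv_cancel]
    let z : U →* π.ker := MonoidHom.mk' (fun y => ⟨l' y * (l y)⁻¹, hz y⟩) fun a b => Subtype.ext (by
      show l' (a * b) * (l (a * b))⁻¹ = l' a * (l a)⁻¹ * (l' b * (l b)⁻¹)
      rw [map_mul, map_mul, mul_inv_rev]
      have := hcen ⟨_, hz b⟩ (l a)⁻¹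
      simp only at this
      rw [mul_assoc (l' a) (l a)⁻¹, ← this]
      group)
    have hzx : z x = 1 := hN.1 (by
      show z x ^ Nat.card U = 1 ^ Nat.card U
      rw [← map_pow, pow_card_eq_one', map_one, one_pow])
    exact mul_inv_eq_one.1 (congrArg Subtype.val hzx)

/-- Powers of scalars give a bijection of the centre over a perfect field of characteristic `p`. -/
theorem center_pow_bijective {L : Type*} [Field L] (p : ℕ) [Fact p.Prime] [CharP L p] [PerfectRing L p] (n : ℕ) :
    Function.Bijective fun z : Subgroup.center (GL (Fin n) L) => z ^ p := by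
  rcases Nat.eq_zero_or_pos n with rfl | hn
  · exact ⟨fun a b _ => Subtype.ext (Subsingleton.elim _ _), fun b => ⟨b, Subtype.ext (Subsingleton.elim _ _)⟩⟩
  have : Nonempty (Fin n) := ⟨⟨0, hn⟩⟩
  have hb := (bijective_frobenius L p)
  constructor
  · intro a b hab
    obtain ⟨x, hx⟩ : (a : GL (Fin n) L) ∈ (Matrix.GeneralLinearGroup.scalar (Fin n)).range :=
      Matrix.GeneralLinearGroup.center_eq_range_scalar (n := Fin n) (R := L) ▸ a.2
    obtain ⟨y, hy⟩ : (b : GL (Fin n) L) ∈ (Matrix.GeneralLinearGroup.scalar (Fin n)).range :=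
      Matrix.GeneralLinearGroup.center_eq_range_scalar (n := Fin n) (R := L) ▸ b.2
    have h := congrArg Subtype.val hab
    simp only [SubmonoidClass.coe_pow, ← hx, ← hy, ← map_pow] at h
    have h2 := congrArg (fun g : GL (Fin n) L => (g : Matrix (Fin n) (Fin n) L) ⟨0, hn⟩ ⟨0, hn⟩) h
    simp [Matrix.GeneralLinearGroup.scalar, Matrix.diagonal_pow] at h2
    exact Subtype.ext (by rw [← hx, ← hy, Units.ext (hb.1 (by simpa [frobenius_def] using h2) : (x : L) = y)])
  · intro b
    obtain ⟨y, hy⟩ : (b : GL (Fin n) L) ∈ (Matrix.GeneralLinearGroup.scalar (Fin n)).range :=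
      Matrix.GeneralLinearGroup.center_eq_range_scalar (n := Fin n) (R := L) ▸ b.2
    obtain ⟨x, hx⟩ := hb.2 (y : L)
    rw [frobenius_def] at hx
    have hx0 : x ≠ 0 := fun e => y.ne_zero (by rw [← hx, e, zero_pow (Fact.out : p.Prime).ne_zero])
    refine ⟨⟨Matrix.GeneralLinearGroup.scalar (Fin n) (Units.mk0 x hx0), ?_⟩, Subtype.ext ?_⟩
    · rw [Matrix.GeneralLinearGroup.center_eq_range_scalar]; exact ⟨_, rfl⟩
    · show (Matrix.GeneralLinearGroup.scalar (Fin n) (Units.mk0 x hx0)) ^ p = (b : GL (Fin n) L)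
      rw [← map_pow, ← hy]
      exact congrArg _ (Units.ext (by simpa using hx))

section Positive

variable {D : ChevalleyDatum} {T : Tbl} {F : Type*} [Field F] (C : Cert D T) {f : ℕ → ℤ}

/-- The level of a basis vector for a linear functional on the roots. -/
def levF (D : ChevalleyDatum) (f : ℕ → ℤ) : D.Idx → ℤ
  | Sum.inl _ => 0
  | Sum.inr s => f s

/-- The matrices that raise the levels. -/
def Raise (D : ChevalleyDatum) (f : ℕ → ℤ) (M : Matrix D.Idx D.Idx F) : Prop :=
  ∀ i j, (M - 1) i j ≠ 0 → 1 ≤ levF D f i - levF D f j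

include C in
theorem lin_neg (hf : IsLin D T f) {r : ℕ} (hr : r < D.nroots) : f (T.neg r) = -f r := by
  rw [hf r r (T.neg r) (-1) 0 fun m hm => by rw [C.spec.cart_neg m hm r hr]; ring]
  ring

include C in
theorem raise_x (hf : IsLin D T f) {r : ℕ} (hr : r < D.nroots) (hpos : 0 < f r) (t : F) :
    Raise D f (D.x F r t) := by
  have h : 1 ≤ f r := hpos
  intro i j hij
  rcases i with a | w <;> rcases j with b | s <;> simp only [Matrix.sub_apply, levF] at hij ⊢
  · exact absurd (by simp [x_inl_inl C.spec hr, Matrix.one_apply]) hij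
  · rw [x_inl_inr C.spec hr, Matrix.one_apply_ne (by simp), sub_zero] at hij
    split_ifs at hij with hs
    · rw [hs, lin_neg C hf hr]; linarith
    · exact absurd rfl hij
  · rw [x_inr_inl C.spec hr, Matrix.one_apply_ne (by simp), sub_zero] at hij
    split_ifs at hij with hw
    · rw [hw]; linarith
    · exact absurd rfl hij
  · rw [x_inr_inr C.spec hr, Matrix.one_apply] at hij
    simp only [Sum.inr.injEq, Fin.ext_iff] at hij
    split_ifs at hij with h1 h2 h3 h4 h5 h6 h7 h8 <;>
      first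
        | exact absurd (sub_self _) hij
        | (exfalso; omega)
        | skip
    all_goals try simp only [sub_zero, zero_sub, sub_self, ne_eq, not_true, not_false_eq_true] at hij
    all_goals
      first
        | (rw [‹(s : ℕ) = T.neg r›, ‹(w : ℕ) = r›, lin_neg C hf hr]; linarith)
        | skip
    all_goals
      have key : chainVal (T.entry r s) 0 t w ≠ 0 := by
        intro e; apply hij; simp [e]
      obtain ⟨x, hx, hxne⟩ := List.exists_mem_ne_zero_of_sum_ne_zero key
      obtain ⟨q, hq, rfl⟩ := List.mem_map.1 hx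
      split_ifs at hxne with hqw
      · obtain ⟨-, hw⟩ := C.spec.entry_mem r hr s s.2 q.2 q.1 (List.mem_zipIdx_iff_getElem?.1 hq)
        rw [← hqw, hf r s _ ((q.2 : ℤ) + 1) 1 fun m hm => by rw [hw m hm]; ring]
        nlinarith [(Int.natCast_nonneg q.2 : (0 : ℤ) ≤ (q.2 : ℤ))]
      · exact absurd rfl hxne

theorem raise_mul {A B : Matrix D.Idx D.Idx F} (hA : Raise D f A) (hB : Raise D f B) : Raise D f (A * B) := by
  intro i j hij
  have e : A * B - 1 = (A - 1) * (B - 1) + (A - 1) + (B - 1) := by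
    simp only [sub_mul, mul_sub, mul_one, one_mul]; abel
  rw [e, Matrix.add_apply, Matrix.add_apply] at hij
  by_cases h1 : (A - 1) i j = 0
  · by_cases h2 : (B - 1) i j = 0
    · rw [h1, h2, add_zero, add_zero, Matrix.mul_apply] at hij
      obtain ⟨m, -, hm⟩ := Finset.exists_ne_zero_of_sum_ne_zero hij
      have := hA i m (left_ne_zero_of_mul hm)
      have := hB m j (right_ne_zero_of_mul hm)
      linarith
    · exact hB i j h2
  · exact hA i j h1

/-- The group generated by the root elements on which the functional is positive. -/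
def posGen (F : Type*) [Field F] (f : ℕ → ℤ) : Subgroup ↥(D.group F) :=
  Subgroup.closure {x | ∃ r t, r < D.nroots ∧ 0 < f r ∧ ((x : GL D.Idx F) : Matrix D.Idx D.Idx F) = D.x F r t}

include C in
theorem isPGroup_posGen (hf : IsLin D T f) (p : ℕ) [Fact p.Prime] [CharP F p] :
    IsPGroup p ↥(posGen (D := D) F f) := by
  have hgen : ∀ x ∈ posGen (D := D) F f, Raise D f ((x : GL D.Idx F) : Matrix D.Idx D.Idx F) ∧
      Raise D f (((x⁻¹ : ↥(D.group F)) : GL D.Idx F) : Matrix D.Idx D.Idx F) := by
    intro x hx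
    induction hx using Subgroup.closure_induction with
    | mem x hx =>
      obtain ⟨r, t, hr, hpos, e⟩ := hx
      refine ⟨e ▸ raise_x C hf hr hpos t, ?_⟩
      rw [Subgroup.coe_inv, eq_xg C e, xg_inv, coe_xg]
      exact raise_x C hf hr hpos (-t)
    | one => simp [Raise]
    | mul a b _ _ ha hb =>
      refine ⟨?_, ?_⟩
      · rw [Subgroup.coe_mul, Units.val_mul]; exact raise_mul ha.1 hb.1
      · rw [mul_inv_rev, Subgroup.coe_mul, Units.val_mul]; exact raise_mul hb.2 ha.2
    | inv a _ ha => exact ⟨ha.2, by rw [inv_inv]; exact ha.1⟩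
  rintro ⟨x, hx⟩
  set N : Matrix D.Idx D.Idx F := ((x : GL D.Idx F) : Matrix D.Idx D.Idx F) - 1 with hN
  have hstep : ∀ k : ℕ, ∀ i j, (N ^ k) i j ≠ 0 → (k : ℤ) ≤ levF D f i - levF D f j := by
    intro k
    induction k with
    | zero =>
      intro i j h
      rw [pow_zero, Matrix.one_apply] at h
      split_ifs at h with e
      · simp [e]
      · exact absurd rfl h
    | succ k ih =>
      intro i j h
      rw [pow_succ, Matrix.mul_apply] at h
      obtain ⟨m, -, hm⟩ := Finset.exists_ne_zero_of_sum_ne_zero h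
      have := ih i m (left_ne_zero_of_mul hm)
      have := (hgen x hx).1 m j (right_ne_zero_of_mul hm)
      push_cast
      linarith
  let B : ℤ := ∑ i : D.Idx, |levF D f i|
  obtain ⟨k, hk⟩ : ∃ k : ℕ, 2 * B < (p ^ k : ℕ) := ⟨(2 * B).toNat, by
    have := Nat.lt_pow_self (n := (2 * B).toNat) (Fact.out : p.Prime).one_lt
    omega⟩
  refine ⟨k, Subtype.ext (Subtype.ext (Units.ext ?_))⟩
  have hzero : N ^ p ^ k = 0 := by
    ext i j
    by_contra h
    have h1 := hstep _ i j h
    have hi : |levF D f i| ≤ B :=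
      Finset.single_le_sum (f := fun i : D.Idx => |levF D f i|) (fun y _ => abs_nonneg _) (Finset.mem_univ i)
    have hj : |levF D f j| ≤ B :=
      Finset.single_le_sum (f := fun i : D.Idx => |levF D f i|) (fun y _ => abs_nonneg _) (Finset.mem_univ j)
    rw [abs_le] at hi hj
    omega
  show (((x ^ p ^ k : ↥(D.group F)) : GL D.Idx F) : Matrix D.Idx D.Idx F) = 1
  rw [Subgroup.coe_pow, Units.val_pow_eq_pow_val, show ((x : GL D.Idx F) : Matrix D.Idx D.Idx F) = N + 1 by rw [hN]; abel]
  have : Nonempty D.Idx ∨ IsEmpty D.Idx := (isEmpty_or_nonempty _).symm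
  rcases this with h | h
  · rw [add_pow_char_pow_of_commute p k (Commute.one_right N), hzero, one_pow, zero_add]
  · exact Subsingleton.elim _ _

end Positive

section Lift

variable {D : ChevalleyDatum} {T : Tbl} {K : Type*} [Field K]

theorem exists_pos_pair {C : Cert D T} (Kc : FullCert D T) {r s : ℕ} (hr : r < D.nroots) (hs : s < D.nroots)
    (h1 : s ≠ r) (h2 : s ≠ T.neg r) : ∃ f, IsLin D T f ∧ 0 < f r ∧ 0 < f s := by
  obtain ⟨f₁, hf₁, a1, a2⟩ := exists_sep (C := C) Kc r hr s hs h1 h2
  obtain ⟨f₂, hf₂, b1, b2⟩ := exists_sep (C := C) Kc s hs r hr h1.symm (fun e => h2 (by rw [e, C.spec.neg_neg s hs]))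
  exact ⟨fun x => f₁ x + f₂ x, fun a b q i j h => by simp only [hf₁ a b q i j h, hf₂ a b q i j h]; ring,
    by simp only [a1]; linarith, by simp only [b1]; linarith⟩

/-- Lifting through a central kernel with unique roots of order the characteristic. -/
theorem exists_lift_of_roots [Finite K] (hD : D ∈ [chevG2, chevB2, chevD4, chevF4, chevE6, chevE7, chevE8])
    (p : ℕ) [Fact p.Prime] [CharP K p] {E Q : Type*} [Group E] [Group Q] (π : E →* Q)
    (hπ : Function.Surjective π) (hc : π.ker ≤ Subgroup.center E)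
    (hroot : Function.Bijective fun z : π.ker => z ^ p)
    (θ : D.SteinbergCover K →* ↥(D.group K))
    (hθ : ∀ (r : ℕ) (t : K), r < D.nroots → ((θ (D.scGen K r t) : GL D.Idx K) : Matrix D.Idx D.Idx K) = D.x K r t)
    (φ : ↥(D.group K) →* Q) : ∃ ψ : D.SteinbergCover K →* E, π.comp ψ = φ.comp θ := by
  classical
  obtain ⟨T, Kc, -, -, -⟩ := exists_liftCert hD
  let C := Kc.comm.cert
  have hlift : ∀ f, IsLin D T f → ∃! l : ↥(posGen (D := D) K f) →* E, π.comp l = φ.comp (posGen (D := D) K f).subtype :=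
    fun f hf => existsUnique_hom_lift (isPGroup_posGen C hf p) π hc hroot _ fun x => hπ _
  let xG : ℕ → K → ↥(D.group K) := fun r t => ⟨xg C r t, xg_mem_group C r t⟩
  let R : ℕ → Subgroup ↥(D.group K) := fun r => Subgroup.closure (Set.range (xG r))
  have hRle : ∀ f r, r < D.nroots → 0 < f r → R r ≤ posGen (D := D) K f := fun f r hr hp =>
    Subgroup.closure_mono (by rintro _ ⟨t, rfl⟩; exact ⟨r, t, hr, hp, coe_xg C r t⟩)
  have hone : ∀ r, r < D.nroots → ∃ f, IsLin D T f ∧ 0 < f r := fun r hr => by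
    rcases Nat.lt_or_ge (2 * r) D.nroots with h | h
    · exact ⟨fun x => -fun' C x, fun a b q i j e => by simp only [fun'_linear C e]; ring, by
        have := fun'_neg' C hr h; simp only; omega⟩
    · exact ⟨fun' C, fun a b q i j e => fun'_linear C e, fun'_pos C hr h⟩
  have huniq : ∀ r, r < D.nroots → ∃! l : ↥(R r) →* E, π.comp l = φ.comp (R r).subtype := fun r hr => by
    obtain ⟨f, hf, hp⟩ := hone r hr
    exact existsUnique_hom_lift ((isPGroup_posGen C hf p).to_le (hRle f r hr hp)) π hc hroot _ fun x => hπ _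
  let X : ℕ → K → E := fun r t =>
    if hr : r < D.nroots then (huniq r hr).choose ⟨xG r t, Subgroup.subset_closure ⟨t, rfl⟩⟩ else 1
  have hX : ∀ f (hf : IsLin D T f) r t (hr : r < D.nroots) (hp : 0 < f r),
      X r t = (hlift f hf).choose ⟨xG r t, hRle f r hr hp (Subgroup.subset_closure ⟨t, rfl⟩)⟩ := by
    intro f hf r t hr hp
    have e := (huniq r hr).choose_spec.2 ((hlift f hf).choose.comp (Subgroup.inclusion (hRle f r hr hp)))
      (MonoidHom.ext fun x => DFunLike.congr_fun (hlift f hf).choose_spec.1 (Subgroup.inclusion (hRle f r hr hp) x))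
    simp only [X, dif_pos hr]
    rw [← e]
    rfl
  have hgen : ∀ r t, θ (D.scGen K r t) = xG r t := fun r t => by
    by_cases hr : r < D.nroots
    · exact Subtype.ext (eq_xg C (hθ r t hr))
    · refine Subtype.ext ?_
      rw [show D.scGen K r t = 1 by rw [ChevalleyDatum.scGen, ChevalleyDatum.stX, dif_neg hr, map_one], map_one]
      exact (xg_out C hr t).symm
  let g : Fin D.nroots × K → E := fun a => X a.1 a.2
  have hstX : ∀ r t, FreeGroup.lift g (D.stX r t) = X r t := fun r t => by
    rw [ChevalleyDatum.stX]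
    split_ifs with h
    · exact FreeGroup.lift_apply_of
    · simp [X, dif_neg h]
  have hθw : ∀ w, θ (PresentedGroup.mk (D.steinbergRelsAB K) (D.stWord w)) = (w.map fun a => xG a.1 a.2).prod := fun w => by
    rw [hom_stWord, map_list_prod, List.map_map]
    exact congrArg List.prod (List.map_congr_left fun a _ => hgen a.1 a.2)
  have hrel : ∀ x ∈ D.steinbergRelsAB K, FreeGroup.lift g x = 1 := by
    rintro x (⟨r, t₁, t₂, hr, rfl⟩ | ⟨r, s, t, u, hr, hs, h1, h2, rfl⟩)
    · obtain ⟨f, hf, hp⟩ := hone r hr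
      rw [map_mul, map_mul, map_inv, hstX, hstX, hstX, hX f hf r t₁ hr hp, hX f hf r t₂ hr hp,
        hX f hf r _ hr hp, ← map_mul, ← map_inv, ← map_mul]
      refine (congrArg _ (Subtype.ext ?_)).trans (map_one _)
      show xG r t₁ * xG r t₂ * (xG r (t₁ + t₂))⁻¹ = 1
      rw [mul_inv_eq_one]
      exact Subtype.ext (xg_add C r t₁ t₂)
    · rw [C.spec.shape.neg_eq r hr] at h2
      obtain ⟨f, hf, hpr, hps⟩ := exists_pos_pair (C := C) Kc hr hs h1 h2
      set w := D.commWord K r s t u with hw
      have hwpos : ∀ a ∈ w, a.1 < D.nroots ∧ 0 < f a.1 := by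
        intro a ha
        rw [hw, ChevalleyDatum.commWord, commTerms_eq C hr hs] at ha
        obtain ⟨c, hc', rfl⟩ := List.mem_map.1 ha
        obtain ⟨e1, e2, e3, e4⟩ := term_level C hf hr hs hc'
        refine ⟨e1, ?_⟩
        show 0 < f c.1
        rw [e2]; nlinarith
      have hmem : ∀ a ∈ w, xG a.1 a.2 ∈ posGen (D := D) K f := fun a ha =>
        hRle f a.1 (hwpos a ha).1 (hwpos a ha).2 (Subgroup.subset_closure ⟨a.2, rfl⟩)
      let W : List ↥(posGen (D := D) K f) := w.attach.map fun a => ⟨xG a.1.1 a.1.2, hmem a.1 a.2⟩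
      have hWX : (w.map fun a => X a.1 a.2).prod = (hlift f hf).choose W.prod := by
        rw [map_list_prod, List.map_map, ← List.attach_map_val (l := w) (f := fun a => X a.1 a.2)]
        refine congrArg List.prod (List.map_congr_left fun a _ => ?_)
        exact hX f hf a.1.1 a.1.2 (hwpos a.1 a.2).1 (hwpos a.1 a.2).2
      have hWv : ((W.prod : ↥(posGen (D := D) K f)) : ↥(D.group K)) = (w.map fun a => xG a.1 a.2).prod := by
        rw [SubmonoidClass.coe_list_prod, List.map_map, ← List.attach_map_val (l := w) (f := fun a => xG a.1 a.2)]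
        rfl
      simp only [map_mul, map_inv, hstX, hom_stWord]
      rw [hWX, hX f hf r t hr hpr, hX f hf s u hs hps, ← map_inv, ← map_inv, ← map_inv, ← map_mul, ← map_mul,
        ← map_mul, ← map_mul]
      refine (congrArg _ (Subtype.ext ?_)).trans (map_one _)
      simp only [Subgroup.coe_mul, Subgroup.coe_inv, Subgroup.coe_one, hWv]
      have h := PresentedGroup.one_of_mem (rels := D.steinbergRelsAB K)
        (Or.inr ⟨r, s, t, u, hr, hs, h1, by rwa [C.spec.shape.neg_eq r hr], rfl⟩)
      have h' := congrArg θ h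
      simp only [map_mul, map_inv, map_one, ← hw, hθw] at h'
      rw [show PresentedGroup.mk (D.steinbergRelsAB K) (D.stX s u) = D.scGen K s u from rfl,
        show PresentedGroup.mk (D.steinbergRelsAB K) (D.stX r t) = D.scGen K r t from rfl, hgen, hgen] at h'
      exact h'
  refine ⟨PresentedGroup.toGroup hrel, PresentedGroup.ext fun a => ?_⟩
  rw [MonoidHom.comp_apply, MonoidHom.comp_apply, PresentedGroup.toGroup.of]
  have hof : PresentedGroup.of a = D.scGen K a.1 a.2 := by
    rw [ChevalleyDatum.scGen, ChevalleyDatum.stX, dif_pos a.1.2]; rfl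
  rw [hof, hgen]
  show π (X a.1 a.2) = _
  obtain ⟨f, hf, hp⟩ := hone a.1 a.1.2
  rw [hX f hf a.1 a.2 a.1.2 hp]
  exact DFunLike.congr_fun (hlift f hf).choose_spec.1 _

theorem projective_lift (hD : D ∈ [chevG2, chevB2, chevD4, chevF4, chevE6, chevE7, chevE8])
    (hK : D ∈ [chevB2, chevG2] → ∃ x : K, x ≠ 0 ∧ x ≠ 1)
    (θ : D.SteinbergCover K →* ↥(D.group K))
    (hθ : ∀ (r : ℕ) (t : K), r < D.nroots → ((θ (D.scGen K r t) : GL D.Idx K) : Matrix D.Idx D.Idx K) = D.x K r t)
    {L : Type*} [Field L] (hL : ringChar L = ringChar K) {n : ℕ}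
    (φ : ↥(D.group K) →* GL (Fin n) L ⧸ Subgroup.center (GL (Fin n) L)) :
    ∃! ψ : D.SteinbergCover K →* GL (Fin n) L,
      (QuotientGroup.mk' (Subgroup.center (GL (Fin n) L))).comp ψ = φ.comp θ := by
  classical
  have hperf := steinbergCover_perfect (F := K) hD hK
  refine existsUnique_of_exists_of_unique ?_ fun ψ₁ ψ₂ h₁ h₂ => eq_of_central_diff _ _ (fun x => ?_) hperf
  swap
  · rw [← QuotientGroup.eq]
    exact (DFunLike.congr_fun h₁ x).trans (DFunLike.congr_fun h₂ x).symm
  by_cases hbig : ∃ s : Finset K, 4 < s.card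
  · exact (cover_lift hbig hD (QuotientGroup.mk' _) (QuotientGroup.mk'_surjective _)
      (by rw [QuotientGroup.ker_mk']) (φ.comp θ)).exists
  push Not at hbig
  have : Finite K := by
    by_contra h
    have : Infinite K := not_finite_iff_infinite.1 h
    obtain ⟨s, hs⟩ := Infinite.exists_subset_card_eq K 5
    have := hbig s
    omega
  obtain ⟨p, hp⟩ := CharP.exists K
  have : Fact p.Prime := ⟨CharP.char_is_prime K p⟩
  have hLp : CharP L p := by
    have : CharP L (ringChar L) := ringChar.charP L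
    rwa [hL, ringChar.eq K p] at this
  have : CharP (AlgebraicClosure L) p :=
    charP_of_injective_algebraMap (algebraMap L (AlgebraicClosure L)).injective p
  let ι : GL (Fin n) L →* GL (Fin n) (AlgebraicClosure L) :=
    Matrix.GeneralLinearGroup.map (algebraMap L (AlgebraicClosure L))
  have hι : Function.Injective ι := fun a b h => Units.ext (Matrix.map_injective
    (algebraMap L (AlgebraicClosure L)).injective (congrArg Units.val h))
  have hιc : Subgroup.center (GL (Fin n) L) ≤ (Subgroup.center (GL (Fin n) (AlgebraicClosure L))).comap ι := by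
    intro z hz
    rw [Subgroup.mem_comap, Matrix.GeneralLinearGroup.mem_center_iff_val_mem_range_scalar]
    obtain ⟨a, ha⟩ := Matrix.GeneralLinearGroup.mem_center_iff_val_mem_range_scalar.1 hz
    refine ⟨algebraMap L _ a, ?_⟩
    show _ = ((z : Matrix (Fin n) (Fin n) L).map (algebraMap L (AlgebraicClosure L)))
    rw [← ha]
    ext i j
    simp [Matrix.scalar_apply, Matrix.diagonal_apply, apply_ite (algebraMap L (AlgebraicClosure L))]
  obtain ⟨ψ', hψ'⟩ := exists_lift_of_roots hD p (QuotientGroup.mk' (Subgroup.center (GL (Fin n) (AlgebraicClosure L))))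
    (QuotientGroup.mk'_surjective _) (by rw [QuotientGroup.ker_mk'])
    (by
      rw [QuotientGroup.ker_mk']
      exact center_pow_bijective p n) θ hθ ((QuotientGroup.map _ _ ι hιc).comp φ)
  have hlift : ∀ x, ∃ a, QuotientGroup.mk' _ a = φ (θ x) ∧ (ι a)⁻¹ * ψ' x ∈ Subgroup.center (GL (Fin n) (AlgebraicClosure L)) := by
    intro x
    obtain ⟨a, ha⟩ := QuotientGroup.mk'_surjective _ (φ (θ x))
    refine ⟨a, ha, ?_⟩
    rw [← QuotientGroup.eq]
    have e := DFunLike.congr_fun hψ' x
    simp only [MonoidHom.comp_apply, ← ha] at e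
    exact e.symm
  have hran : ∀ x, ψ' x ∈ ι.range := by
    have h : commutator (D.SteinbergCover K) ≤ ι.range.comap ψ' := by
      rw [commutator_eq_closure, Subgroup.closure_le]
      rintro _ ⟨x, y, rfl⟩
      obtain ⟨a, -, ha⟩ := hlift x
      obtain ⟨b, -, hb⟩ := hlift y
      refine ⟨⁅a, b⁆, ?_⟩
      rw [map_commutatorElement, map_commutatorElement]
      have ea : ψ' x = ι a * ((ι a)⁻¹ * ψ' x) := by group
      have eb : ψ' y = ι b * ((ι b)⁻¹ * ψ' y) := by group
      rw [ea, eb, commutatorElement_def, commutatorElement_def]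
      have hca := Subgroup.mem_center_iff.1 ha
      have hcb := Subgroup.mem_center_iff.1 hb
      generalize (ι a)⁻¹ * ψ' x = z₁ at hca
      generalize (ι b)⁻¹ * ψ' y = z₂ at hcb
      rw [mul_inv_rev, mul_inv_rev]
      calc ι a * ι b * (ι a)⁻¹ * (ι b)⁻¹ = ι a * ι b * (z₁ * z₁⁻¹) * (ι a)⁻¹ * (z₂ * z₂⁻¹) * (ι b)⁻¹ := by group
        _ = ι a * (ι b * z₁) * z₁⁻¹ * ((ι a)⁻¹ * z₂) * z₂⁻¹ * (ι b)⁻¹ := by group
        _ = ι a * (z₁ * ι b) * z₁⁻¹ * (z₂ * (ι a)⁻¹) * z₂⁻¹ * (ι b)⁻¹ := by rw [hca, hcb]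
        _ = ι a * z₁ * (ι b * (z₁⁻¹ * z₂)) * (ι a)⁻¹ * z₂⁻¹ * (ι b)⁻¹ := by group
        _ = ι a * z₁ * (ι b * (z₂ * z₁⁻¹)) * (ι a)⁻¹ * z₂⁻¹ * (ι b)⁻¹ := by rw [← hcb z₁⁻¹]
        _ = _ := by group
    intro x
    exact h (hperf ▸ Subgroup.mem_top x)
  refine ⟨(MonoidHom.ofInjective hι).symm.toMonoidHom.comp (ψ'.codRestrict ι.range hran), MonoidHom.ext fun x => ?_⟩
  set a' := ((MonoidHom.ofInjective hι).symm ⟨ψ' x, hran x⟩) with ha'
  show QuotientGroup.mk' _ a' = φ (θ x)
  have e : ι a' = ψ' x := congrArg Subtype.val ((MonoidHom.ofInjective hι).apply_symm_apply ⟨ψ' x, hran x⟩)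
  obtain ⟨a, ha, hd⟩ := hlift x
  rw [← ha, QuotientGroup.mk'_apply, QuotientGroup.mk'_apply, eq_comm, QuotientGroup.eq]
  rw [← e, ← map_inv, ← map_mul, Subgroup.mem_center_iff] at hd
  exact Subgroup.mem_center_iff.2 fun g => hι ((map_mul _ _ _).trans ((hd _).trans (map_mul _ _ _).symm))

end Lift

end Cfsg.Lib.Chev.ProjLift
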