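import Mathlib
import Cfsg.Agent.Lib.Chev.SLTwo

/-!
Fixed vectors of subgroups in representations, and the rank one computation behind the uniqueness of the
Steinberg character among the characters of defect zero.
-/

set_option autoImplicit false

namespace Cfsg.Lib.Chev

open Module

section Fixed

variable {G : Type*} [Group G] {V : Type*} [AddCommGroup V] [Module ℂ V] (ρ : Representation ℂ G V)

/-- The vectors fixed by a subgroup. -/
noncomputable def fixSub (S : Subgroup G) : Submodule ℂ V := Representation.invariants (ρ.comp S.subtype)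

theorem mem_fixSub {S : Subgroup G} {v : V} : v ∈ fixSub ρ S ↔ ∀ g ∈ S, ρ g v = v :=
  ⟨fun h g hg => h ⟨g, hg⟩, fun h g => h g g.2⟩

theorem fixSub_anti {S S' : Subgroup G} (h : S ≤ S') : fixSub ρ S' ≤ fixSub ρ S :=
  fun _ hv => (mem_fixSub ρ).2 fun g hg => (mem_fixSub ρ).1 hv g (h hg)

theorem apply_mul (g h : G) (v : V) : ρ (g * h) v = ρ g (ρ h v) := by rw [map_mul]; rfl

theorem fixSub_conj {S : Subgroup G} {g : G} (hg : ∀ s ∈ S, g⁻¹ * s * g ∈ S) {v : V} (hv : v ∈ fixSub ρ S) :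
    ρ g v ∈ fixSub ρ S := (mem_fixSub ρ).2 fun s hs => by
  rw [← apply_mul, show s * g = g * (g⁻¹ * s * g) by group, apply_mul, (mem_fixSub ρ).1 hv _ (hg s hs)]

/-- The sum over a subgroup. -/
noncomputable def sumOver (S : Subgroup G) [Fintype ↥S] : V →ₗ[ℂ] V := ∑ s : ↥S, ρ (s : G)

theorem sumOver_apply (S : Subgroup G) [Fintype ↥S] (v : V) : sumOver ρ S v = ∑ s : ↥S, ρ (s : G) v := by
  rw [sumOver, LinearMap.sum_apply]

theorem sumOver_mem (S : Subgroup G) [Fintype ↥S] (v : V) : sumOver ρ S v ∈ fixSub ρ S := (mem_fixSub ρ).2 fun g hg => by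
  rw [sumOver_apply, map_sum]
  exact Fintype.sum_equiv (Equiv.mulLeft (⟨g, hg⟩ : ↥S)) _ _ fun s => by
    rw [Equiv.coe_mulLeft, Subgroup.coe_mul, apply_mul]

theorem sumOver_fixed (S : Subgroup G) [Fintype ↥S] {v : V} (hv : v ∈ fixSub ρ S) :
    sumOver ρ S v = (Nat.card ↥S : ℂ) • v := by
  rw [sumOver_apply, Finset.sum_congr rfl fun (s : ↥S) _ => (mem_fixSub ρ).1 hv _ s.2, Finset.sum_const,
    Finset.card_univ, ← Nat.card_eq_fintype_card, Nat.cast_smul_eq_nsmul]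

theorem sumOver_comm (S : Subgroup G) [Fintype ↥S] {g : G} (hg : ∀ s ∈ S, g * s * g⁻¹ ∈ S)
    (hg' : ∀ s ∈ S, g⁻¹ * s * g ∈ S) (v : V) : sumOver ρ S (ρ g v) = ρ g (sumOver ρ S v) := by
  rw [sumOver_apply, sumOver_apply, map_sum]
  let e : ↥S ≃ ↥S :=
    { toFun := fun s => ⟨g⁻¹ * s * g, hg' s s.2⟩
      invFun := fun s => ⟨g * s * g⁻¹, hg s s.2⟩
      left_inv := fun s => Subtype.ext (by group)
      right_inv := fun s => Subtype.ext (by group) }
  refine Fintype.sum_equiv e _ _ fun s => ?_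
  rw [← apply_mul, ← apply_mul, show g * ((e s : ↥S) : G) = (s : G) * g by simp only [e, Equiv.coe_fn_mk]; group]

theorem card_mul_finrank_fixSub [FiniteDimensional ℂ V] (S : Subgroup G) [Fintype ↥S] :
    (Nat.card ↥S : ℂ) * (finrank ℂ ↥(fixSub ρ S) : ℂ) = ∑ s : ↥S, ρ.character (s : G) := by
  let : Invertible (Nat.card ↥S : ℂ) := invertibleOfNonzero (Nat.cast_ne_zero.2 Nat.card_pos.ne')
  have h := Representation.card_inv_mul_sum_char_eq_finrank (ρ.comp S.subtype)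
  rw [show finrank ℂ ↥(fixSub ρ S) = finrank ℂ ↥(Representation.invariants (ρ.comp S.subtype)) from rfl, ← h,
    mul_inv_cancel_left₀ (Nat.cast_ne_zero.2 Nat.card_pos.ne')]
  rfl

end Fixed

namespace SLTwoRel

variable {F : Type*} [Field F] {G : Type*} [Group G] (R : SLTwoRel F G)

theorem n_conj_h {v : F} (hv : v ≠ 0) : R.n 1 * R.h v = R.h v⁻¹ * R.n 1 := by
  have h1 : R.h v⁻¹ = R.n 1 * R.h (-v) * R.n 1 := by
    have e : (R.h v * R.n 1)⁻¹ = R.h (-v) * R.n 1 := by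
      rw [R.h_n_one hv, R.n_inv hv, R.h_n_one (neg_ne_zero.2 hv)]
    have e' : (R.h v)⁻¹ = R.h v⁻¹ := inv_eq_of_mul_eq_one_right (by rw [R.h_mul _ _ hv (inv_ne_zero hv), mul_inv_cancel₀ hv, R.h_one])
    rw [← e', show (R.h v)⁻¹ = R.n 1 * (R.h v * R.n 1)⁻¹ by group, e, mul_assoc]
  rw [h1, mul_assoc, R.n_one_sq, mul_assoc, R.h_mul _ _ (neg_ne_zero.2 hv) (neg_ne_zero.2 one_ne_zero), neg_mul_neg,
    mul_one]

variable {V : Type*} [AddCommGroup V] [Module ℂ V] [FiniteDimensional ℂ V]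
  (ρ : Representation ℂ G V) [Fintype F]

/-- The computation in rank one: the torus acts trivially and the Hecke operator is `-1`. -/
theorem steinberg_type (M W : Submodule ℂ V) (hMW : M ≤ W)
    (hW : finrank ℂ ↥W = Fintype.card F * finrank ℂ ↥M) (hxM : ∀ a, ∀ v ∈ M, ρ (R.x a) v = v)
    (hfix : ∀ v ∈ W, (∀ a, ρ (R.x a) v = v) → v ∈ M) (hh : ∀ t, t ≠ 0 → ∀ v ∈ M, ρ (R.h t) v ∈ M)
    (hxnW : ∀ a, ∀ v ∈ M, ρ (R.x a * R.n 1) v ∈ W)
    (hspan : W ≤ M ⊔ ⨆ a, M.map (ρ (R.x a * R.n 1))) {c : V} (hc : c ∈ M) :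
    (∀ t, t ≠ 0 → ρ (R.h t) c = c) ∧ ∑ a, ρ (R.x a * R.n 1) c = -c := by
  classical
  let Φ : (F → ↥M) →ₗ[ℂ] V := ∑ a, (ρ (R.x a * R.n 1)).comp (M.subtype.comp (LinearMap.proj a))
  have hΦ : ∀ f, Φ f = ∑ a, ρ (R.x a * R.n 1) (f a : V) := fun f => by simp [Φ, LinearMap.sum_apply]
  let ψ : (F → ↥M) →ₗ[ℂ] V ⧸ M := M.mkQ.comp Φ
  have hconst : ∀ d : ↥M, Φ (fun _ => d) ∈ M := fun d => by
    rw [hΦ]
    refine hfix _ (Submodule.sum_mem _ fun a _ => hxnW a _ d.2) fun b => ?_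
    rw [map_sum]
    exact Fintype.sum_equiv (Equiv.addLeft b) _ _ fun a => by
      rw [Equiv.coe_addLeft, ← apply_mul, ← mul_assoc, R.x_add]
  let cst : ↥M →ₗ[ℂ] (F → ↥M) := LinearMap.pi fun _ => LinearMap.id
  have hcst : Function.Injective cst := fun a b h => congrFun h 0
  have hrange : LinearMap.range ψ = W.map M.mkQ := by
    refine le_antisymm ?_ ?_
    · rintro _ ⟨f, rfl⟩
      exact ⟨Φ f, by rw [hΦ]; exact Submodule.sum_mem _ fun a _ => hxnW a _ (f a).2, rfl⟩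
    · refine (Submodule.map_mono hspan).trans ?_
      rw [Submodule.map_sup, Submodule.map_iSup, show M.map M.mkQ = ⊥ by
        rw [← LinearMap.le_ker_iff_map, Submodule.ker_mkQ], bot_sup_eq]
      refine iSup_le fun a => ?_
      rintro _ ⟨_, ⟨v, hv, rfl⟩, rfl⟩
      refine ⟨Pi.single a ⟨v, hv⟩, congrArg M.mkQ ?_⟩
      rw [hΦ, Finset.sum_eq_single a (fun b _ hb => by rw [Pi.single_eq_of_ne hb]; simp) (by simp), Pi.single_eq_same]
  have hker : LinearMap.ker ψ = LinearMap.range cst := by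
    refine (Submodule.eq_of_le_of_finrank_le ?_ ?_).symm
    · rintro _ ⟨d, rfl⟩
      exact (Submodule.Quotient.mk_eq_zero M).2 (hconst d)
    · have h1 := ψ.finrank_range_add_finrank_ker
      have h2 := (M.mkQ.comp W.subtype).finrank_range_add_finrank_ker
      rw [LinearMap.range_comp, Submodule.range_subtype, LinearMap.ker_comp, Submodule.ker_mkQ,
        (Submodule.comapSubtypeEquivOfLe hMW).finrank_eq, hW] at h2
      rw [hrange, Module.finrank_pi_fintype, Finset.sum_const, Finset.card_univ, smul_eq_mul] at h1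
      rw [LinearMap.finrank_range_of_inj hcst]
      omega
  let d : ↥M := ⟨c, hc⟩
  set e := Φ (fun _ => d) with he
  have heM : e ∈ M := hconst d
  let f : F → ↥M := fun a => if ha : a = 0 then -⟨e, heM⟩ else ⟨ρ (R.h a⁻¹) c, hh _ (inv_ne_zero ha) c hc⟩
  have h0 : ρ (R.n 1 * R.n 1) c ∈ M := by rw [R.n_one_sq]; exact hh _ (neg_ne_zero.2 one_ne_zero) c hc
  have hterm : ∀ t : F, t ≠ 0 → ρ (R.n 1 * (R.x t * R.n 1)) c = ρ (R.x (-t⁻¹) * R.n 1) (ρ (R.h (-t)) c) := by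
    intro t ht
    have e1 : R.n 1 * (R.x t * R.n 1) = R.x (-t⁻¹) * R.n t⁻¹ * (R.x (-t⁻¹) * (R.n 1 * R.n 1)) := by
      have := R.y_eq (neg_ne_zero.2 ht)
      rw [inv_neg, neg_neg, ← R.n_conj] at this
      calc R.n 1 * (R.x t * R.n 1) = R.n 1 * R.x t * (R.n 1)⁻¹ * (R.n 1 * R.n 1) := by group
        _ = _ := by rw [this]; group
    have e2 : R.n t⁻¹ = R.n 1 * R.h t := by rw [R.n_conj_h ht, R.h_n_one (inv_ne_zero ht)]
    rw [e1, e2, R.n_one_sq, apply_mul, apply_mul _ (R.x (-t⁻¹)) (R.h (-1)),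
      hxM _ _ (hh _ (neg_ne_zero.2 one_ne_zero) c hc), ← apply_mul, ← apply_mul]
    congr 2
    rw [mul_assoc, mul_assoc, mul_assoc, R.h_mul _ _ ht (neg_ne_zero.2 one_ne_zero), mul_neg_one]
  have hf : ψ f = 0 := by
    refine (Submodule.Quotient.mk_eq_zero M).2 ?_
    have key : Φ f = -ρ (R.n 1 * R.n 1) c := by
      rw [hΦ, ← Finset.add_sum_erase _ _ (Finset.mem_univ (0 : F))]
      have hre : ∑ a ∈ Finset.univ.erase (0 : F), ρ (R.x a * R.n 1) (f a : V) =
          ∑ t ∈ Finset.univ.erase (0 : F), ρ (R.n 1 * (R.x t * R.n 1)) c := by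
        refine Finset.sum_nbij' (fun a => -a⁻¹) (fun t => -t⁻¹) (fun a ha => by simpa using ha)
          (fun t ht => by simpa using ht) (fun a _ => by simp [inv_neg]) (fun t _ => by simp [inv_neg]) fun a ha => ?_
        have ha' : a ≠ 0 := by simpa using ha
        rw [hterm _ (neg_ne_zero.2 (inv_ne_zero ha'))]
        simp [f, ha', inv_neg]
      have h00 : ρ (R.x 0 * R.n 1) (f 0 : V) = -(ρ (R.n 1) e) := by simp [f, R.x_zero]
      rw [hre, h00, he, hΦ, map_sum, ← Finset.add_sum_erase Finset.univ (fun a => ρ (R.n 1) (ρ (R.x a * R.n 1) c))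
        (Finset.mem_univ (0 : F))]
      simp only [R.x_zero, one_mul, ← apply_mul, neg_add_rev]
      abel
    rw [key]
    exact neg_mem h0
  rw [← LinearMap.mem_ker, hker] at hf
  obtain ⟨d', hd'⟩ := hf
  have hall : ∀ a, f a = d' := fun a => (congrFun hd' a).symm
  have h1 : ρ (R.h (1 : F)) c = c := by rw [R.h_one]; simp
  have hcd : (d' : V) = c := by
    rw [← hall 1]; simp [f, R.h_one]
  refine ⟨fun t ht => ?_, ?_⟩
  · have := congrArg Subtype.val (hall t⁻¹)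
    rw [hcd] at this
    simpa [f, ht] using this
  · have := congrArg Subtype.val (hall 0)
    rw [hcd] at this
    simp only [f, dite_true, NegMemClass.coe_neg] at this
    rw [← neg_eq_iff_eq_neg]
    simpa [he, hΦ, d] using this

end SLTwoRel

end Cfsg.Lib.Chev
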