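import Cfsg.Agent.Lib.Chev.TitsSquares
import Cfsg.Agent.Lib.Chev.TwF4Facts
import Cfsg.Agent.Lib.Chev.TwF4Orders

/-! The involutions of ²F₄(2) lie in the Tits group. -/

set_option autoImplicit false
set_option maxRecDepth 100000

namespace Cfsg.Lib.Chev

open Cfsg.Lie

variable {K : Type*} [Field K] [CharP K esymF4.p]

/-- The group ²F₄(2) as a fixed group. -/
noncomputable abbrev titsG (K : Type*) [Field K] [CharP K esymF4.p] : Subgroup (GL chevF4.Idx K) := (twOKF4 (K := K) 0).fixed certF4C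

/-- The twelve generators. -/
noncomputable def titsGen (K : Type*) [Field K] (i : ℕ) : GL chevF4.Idx K := ((titsWf i).map (f4Gen K)).prod

/-- The product given by twelve bits. -/
noncomputable def titsEv (K : Type*) [Field K] (m : ℕ) : GL chevF4.Idx K := ((titsBits m).map (titsGen K)).prod

theorem titsGen_flat (l : List ℕ) :
    ((l.flatMap titsWf).map (f4Gen K)).prod = (l.map (titsGen K)).prod := by
  induction l with
  | nil => rfl
  | cons a l ih => rw [List.flatMap_cons, List.map_append, List.prod_append, ih, List.map_cons, List.prod_cons, titsGen]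

theorem titsGen_eq_one {i : ℕ} (hi : 12 ≤ i) : (titsGen K) i = 1 := by
  have : titsWf i = [] := List.getD_eq_default _ _ (by simpa [titsW] using hi)
  simp [titsGen, this]

theorem titsGen_swap {s x : ℕ} (h : x < s) :
    (titsGen K) s * (titsGen K) x = (titsGen K) x * (titsGen K) s * ((titsRf s x).map (titsGen K)).prod := by
  by_cases hs : s < 12
  · have hc := chkTitsRels_ok
    simp only [chkTitsRels, Bool.and_eq_true, allBelow_iff, Bool.or_eq_true, beq_iff_eq] at hc
    have h2 := (hc.1 s hs x (by omega)).resolve_left (by simp [h])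
    have h3 := f4Gen_coll (K := K) h2
    rw [List.map_append, List.prod_append, List.map_append, List.map_append, List.prod_append, List.prod_append,
      titsGen_flat] at h3
    exact h3
  · have : titsRf s x = [] := by
      have e : titsR.getD s [] = [] := List.getD_eq_default _ _ (by simpa [titsR] using not_lt.1 hs)
      rw [titsRf, e]; rfl
    simp [this, titsGen_eq_one (not_lt.1 hs)]

theorem titsGen_sq (x : ℕ) : (titsGen K) x * (titsGen K) x = ((titsSf x).map (titsGen K)).prod := by
  by_cases hx : x < 12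
  · have hc := chkTitsRels_ok
    simp only [chkTitsRels, Bool.and_eq_true, allBelow_iff, beq_iff_eq] at hc
    have h3 := f4Gen_coll (K := K) (hc.2 x hx)
    rw [List.map_append, List.prod_append, titsGen_flat] at h3
    exact h3
  · have : titsSf x = [] := List.getD_eq_default _ _ (by simpa [titsS] using not_lt.1 hx)
    simp [this, titsGen_eq_one (not_lt.1 hx)]

theorem f4Gen_eq {r : ℕ} (h : 24 ≤ r ∧ r < 48) : f4Gen K r = xg certF4C r (1 : K) := if_pos h

set_option maxHeartbeats 1000000 in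
theorem titsGen_fixed [Fintype K] (hK : Fintype.card K = 2 ^ (2 * 0 + 1)) (i : ℕ) : (titsGen K) i ∈ (titsG K) := by
  have hP : ∀ {a b : ℕ}, chkF4Pair a b = true → (24 ≤ a ∧ a < 48) ∧ (24 ≤ b ∧ b < 48) →
      ([a, b].map (f4Gen K)).prod ∈ (titsG K) := fun {a b} hc hr => by
    have := f4P_fixed hK hc (1 : K)
    simpa [f4P, f4Pair, f4Gen_eq hr.1, f4Gen_eq hr.2] using this
  have hQ : ∀ {a b c d : ℕ} {M₁ M₂ : ℤ}, chkF4Quad a b c d M₁ M₂ = true →
      (24 ≤ a ∧ a < 48) ∧ (24 ≤ b ∧ b < 48) ∧ (24 ≤ c ∧ c < 48) ∧ (24 ≤ d ∧ d < 48) →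
      ([a, b, c].map (f4Gen K)).prod ∈ (titsG K) ∧ ([c, d].map (f4Gen K)).prod ∈ (titsG K) :=
    fun {a b c d M₁ M₂} hc hr => by
    have h1 := f4Q_fixed hK hc (1 : K) 0
    have h2 := f4Q_fixed hK hc (0 : K) 1
    constructor
    · simpa [f4Q, f4Quad, f4Gen_eq hr.1, f4Gen_eq hr.2.1, f4Gen_eq hr.2.2.1, xg_zero, mul_assoc] using h1
    · simpa [f4Q, f4Quad, f4Gen_eq hr.2.2.1, f4Gen_eq hr.2.2.2, xg_zero, mul_assoc] using h2
  by_cases hi : i < 12
  · have q0 := hQ chkF4QuadPos (by omega)
    have q1 := hQ (show chkF4Quad 34 26 36 42 (-1) 1 = true by decide +kernel) (by omega)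
    have q2 := hQ (show chkF4Quad 35 31 40 46 1 1 = true by decide +kernel) (by omega)
    have q3 := hQ (show chkF4Quad 29 41 44 47 1 1 = true by decide +kernel) (by omega)
    interval_cases i
    · exact hP chkF4PairPos (by omega)
    · exact q0.1
    · exact q0.2
    · exact q1.1
    · exact q1.2
    · exact hP (show chkF4Pair 37 32 = true by decide +kernel) (by omega)
    · exact q2.1
    · exact q2.2
    · exact hP (show chkF4Pair 38 43 = true by decide +kernel) (by omega)
    · exact q3.1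
    · exact q3.2
    · exact hP (show chkF4Pair 39 45 = true by decide +kernel) (by omega)
  · rw [titsGen_eq_one (not_lt.1 hi)]; exact one_mem _

theorem titsGen_pos (i : ℕ) : (titsGen K) i ∈ chevF4.posUnipotent K := by
  rw [titsGen]
  refine Subgroup.list_prod_mem _ fun g hg => ?_
  obtain ⟨r, -, rfl⟩ := List.mem_map.1 hg
  unfold f4Gen
  split_ifs with h
  · exact xg_mem_pos certF4C (show r < chevF4.nroots from h.2) (show chevF4.nroots ≤ 2 * r by
      show 48 ≤ 2 * r; omega) _
  · exact one_mem _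

theorem f4_zero_or_one [Fintype K] (hK : Fintype.card K = 2 ^ (2 * 0 + 1)) (z : K) : z = 0 ∨ z = 1 := by
  have h := FiniteField.pow_card z
  rw [hK] at h
  have h2 : z * (z - 1) = 0 := by linear_combination h
  rcases mul_eq_zero.1 h2 with e | e
  · exact Or.inl e
  · exact Or.inr (sub_eq_zero.1 e)

/-- The twenty-four positive roots by classes. -/
def titsL24 : List ℕ :=
  [33, 24, 27, 25, 28, 30, 34, 26, 36, 42, 37, 32, 35, 31, 40, 46, 38, 43, 29, 41, 44, 47, 39, 45]

/-- The coefficients of a product. -/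
def titsCoef (K : Type*) [Field K] (m r : ℕ) : K :=
  let b := fun p : Bool => if p then (1 : K) else 0
  if r = 33 ∨ r = 24 then b (m.testBit 0)
  else if r = 27 ∨ r = 25 then b (m.testBit 1) else if r = 28 then b (m.testBit 1 != m.testBit 2)
  else if r = 30 then b (m.testBit 2)
  else if r = 34 ∨ r = 26 then b (m.testBit 3) else if r = 36 then b (m.testBit 3 != m.testBit 4)
  else if r = 42 then b (m.testBit 4)
  else if r = 37 ∨ r = 32 then b (m.testBit 5)
  else if r = 35 ∨ r = 31 then b (m.testBit 6) else if r = 40 then b (m.testBit 6 != m.testBit 7)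
  else if r = 46 then b (m.testBit 7)
  else if r = 38 ∨ r = 43 then b (m.testBit 8)
  else if r = 29 ∨ r = 41 then b (m.testBit 9) else if r = 44 then b (m.testBit 9 != m.testBit 10)
  else if r = 47 then b (m.testBit 10)
  else b (m.testBit 11)

theorem tits_filter_prod {M : Type*} [Monoid M] (p : ℕ → Bool) (g : ℕ → M) (l : List ℕ) :
    ((l.filter p).map g).prod = (l.map fun i => if p i then g i else 1).prod := by
  induction l with
  | nil => rfl
  | cons a l ih => cases h : p a <;> simp [List.filter_cons, h, ih]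

theorem titsEv_lprod (m : ℕ) : (titsEv K) m = lprod certF4C titsL24 (titsCoef K m) := by
  have hP : ∀ (a b : ℕ), (24 ≤ a ∧ a < 48) → (24 ≤ b ∧ b < 48) → ∀ p : Bool,
      (if p then ([a, b].map (f4Gen K)).prod else 1) =
        xg certF4C a (if p then 1 else 0 : K) * xg certF4C b (if p then 1 else 0) := by
    intro a b ha hb p
    cases p <;> simp [f4Gen_eq ha, f4Gen_eq hb, xg_zero]
  have hQ : ∀ (a b c d : ℕ), (24 ≤ a ∧ a < 48) → (24 ≤ b ∧ b < 48) → (24 ≤ c ∧ c < 48) → (24 ≤ d ∧ d < 48) →
      ∀ p q : Bool, (if p then ([a, b, c].map (f4Gen K)).prod else 1) *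
        (if q then ([c, d].map (f4Gen K)).prod else 1) =
        xg certF4C a (if p then 1 else 0 : K) * (xg certF4C b (if p then 1 else 0) *
          (xg certF4C c (if (p != q) then 1 else 0) * xg certF4C d (if q then 1 else 0))) := by
    intro a b c d ha hb hc hd p q
    have e : xg certF4C c (1 : K) * xg certF4C c 1 = 1 := by
      rw [xg_add, show (1 : K) + 1 = 0 by rw [one_add_one_eq_two, f4_two_eq_zero], xg_zero]
    cases p <;> cases q <;> simp [f4Gen_eq ha, f4Gen_eq hb, f4Gen_eq hc, f4Gen_eq hd, xg_zero, mul_assoc]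
    rw [← mul_assoc (xg certF4C c 1), e, one_mul]
  rw [titsEv, titsBits, tits_filter_prod]
  simp only [show List.range 12 = [0, 1, 2, 3, 4, 5, 6, 7, 8, 9, 10, 11] from rfl, List.map_cons, List.map_nil,
    List.prod_cons, List.prod_nil, mul_one]
  simp only [titsGen, show titsWf 0 = [33, 24] from rfl, show titsWf 1 = [27, 25, 28] from rfl,
    show titsWf 2 = [28, 30] from rfl, show titsWf 3 = [34, 26, 36] from rfl, show titsWf 4 = [36, 42] from rfl,
    show titsWf 5 = [37, 32] from rfl, show titsWf 6 = [35, 31, 40] from rfl, show titsWf 7 = [40, 46] from rfl,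
    show titsWf 8 = [38, 43] from rfl, show titsWf 9 = [29, 41, 44] from rfl, show titsWf 10 = [44, 47] from rfl,
    show titsWf 11 = [39, 45] from rfl]
  have assoc : ∀ a b c : GL chevF4.Idx K, a * (b * c) = (a * b) * c := fun a b c => (mul_assoc a b c).symm
  rw [assoc (if m.testBit 1 then _ else _), hQ 27 25 28 30 (by omega) (by omega) (by omega) (by omega),
    assoc (if m.testBit 3 then _ else _), hQ 34 26 36 42 (by omega) (by omega) (by omega) (by omega),
    assoc (if m.testBit 6 then _ else _), hQ 35 31 40 46 (by omega) (by omega) (by omega) (by omega),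
    assoc (if m.testBit 9 then _ else _), hQ 29 41 44 47 (by omega) (by omega) (by omega) (by omega),
    hP 33 24 (by omega) (by omega), hP 37 32 (by omega) (by omega), hP 38 43 (by omega) (by omega),
    hP 39 45 (by omega) (by omega)]
  simp [lprod, titsL24, titsCoef, mul_assoc]

set_option maxHeartbeats 1000000 in
theorem titsEv_inj {m n : ℕ} (hm : m < 4096) (hn : n < 4096) (e : (titsEv K) m = (titsEv K) n) : m = n := by
  rw [titsEv_lprod, titsEv_lprod] at e
  have h := lprod_inj certF4C fullCertF4.comm (by decide) (by decide) e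
  have hb : ∀ p q : Bool, (if p then (1 : K) else 0) = (if q then 1 else 0) → p = q := by
    intro p q; cases p <;> cases q <;> simp
  refine Nat.eq_of_testBit_eq fun i => ?_
  by_cases hi : i < 12
  · interval_cases i
    · exact hb _ _ (by simpa [titsCoef] using h 33 (by simp [titsL24]))
    · exact hb _ _ (by simpa [titsCoef] using h 27 (by simp [titsL24]))
    · exact hb _ _ (by simpa [titsCoef] using h 30 (by simp [titsL24]))
    · exact hb _ _ (by simpa [titsCoef] using h 34 (by simp [titsL24]))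
    · exact hb _ _ (by simpa [titsCoef] using h 42 (by simp [titsL24]))
    · exact hb _ _ (by simpa [titsCoef] using h 37 (by simp [titsL24]))
    · exact hb _ _ (by simpa [titsCoef] using h 35 (by simp [titsL24]))
    · exact hb _ _ (by simpa [titsCoef] using h 46 (by simp [titsL24]))
    · exact hb _ _ (by simpa [titsCoef] using h 38 (by simp [titsL24]))
    · exact hb _ _ (by simpa [titsCoef] using h 29 (by simp [titsL24]))
    · exact hb _ _ (by simpa [titsCoef] using h 47 (by simp [titsL24]))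
    · exact hb _ _ (by simpa [titsCoef] using h 39 (by simp [titsL24]))
  · have h12 : ∀ k < 4096, k.testBit i = false := fun k hk => Nat.testBit_lt_two_pow
      (hk.trans_le (show 2 ^ 12 ≤ 2 ^ i from Nat.pow_le_pow_right (by norm_num) (not_lt.1 hi)))
    rw [h12 m hm, h12 n hn]

theorem titsEv_zero : (titsEv K) 0 = 1 := by
  rw [titsEv, show titsBits 0 = [] by decide +kernel, List.map_nil, List.prod_nil]

theorem titsEv_sq_ne_one {n : ℕ} (hn : n < 4096) (hp : titsPar n = true) : (titsEv K) n * (titsEv K) n ≠ 1 := by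
  obtain ⟨m, hm, hm0, e⟩ := tits_square hn hp
  have h := collWord_prod (R := titsRf) (S := titsSf) (titsGen K) (fun _ _ => titsGen_swap) titsGen_sq (titsBits n ++ titsBits n)
  rw [← e, List.reverse_reverse, List.map_append, List.prod_append] at h
  intro h1
  exact hm0 (titsEv_inj (K := K) hm (by norm_num) (by rw [titsEv_zero, ← h1]; simp only [titsEv]; exact h))

/-- A class, carried to by an element of the fixed group. -/
theorem tits_class_conj {c : ℕ × ℕ} (hc : c ∈ twF4.classes) {g : GL chevF4.Idx K} (hg : g ∈ (titsG K))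
    (hgP : g ∈ Pset certF4C (twF4.base c.1)) :
    ∃ n ∈ (titsG K), n * g * n⁻¹ ∈ Pset certF4C (twF4.cls tblF4 c) := by
  obtain ⟨hJ, ha⟩ := twCombF4.class_lt c hc
  obtain ⟨n, hn, hd⟩ := (twOKF4 (K := K) 0).exists_fixed_rep certF4C twCombF4 ha
  exact ⟨n, hn, (mono_conj_pset certF4C (twCombF4.eword_word certF4C ha) hd (twCombF4.base_lt c.1 hJ)).1 hgP⟩

set_option maxHeartbeats 1000000 in
/-- The fundamental pair generator is carried to another one or to the identity. -/
theorem tits_conj_pair [Fintype K] (hK : Fintype.card K = 2 ^ (2 * 0 + 1)) : ∃ n ∈ (titsG K), n * (titsGen K) 0 * n⁻¹ = 1 ∨ n * (titsGen K) 0 * n⁻¹ = (titsGen K) 5 := by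
  classical
  have h01 := f4_zero_or_one hK
  have hP : (titsGen K) 0 ∈ Pset certF4C (twF4.base 0) := ⟨fun _ => 1, by
    simp [titsGen, show titsWf 0 = [33, 24] from rfl, show twF4.base 0 = [33, 24] from rfl, lprod,
      f4Gen_eq (show 24 ≤ 33 ∧ 33 < 48 by omega), f4Gen_eq (show 24 ≤ 24 ∧ 24 < 48 by omega)]⟩
  obtain ⟨n, hn, hc⟩ := tits_class_conj (c := (0, 2)) (by decide +kernel) (titsGen_fixed hK 0) hP
  rw [show twF4.cls tblF4 (0, 2) = [37, 32] by decide +kernel] at hc
  obtain ⟨s, hs⟩ := hc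
  have hmem : n * (titsGen K) 0 * n⁻¹ ∈ (titsG K) := mul_mem (mul_mem hn (titsGen_fixed hK 0)) (inv_mem hn)
  have es : lprod certF4C [37, 32] s = f4Pair 37 32 (s 37) (s 32) := by simp [f4Pair, lprod]
  have hfix := hmem.2
  rw [hs, es, f4Pair_twist (show chkF4Pair 37 32 = true by decide +kernel),
    show ∀ A B : K, f4Pair 37 32 A B = lprod certF4C [37, 32] (fun r => if r = 37 then A else B) from
      fun A B => by simp [f4Pair, lprod], es.symm] at hfix
  have h37 : s 32 = s 37 := by
    have := lprod_inj certF4C fullCertF4.comm (show [37, 32].Nodup by decide) (by decide) hfix 37 (by simp)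
    simpa using this
  refine ⟨n, hn, ?_⟩
  rw [hs, es, h37]
  rcases h01 (s 37) with h | h
  · left; rw [h, f4Pair, xg_zero, xg_zero, one_mul]
  · right
    rw [h, f4Pair, titsGen, show titsWf 5 = [37, 32] from rfl]
    simp [f4Gen_eq (show 24 ≤ 37 ∧ 37 < 48 by omega), f4Gen_eq (show 24 ≤ 32 ∧ 32 < 48 by omega)]

set_option maxHeartbeats 1000000 in
/-- The fundamental generator of order four is carried to one of order four. -/
theorem tits_conj_quad [Fintype K] (hK : Fintype.card K = 2 ^ (2 * 0 + 1)) : ∃ n ∈ (titsG K),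
    n * (titsGen K) 1 * n⁻¹ = (titsGen K) 3 ∨ n * (titsGen K) 1 * n⁻¹ = (titsGen K) 3 * (titsGen K) 4 := by
  classical
  have h01 := f4_zero_or_one hK
  have hP : (titsGen K) 1 ∈ Pset certF4C (twF4.base 1) := ⟨fun r => if r = 30 then 0 else 1, by
    simp [titsGen, show titsWf 1 = [27, 25, 28] from rfl, show twF4.base 1 = [27, 25, 28, 30] from rfl, lprod,
      xg_zero, f4Gen_eq (show 24 ≤ 27 ∧ 27 < 48 by omega), f4Gen_eq (show 24 ≤ 25 ∧ 25 < 48 by omega),
      f4Gen_eq (show 24 ≤ 28 ∧ 28 < 48 by omega)]⟩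
  obtain ⟨n, hn, hc⟩ := tits_class_conj (c := (1, 1)) (by decide +kernel) (titsGen_fixed hK 1) hP
  rw [show twF4.cls tblF4 (1, 1) = [34, 26, 36, 42] by decide +kernel] at hc
  obtain ⟨s, hs⟩ := hc
  have hmem : n * (titsGen K) 1 * n⁻¹ ∈ (titsG K) := mul_mem (mul_mem hn (titsGen_fixed hK 1)) (inv_mem hn)
  have es : lprod certF4C [34, 26, 36, 42] s = f4Quad 34 26 36 42 (s 34) (s 26) (s 36) (s 42) := by
    simp [f4Quad, lprod, mul_assoc]
  have hfix := hmem.2
  rw [hs, es, f4Quad_twist (show chkF4Quad 34 26 36 42 (-1) 1 = true by decide +kernel),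
    show ∀ A B C' D' : K, f4Quad 34 26 36 42 A B C' D' = lprod certF4C [34, 26, 36, 42]
      (fun r => if r = 34 then A else if r = 26 then B else if r = 36 then C' else D') from
      fun A B C' D' => by simp [f4Quad, lprod, mul_assoc], es.symm] at hfix
  have hi := lprod_inj certF4C fullCertF4.comm (show [34, 26, 36, 42].Nodup by decide) (by decide) hfix
  have h34 : s 26 = s 34 := by simpa using hi 34 (by simp)
  have h36 : s 36 = s 42 + s 34 := by
    have := hi 36 (by simp)
    simp [h34] at this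
    have h11 : (1 : K) + 1 = 0 := by rw [one_add_one_eq_two, f4_two_eq_zero]
    rcases h01 (s 36) with e1 | e1 <;> rcases h01 (s 42) with e2 | e2 <;> rcases h01 (s 34) with e3 | e3 <;>
      simp [e1, e2, e3, h11] at this ⊢
  obtain ⟨t, u, e⟩ : ∃ t u : Bool, n * (titsGen K) 1 * n⁻¹ =
      (if t then (titsGen K) 3 else 1) * (if u then (titsGen K) 4 else 1) := by
    refine ⟨decide (s 34 = 1), decide (s 42 = 1), ?_⟩
    rw [hs, es, h36, h34]
    have ec : xg certF4C 36 (1 : K) * xg certF4C 36 1 = 1 := by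
      rw [xg_add, show (1 : K) + 1 = 0 by rw [one_add_one_eq_two, f4_two_eq_zero], xg_zero]
    rcases h01 (s 34) with h | h <;> rcases h01 (s 42) with h' | h' <;>
      simp [h, h', f4Quad, xg_zero, titsGen, mul_assoc, show titsWf 3 = [34, 26, 36] from rfl,
        show titsWf 4 = [36, 42] from rfl, f4Gen_eq (show 24 ≤ 34 ∧ 34 < 48 by omega),
        f4Gen_eq (show 24 ≤ 26 ∧ 26 < 48 by omega), f4Gen_eq (show 24 ≤ 36 ∧ 36 < 48 by omega),
        f4Gen_eq (show 24 ≤ 42 ∧ 42 < 48 by omega), show (1 : K) + 1 = 0 by rw [one_add_one_eq_two, f4_two_eq_zero]]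
    rw [← mul_assoc (xg certF4C 36 1), ec, one_mul]
  have ht : t = true := by
    by_contra hne
    simp only [Bool.not_eq_true] at hne
    subst hne
    have h1 : (titsGen K) 4 * (titsGen K) 4 = 1 := by simpa [titsSf, titsS] using titsGen_sq 4
    have h2 : (titsGen K) 1 * (titsGen K) 1 = (titsGen K) 2 := by simpa [titsSf, titsS] using titsGen_sq 1
    have h3 : (n * (titsGen K) 1 * n⁻¹) * (n * (titsGen K) 1 * n⁻¹) = 1 := by
      rw [e]; cases u <;> simp [h1]
    have h4 : (titsGen K) 1 * (titsGen K) 1 = 1 := by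
      rw [← conj_eq_one_iff (a := n), ← h3]; group
    rw [h2] at h4
    have : (titsEv K) 4 = (titsEv K) 0 := by
      rw [titsEv_zero, titsEv, show titsBits 4 = [2] by decide +kernel]
      simpa using h4
    exact absurd (titsEv_inj (K := K) (by norm_num) (by norm_num) this) (by norm_num)
  subst ht
  refine ⟨n, hn, ?_⟩
  cases u
  · exact Or.inl (e.trans (mul_one _))
  · exact Or.inr e

theorem titsEv_mem [Fintype K] (hK : Fintype.card K = 2 ^ (2 * 0 + 1)) (m : ℕ) :
    (titsEv K) m ∈ chevF4.posUnipotent K ⊓ (titsG K) :=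
  list_prod_mem fun g hg => by
    obtain ⟨i, -, rfl⟩ := List.mem_map.1 hg
    exact Subgroup.mem_inf.2 ⟨titsGen_pos i, titsGen_fixed hK i⟩

theorem tits_pos_card [Fintype K] (hK : Fintype.card K = 2 ^ (2 * 0 + 1)) :
    Nat.card ↥(chevF4.posUnipotent K ⊓ (titsG K)) = 4096 := by
  rw [(twOKF4 (K := K) 0).card_pos_fixed certF4C fullCertF4 twCombF4
    (fun J hJ => f4_card_fixPart hK hJ) two_pos f4_wt]
  rfl

/-- The Sylow 2-subgroup is the set of the twelve-bit products. -/
theorem titsEv_surj [Fintype K] (hK : Fintype.card K = 2 ^ (2 * 0 + 1)) {g : GL chevF4.Idx K}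
    (hg : g ∈ chevF4.posUnipotent K ⊓ (titsG K)) : ∃ m < 4096, (titsEv K) m = g := by
  obtain ⟨m, hm⟩ := (Function.Injective.bijective_of_nat_card_le
    (f := fun m : Fin 4096 => (⟨(titsEv K) m, titsEv_mem hK m⟩ : ↥(chevF4.posUnipotent K ⊓ (titsG K))))
    (fun m n e => Fin.ext (titsEv_inj (K := K) m.2 n.2 (congrArg Subtype.val e)))
    (by rw [tits_pos_card hK, Nat.card_fin])).2 ⟨g, hg⟩
  exact ⟨m, m.2, congrArg Subtype.val hm⟩

set_option maxHeartbeats 1000000 in
/-- The even elements of the Sylow 2-subgroup lie in the commutator subgroup. -/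
theorem tits_even_mem [Fintype K] (hK : Fintype.card K = 2 ^ (2 * 0 + 1)) {m : ℕ} (hp : titsPar m = false) :
    (⟨(titsEv K) m, (titsEv_mem hK m).2⟩ : ↥(titsG K)) ∈ commutator ↥(titsG K) := by
  classical
  let gT : ℕ → ↥(titsG K) := fun i => ⟨(titsGen K) i, titsGen_fixed hK i⟩
  let θ : ↥(titsG K) →* Abelianization ↥(titsG K) := Abelianization.of
  have hker : ∀ y : ↥(titsG K), θ y = 1 ↔ y ∈ commutator ↥(titsG K) := fun y => by
    rw [← Abelianization.ker_of, MonoidHom.mem_ker]
  let a : ℕ → Abelianization ↥(titsG K) := fun i => θ (gT i)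
  have hprod : ∀ l : List ℕ, θ ((l.map gT).prod) = (l.map a).prod := fun l => by
    rw [map_list_prod, List.map_map]; rfl
  have hcoe : ∀ l : List ℕ, (((l.map gT).prod : ↥(titsG K)) : GL chevF4.Idx K) = (l.map (titsGen K)).prod :=
    fun l => by rw [SubmonoidClass.coe_list_prod, List.map_map]; rfl
  have hR : ∀ s x, x < s → ((titsRf s x).map a).prod = 1 := by
    intro s x hsx
    have e : gT s * gT x = gT x * gT s * ((titsRf s x).map gT).prod := Subtype.ext (by
      rw [Subgroup.coe_mul, Subgroup.coe_mul, Subgroup.coe_mul, hcoe]; exact titsGen_swap hsx)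
    have := congrArg θ e
    rw [map_mul, map_mul, map_mul, hprod, mul_comm (θ (gT x))] at this
    exact mul_eq_left.1 this.symm
  have hS : ∀ x, a x * a x = ((titsSf x).map a).prod := fun x => by
    have e : gT x * gT x = ((titsSf x).map gT).prod := Subtype.ext (by
      rw [Subgroup.coe_mul, hcoe]; exact titsGen_sq x)
    show θ (gT x) * θ (gT x) = _
    rw [← map_mul, e, hprod]
  have e8 : a 8 = 1 := by simpa [titsRf, titsR] using hR 9 3 (by norm_num)
  have e5 : a 5 = 1 := by simpa [titsRf, titsR] using hR 6 1 (by norm_num)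
  have e11 : a 11 = 1 := by simpa [titsRf, titsR] using hR 9 6 (by norm_num)
  have e4 : a 4 = 1 := by simpa [titsRf, titsR] using hR 9 0 (by norm_num)
  have e7 : a 7 = 1 := by simpa [titsRf, titsR] using hR 11 1 (by norm_num)
  have e10 : a 10 = 1 := by simpa [titsRf, titsR] using hR 11 3 (by norm_num)
  have s3 : a 3 * a 3 = 1 := by simpa [titsSf, titsS, e4] using hS 3
  have e9 : a 9 = a 3 := by
    have : a 3 * a 9 = 1 := by simpa [titsRf, titsR, e5, e10] using hR 1 0 (by norm_num)
    exact mul_left_cancel (this.trans s3.symm)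
  have e6 : a 6 = a 3 := by
    have : a 6 * a 9 = 1 := by simpa [titsRf, titsR, e4, e5, e7, e8, e10, e11] using hR 2 0 (by norm_num)
    rw [e9] at this
    exact mul_right_cancel (this.trans s3.symm)
  classical
  have h01 := f4_zero_or_one hK
  have hθconj : ∀ n y : ↥(titsG K), θ (n * y * n⁻¹) = θ y := fun n y => by
    rw [map_mul, map_mul, map_inv, mul_comm (θ n), mul_inv_cancel_right]
  have e0 : a 0 = 1 := by
    obtain ⟨n, hn, h | h⟩ := tits_conj_pair hK
    · rw [show a 0 = θ (⟨n, hn⟩ * gT 0 * ⟨n, hn⟩⁻¹) from (hθconj _ _).symm,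
        show (⟨n, hn⟩ * gT 0 * ⟨n, hn⟩⁻¹ : ↥(titsG K)) = 1 from Subtype.ext h, map_one]
    · rw [show a 0 = θ (⟨n, hn⟩ * gT 0 * ⟨n, hn⟩⁻¹) from (hθconj _ _).symm,
        show (⟨n, hn⟩ * gT 0 * ⟨n, hn⟩⁻¹ : ↥(titsG K)) = gT 5 from Subtype.ext h]
      exact e5
  have e1 : a 1 = a 3 := by
    obtain ⟨n, hn, h | h⟩ := tits_conj_quad hK
    · rw [show a 1 = θ (⟨n, hn⟩ * gT 1 * ⟨n, hn⟩⁻¹) from (hθconj _ _).symm,
        show (⟨n, hn⟩ * gT 1 * ⟨n, hn⟩⁻¹ : ↥(titsG K)) = gT 3 from Subtype.ext h]
    · rw [show a 1 = θ (⟨n, hn⟩ * gT 1 * ⟨n, hn⟩⁻¹) from (hθconj _ _).symm,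
        show (⟨n, hn⟩ * gT 1 * ⟨n, hn⟩⁻¹ : ↥(titsG K)) = gT 3 * gT 4 from Subtype.ext h, map_mul,
        show θ (gT 4) = 1 from e4, mul_one]
  have e2 : a 2 = 1 := by
    have := hS 1
    rw [e1, s3] at this
    simpa [titsSf, titsS] using this.symm
  rw [← hker, show (⟨(titsEv K) m, (titsEv_mem hK m).2⟩ : ↥(titsG K)) = ((titsBits m).map gT).prod from
    Subtype.ext (by rw [hcoe]; rfl), hprod, titsBits, tits_filter_prod]
  simp only [show List.range 12 = [0, 1, 2, 3, 4, 5, 6, 7, 8, 9, 10, 11] from rfl, List.map_cons, List.map_nil,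
    List.prod_cons, List.prod_nil, e0, e1, e2, e4, e5, e6, e7, e8, e9, e10, e11, ite_self, one_mul, mul_one]
  revert hp
  unfold titsPar
  cases m.testBit 1 <;> cases m.testBit 3 <;> cases m.testBit 6 <;>
    cases m.testBit 9 <;> simp [s3, ← mul_assoc]

/-- The involutions of ²F₄(2) lie in its commutator subgroup. -/
theorem tits_involution_mem [Fintype K] (hK : Fintype.card K = 2 ^ (2 * 0 + 1)) (x : ↥(titsG K)) (hx : orderOf x = 2) :
    x ∈ commutator ↥(titsG K) := by
  obtain ⟨hUp, hodd⟩ := f4_pos_sylow hK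
  obtain ⟨c, hc⟩ := conj_mem_of_two_power (j := 1) hUp hodd (x := x) (by rw [hx, pow_one])
  obtain ⟨m, hm, hm'⟩ := titsEv_surj hK (Subgroup.mem_subgroupOf.1 hc)
  have hcx : c * x * c⁻¹ ∈ commutator ↥(titsG K) := by
    cases hp : titsPar m
    · rw [show c * x * c⁻¹ = ⟨(titsEv K) m, (titsEv_mem hK m).2⟩ from Subtype.ext hm'.symm]
      exact tits_even_mem hK hp
    · refine absurd ?_ (titsEv_sq_ne_one (K := K) hm hp)
      have h2 : x * x = 1 := by rw [← sq, ← hx, pow_orderOf_eq_one]
      rw [hm', ← Subgroup.coe_mul, show c * x * c⁻¹ * (c * x * c⁻¹) = c * (x * x) * c⁻¹ by group, h2]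
      simp
  have := (inferInstance : (commutator ↥(titsG K)).Normal).conj_mem _ hcx c⁻¹
  rwa [inv_inv, show c⁻¹ * (c * x * c⁻¹) * c = x by group] at this


theorem twistedF4_two_involution_mem (g : ↥(twistedF4 (ZMod 2) 1)) (hg : orderOf g = 2) :
    g ∈ commutator ↥(twistedF4 (ZMod 2) 1) := by
  haveI : CharP (ZMod 2) esymF4.p := ZMod.charP 2
  have hK : Fintype.card (ZMod 2) = 2 ^ (2 * 0 + 1) := ZMod.card 2
  have e : twistedF4 (ZMod 2) 1 = titsG (ZMod 2) := twistedF4_eq (m := 0) hK
  revert g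
  rw [e]
  exact tits_involution_mem hK

end Cfsg.Lib.Chev
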