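import Cfsg.Agent.Lib.Chev.TwG2AutNorm

/-! The torus, the Sylow 3-subgroup and their centralisers in ²G₂(q). -/

set_option autoImplicit false
set_option linter.unusedSectionVars false
set_option maxRecDepth 100000

namespace Cfsg.Lib.Chev.Ree

open Cfsg.Lie Cfsg.Lib.Chev Cfsg.Lib.Chev.G2Aut

variable {K : Type*} [Field K] [Fintype K] [CharP K esymG2.p] {m : ℕ} (hK : Fintype.card K = 3 ^ (2 * m + 1))
include hK

/-- The order. -/
theorem card_gG : Nat.card ↥(gG K m) =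
    (3 ^ (2 * m + 1)) ^ 3 * ((3 ^ (2 * m + 1) - 1) * ((3 ^ (2 * m + 1)) ^ 3 + 1)) := by
  have hG := twistedG2_order (m := m) hK
  rw [twistedG2_eq hK] at hG
  rw [← mul_assoc]; exact hG

/-- The involution of the torus. -/
noncomputable def invA : ↥(gG K m) := eT hK (-1)

theorem neg_one_ne : (-1 : K) ≠ 1 := by
  haveI : CharP K 3 := inferInstanceAs (CharP K esymG2.p)
  intro h
  have h2 : ((2 : ℕ) : K) = 0 := by push_cast; linear_combination -h
  rw [CharP.cast_eq_zero_iff K 3] at h2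
  norm_num at h2

theorem invA_sq : invA hK * invA hK = 1 := by
  rw [invA, ← eT_mul, neg_mul_neg, one_mul, eT_one]

theorem invA_inv : (invA hK)⁻¹ = invA hK := inv_eq_of_mul_eq_one_left (invA_sq hK)

theorem invA_ne_one : invA hK ≠ 1 := fun h => by
  rw [invA, ← eT_one hK] at h
  exact neg_one_ne hK (by simpa using congrArg (fun z : Kˣ => (z : K)) (eT_injective hK h))

theorem orderOf_invA : orderOf (invA hK) = 2 :=
  orderOf_eq_prime_iff.2 ⟨by rw [pow_two]; exact invA_sq hK, invA_ne_one hK⟩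

theorem invA_conj (t u v : K) : invA hK * eU hK t u v * (invA hK)⁻¹ = eU hK (-t) u (-v) := by
  obtain ⟨h6, h10, h11⟩ := signs (m := m) hK
  rw [invA, eT_conj, h6, h10, h11, one_mul, neg_one_mul, neg_one_mul]

theorem invA_fix {x : ↥(gG K m)} (hx : x ∈ posG K m) :
    invA hK * x * (invA hK)⁻¹ = x ↔ ∃ u, x = eU hK 0 u 0 := by
  obtain ⟨t, u, v, rfl⟩ := exists_eU hK hx
  rw [invA_conj]
  refine ⟨fun e => ?_, ?_⟩
  · obtain ⟨h1, -, h3⟩ := eU_inj hK e
    have h2 : ∀ a : K, -a = a → a = 0 := fun a ha => by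
      by_contra h
      exact neg_one_ne hK (mul_right_cancel₀ h (by rw [neg_one_mul, one_mul]; exact ha))
    rw [h2 t h1, h2 v h3]; exact ⟨u, rfl⟩
  · rintro ⟨w, e⟩
    obtain ⟨rfl, rfl, rfl⟩ := eU_inj hK e
    rw [neg_zero]

theorem eT_comm (z w : Kˣ) : Commute (eT hK z) (eT (m := m) hK w) := by
  show _ * _ = _ * _
  rw [← eT_mul, ← eT_mul, mul_comm]

theorem diag_invol {g : ↥(gG K m)} (hd : (g : GL chevG2.Idx K) ∈ chevG2.diagonalSubgroup K) (h2 : g * g = 1)
    (h1 : g ≠ 1) : g = invA hK := by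
  obtain ⟨z, rfl⟩ := exists_eT hK hd
  rw [← eT_mul, ← eT_one hK] at h2
  rcases mul_self_eq_one_iff.1 (show (z : K) * z = 1 by
    simpa using congrArg (fun y : Kˣ => (y : K)) (eT_injective hK h2)) with h | h
  · exact absurd (by rw [show z = 1 from Units.ext h, eT_one]) h1
  · rw [invA, show z = -1 from Units.ext (by rw [h]; rfl)]

theorem long_invA {n : ↥(gG K m)} (hn : LongRep n) : Commute n (invA hK) := by
  have e : n * invA hK * n⁻¹ = invA hK := diag_invol hK (hn.torus _ (eT_mem hK _))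
    (by rw [show n * invA hK * n⁻¹ * (n * invA hK * n⁻¹) = n * (invA hK * invA hK) * n⁻¹ by group, invA_sq]; group)
    fun e => invA_ne_one hK (conj_eq_one_iff.1 e)
  exact mul_inv_eq_iff_eq_mul.1 e

/-- The Borel part contains the centralisers of the elements of the Sylow 3-subgroup. -/
theorem centralizer_three_le {x g : ↥(gG K m)} (hx : x ∈ posG K m) (hx1 : x ≠ 1) (hc : g * x = x * g) :
    g ∈ borG K m := by
  obtain ⟨n, hn⟩ := G2Aut.exists_long hK
  rcases hn.cells g with hg | ⟨b, hb, c, hc', rfl⟩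
  · exact hg
  exfalso
  have h1 : b⁻¹ * x * b⁻¹⁻¹ ∈ posG K m := bor_norm (inv_mem hb) hx
  have h2 : n * (c * x * c⁻¹) * n⁻¹ ∈ negG K m := (hn.pos_neg _ (mul_mem (mul_mem hc' hx) (inv_mem hc'))).1
  have e : n * (c * x * c⁻¹) * n⁻¹ = b⁻¹ * x * b⁻¹⁻¹ := by
    calc _ = b⁻¹ * (b * n * c * x) * c⁻¹ * n⁻¹ := by group
      _ = _ := by rw [hc]; group
  rw [e] at h2
  exact hx1 (conj_eq_one_iff.1 (bor_neg (pos_le_bor h1) h2))

/-- Powers in the Sylow 3-subgroup. -/
theorem pos_cube {x : ↥(gG K m)} (hx : x ∈ posG K m) : ∃ u v, x ^ 3 = eU hK 0 u v := by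
  haveI : CharP K 3 := inferInstanceAs (CharP K esymG2.p)
  obtain ⟨t, u, v, rfl⟩ := exists_eU hK hx
  obtain ⟨a, b, e⟩ := eU_mul_fst hK t u v t u v
  obtain ⟨a', b', e'⟩ := eU_mul_fst hK (t + t) a b t u v
  refine ⟨a', b', ?_⟩
  rw [pow_succ, pow_two, e, e', show t + t + t = (3 : ℕ) * t by push_cast; ring, CharP.cast_eq_zero, zero_mul]

theorem eU_zero_cube (u v : K) : eU hK 0 u v ^ 3 = 1 := by
  haveI : CharP K 3 := inferInstanceAs (CharP K esymG2.p)
  rw [pow_succ, pow_two, eU_mul_zero, eU_mul_zero, show u + u + u = (3 : ℕ) * u by push_cast; ring,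
    show v + v + v = (3 : ℕ) * v by push_cast; ring, CharP.cast_eq_zero, zero_mul, zero_mul, eU_zero]

theorem pos_nine {x : ↥(gG K m)} (hx : x ∈ posG K m) : x ^ 9 = 1 := by
  obtain ⟨u, v, e⟩ := pos_cube hK hx
  rw [show 9 = 3 * 3 from rfl, pow_mul, e, eU_zero_cube]

/-- A second parameter moves past a first one at the cost of a third. -/
theorem eU_shift {a : K} (w : K) : ∃ V, eU hK 0 w 0 * eU hK a 0 0 = eU hK a 0 0 * eU hK 0 w V := by
  rcases eq_or_ne a 0 with rfl | ha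
  · exact ⟨0, by rw [eU_zero, mul_one, one_mul]⟩
  obtain ⟨z', hz'⟩ := (c6_bijective hK).2 (Units.mk0 a ha)
  have hz6 : chr tblG2 chevG2 (extend' (g2Par m z')) 6 = a := by rw [← c6_val hK, hz']; rfl
  obtain ⟨w', hw'⟩ : ∃ w', chr tblG2 chevG2 (extend' (g2Par m z')) 10 * w' = w :=
    ⟨_, mul_inv_cancel_left₀ (chr_ne_zero _ (fun j _ => extend'_ne _ j) _) w⟩
  refine ⟨chr tblG2 chevG2 (extend' (g2Par m z')) 11 * -w', ?_⟩
  have h : eT hK z' * (eU hK 0 w' 0 * eU hK 1 0 0) * (eT hK z')⁻¹ =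
      eT hK z' * (eU hK 1 0 0 * eU hK 0 w' (-w')) * (eT hK z')⁻¹ := by rw [eU_comm hK w']
  rw [show eT hK z' * (eU hK 0 w' 0 * eU hK 1 0 0) * (eT hK z')⁻¹ =
      (eT hK z' * eU hK 0 w' 0 * (eT hK z')⁻¹) * (eT hK z' * eU hK 1 0 0 * (eT hK z')⁻¹) by group,
    show eT hK z' * (eU hK 1 0 0 * eU hK 0 w' (-w')) * (eT hK z')⁻¹ =
      (eT hK z' * eU hK 1 0 0 * (eT hK z')⁻¹) * (eT hK z' * eU hK 0 w' (-w') * (eT hK z')⁻¹) by group,
    eT_conj, eT_conj, eT_conj, hz6, hw', mul_one] at h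
  simp only [mul_zero] at h
  exact h

set_option maxHeartbeats 1000000 in
/-- Conjugation in the Borel part is triangular. -/
theorem bor_cent {x g : ↥(gG K m)} (hx : x ∈ posG K m) (hx1 : x ≠ 1) (hg : g ∈ borG K m) (hc : g * x = x * g) :
    g ∈ posG K m ∨ ∃ u ∈ posG K m, g = u * invA hK := by
  obtain ⟨w, hw, z, rfl⟩ := borG_parts hK hg
  obtain ⟨a, b, c, rfl⟩ := exists_eU hK hw
  obtain ⟨t, u, v, rfl⟩ := exists_eU hK hx
  have hz : z ^ 2 = 1 := by
    have e : eU hK a b c * (eT hK z * eU hK t u v * (eT hK z)⁻¹) = eU hK t u v * eU hK a b c := by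
      calc _ = eU hK a b c * eT hK z * eU hK t u v * (eT hK z)⁻¹ := by group
        _ = _ := by rw [hc]; group
    rw [eT_conj] at e
    set X := chr tblG2 chevG2 (extend' (g2Par m z)) 6 with hX
    set Y := chr tblG2 chevG2 (extend' (g2Par m z)) 10 with hY
    set Z := chr tblG2 chevG2 (extend' (g2Par m z)) 11 with hZ
    obtain ⟨U, V, e1⟩ := eU_mul_fst hK a b c (X * t) (Y * u) (Z * v)
    obtain ⟨U', V', e2⟩ := eU_mul_fst hK t u v a b c
    rw [e1, e2] at e
    obtain ⟨h1, -, -⟩ := eU_inj hK e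
    have key : ∀ {r : ℕ} {y : K}, (r = 6 ∨ r = 10 ∨ r = 11) →
        chr tblG2 chevG2 (extend' (g2Par m z)) r * y = y → y ≠ 0 → z ^ 2 = 1 := fun hr ey hy =>
      g2_chr_eq_one hK hr ((mul_eq_right₀ hy).1 ey)
    rcases ne_or_eq t 0 with ht | rfl
    · exact key (Or.inl rfl) (by rw [← hX]; linear_combination h1) ht
    clear e1 e2 h1 e U V U' V'
    have e : eU hK a b c * eU hK 0 (Y * u) (Z * v) = eU hK 0 u v * eU hK a b c := by
      have := hc
      calc _ = eU hK a b c * (eT hK z * eU hK 0 u v * (eT hK z)⁻¹) := by rw [eT_conj, mul_zero]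
        _ = eU hK a b c * eT hK z * eU hK 0 u v * (eT hK z)⁻¹ := by group
        _ = _ := by rw [hc]; group
    obtain ⟨p, r, es⟩ := eU_split hK a b c
    rcases ne_or_eq u 0 with hu | rfl
    · refine key (Or.inr (Or.inl rfl)) ?_ hu
      have hY2 := eU_shift hK (a := a)
      rw [es] at e
      obtain ⟨V, eV⟩ := hY2 u
      have e' : eU hK a 0 0 * (eU hK 0 p r * eU hK 0 (Y * u) (Z * v)) =
          eU hK a 0 0 * (eU hK 0 u V * eU hK 0 0 v * eU hK 0 p r) := by
        rw [← mul_assoc, e, eU_zero_split hK u v, mul_assoc (eU hK 0 u 0), ← mul_assoc (eU hK 0 0 v),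
          ← (eU_central hK a 0 0 v).eq]
        simp only [← mul_assoc]
        rw [eV]
      rw [eU_mul_zero, eU_mul_zero, eU_mul_zero] at e'
      have h2 := (eU_inj hK (mul_left_cancel e')).2.1
      linear_combination h2
    · rw [mul_zero] at e
      have hv : v ≠ 0 := fun h => hx1 (by rw [h, eU_zero])
      rw [← (eU_central hK a b c v).eq] at e
      exact key (Or.inr (Or.inr rfl)) (eU_inj hK (mul_left_cancel e)).2.2 hv
  rcases mul_self_eq_one_iff.1 (show (z : K) * z = 1 by rw [← pow_two]; simpa using congrArg (fun y : Kˣ => (y : K)) hz) with h | h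
  · left; rw [show z = 1 from Units.ext h, eT_one, mul_one]; exact eU_mem hK _ _ _
  · exact Or.inr ⟨_, eU_mem hK a b c, by rw [invA, show z = -1 from Units.ext (by rw [h]; rfl)]⟩

/-- The orders in the centraliser of an element of order three. -/
theorem order_three_cent {x g : ↥(gG K m)} (hx : x ∈ posG K m) (hx1 : x ≠ 1) (hc : g * x = x * g) :
    g ^ 9 = 1 ∨ g ^ 6 = 1 := by
  rcases bor_cent hK hx hx1 (centralizer_three_le hK hx hx1 hc) hc with h | ⟨w, hw, rfl⟩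
  · exact Or.inl (pos_nine hK h)
  right
  obtain ⟨t, u, v, rfl⟩ := exists_eU hK hw
  have e : (eU hK t u v * invA hK) ^ 2 = eU hK t u v * (invA hK * eU hK t u v * (invA hK)⁻¹) := by
    rw [pow_two, invA_inv]; group
  obtain ⟨a, b, e'⟩ := eU_mul_fst hK t u v (-t) u (-v)
  rw [invA_conj, e', add_neg_cancel] at e
  rw [show 6 = 2 * 3 from rfl, pow_mul, e, eU_zero_cube]

/-- Every 3-element is conjugate into the Sylow 3-subgroup. -/
theorem exists_conj_pos {x : ↥(gG K m)} {k : ℕ} (hx : x ^ 3 ^ k = 1) : ∃ g, g * x * g⁻¹ ∈ posG K m := by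
  haveI : Fact (Nat.Prime 3) := ⟨Nat.prime_three⟩
  have hP : IsPGroup 3 ↥(Subgroup.zpowers x) := by
    obtain ⟨j, -, hj⟩ := (Nat.dvd_prime_pow Nat.prime_three).1 (orderOf_dvd_of_pow_eq_one hx)
    exact IsPGroup.of_card (n := j) (by rw [Nat.card_zpowers, hj])
  have hU : IsPGroup 3 ↥(posG K m) := IsPGroup.of_card (n := (2 * m + 1) * 3) (by rw [card_posG hK, ← pow_mul])
  have hidx : ¬ 3 ∣ (posG K m).index := by
    have h := (posG K m).card_mul_index
    rw [card_posG hK, card_gG hK] at h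
    rw [Nat.eq_of_mul_eq_mul_left (by positivity) h, Nat.prime_three.dvd_mul]
    have h2 : 3 ^ (2 * m + 1) % 3 = 0 := by rw [pow_succ]; omega
    have h3 : (3 ^ (2 * m + 1)) ^ 3 % 3 = 0 := by rw [Nat.pow_mod, h2]
    have h1 : 1 ≤ 3 ^ (2 * m + 1) := Nat.one_le_pow _ _ (by norm_num)
    omega
  obtain ⟨Q, hQ⟩ := hP.exists_le_sylow
  obtain ⟨g, hg⟩ := MulAction.exists_smul_eq ↥(gG K m) Q (hU.toSylow hidx)
  refine ⟨g, ?_⟩
  have h : g * x * g⁻¹ ∈ (g • Q : Sylow 3 ↥(gG K m)).toSubgroup := by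
    rw [Sylow.coe_subgroup_smul]
    exact ⟨x, hQ (Subgroup.mem_zpowers x), rfl⟩
  rw [hg] at h
  exact h

end Cfsg.Lib.Chev.Ree
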