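import Cfsg.Agent.Lib.Chev.ReeSylowTwo

/-! The circle group in `SL₂(q)` and the abelian subgroup of order `q + 1` of ²G₂(q). -/

set_option autoImplicit false
set_option linter.unusedSectionVars false
set_option maxRecDepth 100000

namespace Cfsg.Lib.Chev.Ree

open Cfsg.Lie Cfsg.Lib.Chev Cfsg.Lib.Chev.G2Aut
open scoped MatrixGroups

section Circle

variable {F : Type*} [Field F]

/-- The centraliser of the rotation. -/
def circ (F : Type*) [Field F] : Subgroup SL(2, F) := Subgroup.centralizer {SLTwoRel.rot}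

theorem mem_circ {x : SL(2, F)} : x ∈ circ F ↔ x.1 1 0 = -x.1 0 1 ∧ x.1 1 1 = x.1 0 0 := by
  rw [circ, Subgroup.mem_centralizer_singleton_iff]
  refine ⟨fun h => ?_, fun ⟨h1, h2⟩ => Subtype.ext ?_⟩
  · have e0 := congrArg (fun X : SL(2, F) => X.1 0 0) h
    have e1 := congrArg (fun X : SL(2, F) => X.1 0 1) h
    simp [SLTwoRel.coe_rot, Matrix.mul_apply, Fin.sum_univ_two] at e0 e1
    exact ⟨by linear_combination -e0, e1.symm⟩
  · ext i j
    fin_cases i <;> fin_cases j <;> simp [SLTwoRel.coe_rot, Matrix.mul_apply, Fin.sum_univ_two, h1, h2]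

variable (hn : ¬ IsSquare (-1 : F))
include hn

theorem circ_den (t : F) : 1 + t * t ≠ 0 := fun h => hn ⟨t, by linear_combination -h⟩

theorem circ_norm {x : SL(2, F)} (hx : x ∈ circ F) : x.1 0 0 * x.1 0 0 + x.1 0 1 * x.1 0 1 = 1 := by
  obtain ⟨h1, h2⟩ := mem_circ.1 hx
  have hdet : x.1 0 0 * x.1 1 1 - x.1 0 1 * x.1 1 0 = 1 := by rw [← Matrix.det_fin_two]; exact x.2
  rw [h1, h2] at hdet; linear_combination hdet

theorem circ_ext {x y : SL(2, F)} (hx : x ∈ circ F) (hy : y ∈ circ F) (h0 : x.1 0 0 = y.1 0 0)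
    (h1 : x.1 0 1 = y.1 0 1) : x = y := by
  obtain ⟨a1, a2⟩ := mem_circ.1 hx
  obtain ⟨b1, b2⟩ := mem_circ.1 hy
  refine Subtype.ext ?_
  ext i j
  fin_cases i <;> fin_cases j <;> simp [*]

theorem card_circ [Fintype F] (h2 : (2 : F) ≠ 0) : Nat.card (circ F) = Fintype.card F + 1 := by
  classical
  have hd := circ_den hn
  let mk : ∀ u v : F, u * u + v * v = 1 → circ F := fun u v h =>
    ⟨⟨!![u, v; -v, u], by rw [Matrix.det_fin_two_of]; linear_combination h⟩, mem_circ.2 ⟨by simp, by simp⟩⟩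
  let f : Option F → circ F := fun o => o.elim (mk (-1) 0 (by ring)) fun t =>
    mk ((1 - t * t) / (1 + t * t)) (2 * t / (1 + t * t)) (by
      have := hd t
      rw [div_mul_div_comm, div_mul_div_comm, ← add_div, div_eq_one_iff_eq (mul_ne_zero this this)]
      ring)
  rw [← Nat.card_eq_of_bijective f ?_, Nat.card_eq_fintype_card, Fintype.card_option]
  refine ⟨?_, ?_⟩
  · have hval : ∀ t, ((1 - t * t) / (1 + t * t)) ≠ (-1 : F) := fun t e => h2 (by
      rw [div_eq_iff (hd t)] at e; linear_combination e)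
    rintro (_ | t) (_ | s) e
    · rfl
    · exact absurd (congrArg (fun X : circ F => X.1.1 0 0) e).symm (by simpa [f, mk] using hval s)
    · exact absurd (congrArg (fun X : circ F => X.1.1 0 0) e) (by simpa [f, mk] using hval t)
    · have e0 := congrArg (fun X : circ F => X.1.1 0 0) e
      have e1 := congrArg (fun X : circ F => X.1.1 0 1) e
      simp [f, mk] at e0 e1
      congr 1
      -- recover the parameter from the point
      have k : ∀ r : F, (2 * r / (1 + r * r)) = r * ((1 - r * r) / (1 + r * r) + 1) := fun r => by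
        have := hd r; rw [div_add_one this, ← mul_div_assoc]; ring
      have hne : (1 - t * t) / (1 + t * t) + 1 ≠ 0 := fun h => hval t (by linear_combination h)
      refine mul_right_cancel₀ hne ?_
      rw [← k t, e1, k s, e0]
  · rintro ⟨x, hx⟩
    by_cases h : x.1 0 0 = -1
    · refine ⟨none, Subtype.ext (circ_ext hn (mk (-1) 0 (by ring)).2 hx ?_ ?_)⟩
      · simp [f, mk, h]
      · have := circ_norm hn hx
        rw [h] at this
        have h01 : x.1 0 1 = 0 := mul_self_eq_zero.1 (by linear_combination this)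
        simp [f, mk, h01]
    · have hu : x.1 0 0 + 1 ≠ 0 := fun e => h (by linear_combination e)
      have hN := circ_norm hn hx
      set t := x.1 0 1 / (x.1 0 0 + 1) with ht
      have htt : t * t * (x.1 0 0 + 1) = 1 - x.1 0 0 := by
        rw [ht]; field_simp; linear_combination hN
      have hv : x.1 0 1 = t * (x.1 0 0 + 1) := by rw [ht]; field_simp
      refine ⟨some t, Subtype.ext (circ_ext hn (f (some t)).2 hx ?_ ?_)⟩
      · show (1 - t * t) / (1 + t * t) = _
        rw [div_eq_iff (hd t)]; linear_combination -htt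
      · show 2 * t / (1 + t * t) = _
        rw [div_eq_iff (hd t), hv]; linear_combination -t * htt

theorem circ_sq_one {x : SL(2, F)} (h2 : (2 : F) ≠ 0) (hx : x ∈ circ F) (h : x * x = 1) : x = 1 ∨ x = -1 := by
  obtain ⟨a1, a2⟩ := mem_circ.1 hx
  have e0 := congrArg (fun X : SL(2, F) => X.1 0 0) h
  have e1 := congrArg (fun X : SL(2, F) => X.1 0 1) h
  simp [Matrix.mul_apply, Fin.sum_univ_two, a1, a2] at e0 e1
  have h01 : x.1 0 1 = 0 := by
    rcases mul_eq_zero.1 (show x.1 0 0 * x.1 0 1 = 0 from mul_left_cancel₀ h2 (by linear_combination e1)) with h' | h'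
    · exact absurd ⟨x.1 0 1, by rw [h'] at e0; linear_combination e0 - 0⟩ hn
    · exact h'
  have h00 := circ_norm hn hx
  rw [h01, mul_zero, add_zero] at h00
  rcases mul_self_eq_one_iff.1 h00 with h' | h'
  · left; refine Subtype.ext ?_; ext i j; fin_cases i <;> fin_cases j <;> simp [a1, a2, h01, h']
  · right; refine Subtype.ext ?_; ext i j; fin_cases i <;> fin_cases j <;> simp [a1, a2, h01, h']

theorem cyclic_circ [Fintype F] : IsCyclic (circ F) := by
  obtain ⟨i, hi⟩ := IsAlgClosed.exists_pow_nat_eq (-1 : AlgebraicClosure F) (n := 2) two_pos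
  set ι := algebraMap F (AlgebraicClosure F)
  let f : circ F →* AlgebraicClosure F :=
    { toFun := fun x => ι (x.1.1 0 0) + i * ι (x.1.1 0 1)
      map_one' := by simp
      map_mul' := fun x y => by
        obtain ⟨a1, a2⟩ := mem_circ.1 x.2
        obtain ⟨b1, b2⟩ := mem_circ.1 y.2
        simp [Matrix.mul_apply, Fin.sum_univ_two, b1, b2]
        linear_combination (ι (x.1.1 0 1) * ι (y.1.1 0 1)) * (-hi) }
  refine isCyclic_of_subgroup_isDomain f fun x y e => ?_
  have e' : ι (x.1.1 0 0 - y.1.1 0 0) + i * ι (x.1.1 0 1 - y.1.1 0 1) = 0 := by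
    simp only [map_sub]
    have : ι (x.1.1 0 0) + i * ι (x.1.1 0 1) = ι (y.1.1 0 0) + i * ι (y.1.1 0 1) := e
    linear_combination this
  have hb : x.1.1 0 1 - y.1.1 0 1 = 0 := by
    by_contra hb
    refine hn ⟨-(x.1.1 0 0 - y.1.1 0 0) / (x.1.1 0 1 - y.1.1 0 1), ι.injective ?_⟩
    have hb' : ι (x.1.1 0 1 - y.1.1 0 1) ≠ 0 := fun h => hb (ι.injective (h.trans (map_zero ι).symm))
    rw [map_neg, map_one, map_mul, map_div₀, map_neg, div_mul_div_comm, eq_div_iff (mul_ne_zero hb' hb')]
    linear_combination (ι (x.1.1 0 0 - y.1.1 0 0) - i * ι (x.1.1 0 1 - y.1.1 0 1)) * (-e') + (-(ι (x.1.1 0 1 - y.1.1 0 1)) ^ 2) * hi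
  rw [hb, map_zero, mul_zero, add_zero] at e'
  exact Subtype.ext (circ_ext hn x.2 y.2 (sub_eq_zero.1 (ι.injective (e'.trans (map_zero ι).symm))) (sub_eq_zero.1 hb))

end Circle

end Cfsg.Lib.Chev.Ree
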