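import Cfsg.Agent.Lib.Chev.ReeHall

/-! The numbers of elements of each order in ²G₂(q). -/

set_option autoImplicit false
set_option linter.unusedSectionVars false
set_option maxRecDepth 100000

namespace Cfsg.Lib.Chev.Ree

open Cfsg.Lie Cfsg.Lib.Chev Cfsg.Lib.Chev.G2Aut
open scoped MatrixGroups

/-- Counting the conjugates of elements of a subgroup controlling their fusion. -/
theorem count_conj {G : Type*} [Group G] [Finite G] (C N : Subgroup G) (i : ℕ)
    (hN : ∀ n ∈ N, ∀ a ∈ C, n * a * n⁻¹ ∈ C)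
    (ht : ∀ a ∈ C, orderOf a = i → ∀ n, n * a * n⁻¹ ∈ C → n ∈ N)
    (hs : ∀ g, orderOf g = i → ∃ x, x * g * x⁻¹ ∈ C) :
    Nat.card {g : G // orderOf g = i} = N.index * Nat.card {a : ↥C // orderOf a = i} := by
  have ho : ∀ (x : G) (a : G), orderOf (x * a * x⁻¹) = orderOf a := fun x a => by
    rw [← MulAut.conj_apply, MulEquiv.orderOf_eq]
  let f : (G ⧸ N) × {a : ↥C // orderOf a = i} → {g : G // orderOf g = i} := fun p =>
    ⟨p.1.out * (p.2.1 : G) * p.1.out⁻¹, by rw [ho, Subgroup.orderOf_coe]; exact p.2.2⟩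
  rw [Subgroup.index, ← Nat.card_prod]
  refine (Nat.card_eq_of_bijective f ⟨?_, ?_⟩).symm
  · rintro ⟨x, ⟨⟨a, ha⟩, hao⟩⟩ ⟨y, ⟨⟨b, hb⟩, hbo⟩⟩ e
    have e' : x.out * a * x.out⁻¹ = y.out * b * y.out⁻¹ := congrArg Subtype.val e
    have hab : y.out⁻¹ * x.out * a * (y.out⁻¹ * x.out)⁻¹ = b := by
      calc y.out⁻¹ * x.out * a * (y.out⁻¹ * x.out)⁻¹ = y.out⁻¹ * (x.out * a * x.out⁻¹) * y.out := by group
        _ = b := by rw [e']; group
    rw [Subgroup.orderOf_mk] at hao
    have hmem : y.out⁻¹ * x.out ∈ N := ht a ha hao _ (hab ▸ hb)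
    have hxy : y = x := by
      rw [← QuotientGroup.out_eq' x, ← QuotientGroup.out_eq' y, QuotientGroup.eq]; exact hmem
    subst hxy
    have : a = b := by rw [← hab]; group
    subst this
    rfl
  · rintro ⟨g, hg⟩
    obtain ⟨x, hx⟩ := hs g hg
    set y : G ⧸ N := QuotientGroup.mk x⁻¹ with hy
    have hn : x * y.out ∈ N := by
      have h1 : (x⁻¹)⁻¹ * y.out ∈ N := QuotientGroup.eq.1 (hy.symm.trans (QuotientGroup.out_eq' y).symm)
      rwa [inv_inv] at h1
    have hc : y.out⁻¹ * g * y.out ∈ C := by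
      have := hN _ (inv_mem hn) _ hx
      rwa [show (x * y.out)⁻¹ * (x * g * x⁻¹) * (x * y.out)⁻¹⁻¹ = y.out⁻¹ * g * y.out by group] at this
    refine ⟨(y, ⟨⟨_, hc⟩, ?_⟩), Subtype.ext ?_⟩
    · rw [Subgroup.orderOf_mk]
      have := ho y.out⁻¹ g
      rwa [inv_inv, hg] at this
    · show y.out * (y.out⁻¹ * g * y.out) * y.out⁻¹ = g
      group

/-- The number of generators of a cyclic subgroup. -/
theorem card_order_cyclic {G : Type*} [Group G] [Finite G] (A : Subgroup G) [IsCyclic A] {i : ℕ} (hi : i ∣ Nat.card A) :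
    Nat.card {a : ↥A // orderOf a = i} = Nat.totient i := by
  classical
  haveI := Fintype.ofFinite A
  rw [Nat.card_eq_fintype_card, Fintype.card_subtype]
  exact IsCyclic.card_orderOf_eq_totient (by rwa [← Nat.card_eq_fintype_card])

variable {K : Type*} [Field K] [Fintype K] [CharP K esymG2.p] {m : ℕ} (hK : Fintype.card K = 3 ^ (2 * m + 1))
include hK

theorem card_gG' : Nat.card ↥(gG K m) = Fintype.card K ^ 3 * ((Fintype.card K - 1) * (Fintype.card K ^ 3 + 1)) := by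
  rw [card_gG hK, hK]

/-- Elements in one of the Hall subgroups. -/
theorem count_hall (hm : 1 ≤ m) {A C : Fin 4 → Subgroup ↥(gG K m)} (h : ToriPack m A C) (j : Fin 4) {i : ℕ} (hi1 : 1 < i)
    (hi : i ∣ torK m j) :
    torN m j * Nat.card {g : ↥(gG K m) // orderOf g = i} = Nat.totient i * Nat.card ↥(gG K m) := by
  haveI := (h.tor j).cyclic
  have hN : ∀ n ∈ Subgroup.normalizer (A j : Set ↥(gG K m)), ∀ a ∈ A j, n * a * n⁻¹ ∈ A j := fun n hn a ha =>
    (Subgroup.mem_normalizer_iff.1 hn a).1 ha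
  rw [count_conj (A j) (Subgroup.normalizer (A j : Set ↥(gG K m))) i hN ?_ ?_,
    card_order_cyclic (A j) ((h.tor j).card.symm ▸ hi), ← Subgroup.card_mul_index (Subgroup.normalizer (A j : Set ↥(gG K m))),
    (h.tor j).card_norm]
  · ring
  · intro a ha hao n hn
    have hne : Subgroup.zpowers a ≠ ⊥ := fun e => by
      rw [Subgroup.zpowers_eq_bot] at e
      rw [e, orderOf_one] at hao
      omega
    rw [← (h.tor j).norm_sub _ (Subgroup.zpowers_le.2 ha) hne]
    have hmap : (Subgroup.zpowers a).map (MulAut.conj n).toMonoidHom = Subgroup.zpowers a := by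
      refine cyclic_sub_unique (A := A j) ?_ (Subgroup.zpowers_le.2 ha)
        (Subgroup.card_map_of_injective (MulAut.conj n).injective)
      rw [MonoidHom.map_zpowers]; exact Subgroup.zpowers_le.2 hn
    refine Subgroup.mem_normalizer_iff.2 fun z => ⟨fun hz => hmap.le ⟨z, hz, rfl⟩, fun hz => ?_⟩
    obtain ⟨y, hy, e⟩ := hmap.ge hz
    rwa [← (MulAut.conj n).injective e]
  · intro g hg
    obtain ⟨c, hc⟩ := hi
    exact conj_torus hK hm h (by rw [hc, pow_mul, ← hg, pow_orderOf_eq_one, one_pow])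

/-- Elements of order dividing `q - 1`. -/
theorem count_split (hm : 1 ≤ m) {i : ℕ} (hi2 : 2 < i) (hi : i ∣ 3 ^ (2 * m + 1) - 1) :
    2 * (3 ^ (2 * m + 1) - 1) * Nat.card {g : ↥(gG K m) // orderOf g = i} = Nat.totient i * Nat.card ↥(gG K m) := by
  obtain ⟨A, C, h, hC0, -, -⟩ := exists_pack hK hm
  obtain ⟨h27, h8, -⟩ := tor_arith hm
  obtain ⟨n₀, hn₀⟩ := G2Aut.exists_long hK
  haveI := cyclic_torT (m := m) hK
  have hle : A 0 ≤ torT hK := hC0 ▸ (h.tor 0).le
  have hAne : A 0 ≠ ⊥ := fun e => by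
    have := (h.tor 0).card
    rw [e, Subgroup.card_bot] at this
    simp [torK] at this; omega
  have hN : ∀ n ∈ Subgroup.normalizer (A 0 : Set ↥(gG K m)), ∀ a ∈ torT hK, n * a * n⁻¹ ∈ torT hK := by
    intro n hn a ha
    obtain ⟨⟨x, hx⟩, hx1⟩ := (A 0).ne_bot_iff_exists_ne_one.1 hAne
    have := norm_le_cent hx (fun e => hx1 (Subtype.ext e)) (fun y hy hy1 => (h.tor 0).cent y hy hy1) hn
    rw [hC0] at this
    exact (Subgroup.mem_normalizer_iff.1 this a).1 ha
  rw [count_conj (torT hK) (Subgroup.normalizer (A 0 : Set ↥(gG K m))) i hN ?_ ?_,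
    card_order_cyclic (torT hK) (by rw [card_torT]; exact hi),
    ← Subgroup.card_mul_index (Subgroup.normalizer (A 0 : Set ↥(gG K m))), (h.tor 0).card_norm]
  · simp [torN]; ring
  · rintro _ ⟨s, rfl⟩ hao n ⟨s', hs'⟩
    have hs : s ^ 2 ≠ 1 := fun e => by
      have hd : orderOf (eT (m := m) hK s) ∣ 2 := orderOf_dvd_of_pow_eq_one (by rw [pow_two, ← eT_mul, ← pow_two, e, eT_one])
      rw [show orderOf (eT (m := m) hK s) = i from hao] at hd
      have := Nat.le_of_dvd two_pos hd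
      omega
    obtain ⟨⟨x, hx⟩, hx1⟩ := (A 0).ne_bot_iff_exists_ne_one.1 hAne
    -- elements of the torus and the long element normalise
    have hT : torT hK ≤ Subgroup.normalizer (A 0 : Set ↥(gG K m)) := fun t ht => Subgroup.mem_normalizer_iff.2 fun z => by
      constructor
      · intro hz
        rw [((h.comm 0) t (hC0 ▸ ht) z ((h.tor 0).le hz)).eq, mul_inv_cancel_right]; exact hz
      · intro hz
        have := (h.comm 0) t⁻¹ (hC0 ▸ inv_mem ht) _ ((h.tor 0).le hz)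
        rw [show z = t⁻¹ * (t * z * t⁻¹) * t by group, this.eq, inv_mul_cancel_right]; exact hz
    rcases eT_transporter hK hn₀ hs hs'.symm with h1 | ⟨z, rfl⟩
    · exact hT h1
    · refine mul_mem (hT ⟨z, rfl⟩) (Subgroup.mem_normalizer_iff.2 fun y => ?_)
      constructor
      · intro hy
        obtain ⟨w, rfl⟩ := hle hy
        show n₀ * eT hK w * n₀⁻¹ ∈ A 0
        rw [long_inv hK hn₀, eT_inv]; exact inv_mem hy
      · intro hy
        obtain ⟨w, hw⟩ := hle hy
        have hw' : eT hK w = n₀ * y * n₀⁻¹ := hw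
        have : y = (eT hK w)⁻¹ := by
          rw [← eT_inv, show y = n₀⁻¹ * (n₀ * y * n₀⁻¹) * n₀ by group, ← hw']
          have h2 := long_inv hK hn₀ w⁻¹
          rw [inv_inv] at h2
          rw [← h2]; group
        rw [this, hw']; exact inv_mem hy
  · intro g hg
    obtain ⟨p, hp, hp2, hpi⟩ : ∃ p, p.Prime ∧ p ≠ 2 ∧ p ∣ i := by
      by_contra hcon
      push Not at hcon
      have h2 : i = 2 ^ i.primeFactorsList.length :=
        Nat.eq_prime_pow_of_unique_prime_dvd (by omega) fun {d} hd hdi => by_contra fun hd2 => hcon d hd hd2 hdi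
      have h4 : 4 ∣ i := by
        rw [h2]
        refine pow_dvd_pow (m := 2) 2 ?_
        by_contra hlt
        have : 2 ^ i.primeFactorsList.length ≤ 2 ^ 1 := Nat.pow_le_pow_right two_pos (by omega)
        omega
      have := h4.trans hi
      omega
    have hpk : p ∣ torK m 0 := by
      have hpq := hpi.trans hi
      rw [← Nat.div_mul_cancel (show 2 ∣ 3 ^ (2 * m + 1) - 1 by omega)] at hpq
      exact (hp.dvd_mul.1 hpq).resolve_right fun h2 => hp2 ((Nat.prime_dvd_prime_iff_eq hp Nat.prime_two).1 h2)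
    obtain ⟨x, hx⟩ := conj_cent hK hm h hp hpk (hg ▸ hpi)
    exact ⟨x, hC0 ▸ hx⟩

theorem four_ne : invA hK ≠ reeSL hK SLTwoRel.rot ∧ reeSL hK SLTwoRel.rot ≠ invA hK * reeSL hK SLTwoRel.rot ∧
    invA hK ≠ invA hK * reeSL hK SLTwoRel.rot ∧ reeSL hK SLTwoRel.rot ≠ 1 := by
  have hI : reeSL hK SLTwoRel.rot ≠ 1 := fun e => by
    rw [← map_one (reeSL hK), reeSL_eq_iff] at e
    rcases e with h | h <;>
      · have := congrArg (fun X : SL(2, K) => X.1 0 1) h
        simp [SLTwoRel.coe_rot] at this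
  exact ⟨fun e => invA_not_range hK _ e.symm, fun e => invA_ne_one hK (mul_eq_right.1 e.symm),
    fun e => hI (mul_eq_left.1 e.symm), hI⟩

set_option maxHeartbeats 1000000 in
/-- Elements of twice an order dividing `(q + 1) / 4`. -/
theorem count_double (hm : 1 ≤ m) {i : ℕ} (hi1 : 1 < i) (hi : i ∣ (3 ^ (2 * m + 1) + 1) / 4) :
    2 * (3 ^ (2 * m + 1) + 1) * Nat.card {g : ↥(gG K m) // orderOf g = 2 * i} = Nat.totient i * Nat.card ↥(gG K m) := by
  classical
  obtain ⟨A, C, h, -, hC1, -⟩ := exists_pack hK hm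
  obtain ⟨h27, h8, -⟩ := tor_arith hm
  haveI := (h.tor 1).cyclic
  have hle : A 1 ≤ dTor hK := hC1 ▸ (h.tor 1).le
  have hk : torK m 1 = (3 ^ (2 * m + 1) + 1) / 4 := rfl
  have hodd : i % 2 = 1 := by
    obtain ⟨c, hc⟩ := hi
    have hk2 : (3 ^ (2 * m + 1) + 1) / 4 % 2 = 1 := by omega
    rw [hc, Nat.mul_mod] at hk2
    rcases Nat.mod_two_eq_zero_or_one i with h0 | h0
    · simp [h0] at hk2
    · exact h0
  have hAne : A 1 ≠ ⊥ := fun e => by
    have := (h.tor 1).card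
    rw [e, Subgroup.card_bot, hk] at this
    omega
  have hN : ∀ n ∈ Subgroup.normalizer (A 1 : Set ↥(gG K m)), ∀ a ∈ dTor hK, n * a * n⁻¹ ∈ dTor hK := by
    intro n hn a ha
    obtain ⟨⟨x, hx⟩, hx1⟩ := (A 1).ne_bot_iff_exists_ne_one.1 hAne
    have := norm_le_cent hx (fun e => hx1 (Subtype.ext e)) (fun y hy hy1 => (h.tor 1).cent y hy hy1) hn
    rw [hC1] at this
    exact (Subgroup.mem_normalizer_iff.1 this a).1 ha
  have hsq : ∀ a ∈ dTor hK, orderOf a = 2 * i → a ^ 2 ∈ A 1 ∧ orderOf (a ^ 2) = i := by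
    intro a ha hao
    have ho : orderOf (a ^ 2) = i := by
      rw [orderOf_pow_of_dvd two_ne_zero (hao ▸ dvd_mul_right _ _), hao, Nat.mul_div_cancel_left _ two_pos]
    refine ⟨h.mem 1 _ (hC1.symm ▸ pow_mem ha 2) ?_, ho⟩
    obtain ⟨c, hc⟩ := hi
    rw [hk, hc, pow_mul, ← ho, pow_orderOf_eq_one, one_pow]
  have hcount : Nat.card {a : ↥(dTor hK) // orderOf a = 2 * i} = 3 * Nat.totient i := by
    obtain ⟨hn1, hn2, hn3, hn4⟩ := four_ne hK
    let v : Fin 3 → ↥(gG K m) := ![invA hK, reeSL hK SLTwoRel.rot, invA hK * reeSL hK SLTwoRel.rot]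
    have hv : ∀ j, v j ∈ fourGrp hK := by
      intro j; fin_cases j
      exacts [invA_mem_four hK, rot_mem_four hK, mul_mem (invA_mem_four hK) (rot_mem_four hK)]
    have hv1 : ∀ j, v j ≠ 1 := by
      intro j; fin_cases j
      · exact invA_ne_one hK
      · exact hn4
      · intro e
        have e' : invA hK * reeSL hK SLTwoRel.rot = 1 := e
        exact hn1 ((mul_eq_one_iff_eq_inv.1 e').trans (inv_eq_of_mul_eq_one_left (rot_invol hK)))
    have hvinj : Function.Injective v := by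
      intro a b e; fin_cases a <;> fin_cases b <;>
        first | rfl | exact absurd e hn1 | exact absurd e.symm hn1 | exact absurd e hn2 | exact absurd e.symm hn2 | exact absurd e hn3 | exact absurd e.symm hn3
    have hb2 : ∀ {b : ↥(gG K m)}, orderOf b = i → ∀ {w : ↥(gG K m)}, w * w = 1 → Commute w b →
        (w * b) ^ i = w := fun {b} hb {w} hw hc => by
      rw [hc.mul_pow, ← hb, pow_orderOf_eq_one, mul_one, hb, ← Nat.mod_add_div i 2, hodd, pow_add, pow_one, pow_mul,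
        pow_two, hw, one_pow, mul_one]
    let f : Fin 3 × {b : ↥(A 1) // orderOf b = i} → {a : ↥(dTor hK) // orderOf a = 2 * i} := fun p =>
      ⟨⟨v p.1 * (p.2.1 : ↥(gG K m)), mul_mem (hv p.1).1 (hle p.2.1.2)⟩, by
        have hb : orderOf (p.2.1 : ↥(gG K m)) = i := by rw [Subgroup.orderOf_coe]; exact p.2.2
        have hw : orderOf (v p.1) = 2 := orderOf_eq_prime (p := 2) (by rw [pow_two]; exact (hv p.1).2) (hv1 p.1)
        rw [Subgroup.orderOf_mk, (dTor_comm hK (hv p.1).1 (hle p.2.1.2)).orderOf_mul_eq_mul_orderOf_of_coprime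
          (by rw [hw, hb, Nat.coprime_two_left, Nat.odd_iff]; exact hodd), hw, hb]⟩
    rw [← Nat.card_eq_of_bijective f ⟨?_, ?_⟩, Nat.card_prod, Nat.card_fin,
      card_order_cyclic (A 1) ((h.tor 1).card.symm ▸ hi)]
    · rintro ⟨j, ⟨⟨b, hb⟩, hbo⟩⟩ ⟨k, ⟨⟨c, hc⟩, hco⟩⟩ e
      have e' : v j * b = v k * c := congrArg (fun z : {a : ↥(dTor hK) // orderOf a = 2 * i} => (z.1 : ↥(gG K m))) e
      rw [Subgroup.orderOf_mk] at hbo hco
      have e2 := congrArg (· ^ i) e'
      simp only [hb2 hbo (hv j).2 (dTor_comm hK (hv j).1 (hle hb)), hb2 hco (hv k).2 (dTor_comm hK (hv k).1 (hle hc))] at e2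
      obtain rfl := hvinj e2
      obtain rfl := mul_left_cancel e'
      rfl
    · rintro ⟨⟨a, ha⟩, hao⟩
      rw [Subgroup.orderOf_mk] at hao
      have hw2 : a ^ i * a ^ i = 1 := by rw [← pow_add, ← two_mul, ← hao, pow_orderOf_eq_one]
      have hw1 : a ^ i ≠ 1 := fun e => by
        have := Nat.le_of_dvd (by omega) (orderOf_dvd_of_pow_eq_one e); omega
      obtain ⟨j, hj⟩ : ∃ j, v j = a ^ i := by
        rcases four_cases hK ⟨pow_mem ha i, hw2⟩ with e | e | e | e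
        · exact absurd e hw1
        · exact ⟨0, e.symm⟩
        · exact ⟨1, e.symm⟩
        · exact ⟨2, e.symm⟩
      obtain ⟨r, hr⟩ : ∃ r, i + 1 = 2 * r := ⟨(i + 1) / 2, by omega⟩
      have hb : a ^ (i + 1) ∈ A 1 := by rw [hr, pow_mul]; exact pow_mem (hsq a ha hao).1 r
      refine ⟨(j, ⟨⟨_, hb⟩, ?_⟩), Subtype.ext (Subtype.ext ?_)⟩
      · rw [Subgroup.orderOf_mk, hr, pow_mul]
        have hc2 : Nat.Coprime i (i + 1) := (Nat.coprime_self_add_right (m := i) (n := 1)).2 (Nat.coprime_one_right i)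
        rw [hr] at hc2
        have hc3 : (orderOf (a ^ 2)).Coprime r := by rw [(hsq a ha hao).2]; exact hc2.coprime_mul_left_right
        rw [hc3.orderOf_pow, (hsq a ha hao).2]
      · show v j * a ^ (i + 1) = a
        rw [hj, pow_succ, ← mul_assoc, hw2, one_mul]
  rw [count_conj (dTor hK) (Subgroup.normalizer (A 1 : Set ↥(gG K m))) (2 * i) hN ?_ ?_, hcount,
    ← Subgroup.card_mul_index (Subgroup.normalizer (A 1 : Set ↥(gG K m))), (h.tor 1).card_norm]
  · simp [torN]; ring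
  · intro a ha hao n hn
    obtain ⟨h1, h2⟩ := hsq a ha hao
    obtain ⟨h3, -⟩ := hsq (n * a * n⁻¹) hn (by rw [← MulAut.conj_apply, MulEquiv.orderOf_eq]; exact hao)
    rw [conj_pow] at h3
    have hne : Subgroup.zpowers (a ^ 2) ≠ ⊥ := fun e => by
      rw [Subgroup.zpowers_eq_bot] at e
      rw [e, orderOf_one] at h2; omega
    rw [← (h.tor 1).norm_sub _ (Subgroup.zpowers_le.2 h1) hne]
    have hmap : (Subgroup.zpowers (a ^ 2)).map (MulAut.conj n).toMonoidHom = Subgroup.zpowers (a ^ 2) := by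
      refine cyclic_sub_unique (A := A 1) ?_ (Subgroup.zpowers_le.2 h1) (Subgroup.card_map_of_injective (MulAut.conj n).injective)
      rw [MonoidHom.map_zpowers]; exact Subgroup.zpowers_le.2 h3
    refine Subgroup.mem_normalizer_iff.2 fun z => ⟨fun hz => hmap.le ⟨z, hz, rfl⟩, fun hz => ?_⟩
    obtain ⟨y, hy, e⟩ := hmap.ge hz
    rwa [← (MulAut.conj n).injective e]
  · intro g hg
    obtain ⟨p, hp, hpi⟩ := Nat.exists_prime_and_dvd hi1.ne'
    obtain ⟨x, hx⟩ := conj_cent hK hm h hp (i := 1) (hpi.trans hi) (hg.symm ▸ hpi.mul_left 2)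
    exact ⟨x, hC1 ▸ hx⟩

/-- Involutions. -/
theorem count_two : (Fintype.card K * (Fintype.card K ^ 2 - 1)) * Nat.card {g : ↥(gG K m) // orderOf g = 2} =
    Nat.card ↥(gG K m) := by
  have h1 : Nat.card {a : ↥(Subgroup.zpowers (invA hK)) // orderOf a = 2} = 1 := by
    rw [card_order_cyclic _ (by rw [Nat.card_zpowers, orderOf_invA])]; rfl
  have h2 : ∀ {a}, a ∈ Subgroup.zpowers (invA hK) → a = 1 ∨ a = invA hK := by
    intro a ha
    obtain ⟨j, rfl⟩ := mem_powers_iff_mem_zpowers.2 ha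
    show invA hK ^ j = 1 ∨ invA hK ^ j = invA hK
    rw [← Nat.mod_add_div j 2, pow_add, pow_mul, pow_two, invA_sq, one_pow, mul_one]
    rcases Nat.mod_two_eq_zero_or_one j with h | h <;> simp [h]
  rw [count_conj (Subgroup.zpowers (invA hK)) (Subgroup.centralizer {invA hK}) 2 ?_ ?_ ?_, h1, mul_one,
    ← card_centralizer hK, Subgroup.card_mul_index]
  · intro n hn a ha
    obtain ⟨j, rfl⟩ := mem_powers_iff_mem_zpowers.2 ha
    show n * invA hK ^ j * n⁻¹ ∈ _
    rw [← conj_pow, mul_inv_eq_iff_eq_mul.2 (Subgroup.mem_centralizer_singleton_iff.1 hn)]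
    exact pow_mem (Subgroup.mem_zpowers _) j
  · intro a ha hao n hn
    have ha' : a = invA hK := (h2 ha).resolve_left fun e => by rw [e, orderOf_one] at hao; omega
    subst ha'
    exact Subgroup.mem_centralizer_singleton_iff.2 (mul_inv_eq_iff_eq_mul.1
      ((h2 hn).resolve_left fun e => invA_ne_one hK (conj_eq_one_iff.1 e)))
  · intro g hg
    obtain ⟨x, hx⟩ := invol_conj hK (x := g) (by rw [← pow_two, ← hg, pow_orderOf_eq_one]) fun e => by
      rw [e, orderOf_one] at hg; omega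
    exact ⟨x⁻¹, by rw [← hx]; group; exact Subgroup.mem_zpowers _⟩

theorem pos_transporter {a n : ↥(gG K m)} (ha : a ∈ posG K m) (ha1 : a ≠ 1) (hn : n * a * n⁻¹ ∈ posG K m) :
    n ∈ borG K m := by
  obtain ⟨w, hw⟩ := G2Aut.exists_long hK
  rcases hw.cells n with hb | ⟨b, hb, c, hc, rfl⟩
  · exact hb
  exfalso
  have h1 : b⁻¹ * (b * w * c * a * (b * w * c)⁻¹) * b⁻¹⁻¹ ∈ posG K m := bor_norm (inv_mem hb) hn
  rw [show b⁻¹ * (b * w * c * a * (b * w * c)⁻¹) * b⁻¹⁻¹ = w * (c * a * c⁻¹) * w⁻¹ by group] at h1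
  have h2 := bor_neg (pos_le_bor h1) (hw.pos_neg _ (mul_mem (mul_mem hc ha) (inv_mem hc))).1
  exact ha1 (conj_eq_one_iff.1 (conj_eq_one_iff.1 h2))

theorem bor_three {b : ↥(gG K m)} (hb : b ∈ borG K m) (h3 : b ^ 3 = 1) : b ∈ posG K m := by
  obtain ⟨u, hu, z, rfl⟩ := borG_parts hK hb
  have hB : eT hK z ∈ borG K m := Subgroup.mem_subgroupOf.2 (Subgroup.mem_sup_right (eT_mem hK z))
  set t := eT hK z with ht
  have e : (u * t) ^ 3 = u * (t * u * t⁻¹) * (t * (t * u * t⁻¹) * t⁻¹) * t ^ 3 := by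
    simp only [pow_succ, pow_zero, one_mul]; group
  rw [h3] at e
  have h1 : t ^ 3 ∈ posG K m := by
    rw [show t ^ 3 = (u * (t * u * t⁻¹) * (t * (t * u * t⁻¹) * t⁻¹))⁻¹ from eq_inv_of_mul_eq_one_right e.symm]
    exact inv_mem (mul_mem (mul_mem hu (bor_norm hB hu)) (bor_norm hB (bor_norm hB hu)))
  have h2 : ((t ^ 3 : ↥(gG K m)) : GL chevG2.Idx K) ∈ chevG2.posUnipotent K ⊓ chevG2.diagonalSubgroup K :=
    ⟨Subgroup.mem_subgroupOf.1 h1, by simp only [SubgroupClass.coe_pow]; exact Subgroup.pow_mem _ (eT_mem hK z) 3⟩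
  rw [pos_inf_diag certG2C, Subgroup.mem_bot] at h2
  have h4 : eT hK (z * z * z) = eT hK 1 := by
    rw [eT_mul, eT_mul, eT_one, ← ht]
    have : t ^ 3 = 1 := Subtype.ext h2
    simpa [pow_succ] using this
  have hz : z = 1 := Units.ext (by
    haveI : CharP K 3 := inferInstanceAs (CharP K esymG2.p)
    haveI : Fact (Nat.Prime 3) := ⟨Nat.prime_three⟩
    have h5 := congrArg (fun y : Kˣ => (y : K)) (eT_injective hK h4)
    simp only [Units.val_mul, Units.val_one] at h5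
    have h6 : ((z : K) - 1) ^ 3 = 0 := by
      rw [sub_pow_char, one_pow, pow_succ, pow_two, h5, sub_self]
    rw [Units.val_one]
    exact sub_eq_zero.1 (pow_eq_zero_iff three_ne_zero |>.1 h6))
  rw [ht, hz, eT_one, mul_one]; exact hu

theorem index_borG : (borG K m).index * (Fintype.card K ^ 3 * (Fintype.card K - 1)) = Nat.card ↥(gG K m) := by
  have hB : Nat.card ↥(borG K m) = Fintype.card K ^ 3 * (Fintype.card K - 1) := by
    let f : (K × K × K) × Kˣ → ↥(borG K m) := fun p =>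
      ⟨eU hK p.1.1 p.1.2.1 p.1.2.2 * eT hK p.2,
        mul_mem (pos_le_bor (eU_mem hK _ _ _)) (Subgroup.mem_subgroupOf.2 (Subgroup.mem_sup_right (eT_mem hK _)))⟩
    rw [← Nat.card_eq_of_bijective f ⟨?_, ?_⟩]
    · rw [Nat.card_prod, Nat.card_prod, Nat.card_prod, Nat.card_units, Nat.card_eq_fintype_card]; ring
    · rintro ⟨⟨t, u, v⟩, z⟩ ⟨⟨t', u', v'⟩, z'⟩ e
      have e' : eU hK t u v * eT hK z = eU hK t' u' v' * eT hK z' := congrArg Subtype.val e
      have e2 : (eU hK t' u' v')⁻¹ * eU hK t u v = eT hK (z' * z⁻¹) := by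
        rw [eT_mul, eT_inv, eq_mul_inv_iff_mul_eq, mul_assoc, e']; group
      have h1 : ((eT hK (z' * z⁻¹) : ↥(gG K m)) : GL chevG2.Idx K) ∈ chevG2.posUnipotent K ⊓ chevG2.diagonalSubgroup K :=
        ⟨Subgroup.mem_subgroupOf.1 (e2 ▸ mul_mem (inv_mem (eU_mem hK _ _ _)) (eU_mem hK _ _ _)), eT_mem hK _⟩
      rw [pos_inf_diag certG2C, Subgroup.mem_bot] at h1
      have h2 : z' * z⁻¹ = 1 := eT_injective hK (by rw [eT_one]; exact Subtype.ext h1)
      obtain rfl := mul_inv_eq_one.1 h2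
      obtain ⟨rfl, rfl, rfl⟩ := eU_inj hK (mul_right_cancel e')
      rfl
    · rintro ⟨g, hg⟩
      obtain ⟨w, hw, z, rfl⟩ := borG_parts hK hg
      obtain ⟨t, u, v, rfl⟩ := exists_eU hK hw
      exact ⟨((t, u, v), z), rfl⟩
  rw [← hB, mul_comm, Subgroup.card_mul_index]

/-- Elements of orders three and nine. -/
theorem count_three_nine :
    Fintype.card K ^ 3 * (Fintype.card K - 1) * Nat.card {g : ↥(gG K m) // orderOf g = 3} =
      (Fintype.card K ^ 2 - 1) * Nat.card ↥(gG K m) ∧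
    Fintype.card K ^ 3 * (Fintype.card K - 1) * Nat.card {g : ↥(gG K m) // orderOf g = 9} =
      ((Fintype.card K - 1) * Fintype.card K ^ 2) * Nat.card ↥(gG K m) := by
  classical
  haveI : Fact (Nat.Prime 3) := ⟨Nat.prime_three⟩
  have hN : ∀ n ∈ borG K m, ∀ a ∈ posG K m, n * a * n⁻¹ ∈ posG K m := fun n hn a ha => bor_norm hn ha
  have key : ∀ j, j = 1 ∨ j = 2 → Fintype.card K ^ 3 * (Fintype.card K - 1) * Nat.card {g : ↥(gG K m) // orderOf g = 3 ^ j} =
      Nat.card {a : ↥(posG K m) // orderOf a = 3 ^ j} * Nat.card ↥(gG K m) := by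
    intro j hj
    rw [count_conj (posG K m) (borG K m) (3 ^ j) hN ?_ ?_, ← index_borG hK]
    · ring
    · intro a ha hao n hn
      refine pos_transporter hK ha (fun e => ?_) hn
      rw [e, orderOf_one] at hao
      rcases hj with rfl | rfl <;> norm_num at hao
    · intro g hg
      exact exists_conj_pos hK (k := j) (by rw [← hg, pow_orderOf_eq_one])
  have h3 : Nat.card {a : ↥(posG K m) // orderOf a = 3 ^ 1} = Fintype.card K ^ 2 - 1 := by
    let f : {p : K × K // p ≠ (0, 0)} → {a : ↥(posG K m) // orderOf a = 3 ^ 1} := fun p =>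
      ⟨⟨eU hK 0 p.1.1 p.1.2, eU_mem hK _ _ _⟩, by
        rw [Subgroup.orderOf_mk, pow_one]
        exact orderOf_eq_prime (eU_zero_cube hK _ _) fun e => p.2 (by
          obtain ⟨-, a, b⟩ := eU_inj hK (e.trans (eU_zero hK).symm); exact Prod.ext a b)⟩
    rw [← Nat.card_eq_of_bijective f ⟨?_, ?_⟩, Nat.card_eq_fintype_card, Fintype.card_subtype_compl,
      Fintype.card_subtype_eq, Fintype.card_prod, pow_two]
    · rintro ⟨⟨a, b⟩, _⟩ ⟨⟨c, d⟩, _⟩ e
      obtain ⟨-, rfl, rfl⟩ := eU_inj hK (congrArg (fun z : {a : ↥(posG K m) // orderOf a = 3 ^ 1} => (z.1 : ↥(gG K m))) e)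
      rfl
    · rintro ⟨⟨g, hg⟩, ho⟩
      obtain ⟨t, u, v, rfl⟩ := exists_eU hK hg
      rw [Subgroup.orderOf_mk, pow_one] at ho
      obtain rfl := (cube_iff hK t u v).1 (by rw [← ho, pow_orderOf_eq_one])
      refine ⟨⟨(u, v), fun e => ?_⟩, rfl⟩
      obtain ⟨rfl, rfl⟩ := Prod.mk_inj.1 e
      rw [eU_zero, orderOf_one] at ho; omega
  have h9 : Nat.card {a : ↥(posG K m) // orderOf a = 3 ^ 2} = (Fintype.card K - 1) * Fintype.card K ^ 2 := by
    let f : Kˣ × K × K → {a : ↥(posG K m) // orderOf a = 3 ^ 2} := fun p =>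
      ⟨⟨eU hK (p.1 : K) p.2.1 p.2.2, eU_mem hK _ _ _⟩, by
        rw [Subgroup.orderOf_mk]
        exact orderOf_eq_prime_pow (n := 1) (by rw [pow_one, cube_iff hK]; exact p.1.ne_zero) (pos_nine hK (eU_mem hK _ _ _))⟩
    rw [← Nat.card_eq_of_bijective f ⟨?_, ?_⟩, Nat.card_prod, Nat.card_prod, Nat.card_units,
      Nat.card_eq_fintype_card (α := K), pow_two]
    · rintro ⟨a, b, c⟩ ⟨a', b', c'⟩ e
      obtain ⟨h1, rfl, rfl⟩ := eU_inj hK (congrArg (fun z : {a : ↥(posG K m) // orderOf a = 3 ^ 2} => (z.1 : ↥(gG K m))) e)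
      obtain rfl := Units.ext h1
      rfl
    · rintro ⟨⟨g, hg⟩, ho⟩
      obtain ⟨t, u, v, rfl⟩ := exists_eU hK hg
      rw [Subgroup.orderOf_mk] at ho
      have ht : t ≠ 0 := fun e => by
        subst e
        have := orderOf_dvd_of_pow_eq_one (eU_zero_cube hK u v)
        rw [ho] at this; norm_num at this
      exact ⟨(Units.mk0 t ht, u, v), rfl⟩
  exact ⟨h3 ▸ key 1 (Or.inl rfl), h9 ▸ key 2 (Or.inr rfl)⟩

/-- The elements inverted by the involution. -/
theorem card_inverted :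
    Nat.card {w : ↥(posG K m) // invA hK * (w : ↥(gG K m)) * (invA hK)⁻¹ = (w : ↥(gG K m))⁻¹} = Fintype.card K ^ 2 := by
  set a := invA hK with ha
  have hB : a ∈ borG K m := Subgroup.mem_subgroupOf.2 (Subgroup.mem_sup_right (eT_mem hK _))
  have hU : ∀ u, eU hK 0 u 0 ∈ posG K m := fun u => eU_mem hK _ _ _
  let f : {w : ↥(posG K m) // a * (w : ↥(gG K m)) * a⁻¹ = (w : ↥(gG K m))⁻¹} × K → ↥(posG K m) := fun p =>
    ⟨(p.1.1 : ↥(gG K m)) ^ 5 * eU hK 0 p.2 0, mul_mem (pow_mem p.1.1.2 5) (hU p.2)⟩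
  have hinv : ∀ (w : ↥(gG K m)), a * w * a⁻¹ = w⁻¹ → a * w ^ 5 * a⁻¹ = (w ^ 5)⁻¹ := fun w hw => by
    rw [← conj_pow, hw, inv_pow]
  have hrec : ∀ (w : ↥(gG K m)) (u : K), w ∈ posG K m → a * w * a⁻¹ = w⁻¹ →
      w ^ 5 * eU hK 0 u 0 * (a * (w ^ 5 * eU hK 0 u 0) * a⁻¹)⁻¹ = w := by
    intro w u hw hwi
    have hfix : a * eU hK 0 u 0 * a⁻¹ = eU hK 0 u 0 := (invA_fix hK (hU u)).2 ⟨u, rfl⟩
    rw [show a * (w ^ 5 * eU hK 0 u 0) * a⁻¹ = a * w ^ 5 * a⁻¹ * (a * eU hK 0 u 0 * a⁻¹) by group, hinv w hwi, hfix]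
    calc w ^ 5 * eU hK 0 u 0 * ((w ^ 5)⁻¹ * eU hK 0 u 0)⁻¹
        = w ^ 5 * (eU hK 0 u 0 * (eU hK 0 u 0)⁻¹) * w ^ 5 := by group
      _ = w ^ 9 * w := by rw [mul_inv_cancel, mul_one, ← pow_add, ← pow_succ]
      _ = w := by rw [pos_nine hK hw, one_mul]
  have hf : Function.Bijective f := by
    refine ⟨?_, ?_⟩
    · rintro ⟨⟨⟨w, hw⟩, hwi⟩, u⟩ ⟨⟨⟨w', hw'⟩, hwi'⟩, u'⟩ e
      have e' : w ^ 5 * eU hK 0 u 0 = w' ^ 5 * eU hK 0 u' 0 := congrArg Subtype.val e
      have hww : w = w' := by rw [← hrec w u hw hwi, e', hrec w' u' hw' hwi']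
      subst hww
      have := (eU_inj hK (mul_left_cancel e')).2.1
      subst this
      rfl
    · rintro ⟨x, hx⟩
      set w := x * (a * x * a⁻¹)⁻¹ with hw
      have hwU : w ∈ posG K m := mul_mem hx (inv_mem (bor_norm hB hx))
      have hwi : a * w * a⁻¹ = w⁻¹ := by
        have ha2 : a * a = 1 := invA_sq hK
        rw [hw]
        calc a * (x * (a * x * a⁻¹)⁻¹) * a⁻¹ = a * x * (a * x⁻¹ * (a * a)⁻¹) := by group
          _ = a * x * (a⁻¹ * x⁻¹) := by rw [ha2, inv_one, mul_one, show a⁻¹ = a from invA_inv hK]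
          _ = _ := by group
      have hfixed : a * ((w ^ 5)⁻¹ * x) * a⁻¹ = (w ^ 5)⁻¹ * x := by
        have hax : a * x * a⁻¹ = w⁻¹ * x := by rw [hw]; group
        rw [show a * ((w ^ 5)⁻¹ * x) * a⁻¹ = (a * w ^ 5 * a⁻¹)⁻¹ * (a * x * a⁻¹) by group, hinv w hwi, inv_inv, hax]
        calc w ^ 5 * (w⁻¹ * x) = (w ^ 5)⁻¹ * (w ^ 9 * x) := by
              rw [show w ^ 9 = w ^ 5 * w ^ 4 from pow_add w 5 4, show w ^ 5 = w ^ 4 * w from pow_succ w 4]; group
          _ = _ := by rw [pos_nine hK hwU, one_mul]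
      obtain ⟨u, hu⟩ := (invA_fix hK (mul_mem (inv_mem (pow_mem hwU 5)) hx)).1 hfixed
      exact ⟨(⟨⟨w, hwU⟩, hwi⟩, u), Subtype.ext (by show w ^ 5 * eU hK 0 u 0 = x; rw [← hu, mul_inv_cancel_left])⟩
  have h := Nat.card_eq_of_bijective f hf
  rw [Nat.card_prod, card_posG hK, Nat.card_eq_fintype_card (α := K), ← hK] at h
  refine Nat.eq_of_mul_eq_mul_right (Fintype.card_pos (α := K)) (h.trans ?_)
  ring

/-- Elements of order six. -/
theorem count_six :
    Fintype.card K ^ 3 * (Fintype.card K - 1) * Nat.card {g : ↥(gG K m) // orderOf g = 6} =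
      (Fintype.card K ^ 2 * (Fintype.card K - 1)) * Nat.card ↥(gG K m) := by
  classical
  set a := invA hK with ha
  have hA : a ∈ borG K m := Subgroup.mem_subgroupOf.2 (Subgroup.mem_sup_right (eT_mem hK _))
  have hpow : ∀ g : ↥(gG K m), orderOf g = 6 → g ^ 2 ≠ 1 ∧ (g ^ 2) ^ 3 = 1 := fun g hg => by
    refine ⟨fun e => ?_, by rw [← pow_mul, show 2 * 3 = orderOf g from hg.symm, pow_orderOf_eq_one]⟩
    have := orderOf_dvd_of_pow_eq_one e; rw [hg] at this; norm_num at this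
  have hcount : Nat.card {b : ↥(borG K m) // orderOf b = 6} = Fintype.card K ^ 2 * (Fintype.card K - 1) := by
    let S := {w : ↥(posG K m) // ¬ a * (w : ↥(gG K m)) * a⁻¹ = (w : ↥(gG K m))⁻¹}
    have hS : Nat.card S = Fintype.card K ^ 2 * (Fintype.card K - 1) := by
      haveI := Fintype.ofFinite ↥(posG K m)
      rw [Nat.card_eq_fintype_card, Fintype.card_subtype_compl, ← Nat.card_eq_fintype_card, ← Nat.card_eq_fintype_card,
        card_posG hK, card_inverted hK, hK, Nat.mul_sub, mul_one, ← pow_succ]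
    have hsq : ∀ w : ↥(gG K m), (w * a) ^ 2 = w * (a * w * a⁻¹) := fun w => by rw [pow_two, ha, invA_inv]; group
    let f : S → {b : ↥(borG K m) // orderOf b = 6} := fun w =>
      ⟨⟨(w.1 : ↥(gG K m)) * a, mul_mem (pos_le_bor w.1.2) hA⟩, by
        rw [Subgroup.orderOf_mk]
        set g := (w.1 : ↥(gG K m)) * a with hg
        have h2 : g ^ 2 ≠ 1 := fun e => w.2 (eq_inv_of_mul_eq_one_right (by rw [← hsq]; exact e))
        have h6 : g ^ 6 = 1 := by
          obtain ⟨t, u, v, e⟩ := exists_eU hK w.1.2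
          rw [show 6 = 2 * 3 from rfl, pow_mul, hg, hsq, e, ha, invA_conj]
          obtain ⟨p, r, e'⟩ := eU_mul_fst hK t u v (-t) u (-v)
          rw [e', add_neg_cancel, eU_zero_cube]
        have h3 : g ^ 3 ≠ 1 := fun e => by
          have hgU := bor_three hK (mul_mem (pos_le_bor w.1.2) hA) e
          have haU : a ∈ posG K m := by
            have := mul_mem (inv_mem w.1.2) hgU
            rwa [inv_mul_cancel_left] at this
          have h9 := pos_nine hK haU
          rw [show 9 = 2 * 4 + 1 from rfl, pow_succ, pow_mul, pow_two, invA_sq, one_pow, one_mul] at h9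
          exact invA_ne_one hK h9
        have hd := orderOf_dvd_of_pow_eq_one h6
        have hle := Nat.le_of_dvd (by norm_num) hd
        have hp := orderOf_pos g
        generalize hn : orderOf g = n at hd hle hp
        interval_cases n
        · exact absurd (by rw [orderOf_eq_one_iff.1 hn, one_pow]) h2
        · exact absurd (by rw [← hn, pow_orderOf_eq_one]) h2
        · exact absurd (by rw [← hn, pow_orderOf_eq_one]) h3
        · norm_num at hd
        · norm_num at hd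
        · rfl⟩
    rw [← hS]
    refine (Nat.card_eq_of_bijective f ⟨?_, ?_⟩).symm
    · rintro ⟨⟨w, hw⟩, _⟩ ⟨⟨w', hw'⟩, _⟩ e
      have e' : w * a = w' * a := congrArg (fun z : {b : ↥(borG K m) // orderOf b = 6} => (z.1 : ↥(gG K m))) e
      obtain rfl := mul_right_cancel e'
      rfl
    · rintro ⟨⟨g, hg⟩, ho⟩
      rw [Subgroup.orderOf_mk] at ho
      obtain ⟨h2, h23⟩ := hpow g ho
      rcases bor_cent hK (bor_three hK (pow_mem hg 2) h23) h2 hg (Commute.self_pow g 2).eq with h | ⟨w, hw, rfl⟩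
      · exfalso
        have := orderOf_dvd_of_pow_eq_one (pos_nine hK h)
        rw [ho] at this; norm_num at this
      · refine ⟨⟨⟨w, hw⟩, fun e => h2 ?_⟩, rfl⟩
        rw [hsq, e, mul_inv_cancel]
  rw [count_conj (borG K m) (borG K m) 6 (fun n hn b hb => mul_mem (mul_mem hn hb) (inv_mem hn)) ?_ ?_, hcount,
    ← index_borG hK]
  · ring
  · intro b hb hbo n hn
    obtain ⟨h2, h23⟩ := hpow b hbo
    refine pos_transporter hK (bor_three hK (pow_mem hb 2) h23) h2 ?_
    rw [← conj_pow]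
    exact bor_three hK (pow_mem hn 2) (by rw [conj_pow, conj_pow, h23, mul_one, mul_inv_cancel])
  · intro g hg
    obtain ⟨h2, h23⟩ := hpow g hg
    obtain ⟨x, hx⟩ := exists_conj_pos hK (x := g ^ 2) (k := 1) (by rw [pow_one]; exact h23)
    refine ⟨x, centralizer_three_le hK hx (fun e => h2 (conj_eq_one_iff.1 e)) ?_⟩
    rw [← conj_pow]; exact (Commute.self_pow _ 2).eq

end Cfsg.Lib.Chev.Ree
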