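import Cfsg.Prelude.Def_KGroupFacts
import Cfsg.Agent.Lib.Chev.TwG2AutNorm
import Cfsg.Agent.Lib.Chev.AutOut

/-! The outer automorphisms of ²G₂(q). -/

set_option autoImplicit false
set_option linter.unusedSectionVars false
set_option maxRecDepth 20000

namespace Cfsg.Lib.Chev.G2Aut

open Cfsg.Lie Cfsg.Lib.Chev

variable {K : Type*} [Field K] [Fintype K] [CharP K esymG2.p] {m : ℕ} (hK : Fintype.card K = 3 ^ (2 * m + 1))

include hK

theorem two_ne : (1 : K) + 1 ≠ 0 := by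
  haveI : CharP K 3 := inferInstanceAs (CharP K esymG2.p)
  intro h
  have h3 := CharP.cast_eq_zero K 3
  push_cast at h3
  exact one_ne_zero (α := K) (by linear_combination h3 - h)

theorem eq_zero_of_self_neg {x : K} (h : x = -x) : x = 0 :=
  (mul_eq_zero.1 (show (1 + 1) * x = 0 by linear_combination h)).resolve_left (two_ne hK)

/-- The elements of exponent three. -/
theorem cube_iff (t u v : K) : eU hK t u v ^ 3 = 1 ↔ t = 0 := by
  haveI : Fact (Nat.Prime 3) := ⟨Nat.prime_three⟩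
  constructor
  · intro h
    have h' : reeU m t u v ^ 3 = 1 := congrArg Subtype.val h
    by_cases h1 : reeU m t u v = 1
    · exact (reeU_inj hK (h1.trans (reeU_zero hK).symm)).1
    · exact ((g2_orderOf_three hK t u v).1 (orderOf_eq_prime h' h1)).1
  · rintro rfl
    haveI : CharP K 3 := inferInstanceAs (CharP K esymG2.p)
    have h3 : (3 : K) = 0 := by have := CharP.cast_eq_zero K 3; exact_mod_cast this
    rw [pow_succ, pow_two, eU_mul_zero, eU_mul_zero, show u + u + u = 3 * u by ring, show v + v + v = 3 * v by ring, h3,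
      zero_mul, zero_mul, eU_zero]

theorem eU_one_split (a b : K) : eU hK 1 a b = eU hK 1 a 0 * eU hK 0 0 b := by
  haveI : CharP K 3 := inferInstanceAs (CharP K esymG2.p)
  refine Subtype.ext ?_
  show reeU m 1 a b = reeU m 1 a 0 * reeU m 0 0 b
  have hp : 3 ^ m ≠ 0 := pow_ne_zero _ (by norm_num)
  have hC := xg_commute_mod (p := 3) certG2C fullCertG2.comm (F := K) (show chkCommMod 3 tblG2 9 10 = true by decide +kernel)
  simp only [reeU, g2Six, xg_zero, one_pow, zero_pow hp, add_zero, mul_one, one_mul, zero_pow (Nat.succ_ne_zero _), zero_add]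
  simp only [← xg_add, mul_assoc]
  rw [← mul_assoc (xg certG2C 9 (b ^ 3 ^ m)) (xg certG2C 10 a), (hC _ _).eq, mul_assoc]

theorem cube_one (a b : K) : eU hK 1 a b ^ 3 = eU hK 0 0 (-1) := by
  rw [eU_one_split, (eU_central hK 1 a 0 b).mul_pow, (cube_iff hK 0 0 b).2 rfl, mul_one]
  exact Subtype.ext (g2_cube_unit hK a)

/-- An automorphism keeping both parts acts on the torus. -/
theorem exists_tau {θ : MulAut ↥(gG K m)} (hU : AutKeeps θ (posG K m)) (hV : AutKeeps θ (negG K m)) :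
    ∃ τ : Kˣ → Kˣ, ∀ z, θ (eT hK z) = eT hK (τ z) := by
  have key : ∀ z, ∃ z', θ (eT hK z) = eT hK z' := fun z => torus_of_norm hK (fun x hx => by
      obtain ⟨y, rfl⟩ := θ.surjective x
      rw [← map_inv, ← map_mul, ← map_mul, hU]
      exact bor_norm (Subgroup.mem_subgroupOf.2 (Subgroup.mem_sup_right (eT_mem hK z))) ((hU y).1 hx))
    fun x hx => by
      obtain ⟨y, rfl⟩ := θ.surjective x
      rw [← map_inv, ← map_mul, ← map_mul, hV]
      exact diag_norm_neg (eT_mem hK z) ((hV y).1 hx)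
  choose τ hτ using key
  exact ⟨τ, hτ⟩

/-- An automorphism keeping the positive part acts on the first parameter. -/
theorem exists_fst {θ : MulAut ↥(gG K m)} (hU : AutKeeps θ (posG K m)) :
    ∃ f : K → K, Function.Injective f ∧ (∀ s t, f (s + t) = f s + f t) ∧
      ∀ t u v, ∃ p r, θ (eU hK t u v) = eU hK (f t) p r := by
  have key : ∀ t, ∃ s p r, θ (eU hK t 0 0) = eU hK s p r := fun t => exists_eU hK ((hU _).2 (eU_mem hK t 0 0))
  choose f p r hf using key
  have h0 : ∀ u v, ∃ p r, θ (eU hK 0 u v) = eU hK 0 p r := by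
    intro u v
    obtain ⟨s, p', r', e⟩ := exists_eU hK ((hU _).2 (eU_mem hK 0 u v))
    have h := congrArg θ ((cube_iff hK 0 u v).2 rfl)
    rw [map_pow, map_one, e] at h
    obtain rfl := (cube_iff hK s p' r').1 h
    exact ⟨p', r', e⟩
  have hall : ∀ t u v, ∃ p r, θ (eU hK t u v) = eU hK (f t) p r := by
    intro t u v
    obtain ⟨a, b, e⟩ := eU_split hK t u v
    obtain ⟨p', r', e'⟩ := h0 a b
    rw [e, map_mul, hf, e']
    obtain ⟨U, V, e''⟩ := eU_mul_fst hK (f t) (p t) (r t) 0 p' r'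
    exact ⟨U, V, by rw [e'', add_zero]⟩
  have hadd : ∀ s t, f (s + t) = f s + f t := by
    intro s t
    obtain ⟨U, V, e⟩ := eU_mul_fst hK s 0 0 t 0 0
    obtain ⟨p', r', e'⟩ := hall (s + t) U V
    obtain ⟨U', V', e''⟩ := eU_mul_fst hK (f s) (p s) (r s) (f t) (p t) (r t)
    rw [← e, map_mul, hf, hf, e''] at e'
    exact (eU_inj hK e').1.symm
  refine ⟨f, fun s t e => ?_, hadd, hall⟩
  have hz : f (s - t) = 0 := by
    have := hadd (s - t) t
    rw [sub_add_cancel, e] at this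
    linear_combination -this
  have h1 : θ (eU hK (s - t) 0 0 ^ 3) = 1 := by rw [map_pow, hf]; exact (cube_iff hK _ _ _).2 hz
  exact sub_eq_zero.1 ((cube_iff hK _ 0 0).1 (θ.map_eq_one_iff.1 h1))

/-- The torus equivariance of the first parameter. -/
theorem fst_torus {θ : MulAut ↥(gG K m)} {τ : Kˣ → Kˣ} (hτ : ∀ z, θ (eT hK z) = eT hK (τ z)) {f : K → K}
    (hf : ∀ t u v, ∃ p r, θ (eU hK t u v) = eU hK (f t) p r) (z : Kˣ) (t : K) :
    f ((c6 K m z : Kˣ) * t) = (c6 K m (τ z) : Kˣ) * f t := by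
  obtain ⟨p, r, e⟩ := hf t 0 0
  have h := congrArg θ (eT_conj hK z t 0 0)
  obtain ⟨p', r', e'⟩ := hf (chr tblG2 chevG2 (extend' (g2Par m z)) 6 * t)
    (chr tblG2 chevG2 (extend' (g2Par m z)) 10 * 0) (chr tblG2 chevG2 (extend' (g2Par m z)) 11 * 0)
  rw [map_mul, map_mul, map_inv, hτ, e, eT_conj, e'] at h
  rw [c6_val hK, c6_val hK]
  exact (eU_inj hK h).1.symm

/-- The weight of the third parameter is not additive. -/
theorem not_additive (hm : 1 ≤ m) {ψ : K → K} (hψ : ∀ z : Kˣ, ψ (c6 K m z : Kˣ) = (z : K)) (h0 : ψ 0 = 0)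
    (hadd : ∀ s t, ψ (s + t) = ψ s + ψ t) : False := by
  haveI : CharP K 3 := inferInstanceAs (CharP K esymG2.p)
  have h3 : (3 : K) = 0 := by have := CharP.cast_eq_zero K 3; exact_mod_cast this
  have hpow : ∀ t : K, ψ t = t ^ (3 ^ m * 3 + 2) := by
    intro t
    rcases eq_or_ne t 0 with rfl | ht
    · rw [h0, zero_pow (Nat.succ_ne_zero _)]
    obtain ⟨z, hz⟩ := (c6_bijective hK).2 (Units.mk0 t ht)
    have e : t = ((c6 K m z : Kˣ) : K) := by rw [hz, Units.val_mk0]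
    rw [e, hψ, ← Units.val_pow_eq_pow_val]
    congr 1
    have hq : z ^ ((3 : ℤ) ^ m * (3 * 3 ^ m)) = z := by
      rw [show ((3 : ℤ) ^ m * (3 * 3 ^ m)) = ((3 ^ m * (3 ^ m * 3) : ℕ) : ℤ) by push_cast; ring, zpow_natCast, pow_mul]
      exact Units.ext (by rw [Units.val_pow_eq_pow_val, Units.val_pow_eq_pow_val]; exact g2_theta hK _)
    show z = (z ^ ((-3 : ℤ) * 3 ^ m + 2)) ^ (3 ^ m * 3 + 2)
    rw [← zpow_natCast, ← zpow_mul, show ((-3 : ℤ) * 3 ^ m + 2) * ((3 ^ m * 3 + 2 : ℕ) : ℤ) =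
      4 + -(((3 : ℤ) ^ m * (3 * 3 ^ m)) * 3) by push_cast; ring, zpow_add, zpow_neg, zpow_mul, hq,
      show ((4 : ℤ)) = ((3 + 1 : ℕ) : ℤ) by norm_num, zpow_natCast, pow_succ,
      show z ^ (3 : ℤ) = z ^ (3 : ℕ) from zpow_natCast z 3, mul_comm (z ^ 3) z, mul_inv_cancel_right]
  have h1 : ∀ t : K, t ^ (3 ^ m * 3) = t := by
    intro t
    by_cases ht : t = 1
    · rw [ht, one_pow]
    have e := hadd t 1
    simp only [hpow, one_pow] at e
    have hN : (t + 1) ^ (3 ^ m * 3) = t ^ (3 ^ m * 3) + 1 := by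
      rw [← pow_succ, g2_add_pow, one_pow]
    rw [pow_add, pow_add, hN] at e
    have : (t - 1) * (t - t ^ (3 ^ m * 3)) = 0 := by linear_combination e + (-t - t ^ (3 ^ m * 3) * t) * h3
    exact (sub_eq_zero.1 ((mul_eq_zero.1 this).resolve_left (sub_ne_zero.2 ht))).symm
  have h2 : ∀ t : K, t ^ 3 = t := fun t => by
    have e : t ^ 3 ^ m = t := (h1 _).symm.trans (g2_theta hK t)
    have := h1 t
    rwa [pow_mul, e] at this
  obtain ⟨z, hz⟩ : ∃ z : Kˣ, z ^ 2 ≠ 1 := by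
    classical
    by_contra hno
    push Not at hno
    have hsub : (Finset.univ : Finset Kˣ) ⊆ {1, -1} := fun z _ => by
      rcases sq_eq_one_iff.1 (show ((z : Kˣ) : K) ^ 2 = 1 by rw [← Units.val_pow_eq_pow_val, hno z, Units.val_one]) with e | e
      · simp [Units.ext_iff, e]
      · simp [Units.ext_iff, e]
    have := (Finset.card_le_card hsub).trans (Finset.card_le_two)
    rw [Finset.card_univ, Fintype.card_units, hK] at this
    have h27 : 3 ^ 3 ≤ 3 ^ (2 * m + 1) := Nat.pow_le_pow_right (by norm_num) (by omega)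
    omega
  refine hz (Units.ext ?_)
  rw [Units.val_pow_eq_pow_val, Units.val_one]
  refine mul_left_cancel₀ z.ne_zero ?_
  rw [mul_one, ← pow_succ']
  exact h2 _

/-- An automorphism keeping both parts, trivial on the first parameter, is trivial. -/
theorem rigid (hm : 1 ≤ m) {θ : MulAut ↥(gG K m)} (hU : AutKeeps θ (posG K m)) (hV : AutKeeps θ (negG K m))
    (h1 : ∀ t, ∃ p r, θ (eU hK t 0 0) = eU hK t p r) : θ = 1 := by
  obtain ⟨τ, hτ⟩ := exists_tau hK hU hV
  obtain ⟨f, -, -, hf⟩ := exists_fst hK hU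
  have hfid : ∀ t, f t = t := fun t => by
    obtain ⟨p, r, e⟩ := h1 t
    obtain ⟨p', r', e'⟩ := hf t 0 0
    exact (eU_inj hK (e'.symm.trans e)).1
  have hT : ∀ z, θ (eT hK z) = eT hK z := fun z => by
    have := fst_torus hK hτ hf z 1
    rw [hfid, hfid, mul_one, mul_one] at this
    rw [hτ, ← (c6_bijective hK).1 (Units.ext this)]
  obtain ⟨s6, s10, s11⟩ := signs (K := K) (m := m) hK
  have hneg : ∀ {t u v p r : K}, θ (eU hK t u v) = eU hK t p r → θ (eU hK (-t) u (-v)) = eU hK (-t) p (-r) := by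
    intro t u v p r e
    have := congrArg θ (eT_conj hK (-1 : Kˣ) t u v)
    rw [map_mul, map_mul, map_inv, hT, e, eT_conj, s6, s10, s11] at this
    simpa using this.symm
  -- the centre
  have hzero : ∀ u v, ∃ p r, θ (eU hK 0 u v) = eU hK 0 p r := fun u v => by
    obtain ⟨p, r, e⟩ := hf 0 u v
    exact ⟨p, r, by rw [e, hfid]⟩
  have hinv : ∀ u v : K, (eU hK 0 u v)⁻¹ = eU hK 0 (-u) (-v) := fun u v =>
    inv_eq_of_mul_eq_one_right (by rw [eU_mul_zero, add_neg_cancel, add_neg_cancel, eU_zero])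
  have hZ : ∀ v, θ (eU hK 0 0 v) = eU hK 0 0 v := by
    have hm1 : θ (eU hK 0 0 (-1)) = eU hK 0 0 (-1) := by
      obtain ⟨p, r, e⟩ := h1 1
      rw [← cube_one hK 0 0, map_pow, e, cube_one, cube_one]
    intro v
    rcases eq_or_ne v 0 with rfl | hv
    · rw [eU_zero, map_one]
    have := congrArg θ (eT_conj hK (Units.mk0 (-v) (neg_ne_zero.2 hv)) 0 0 (-1))
    rw [map_mul, map_mul, map_inv, hT, hm1, eT_conj, mul_zero, mul_zero, chr11 hK, Units.val_mk0] at this
    simpa using this.symm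
  -- the second parameter
  have hu : ∀ u, θ (eU hK 0 u 0) = eU hK 0 u 0 := by
    intro u
    obtain ⟨p, r, e⟩ := hzero u 0
    have e' := hneg e
    rw [neg_zero, e] at e'
    obtain rfl := eq_zero_of_self_neg hK (eU_inj hK e').2.2
    obtain ⟨a, b, ex⟩ := h1 1
    obtain ⟨a', b', ex'⟩ := eU_split hK 1 a b
    have k := congrArg θ (eU_comm hK u)
    rw [map_mul, map_mul, e, ex, ex', eU_zero_split hK u (-u), map_mul, e, hZ, ← mul_assoc, eU_comm, mul_assoc,
      eU_mul_zero, ← eU_zero_split, mul_assoc, eU_mul_zero] at k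
    have := (eU_inj hK (mul_left_cancel k)).2.2
    have hpu : p = u := by linear_combination -this
    rw [e, hpu]
  have hU0 : ∀ u v, θ (eU hK 0 u v) = eU hK 0 u v := fun u v => by
    rw [eU_zero_split, map_mul, hu, hZ]
  -- the first parameter
  have hY : ∀ t, ∃ p r, θ (eU hK t 0 0) = eU hK t 0 0 * eU hK 0 p r := fun t => by
    obtain ⟨p, r, e⟩ := h1 t
    obtain ⟨a, b, e'⟩ := eU_split hK t p r
    exact ⟨a, b, by rw [e, e']⟩
  obtain ⟨p1, r1, e1⟩ := hY 1
  set h := eT hK (-1 : Kˣ) with hh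
  have hc : ∀ p r : K, h * eU hK 0 p r * h⁻¹ = eU hK 0 p (-r) := fun p r => by
    rw [hh, eT_conj, s10, s11]; simp
  have hx : h * eU hK 1 0 0 * h⁻¹ = eU hK (-1) 0 0 := by
    rw [hh, eT_conj, s6]; simp
  have hp1 : p1 = 0 := by
    have e2 : θ (eU hK (-1) 0 0) = eU hK (-1) 0 0 * eU hK 0 p1 (-r1) := by
      rw [← hx, map_mul, map_mul, map_inv, hT, ← hh, e1, ← hc]; group
    obtain ⟨U, V, e3⟩ := eU_mul_fst hK 1 0 0 (-1) 0 0
    rw [add_neg_cancel] at e3
    have k := congrArg θ e3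
    rw [map_mul, e1, e2, hU0, ← e3, mul_assoc, mul_right_inj, ← mul_assoc] at k
    have k2 : eU hK (-1) 0 0 * eU hK 0 p1 (-r1) * (eU hK (-1) 0 0)⁻¹ = eU hK 0 (-p1) (-r1) := by
      rw [mul_inv_eq_iff_eq_mul, ← hinv, eq_inv_mul_iff_mul_eq, ← mul_assoc]
      exact k
    have hcu : eU hK 1 0 0 * eU hK 0 p1 0 * (eU hK 1 0 0)⁻¹ = eU hK 0 p1 p1 := by
      rw [mul_inv_eq_iff_eq_mul, show eU hK 0 p1 p1 = eU hK 0 p1 0 * eU hK 0 0 p1 from eU_zero_split hK _ _, mul_assoc,
        (eU_central hK 1 0 0 p1).symm.eq, ← mul_assoc, eU_comm, mul_assoc, eU_mul_zero, add_zero, neg_add_cancel]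
    have hcu' : eU hK 1 0 0 * eU hK 0 p1 r1 * (eU hK 1 0 0)⁻¹ = eU hK 0 p1 (p1 + r1) := by
      rw [eU_zero_split hK p1 r1, show eU hK 1 0 0 * (eU hK 0 p1 0 * eU hK 0 0 r1) * (eU hK 1 0 0)⁻¹ =
        (eU hK 1 0 0 * eU hK 0 p1 0 * (eU hK 1 0 0)⁻¹) * (eU hK 1 0 0 * eU hK 0 0 r1 * (eU hK 1 0 0)⁻¹) by group, hcu,
        (eU_central hK 1 0 0 r1).eq, mul_inv_cancel_right, eU_mul_zero, add_zero]
    rw [← hx, ← hc p1 r1, show h * eU hK 1 0 0 * h⁻¹ * (h * eU hK 0 p1 r1 * h⁻¹) * (h * eU hK 1 0 0 * h⁻¹)⁻¹ =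
      h * (eU hK 1 0 0 * eU hK 0 p1 r1 * (eU hK 1 0 0)⁻¹) * h⁻¹ by group, hcu', hc] at k2
    exact eq_zero_of_self_neg hK (eU_inj hK k2).2.1
  subst hp1
  have hr : ∀ t, ∃ r, θ (eU hK t 0 0) = eU hK t 0 0 * eU hK 0 0 r ∧ ∀ z : Kˣ, t = (c6 K m z : Kˣ) → r = z * r1 := by
    intro t
    rcases eq_or_ne t 0 with rfl | ht
    · refine ⟨0, by rw [eU_zero, map_one, mul_one], fun z hz => absurd hz.symm (Units.ne_zero _)⟩
    obtain ⟨z, hz⟩ := (c6_bijective hK).2 (Units.mk0 t ht)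
    have hzt : ((c6 K m z : Kˣ) : K) = t := by rw [hz, Units.val_mk0]
    refine ⟨z * r1, ?_, fun z' hz' => by rw [(c6_bijective hK).1 (Units.ext (hzt.trans hz'))]⟩
    have hconj : eT hK z * eU hK 1 0 0 * (eT hK z)⁻¹ = eU hK t 0 0 := by
      rw [eT_conj, ← c6_val hK, hzt]; simp
    have hconj' : eT hK z * eU hK 0 0 r1 * (eT hK z)⁻¹ = eU hK 0 0 (z * r1) := by
      rw [eT_conj, chr11 hK]; simp
    rw [← hconj, map_mul, map_mul, map_inv, hT, e1, ← hconj']; group
  choose R hR hRz using hr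
  have hR0 : R 0 = 0 := by
    have := hR 0
    rw [eU_zero, map_one, one_mul, ← eU_zero hK] at this
    exact (eU_inj hK this).2.2.symm
  have hRadd : ∀ s t, R (s + t) = R s + R t := by
    intro s t
    obtain ⟨U, V, e⟩ := eU_mul_fst hK s 0 0 t 0 0
    obtain ⟨a, b, e'⟩ := eU_split hK (s + t) U V
    have k := congrArg θ (e.trans e')
    rw [map_mul, map_mul, hR, hR, hR, hU0, mul_assoc (eU hK s 0 0), ← mul_assoc (eU hK 0 0 (R s)),
      (eU_central hK t 0 0 (R s)).symm.eq, mul_assoc (eU hK t 0 0), eU_mul_zero, add_zero, ← mul_assoc, e, e',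
      mul_assoc, mul_assoc, mul_right_inj, (eU_central hK 0 a b (R (s + t))).symm.eq, mul_right_inj] at k
    exact (eU_inj hK k).2.2.symm
  have hr1 : r1 = 0 := by
    by_contra hne
    refine not_additive hK hm (ψ := fun t => R t * r1⁻¹) (fun z => ?_) (by simp [hR0]) fun s t => by
      show R (s + t) * r1⁻¹ = _
      rw [hRadd, add_mul]
    show R _ * r1⁻¹ = _
    rw [hRz _ z rfl, mul_inv_cancel_right₀ hne]
  have hpos : ∀ x ∈ posG K m, θ x = x := by
    intro x hx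
    obtain ⟨t, u, v, rfl⟩ := exists_eU hK hx
    obtain ⟨a, b, e⟩ := eU_split hK t u v
    have hRt : R t = 0 := by
      rcases eq_or_ne t 0 with rfl | ht
      · exact hR0
      obtain ⟨z, hz⟩ := (c6_bijective hK).2 (Units.mk0 t ht)
      rw [hRz t z (by rw [hz, Units.val_mk0]), hr1, mul_zero]
    rw [e, map_mul, hU0, hR, hRt, eU_zero, mul_one]
  have hbor : ∀ g ∈ borG K m, θ g = g := by
    intro g hg
    obtain ⟨u, hu', z, rfl⟩ := borG_parts hK hg
    rw [map_mul, hpos u hu', hT]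
  obtain ⟨n, hn⟩ := exists_long hK
  obtain ⟨z0, hz0⟩ := torus_of_norm hK (g := n⁻¹ * θ n) (fun x hx => by
      have := (hn.pos_neg x hx).1
      rw [← hV, map_mul, map_mul, map_inv, hpos x hx] at this
      have := (hn.neg_pos _ this).2
      rwa [show n⁻¹ * θ n * x * (n⁻¹ * θ n)⁻¹ = n⁻¹ * (θ n * x * (θ n)⁻¹) * n by group])
    fun y hy => by
      obtain ⟨y', rfl⟩ := θ.surjective y
      have := (hn.neg_pos y' ((hV y').1 hy)).1
      rw [← hU, map_mul, map_mul, map_inv] at this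
      have := (hn.pos_neg _ this).2
      rwa [show n⁻¹ * θ n * θ y' * (n⁻¹ * θ n)⁻¹ = n⁻¹ * (θ n * θ y' * (θ n)⁻¹) * n by group]
  obtain ⟨w, hw⟩ := exists_eT hK (hn.torus _ (eT_mem hK z0))
  have hk : θ n = eT hK w * n := by
    rw [← hw, ← hz0]; group
  have hwone : w = 1 := by
    by_contra hne
    have hborT : ∀ z, eT hK z ∈ borG K m := fun z => Subgroup.mem_subgroupOf.2 (Subgroup.mem_sup_right (eT_mem hK z))
    have key : ∀ x : {x : ↥(posG K m) // x ≠ 1}, ∃ p : K × K, ∃ b ∈ borG K m,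
        n * (x.1 : ↥(gG K m)) * n⁻¹ = b * n * eU hK 0 p.1 p.2 := by
      rintro ⟨⟨x, hx⟩, hx1⟩
      have hVx := (hn.pos_neg x hx).1
      rcases hn.cells (n * x * n⁻¹) with hB | ⟨b, hb, c, hc, e⟩
      · exact absurd (Subtype.ext (conj_eq_one_iff.1 (bor_neg hB hVx))) hx1
      have k := congrArg θ e
      rw [map_mul, map_mul, map_mul, map_mul, map_inv, hpos x hx, hpos c hc, hbor b hb, hk] at k
      have k1 : n⁻¹ * ((b⁻¹ * (eT hK w)⁻¹ * b * eT hK w) * (n * eT hK w * n⁻¹)) * n = c * (eT hK w)⁻¹ * c⁻¹ * eT hK w := by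
        have k3 : eT hK w * (b * n * c) * (eT hK w)⁻¹ = b * eT hK w * n * c := by
          rw [← e]
          calc _ = eT hK w * n * x * (eT hK w * n)⁻¹ := by group
            _ = _ := by rw [k]; group
        calc _ = n⁻¹ * b⁻¹ * (eT hK w)⁻¹ * (b * eT hK w * n * c) * c⁻¹ * eT hK w := by group
          _ = n⁻¹ * b⁻¹ * (eT hK w)⁻¹ * (eT hK w * (b * n * c) * (eT hK w)⁻¹) * c⁻¹ * eT hK w := by rw [k3]
          _ = _ := by group
      have hY : c * (eT hK w)⁻¹ * c⁻¹ * eT hK w ∈ posG K m := by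
        have := mul_mem hc (bor_norm (inv_mem (hborT w)) (inv_mem hc))
        rwa [show c * ((eT hK w)⁻¹ * c⁻¹ * (eT hK w)⁻¹⁻¹) = c * (eT hK w)⁻¹ * c⁻¹ * eT hK w by group] at this
      have hX : b⁻¹ * (eT hK w)⁻¹ * b * eT hK w * (n * eT hK w * n⁻¹) ∈ borG K m :=
        mul_mem (mul_mem (mul_mem (mul_mem (inv_mem hb) (inv_mem (hborT w))) hb) (hborT w))
          (Subgroup.mem_subgroupOf.2 (Subgroup.mem_sup_right (hn.torus _ (eT_mem hK w))))
      have k2 := hn.unique hX hY k1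
      obtain ⟨t, u, v, rfl⟩ := exists_eU hK hc
      have k4 : eT hK w * eU hK t u v * (eT hK w)⁻¹ = eU hK t u v := by
        calc _ = eT hK w * (eU hK t u v * (eT hK w)⁻¹ * (eU hK t u v)⁻¹ * eT hK w) * (eT hK w)⁻¹ * eU hK t u v := by group
          _ = _ := by rw [k2]; group
      rw [eT_conj] at k4
      obtain rfl : t = 0 := by
        by_contra ht
        refine hne ((c6_bijective hK).1 (Units.ext ?_))
        rw [map_one, c6_val hK, Units.val_one]
        exact (mul_eq_right₀ ht).1 (eU_inj hK k4).1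
      exact ⟨(u, v), b, hb, e⟩
    choose P b hb hP using key
    have hinj : Function.Injective P := by
      intro x y e
      have k : n * (x.1 : ↥(gG K m)) * (y.1 : ↥(gG K m))⁻¹ * n⁻¹ = b x * (b y)⁻¹ := by
        calc _ = (n * (x.1 : ↥(gG K m)) * n⁻¹) * (n * (y.1 : ↥(gG K m)) * n⁻¹)⁻¹ := by group
          _ = _ := by rw [hP, hP, e]; group
      have hmem := (hn.pos_neg _ (mul_mem x.1.2 (inv_mem y.1.2))).1
      rw [← mul_assoc, k] at hmem
      rw [bor_neg (mul_mem (hb x) (inv_mem (hb y))) hmem, mul_assoc n] at k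
      exact Subtype.ext (Subtype.ext (mul_inv_eq_one.1 (conj_eq_one_iff.1 k)))
    have hle := Nat.card_le_card_of_injective P hinj
    classical
    haveI := Fintype.ofFinite ↥(posG K m)
    rw [Nat.card_eq_fintype_card, Fintype.card_subtype_compl, Fintype.card_subtype_eq, ← Nat.card_eq_fintype_card,
      card_posG hK, Nat.card_prod, Nat.card_eq_fintype_card (α := K), hK] at hle
    have h27 : 27 ≤ 3 ^ (2 * m + 1) := (show 3 ^ 3 = 27 by norm_num) ▸ Nat.pow_le_pow_right (by norm_num) (by omega)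
    generalize 3 ^ (2 * m + 1) = q at hle h27
    have : q * q + 2 ≤ q ^ 3 := by nlinarith
    omega
  have hnfix : θ n = n := by rw [hk, hwone, eT_one, one_mul]
  refine MulEquiv.ext fun g => ?_
  rw [MulAut.one_apply]
  rcases hn.cells g with hg | ⟨b, hb, c, hc, rfl⟩
  · exact hbor g hg
  · rw [map_mul, map_mul, hbor b hb, hnfix, hpos c hc]

/-- The outer automorphism group of ²G₂(q). -/
theorem card_out (hm : 1 ≤ m) : Nat.card (Cfsg.Out ↥(gG K m)) = 2 * m + 1 := by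
  choose δ hδ hδU hδV using exists_field (m := m) hK
  let Φ : (K ≃+* K) → Cfsg.Out ↥(gG K m) := fun σ => QuotientGroup.mk (δ σ)
  have hmk : ∀ (a : ↥(gG K m)) (θ : MulAut ↥(gG K m)),
      (QuotientGroup.mk (MulAut.conj a * θ) : Cfsg.Out ↥(gG K m)) = QuotientGroup.mk θ := fun a θ => by
    rw [QuotientGroup.mk_mul, (QuotientGroup.eq_one_iff (N := Cfsg.Inn ↥(gG K m)) (MulAut.conj a)).2 ⟨a, rfl⟩, one_mul]
  have hinj : Function.Injective Φ := by
    intro σ σ' e
    obtain ⟨x, hx⟩ : δ σ' * (δ σ)⁻¹ ∈ Cfsg.Inn ↥(gG K m) := by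
      rw [← QuotientGroup.eq_one_iff, QuotientGroup.mk_mul, QuotientGroup.mk_inv, mul_inv_eq_one]
      exact e.symm
    have hx' : δ σ' = MulAut.conj x * δ σ := by rw [hx, inv_mul_cancel_right]
    have hev : ∀ g, δ σ' g = x * δ σ g * x⁻¹ := fun g => by rw [hx']; rfl
    have hxB : x ∈ borG K m := bor_of_norm hK fun y hy => by
      obtain ⟨y', rfl⟩ := (δ σ).surjective y
      rw [← hev, hδU σ', ← hδU σ]; exact hy
    obtain ⟨u, hu, z, rfl⟩ := borG_parts hK hxB
    obtain ⟨a, b, c, rfl⟩ := exists_eU hK hu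
    have key : ∀ t, σ' t = (c6 K m z : Kˣ) * σ t := by
      intro t
      have h := hev (eU hK t 0 0)
      rw [hδ, hδ, show eU hK a b c * eT hK z * eU hK (σ t) (σ 0) (σ 0) * (eU hK a b c * eT hK z)⁻¹ =
        eU hK a b c * (eT hK z * eU hK (σ t) (σ 0) (σ 0) * (eT hK z)⁻¹) * (eU hK a b c)⁻¹ by group, eT_conj] at h
      obtain ⟨U, V, e1⟩ := eU_mul_fst hK a b c (chr tblG2 chevG2 (extend' (g2Par m z)) 6 * σ t)
        (chr tblG2 chevG2 (extend' (g2Par m z)) 10 * σ 0) (chr tblG2 chevG2 (extend' (g2Par m z)) 11 * σ 0)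
      obtain ⟨U', V', e2⟩ := eU_inv_fst hK a b c
      obtain ⟨U'', V'', e3⟩ := eU_mul_fst hK (a + chr tblG2 chevG2 (extend' (g2Par m z)) 6 * σ t) U V (-a) U' V'
      rw [e1, e2, e3] at h
      rw [(eU_inj hK h).1, c6_val hK]; ring
    refine RingEquiv.ext fun t => ?_
    have h1 := key 1
    rw [map_one, map_one, mul_one] at h1
    rw [key, ← h1, one_mul]
  have hsurj : Function.Surjective Φ := by
    intro o
    obtain ⟨θ, rfl⟩ := QuotientGroup.mk_surjective o
    obtain ⟨a, hU, hV⟩ := exists_normalise hK θ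
    obtain ⟨f, hfi, hfadd, hf⟩ := exists_fst hK hU
    obtain ⟨τ, hτ⟩ := exists_tau hK hU hV
    have hc : f 1 ≠ 0 := fun e => one_ne_zero (hfi (e.trans (by
      have := hfadd 0 0
      rw [add_zero] at this
      linear_combination this) : f 1 = f 0))
    obtain ⟨w, hw⟩ := (c6_bijective hK).2 (Units.mk0 (f 1) hc)⁻¹
    set θ2 := MulAut.conj (eT hK w) * (MulAut.conj a * θ) with hθ2
    have hU2 : AutKeeps θ2 (posG K m) := keeps_of_le fun x hx =>
      bor_norm (Subgroup.mem_subgroupOf.2 (Subgroup.mem_sup_right (eT_mem hK w))) ((hU x).2 hx)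
    have hV2 : AutKeeps θ2 (negG K m) := keeps_of_le fun x hx => diag_norm_neg (eT_mem hK w) ((hV x).2 hx)
    have hf2 : ∀ t u v, ∃ p r, θ2 (eU hK t u v) = eU hK ((f 1)⁻¹ * f t) p r := fun t u v => by
      obtain ⟨p, r, e⟩ := hf t u v
      refine ⟨chr tblG2 chevG2 (extend' (g2Par m w)) 10 * p, chr tblG2 chevG2 (extend' (g2Par m w)) 11 * r,
        (congrArg (fun g => eT hK w * g * (eT hK w)⁻¹) e).trans ((eT_conj hK w _ _ _).trans ?_)⟩
      rw [← c6_val hK, hw, Units.val_inv_eq_inv_val, Units.val_mk0]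
    have hmul : ∀ s t, (f 1)⁻¹ * f (s * t) = ((f 1)⁻¹ * f s) * ((f 1)⁻¹ * f t) := by
      intro s t
      rcases eq_or_ne s 0 with rfl | hs
      · have h0 : f 0 = 0 := by
          have := hfadd 0 0
          rw [add_zero] at this
          linear_combination -this
        simp [h0]
      obtain ⟨z, hz⟩ := (c6_bijective hK).2 (Units.mk0 s hs)
      have hzs : ((c6 K m z : Kˣ) : K) = s := by rw [hz, Units.val_mk0]
      have h1 := fst_torus hK hτ hf z 1
      have h2 := fst_torus hK hτ hf z t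
      rw [mul_one, hzs] at h1
      rw [hzs] at h2
      rw [h1, h2]
      field_simp
    let σ0 : K →+* K :=
      { toFun := fun t => (f 1)⁻¹ * f t
        map_one' := inv_mul_cancel₀ hc
        map_mul' := hmul
        map_zero' := by
          have := hfadd 0 0
          rw [add_zero] at this
          show (f 1)⁻¹ * f 0 = 0
          rw [show f 0 = 0 by linear_combination -this, mul_zero]
        map_add' := fun s t => by rw [hfadd, mul_add] }
    let σ : K ≃+* K := RingEquiv.ofBijective σ0 ⟨σ0.injective, Finite.injective_iff_surjective.1 σ0.injective⟩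
    refine ⟨σ, ?_⟩
    have key : (δ σ)⁻¹ * θ2 = 1 := by
      refine rigid hK hm (keeps_of_le fun x hx => ?_) (keeps_of_le fun x hx => ?_) fun t => ?_
      · show (δ σ).symm (θ2 x) ∈ _
        rw [← hδU σ, MulEquiv.apply_symm_apply]; exact (hU2 x).2 hx
      · show (δ σ).symm (θ2 x) ∈ _
        rw [← hδV σ, MulEquiv.apply_symm_apply]; exact (hV2 x).2 hx
      · obtain ⟨p, r, e⟩ := hf2 t 0 0
        refine ⟨σ.symm p, σ.symm r, ?_⟩
        show (δ σ).symm (θ2 (eU hK t 0 0)) = _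
        rw [MulEquiv.symm_apply_eq, hδ, e, RingEquiv.apply_symm_apply, RingEquiv.apply_symm_apply]
        rfl
    show QuotientGroup.mk (δ σ) = _
    rw [inv_mul_eq_one.1 key, hθ2, hmk, hmk]
  rw [← Nat.card_congr (Equiv.ofBijective Φ ⟨hinj, hsurj⟩)]
  haveI : Fact (Nat.Prime 3) := ⟨Nat.prime_three⟩
  haveI : CharP K 3 := inferInstanceAs (CharP K esymG2.p)
  exact (card_ringAut_field (F := K) 3 (2 * m + 1) (by rw [Nat.card_eq_fintype_card, hK])).2

end Cfsg.Lib.Chev.G2Aut
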