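import Cfsg.Agent.Lib.Chev.ReeToriPlus
import Cfsg.Agent.Lib.Chev.TwG2AutOut

/-! The Hall subgroups and element orders of ²G₂(q). -/

set_option autoImplicit false
set_option linter.unusedSectionVars false
set_option maxRecDepth 100000

namespace Cfsg.Lib.Chev.Ree

open Cfsg.Lie Cfsg.Lib.Chev Cfsg.Lib.Chev.G2Aut
open scoped MatrixGroups

/-- The orders of the four cyclic Hall subgroups. -/
def torK (m : ℕ) : Fin 4 → ℕ :=
  ![(3 ^ (2 * m + 1) - 1) / 2, (3 ^ (2 * m + 1) + 1) / 4, 3 ^ (2 * m + 1) - 3 ^ (m + 1) + 1,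
    3 ^ (2 * m + 1) + 3 ^ (m + 1) + 1]

/-- The orders of their centralisers. -/
def torC (m : ℕ) : Fin 4 → ℕ :=
  ![3 ^ (2 * m + 1) - 1, 3 ^ (2 * m + 1) + 1, 3 ^ (2 * m + 1) - 3 ^ (m + 1) + 1,
    3 ^ (2 * m + 1) + 3 ^ (m + 1) + 1]

/-- The exponents of their centralisers. -/
def torE (m : ℕ) : Fin 4 → ℕ :=
  ![3 ^ (2 * m + 1) - 1, (3 ^ (2 * m + 1) + 1) / 2, 3 ^ (2 * m + 1) - 3 ^ (m + 1) + 1,
    3 ^ (2 * m + 1) + 3 ^ (m + 1) + 1]

/-- The orders of their normalisers. -/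
def torN (m : ℕ) : Fin 4 → ℕ :=
  ![2 * (3 ^ (2 * m + 1) - 1), 6 * (3 ^ (2 * m + 1) + 1), 6 * (3 ^ (2 * m + 1) - 3 ^ (m + 1) + 1),
    6 * (3 ^ (2 * m + 1) + 3 ^ (m + 1) + 1)]

theorem tor_arith {m : ℕ} (hm : 1 ≤ m) : 27 ≤ 3 ^ (2 * m + 1) ∧ 3 ^ (2 * m + 1) % 8 = 3 ∧ 3 ^ (2 * m + 1) % 3 = 0 ∧
    3 ^ (m + 1) % 2 = 1 ∧ 3 ^ (m + 1) % 3 = 0 ∧ 3 ^ (m + 1) + 2 ≤ 3 ^ (2 * m + 1) := by
  have h27 : 27 ≤ 3 ^ (2 * m + 1) := (by norm_num : 27 ≤ 3 ^ 3).trans (Nat.pow_le_pow_right (by norm_num) (by omega))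
  refine ⟨h27, by rw [pow_succ, pow_mul, Nat.mul_mod, Nat.pow_mod]; norm_num, by rw [pow_succ]; omega,
    by simp [Nat.pow_mod], by rw [pow_succ]; omega, ?_⟩
  have h9 : 9 ≤ 3 ^ (m + 1) := (by norm_num : 9 ≤ 3 ^ 2).trans (Nat.pow_le_pow_right (by norm_num) (by omega))
  have h3 : 3 * 3 ^ (m + 1) ≤ 3 ^ (2 * m + 1) := by
    rw [← pow_succ']; exact Nat.pow_le_pow_right (by norm_num) (by omega)
  omega

theorem torK_dvd_torE {m : ℕ} (hm : 1 ≤ m) (i : Fin 4) : torK m i ∣ torE m i ∧ torE m i ∣ torC m i := by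
  obtain ⟨h27, h8, -⟩ := tor_arith hm
  fin_cases i <;> simp [torK, torE, torC]
  · exact Dvd.intro 2 (by omega)
  · exact ⟨Dvd.intro 2 (by omega), Dvd.intro 2 (by omega)⟩

/-- The four Hall subgroups with their centralisers. -/
structure ToriPack {G : Type*} [Group G] (m : ℕ) (A C : Fin 4 → Subgroup G) : Prop where
  tor : ∀ i, IsTorus (A i) (C i) (torK m i) (torN m i)
  card_cent : ∀ i, Nat.card (C i) = torC m i
  comm : ∀ i, ∀ x ∈ C i, ∀ y ∈ C i, Commute x y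
  exponent : ∀ i, ∀ x ∈ C i, x ^ torE m i = 1
  mem : ∀ i, ∀ x ∈ C i, x ^ torK m i = 1 → x ∈ A i

theorem pow_card_mem {G : Type*} [Group G] {H : Subgroup G} {x : G} (hx : x ∈ H) : x ^ Nat.card H = 1 :=
  orderOf_dvd_iff_pow_eq_one.1 (Subgroup.orderOf_dvd_natCard H hx)

/-- In a cyclic group the solutions of `x ^ k = 1` form the subgroup of that order. -/
theorem mem_of_pow_eq_one {G : Type*} [Group G] [Finite G] {A C : Subgroup G} [IsCyclic C] (hle : A ≤ C) {k : ℕ}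
    (hk : Nat.card A = k) {x : G} (hx : x ∈ C) (hxk : x ^ k = 1) : x ∈ A := by
  classical
  haveI := Fintype.ofFinite C
  haveI := Fintype.ofFinite A
  have hk0 : 0 < k := hk ▸ Nat.card_pos
  by_contra hxA
  have h := IsCyclic.card_pow_eq_one_le (α := C) hk0
  let f : Option ↥A → {a : ↥C // a ^ k = 1} := fun o => o.elim ⟨⟨x, hx⟩, Subtype.ext hxk⟩ fun a =>
    ⟨⟨a, hle a.2⟩, Subtype.ext (hk ▸ pow_card_mem a.2 : (a : G) ^ k = 1)⟩
  have hf : Function.Injective f := by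
    rintro (_ | a) (_ | b) e
    · rfl
    · have h' : x = (b : G) := congrArg (fun z : {a : ↥C // a ^ k = 1} => (z.1 : G)) e
      exact absurd (h' ▸ b.2) hxA
    · have h' : (a : G) = x := congrArg (fun z : {a : ↥C // a ^ k = 1} => (z.1 : G)) e
      exact absurd (h' ▸ a.2) hxA
    · exact congrArg _ (Subtype.ext (congrArg (fun z : {a : ↥C // a ^ k = 1} => (z.1 : G)) e : (a : G) = b))
  have h2 := Nat.card_le_card_of_injective f hf
  rw [Nat.card_eq_fintype_card, Fintype.card_option, ← Nat.card_eq_fintype_card, hk, Nat.card_eq_fintype_card,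
    Fintype.card_subtype] at h2
  omega

/-- Subgroups of a cyclic group are determined by their order. -/
theorem cyclic_sub_unique {G : Type*} [Group G] [Finite G] {A H H' : Subgroup G} [IsCyclic A] (h : H ≤ A) (h' : H' ≤ A)
    (e : Nat.card H = Nat.card H') : H = H' := by
  refine Subgroup.eq_of_le_of_card_ge (fun x hx => mem_of_pow_eq_one h' e.symm (h hx) ?_) e.ge
  exact pow_card_mem hx

variable {K : Type*} [Field K] [Fintype K] [CharP K esymG2.p] {m : ℕ} (hK : Fintype.card K = 3 ^ (2 * m + 1))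
include hK

theorem exists_pack (hm : 1 ≤ m) :
    ∃ A C : Fin 4 → Subgroup ↥(gG K m), ToriPack m A C ∧ C 0 = torT hK ∧ C 1 = dTor hK ∧
      Subgroup.normalizer (fourGrp hK : Set ↥(gG K m)) = Subgroup.normalizer (A 1 : Set ↥(gG K m)) := by
  obtain ⟨h27, h8, -, -, -, hr2⟩ := tor_arith hm
  obtain ⟨A₀, h0⟩ := exists_split_torus hK hm
  obtain ⟨A₁, h1, hm1, hV⟩ := exists_half_torus hK hm
  obtain ⟨q, hq⟩ : ∃ q : ℕ, q = 3 ^ (2 * m + 1) := ⟨_, rfl⟩
  obtain ⟨r, hr⟩ : ∃ r : ℕ, r = 3 ^ (m + 1) := ⟨_, rfl⟩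
  have hqz : (3 : ℤ) ^ (2 * m + 1) = (q : ℤ) := by rw [hq]; push_cast; rfl
  have hrz : (3 : ℤ) ^ (m + 1) = (r : ℤ) := by rw [hr]; push_cast; rfl
  have hrq : r ≤ q := by omega
  obtain ⟨A₂, h2⟩ := exists_large_torus hK hm (r := 3 ^ (m + 1)) (Or.inl rfl) (k := q - r + 1)
    (by push_cast [hrq]; rw [hqz, hrz])
  obtain ⟨A₃, h3⟩ := exists_large_torus hK hm (r := -3 ^ (m + 1)) (Or.inr rfl) (k := q + r + 1)
    (by push_cast; rw [hqz, hrz]; ring)
  subst hq hr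
  refine ⟨![A₀, A₁, A₂, A₃], ![torT hK, dTor hK, A₂, A₃], ⟨fun i => ?_, fun i => ?_, fun i => ?_, fun i => ?_, fun i => ?_⟩,
    rfl, rfl, hV⟩ <;> fin_cases i
  · exact h0
  · exact h1
  · exact h2
  · exact h3
  · exact card_torT hK
  · exact card_dTor hK
  · exact h2.card
  · exact h3.card
  · rintro _ ⟨z, rfl⟩ _ ⟨w, rfl⟩
    exact eT_comm hK z w
  · exact fun x hx y hy => dTor_comm hK hx hy
  · haveI := h2.cyclic
    letI := IsCyclic.commGroup (α := A₂)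
    exact fun x hx y hy => congrArg Subtype.val (mul_comm (⟨x, hx⟩ : A₂) ⟨y, hy⟩)
  · haveI := h3.cyclic
    letI := IsCyclic.commGroup (α := A₃)
    exact fun x hx y hy => congrArg Subtype.val (mul_comm (⟨x, hx⟩ : A₃) ⟨y, hy⟩)
  · exact fun x hx => (congrArg (x ^ ·) (card_torT hK)).symm.trans (pow_card_mem hx)
  · intro x hx
    show x ^ ((3 ^ (2 * m + 1) + 1) / 2) = 1
    obtain ⟨y, hy, e⟩ := hx
    obtain ⟨c, hc, hgen, -, ho⟩ := exists_circ_gen hK
    obtain ⟨j, rfl⟩ := hgen y hy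
    have hj : reeSL hK (c ^ j) ^ ((3 ^ (2 * m + 1) + 1) / 2) = 1 := by
      rw [map_pow, ← pow_mul, mul_comm, pow_mul, ← ho, pow_orderOf_eq_one, one_pow]
    rcases e with rfl | rfl
    · exact hj
    · rw [(invA_comm_reeSL hK _).mul_pow, hj, mul_one]
      obtain ⟨d, hd⟩ : ∃ d, (3 ^ (2 * m + 1) + 1) / 2 = 2 * d := ⟨(3 ^ (2 * m + 1) + 1) / 4, by omega⟩
      rw [hd, pow_mul, pow_two, invA_sq, one_pow]
  · exact fun x hx => (congrArg (x ^ ·) h2.card).symm.trans (pow_card_mem hx)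
  · exact fun x hx => (congrArg (x ^ ·) h3.card).symm.trans (pow_card_mem hx)
  · haveI := cyclic_torT hK
    exact fun x hx hxk => mem_of_pow_eq_one h0.le h0.card hx hxk
  · exact fun x hx hxk => (hm1 x).2 ⟨hx, hxk⟩
  · exact fun x hx _ => hx
  · exact fun x hx _ => hx

/-- The primes of the four orders. -/
theorem torK_prime (hm : 1 ≤ m) (i : Fin 4) {p : ℕ} (hp : p.Prime) (h : p ∣ torK m i) :
    5 ≤ p ∧ p ^ (Nat.card ↥(gG K m)).factorization p ∣ torK m i := by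
  obtain ⟨h27, h8, h3q, h2r, h3r, hr2⟩ := tor_arith hm
  have h2 : ∀ j, torK m j % 2 = 1 ∧ torK m j % 3 ≠ 0 := by
    intro j; fin_cases j <;> simp [torK] <;> omega
  have hp5 : 5 ≤ p := by
    have h2p := hp.two_le
    by_contra hc
    have h4 : p = 2 ∨ p = 3 := by interval_cases p <;> first | omega | exact absurd hp (by norm_num)
    have := h2 i
    rcases h4 with rfl | rfl <;> omega
  refine ⟨hp5, ?_⟩
  haveI : Fact p.Prime := ⟨hp⟩
  obtain ⟨q, hq⟩ : ∃ q : ℕ, q = 3 ^ (2 * m + 1) := ⟨_, rfl⟩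
  obtain ⟨r, hr⟩ : ∃ r : ℕ, r = 3 ^ (m + 1) := ⟨_, rfl⟩
  have hrr : r * r = 3 * q := by rw [hr, hq, ← pow_add, ← pow_succ']; congr 1; omega
  rw [← hq, ← hr] at hr2
  rw [← hq] at h27 h8 h3q
  rw [← hr] at h2r h3r
  have hqq : q ≤ q ^ 2 := Nat.le_self_pow two_ne_zero q
  have hN : q ^ 2 - q + 1 = (q - r + 1) * (q + r + 1) := by
    have := congrArg (fun n : ℕ => (n : ℤ)) hrr
    zify [(by omega : r ≤ q), hqq]
    push_cast at this
    linear_combination this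
  have hlarge : p ∣ q ^ 2 - q + 1 → p ^ (Nat.card ↥(gG K m)).factorization p ∣ (q - r + 1) * (q + r + 1) := by
    intro hd
    rw [← hN]
    have hG : gG K m ≤ chevG2.group K := fun g hg => (((twOKG2 m).mem_fixed certG2C).1 hg).1
    refine (pow_dvd_pow p ((Nat.factorization_le_iff_dvd Nat.card_pos.ne' Nat.card_pos.ne').2 (Subgroup.card_dvd_of_le hG) p)).trans ?_
    exact g2_ppart hK hp (N := q ^ 2 - q + 1) (by push_cast [hqq]; rw [hq]; push_cast; rfl) hd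
  have hnot : p ∣ q - r + 1 → p ∣ q + r + 1 → False := fun ha hb => by
    have h3 : p ∣ 2 * r := by
      have := Nat.dvd_sub hb ha
      rwa [show q + r + 1 - (q - r + 1) = 2 * r by omega] at this
    rcases hp.dvd_mul.1 h3 with h' | h'
    · have := Nat.le_of_dvd two_pos h'; omega
    · have := Nat.le_of_dvd three_pos (hp.dvd_of_dvd_pow (hr ▸ h')); omega
  fin_cases i <;> simp [torK, ← hq, ← hr] at h ⊢
  · rw [hq] at h ⊢
    exact (small_ppart hK hp hp5).1 (h.trans (Dvd.intro 2 (Nat.div_mul_cancel (by omega))))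
  · rw [hq] at h ⊢
    exact (small_ppart hK hp hp5).2 (h.trans (Dvd.intro 4 (Nat.div_mul_cancel (by omega))))
  · exact MultW.prime_pow_dvd_left hp (hlarge (hN ▸ h.mul_right _)) (hnot h)
  · exact MultW.prime_pow_dvd_left hp (by rw [mul_comm]; exact hlarge (hN ▸ h.mul_left _)) fun h' => hnot h' h

/-- Every prime at least five of the order divides one of the four. -/
theorem exists_torK (hm : 1 ≤ m) {p : ℕ} (hp : p.Prime) (hp5 : 5 ≤ p) (hpG : p ∣ Nat.card ↥(gG K m)) :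
    ∃ i, p ∣ torK m i := by
  obtain ⟨h27, h8, h3q, h2r, h3r, hr2⟩ := tor_arith hm
  rw [card_gG hK] at hpG
  obtain ⟨q, hq⟩ : ∃ q : ℕ, q = 3 ^ (2 * m + 1) := ⟨_, rfl⟩
  obtain ⟨r, hr⟩ : ∃ r : ℕ, r = 3 ^ (m + 1) := ⟨_, rfl⟩
  have hrr : r * r = 3 * q := by rw [hr, hq, ← pow_add, ← pow_succ']; congr 1; omega
  rw [← hq, ← hr] at hr2
  rw [← hq] at h27 h8 h3q hpG
  rw [← hr] at h2r h3r
  have hn : ∀ n, n = 2 ∨ n = 3 → ¬ p ∣ n := fun n hn h => by
    have := Nat.le_of_dvd (by omega) h; omega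
  have hqq : q ≤ q ^ 2 := Nat.le_self_pow two_ne_zero q
  rw [show q ^ 3 + 1 = (q + 1) * (q ^ 2 - q + 1) by zify [hqq]; ring, show q ^ 2 - q + 1 = (q - r + 1) * (q + r + 1) by
    have := congrArg (fun n : ℕ => (n : ℤ)) hrr
    zify [(by omega : r ≤ q), hqq]
    push_cast at this
    linear_combination this] at hpG
  rcases hp.dvd_mul.1 hpG with h | h
  · exact absurd (hp.dvd_of_dvd_pow (hq ▸ hp.dvd_of_dvd_pow h)) (hn 3 (Or.inr rfl))
  rcases hp.dvd_mul.1 h with h | h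
  · refine ⟨0, ?_⟩
    simp [torK, ← hq]
    rw [← Nat.div_mul_cancel (show 2 ∣ q - 1 by omega)] at h
    exact (hp.dvd_mul.1 h).resolve_right (hn 2 (Or.inl rfl))
  rcases hp.dvd_mul.1 h with h | h
  · refine ⟨1, ?_⟩
    simp [torK, ← hq]
    rw [← Nat.div_mul_cancel (show 4 ∣ q + 1 by omega)] at h
    exact (hp.dvd_mul.1 h).resolve_right fun h4 => hn 2 (Or.inl rfl) (hp.dvd_of_dvd_pow (n := 2) h4)
  rcases hp.dvd_mul.1 h with h | h
  · exact ⟨2, by simpa [torK, ← hq, ← hr] using h⟩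
  · exact ⟨3, by simpa [torK, ← hq, ← hr] using h⟩

/-- An element whose order meets one of the four is carried into the centraliser of that torus. -/
theorem conj_cent (hm : 1 ≤ m) {A C : Fin 4 → Subgroup ↥(gG K m)} (h : ToriPack m A C) {x : ↥(gG K m)} {i : Fin 4}
    {p : ℕ} (hp : p.Prime) (hpi : p ∣ torK m i) (hpx : p ∣ orderOf x) : ∃ g, g * x * g⁻¹ ∈ C i := by
  haveI : Fact p.Prime := ⟨hp⟩
  haveI := (h.tor i).cyclic
  have hy : orderOf (x ^ (orderOf x / p)) = p := orderOf_pow_orderOf_div (orderOf_pos x).ne' hpx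
  obtain ⟨g, hg⟩ := conj_into (A := A i) (by rw [(h.tor i).card]; exact (torK_prime hK hm i hp hpi).2) hy
  refine ⟨g, ?_⟩
  have hne : g * x ^ (orderOf x / p) * g⁻¹ ≠ 1 := fun e => by
    rw [conj_eq_one_iff] at e
    rw [e, orderOf_one] at hy
    exact hp.one_lt.ne hy
  rw [← (h.tor i).cent _ hg hne, Subgroup.mem_centralizer_singleton_iff]
  calc g * x * g⁻¹ * (g * x ^ (orderOf x / p) * g⁻¹) = g * (x * x ^ (orderOf x / p)) * g⁻¹ := by group
    _ = g * (x ^ (orderOf x / p) * x) * g⁻¹ := by rw [(Commute.self_pow x _).eq]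
    _ = _ := by group

/-- An element of order dividing one of the four is carried into that torus. -/
theorem conj_torus (hm : 1 ≤ m) {A C : Fin 4 → Subgroup ↥(gG K m)} (h : ToriPack m A C) {x : ↥(gG K m)} {i : Fin 4}
    (hx : x ^ torK m i = 1) : ∃ g, g * x * g⁻¹ ∈ A i := by
  by_cases hx1 : x = 1
  · exact ⟨1, by subst hx1; simp⟩
  obtain ⟨p, hp, hpx⟩ := Nat.exists_prime_and_dvd (fun e => hx1 (orderOf_eq_one_iff.1 e))
  obtain ⟨g, hg⟩ := conj_cent hK hm h hp (hpx.trans (orderOf_dvd_of_pow_eq_one hx)) hpx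
  exact ⟨g, h.mem i _ hg (by rw [conj_pow, hx, mul_one, mul_inv_cancel])⟩

/-- A cyclic subgroup of order dividing one of the four is conjugate into that torus. -/
theorem conj_sub (hm : 1 ≤ m) {A C : Fin 4 → Subgroup ↥(gG K m)} (h : ToriPack m A C) (H : Subgroup ↥(gG K m))
    [IsCyclic H] {i : Fin 4} (hd : Nat.card H ∣ torK m i) : ∃ g, H.map (MulAut.conj g).toMonoidHom ≤ A i := by
  obtain ⟨⟨x, hx⟩, hgen⟩ := IsCyclic.exists_generator (α := H)
  obtain ⟨g, hg⟩ := conj_torus hK hm h (x := x) (i := i) (by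
    obtain ⟨c, hc⟩ := hd
    rw [hc, pow_mul, show x ^ Nat.card H = 1 from by
      exact pow_card_mem hx, one_pow])
  refine ⟨g, ?_⟩
  rintro _ ⟨y, hy, rfl⟩
  obtain ⟨j, hj⟩ := hgen ⟨y, hy⟩
  have hj' : x ^ j = y := congrArg Subtype.val hj
  show MulAut.conj g y ∈ A i
  rw [← hj', map_zpow]
  exact zpow_mem hg j

theorem map_conj_map (g h : ↥(gG K m)) (H : Subgroup ↥(gG K m)) :
    (H.map (MulAut.conj g).toMonoidHom).map (MulAut.conj h).toMonoidHom = H.map (MulAut.conj (h * g)).toMonoidHom := by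
  rw [Subgroup.map_map]; congr 1; ext x; simp [mul_assoc]

/-- Cyclic subgroups of equal order dividing one of the four are conjugate. -/
theorem conj_sub_eq (hm : 1 ≤ m) {A C : Fin 4 → Subgroup ↥(gG K m)} (h : ToriPack m A C) (H H' : Subgroup ↥(gG K m))
    [IsCyclic H] [IsCyclic H'] {i : Fin 4} (hd : Nat.card H ∣ torK m i) (e : Nat.card H' = Nat.card H) :
    ∃ g, H' = H.map (MulAut.conj g).toMonoidHom := by
  obtain ⟨g, hg⟩ := conj_sub hK hm h H hd
  obtain ⟨g', hg'⟩ := conj_sub hK hm h H' (e ▸ hd)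
  haveI := (h.tor i).cyclic
  have heq := cyclic_sub_unique hg' hg (by
    rw [Subgroup.card_map_of_injective (MulAut.conj g').injective, Subgroup.card_map_of_injective (MulAut.conj g).injective, e])
  refine ⟨g'⁻¹ * g, ?_⟩
  rw [← map_conj_map hK, ← heq, map_conj_map hK, inv_mul_cancel, map_one]
  exact (Subgroup.map_id H').symm

/-- The centraliser of a cyclic Hall subgroup. -/
theorem cent_hall (hm : 1 ≤ m) {A C : Fin 4 → Subgroup ↥(gG K m)} (h : ToriPack m A C) (H : Subgroup ↥(gG K m))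
    [IsCyclic H] {i : Fin 4} (hd : Nat.card H = torK m i) :
    ∃ g, Subgroup.centralizer (H : Set ↥(gG K m)) = (C i).map (MulAut.conj g).toMonoidHom ∧
      ∀ B : Subgroup ↥(gG K m), B ≤ H → B ≠ ⊥ →
        Subgroup.centralizer (B : Set ↥(gG K m)) = Subgroup.centralizer (H : Set ↥(gG K m)) := by
  obtain ⟨g, hg⟩ := conj_sub hK hm h H (i := i) hd.dvd
  have key : ∀ B : Subgroup ↥(gG K m), B ≤ H → B ≠ ⊥ →
      Subgroup.centralizer (B : Set ↥(gG K m)) = (C i).map (MulAut.conj g⁻¹).toMonoidHom := by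
    intro B hB hB1
    obtain ⟨⟨b, hb⟩, hb1⟩ := B.ne_bot_iff_exists_ne_one.1 hB1
    have hgA : ∀ y ∈ B, g * y * g⁻¹ ∈ A i := fun y hy => hg ⟨y, hB hy, rfl⟩
    ext w
    rw [Subgroup.mem_centralizer_iff]
    constructor
    · intro hw
      refine ⟨g * w * g⁻¹, ?_, by simp [mul_assoc]⟩
      rw [SetLike.mem_coe, ← (h.tor i).cent _ (hgA b hb) (fun e => hb1 (Subtype.ext (conj_eq_one_iff.1 e))),
        Subgroup.mem_centralizer_singleton_iff]
      calc g * w * g⁻¹ * (g * b * g⁻¹) = g * (w * b) * g⁻¹ := by group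
        _ = g * (b * w) * g⁻¹ := by rw [hw b hb]
        _ = _ := by group
    · rintro ⟨c, hc, rfl⟩ y hy
      have e := h.comm i _ ((h.tor i).le (hgA y hy)) c hc
      show y * (g⁻¹ * c * g⁻¹⁻¹) = g⁻¹ * c * g⁻¹⁻¹ * y
      calc y * (g⁻¹ * c * g⁻¹⁻¹) = g⁻¹ * (g * y * g⁻¹ * c) * g := by group
        _ = _ := by rw [e.eq]; group
  have hne : H ≠ ⊥ := fun e => by
    rw [e, Subgroup.card_bot] at hd
    obtain ⟨h27, h8, -, -, -, hr2⟩ := tor_arith hm
    fin_cases i <;> simp [torK] at hd <;> omega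
  exact ⟨g⁻¹, key H le_rfl hne, fun B hB hB1 => by rw [key B hB hB1, key H le_rfl hne]⟩

/-- The possible element orders. -/
theorem order_cases (hm : 1 ≤ m) (g : ↥(gG K m)) : g ^ 6 = 1 ∨ g ^ 9 = 1 ∨ ∃ i, g ^ torE m i = 1 := by
  obtain ⟨A, C, h, -, -, -⟩ := exists_pack hK hm
  by_cases h5 : ∃ p, p.Prime ∧ 5 ≤ p ∧ p ∣ orderOf g
  · obtain ⟨p, hp, hp5, hpg⟩ := h5
    obtain ⟨i, hi⟩ := exists_torK hK hm hp hp5 (hpg.trans (orderOf_dvd_natCard g))
    obtain ⟨x, hx⟩ := conj_cent hK hm h hp hi hpg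
    refine Or.inr (Or.inr ⟨i, ?_⟩)
    have := h.exponent i _ hx
    rwa [conj_pow, conj_eq_one_iff] at this
  by_cases h3 : 3 ∣ orderOf g
  · obtain ⟨x, hx⟩ := exists_conj_pos hK (x := g ^ (orderOf g / 3)) (k := 1) (by
      rw [pow_one, ← pow_mul, Nat.div_mul_cancel h3, pow_orderOf_eq_one])
    have hne : x * g ^ (orderOf g / 3) * x⁻¹ ≠ 1 := fun e => by
      have ho := orderOf_pow_orderOf_div (orderOf_pos g).ne' h3
      rw [conj_eq_one_iff.1 e, orderOf_one] at ho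
      omega
    have := order_three_cent hK hx hne (g := x * g * x⁻¹) (by
      rw [← conj_pow]; exact (Commute.self_pow _ _).eq)
    rw [conj_pow, conj_pow, conj_eq_one_iff, conj_eq_one_iff] at this
    exact this.elim (fun e => Or.inr (Or.inl e)) Or.inl
  left
  haveI : Fact (Nat.Prime 2) := ⟨Nat.prime_two⟩
  have h2 : ∃ n, orderOf g = 2 ^ n := by
    refine ⟨_, Nat.eq_prime_pow_of_unique_prime_dvd (orderOf_pos g).ne' (fun {d} hd hdg => ?_)⟩
    by_contra hd2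
    refine h5 ⟨d, hd, ?_, hdg⟩
    have h2 := hd.two_le
    by_contra hd5
    interval_cases d <;> first | omega | exact h3 hdg | exact absurd hd (by norm_num)
  obtain ⟨n, h2⟩ := h2
  obtain ⟨P, hP⟩ := (IsPGroup.of_card (p := 2) (n := n) (by rw [Nat.card_zpowers]; exact h2) :
    IsPGroup 2 ↥(Subgroup.zpowers g)).exists_le_sylow
  rw [show 6 = 2 * 3 from rfl, pow_mul, pow_two, sylow_two_elementary hK P (hP (Subgroup.mem_zpowers g)), one_pow]

/-- An element of order six. -/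
theorem orderOf_six : orderOf (invA hK * eU hK 0 1 0) = 6 := by
  have hc : Commute (invA hK) (eU hK 0 1 0) := mul_inv_eq_iff_eq_mul.1 (by rw [invA_conj, neg_zero])
  have h3 : orderOf (eU hK 0 1 0) = 3 := orderOf_eq_prime (p := 3) (eU_zero_cube hK 1 0) fun e =>
    one_ne_zero (eU_inj hK (e.trans (eU_zero hK).symm)).2.1
  rw [hc.orderOf_mul_eq_mul_orderOf_of_coprime (by rw [orderOf_invA, h3]; norm_num), orderOf_invA, h3]

/-- An element of order nine. -/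
theorem orderOf_nine : orderOf (eU hK 1 0 0) = 9 := by
  haveI : Fact (Nat.Prime 3) := ⟨Nat.prime_three⟩
  refine orderOf_eq_prime_pow (p := 3) (n := 1) ?_ (pos_nine hK (eU_mem hK _ _ _))
  rw [pow_one, cube_iff hK]
  exact one_ne_zero

/-- Elements with the exponents as orders. -/
theorem orderOf_torE (hm : 1 ≤ m) (i : Fin 4) : ∃ g : ↥(gG K m), orderOf g = torE m i := by
  obtain ⟨A, C, h, hC0, -, -⟩ := exists_pack hK hm
  fin_cases i
  · haveI : IsCyclic ↥(C 0) := hC0 ▸ cyclic_torT hK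
    obtain ⟨x, hx⟩ := IsCyclic.exists_ofOrder_eq_natCard (α := C 0)
    exact ⟨x, by rw [Subgroup.orderOf_coe, hx, h.card_cent]; rfl⟩
  · obtain ⟨c, -, -, -, ho⟩ := exists_circ_gen hK
    exact ⟨_, ho⟩
  · haveI := (h.tor 2).cyclic
    obtain ⟨x, hx⟩ := IsCyclic.exists_ofOrder_eq_natCard (α := A 2)
    exact ⟨x, by rw [Subgroup.orderOf_coe, hx, (h.tor 2).card]; rfl⟩
  · haveI := (h.tor 3).cyclic
    obtain ⟨x, hx⟩ := IsCyclic.exists_ofOrder_eq_natCard (α := A 3)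
    exact ⟨x, by rw [Subgroup.orderOf_coe, hx, (h.tor 3).card]; rfl⟩

end Cfsg.Lib.Chev.Ree
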