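import Cfsg.Agent.Lib.TwoDim.Normalizers
import Cfsg.Agent.Lib.Spec.PSLTwoSpectrum
import Cfsg.Agent.S1159

/-!
# Groups with the spectrum of the cube of a small Ree group

`Vᵏ ⋊ ({±1} × PSL₂(q))`, with `V` the twisted tensor square of the natural module.
-/

set_option autoImplicit false
set_option linter.unusedSectionVars false

namespace Cfsg.Lib.Chev.ReeCube

open Matrix Cfsg
open scoped MatrixGroups

variable {F : Type} [Field F] [Fintype F] [CharP F 3]

local notation "q" => Fintype.card F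

/-- Twist by the cube map. -/
noncomputable def tw : SL(2, F) →* SL(2, F) := Matrix.SpecialLinearGroup.map (frobenius F 3)

/-- The sign. -/
def sgn (e : ℤˣ) : F := ((e : ℤ) : F)

theorem sgn_mul (a b : ℤˣ) : (sgn (a * b) : F) = sgn a * sgn b := by simp [sgn]

theorem sgn_one : (sgn 1 : F) = 1 := by simp [sgn]

theorem sgn_or (e : ℤˣ) : (sgn e : F) = 1 ∨ (sgn e : F) = -1 := by
  rcases Int.units_eq_one_or e with rfl | rfl <;> simp [sgn]

theorem sgn_sq (e : ℤˣ) : (sgn e : F) * sgn e = 1 := by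
  rcases sgn_or (F := F) e with h | h <;> simp [h]

/-- One element acting on one matrix. -/
noncomputable def act1 (p : ℤˣ × SL(2, F)) (X : Matrix (Fin 2) (Fin 2) F) : Matrix (Fin 2) (Fin 2) F :=
  (sgn p.1 : F) • ((p.2 : Matrix (Fin 2) (Fin 2) F) * X * ((tw p.2)⁻¹ : SL(2, F)))

theorem act1_one (X : Matrix (Fin 2) (Fin 2) F) : act1 1 X = X := by
  simp [act1, sgn_one]

theorem act1_mul (p r : ℤˣ × SL(2, F)) (X : Matrix (Fin 2) (Fin 2) F) :
    act1 (p * r) X = act1 p (act1 r X) := by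
  simp only [act1, Prod.fst_mul, Prod.snd_mul, map_mul, _root_.mul_inv_rev, sgn_mul,
    Matrix.SpecialLinearGroup.coe_mul, Matrix.mul_smul, Matrix.smul_mul, smul_smul, Matrix.mul_assoc]

theorem act1_add (p : ℤˣ × SL(2, F)) (X Y : Matrix (Fin 2) (Fin 2) F) :
    act1 p (X + Y) = act1 p X + act1 p Y := by
  simp only [act1, Matrix.mul_add, Matrix.add_mul, smul_add]

theorem act1_eq_iff (p : ℤˣ × SL(2, F)) (X : Matrix (Fin 2) (Fin 2) F) :
    act1 p X = X ↔ (sgn p.1 : F) • ((p.2 : Matrix (Fin 2) (Fin 2) F) * X) = X * (tw p.2 : SL(2, F)) := by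
  have h1 : (((tw p.2)⁻¹ : SL(2, F)) : Matrix (Fin 2) (Fin 2) F) * (tw p.2 : SL(2, F)) = 1 := by
    rw [← Matrix.SpecialLinearGroup.coe_mul, inv_mul_cancel, Matrix.SpecialLinearGroup.coe_one]
  have h2 : ((tw p.2 : SL(2, F)) : Matrix (Fin 2) (Fin 2) F) * ((tw p.2)⁻¹ : SL(2, F)) = 1 := by
    rw [← Matrix.SpecialLinearGroup.coe_mul, mul_inv_cancel, Matrix.SpecialLinearGroup.coe_one]
  rw [act1]
  constructor
  · intro h
    conv_rhs => rw [← h]
    rw [Matrix.smul_mul, Matrix.mul_assoc, Matrix.mul_assoc, h1, Matrix.mul_one]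
  · intro h
    rw [← Matrix.smul_mul, h, Matrix.mul_assoc, h2, Matrix.mul_one]

/-- The module. -/
abbrev Vk (F : Type) [Field F] (k : ℕ) := Fin (k + 1) → Matrix (Fin 2) (Fin 2) F

/-- The action. -/
noncomputable def rho (k : ℕ) : ℤˣ × SL(2, F) →* MulAut (Multiplicative (Vk F k)) where
  toFun p :=
    { toFun := fun v => Multiplicative.ofAdd fun i => act1 p (Multiplicative.toAdd v i)
      invFun := fun v => Multiplicative.ofAdd fun i => act1 p⁻¹ (Multiplicative.toAdd v i)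
      left_inv := fun v => Multiplicative.toAdd.injective (funext fun i => by
        simp only [toAdd_ofAdd, ← act1_mul, inv_mul_cancel, act1_one])
      right_inv := fun v => Multiplicative.toAdd.injective (funext fun i => by
        simp only [toAdd_ofAdd, ← act1_mul, mul_inv_cancel, act1_one])
      map_mul' := fun v w => Multiplicative.toAdd.injective (funext fun i => by
        simp only [toAdd_ofAdd, toAdd_mul, Pi.add_apply, act1_add]) }
  map_one' := MulEquiv.ext fun v => Multiplicative.toAdd.injective (funext fun i => by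
    simp only [MulAut.one_apply]
    exact act1_one _)
  map_mul' p r := MulEquiv.ext fun v => Multiplicative.toAdd.injective (funext fun i => by
    simp only [MulAut.mul_apply]
    exact act1_mul p r _)

theorem rho_apply (k : ℕ) (p : ℤˣ × SL(2, F)) (v : Multiplicative (Vk F k)) (i : Fin (k + 1)) :
    Multiplicative.toAdd (rho k p v) i = act1 p (Multiplicative.toAdd v i) := rfl

theorem rho_eq_one_iff (k : ℕ) (p : ℤˣ × SL(2, F)) :
    rho k p = 1 ↔ ∀ X : Matrix (Fin 2) (Fin 2) F, (sgn p.1 : F) • ((p.2 : Matrix (Fin 2) (Fin 2) F) * X) = X * (tw p.2 : SL(2, F)) := by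
  constructor
  · intro h X
    refine (act1_eq_iff p X).1 ?_
    have := rho_apply k p (Multiplicative.ofAdd fun _ => X) 0
    rwa [h, MulAut.one_apply, toAdd_ofAdd, eq_comm] at this
  · intro h
    refine MulEquiv.ext fun v => Multiplicative.toAdd.injective (funext fun i => ?_)
    rw [rho_apply, MulAut.one_apply]
    exact (act1_eq_iff p _).2 (h _)

theorem sq_eq_trace (A : SL(2, F)) :
    (A : Matrix (Fin 2) (Fin 2) F) * A = (A : Matrix (Fin 2) (Fin 2) F).trace • (A : Matrix (Fin 2) (Fin 2) F) - 1 := by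
  have hd := A.2
  rw [Matrix.det_fin_two] at hd
  ext i j
  fin_cases i <;> fin_cases j <;>
    simp [Matrix.mul_apply, Fin.sum_univ_two, Matrix.trace_fin_two] <;>
    first | ring1 | linear_combination hd | linear_combination -hd

theorem tw_trace (A : SL(2, F)) :
    (tw A : Matrix (Fin 2) (Fin 2) F).trace = (A : Matrix (Fin 2) (Fin 2) F).trace ^ 3 := by
  simp [tw, Matrix.trace_fin_two, frobenius_def, add_pow_char]

theorem tw_scalar {A : SL(2, F)} {r : F} (hA : (A : Matrix (Fin 2) (Fin 2) F) = r • 1) :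
    (tw A : Matrix (Fin 2) (Fin 2) F) = r ^ 3 • 1 := by
  ext i j
  fin_cases i <;> fin_cases j <;> simp [tw, hA, frobenius_def]

theorem scalar_sq {A : SL(2, F)} {r : F} (hA : (A : Matrix (Fin 2) (Fin 2) F) = r • 1) : r * r = 1 := by
  have hd := A.2
  rw [hA, Matrix.det_fin_two] at hd
  simpa using hd

theorem rho_scalar (k : ℕ) {p : ℤˣ × SL(2, F)} (hp : p.1 = 1) {r : F}
    (hA : (p.2 : Matrix (Fin 2) (Fin 2) F) = r • 1) : rho k p = 1 := by
  rw [rho_eq_one_iff]
  intro X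
  have h2 := scalar_sq hA
  rw [hA, tw_scalar hA, hp, sgn_one, one_smul, Matrix.smul_mul, Matrix.one_mul, Matrix.mul_smul, Matrix.mul_one]
  rw [show r ^ 3 = r by linear_combination r * h2]

theorem rho_pow_scalar (k : ℕ) (p : ℤˣ × SL(2, F)) (n : ℕ) (hn : p.1 ^ n = 1) {r : F}
    (hA : ((p.2 ^ n : SL(2, F)) : Matrix (Fin 2) (Fin 2) F) = r • 1) : rho k p ^ n = 1 := by
  rw [← map_pow]
  exact rho_scalar k (by rw [Prod.pow_fst, hn]) (by rw [Prod.pow_snd, hA])

/-- An element with a nonzero fixed vector has order dividing 2 or 3. -/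
theorem rho_of_fixed (k : ℕ) {m : ℕ} (hq : q = 3 ^ (2 * m + 1)) (p : ℤˣ × SL(2, F))
    {X : Matrix (Fin 2) (Fin 2) F} (hX : X ≠ 0) (h : act1 p X = X) :
    rho k p ^ 2 = 1 ∨ rho k p ^ 3 = 1 := by
  rw [act1_eq_iff] at h
  set A : Matrix (Fin 2) (Fin 2) F := (p.2 : Matrix (Fin 2) (Fin 2) F) with hA
  set B : Matrix (Fin 2) (Fin 2) F := ((tw p.2 : SL(2, F)) : Matrix (Fin 2) (Fin 2) F) with hB
  set t := A.trace with ht
  set s : F := sgn p.1 with hs
  have hAA : A * A = t • A - 1 := sq_eq_trace p.2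
  have hBB : B * B = t ^ 3 • B - 1 := by
    rw [ht, hA, ← tw_trace]; exact sq_eq_trace (tw p.2)
  have hss : s * s = 1 := sgn_sq _
  have e1 : X * B * B = A * A * X := by
    rw [← h, Matrix.smul_mul, Matrix.mul_assoc A X B, ← h, Matrix.mul_smul, smul_smul, hss, one_smul,
      Matrix.mul_assoc]
  rw [Matrix.mul_assoc X B B, hBB, hAA, Matrix.mul_sub, Matrix.sub_mul, Matrix.mul_smul, Matrix.smul_mul,
    Matrix.mul_one, Matrix.one_mul, ← h, smul_smul, sub_left_inj] at e1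
  have e2 : (t ^ 3 * s - t) • (A * X) = 0 := by rw [sub_smul, e1, sub_self]
  have hAX : A * X ≠ 0 := fun e => hX (by
    have h1 : ((p.2⁻¹ : SL(2, F)) : Matrix (Fin 2) (Fin 2) F) * A = 1 := by
      rw [hA, ← Matrix.SpecialLinearGroup.coe_mul, inv_mul_cancel, Matrix.SpecialLinearGroup.coe_one]
    rw [← Matrix.one_mul X, ← h1, Matrix.mul_assoc, e, Matrix.mul_zero])
  have e3 : t ^ 3 * s - t = 0 := (smul_eq_zero.1 e2).resolve_right hAX
  by_cases ht0 : t = 0
  · left
    refine rho_pow_scalar k p 2 (Int.units_sq p.1) (r := -1) ?_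
    rw [Matrix.SpecialLinearGroup.coe_pow, sq, ← hA, hAA, ht0, zero_smul, zero_sub, neg_one_smul]
  · right
    have e4 : t * t = s := by
      have : t * (t * t * s - 1) = 0 := by linear_combination e3
      have h4 := (mul_eq_zero.1 this).resolve_left ht0
      linear_combination s * h4 - t * t * hss
    have hne : ringChar F ≠ 2 := by rw [ringChar.eq F 3]; decide
    have hs1 : p.1 = 1 := by
      rcases Int.units_eq_one_or p.1 with h1 | h1
      · exact h1
      · exfalso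
        have hsq : IsSquare (-1 : F) := ⟨t, by rw [e4, hs, h1]; simp [sgn]⟩
        rw [FiniteField.isSquare_neg_one_iff] at hsq
        apply hsq
        rw [hq, pow_succ, pow_mul, Nat.mul_mod, Nat.pow_mod]
        norm_num
    refine rho_pow_scalar k p 3 (by rw [hs1, one_pow]) (r := -t) ?_
    have hs' : s = 1 := by rw [hs, hs1, sgn_one]
    rw [Matrix.SpecialLinearGroup.coe_pow, pow_succ, sq, ← hA, hAA, Matrix.sub_mul, Matrix.smul_mul, hAA,
      Matrix.one_mul, smul_sub, smul_smul, e4, hs', one_smul, neg_smul]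
    abel

/-- The orders of the complement. -/
theorem rho_exponents (k : ℕ) {m : ℕ} (hq : q = 3 ^ (2 * m + 1)) (p : ℤˣ × SL(2, F)) :
    rho k p ^ 6 = 1 ∨ rho k p ^ (q - 1) = 1 ∨ rho k p ^ ((q + 1) / 2) = 1 := by
  haveI : Fact (Nat.Prime 3) := ⟨Nat.prime_three⟩
  have hq4 : q % 4 = 3 := by
    rw [hq, pow_succ, pow_mul, Nat.mul_mod, Nat.pow_mod]; norm_num
  have hg : Nat.gcd 2 (q - 1) = 2 :=
    Nat.gcd_eq_left ⟨(q - 1) / 2, by omega⟩
  have key : ∀ n : ℕ, (QuotientGroup.mk p.2 : Matrix.ProjectiveSpecialLinearGroup (Fin 2) F) ^ n = 1 →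
      ∃ r : F, ((p.2 ^ n : SL(2, F)) : Matrix (Fin 2) (Fin 2) F) = r • 1 := by
    intro n hn
    rw [← QuotientGroup.mk_pow, QuotientGroup.eq_one_iff, Matrix.SpecialLinearGroup.mem_center_iff] at hn
    obtain ⟨r, -, hr⟩ := hn
    exact ⟨r, by rw [← hr, Matrix.scalar_apply, Matrix.smul_one_eq_diagonal]⟩
  have twice : ∀ (n : ℕ) (r : F), ((p.2 ^ n : SL(2, F)) : Matrix (Fin 2) (Fin 2) F) = r • 1 →
      rho k p ^ (2 * n) = 1 := fun n r hr => rho_pow_scalar k p (2 * n)
        (by rw [pow_mul, Int.units_sq, one_pow]) (r := r * r) (by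
          rw [two_mul, pow_add, Matrix.SpecialLinearGroup.coe_mul, hr, Matrix.smul_mul, Matrix.one_mul, smul_smul])
  rcases Cfsg.Lib.Spec.psl_two_exponents 3 (QuotientGroup.mk p.2 : Matrix.ProjectiveSpecialLinearGroup (Fin 2) F)
    with h | h | h
  · obtain ⟨r, hr⟩ := key _ h
    exact Or.inl (twice 3 r hr)
  · rw [hg] at h
    obtain ⟨r, hr⟩ := key _ h
    have := twice _ r hr
    rw [show 2 * ((q - 1) / 2) = q - 1 by omega] at this
    exact Or.inr (Or.inl this)
  · rw [hg] at h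
    obtain ⟨r, hr⟩ := key _ h
    refine Or.inr (Or.inr (rho_pow_scalar k p _ ?_ hr))
    obtain ⟨c, hc⟩ : 2 ∣ (q + 1) / 2 := by omega
    rw [hc, pow_mul, Int.units_sq, one_pow]

/-- The group `Vᵏ ⋊ ({±1} × PSL₂(q))`. -/
abbrev Hx (F : Type) [Field F] [Fintype F] [CharP F 3] (k : ℕ) :=
  Multiplicative (Vk F k) ⋊[(rho (F := F) k).range.subtype] ↥((rho (F := F) k).range)

instance instFiniteHx (k : ℕ) : Finite (Hx F k) := Finite.of_equiv _ SemidirectProduct.equivProd.symm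

theorem cube_eq_one (k : ℕ) (w : Multiplicative (Vk F k)) : w ^ 3 = 1 := by
  refine Multiplicative.toAdd.injective (funext fun i => ?_)
  rw [toAdd_pow, toAdd_one, Pi.smul_apply, Pi.zero_apply]
  ext a b
  rw [Matrix.smul_apply, nsmul_eq_mul, CharP.cast_eq_zero, zero_mul, Matrix.zero_apply]

theorem Hx_exponents (k : ℕ) {m : ℕ} (hq : q = 3 ^ (2 * m + 1)) (x : Hx F k) :
    x ^ 6 = 1 ∨ x ^ 9 = 1 ∨ x ^ (q - 1) = 1 ∨ x ^ ((q + 1) / 2) = 1 := by
  obtain ⟨p, hp⟩ := x.right.2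
  have hr : ∀ n, rho k p ^ n = 1 → x ^ n = SemidirectProduct.inl (x ^ n).left := by
    intro n hn
    refine SemidirectProduct.ext (by simp) ?_
    have : (x ^ n).right = x.right ^ n := map_pow (SemidirectProduct.rightHom) x n
    rw [SemidirectProduct.right_inl, this]
    exact Subtype.ext (by rw [Subgroup.coe_pow, ← hp, hn, Subgroup.coe_one])
  by_cases hfix : ∃ X, X ≠ 0 ∧ act1 p X = X
  · obtain ⟨X, hX, hpX⟩ := hfix
    rcases rho_of_fixed k hq p hX hpX with h | h
    · exact Or.inl (by rw [show 6 = 2 * 3 from rfl, pow_mul, hr 2 h, ← map_pow, cube_eq_one, map_one])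
    · exact Or.inr (Or.inl (by rw [show 9 = 3 * 3 from rfl, pow_mul, hr 3 h, ← map_pow, cube_eq_one, map_one]))
  · push_neg at hfix
    have key : ∀ n, rho k p ^ n = 1 → x ^ n = 1 := by
      intro n hn
      set w := (x ^ n).left with hw
      have hc : x * SemidirectProduct.inl w = SemidirectProduct.inl w * x := by
        rw [hw, ← hr n hn, ← pow_succ', pow_succ]
      have hl := congrArg SemidirectProduct.left hc
      simp only [SemidirectProduct.mul_left, SemidirectProduct.left_inl, SemidirectProduct.right_inl,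
        map_one, MulAut.one_apply] at hl
      rw [mul_comm w, mul_right_inj, Subgroup.coe_subtype, ← hp] at hl
      have hw1 : w = 1 := by
        refine Multiplicative.toAdd.injective (funext fun i => ?_)
        rw [toAdd_one, Pi.zero_apply]
        by_contra hne
        exact hfix _ hne (by rw [← rho_apply k p w i, hl])
      rw [hr n hn, ← hw, hw1, map_one]
    rcases rho_exponents k hq p with h | h | h
    · exact Or.inl (key _ h)
    · exact Or.inr (Or.inr (Or.inl (key _ h)))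
    · exact Or.inr (Or.inr (Or.inr (key _ h)))

/-- The unipotent element. -/
def uni : SL(2, F) := ⟨!![1, 1; 0, 1], by simp [Matrix.det_fin_two]⟩

theorem uni_coe : ((uni (F := F)) : Matrix (Fin 2) (Fin 2) F) = !![1, 1; 0, 1] := rfl

theorem tw_uni_coe : ((tw (uni (F := F)) : SL(2, F)) : Matrix (Fin 2) (Fin 2) F) = !![1, 1; 0, 1] := by
  ext i j; fin_cases i <;> fin_cases j <;> simp [tw, uni_coe, frobenius_def, Matrix.SpecialLinearGroup.map_apply_coe]

theorem upow (n : ℕ) : (!![(1 : F), 1; 0, 1] : Matrix (Fin 2) (Fin 2) F) ^ n = !![1, (n : F); 0, 1] := by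
  induction n with
  | zero => simp [Matrix.one_fin_two]
  | succ n ih => rw [pow_succ, ih]; simp [add_comm]

theorem exists_order_six (k : ℕ) : ∃ x : Hx F k, orderOf x = 6 := by
  set p : ℤˣ × SL(2, F) := (-1, uni) with hp
  refine ⟨SemidirectProduct.inr ⟨rho k p, p, rfl⟩, ?_⟩
  rw [orderOf_injective SemidirectProduct.inr SemidirectProduct.inr_injective, ← Subgroup.orderOf_coe]
  have h3 : (3 : F) = 0 := by simpa using CharP.cast_eq_zero F 3
  have h6 : rho k p ^ 6 = 1 := rho_pow_scalar k p 6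
    (by rw [hp]; simp only; decide) (r := 1) (by
      rw [one_smul, hp]
      simp only [Matrix.SpecialLinearGroup.coe_pow, uni_coe, upow]
      rw [show ((6 : ℕ) : F) = 0 by push_cast; linear_combination (2 : F) * h3, ← Matrix.one_fin_two])
  have hne2 : (2 : F) ≠ 0 := fun e => by
    have h1 : (1 : F) = 0 := by linear_combination h3 - e
    exact one_ne_zero h1
  have h2 : rho k p ^ 2 ≠ 1 := by
    intro e
    rw [← map_pow, rho_eq_one_iff] at e
    have e' := congrFun (congrFun (e !![0, 0; 1, 0]) 0) 0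
    simp only [hp, Prod.pow_fst, Prod.pow_snd, Int.units_sq, sgn_one, one_smul, map_pow,
      Matrix.SpecialLinearGroup.coe_pow, tw_uni_coe, uni_coe, upow] at e'
    simp [Matrix.mul_apply, Fin.sum_univ_two] at e'
    exact hne2 e'
  have h3' : rho k p ^ 3 ≠ 1 := by
    intro e
    rw [← map_pow, rho_eq_one_iff] at e
    have e' := congrFun (congrFun (e 1) 0) 0
    simp only [hp, Prod.pow_fst, Prod.pow_snd, map_pow, sgn,
      Matrix.SpecialLinearGroup.coe_pow, tw_uni_coe, uni_coe, upow] at e'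
    simp [h3] at e'
    exact hne2 (by linear_combination -e')
  have hd : orderOf (rho k p) ∣ 6 := orderOf_dvd_of_pow_eq_one h6
  have n2 : ¬ orderOf (rho k p) ∣ 2 := fun h => h2 (orderOf_dvd_iff_pow_eq_one.1 h)
  have n3 : ¬ orderOf (rho k p) ∣ 3 := fun h => h3' (orderOf_dvd_iff_pow_eq_one.1 h)
  have hle := Nat.le_of_dvd (by norm_num) hd
  revert hd n2 n3
  generalize orderOf (rho k p) = d at hle ⊢
  interval_cases d <;> decide

theorem exists_order_nine (k : ℕ) : ∃ x : Hx F k, orderOf x = 9 := by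
  haveI : Fact (Nat.Prime 3) := ⟨Nat.prime_three⟩
  have h3 : (3 : F) = 0 := by simpa using CharP.cast_eq_zero F 3
  set p : ℤˣ × SL(2, F) := (1, uni) with hp
  set g : ↥((rho (F := F) k).range) := ⟨rho k p, p, rfl⟩ with hg
  set v : Multiplicative (Vk F k) := Multiplicative.ofAdd fun _ => !![0, 0; 1, 0] with hv
  refine ⟨⟨v, g⟩, ?_⟩
  have hg3 : rho k p ^ 3 = 1 := rho_pow_scalar k p 3 (by rw [hp]; simp) (r := 1) (by
    rw [one_smul, hp]
    simp only [Matrix.SpecialLinearGroup.coe_pow, uni_coe, upow]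
    rw [show ((3 : ℕ) : F) = 0 by push_cast; exact h3, ← Matrix.one_fin_two])
  set x : Hx F k := ⟨v, g⟩ with hx
  have hx3 : x ^ 3 = SemidirectProduct.inl (x ^ 3).left := by
    refine SemidirectProduct.ext (by simp) ?_
    have : (x ^ 3).right = x.right ^ 3 := map_pow (SemidirectProduct.rightHom) x 3
    rw [SemidirectProduct.right_inl, this]
    exact Subtype.ext (by rw [Subgroup.coe_pow, Subgroup.coe_one]; exact hg3)
  refine orderOf_eq_prime_pow (p := 3) (n := 1) ?_ ?_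
  · rw [pow_one]
    intro e
    have hl := congrArg SemidirectProduct.left e
    simp only [pow_succ, pow_zero, one_mul, SemidirectProduct.mul_left, SemidirectProduct.mul_right,
      SemidirectProduct.one_left, hx, hg, map_mul, Subgroup.coe_subtype, MulAut.mul_apply] at hl
    have hl' := congrFun (congrFun (congrFun (congrArg Multiplicative.toAdd hl) 0) 0) 1
    simp only [toAdd_mul, Pi.add_apply, Matrix.add_apply, rho_apply, act1, hp, sgn_one, one_smul, hv,
      toAdd_ofAdd, Matrix.SpecialLinearGroup.coe_inv, tw_uni_coe, toAdd_one, Pi.zero_apply, Matrix.zero_apply] at hl'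
    simp [uni_coe, Matrix.adjugate_fin_two, Matrix.mul_apply, Fin.sum_univ_two] at hl'
    apply one_ne_zero (α := F)
    linear_combination hl' + 2 * h3
  · rw [show 3 ^ (1 + 1) = 3 * 3 from rfl, pow_mul, hx3, ← map_pow, cube_eq_one, map_one]

theorem exists_order_split (k : ℕ) {m : ℕ} (hq : q = 3 ^ (2 * m + 1)) : ∃ x : Hx F k, orderOf x = q - 1 := by
  classical
  obtain ⟨l, hl⟩ := IsCyclic.exists_generator (α := Fˣ)
  have hol : orderOf l = q - 1 := by
    rw [orderOf_eq_card_of_forall_mem_zpowers hl, Nat.card_eq_fintype_card, Fintype.card_units]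
  let D : SL(2, F) := ⟨!![(l : F), 0; 0, ((l⁻¹ : Fˣ) : F)], by simp [Matrix.det_fin_two]⟩
  set p : ℤˣ × SL(2, F) := (-1, D) with hp
  refine ⟨SemidirectProduct.inr ⟨rho k p, p, rfl⟩, ?_⟩
  rw [orderOf_injective SemidirectProduct.inr SemidirectProduct.inr_injective, ← Subgroup.orderOf_coe]
  have hq4 : q % 4 = 3 := by rw [hq, pow_succ, pow_mul, Nat.mul_mod, Nat.pow_mod]; norm_num
  have hD : ∀ n : ℕ, ((D ^ n : SL(2, F)) : Matrix (Fin 2) (Fin 2) F) =
      !![((l ^ n : Fˣ) : F), 0; 0, (((l⁻¹) ^ n : Fˣ) : F)] := by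
    intro n
    induction n with
    | zero => simp [Matrix.one_fin_two]
    | succ n ih => rw [pow_succ, Matrix.SpecialLinearGroup.coe_mul, ih, pow_succ, pow_succ]; simp [D]
  have h1 : rho k p ^ (q - 1) = 1 := rho_pow_scalar k p _
    (by rw [hp, show q - 1 = 2 * ((q - 1) / 2) by omega, pow_mul, Int.units_sq, one_pow]) (r := 1) (by
      rw [one_smul, hp]
      show ((D ^ (q - 1) : SL(2, F)) : Matrix (Fin 2) (Fin 2) F) = 1
      rw [hD, inv_pow, ← hol, pow_orderOf_eq_one, inv_one, Units.val_one, ← Matrix.one_fin_two])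
  refine Nat.dvd_antisymm (orderOf_dvd_of_pow_eq_one h1) ?_
  set n := orderOf (rho k p) with hn
  have hn1 : rho k p ^ n = 1 := pow_orderOf_eq_one _
  rw [← map_pow, rho_eq_one_iff] at hn1
  have a := congrFun (congrFun (hn1 !![1, 0; 0, 0]) 0) 0
  have b := congrFun (congrFun (hn1 !![0, 1; 0, 0]) 0) 1
  set e : F := sgn ((p ^ n).1) with he
  set w : Fˣ := l ^ n with hw
  have hT : ((tw (D ^ n) : SL(2, F)) : Matrix (Fin 2) (Fin 2) F) =
      !![((w : F)) ^ 3, 0; 0, ((w⁻¹ : Fˣ) : F) ^ 3] := by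
    ext i j
    rw [tw, Matrix.SpecialLinearGroup.map_apply_coe, RingHom.mapMatrix_apply, hD]
    fin_cases i <;> fin_cases j <;> simp [frobenius_def, hw]
  have hpD : (p ^ n).2 = D ^ n := by rw [hp]; rfl
  rw [hpD, hT, hD, inv_pow, ← hw] at a b
  simp [Matrix.mul_apply, Fin.sum_univ_two] at a b
  have hw0 : (w : F) ≠ 0 := w.ne_zero
  have a2 : (w : F) ^ 2 = e := by
    apply mul_right_cancel₀ hw0
    linear_combination -a
  have b2 : (w : F) ^ 4 * e = 1 := by
    field_simp at b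
    linear_combination b
  have e6 : w ^ 6 = 1 := Units.ext (by
    rw [Units.val_pow_eq_pow_val, Units.val_one]
    linear_combination b2 + (w : F) ^ 4 * a2)
  rw [hw, ← pow_mul, ← orderOf_dvd_iff_pow_eq_one, hol] at e6
  have hj : (q - 1) / 2 ∣ n := by
    have hc : Nat.Coprime ((q - 1) / 2) 3 := by
      rw [Nat.coprime_comm, Nat.prime_three.coprime_iff_not_dvd]
      have hd3 : q % 3 = 0 := by rw [hq, pow_succ, Nat.mul_mod]; simp
      omega
    refine hc.dvd_of_dvd_mul_right ?_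
    obtain ⟨c, hc'⟩ := e6
    have h2 : q - 1 = 2 * ((q - 1) / 2) := by omega
    rw [h2, Nat.mul_assoc] at hc'
    exact ⟨c, by omega⟩
  obtain ⟨c, hc⟩ := hj
  rcases Nat.even_or_odd c with ⟨c', hc'⟩ | hodd
  · refine ⟨c', ?_⟩
    rw [hc, hc']
    have h2 : q - 1 = 2 * ((q - 1) / 2) := by omega
    conv_rhs => rw [h2]
    ring
  · exfalso
    have hnodd : Odd n := by
      rw [hc]
      exact (Nat.odd_iff.2 (by omega : ((q - 1) / 2) % 2 = 1)).mul hodd
    have e1 : e = -1 := by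
      rw [he, hp, Prod.pow_fst]
      simp [hnodd.neg_one_pow, sgn]
    have hsq : IsSquare (-1 : F) := ⟨(w : F), by rw [← e1, ← a2, sq]⟩
    rw [FiniteField.isSquare_neg_one_iff] at hsq
    exact hsq hq4

theorem exists_order_nonsplit (k : ℕ) {m : ℕ} (hq : q = 3 ^ (2 * m + 1)) :
    ∃ x : Hx F k, orderOf x = (q + 1) / 2 := by
  classical
  obtain ⟨k0, hk0⟩ := IsCyclic.exists_generator (α := ↥(Cfsg.Lib.TwoDim.normOne F))
  have hord : orderOf (Cfsg.Lib.TwoDim.torusSL k0) = q + 1 := by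
    rw [orderOf_injective Cfsg.Lib.TwoDim.torusSL Cfsg.Lib.TwoDim.torusSL_injective,
      orderOf_eq_card_of_forall_mem_zpowers hk0, Cfsg.Lib.TwoDim.card_normOne]
  set A : SL(2, F) := Cfsg.Lib.TwoDim.torusSL k0 with hA
  set p : ℤˣ × SL(2, F) := (1, A) with hp
  refine ⟨SemidirectProduct.inr ⟨rho k p, p, rfl⟩, ?_⟩
  rw [orderOf_injective SemidirectProduct.inr SemidirectProduct.inr_injective, ← Subgroup.orderOf_coe]
  have hq2 : 2 ∣ q + 1 := by
    have : q % 2 = 1 := by rw [hq, Nat.pow_mod]; norm_num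
    omega
  have h2 : (2 : F) ≠ 0 := fun e => by
    have h3 : (3 : F) = 0 := by simpa using CharP.cast_eq_zero F 3
    exact one_ne_zero (α := F) (by linear_combination h3 - e)
  have hsq : ((A ^ ((q + 1) / 2)) ^ 2 : SL(2, F)) = 1 := by
    rw [← pow_mul, Nat.div_mul_cancel hq2, ← hord, pow_orderOf_eq_one]
  have h1 : ∃ r : F, ((A ^ ((q + 1) / 2) : SL(2, F)) : Matrix (Fin 2) (Fin 2) F) = r • 1 := by
    set C := A ^ ((q + 1) / 2)
    set t := (C : Matrix (Fin 2) (Fin 2) F).trace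
    have hC : (C : Matrix (Fin 2) (Fin 2) F) * C = 1 := by
      rw [← Matrix.SpecialLinearGroup.coe_mul, ← sq, hsq, Matrix.SpecialLinearGroup.coe_one]
    have hh : t • (C : Matrix (Fin 2) (Fin 2) F) = (2 : F) • 1 := by
      have := sq_eq_trace C
      rw [hC, eq_sub_iff_add_eq] at this
      rw [← this, two_smul]
    refine ⟨2 / t, ?_⟩
    have ht : t ≠ 0 := fun e => by
      rw [e, zero_smul] at hh
      have := congrFun (congrFun hh 0) 0
      simp [h2.symm] at this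
    rw [div_eq_inv_mul, ← smul_smul, ← hh, smul_smul, inv_mul_cancel₀ ht, one_smul]
  obtain ⟨r, hr⟩ := h1
  refine Nat.dvd_antisymm (orderOf_dvd_of_pow_eq_one (rho_pow_scalar k p _ (by rw [hp]; simp)
    (show ((p.2 ^ ((q + 1) / 2) : SL(2, F)) : Matrix (Fin 2) (Fin 2) F) = r • 1 from hr))) ?_
  set n := orderOf (rho k p) with hn
  have hn1 : rho k p ^ n = 1 := pow_orderOf_eq_one _
  rw [← map_pow, rho_eq_one_iff] at hn1
  have hpA : (p ^ n).2 = A ^ n := by rw [hp]; rfl
  have hp1 : (p ^ n).1 = 1 := by rw [hp]; simp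
  simp only [hp1, sgn_one, one_smul, hpA] at hn1
  have hB := hn1 1
  rw [Matrix.mul_one, Matrix.one_mul] at hB
  set C := A ^ n with hC
  have hcomm : ∀ X : Matrix (Fin 2) (Fin 2) F, (C : Matrix (Fin 2) (Fin 2) F) * X = X * C := by
    intro X
    rw [hn1 X, ← hB]
  have hcen : C ^ 2 = 1 := by
    obtain ⟨c, hc⟩ := Matrix.mem_range_scalar_of_commute_single (M := (C : Matrix (Fin 2) (Fin 2) F))
      (fun i j _ => (hcomm _).symm)
    have hc' : (C : Matrix (Fin 2) (Fin 2) F) = c • 1 := by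
      rw [← hc, Matrix.scalar_apply, Matrix.smul_one_eq_diagonal]
    refine Subtype.ext ?_
    rw [Matrix.SpecialLinearGroup.coe_pow, sq, hc', Matrix.smul_mul, Matrix.one_mul, smul_smul,
      scalar_sq hc', one_smul, Matrix.SpecialLinearGroup.coe_one]
  rw [hC, ← pow_mul, ← orderOf_dvd_iff_pow_eq_one, hord] at hcen
  obtain ⟨c, hc⟩ := hcen
  refine ⟨c, ?_⟩
  obtain ⟨d, hd⟩ := hq2
  rw [hd, Nat.mul_div_cancel_left d two_pos]
  rw [hd, mul_assoc, mul_comm n 2] at hc
  exact Nat.eq_of_mul_eq_mul_left two_pos hc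

theorem card_le_Hx (k : ℕ) : k + 1 ≤ Nat.card (Hx F k) := by
  classical
  refine le_of_eq_of_le (Fintype.card_fin _).symm ?_
  rw [← Nat.card_eq_fintype_card]
  refine Nat.card_le_card_of_injective (fun i : Fin (k + 1) =>
    (SemidirectProduct.inl (Multiplicative.ofAdd (Pi.single i (1 : Matrix (Fin 2) (Fin 2) F))) : Hx F k)) ?_
  intro i j h
  have h' := Multiplicative.ofAdd.injective (SemidirectProduct.inl_injective h)
  by_contra hne
  have := congrFun h' i
  rw [Pi.single_eq_same, Pi.single_eq_of_ne hne] at this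
  exact one_ne_zero this

end Cfsg.Lib.Chev.ReeCube

namespace Cfsg.Lib.Chev.ReeCube

/-- If `H` carries four of the six kinds of orders and `R` all six, `R × R × H` and `R × R × R` have the same orders. -/
theorem range_orderOf_cube {R R' H : Type*} [Group R] [Group R'] [Group H] {a b c d e f : ℕ}
    (hR : ∀ n, (∃ g : R, orderOf g = n) ↔ (n ∣ a ∨ n ∣ b ∨ n ∣ c ∨ n ∣ d ∨ n ∣ e ∨ n ∣ f))
    (hR' : ∀ n, (∃ g : R', orderOf g = n) ↔ (n ∣ a ∨ n ∣ b ∨ n ∣ c ∨ n ∣ d ∨ n ∣ e ∨ n ∣ f))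
    (hH : ∀ n, (∃ g : H, orderOf g = n) ↔ (n ∣ a ∨ n ∣ b ∨ n ∣ c ∨ n ∣ d)) :
    Set.range (orderOf : R' × R' × H → ℕ) = Set.range (orderOf : R × R × R → ℕ) := by
  ext N
  constructor
  · rintro ⟨⟨x, y, z⟩, rfl⟩
    obtain ⟨x', hx⟩ := (hR _).2 ((hR' _).1 ⟨x, rfl⟩)
    obtain ⟨y', hy⟩ := (hR _).2 ((hR' _).1 ⟨y, rfl⟩)
    obtain ⟨z', hz⟩ := (hR (orderOf z)).2 (by
      rcases (hH _).1 ⟨z, rfl⟩ with h | h | h | h
      · exact Or.inl h
      · exact Or.inr (Or.inl h)
      · exact Or.inr (Or.inr (Or.inl h))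
      · exact Or.inr (Or.inr (Or.inr (Or.inl h))))
    exact ⟨(x', y', z'), by rw [Prod.orderOf, Prod.orderOf, Prod.orderOf, Prod.orderOf, hx, hy, hz]⟩
  · rintro ⟨⟨x, y, z⟩, rfl⟩
    have build : ∀ u v w : ℕ, (u ∣ a ∨ u ∣ b ∨ u ∣ c ∨ u ∣ d ∨ u ∣ e ∨ u ∣ f) →
        (v ∣ a ∨ v ∣ b ∨ v ∣ c ∨ v ∣ d ∨ v ∣ e ∨ v ∣ f) → (w ∣ a ∨ w ∣ b ∨ w ∣ c ∨ w ∣ d) →
        u.lcm (v.lcm w) = orderOf (x, y, z) → orderOf (x, y, z) ∈ Set.range (orderOf : R' × R' × H → ℕ) := by
      intro u v w hu hv hw he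
      obtain ⟨u', hu'⟩ := (hR' u).2 hu
      obtain ⟨v', hv'⟩ := (hR' v).2 hv
      obtain ⟨w', hw'⟩ := (hH w).2 hw
      exact ⟨(u', v', w'), by rw [Prod.orderOf, Prod.orderOf, hu', hv', hw', he]⟩
    have hu := (hR _).1 ⟨x, rfl⟩
    have hv := (hR _).1 ⟨y, rfl⟩
    have hw := (hR _).1 ⟨z, rfl⟩
    have hxyz : orderOf (x, y, z) = (orderOf x).lcm ((orderOf y).lcm (orderOf z)) := by
      rw [Prod.orderOf, Prod.orderOf]
    generalize hu0 : orderOf x = u at hu hxyz
    generalize hv0 : orderOf y = v at hv hxyz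
    generalize hw0 : orderOf z = w at hw hxyz
    by_cases hw4 : w ∣ a ∨ w ∣ b ∨ w ∣ c ∨ w ∣ d
    · exact build u v w hu hv hw4 hxyz.symm
    by_cases hv4 : v ∣ a ∨ v ∣ b ∨ v ∣ c ∨ v ∣ d
    · exact build u w v hu hw hv4 (by rw [hxyz, Nat.lcm_comm v w])
    by_cases hu4 : u ∣ a ∨ u ∣ b ∨ u ∣ c ∨ u ∣ d
    · exact build w v u hw hv hu4 (by rw [hxyz, Nat.lcm_comm w (v.lcm u), Nat.lcm_comm v u, Nat.lcm_assoc])
    have one4 : 1 ∣ a ∨ 1 ∣ b ∨ 1 ∣ c ∨ 1 ∣ d := Or.inl (one_dvd a)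
    have last : ∀ {u : ℕ}, (u ∣ a ∨ u ∣ b ∨ u ∣ c ∨ u ∣ d ∨ u ∣ e ∨ u ∣ f) →
        ¬ (u ∣ a ∨ u ∣ b ∨ u ∣ c ∨ u ∣ d) → u ∣ e ∨ u ∣ f := by
      intro u h hn
      rcases h with h | h | h | h | h | h
      · exact absurd (Or.inl h) hn
      · exact absurd (Or.inr (Or.inl h)) hn
      · exact absurd (Or.inr (Or.inr (Or.inl h))) hn
      · exact absurd (Or.inr (Or.inr (Or.inr h))) hn
      · exact Or.inl h
      · exact Or.inr h
    have hu' := last hu hu4
    have hv' := last hv hv4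
    have hw' := last hw hw4
    have merge : ∀ s t : ℕ, (s ∣ e ∧ t ∣ e) ∨ (s ∣ f ∧ t ∣ f) →
        (s.lcm t ∣ a ∨ s.lcm t ∣ b ∨ s.lcm t ∣ c ∨ s.lcm t ∣ d ∨ s.lcm t ∣ e ∨ s.lcm t ∣ f) := by
      rintro s t (⟨h1, h2⟩ | ⟨h1, h2⟩)
      · exact Or.inr (Or.inr (Or.inr (Or.inr (Or.inl (Nat.lcm_dvd h1 h2)))))
      · exact Or.inr (Or.inr (Or.inr (Or.inr (Or.inr (Nat.lcm_dvd h1 h2)))))
    by_cases huv : (u ∣ e ∧ v ∣ e) ∨ (u ∣ f ∧ v ∣ f)
    · exact build (u.lcm v) w 1 (merge u v huv) hw one4 (by rw [hxyz, Nat.lcm_one_right, Nat.lcm_assoc])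
    by_cases huw : (u ∣ e ∧ w ∣ e) ∨ (u ∣ f ∧ w ∣ f)
    · exact build (u.lcm w) v 1 (merge u w huw) hv one4 (by
        rw [hxyz, Nat.lcm_one_right, Nat.lcm_assoc, Nat.lcm_comm v w])
    · refine build u (v.lcm w) 1 hu (merge v w ?_) one4 (by rw [hxyz, Nat.lcm_one_right])
      rcases hu' with hu' | hu' <;> rcases hv' with hv' | hv' <;> rcases hw' with hw' | hw' <;>
        first
          | exact Or.inl ⟨hv', hw'⟩
          | exact Or.inr ⟨hv', hw'⟩
          | exact (huv (Or.inl ⟨hu', hv'⟩)).elim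
          | exact (huv (Or.inr ⟨hu', hv'⟩)).elim
          | exact (huw (Or.inl ⟨hu', hw'⟩)).elim
          | exact (huw (Or.inr ⟨hu', hw'⟩)).elim

theorem Hx_orders {F : Type} [Field F] [Fintype F] [CharP F 3] (k : ℕ) {m : ℕ}
    (hq : Fintype.card F = 3 ^ (2 * m + 1)) (n : ℕ) :
    (∃ x : Hx F k, orderOf x = n) ↔
      (n ∣ 6 ∨ n ∣ 9 ∨ n ∣ 3 ^ (2 * m + 1) - 1 ∨ n ∣ (3 ^ (2 * m + 1) + 1) / 2) := by
  constructor
  · rintro ⟨x, rfl⟩
    rw [← hq]
    rcases Hx_exponents k hq x with h | h | h | h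
    · exact Or.inl (orderOf_dvd_of_pow_eq_one h)
    · exact Or.inr (Or.inl (orderOf_dvd_of_pow_eq_one h))
    · exact Or.inr (Or.inr (Or.inl (orderOf_dvd_of_pow_eq_one h)))
    · exact Or.inr (Or.inr (Or.inr (orderOf_dvd_of_pow_eq_one h)))
  · intro h
    have key : ∀ {M : ℕ}, n ∣ M → (∃ x : Hx F k, orderOf x = M) → ∃ x : Hx F k, orderOf x = n := by
      rintro M hd ⟨g, rfl⟩
      obtain ⟨c, hc⟩ := hd
      have hc0 : c ≠ 0 := fun e => by rw [e, mul_zero] at hc; exact (orderOf_pos g).ne' hc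
      exact ⟨g ^ c, by rw [orderOf_pow_of_dvd hc0 ⟨n, hc.trans (mul_comm n c)⟩, hc,
        Nat.mul_div_cancel _ (Nat.pos_of_ne_zero hc0)]⟩
    rw [← hq] at h
    rcases h with h | h | h | h
    · exact key h (exists_order_six k)
    · exact key h (exists_order_nine k)
    · exact key h (exists_order_split k hq)
    · exact key h (exists_order_nonsplit k hq)

theorem exists_big_group {K : Type*} [Field K] [Fintype K] {m : ℕ} (hm : 1 ≤ m)
    (hK : Fintype.card K = 3 ^ (2 * m + 1)) (N : ℕ) :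
    ∃ (H : Type) (_ : Group H) (_ : Fintype H), N < Fintype.card H ∧
      Set.range (orderOf : H → ℕ) = Set.range (orderOf : ↥(Cfsg.Lie.twistedG2 K (3 ^ m)) ×
        ↥(Cfsg.Lie.twistedG2 K (3 ^ m)) × ↥(Cfsg.Lie.twistedG2 K (3 ^ m)) → ℕ) := by
  classical
  haveI : Fact (Nat.Prime 3) := ⟨Nat.prime_three⟩
  haveI : NeZero (3 : ℕ) := ⟨by norm_num⟩
  let F : Type := GaloisField 3 (2 * m + 1)
  letI : Fintype F := Fintype.ofFinite F
  have hF : Fintype.card F = 3 ^ (2 * m + 1) := by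
    rw [← Nat.card_eq_fintype_card]; exact GaloisField.card 3 (2 * m + 1) (by omega)
  let R' := ↥(Cfsg.Lie.twistedG2 F (3 ^ m))
  haveI : Finite R' := inferInstance
  letI : Fintype (R' × R' × Hx F N) := Fintype.ofFinite _
  refine ⟨R' × R' × Hx F N, inferInstance, inferInstance, ?_, ?_⟩
  · rw [← Nat.card_eq_fintype_card, Nat.card_prod, Nat.card_prod]
    have h := card_le_Hx (F := F) N
    have hpos : 0 < Nat.card R' := Nat.card_pos
    calc N < Nat.card (Hx F N) := h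
      _ ≤ Nat.card R' * Nat.card (Hx F N) := Nat.le_mul_of_pos_left _ hpos
      _ ≤ _ := Nat.le_mul_of_pos_left _ hpos
  · exact range_orderOf_cube (fun n => Cfsg.Agent.S1159.result hm hK n)
      (fun n => Cfsg.Agent.S1159.result hm hF n) (fun n => Hx_orders N hF n)

end Cfsg.Lib.Chev.ReeCube
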