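import Cfsg.Agent.Lib.Chev.ReeBasic
import Cfsg.Agent.Lib.Chev.TwG2AutOut

/-! Two generators of ²G₂(q). -/

set_option autoImplicit false
set_option linter.unusedSectionVars false
set_option maxRecDepth 100000

namespace Cfsg.Lib.Chev.Ree

open Cfsg.Lie Cfsg.Lib.Chev Cfsg.Lib.Chev.G2Aut

/-- The product of two elements with a first parameter, one of them at one. -/
theorem gen_word : sameWordMod 3 tblG2
    [.x 7 [⟨1, 1, 0⟩], .x 6 [⟨1, 0, 1⟩], .x 8 [⟨1, 1, 1⟩], .x 9 [⟨1, 2, 1⟩],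
      .x 7 [⟨1, 0, 0⟩], .x 6 [⟨1, 0, 0⟩], .x 8 [⟨1, 0, 0⟩], .x 9 [⟨1, 0, 0⟩]]
    [.x 7 [⟨1, 0, 0⟩], .x 6 [⟨1, 0, 0⟩], .x 8 [⟨1, 0, 0⟩], .x 9 [⟨1, 0, 0⟩],
      .x 7 [⟨1, 1, 0⟩], .x 6 [⟨1, 0, 1⟩], .x 8 [⟨1, 1, 1⟩], .x 9 [⟨1, 2, 1⟩],
      .x 8 [⟨-1, 1, 0⟩, ⟨1, 0, 1⟩], .x 9 [⟨1, 1, 0⟩, ⟨1, 0, 1⟩, ⟨-1, 1, 1⟩, ⟨-1, 2, 0⟩],
      .x 10 [⟨-1, 0, 1⟩, ⟨1, 3, 0⟩], .x 11 [⟨1, 0, 1⟩, ⟨1, 3, 0⟩, ⟨-1, 3, 1⟩, ⟨-1, 0, 2⟩]] = true := by
  decide +kernel

variable {K : Type*} [Field K] [Fintype K] [CharP K esymG2.p] {m : ℕ} (hK : Fintype.card K = 3 ^ (2 * m + 1))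
include hK

set_option maxHeartbeats 1000000 in
theorem eU_swap_one {t : K} (ht : t ≠ 0) :
    eU hK t 0 0 * eU hK 1 0 0 = eU hK 1 0 0 * eU hK t 0 0 *
      eU hK 0 (-t + (t ^ 3 ^ m) ^ 3) (t + (t ^ 3 ^ m) ^ 3 + (-((t ^ 3 ^ m) ^ 3 * t)) + (-(t ^ 2))) := by
  haveI : CharP K 3 := inferInstanceAs (CharP K esymG2.p)
  have hp : 3 ^ m ≠ 0 := pow_ne_zero _ (by norm_num)
  have hT3 : ((t ^ 3 ^ m) ^ 3) ^ 3 ^ m = t := by
    rw [← pow_mul, ← pow_mul, show 3 ^ m * (3 * 3 ^ m) = 3 ^ m * (3 ^ m * 3) by ring, pow_mul]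
    exact g2_theta hK t
  have hu : (-t + (t ^ 3 ^ m) ^ 3) ^ 3 ^ m = -(t ^ 3 ^ m) + t := by rw [g2_add_pow, g2_neg_pow, hT3]
  have hv : (t + (t ^ 3 ^ m) ^ 3 + (-((t ^ 3 ^ m) ^ 3 * t)) + (-(t ^ 2))) ^ 3 ^ m =
      t ^ 3 ^ m + t + -(t ^ 3 ^ m * t) + -((t ^ 3 ^ m) ^ 2) := by
    rw [g2_add_pow, g2_add_pow, g2_add_pow, g2_neg_pow, g2_neg_pow, hT3, mul_pow, hT3, ← pow_mul, ← pow_mul,
      mul_comm 2]
    ring
  refine Subtype.ext (Units.ext ?_)
  have e := wmat_eq_of_sameWordMod (t ^ 3 ^ m) t (p := 3) certG2C.spec.shape (pow_ne_zero _ ht) ht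
    (by intro L hL
        simp only [List.mem_cons, List.not_mem_nil, or_false] at hL
        rcases hL with rfl | rfl | rfl | rfl | rfl | rfl | rfl | rfl <;> exact okX (by decide))
    (by intro L hL
        simp only [List.mem_cons, List.not_mem_nil, or_false] at hL
        rcases hL with rfl | rfl | rfl | rfl | rfl | rfl | rfl | rfl | rfl | rfl | rfl | rfl <;> exact okX (by decide))
    gen_word
  have ea : t ^ (3 ^ m + 1) = t ^ 3 ^ m * t := pow_succ _ _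
  have eb : t ^ (2 * 3 ^ m + 1) = (t ^ 3 ^ m) ^ 2 * t := by rw [pow_succ, ← pow_mul, mul_comm 2]
  simp [wmat, Ltr.mat, pval, Mono.val, add_assoc] at e
  simp [eU, reeU, g2Six, xg_zero, hp, coe_xg, mul_assoc, ea, eb]
  rw [hu, hv]
  simp [add_assoc]
  exact e

theorem low_shift (a b s : K) : ∃ V, eU hK 0 a b * eU hK s 0 0 = eU hK s 0 0 * eU hK 0 a V := by
  obtain ⟨V, hV⟩ := eU_shift hK (a := s) a
  refine ⟨V + b, ?_⟩
  rw [eU_zero_split hK a b, mul_assoc, ← (eU_central hK s 0 0 b).eq, ← mul_assoc, hV, mul_assoc, eU_mul_zero, add_zero]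

/-- Two generators of ²G₂(q). -/
theorem two_generated (hm : 1 ≤ m) : ∃ a b : ↥(gG K m), Subgroup.closure ({a, b} : Set ↥(gG K m)) = ⊤ := by
  classical
  have h27 : 27 ≤ 3 ^ (2 * m + 1) := (by norm_num : 27 ≤ 3 ^ 3).trans (Nat.pow_le_pow_right (by norm_num) (by omega))
  obtain ⟨n, hn⟩ := G2Aut.exists_long hK
  obtain ⟨g, hg⟩ := IsCyclic.exists_generator (α := Kˣ)
  set x := eU hK 1 0 0 with hx
  refine ⟨eT hK g, x * n, ?_⟩
  set H := Subgroup.closure ({eT hK g, x * n} : Set ↥(gG K m)) with hH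
  have hh : eT hK g ∈ H := Subgroup.subset_closure (Set.mem_insert _ _)
  have hb : x * n ∈ H := Subgroup.subset_closure (Set.mem_insert_of_mem _ rfl)
  have hT : ∀ z, eT hK z ∈ H := fun z => by
    obtain ⟨j, rfl⟩ := hg z
    show MonoidHom.mk' (eT (m := m) hK) (eT_mul hK) (g ^ j) ∈ H
    rw [map_zpow]; exact zpow_mem hh j
  have hg2 : g ^ 2 ≠ 1 := fun e => by
    have h2 := Nat.le_of_dvd two_pos (orderOf_dvd_of_pow_eq_one e)
    rw [orderOf_eq_card_of_forall_mem_zpowers hg, Nat.card_units, Nat.card_eq_fintype_card, hK] at h2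
    omega
  -- the long element inverts `g`
  obtain ⟨g', hg'⟩ : ∃ g', n * eT hK g * n⁻¹ = eT hK g' := exists_eT hK (hn.torus _ (eT_mem hK g))
  have hc : ∃ d : K, d ≠ 0 ∧ ∃ u v, eU hK d u v ∈ H := by
    have h1 : x * eT hK g' * x⁻¹ ∈ H := by
      rw [← hg', show x * (n * eT hK g * n⁻¹) * x⁻¹ = x * n * eT hK g * (x * n)⁻¹ by group]
      exact mul_mem (mul_mem hb hh) (inv_mem hb)
    have h2 : x * (eT hK g' * x * (eT hK g')⁻¹)⁻¹ ∈ H := by
      have := mul_mem h1 (inv_mem (hT g'))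
      rwa [show x * eT hK g' * x⁻¹ * (eT hK g')⁻¹ = x * (eT hK g' * x * (eT hK g')⁻¹)⁻¹ by group] at this
    rw [hx, eT_conj, mul_one, mul_zero, mul_zero] at h2
    obtain ⟨U, V, e⟩ := eU_inv_fst hK (chr tblG2 chevG2 (extend' (g2Par m g')) 6) 0 0
    obtain ⟨U', V', e'⟩ := eU_mul_fst hK 1 0 0 (-chr tblG2 chevG2 (extend' (g2Par m g')) 6) U V
    rw [e, e'] at h2
    refine ⟨_, fun h => ?_, U', V', h2⟩
    have h6 := g2_chr_eq_one hK (Or.inl rfl) (add_neg_eq_zero.1 h).symm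
    refine hg2 (eT_injective hK ?_)
    have hsq : n * eT hK (g ^ 2) * n⁻¹ = eT hK (g' ^ 2) := by rw [pow_two, pow_two, eT_mul, eT_mul, ← hg']; group
    rw [h6, eT_one, conj_eq_one_iff] at hsq
    rw [hsq, eT_one]
  -- every first parameter
  let A : AddSubgroup K :=
    { carrier := {t | ∃ u v, eU hK t u v ∈ H}
      zero_mem' := ⟨0, 0, by rw [eU_zero]; exact one_mem H⟩
      add_mem' := by
        rintro a b ⟨u, v, ha⟩ ⟨u', v', hb⟩
        obtain ⟨U, V, e⟩ := eU_mul_fst hK a u v b u' v'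
        exact ⟨U, V, e ▸ mul_mem ha hb⟩
      neg_mem' := by
        rintro a ⟨u, v, ha⟩
        obtain ⟨U, V, e⟩ := eU_inv_fst hK a u v
        exact ⟨U, V, e ▸ inv_mem ha⟩ }
  have hA : ∀ t, ∃ u v, eU hK t u v ∈ H := by
    intro t
    obtain ⟨d, hd, u, v, hd'⟩ := hc
    rcases eq_or_ne t 0 with rfl | ht
    · exact A.zero_mem
    obtain ⟨z, hz⟩ := (c6_bijective hK).2 (Units.mk0 (t / d) (div_ne_zero ht hd))
    have h := mul_mem (mul_mem (hT z) hd') (inv_mem (hT z))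
    rw [eT_conj, ← c6_val hK, hz, Units.val_mk0, div_mul_cancel₀ t hd] at h
    exact ⟨_, _, h⟩
  -- the centre
  have hZ : ∀ w, eU hK 0 0 w ∈ H := by
    intro w
    obtain ⟨u, v, h1⟩ := hA 1
    have h2 := pow_mem h1 3
    rw [cube_one hK] at h2
    rcases eq_or_ne w 0 with rfl | hw
    · rw [eU_zero]; exact one_mem H
    have h := mul_mem (mul_mem (hT (Units.mk0 (-w) (neg_ne_zero.2 hw))) h2)
      (inv_mem (hT (Units.mk0 (-w) (neg_ne_zero.2 hw))))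
    rw [eT_conj, chr11 hK, mul_zero, mul_zero, Units.val_mk0, mul_neg_one, neg_neg] at h
    exact h
  -- a middle parameter
  obtain ⟨t, ht, htu⟩ : ∃ t : K, t ≠ 0 ∧ -t + (t ^ 3 ^ m) ^ 3 ≠ 0 := by
    refine ⟨(g : K), g.ne_zero, fun e => ?_⟩
    have hlt : 3 ^ m * 3 < 3 ^ (2 * m + 1) := by
      rw [← pow_succ]; exact Nat.pow_lt_pow_right (by norm_num) (by omega)
    have e' : g ^ (3 ^ m * 3) = g ^ 1 := Units.ext (by
      rw [Units.val_pow_eq_pow_val, pow_one, pow_mul]; linear_combination e)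
    have h1 : 1 ≤ 3 ^ m * 3 := by have := Nat.one_le_pow m 3 (by norm_num); omega
    rw [pow_eq_pow_iff_modEq, Nat.ModEq.comm, Nat.modEq_iff_dvd' h1, orderOf_eq_card_of_forall_mem_zpowers hg,
      Nat.card_units, Nat.card_eq_fintype_card, hK] at e'
    have h3 : 3 ≤ 3 ^ m := by calc 3 = 3 ^ 1 := rfl
      _ ≤ 3 ^ m := Nat.pow_le_pow_right (by norm_num) hm
    have := Nat.le_of_dvd (by omega) e'
    have hsq : 3 ^ (2 * m + 1) = 3 ^ m * (3 ^ m * 3) := by rw [pow_succ, two_mul, pow_add]; ring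
    have h9 : 3 * (3 ^ m * 3) ≤ 3 ^ m * (3 ^ m * 3) := Nat.mul_le_mul_right _ h3
    omega
  obtain ⟨w₀, hw₀, hw⟩ : ∃ w₀ : K, w₀ ≠ 0 ∧ eU hK 0 w₀ 0 ∈ H := by
    obtain ⟨u₁, v₁, hX⟩ := hA t
    obtain ⟨u₂, v₂, hY⟩ := hA 1
    obtain ⟨a, b, eX⟩ := eU_split hK t u₁ v₁
    obtain ⟨a', b', eY⟩ := eU_split hK 1 u₂ v₂
    obtain ⟨V, eV⟩ := low_shift hK a b 1
    obtain ⟨V', eV'⟩ := low_shift hK a' b' t
    set P := eU hK 1 0 0 * eU hK t 0 0 with hP
    set u' := -t + (t ^ 3 ^ m) ^ 3 with hu'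
    obtain ⟨v', hsw⟩ : ∃ v', eU hK t 0 0 * eU hK 1 0 0 = P * eU hK 0 u' v' := ⟨_, eU_swap_one hK ht⟩
    have e1 : eU hK t u₁ v₁ * eU hK 1 u₂ v₂ = P * eU hK 0 (u' + (a + a')) (v' + (V + b')) := by
      rw [eX, eY, mul_assoc, ← mul_assoc (eU hK 0 a b), eV, mul_assoc, eU_mul_zero, ← mul_assoc, hsw, mul_assoc, eU_mul_zero]
    have e2 : eU hK 1 u₂ v₂ * eU hK t u₁ v₁ = P * eU hK 0 (a' + a) (V' + b) := by
      rw [eX, eY, mul_assoc, ← mul_assoc (eU hK 0 a' b'), eV', mul_assoc, eU_mul_zero, ← mul_assoc]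
    have h := mul_mem (inv_mem (mul_mem hY hX)) (mul_mem hX hY)
    rw [e1, e2, mul_inv_rev, mul_assoc, inv_mul_cancel_left] at h
    obtain ⟨r, hr⟩ : ∃ r, (eU hK 0 (a' + a) (V' + b))⁻¹ * eU hK 0 (u' + (a + a')) (v' + (V + b')) = eU hK 0 u' r := by
      refine ⟨v' + (V + b') - (V' + b), ?_⟩
      rw [inv_mul_eq_iff_eq_mul, eU_mul_zero]
      congr 1 <;> ring
    rw [hr, eU_zero_split] at h
    refine ⟨u', htu, ?_⟩
    have := mul_mem h (inv_mem (hZ r))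
    rwa [mul_inv_cancel_right] at this
  have hM : ∀ w, eU hK 0 w 0 ∈ H := by
    intro w
    rcases eq_or_ne w 0 with rfl | hwne
    · rw [eU_zero]; exact one_mem H
    set φ : Kˣ →* Kˣ := (zpowGroupHom (α := Kˣ) ((3 : ℤ) * 3 ^ m + -1) : Kˣ →* Kˣ) * powMonoidHom ((3 ^ (2 * m + 1) - 1) / 2) with hφ
    have hq : Fintype.card Kˣ = 3 ^ (2 * m + 1) - 1 := by rw [Fintype.card_units, hK]
    have h8 : 3 ^ (2 * m + 1) % 4 = 3 := by rw [pow_succ, pow_mul, Nat.mul_mod, Nat.pow_mod]; norm_num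
    have hsgn : ∀ z : Kˣ, z ^ ((3 ^ (2 * m + 1) - 1) / 2) = 1 ∨ z ^ ((3 ^ (2 * m + 1) - 1) / 2) = -1 := fun z => by
      have h1 : (z ^ ((3 ^ (2 * m + 1) - 1) / 2)) * (z ^ ((3 ^ (2 * m + 1) - 1) / 2)) = 1 := by
        rw [← pow_add, show (3 ^ (2 * m + 1) - 1) / 2 + (3 ^ (2 * m + 1) - 1) / 2 = Fintype.card Kˣ by omega, pow_card_eq_one]
      rcases mul_self_eq_one_iff.1 (show ((z ^ ((3 ^ (2 * m + 1) - 1) / 2) : Kˣ) : K) * (z ^ ((3 ^ (2 * m + 1) - 1) / 2) : Kˣ) = 1 by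
        rw [← Units.val_mul, h1, Units.val_one]) with h | h
      · exact Or.inl (Units.ext h)
      · exact Or.inr (Units.ext (by rw [h]; simp))
    have hinj : Function.Injective φ := by
      refine (MonoidHom.ker_eq_bot_iff φ).1 ((Subgroup.eq_bot_iff_forall _).2 fun z hz => ?_)
      have hz' : z ^ ((3 : ℤ) * 3 ^ m + -1) * z ^ ((3 ^ (2 * m + 1) - 1) / 2) = 1 := by
        rw [MonoidHom.mem_ker] at hz; simpa [φ] using hz
      have h2 : (z ^ 2) ^ 2 = 1 := by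
        refine g2_chr_eq_one hK (Or.inr (Or.inl rfl)) (z := z ^ 2) ?_
        rw [chr10 hK]
        refine Units.val_eq_one.2 ?_
        rw [← zpow_natCast z 2, ← zpow_mul, mul_comm, zpow_mul, zpow_natCast, pow_two]
        have := hsgn z
        rcases this with h | h <;> rw [h] at hz'
        · rw [mul_one] at hz'; rw [hz', mul_one]
        · rw [mul_neg, mul_one, neg_eq_iff_eq_neg] at hz'; rw [hz']; simp
      have hz2 : z ^ 2 = 1 := by
        have hd : orderOf z ∣ Nat.gcd 4 (Fintype.card Kˣ) :=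
          Nat.dvd_gcd (orderOf_dvd_of_pow_eq_one (by rw [← h2, ← pow_mul])) orderOf_dvd_card
        refine orderOf_dvd_iff_pow_eq_one.1 (hd.trans ?_)
        rw [hq, Nat.gcd_rec, show (3 ^ (2 * m + 1) - 1) % 4 = 2 by omega]; decide
      rcases mul_self_eq_one_iff.1 (show (z : K) * z = 1 by rw [← pow_two, ← Units.val_pow_eq_pow_val, hz2, Units.val_one]) with h | h
      · exact Units.ext h
      · exfalso
        have e : z = -1 := Units.ext (by rw [h]; simp)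
        subst e
        have ho : Odd ((3 ^ (2 * m + 1) - 1) / 2) := Nat.odd_iff.2 (by omega)
        obtain ⟨j, hj⟩ : Odd ((3 : ℤ) * 3 ^ m) := Odd.mul (by decide) (Odd.pow (by decide))
        rw [ho.neg_one_pow, hj, show (2 * j + 1 + -1) = 2 * j by ring, zpow_mul] at hz'
        simp at hz'
        exact neg_one_ne hK (congrArg Units.val hz')
    obtain ⟨z, hz⟩ := (Finite.surjective_of_injective hinj) (Units.mk0 (w / w₀) (div_ne_zero hwne hw₀))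
    have h := mul_mem (mul_mem (hT z) hw) (inv_mem (hT z))
    rw [eT_conj, chr10 hK, mul_zero, mul_zero] at h
    set c : Kˣ := z ^ ((3 : ℤ) * 3 ^ m + -1)
    have hz' : c * z ^ ((3 ^ (2 * m + 1) - 1) / 2) = Units.mk0 (w / w₀) (div_ne_zero hwne hw₀) := by
      simpa [φ, c] using hz
    rcases hsgn z with hs | hs <;> rw [hs] at hz'
    · rw [mul_one] at hz'
      rwa [hz', Units.val_mk0, div_mul_cancel₀ w hw₀] at h
    · have hc : (c : K) = -(w / w₀) := by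
        have := congrArg (fun y : Kˣ => (y : K)) hz'
        simp at this; linear_combination -this
      rw [hc, neg_mul, div_mul_cancel₀ w hw₀] at h
      have h' := inv_mem h
      have e : (eU hK 0 (-w) 0)⁻¹ = eU hK 0 w 0 := inv_eq_of_mul_eq_one_right (by rw [eU_mul_zero, neg_add_cancel, add_zero, eU_zero])
      rwa [e] at h'
  have hU : ∀ y ∈ posG K m, y ∈ H := by
    intro y hy
    obtain ⟨t', u', v', rfl⟩ := exists_eU hK hy
    obtain ⟨u₁, v₁, h1⟩ := hA t'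
    obtain ⟨a, b, e⟩ := eU_split hK t' u' v'
    obtain ⟨a', b', e'⟩ := eU_split hK t' u₁ v₁
    have h0 : ∀ p r, eU hK 0 p r ∈ H := fun p r => by rw [eU_zero_split]; exact mul_mem (hM p) (hZ r)
    rw [e]
    refine mul_mem ?_ (h0 a b)
    have := mul_mem h1 (inv_mem (h0 a' b'))
    rwa [e', mul_inv_cancel_right] at this
  have hn' : n ∈ H := by
    have := mul_mem (inv_mem (hU x (eU_mem hK _ _ _))) hb
    rwa [inv_mul_cancel_left] at this
  have hB : ∀ y ∈ borG K m, y ∈ H := fun y hy => by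
    obtain ⟨u, hu, z, rfl⟩ := borG_parts hK hy
    exact mul_mem (hU u hu) (hT z)
  refine eq_top_iff.2 fun y _ => ?_
  rcases hn.cells y with hy | ⟨b, hb', c, hc', rfl⟩
  · exact hB y hy
  · exact mul_mem (mul_mem (hB b hb') hn') (hU c hc')

end Cfsg.Lib.Chev.Ree
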