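import Cfsg.Agent.Lib.Chev.ReeBasic
import Cfsg.Agent.Lib.Chev.MultReeCyclic
import Cfsg.Agent.Lib.Linear.GLTwo

/-! The centraliser of an involution in ²G₂(q). -/

set_option autoImplicit false
set_option linter.unusedSectionVars false
set_option maxRecDepth 100000

namespace Cfsg.Lib.Chev.Ree

open Cfsg.Lie Cfsg.Lib.Chev Cfsg.Lib.Chev.G2Aut
open scoped MatrixGroups

theorem neg_pair : (decide ((tblG2.cartan 0 3 + tblG2.cartan 1 3) % 2 = 0) &&
    decide ((tblG2.cartan 0 1 + tblG2.cartan 1 1) % 2 = 0) &&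
    decide ((tblG2.coroot 8 0 + tblG2.coroot 10 0) % 2 = 0) &&
    decide ((tblG2.coroot 8 1 + tblG2.coroot 10 1) % 2 = 0)) = true := by
  decide +kernel

theorem zpow_neg_one_even {F : Type*} [Field F] {a b : ℤ} (h : (a + b) % 2 = 0) : (-1 : F) ^ a * (-1 : F) ^ b = 1 := by
  obtain ⟨c, hc⟩ := Int.even_iff.2 h
  rw [← zpow_add₀ (neg_ne_zero.2 one_ne_zero), hc, zpow_add₀ (neg_ne_zero.2 one_ne_zero), ← mul_zpow, neg_mul_neg,
    one_mul, one_zpow]

variable {K : Type*} [Field K] [Fintype K] [CharP K esymG2.p] {m : ℕ} (hK : Fintype.card K = 3 ^ (2 * m + 1))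
include hK

/-- The opposite of the second parameter. -/
noncomputable def eV (b : K) : ↥(gG K m) := ⟨reeV m 0 (-b) 0, reeV_fixed hK 0 (-b) 0⟩

theorem eV_mem (b : K) : eV hK b ∈ negG K m := by
  rw [Subgroup.mem_subgroupOf]
  show reeV m 0 (-b) 0 ∈ chevG2.negUnipotent K
  have hx : ∀ r, chevG2.IsNegRoot r → ∀ t : K, xg certG2C r t ∈ chevG2.negUnipotent K := fun r hr t =>
    Subgroup.subset_closure ⟨r, t, hr, coe_xg certG2C r _⟩
  exact mul_mem (mul_mem (mul_mem (mul_mem (mul_mem (hx _ (by decide +kernel) _) (hx _ (by decide +kernel) _))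
    (hx _ (by decide +kernel) _)) (hx _ (by decide +kernel) _)) (hx _ (by decide +kernel) _)) (hx _ (by decide +kernel) _)

set_option maxHeartbeats 1000000 in
/-- The homomorphism from `SL₂(q)`. -/
theorem exists_reeSL' : ∃ Φ : SL(2, K) →* ↥(gG K m), (∀ b, Φ (SLTwoRel.upr b) = eU hK 0 b 0) ∧
    (∀ b, Φ (SLTwoRel.lwr b) = eV hK b) ∧
    (∀ a ha, (Φ (SLTwoRel.tri a 0 ha) : GL chevG2.Idx K) ∈ chevG2.diagonalSubgroup K) ∧
    Φ (SLTwoRel.tri (-1) 0 (neg_ne_zero.2 one_ne_zero)) = 1 := by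
  classical
  haveI : CharP K 3 := inferInstanceAs (CharP K esymG2.p)
  obtain ⟨c1, c2, c3, c4⟩ :
      chkCommMod 3 tblG2 8 10 = true ∧ chkCommMod 3 tblG2 8 1 = true ∧ chkCommMod 3 tblG2 3 10 = true ∧
        chkCommMod 3 tblG2 3 1 = true := by
    simpa [List.all_cons, List.all_nil] using MultW.ree_chk_pairs
  obtain ⟨n8, n10⟩ := MultW.ree_neg_roots
  have h8 : 8 < chevG2.nroots := by decide +kernel
  have h10 : 10 < chevG2.nroots := by decide +kernel
  let θ : K →+* K := iterateFrobenius K esymG2.p m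
  let φ₁ : SL(2, K) →* GL chevG2.Idx K :=
    (rootRel (F := K) certG2C h8).hom.comp (Matrix.SpecialLinearGroup.map θ)
  let φ₂ : SL(2, K) →* GL chevG2.Idx K := (rootRel (F := K) certG2C h10).hom
  have hcomm : ∀ a b, Commute (φ₁ a) (φ₂ b) := by
    intro a b
    have ha : φ₁ a ∈ Subgroup.closure (Set.range (xg certG2C 8 (F := K)) ∪ Set.range (xg certG2C 3)) := by
      have : φ₁ a ∈ (rootRel (F := K) certG2C h8).hom.range := ⟨_, rfl⟩
      rw [SLTwoRel.hom_range] at this
      simpa [rootRel, n8] using this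
    have hb : φ₂ b ∈ Subgroup.closure (Set.range (xg certG2C 10 (F := K)) ∪ Set.range (xg certG2C 1)) := by
      have : φ₂ b ∈ (rootRel (F := K) certG2C h10).hom.range := ⟨_, rfl⟩
      rw [SLTwoRel.hom_range] at this
      simpa [rootRel, n10] using this
    have hle : Subgroup.closure (Set.range (xg certG2C 8 (F := K)) ∪ Set.range (xg certG2C 3)) ≤
        Subgroup.centralizer (Set.range (xg certG2C 10 (F := K)) ∪ Set.range (xg certG2C 1)) := by
      rw [Subgroup.closure_le]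
      rintro _ (⟨t, rfl⟩ | ⟨t, rfl⟩) _ (⟨u, rfl⟩ | ⟨u, rfl⟩)
      exacts [(xg_commute_mod certG2C fullCertG2.comm c1 t u).eq.symm, (xg_commute_mod certG2C fullCertG2.comm c2 t u).eq.symm,
        (xg_commute_mod certG2C fullCertG2.comm c3 t u).eq.symm, (xg_commute_mod certG2C fullCertG2.comm c4 t u).eq.symm]
    have h1 := hle ha
    rw [← Subgroup.centralizer_closure] at h1
    exact (h1 _ hb).symm
  let Φ₀ : SL(2, K) →* GL chevG2.Idx K := (φ₁.noncommCoprod φ₂ hcomm).comp ((MonoidHom.id _).prod (MonoidHom.id _))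
  have hhom : ∀ (R : SLTwoRel K (GL chevG2.Idx K)) x, R.hom x = R.toFun' x := fun _ _ => rfl
  have hup : ∀ b, Φ₀ (SLTwoRel.upr b) = reeU m 0 b 0 := by
    intro b
    have e : Matrix.SpecialLinearGroup.map θ (SLTwoRel.upr b) = SLTwoRel.upr (θ b) := by
      refine Subtype.ext ?_
      ext i j
      fin_cases i <;> fin_cases j <;> simp [SLTwoRel.coe_upr]
    show (rootRel (F := K) certG2C h8).hom (Matrix.SpecialLinearGroup.map θ (SLTwoRel.upr b)) *
      (rootRel (F := K) certG2C h10).hom (SLTwoRel.upr b) = _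
    rw [e]
    simp only [hhom, SLTwoRel.toFun'_upr]
    simp [rootRel, reeU, g2Six, xg_zero, zero_pow, θ, iterateFrobenius_def, esymG2]
  have hlw : ∀ b, Φ₀ (SLTwoRel.lwr b) = reeV m 0 (-b) 0 := by
    intro b
    have e : Matrix.SpecialLinearGroup.map θ (SLTwoRel.lwr b) = SLTwoRel.lwr (θ b) := by
      refine Subtype.ext ?_
      ext i j
      fin_cases i <;> fin_cases j <;> simp [MultW.coe_lwr']
    show (rootRel (F := K) certG2C h8).hom (Matrix.SpecialLinearGroup.map θ (SLTwoRel.lwr b)) *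
      (rootRel (F := K) certG2C h10).hom (SLTwoRel.lwr b) = _
    rw [e]
    simp only [hhom, SLTwoRel.toFun'_lwr]
    have hodd : Odd (3 ^ m) := Odd.pow ⟨1, rfl⟩
    simp [rootRel, reeV, g2Six, xg_zero, zero_pow, θ, iterateFrobenius_def, esymG2, n8, n10, hodd.neg_pow]
  have htri : ∀ a ha, Φ₀ (SLTwoRel.tri a 0 ha) = hg certG2C 8 (θ a) * hg certG2C 10 a := by
    intro a ha
    have e : Matrix.SpecialLinearGroup.map θ (SLTwoRel.tri a 0 ha) = SLTwoRel.tri (θ a) 0 (θ.injective.ne_iff' (map_zero θ) |>.2 ha) := by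
      refine Subtype.ext ?_
      ext i j
      fin_cases i <;> fin_cases j <;> simp [SLTwoRel.coe_tri]
    show (rootRel (F := K) certG2C h8).hom (Matrix.SpecialLinearGroup.map θ (SLTwoRel.tri a 0 ha)) *
      (rootRel (F := K) certG2C h10).hom (SLTwoRel.tri a 0 ha) = _
    rw [e]
    simp [hhom, SLTwoRel.toFun', SLTwoRel.coe_tri, rootRel, xg_zero]
  have hmem : ∀ g, Φ₀ g ∈ gG K m := by
    intro g
    suffices (⊤ : Subgroup SL(2, K)) ≤ (gG K m).comap Φ₀ from this (Subgroup.mem_top g)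
    rw [← SLTwoRel.closure_eq_top, Subgroup.closure_le]
    have e : (SLTwoRel.rot : SL(2, K)) = SLTwoRel.upr 1 * SLTwoRel.lwr (-1) * SLTwoRel.upr 1 := by
      refine Subtype.ext ?_
      ext i j
      fin_cases i <;> fin_cases j <;> simp [SLTwoRel.coe_rot, SLTwoRel.coe_upr, MultW.coe_lwr', Matrix.mul_apply, Fin.sum_univ_two]
    rintro _ (⟨b, rfl⟩ | rfl)
    · rw [SetLike.mem_coe, Subgroup.mem_comap]
      rw [hup]; exact reeU_fixed hK _ _ _
    · rw [SetLike.mem_coe, Subgroup.mem_comap]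
      rw [e, map_mul, map_mul, hup, hlw]
      exact mul_mem (mul_mem (reeU_fixed hK _ _ _) (reeV_fixed hK _ _ _)) (reeU_fixed hK _ _ _)
  refine ⟨Φ₀.codRestrict _ hmem, fun b => Subtype.ext (hup b), fun b => Subtype.ext (hlw b), fun a ha => ?_, Subtype.ext ?_⟩
  · show Φ₀ (SLTwoRel.tri a 0 ha) ∈ _
    rw [htri, ← torusHom_range certG2C, hg_eq_torus certG2C h8 (θ.injective.ne_iff' (map_zero θ) |>.2 ha),
      hg_eq_torus certG2C h10 ha]
    exact mul_mem ⟨_, rfl⟩ ⟨_, rfl⟩
  · show Φ₀ _ = 1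
    have hne : (-1 : K) ≠ 0 := neg_ne_zero.2 one_ne_zero
    rw [htri, map_neg, map_one, hg_eq_torus certG2C h8 hne, hg_eq_torus certG2C h10 hne,
      ← map_mul, ← map_one (torusHom chevG2 tblG2 K)]
    congr 1
    funext (k : Fin 2)
    refine Units.ext ?_
    have := neg_pair
    simp only [Bool.and_eq_true, decide_eq_true_eq] at this
    obtain ⟨⟨⟨-, -⟩, p0⟩, p1⟩ := this
    fin_cases k
    · exact zpow_neg_one_even (F := K) p0
    · exact zpow_neg_one_even (F := K) p1

/-- The chosen homomorphism. -/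
noncomputable def reeSL : SL(2, K) →* ↥(gG K m) := (exists_reeSL' hK).choose

theorem reeSL_upr (b : K) : reeSL hK (SLTwoRel.upr b) = eU hK 0 b 0 := (exists_reeSL' hK).choose_spec.1 b

theorem reeSL_lwr (b : K) : reeSL hK (SLTwoRel.lwr b) = eV hK b := (exists_reeSL' hK).choose_spec.2.1 b

theorem reeSL_tri_diag {a : K} (ha : a ≠ 0) :
    (reeSL hK (SLTwoRel.tri a 0 ha) : GL chevG2.Idx K) ∈ chevG2.diagonalSubgroup K :=
  (exists_reeSL' hK).choose_spec.2.2.1 a ha

theorem reeSL_center {g : SL(2, K)} (hg : g ∈ Subgroup.center SL(2, K)) : reeSL hK g = 1 := by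
  obtain ⟨r, hr, hr'⟩ := Matrix.SpecialLinearGroup.mem_center_iff.1 hg
  rcases mul_self_eq_one_iff.1 (show r * r = 1 by rw [← pow_two]; simpa using hr) with rfl | rfl
  · rw [show g = 1 from Subtype.ext (by rw [← hr']; simp), map_one]
  · rw [show g = SLTwoRel.tri (-1) 0 (neg_ne_zero.2 one_ne_zero) from Subtype.ext (by
      rw [← hr']; ext i j; fin_cases i <;> fin_cases j <;> simp [SLTwoRel.coe_tri, inv_neg])]
    exact (exists_reeSL' hK).choose_spec.2.2.2

theorem eU_mid_injective : Function.Injective fun b : K => eU hK 0 b 0 := fun _ _ e => (eU_inj hK e).2.1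

theorem reeSL_ker : (reeSL hK).ker = Subgroup.center SL(2, K) := by
  refine le_antisymm (fun g hg => ?_) fun g hg => reeSL_center hK hg
  rw [MonoidHom.mem_ker] at hg
  by_cases hc : g.1 1 0 = 0
  · have hdet : g.1 0 0 * g.1 1 1 - g.1 0 1 * g.1 1 0 = 1 := by rw [← Matrix.det_fin_two]; exact g.2
    have ha : g.1 0 0 ≠ 0 := fun e => by rw [e, hc] at hdet; simp at hdet
    set a := g.1 0 0 with haeq
    set b := g.1 0 1 with hbeq
    have e : g = SLTwoRel.upr (a * b) * SLTwoRel.tri a 0 ha := by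
      refine Subtype.ext ?_
      ext i j
      fin_cases i <;> fin_cases j <;> simp [SLTwoRel.coe_upr, SLTwoRel.coe_tri, Matrix.mul_apply, Fin.sum_univ_two, hc, ← haeq, ← hbeq]
      · field_simp
      · rw [hc] at hdet; field_simp; linear_combination hdet
    rw [e, map_mul, reeSL_upr, mul_eq_one_iff_eq_inv] at hg
    have h1 : (eU hK 0 (a * b) 0 : GL chevG2.Idx K) ∈ chevG2.posUnipotent K ⊓ chevG2.diagonalSubgroup K :=
      ⟨eU_mem hK _ _ _, by rw [hg]; exact Subgroup.inv_mem _ (reeSL_tri_diag hK ha)⟩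
    rw [pos_inf_diag certG2C, Subgroup.mem_bot] at h1
    have h2 : a * b = 0 := eU_mid_injective hK (show eU hK 0 (a * b) 0 = eU hK 0 0 0 by
      rw [eU_zero]; exact Subtype.ext h1)
    have h3 : reeSL hK (SLTwoRel.tri a 0 ha) = 1 := by
      rw [h2, eU_zero] at hg; exact inv_eq_one.1 hg.symm
    have h4 : reeSL hK (SLTwoRel.tri a 0 ha * SLTwoRel.upr 1 * (SLTwoRel.tri a 0 ha)⁻¹) = eU hK 0 1 0 := by
      rw [map_mul, map_mul, map_inv, h3, reeSL_upr]; group
    rw [show SLTwoRel.tri a 0 ha * SLTwoRel.upr 1 * (SLTwoRel.tri a 0 ha)⁻¹ = SLTwoRel.upr (a * a) by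
      rw [mul_inv_eq_iff_eq_mul]
      refine Subtype.ext ?_
      ext i j
      fin_cases i <;> fin_cases j <;> simp [SLTwoRel.coe_upr, SLTwoRel.coe_tri, Matrix.mul_apply, Fin.sum_univ_two], reeSL_upr] at h4
    refine Matrix.SpecialLinearGroup.mem_center_iff.2 ⟨a, by simpa [pow_two] using eU_mid_injective hK h4, ?_⟩
    have hb : b = 0 := (mul_eq_zero.1 h2).resolve_left ha
    ext i j
    fin_cases i <;> fin_cases j <;> simp [hc, ← haeq, ← hbeq, hb]
    rw [hc] at hdet
    have h5 : a * a = 1 := eU_mid_injective hK h4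
    linear_combination (-a) * hdet + g.1 1 1 * h5
  · exfalso
    set s : K := -(g.1 1 0)⁻¹ with hs
    have hs0 : s ≠ 0 := neg_ne_zero.2 (inv_ne_zero hc)
    have hdet : g.1 0 0 * g.1 1 1 - g.1 0 1 * g.1 1 0 = 1 := by rw [← Matrix.det_fin_two]; exact g.2
    have e : g = SLTwoRel.upr (g.1 0 0 / g.1 1 0) * SLTwoRel.tri s 0 hs0 *
        (SLTwoRel.upr 1 * SLTwoRel.lwr (-1) * SLTwoRel.upr 1) * SLTwoRel.upr (g.1 1 1 / g.1 1 0) := by
      refine Subtype.ext ?_
      ext i j
      fin_cases i <;> fin_cases j <;> simp [SLTwoRel.coe_upr, SLTwoRel.coe_tri, MultW.coe_lwr', Matrix.mul_apply, Fin.sum_univ_two, hs] <;> field_simp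
      linear_combination -hdet
    rw [e] at hg
    simp only [map_mul, reeSL_upr, reeSL_lwr] at hg
    have hp : ∀ w : K, eU hK 0 w 0 ∈ borG K m := fun w => pos_le_bor (eU_mem hK _ _ _)
    have hT : reeSL hK (SLTwoRel.tri s 0 hs0) ∈ borG K m :=
      Subgroup.mem_subgroupOf.2 (Subgroup.mem_sup_right (reeSL_tri_diag hK hs0))
    have hV : eV hK (-1) ∈ borG K m := by
      have : eV hK (-1) = (eU hK 0 (g.1 0 0 / g.1 1 0) 0 * reeSL hK (SLTwoRel.tri s 0 hs0) * eU hK 0 1 0)⁻¹ *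
          (eU hK 0 1 0 * eU hK 0 (g.1 1 1 / g.1 1 0) 0)⁻¹ := by
        set A := eU hK 0 (g.1 0 0 / g.1 1 0) 0
        set B := eU hK 0 1 0
        set T := reeSL hK (SLTwoRel.tri s 0 hs0)
        set D := eU hK 0 (g.1 1 1 / g.1 1 0) 0
        calc eV hK (-1) = (A * T * B)⁻¹ * (A * T * (B * eV hK (-1) * B) * D) * (B * D)⁻¹ := by group
          _ = _ := by rw [hg, mul_one]
      rw [this]
      exact mul_mem (inv_mem (mul_mem (mul_mem (hp _) hT) (hp _))) (inv_mem (mul_mem (hp _) (hp _)))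
    have h1 : reeSL hK (SLTwoRel.lwr (-1)) = 1 := (reeSL_lwr hK _).trans (bor_neg hV (eV_mem hK _))
    have e2 : SLTwoRel.rot * SLTwoRel.upr 1 * SLTwoRel.rot⁻¹ = (SLTwoRel.lwr (-1) : SL(2, K)) := by
      rw [mul_inv_eq_iff_eq_mul]
      refine Subtype.ext ?_
      ext i j
      fin_cases i <;> fin_cases j <;> simp [SLTwoRel.coe_rot, SLTwoRel.coe_upr, MultW.coe_lwr', Matrix.mul_apply, Fin.sum_univ_two]
    rw [← e2, map_mul, map_mul, map_inv, conj_eq_one_iff, reeSL_upr] at h1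
    exact one_ne_zero (eU_mid_injective hK (h1.trans (eU_zero hK).symm))

theorem invA_comm_reeSL (g : SL(2, K)) : Commute (invA hK) (reeSL hK g) := by
  suffices (⊤ : Subgroup SL(2, K)) ≤ (Subgroup.centralizer {invA hK}).comap (reeSL hK) from
    Subgroup.mem_centralizer_iff.1 (this (Subgroup.mem_top g)) _ (Set.mem_singleton _)
  have hU : ∀ b, SLTwoRel.upr b ∈ (Subgroup.centralizer {invA hK}).comap (reeSL hK) := fun b => by
    rw [Subgroup.mem_comap, Subgroup.mem_centralizer_singleton_iff, reeSL_upr]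
    exact (mul_inv_eq_iff_eq_mul.1 ((invA_fix hK (eU_mem hK _ _ _)).2 ⟨b, rfl⟩)).symm
  have hV : ∀ b, SLTwoRel.lwr b ∈ (Subgroup.centralizer {invA hK}).comap (reeSL hK) := fun b => by
    rw [Subgroup.mem_comap, Subgroup.mem_centralizer_singleton_iff, reeSL_lwr]
    refine (mul_inv_eq_iff_eq_mul.1 (Subtype.ext ?_)).symm
    show torusHom chevG2 tblG2 K (g2Par m (-1)) * reeV m 0 (-b) 0 * (torusHom chevG2 tblG2 K (g2Par m (-1)))⁻¹ =
      reeV m 0 (-b) 0
    have := neg_pair
    simp only [Bool.and_eq_true, decide_eq_true_eq] at this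
    obtain ⟨⟨⟨p3, p1⟩, -⟩, -⟩ := this
    have hodd : Odd (3 ^ m) := Odd.pow ⟨1, rfl⟩
    have key : ∀ r, (tblG2.cartan 0 r + tblG2.cartan 1 r) % 2 = 0 →
        chr tblG2 chevG2 (extend' (g2Par (K := K) m (-1))) r = 1 := by
      intro r hr
      rw [chr, show chevG2.rank = 2 from rfl, Finset.prod_range_succ, Finset.prod_range_one]
      simp only [extend', show (0 : ℕ) < chevG2.rank from by decide, show (1 : ℕ) < chevG2.rank from by decide, dif_pos]
      simp [g2Par, hodd.neg_one_pow]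
      exact zpow_neg_one_even hr
    have e : reeV m 0 (-b) 0 = xg certG2C 3 (-((-b) ^ 3 ^ m)) * xg certG2C 1 (-(-b)) := by
      simp [reeV, g2Six, xg_zero, zero_pow]
    rw [e]
    set T := torusHom chevG2 tblG2 K (g2Par m (-1)) with hT
    rw [show ∀ X Y : GL chevG2.Idx K, T * (X * Y) * T⁻¹ = T * X * T⁻¹ * (T * Y * T⁻¹) from fun X Y => by group, hT,
      torusHom_conj_xg certG2C _ (by decide +kernel), torusHom_conj_xg certG2C _ (by decide +kernel), key 3 p3, key 1 p1,
      one_mul, one_mul]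
  rw [← SLTwoRel.closure_eq_top, Subgroup.closure_le]
  rintro _ (⟨b, rfl⟩ | rfl)
  · exact hU b
  · rw [show (SLTwoRel.rot : SL(2, K)) = SLTwoRel.upr 1 * SLTwoRel.lwr (-1) * SLTwoRel.upr 1 by
      refine Subtype.ext ?_
      ext i j
      fin_cases i <;> fin_cases j <;> simp [SLTwoRel.coe_rot, SLTwoRel.coe_upr, MultW.coe_lwr', Matrix.mul_apply, Fin.sum_univ_two]]
    exact mul_mem (mul_mem (hU _) (hV _)) (hU _)

theorem invA_not_range (g : SL(2, K)) : reeSL hK g ≠ invA hK := by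
  intro h
  have hcomm : ∀ x, g * x * g⁻¹ * x⁻¹ ∈ (reeSL hK).ker := fun x => by
    rw [MonoidHom.mem_ker, map_mul, map_mul, map_mul, map_inv, map_inv, h, (invA_comm_reeSL hK x).eq]; group
  have htr : ∀ x : SL(2, K), (x.1 0 0 + x.1 1 1 = 2) → g * x = x * g := by
    intro x hx
    obtain ⟨r, hr, hr'⟩ := Matrix.SpecialLinearGroup.mem_center_iff.1 (reeSL_ker hK ▸ hcomm x)
    rcases mul_self_eq_one_iff.1 (show r * r = 1 by rw [← pow_two]; simpa using hr) with rfl | rfl
    · have : g * x * g⁻¹ * x⁻¹ = 1 := Subtype.ext (by rw [← hr']; simp)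
      exact mul_inv_eq_iff_eq_mul.1 (mul_inv_eq_one.1 this)
    · exfalso
      have e : (g * x * g⁻¹).1 = -x.1 := by
        have : (g * x * g⁻¹).1 = ((g * x * g⁻¹ * x⁻¹) * x).1 := by rw [inv_mul_cancel_right]
        rw [this, Matrix.SpecialLinearGroup.coe_mul, ← hr', map_neg, map_one, neg_one_mul]
      have ht := congrArg Matrix.trace e
      have hcyc : (g.1 * x.1 * (g⁻¹).1).trace = x.1.trace := by
        rw [Matrix.trace_mul_cycle, ← Matrix.SpecialLinearGroup.coe_mul, inv_mul_cancel, Matrix.SpecialLinearGroup.coe_one, one_mul]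
      rw [Matrix.SpecialLinearGroup.coe_mul, Matrix.SpecialLinearGroup.coe_mul, hcyc, Matrix.trace_neg, Matrix.trace_fin_two, hx] at ht
      exact neg_one_ne hK (mul_right_cancel₀ (b := (2 : K)) (fun h2 => neg_one_ne hK (by linear_combination -h2))
        (by linear_combination -ht))
  have hcent : g ∈ Subgroup.center SL(2, K) := by
    refine Subgroup.mem_center_iff.2 fun x => ?_
    have : x ∈ Subgroup.centralizer {g} := by
      have hx : x ∈ Subgroup.closure (Set.range SLTwoRel.upr ∪ {SLTwoRel.rot} : Set SL(2, K)) := by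
        rw [SLTwoRel.closure_eq_top]; trivial
      refine (Subgroup.closure_le _).2 ?_ hx
      rintro _ (⟨b, rfl⟩ | rfl)
      · exact Subgroup.mem_centralizer_singleton_iff.2 (htr _ (by norm_num [SLTwoRel.coe_upr])).symm
      · rw [show (SLTwoRel.rot : SL(2, K)) = SLTwoRel.upr 1 * SLTwoRel.lwr (-1) * SLTwoRel.upr 1 by
          refine Subtype.ext ?_
          ext i j
          fin_cases i <;> fin_cases j <;> simp [SLTwoRel.coe_rot, SLTwoRel.coe_upr, MultW.coe_lwr', Matrix.mul_apply, Fin.sum_univ_two]]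
        refine mul_mem (mul_mem ?_ ?_) ?_ <;> refine Subgroup.mem_centralizer_singleton_iff.2 (htr _ ?_).symm <;>
          norm_num [SLTwoRel.coe_upr, MultW.coe_lwr']
    exact Subgroup.mem_centralizer_singleton_iff.1 this
  exact invA_ne_one hK (h ▸ reeSL_center hK hcent)

/-- The combined map onto the centraliser. -/
noncomputable def centMap : ↥(Subgroup.zpowers (invA hK)) × ↥(reeSL hK).range →* ↥(gG K m) :=
  (Subgroup.zpowers (invA hK)).subtype.noncommCoprod (reeSL hK).range.subtype fun a b => by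
    obtain ⟨g, hg⟩ := b.2
    obtain ⟨i, hi⟩ := a.2
    show Commute (a : ↥(gG K m)) b
    rw [← hg, ← hi]
    exact (invA_comm_reeSL hK g).zpow_left i

theorem centMap_injective : Function.Injective (centMap hK) := by
  refine (MonoidHom.ker_eq_bot_iff _).1 ((Subgroup.eq_bot_iff_forall _).2 fun p hp => ?_)
  obtain ⟨⟨a, ha⟩, ⟨b, hb⟩⟩ := p
  have e : a * b = 1 := hp
  obtain ⟨g, rfl⟩ := hb
  obtain ⟨i, rfl⟩ := ha
  simp only at e
  have h2 := zpow_mod_orderOf (invA hK) i
  rw [orderOf_invA, ] at h2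
  have hi : (invA hK) ^ i = 1 := by
    rcases Int.emod_two_eq_zero_or_one i with h | h <;> simp [h] at h2
    · exact h2.symm
    · exfalso
      rw [← h2] at e
      exact invA_not_range hK g⁻¹ (by rw [map_inv]; exact (eq_inv_of_mul_eq_one_left e).symm)
  rw [hi, one_mul] at e
  exact Prod.ext (Subtype.ext hi) (Subtype.ext e)

theorem card_range_reeSL : 2 * Nat.card ↥(reeSL hK).range = Fintype.card K * (Fintype.card K ^ 2 - 1) := by
  classical
  rw [← Cfsg.Lib.Linear.Two.card_SL_two (F := K), Subgroup.card_eq_card_quotient_mul_card_subgroup (reeSL hK).ker,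
    Nat.card_congr (QuotientGroup.quotientKerEquivRange (reeSL hK)).toEquiv, mul_comm]
  congr 1
  rw [reeSL_ker, Cfsg.Lib.Linear.card_center_SL, Fintype.card_fin]
  have h : 2 ∣ Fintype.card K - 1 := by
    have : Odd (Fintype.card K) := by rw [hK]; exact Odd.pow ⟨1, rfl⟩
    exact (Nat.Odd.sub_odd this odd_one).two_dvd
  exact (Nat.gcd_eq_left h).symm

/-- An upper bound from the Bruhat decomposition. -/
theorem card_centralizer_le :
    Nat.card ↥(Subgroup.centralizer {invA hK}) ≤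
      Fintype.card K * (Fintype.card K - 1) * (1 + Fintype.card K) := by
  classical
  obtain ⟨n, hn⟩ := G2Aut.exists_long hK
  let f : (K × Kˣ) ⊕ (K × Kˣ × K) → ↥(gG K m) := Sum.elim (fun p => eU hK 0 p.1 0 * eT hK p.2)
    fun p => eU hK 0 p.1 0 * eT hK p.2.1 * n * eU hK 0 p.2.2 0
  have hsub : (Subgroup.centralizer {invA hK} : Set ↥(gG K m)) ⊆ Set.range f := by
    intro g hg
    have hga : g * invA hK = invA hK * g := Subgroup.mem_centralizer_singleton_iff.1 hg
    have hfix : ∀ {w : ↥(gG K m)} {z : Kˣ}, w ∈ posG K m →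
        invA hK * (w * eT hK z) * (invA hK)⁻¹ = w * eT hK z → ∃ u, w = eU hK 0 u 0 := by
      intro w z hw e
      refine (invA_fix hK hw).1 ?_
      calc invA hK * w * (invA hK)⁻¹
          = invA hK * (w * eT hK z) * (invA hK)⁻¹ * (invA hK * (eT hK z)⁻¹ * (invA hK)⁻¹) := by group
        _ = w * eT hK z * (invA hK * (eT hK z)⁻¹ * (invA hK)⁻¹) := by rw [e]
        _ = w := by
          rw [show invA hK * (eT hK z)⁻¹ * (invA hK)⁻¹ = (eT hK z)⁻¹ from
            mul_inv_eq_iff_eq_mul.2 (eT_comm hK (-1) z).inv_right.eq]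
          group
    rcases hn.cells g with hb | ⟨b, hb, c, hc, rfl⟩
    · obtain ⟨w, hw, z, rfl⟩ := borG_parts hK hb
      obtain ⟨u, rfl⟩ := hfix hw (by rw [← hga]; group)
      exact ⟨Sum.inl (u, z), rfl⟩
    · obtain ⟨w, hw, z, rfl⟩ := borG_parts hK hb
      set a := invA hK with ha
      have hA : a ∈ borG K m := Subgroup.mem_subgroupOf.2 (Subgroup.mem_sup_right (eT_mem hK _))
      have e : n⁻¹ * ((w * eT hK z)⁻¹ * (a * (w * eT hK z) * a⁻¹)) * n = c * (a * c * a⁻¹)⁻¹ := by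
        have hna : a * n * a⁻¹ = n := mul_inv_eq_iff_eq_mul.2 (long_invA hK hn).eq.symm
        calc _ = n⁻¹ * (w * eT hK z)⁻¹ * ((a * (w * eT hK z) * a⁻¹) * (a * n * a⁻¹)) := by rw [hna]; group
          _ = n⁻¹ * (w * eT hK z)⁻¹ * (a * (w * eT hK z * n * c) * a⁻¹) * (a * c * a⁻¹)⁻¹ := by group
          _ = _ := by rw [← hga]; group
      have h1 := hn.unique (mul_mem (inv_mem hb) (mul_mem (mul_mem hA hb) (inv_mem hA)))
        (mul_mem hc (inv_mem (bor_norm hA hc))) e
      have hc' : a * c * a⁻¹ = c := (mul_inv_eq_one.1 h1).symm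
      rw [h1] at e
      have h2 : (w * eT hK z)⁻¹ * (a * (w * eT hK z) * a⁻¹) = 1 := by
        calc _ = n * (n⁻¹ * ((w * eT hK z)⁻¹ * (a * (w * eT hK z) * a⁻¹)) * n) * n⁻¹ := by group
          _ = 1 := by rw [e]; group
      obtain ⟨u, rfl⟩ := hfix hw (inv_mul_eq_one.1 h2).symm
      obtain ⟨u', rfl⟩ := (invA_fix hK hc).1 hc'
      exact ⟨Sum.inr (u, z, u'), rfl⟩
  have h := Set.ncard_le_ncard hsub (Set.toFinite _)
  rw [← Nat.card_coe_set_eq, ← Nat.card_coe_set_eq] at h
  refine h.trans ((Finite.card_range_le f).trans (le_of_eq ?_))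
  simp [Nat.card_sum, Nat.card_prod, Nat.card_eq_fintype_card, Fintype.card_units]
  ring

theorem centMap_range : (centMap hK).range = Subgroup.centralizer {invA hK} := by
  refine Subgroup.eq_of_le_of_card_ge ?_ ?_
  · rintro _ ⟨⟨⟨a, ha⟩, ⟨b, hb⟩⟩, rfl⟩
    obtain ⟨i, rfl⟩ := ha
    obtain ⟨g, rfl⟩ := hb
    refine Subgroup.mem_centralizer_singleton_iff.2 ?_
    exact ((Commute.refl (invA hK)).zpow_right i |>.mul_right (invA_comm_reeSL hK g)).eq.symm
  · rw [← Nat.card_congr (MonoidHom.ofInjective (centMap_injective hK)).toEquiv, Nat.card_prod, Nat.card_zpowers,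
      orderOf_invA, card_range_reeSL]
    refine (card_centralizer_le hK).trans (le_of_eq ?_)
    have h1 : 1 ≤ Fintype.card K := Fintype.card_pos
    zify [h1, Nat.one_le_pow 2 _ h1]
    ring

theorem card_centralizer :
    Nat.card ↥(Subgroup.centralizer {invA hK}) = Fintype.card K * (Fintype.card K ^ 2 - 1) := by
  rw [← centMap_range, ← Nat.card_congr (MonoidHom.ofInjective (centMap_injective hK)).toEquiv, Nat.card_prod,
    Nat.card_zpowers, orderOf_invA, card_range_reeSL]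

/-- The centraliser of the involution. -/
theorem centralizer_equiv :
    Nonempty (↥(Subgroup.centralizer {invA hK}) ≃*
      Multiplicative (ZMod 2) × Matrix.ProjectiveSpecialLinearGroup (Fin 2) K) := by
  haveI : Fact (Nat.Prime 2) := ⟨Nat.prime_two⟩
  have h2 : Nat.card ↥(Subgroup.zpowers (invA hK)) = 2 := by rw [Nat.card_zpowers, orderOf_invA]
  let e1 : ↥(Subgroup.zpowers (invA hK)) ≃* Multiplicative (ZMod 2) := mulEquivOfPrimeCardEq (p := 2) h2 (by simp)
  let e2 : ↥(reeSL hK).range ≃* Matrix.ProjectiveSpecialLinearGroup (Fin 2) K :=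
    (QuotientGroup.quotientKerEquivRange (reeSL hK)).symm.trans (QuotientGroup.quotientMulEquivOfEq (reeSL_ker hK))
  exact ⟨(MulEquiv.subgroupCongr (centMap_range hK)).symm.trans
    ((MonoidHom.ofInjective (centMap_injective hK)).symm.trans (MulEquiv.prodCongr e1 e2))⟩

/-- The centraliser consists of products. -/
theorem centralizer_elems {g : ↥(gG K m)} (hg : g * invA hK = invA hK * g) :
    ∃ x, g = reeSL hK x ∨ g = invA hK * reeSL hK x := by
  have h : g ∈ (centMap hK).range := by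
    rw [centMap_range]; exact Subgroup.mem_centralizer_singleton_iff.2 hg
  obtain ⟨⟨⟨a, ha⟩, ⟨b, hb⟩⟩, rfl⟩ := h
  obtain ⟨i, rfl⟩ := ha
  obtain ⟨x, rfl⟩ := hb
  refine ⟨x, ?_⟩
  have h2 := zpow_mod_orderOf (invA hK) i
  rw [orderOf_invA] at h2
  show invA hK ^ i * _ = _ ∨ invA hK ^ i * _ = _
  rcases Int.emod_two_eq_zero_or_one i with h | h <;> rw [← h2] <;> simp [h]

end Cfsg.Lib.Chev.Ree
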