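import Cfsg.Agent.Lib.Chev.ReeHall

/-! The solvable subgroups of ²G₂(q). -/

set_option autoImplicit false
set_option linter.unusedSectionVars false
set_option maxRecDepth 100000

namespace Cfsg.Lib.Chev.Ree

open Cfsg.Lie Cfsg.Lib.Chev Cfsg.Lib.Chev.G2Aut
open scoped MatrixGroups

/-- A solvable subgroup keeps a non-trivial elementary abelian subgroup of itself. -/
theorem exists_elementary {G : Type*} [Group G] [Finite G] (S : Subgroup G) (hS : Group.IsSolvable S) (hne : S ≠ ⊥) :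
    ∃ (p : ℕ) (B : Subgroup G), p.Prime ∧ B ≤ S ∧ B ≠ ⊥ ∧ (∀ x ∈ B, ∀ y ∈ B, Commute x y) ∧ (∀ x ∈ B, x ^ p = 1) ∧
      S ≤ Subgroup.normalizer (B : Set G) := by
  classical
  obtain ⟨n, hn⟩ := hS.solvable
  have hex : ∃ n, derivedSeries S n = ⊥ := ⟨n, hn⟩
  have h0 : Nat.find hex ≠ 0 := fun e => by
    have := Nat.find_spec hex
    rw [e, derivedSeries_zero] at this
    refine hne ((Subgroup.eq_bot_iff_forall _).2 fun x hx => ?_)
    exact congrArg Subtype.val ((Subgroup.eq_bot_iff_forall _).1 this ⟨x, hx⟩ (Subgroup.mem_top _))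
  obtain ⟨k, hk⟩ := Nat.exists_eq_succ_of_ne_zero h0
  set D := derivedSeries S k with hD
  have hDne : D ≠ ⊥ := fun e => Nat.find_min hex (show k < Nat.find hex by omega) e
  have hcomm : ∀ x ∈ D, ∀ y ∈ D, x * y = y * x := by
    intro x hx y hy
    have h1 := Nat.find_spec hex
    rw [hk, derivedSeries_succ, Subgroup.commutator_eq_bot_iff_le_centralizer] at h1
    exact (Subgroup.mem_centralizer_iff.1 (h1 hx) y hy).symm
  haveI hDn : D.Normal := derivedSeries_normal S k
  have hcard : Nat.card ↥D ≠ 1 := fun e => hDne (Subgroup.card_eq_one.1 e)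
  obtain ⟨p, hp, hpd⟩ := Nat.exists_prime_and_dvd hcard
  haveI : Fact p.Prime := ⟨hp⟩
  obtain ⟨⟨x, hx⟩, hxo⟩ := exists_prime_orderOf_dvd_card' p hpd
  rw [Subgroup.orderOf_mk] at hxo
  let B : Subgroup G :=
    { carrier := {g | ∃ h : g ∈ S, (⟨g, h⟩ : S) ∈ D ∧ g ^ p = 1}
      one_mem' := ⟨one_mem S, D.one_mem, one_pow p⟩
      mul_mem' := by
        rintro g g' ⟨h, hD', hg⟩ ⟨h', hD'', hg'⟩
        have hc : Commute g g' := congrArg Subtype.val (hcomm _ hD' _ hD'')
        exact ⟨mul_mem h h', D.mul_mem hD' hD'', by rw [hc.mul_pow, hg, hg', one_mul]⟩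
      inv_mem' := by
        rintro g ⟨h, hD', hg⟩
        exact ⟨inv_mem h, D.inv_mem hD', by rw [inv_pow, hg, inv_one]⟩ }
  refine ⟨p, B, hp, fun g hg => hg.1, fun e => ?_, ?_, fun g hg => hg.2.2, ?_⟩
  · have hxB : (x : G) ∈ B := ⟨x.2, hx, by
      have := congrArg Subtype.val (pow_orderOf_eq_one x)
      rwa [hxo] at this⟩
    rw [e, Subgroup.mem_bot] at hxB
    rw [show x = 1 from Subtype.ext hxB, orderOf_one] at hxo
    exact hp.one_lt.ne hxo
  · rintro a ⟨ha, hD', -⟩ b ⟨hb, hD'', -⟩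
    exact congrArg Subtype.val (hcomm _ hD' _ hD'')
  · intro g hg
    have key : ∀ g ∈ S, ∀ b ∈ B, g * b * g⁻¹ ∈ B := by
      rintro g hg b ⟨hb, hD', hbp⟩
      exact ⟨mul_mem (mul_mem hg hb) (inv_mem hg), hDn.conj_mem _ hD' ⟨g, hg⟩, by rw [conj_pow, hbp, mul_one, mul_inv_cancel]⟩
    refine Subgroup.mem_normalizer_iff.2 fun b => ⟨key g hg b, fun hb => ?_⟩
    have := key g⁻¹ (inv_mem hg) _ hb
    rwa [show g⁻¹ * (g * b * g⁻¹) * g⁻¹⁻¹ = b by group] at this

/-- Normalisers of conjugates. -/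
theorem mem_norm_map {G : Type*} [Group G] {A : Subgroup G} {g n : G} :
    n ∈ Subgroup.normalizer ((A.map (MulAut.conj g).toMonoidHom : Subgroup G) : Set G) ↔
      g⁻¹ * n * g ∈ Subgroup.normalizer (A : Set G) := by
  have hm : ∀ z, z ∈ A.map (MulAut.conj g).toMonoidHom ↔ g⁻¹ * z * g ∈ A := fun z =>
    ⟨by rintro ⟨y, hy, rfl⟩; show g⁻¹ * (g * y * g⁻¹) * g ∈ A; rwa [show g⁻¹ * (g * y * g⁻¹) * g = y by group],
      fun h => ⟨_, h, by show g * (g⁻¹ * z * g) * g⁻¹ = z; group⟩⟩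
  rw [Subgroup.mem_normalizer_iff, Subgroup.mem_normalizer_iff]
  constructor
  · intro h y
    have := h (g * y * g⁻¹)
    rwa [hm, hm, show g⁻¹ * (g * y * g⁻¹) * g = y by group,
      show g⁻¹ * (n * (g * y * g⁻¹) * n⁻¹) * g = g⁻¹ * n * g * y * (g⁻¹ * n * g)⁻¹ by group] at this
  · intro h z
    have := h (g⁻¹ * z * g)
    rwa [show g⁻¹ * n * g * (g⁻¹ * z * g) * (g⁻¹ * n * g)⁻¹ = g⁻¹ * (n * z * n⁻¹) * g by group, ← hm, ← hm] at this

variable {K : Type*} [Field K] [Fintype K] [CharP K esymG2.p] {m : ℕ} (hK : Fintype.card K = 3 ^ (2 * m + 1))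
include hK

theorem eq_or_eq_neg_of_sq_one {w : SL(2, K)} (h : w * w = 1) : w = 1 ∨ w = -1 := by
  have hd : w.1 0 0 * w.1 1 1 - w.1 0 1 * w.1 1 0 = 1 := by rw [← Matrix.det_fin_two]; exact w.2
  have e00 := congrArg (fun X : SL(2, K) => X.1 0 0) h
  have e01 := congrArg (fun X : SL(2, K) => X.1 0 1) h
  have e10 := congrArg (fun X : SL(2, K) => X.1 1 0) h
  simp [Matrix.mul_apply, Fin.sum_univ_two] at e00 e01 e10
  have ht : w.1 0 0 + w.1 1 1 ≠ 0 := fun ht => two_ne hK (by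
    linear_combination (-1 : K) * e00 + (-1 : K) * hd + w.1 0 0 * ht)
  have h01 : w.1 0 1 = 0 := mul_left_cancel₀ ht (by linear_combination e01)
  have h10 : w.1 1 0 = 0 := mul_left_cancel₀ ht (by linear_combination e10)
  rw [h01, h10] at hd e00
  have h11 : w.1 1 1 = w.1 0 0 := by linear_combination w.1 0 0 * hd - w.1 1 1 * e00
  rcases mul_self_eq_one_iff.1 (show w.1 0 0 * w.1 0 0 = 1 by linear_combination e00) with h' | h'
  · left; refine Subtype.ext ?_; ext i j; fin_cases i <;> fin_cases j <;> simp [h01, h10, h11, h']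
  · right; refine Subtype.ext ?_; ext i j; fin_cases i <;> fin_cases j <;> simp [h01, h10, h11, h']

theorem pos_transporter' {a n : ↥(gG K m)} (ha : a ∈ posG K m) (ha1 : a ≠ 1) (hn : n * a * n⁻¹ ∈ posG K m) :
    n ∈ borG K m := by
  obtain ⟨w, hw⟩ := G2Aut.exists_long hK
  rcases hw.cells n with hb | ⟨b, hb, c, hc, rfl⟩
  · exact hb
  exfalso
  have h1 : b⁻¹ * (b * w * c * a * (b * w * c)⁻¹) * b⁻¹⁻¹ ∈ posG K m := bor_norm (inv_mem hb) hn
  rw [show b⁻¹ * (b * w * c * a * (b * w * c)⁻¹) * b⁻¹⁻¹ = w * (c * a * c⁻¹) * w⁻¹ by group] at h1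
  have h2 := bor_neg (pos_le_bor h1) (hw.pos_neg _ (mul_mem (mul_mem hc ha) (inv_mem hc))).1
  exact ha1 (conj_eq_one_iff.1 (conj_eq_one_iff.1 h2))

/-- The conclusion of the theorem on solvable subgroups. -/
def SolvGoal (S : Subgroup ↥(gG K m)) : Prop :=
  ∃ A : Subgroup ↥(gG K m), S ≤ Subgroup.normalizer (A : Set ↥(gG K m)) ∧
    ((∃ P : Sylow 2 ↥(gG K m), A = P) ∨ (∃ P : Sylow 3 ↥(gG K m), A = P) ∨ (IsCyclic A ∧ ∃ i, Nat.card A = torK m i))

theorem card_four : Nat.card ↥(fourGrp hK) = 4 := by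
  classical
  obtain ⟨hn1, hn2, hn3, hn4⟩ : invA hK ≠ reeSL hK SLTwoRel.rot ∧ reeSL hK SLTwoRel.rot ≠ invA hK * reeSL hK SLTwoRel.rot ∧
      invA hK ≠ invA hK * reeSL hK SLTwoRel.rot ∧ reeSL hK SLTwoRel.rot ≠ 1 := by
    have hI : reeSL hK SLTwoRel.rot ≠ 1 := fun e => by
      rw [← map_one (reeSL hK), reeSL_eq_iff] at e
      rcases e with h | h <;>
        · have := congrArg (fun X : SL(2, K) => X.1 0 1) h
          simp [SLTwoRel.coe_rot] at this
    exact ⟨fun e => invA_not_range hK _ e.symm, fun e => invA_ne_one hK (mul_eq_right.1 e.symm),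
      fun e => hI (mul_eq_left.1 e.symm), hI⟩
  have hn5 : invA hK * reeSL hK SLTwoRel.rot ≠ 1 := fun e =>
    hn1 ((mul_eq_one_iff_eq_inv.1 e).trans (inv_eq_of_mul_eq_one_left (rot_invol hK)))
  have hn0 := invA_ne_one hK
  let s : Finset ↥(gG K m) := {1, invA hK, reeSL hK SLTwoRel.rot, invA hK * reeSL hK SLTwoRel.rot}
  have hs : ∀ z, z ∈ fourGrp hK ↔ z ∈ s := fun z => by
    simp only [s, Finset.mem_insert, Finset.mem_singleton]
    refine ⟨four_cases hK, ?_⟩
    rintro (rfl | rfl | rfl | rfl)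
    exacts [one_mem _, invA_mem_four hK, rot_mem_four hK, mul_mem (invA_mem_four hK) (rot_mem_four hK)]
  rw [Nat.card_congr (Equiv.subtypeEquivRight hs), Nat.card_eq_fintype_card, Fintype.card_coe]
  simp [s, hn0.symm, hn4.symm, hn5.symm, hn1, hn2, hn3]

/-- The four-groups are conjugate. -/
theorem four_conj {E : Subgroup ↥(gG K m)} (hE : Nat.card ↥E = 4) (h2 : ∀ x ∈ E, x * x = 1) :
    ∃ g, E = (fourGrp hK).map (MulAut.conj g).toMonoidHom := by
  have hne : E ≠ ⊥ := fun e => by rw [e, Subgroup.card_bot] at hE; omega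
  obtain ⟨⟨t, ht⟩, ht1⟩ := E.ne_bot_iff_exists_ne_one.1 hne
  obtain ⟨g₁, hg₁⟩ := invol_conj hK (h2 t ht) fun e => ht1 (Subtype.ext e)
  set E' := E.map (MulAut.conj g₁⁻¹).toMonoidHom with hE'
  have hcard' : Nat.card ↥E' = 4 := by rw [hE', Subgroup.card_map_of_injective (MulAut.conj g₁⁻¹).injective, hE]
  have h2' : ∀ x ∈ E', x * x = 1 := by
    rintro _ ⟨x, hx, rfl⟩
    rw [← map_mul, h2 x hx, map_one]
  have haE : invA hK ∈ E' := ⟨t, ht, by show g₁⁻¹ * t * g₁⁻¹⁻¹ = invA hK; rw [← hg₁]; group⟩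
  have hcommE : ∀ x ∈ E', x * invA hK = invA hK * x := fun x hx => by
    have h1 := h2' _ (mul_mem hx haE)
    calc x * invA hK = x * (x * invA hK * (x * invA hK)) * invA hK := by rw [h1, mul_one]
      _ = x * x * invA hK * x * (invA hK * invA hK) := by group
      _ = _ := by rw [h2' x hx, invA_sq, one_mul, mul_one]
  obtain ⟨u, hu, hu1, hua⟩ : ∃ u ∈ E', u ≠ 1 ∧ u ≠ invA hK := by
    by_contra hcon
    push Not at hcon
    have : Nat.card ↥E' ≤ Nat.card (Fin 2) := by
      classical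
      refine Nat.card_le_card_of_injective (fun x => if (x : ↥(gG K m)) = 1 then (0 : Fin 2) else 1) fun a b e => ?_
      by_cases ha : (a : ↥(gG K m)) = 1 <;> by_cases hb : (b : ↥(gG K m)) = 1 <;> simp [ha, hb] at e
      · exact Subtype.ext (ha.trans hb.symm)
      · exact Subtype.ext ((hcon a a.2 ha).trans (hcon b b.2 hb).symm)
    rw [hcard', Nat.card_fin] at this
    omega
  obtain ⟨w, hw⟩ := centralizer_elems hK (hcommE u hu)
  have hwE : reeSL hK w ∈ E' := by
    rcases hw with e | e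
    · exact e ▸ hu
    · rw [show reeSL hK w = (invA hK)⁻¹ * u by rw [e, inv_mul_cancel_left]]; exact mul_mem (inv_mem haE) hu
  have hw1 : reeSL hK w ≠ 1 := fun h => by
    rcases hw with e | e
    · exact hu1 (e.trans h)
    · exact hua (by rw [e, h, mul_one])
  have hww : w * w = -1 := by
    have h := h2' _ hwE
    rw [← map_mul, ← map_one (reeSL hK), reeSL_eq_iff] at h
    refine h.resolve_left fun h => hw1 ?_
    rcases eq_or_eq_neg_of_sq_one hK h with rfl | rfl
    · exact map_one _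
    · exact reeSL_neg_one hK
  obtain ⟨x, hx⟩ := exists_conj_rot hK hww
  set g₂ := reeSL hK x with hg₂
  have hle : fourGrp hK ≤ E'.map (MulAut.conj g₂).toMonoidHom := by
    intro z hz
    have hA : invA hK ∈ E'.map (MulAut.conj g₂).toMonoidHom :=
      ⟨_, haE, mul_inv_eq_iff_eq_mul.2 (invA_comm_reeSL hK x).symm.eq⟩
    have hI : reeSL hK SLTwoRel.rot ∈ E'.map (MulAut.conj g₂).toMonoidHom :=
      ⟨_, hwE, by show g₂ * reeSL hK w * g₂⁻¹ = _; rw [hg₂, ← map_inv, ← map_mul, ← map_mul, hx]⟩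
    rcases four_cases hK hz with rfl | rfl | rfl | rfl
    exacts [one_mem _, hA, hI, mul_mem hA hI]
  have heq := Subgroup.eq_of_le_of_card_ge hle
    (by rw [Subgroup.card_map_of_injective (MulAut.conj g₂).injective, hcard', card_four])
  refine ⟨(g₂ * g₁⁻¹)⁻¹, ?_⟩
  rw [heq, hE', map_conj_map hK, map_conj_map hK, mul_assoc, inv_mul_cancel, map_one]
  exact (Subgroup.map_id E).symm

/-- The normalisers of elementary subgroups that are not of order two. -/
theorem solv_of_elem (hm : 1 ≤ m) {S B : Subgroup ↥(gG K m)} {p : ℕ} (hp : p.Prime)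
    (hne : B ≠ ⊥) (hc : ∀ x ∈ B, ∀ y ∈ B, Commute x y) (he : ∀ x ∈ B, x ^ p = 1)
    (hn : S ≤ Subgroup.normalizer (B : Set ↥(gG K m))) (h2 : p = 2 → 4 ≤ Nat.card ↥B) : SolvGoal S := by
  obtain ⟨A, C, h, -, -, hV⟩ := exists_pack hK hm
  haveI : Fact p.Prime := ⟨hp⟩
  have hBp : IsPGroup p ↥B := fun x => ⟨1, Subtype.ext (by rw [pow_one]; exact he x x.2)⟩
  obtain ⟨⟨x, hx⟩, hx1⟩ := B.ne_bot_iff_exists_ne_one.1 hne
  have hx1' : x ≠ 1 := fun e => hx1 (Subtype.ext e)
  have hxo : orderOf x = p := orderOf_eq_prime (he x hx) hx1'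
  by_cases hp3 : p = 3
  · subst hp3
    have hU : IsPGroup 3 ↥(posG K m) := IsPGroup.of_card (n := (2 * m + 1) * 3) (by rw [card_posG hK, ← pow_mul])
    obtain ⟨P, hP⟩ := hBp.exists_le_sylow
    obtain ⟨Q, hQ⟩ := hU.exists_le_sylow
    obtain ⟨g, hg⟩ := MulAction.exists_smul_eq ↥(gG K m) Q P
    have hQU : (Q : Subgroup ↥(gG K m)) = posG K m := by
      refine (Subgroup.eq_of_le_of_card_ge hQ ?_).symm
      obtain ⟨j, hj⟩ := IsPGroup.iff_card.1 Q.isPGroup'
      rw [hj, card_posG hK]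
      have hd : 3 ^ j ∣ (3 ^ (2 * m + 1)) ^ 3 := by
        have h1 := Subgroup.card_subgroup_dvd_card (Q : Subgroup ↥(gG K m))
        rw [hj, card_gG hK] at h1
        refine MultW.prime_pow_dvd_left Nat.prime_three h1 fun h3 => ?_
        obtain ⟨-, -, h3q, -, -, -⟩ := tor_arith hm
        rcases Nat.prime_three.dvd_mul.1 h3 with h3 | h3
        · have : 1 ≤ 3 ^ (2 * m + 1) := Nat.one_le_pow _ _ (by norm_num)
          omega
        · rw [pow_succ (3 ^ (2 * m + 1)) 2] at h3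
          have : (3 ^ (2 * m + 1)) ^ 2 * 3 ^ (2 * m + 1) % 3 = 0 := by rw [Nat.mul_mod, h3q]; simp
          omega
      exact Nat.le_of_dvd (by positivity) hd
    have hP' : (P : Subgroup ↥(gG K m)) = (posG K m).map (MulAut.conj g).toMonoidHom := by
      rw [← hg, Sylow.coe_subgroup_smul, hQU]; rfl
    refine ⟨P, fun s hs => ?_, Or.inr (Or.inl ⟨P, rfl⟩)⟩
    have hsx : s * x * s⁻¹ ∈ P := hP ((Subgroup.mem_normalizer_iff.1 (hn hs) x).1 hx)
    have hxP : x ∈ (P : Subgroup ↥(gG K m)) := hP hx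
    rw [show s * x * s⁻¹ ∈ P ↔ s * x * s⁻¹ ∈ (P : Subgroup ↥(gG K m)) from Iff.rfl, hP'] at hsx
    rw [hP'] at hxP ⊢
    obtain ⟨y, hy, rfl⟩ := hxP
    obtain ⟨z, hz, hze⟩ := hsx
    have hze' : g * z * g⁻¹ = s * (g * y * g⁻¹) * s⁻¹ := hze
    have hb : g⁻¹ * s * g ∈ borG K m := pos_transporter' hK hy
      (fun e => hx1' (by rw [e]; exact map_one _)) (by
        rwa [show g⁻¹ * s * g * y * (g⁻¹ * s * g)⁻¹ = g⁻¹ * (s * (g * y * g⁻¹) * s⁻¹) * g by group, ← hze',
          show g⁻¹ * (g * z * g⁻¹) * g = z by group])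
    rw [mem_norm_map, Subgroup.mem_normalizer_iff]
    refine fun u => ⟨fun hu => bor_norm hb hu, fun hu => ?_⟩
    have := bor_norm (inv_mem hb) hu
    rwa [show (g⁻¹ * s * g)⁻¹ * (g⁻¹ * s * g * u * (g⁻¹ * s * g)⁻¹) * (g⁻¹ * s * g)⁻¹⁻¹ = u by group] at this
  by_cases hp2 : p = 2
  · subst hp2
    have h4 := h2 rfl
    obtain ⟨P, hP⟩ := hBp.exists_le_sylow
    have h8 := MultW.ree_two_card hK P
    have hd := Subgroup.card_dvd_of_le hP
    rw [h8] at hd
    have hc48 : Nat.card ↥B = 4 ∨ Nat.card ↥B = 8 := by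
      have := Nat.le_of_dvd (by norm_num) hd
      generalize Nat.card ↥B = b at *
      interval_cases b <;> first | omega | norm_num at hd
    rcases hc48 with h4 | h4
    · obtain ⟨g, rfl⟩ := four_conj hK h4 fun y hy => by rw [← pow_two]; exact he y hy
      refine ⟨(A 1).map (MulAut.conj g).toMonoidHom, fun s hs => ?_, Or.inr (Or.inr ⟨?_, 1, ?_⟩)⟩
      · rw [mem_norm_map, ← hV, ← mem_norm_map]; exact hn hs
      · haveI := (h.tor 1).cyclic
        exact isCyclic_of_surjective ((MulAut.conj g).toMonoidHom.subgroupMap _) (MonoidHom.subgroupMap_surjective _ _)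
      · rw [Subgroup.card_map_of_injective (MulAut.conj g).injective, (h.tor 1).card]
    · have hBP : B = P := Subgroup.eq_of_le_of_card_ge hP (by rw [h4, h8])
      exact ⟨P, hBP ▸ hn, Or.inl ⟨P, rfl⟩⟩
  have hp5 : 5 ≤ p := by
    have := hp.two_le
    by_contra hlt
    interval_cases p <;> first | omega | exact absurd hp (by norm_num)
  obtain ⟨i, hi⟩ := exists_torK hK hm hp hp5 (hxo ▸ orderOf_dvd_natCard x)
  have hk : ∀ y ∈ B, y ^ torK m i = 1 := fun y hy => by
    obtain ⟨c, hc'⟩ := hi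
    rw [hc', pow_mul, he y hy, one_pow]
  obtain ⟨g, hg⟩ := conj_torus hK hm h (hk x hx)
  have hsub : B.map (MulAut.conj g).toMonoidHom ≤ A i := by
    rintro _ ⟨y, hy, rfl⟩
    refine h.mem i _ ?_ (by show (g * y * g⁻¹) ^ torK m i = 1; rw [conj_pow, hk y hy, mul_one, mul_inv_cancel])
    rw [← (h.tor i).cent _ hg (fun e => hx1' (conj_eq_one_iff.1 e)), Subgroup.mem_centralizer_singleton_iff]
    show g * y * g⁻¹ * (g * x * g⁻¹) = g * x * g⁻¹ * (g * y * g⁻¹)
    calc _ = g * (y * x) * g⁻¹ := by group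
      _ = g * (x * y) * g⁻¹ := by rw [(hc y hy x hx).eq]
      _ = _ := by group
  have hN := (h.tor i).norm_sub _ hsub fun e => hx1' (by
    have hm' : g * x * g⁻¹ ∈ B.map (MulAut.conj g).toMonoidHom := ⟨x, hx, rfl⟩
    rw [e, Subgroup.mem_bot, conj_eq_one_iff] at hm'
    exact hm')
  refine ⟨(A i).map (MulAut.conj g⁻¹).toMonoidHom, fun s hs => ?_, Or.inr (Or.inr ⟨?_, i, ?_⟩)⟩
  · rw [mem_norm_map, ← hN, mem_norm_map]
    rw [show g⁻¹ * (g⁻¹⁻¹ * s * g⁻¹) * g = s by group]
    exact hn hs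
  · haveI := (h.tor i).cyclic
    exact isCyclic_of_surjective ((MulAut.conj g⁻¹).toMonoidHom.subgroupMap _) (MonoidHom.subgroupMap_surjective _ _)
  · rw [Subgroup.card_map_of_injective (MulAut.conj g⁻¹).injective, (h.tor i).card]

/-- Every solvable subgroup normalises a Sylow 2- or 3-subgroup or one of the four tori. -/
theorem solvable_subgroup (hm : 1 ≤ m) (S : Subgroup ↥(gG K m)) (hS : Group.IsSolvable S) : SolvGoal S := by
  haveI : Fact (Nat.Prime 2) := ⟨Nat.prime_two⟩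
  have htriv : ∀ {T : Subgroup ↥(gG K m)}, (∀ s ∈ T, s = 1 ∨ (s * s = 1 ∧ ∀ t ∈ T, t = 1 ∨ t = s)) → SolvGoal T := by
    intro T hT
    obtain ⟨P, hP⟩ : ∃ P : Sylow 2 ↥(gG K m), T ≤ P := by
      by_cases h : ∃ s ∈ T, s ≠ 1
      · obtain ⟨s, hs, hs1⟩ := h
        obtain ⟨hs2, hall⟩ := (hT s hs).resolve_left hs1
        have ho : orderOf s = 2 := orderOf_eq_prime (by rw [pow_two]; exact hs2) hs1
        obtain ⟨P, hP⟩ := (IsPGroup.of_card (p := 2) (n := 1) (by rw [Nat.card_zpowers, ho, pow_one]) :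
          IsPGroup 2 ↥(Subgroup.zpowers s)).exists_le_sylow
        exact ⟨P, fun t ht => by
          rcases hall t ht with rfl | rfl
          · exact one_mem _
          · exact hP (Subgroup.mem_zpowers _)⟩
      · push Not at h
        exact ⟨default, fun t ht => by rw [h t ht]; exact one_mem _⟩
    exact ⟨P, hP.trans Subgroup.le_normalizer, Or.inl ⟨P, rfl⟩⟩
  by_cases hne : S = ⊥
  · exact htriv fun s hs => Or.inl (by rwa [hne, Subgroup.mem_bot] at hs)
  obtain ⟨p, B, hp, -, hB1, hc, he, hn⟩ := exists_elementary S hS hne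
  by_cases hgood : p = 2 → 4 ≤ Nat.card ↥B
  · exact solv_of_elem hK hm hp hB1 hc he hn hgood
  rw [Classical.not_imp] at hgood
  obtain ⟨rfl, hlt⟩ := hgood
  obtain ⟨⟨t, ht⟩, ht1⟩ := B.ne_bot_iff_exists_ne_one.1 hB1
  have ht1' : t ≠ 1 := fun e => ht1 (Subtype.ext e)
  have hB2 : ∀ y ∈ B, y = 1 ∨ y = t := by
    intro y hy
    by_contra hcon
    push Not at hcon
    have hBp : IsPGroup 2 ↥B := fun x => ⟨1, Subtype.ext (by rw [pow_one]; exact he x x.2)⟩
    obtain ⟨j, hj⟩ := IsPGroup.iff_card.1 hBp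
    have h3 : 3 ≤ Nat.card ↥B := by
      let f : Fin 3 → ↥B := ![1, ⟨t, ht⟩, ⟨y, hy⟩]
      have hf : Function.Injective f := by
        intro a b e
        have e' := congrArg Subtype.val e
        fin_cases a <;> fin_cases b <;>
          first | rfl | exact absurd e' ht1' | exact absurd e'.symm ht1' | exact absurd e' hcon.1 | exact absurd e'.symm hcon.1 | exact absurd e' hcon.2 | exact absurd e'.symm hcon.2
      simpa using Nat.card_le_card_of_injective f hf
    rw [hj] at h3 hlt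
    rcases Nat.lt_or_ge j 2 with hj2 | hj2
    · interval_cases j <;> omega
    · have : 2 ^ 2 ≤ 2 ^ j := Nat.pow_le_pow_right two_pos hj2
      omega
  obtain ⟨g, hg⟩ := invol_conj hK (by rw [← pow_two]; exact he t ht) ht1'
  -- move the subgroup into the centraliser
  set S' := S.map (MulAut.conj g⁻¹).toMonoidHom with hS'
  suffices hgoal : SolvGoal S' by
    obtain ⟨A, hA, hA'⟩ := hgoal
    refine ⟨A.map (MulAut.conj g).toMonoidHom, fun s hs => ?_, ?_⟩
    · rw [mem_norm_map]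
      exact hA ⟨s, hs, by show g⁻¹ * s * g⁻¹⁻¹ = _; rw [inv_inv]⟩
    · rcases hA' with ⟨P, rfl⟩ | ⟨P, rfl⟩ | ⟨hcy, i, hi⟩
      · exact Or.inl ⟨g • P, by rw [Sylow.coe_subgroup_smul]; rfl⟩
      · exact Or.inr (Or.inl ⟨g • P, by rw [Sylow.coe_subgroup_smul]; rfl⟩)
      · haveI := hcy
        exact Or.inr (Or.inr ⟨isCyclic_of_surjective ((MulAut.conj g).toMonoidHom.subgroupMap _)
          (MonoidHom.subgroupMap_surjective _ _), i, by rw [Subgroup.card_map_of_injective (MulAut.conj g).injective, hi]⟩)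
  have hcent : ∀ s ∈ S', s * invA hK = invA hK * s := by
    rintro _ ⟨s, hs, rfl⟩
    have h1 : s * t * s⁻¹ = t :=
      (hB2 _ ((Subgroup.mem_normalizer_iff.1 (hn hs) t).1 ht)).resolve_left fun e => ht1' (conj_eq_one_iff.1 e)
    show g⁻¹ * s * g⁻¹⁻¹ * invA hK = invA hK * (g⁻¹ * s * g⁻¹⁻¹)
    rw [← hg] at h1
    calc g⁻¹ * s * g⁻¹⁻¹ * invA hK = g⁻¹ * (s * (g * invA hK * g⁻¹) * s⁻¹) * (s * g) := by group
      _ = _ := by rw [h1]; group
  haveI : Group.IsSolvable S := hS
  have hS's : Group.IsSolvable ↥S' := Group.isSolvable_of_surjective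
    ((MulAut.conj g⁻¹).toMonoidHom.subgroupMap_surjective S)
  -- the projection
  have hpart : ∀ s ∈ S', ∃ r ∈ (reeSL hK).range, s = r ∨ s = invA hK * r := fun s hs => by
    obtain ⟨x, hx⟩ := centralizer_elems hK (hcent s hs)
    exact ⟨_, ⟨x, rfl⟩, hx⟩
  have hZ : ∀ z ∈ (reeSL hK).range, Commute (invA hK) z := by
    rintro _ ⟨x, rfl⟩; exact invA_comm_reeSL hK x
  let R : Subgroup ↥(gG K m) :=
    { carrier := {r | r ∈ (reeSL hK).range ∧ (r ∈ S' ∨ invA hK * r ∈ S')}
      one_mem' := ⟨one_mem _, Or.inl (one_mem _)⟩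
      mul_mem' := by
        rintro a b ⟨ha, ha'⟩ ⟨hb, hb'⟩
        refine ⟨mul_mem ha hb, ?_⟩
        rcases ha' with h | h <;> rcases hb' with h' | h'
        · exact Or.inl (mul_mem h h')
        · exact Or.inr (by
            rw [show invA hK * (a * b) = a * (invA hK * b) by rw [← mul_assoc, ← mul_assoc, (hZ a ha).eq]]
            exact mul_mem h h')
        · exact Or.inr (by rw [← mul_assoc]; exact mul_mem h h')
        · exact Or.inl (by
            have := mul_mem h h'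
            rwa [(hZ a ha).eq, mul_assoc, ← mul_assoc (invA hK), invA_sq, one_mul] at this)
      inv_mem' := by
        rintro a ⟨ha, ha'⟩
        refine ⟨inv_mem ha, ha'.imp inv_mem fun h => ?_⟩
        have := inv_mem h
        rwa [mul_inv_rev, invA_inv, ← ((hZ a ha).inv_right).eq] at this }
  have hRsolv : Group.IsSolvable ↥R := by
    classical
    have huniq : ∀ {r r' : ↥(gG K m)}, r ∈ (reeSL hK).range → r' ∈ (reeSL hK).range → invA hK * r ≠ r' := by
      rintro r r' ⟨x, rfl⟩ ⟨y, rfl⟩ e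
      exact invA_not_range hK (y * x⁻¹) (by rw [map_mul, map_inv, ← e, mul_inv_cancel_right])
    choose pr hpr hpr' using hpart
    have hval : ∀ (s : ↥S') {r : ↥(gG K m)}, r ∈ (reeSL hK).range →
        ((s : ↥(gG K m)) = r ∨ (s : ↥(gG K m)) = invA hK * r) → pr s s.2 = r := by
      intro s r hr h
      rcases hpr' s s.2 with h1 | h1 <;> rcases h with h2 | h2
      · exact h1.symm.trans h2
      · exact absurd (h2.symm.trans h1) (huniq hr (hpr s s.2))
      · exact absurd (h1.symm.trans h2) (huniq (hpr s s.2) hr)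
      · exact mul_left_cancel (h1.symm.trans h2)
    have hmemR : ∀ s : ↥S', pr s s.2 ∈ R := fun s => by
      refine ⟨hpr s s.2, ?_⟩
      rcases hpr' s s.2 with h1 | h1
      · exact Or.inl (h1 ▸ s.2)
      · exact Or.inr (h1 ▸ s.2)
    let f : ↥S' →* ↥R := MonoidHom.mk' (fun s => ⟨pr s s.2, hmemR s⟩) fun s t => Subtype.ext (hval (s * t)
      (mul_mem (hpr s s.2) (hpr t t.2)) (by
        rw [Subgroup.coe_mul]
        have hZs := hZ _ (hpr s s.2)
        show (s : ↥(gG K m)) * t = pr s s.2 * pr t t.2 ∨ (s : ↥(gG K m)) * t = invA hK * (pr s s.2 * pr t t.2)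
        rcases hpr' s s.2 with h1 | h1 <;> rcases hpr' t t.2 with h2 | h2
        · exact Or.inl (by nth_rewrite 1 [h1, h2]; rfl)
        · exact Or.inr (by nth_rewrite 1 [h1, h2]; rw [← mul_assoc, ← hZs.eq, mul_assoc])
        · exact Or.inr (by nth_rewrite 1 [h1, h2]; rw [mul_assoc])
        · refine Or.inl ?_
          nth_rewrite 1 [h1, h2]
          rw [hZs.eq, mul_assoc, ← mul_assoc (invA hK), invA_sq, one_mul]))
    refine Group.isSolvable_of_surjective (f := f) fun r => ?_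
    rcases r.2.2 with h | h
    · exact ⟨⟨_, h⟩, Subtype.ext (hval ⟨_, h⟩ r.2.1 (Or.inl rfl))⟩
    · exact ⟨⟨_, h⟩, Subtype.ext (hval ⟨_, h⟩ r.2.1 (Or.inr rfl))⟩
  have hS'R : ∀ s ∈ S', ∃ r ∈ R, s = r ∨ s = invA hK * r := fun s hs => by
    obtain ⟨r, hr, h⟩ := hpart s hs
    refine ⟨r, ⟨hr, ?_⟩, h⟩
    rcases h with e | e
    · exact Or.inl (e ▸ hs)
    · exact Or.inr (e ▸ hs)
  by_cases hR : R = ⊥
  · refine htriv fun s hs => ?_
    have hall : ∀ u ∈ S', u = 1 ∨ u = invA hK := fun u hu => by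
      obtain ⟨r, hr, h⟩ := hS'R u hu
      rw [hR, Subgroup.mem_bot] at hr
      rw [hr] at h
      simpa using h
    rcases hall s hs with rfl | rfl
    · exact Or.inl rfl
    · exact Or.inr ⟨invA_sq hK, hall⟩
  obtain ⟨p', B', hp', hB'R, hB'1, hc', he', hn'⟩ := exists_elementary R hRsolv hR
  have hnS : S' ≤ Subgroup.normalizer (B' : Set ↥(gG K m)) := fun s hs => by
    obtain ⟨r, hr, h | h⟩ := hS'R s hs
    · exact h ▸ hn' hr
    · rw [h]
      refine mul_mem ?_ (hn' hr)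
      have hfix : ∀ y ∈ B', invA hK * y * (invA hK)⁻¹ = y := fun y hy =>
        mul_inv_eq_iff_eq_mul.2 (hZ y (hB'R hy).1).eq
      refine Subgroup.mem_normalizer_iff.2 fun y => ⟨fun hy => (hfix y hy).symm ▸ hy, fun hy => ?_⟩
      have h2 := hfix _ hy
      rw [show invA hK * (invA hK * y * (invA hK)⁻¹) * (invA hK)⁻¹ = invA hK * invA hK * y * (invA hK * invA hK)⁻¹ by group,
        invA_sq, one_mul, inv_one, mul_one] at h2
      rw [h2]; exact hy
  by_cases hp'2 : p' = 2
  · subst hp'2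
    set B'' := Subgroup.zpowers (invA hK) ⊔ B' with hB''
    have haB : invA hK ∈ B'' := Subgroup.mem_sup_left (Subgroup.mem_zpowers _)
    have hcomm : ∀ x ∈ B'', ∀ y ∈ B'', Commute x y := by
      have hgen : B'' ≤ Subgroup.centralizer (B'' : Set ↥(gG K m)) := by
        have h1 : ∀ z, (z = invA hK ∨ z ∈ B') → ∀ u, (u = invA hK ∨ u ∈ B') → Commute z u := by
          rintro z (rfl | hz) u (rfl | hu)
          · exact Commute.refl _
          · exact hZ u (hB'R hu).1
          · exact (hZ z (hB'R hz).1).symm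
          · exact hc' z hz u hu
        have hcl : B'' = Subgroup.closure ({invA hK} ∪ (B' : Set ↥(gG K m))) := by
          rw [Subgroup.closure_union, ← Subgroup.zpowers_eq_closure, Subgroup.closure_eq]
        rw [hcl, Subgroup.centralizer_closure, Subgroup.closure_le]
        intro z hz u hu
        exact (h1 z (hz.imp (fun e => e) fun e => e) u (hu.imp (fun e => e) fun e => e)).eq.symm
      exact fun x hx y hy => (Subgroup.mem_centralizer_iff.1 (hgen hy) x hx)
    have hexp : ∀ x ∈ B'', x ^ 2 = 1 := by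
      intro x hx
      rw [hB'', Subgroup.zpowers_eq_closure, ← Subgroup.closure_eq B', ← Subgroup.closure_union] at hx
      refine Subgroup.closure_induction (p := fun z _ => z ^ 2 = 1) ?_ (one_pow 2) ?_ (fun z _ e => by rw [inv_pow, e, inv_one]) hx
      · rintro z (rfl | hz)
        · rw [pow_two]; exact invA_sq hK
        · exact he' z hz
      · intro y z hy hz e1 e2
        rw [Subgroup.closure_union, ← Subgroup.zpowers_eq_closure, Subgroup.closure_eq] at hy hz
        rw [(hcomm y hy z hz).mul_pow, e1, e2, one_mul]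
    have h4 : 4 ≤ Nat.card ↥B'' := by
      obtain ⟨⟨u, hu⟩, hu1⟩ := B'.ne_bot_iff_exists_ne_one.1 hB'1
      have huB : u ∈ B'' := Subgroup.mem_sup_right hu
      have hu1' : u ≠ 1 := fun e => hu1 (Subtype.ext e)
      have hua : invA hK ≠ u := fun e => by
        obtain ⟨x, hx⟩ := (hB'R hu).1
        exact invA_not_range hK x (hx.trans e.symm)
      have hau : invA hK * u ≠ 1 := fun e => hua (by
        rw [mul_eq_one_iff_inv_eq] at e; rwa [invA_inv] at e)
      let f : Fin 4 → ↥B'' := ![1, ⟨_, haB⟩, ⟨_, huB⟩, ⟨_, mul_mem haB huB⟩]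
      have hf : Function.Injective f := by
        intro a b e
        have e' := congrArg Subtype.val e
        have n3 : invA hK * u ≠ invA hK := fun e => hu1' (mul_eq_left.1 e)
        have n4 : invA hK * u ≠ u := fun e => invA_ne_one hK (mul_eq_right.1 e)
        have n0 := invA_ne_one hK
        fin_cases a <;> fin_cases b <;>
          first | rfl | exact absurd e' n0 | exact absurd e'.symm n0 | exact absurd e' hu1' | exact absurd e'.symm hu1' | exact absurd e' hua | exact absurd e'.symm hua | exact absurd e' hau | exact absurd e'.symm hau | exact absurd e' n3 | exact absurd e'.symm n3 | exact absurd e' n4 | exact absurd e'.symm n4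
      simpa using Nat.card_le_card_of_injective f hf
    have hne'' : B'' ≠ ⊥ := fun e => by rw [e, Subgroup.card_bot] at h4; omega
    refine solv_of_elem hK hm Nat.prime_two hne'' hcomm hexp (fun s hs => ?_) fun _ => h4
    have hsA : s * invA hK * s⁻¹ = invA hK := mul_inv_eq_iff_eq_mul.2 (hcent s hs)
    have hmap : B''.map (MulAut.conj s).toMonoidHom = B'' := by
      rw [hB'', Subgroup.map_sup, MonoidHom.map_zpowers]
      congr 1
      · rw [show (MulAut.conj s).toMonoidHom (invA hK) = invA hK from hsA]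
      · refine Subgroup.eq_of_le_of_card_ge ?_ (by rw [Subgroup.card_map_of_injective (MulAut.conj s).injective])
        rintro _ ⟨z, hz, rfl⟩
        exact (Subgroup.mem_normalizer_iff.1 (hnS hs) z).1 hz
    refine Subgroup.mem_normalizer_iff.2 fun z => ⟨fun hz => hmap.le ⟨z, hz, rfl⟩, fun hz => ?_⟩
    obtain ⟨y, hy, e⟩ := hmap.ge hz
    rwa [← (MulAut.conj s).injective e]
  · exact solv_of_elem hK hm hp' hB'1 hc' he' hnS fun e => absurd e hp'2

end Cfsg.Lib.Chev.Ree
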