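import Cfsg.Agent.Lib.Chev.ReeInvol
import Cfsg.Agent.Lib.Chev.MultRee

/-! The Sylow 2-subgroups of ²G₂(q). -/

set_option autoImplicit false
set_option linter.unusedSectionVars false
set_option maxRecDepth 100000

namespace Cfsg.Lib.Chev.Ree

open Cfsg.Lie Cfsg.Lib.Chev Cfsg.Lib.Chev.G2Aut
open scoped MatrixGroups

/-- Three commuting involutions as a homomorphism. -/
theorem exists_triple {G : Type*} [Group G] {x y z : G} (hx : x * x = 1) (hy : y * y = 1) (hz : z * z = 1)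
    (hxy : Commute x y) (hxz : Commute x z) (hyz : Commute y z) :
    ∃ φ : (Multiplicative (ZMod 2) × Multiplicative (ZMod 2)) × Multiplicative (ZMod 2) →* G,
      ∀ a b c : ZMod 2, φ ((.ofAdd a, .ofAdd b), .ofAdd c) = x ^ a.val * y ^ b.val * z ^ c.val := by
  have pm : ∀ {w : G}, w * w = 1 → ∀ a b : ZMod 2, w ^ (a + b).val = w ^ a.val * w ^ b.val := by
    intro w hw a b
    rw [← pow_add, ZMod.val_add]
    conv_rhs => rw [← Nat.mod_add_div (a.val + b.val) 2, pow_add, pow_mul, pow_two, hw, one_pow, mul_one]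
  refine ⟨{ toFun := fun p => x ^ p.1.1.toAdd.val * y ^ p.1.2.toAdd.val * z ^ p.2.toAdd.val
            map_one' := by simp
            map_mul' := ?_ }, fun a b c => rfl⟩
  rintro ⟨⟨a, b⟩, c⟩ ⟨⟨a', b'⟩, c'⟩
  simp only [Prod.mk_mul_mk, toAdd_mul]
  rw [pm hx, pm hy, pm hz]
  calc x ^ a.toAdd.val * x ^ a'.toAdd.val * (y ^ b.toAdd.val * y ^ b'.toAdd.val) * (z ^ c.toAdd.val * z ^ c'.toAdd.val)
      = x ^ a.toAdd.val * (x ^ a'.toAdd.val * y ^ b.toAdd.val) * (y ^ b'.toAdd.val * z ^ c.toAdd.val) * z ^ c'.toAdd.val := by group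
    _ = x ^ a.toAdd.val * (y ^ b.toAdd.val * x ^ a'.toAdd.val) * (z ^ c.toAdd.val * y ^ b'.toAdd.val) * z ^ c'.toAdd.val := by
        rw [(hxy.pow_pow _ _).eq, (hyz.pow_pow _ _).eq]
    _ = x ^ a.toAdd.val * y ^ b.toAdd.val * (x ^ a'.toAdd.val * z ^ c.toAdd.val) * y ^ b'.toAdd.val * z ^ c'.toAdd.val := by group
    _ = _ := by rw [(hxz.pow_pow _ _).eq]; group

/-- The seven non-trivial triples. -/
theorem triple_cases {P : ZMod 2 → ZMod 2 → ZMod 2 → Prop} (h100 : P 1 0 0) (h010 : P 0 1 0) (h001 : P 0 0 1)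
    (h110 : P 1 1 0) (h101 : P 1 0 1) (h011 : P 0 1 1) (h111 : P 1 1 1) (a b c : ZMod 2) :
    (a = 0 ∧ b = 0 ∧ c = 0) ∨ P a b c := by
  fin_cases a <;> fin_cases b <;> fin_cases c <;>
    first | exact Or.inl ⟨rfl, rfl, rfl⟩ | exact Or.inr (by assumption)

theorem zmod_two_cases : ∀ d : ZMod 2, d = 0 ∨ d = 1 := by decide

theorem card_triple : Nat.card ((Multiplicative (ZMod 2) × Multiplicative (ZMod 2)) × Multiplicative (ZMod 2)) = 8 := by
  simp

variable {K : Type*} [Field K] [Fintype K] [CharP K esymG2.p] {m : ℕ} (hK : Fintype.card K = 3 ^ (2 * m + 1))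
include hK

/-- A Sylow 2-subgroup with a regular element of order seven. -/
theorem exists_sylow_seven : ∃ (S : Sylow 2 ↥(gG K m)) (g A : ↥(gG K m)), g ∈ Subgroup.normalizer ((S : Subgroup ↥(gG K m)) : Set ↥(gG K m)) ∧
    A ∈ S ∧ A ≠ 1 ∧ (∀ x ∈ S, x * x = 1) ∧ ∀ x ∈ S, x ≠ 1 → ∃ k : ℕ, x = g ^ k * A * (g ^ k)⁻¹ := by
  haveI : Fact (Nat.Prime 2) := ⟨Nat.prime_two⟩
  obtain ⟨A, g, hA1, hA2, hAB, hC⟩ := MultW.exists_eight (m := m) hK
  set c := MulAut.conj g with hcdef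
  have hc_apply : ∀ x, c x = g * x * g⁻¹ := fun x => rfl
  set B := c A with hB
  set C := c B with hCdef
  have hgC : c C = A * B := by rw [hCdef, hB, hc_apply, hc_apply, hc_apply, ← hC]; group
  have cAB : Commute A B := hAB
  have cBC : Commute B C := cAB.map c.toMonoidHom
  have cCD : Commute C (A * B) := by
    have := cBC.map c.toMonoidHom
    simpa [← hCdef, hgC] using this
  have cAC : Commute A C := by simpa using (cCD.mul_right cBC.symm.inv_right).symm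
  have hB2 : B * B = 1 := by rw [hB, ← map_mul, hA2, map_one]
  have hC2 : C * C = 1 := by rw [hCdef, ← map_mul, hB2, map_one]
  obtain ⟨φ, hφ⟩ := exists_triple hA2 hB2 hC2 cAB cAC cBC
  have hk : ∀ k : ℕ, ∀ x, (c ^ k) x = g ^ k * x * (g ^ k)⁻¹ := fun k x => by
    rw [hcdef, ← map_pow]; rfl
  have step : ∀ {x : ↥(gG K m)}, (∃ k : ℕ, x = g ^ k * A * (g ^ k)⁻¹) → ∃ k : ℕ, c x = g ^ k * A * (g ^ k)⁻¹ := by
    rintro _ ⟨k, rfl⟩
    exact ⟨k + 1, by rw [hc_apply, pow_succ']; group⟩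
  have i100 : ∃ k : ℕ, A = g ^ k * A * (g ^ k)⁻¹ := ⟨0, by simp⟩
  have i010 : ∃ k : ℕ, B = g ^ k * A * (g ^ k)⁻¹ := step i100
  have i001 : ∃ k : ℕ, C = g ^ k * A * (g ^ k)⁻¹ := step i010
  have i110 : ∃ k : ℕ, A * B = g ^ k * A * (g ^ k)⁻¹ := hgC ▸ step i001
  have i011 : ∃ k : ℕ, B * C = g ^ k * A * (g ^ k)⁻¹ := by
    have := step i110; rwa [map_mul, ← hB, ← hCdef] at this
  have i111 : ∃ k : ℕ, A * B * C = g ^ k * A * (g ^ k)⁻¹ := by
    have := step i011; rwa [map_mul, ← hCdef, hgC, ← cCD.symm.eq] at this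
  have i101 : ∃ k : ℕ, A * C = g ^ k * A * (g ^ k)⁻¹ := by
    have := step i111
    rw [map_mul, map_mul, ← hB, ← hCdef, hgC] at this
    rwa [show B * C * (A * B) = A * C by
      rw [← cAB.symm.eq, show B * C * (B * A) = B * (C * B) * A by group, cBC.symm.eq,
        show B * (B * C) * A = B * B * (C * A) by group, hB2, one_mul, cAC.eq]] at this
  have hall : ∀ a b d : ZMod 2, (a = 0 ∧ b = 0 ∧ d = 0) ∨
      ∃ k : ℕ, φ ((.ofAdd a, .ofAdd b), .ofAdd d) = g ^ k * A * (g ^ k)⁻¹ := by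
    refine triple_cases ?_ ?_ ?_ ?_ ?_ ?_ ?_ <;> rw [hφ] <;> simp [ZMod.val_one] <;> assumption
  have hne : ∀ k : ℕ, g ^ k * A * (g ^ k)⁻¹ ≠ 1 := fun k e => hA1 (conj_eq_one_iff.1 e)
  have hinj : Function.Injective φ := by
    refine (MonoidHom.ker_eq_bot_iff φ).1 ((Subgroup.eq_bot_iff_forall _).2 ?_)
    rintro ⟨⟨a, b⟩, d⟩ hp
    rcases hall a.toAdd b.toAdd d.toAdd with ⟨h1, h2, h3⟩ | ⟨k, hk'⟩
    · exact Prod.ext (Prod.ext h1 h2) h3
    · exact absurd (hk'.symm.trans hp) (hne k)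
  have hcard : Nat.card φ.range = 8 := by
    rw [← Nat.card_congr (MonoidHom.ofInjective hinj).toEquiv, card_triple]
  obtain ⟨S, hS⟩ := (IsPGroup.of_card (p := 2) (n := 3) hcard : IsPGroup 2 ↥φ.range).exists_le_sylow
  have hSeq : (S : Subgroup ↥(gG K m)) = φ.range :=
    (Subgroup.eq_of_le_of_card_ge hS (by rw [hcard, MultW.ree_two_card hK S])).symm
  have hmA : A ∈ φ.range := ⟨((.ofAdd 1, .ofAdd 0), .ofAdd 0), by rw [hφ, ZMod.val_one]; simp⟩
  have hmB : B ∈ φ.range := ⟨((.ofAdd 0, .ofAdd 1), .ofAdd 0), by rw [hφ, ZMod.val_one]; simp⟩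
  have hmC : C ∈ φ.range := ⟨((.ofAdd 0, .ofAdd 0), .ofAdd 1), by rw [hφ, ZMod.val_one]; simp⟩
  have hmap : φ.range.map c.toMonoidHom = φ.range := by
    refine Subgroup.eq_of_le_of_card_ge ?_ (by rw [Subgroup.card_map_of_injective c.injective])
    rintro _ ⟨_, ⟨⟨⟨a, b⟩, d⟩, rfl⟩, rfl⟩
    show c (φ ((a, b), d)) ∈ φ.range
    rw [show φ ((a, b), d) = A ^ a.toAdd.val * B ^ b.toAdd.val * C ^ d.toAdd.val from hφ a.toAdd b.toAdd d.toAdd,
      map_mul, map_mul, map_pow, map_pow, map_pow, ← hB, ← hCdef, hgC]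
    exact mul_mem (mul_mem (pow_mem hmB _) (pow_mem hmC _)) (pow_mem (mul_mem hmA hmB) _)
  have hg : g ∈ Subgroup.normalizer ((S : Subgroup ↥(gG K m)) : Set ↥(gG K m)) := by
    rw [hSeq, Subgroup.mem_normalizer_iff]
    refine fun x => ⟨fun hx => hmap.le ⟨x, hx, rfl⟩, fun hx => ?_⟩
    obtain ⟨y, hy, e⟩ := hmap.ge hx
    rwa [← c.injective e]
  refine ⟨S, g, A, hg, ?_, hA1, fun x hx => ?_, fun x hx hx1 => ?_⟩
  · show A ∈ (S : Subgroup ↥(gG K m))
    rw [hSeq]; exact hmA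
  · obtain ⟨p, rfl⟩ := hSeq ▸ (show x ∈ (S : Subgroup ↥(gG K m)) from hx)
    rw [← map_mul, show p * p = 1 by
      obtain ⟨⟨a, b⟩, d⟩ := p
      refine Prod.ext (Prod.ext ?_ ?_) ?_ <;> exact CharTwo.add_self_eq_zero (R := ZMod 2) _, map_one]
  · obtain ⟨⟨⟨a, b⟩, d⟩, rfl⟩ := hSeq ▸ (show x ∈ (S : Subgroup ↥(gG K m)) from hx)
    rcases hall a.toAdd b.toAdd d.toAdd with ⟨h1, h2, h3⟩ | h
    · exact absurd (by rw [show ((a, b), d) = (1 : (Multiplicative (ZMod 2) × Multiplicative (ZMod 2)) × Multiplicative (ZMod 2)) from Prod.ext (Prod.ext h1 h2) h3, map_one]) hx1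
    · exact h

/-- The Sylow 2-subgroups are elementary. -/
theorem sylow_two_elementary (P : Sylow 2 ↥(gG K m)) {x : ↥(gG K m)} (hx : x ∈ P) : x * x = 1 := by
  haveI : Fact (Nat.Prime 2) := ⟨Nat.prime_two⟩
  obtain ⟨S, -, -, -, -, -, hS2, -⟩ := exists_sylow_seven hK
  obtain ⟨h, hh⟩ := MulAction.exists_smul_eq ↥(gG K m) S P
  have hx' : x ∈ ((h • S : Sylow 2 ↥(gG K m)) : Subgroup ↥(gG K m)) := by rw [hh]; exact hx
  rw [Sylow.coe_subgroup_smul] at hx'
  obtain ⟨y, hy, rfl⟩ := hx'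
  show h * y * h⁻¹ * (h * y * h⁻¹) = 1
  rw [show h * y * h⁻¹ * (h * y * h⁻¹) = h * (y * y) * h⁻¹ by group, hS2 y hy, mul_one, mul_inv_cancel]

/-- All involutions are conjugate. -/
theorem invol_conj {x : ↥(gG K m)} (hx : x * x = 1) (hx1 : x ≠ 1) : ∃ g, g * invA hK * g⁻¹ = x := by
  haveI : Fact (Nat.Prime 2) := ⟨Nat.prime_two⟩
  obtain ⟨S, c, A, -, -, -, -, hall⟩ := exists_sylow_seven hK
  have key : ∀ {y : ↥(gG K m)}, y * y = 1 → y ≠ 1 → ∃ g, g * A * g⁻¹ = y := by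
    intro y hy hy1
    have ho : orderOf y = 2 := orderOf_eq_prime_iff.2 ⟨by rw [pow_two]; exact hy, hy1⟩
    obtain ⟨Q, hQ⟩ := (IsPGroup.of_card (p := 2) (n := 1) (by rw [Nat.card_zpowers, ho, pow_one]) :
      IsPGroup 2 ↥(Subgroup.zpowers y)).exists_le_sylow
    obtain ⟨h, hh⟩ := MulAction.exists_smul_eq ↥(gG K m) S Q
    have hy' : y ∈ ((h • S : Sylow 2 ↥(gG K m)) : Subgroup ↥(gG K m)) := by
      rw [hh]; exact hQ (Subgroup.mem_zpowers y)
    rw [Sylow.coe_subgroup_smul] at hy'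
    obtain ⟨z, hz, rfl⟩ := hy'
    obtain ⟨k, rfl⟩ := hall z hz fun e => hy1 (by show h * z * h⁻¹ = 1; rw [e, mul_one, mul_inv_cancel])
    exact ⟨h * c ^ k, by show _ = h * (c ^ k * A * (c ^ k)⁻¹) * h⁻¹; group⟩
  obtain ⟨g₁, h₁⟩ := key (invA_sq hK) (invA_ne_one hK)
  obtain ⟨g₂, h₂⟩ := key hx hx1
  exact ⟨g₂ * g₁⁻¹, by rw [← h₁, ← h₂]; group⟩

/-- The matrix of order four. -/
def qJ : SL(2, K) := ⟨!![1, 1; 1, -1], by
  haveI : CharP K 3 := inferInstanceAs (CharP K esymG2.p)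
  have h3 : ((3 : ℕ) : K) = 0 := CharP.cast_eq_zero K 3
  rw [Matrix.det_fin_two_of]
  push_cast at h3
  linear_combination -h3⟩

theorem neg_one_eq : (-1 : SL(2, K)) = SLTwoRel.tri (-1) 0 (neg_ne_zero.2 one_ne_zero) := by
  refine Subtype.ext ?_
  ext i j
  fin_cases i <;> fin_cases j <;> simp [SLTwoRel.coe_tri, inv_neg]

theorem reeSL_neg_one : reeSL hK (-1) = 1 := by
  rw [neg_one_eq hK]; exact (exists_reeSL' hK).choose_spec.2.2.2

theorem reeSL_neg (x : SL(2, K)) : reeSL hK (-x) = reeSL hK x := by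
  rw [show -x = (-1) * x by simp, map_mul, reeSL_neg_one, one_mul]

theorem reeSL_eq_iff {x y : SL(2, K)} : reeSL hK x = reeSL hK y ↔ x = y ∨ x = -y := by
  refine ⟨fun h => ?_, fun h => h.elim (congrArg _) fun e => e ▸ reeSL_neg hK y⟩
  have h' : x * y⁻¹ ∈ (reeSL hK).ker := by rw [MonoidHom.mem_ker, map_mul, map_inv, h, mul_inv_cancel]
  rw [reeSL_ker] at h'
  obtain ⟨r, hr, hr'⟩ := Matrix.SpecialLinearGroup.mem_center_iff.1 h'
  rcases mul_self_eq_one_iff.1 (show r * r = 1 by rw [← pow_two]; simpa using hr) with rfl | rfl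
  · exact Or.inl (mul_inv_eq_one.1 (Subtype.ext (by rw [← hr']; simp)))
  · refine Or.inr ?_
    have : x * y⁻¹ = -1 := Subtype.ext (by rw [← hr', map_neg, map_one]; simp)
    rw [← inv_mul_cancel_right x y, this, neg_mul, one_mul]

theorem coe_qJ : ((qJ : SL(2, K)) : Matrix (Fin 2) (Fin 2) K) = !![1, 1; 1, -1] := rfl

/-- The matrix relations of the quaternion group. -/
theorem quat_facts : (SLTwoRel.rot * SLTwoRel.rot : SL(2, K)) = -1 ∧ (qJ * qJ : SL(2, K)) = -1 ∧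
    (qJ * SLTwoRel.rot : SL(2, K)) = -(SLTwoRel.rot * qJ) ∧
    (SLTwoRel.upr 1 * SLTwoRel.rot : SL(2, K)) = -(qJ * SLTwoRel.upr 1) ∧
    (SLTwoRel.upr 1 * qJ : SL(2, K)) = -(SLTwoRel.rot * qJ * SLTwoRel.upr 1) := by
  haveI : CharP K 3 := inferInstanceAs (CharP K esymG2.p)
  have h3 : ((3 : ℕ) : K) = 0 := CharP.cast_eq_zero K 3
  push_cast at h3
  refine ⟨?_, ?_, ?_, ?_, ?_⟩ <;> refine Subtype.ext ?_ <;> ext i j <;> fin_cases i <;> fin_cases j <;>
    simp [coe_qJ hK, SLTwoRel.coe_rot, SLTwoRel.coe_upr, Matrix.mul_apply, Fin.sum_univ_two] <;>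
    first | ring1 | linear_combination h3 | linear_combination -h3 | skip

/-- An element commuting with both generators is scalar. -/
theorem quat_centralizer {x : SL(2, K)} (h1 : x * SLTwoRel.rot = SLTwoRel.rot * x) (h2 : x * qJ = qJ * x) :
    reeSL hK x = 1 := by
  refine reeSL_center hK (Matrix.SpecialLinearGroup.mem_center_iff.2 ⟨x.1 0 0, ?_⟩)
  have e1 : ∀ i j, (x * SLTwoRel.rot).1 i j = (SLTwoRel.rot * x).1 i j := fun i j => by rw [h1]
  have e2 : ∀ i j, (x * qJ).1 i j = (qJ * x).1 i j := fun i j => by rw [h2]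
  have a1 := e1 0 0
  have a2 := e1 0 1
  have b1 := e2 0 0
  have b2 := e2 0 1
  simp [coe_qJ hK, SLTwoRel.coe_rot, Matrix.mul_apply, Fin.sum_univ_two] at a1 a2 b1 b2
  have h2' : (2 : K) ≠ 0 := fun h => neg_one_ne hK (by linear_combination -h)
  have hr : x.1 0 1 = 0 := mul_left_cancel₀ h2' (by linear_combination b1 - a1)
  have hq : x.1 1 0 = 0 := by linear_combination -a1 - hr
  have hdet : x.1 0 0 * x.1 1 1 - x.1 0 1 * x.1 1 0 = 1 := by rw [← Matrix.det_fin_two]; exact x.2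
  rw [← a2, hr, hq] at hdet
  refine ⟨by rw [Fintype.card_fin]; linear_combination hdet, ?_⟩
  ext i j
  fin_cases i <;> fin_cases j <;> simp [hr, hq, ← a2]

omit hK in
theorem mem_smul_sylow {h x : ↥(gG K m)} (S : Sylow 2 ↥(gG K m)) :
    x ∈ ((h • S : Sylow 2 ↥(gG K m)) : Subgroup ↥(gG K m)) ↔ h⁻¹ * x * h ∈ S := by
  rw [Sylow.coe_subgroup_smul]
  refine ⟨?_, fun hx => ⟨_, hx, by show h * (h⁻¹ * x * h) * h⁻¹ = x; group⟩⟩
  rintro ⟨y, hy, rfl⟩
  show h⁻¹ * (h * y * h⁻¹) * h ∈ S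
  rw [show h⁻¹ * (h * y * h⁻¹) * h = y by group]
  exact hy

/-- The normaliser is transitive on the involutions. -/
theorem normalizer_trans (S : Sylow 2 ↥(gG K m)) {x y : ↥(gG K m)} (hx : x ∈ S) (hx1 : x ≠ 1) (hy : y ∈ S)
    (hy1 : y ≠ 1) :
    ∃ n ∈ Subgroup.normalizer ((S : Subgroup ↥(gG K m)) : Set ↥(gG K m)), n * x * n⁻¹ = y := by
  haveI : Fact (Nat.Prime 2) := ⟨Nat.prime_two⟩
  obtain ⟨S', g, A, hg, -, -, -, hall⟩ := exists_sylow_seven hK
  obtain ⟨h, rfl⟩ := MulAction.exists_smul_eq ↥(gG K m) S' S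
  obtain ⟨k, hk⟩ := hall _ ((mem_smul_sylow S').1 hx) fun e => hx1 (by
    rw [show x = h * (h⁻¹ * x * h) * h⁻¹ by group, e]; group)
  obtain ⟨l, hl⟩ := hall _ ((mem_smul_sylow S').1 hy) fun e => hy1 (by
    rw [show y = h * (h⁻¹ * y * h) * h⁻¹ by group, e]; group)
  have hn : g ^ l * (g ^ k)⁻¹ ∈ Subgroup.normalizer ((S' : Subgroup ↥(gG K m)) : Set ↥(gG K m)) :=
    mul_mem (pow_mem hg _) (inv_mem (pow_mem hg _))
  refine ⟨h * (g ^ l * (g ^ k)⁻¹) * h⁻¹, ?_, ?_⟩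
  · rw [Subgroup.mem_normalizer_iff]
    intro z
    rw [mem_smul_sylow, mem_smul_sylow]
    show h⁻¹ * z * h ∈ (S' : Subgroup ↥(gG K m)) ↔ h⁻¹ * _ * h ∈ (S' : Subgroup ↥(gG K m))
    rw [Subgroup.mem_normalizer_iff.1 hn]
    simp only [mul_inv_rev, inv_inv, mul_assoc, inv_mul_cancel_left, inv_mul_cancel, mul_one]
  · rw [show x = h * (h⁻¹ * x * h) * h⁻¹ by group, show y = h * (h⁻¹ * y * h) * h⁻¹ by group, hk, hl]; group

/-- The standard Sylow 2-subgroup, as a range. -/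
theorem exists_std : ∃ S : Sylow 2 ↥(gG K m), invA hK ∈ S ∧ reeSL hK SLTwoRel.rot ∈ S ∧ reeSL hK qJ ∈ S ∧
    ∀ z ∈ S, ∃ a b c : ℕ, z = invA hK ^ a * reeSL hK SLTwoRel.rot ^ b * reeSL hK qJ ^ c := by
  haveI : Fact (Nat.Prime 2) := ⟨Nat.prime_two⟩
  obtain ⟨hi, hj, hji, -, -⟩ := quat_facts hK
  set I := reeSL hK SLTwoRel.rot with hI
  set J := reeSL hK qJ with hJ
  have hI2 : I * I = 1 := by rw [hI, ← map_mul, hi, reeSL_neg_one]
  have hJ2 : J * J = 1 := by rw [hJ, ← map_mul, hj, reeSL_neg_one]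
  have hIJ : Commute I J := by
    show I * J = J * I
    rw [hI, hJ, ← map_mul, ← map_mul, hji, reeSL_neg]
  obtain ⟨φ, hφ⟩ := exists_triple (invA_sq hK) hI2 hJ2 (invA_comm_reeSL hK _) (invA_comm_reeSL hK _) hIJ
  have hne : ∀ b c : ZMod 2, I ^ b.val * J ^ c.val = 1 → b = 0 ∧ c = 0 := by
    intro b c
    have hne' : ∀ X : SL(2, K), X ≠ 1 → X ≠ -1 → reeSL hK X ≠ 1 := fun X h1 h2 e => by
      rcases (reeSL_eq_iff hK (y := 1)).1 (e.trans (map_one (reeSL hK)).symm) with h | h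
      · exact h1 h
      · exact h2 h
    have entry : ∀ {X Y : SL(2, K)}, X.1 0 1 ≠ Y.1 0 1 → X ≠ Y := fun h e => h (by rw [e])
    have h2' : (2 : K) ≠ 0 := fun h => neg_one_ne hK (by linear_combination -h)
    have hI1 : I ≠ 1 := hne' _ (entry (by simp [SLTwoRel.coe_rot])) (entry (by simp [SLTwoRel.coe_rot]))
    have hJ1 : J ≠ 1 := hne' _ (entry (by simp [coe_qJ hK])) (entry (by simp [coe_qJ hK]))
    have hIJ1 : I * J ≠ 1 := by
      rw [hI, hJ, ← map_mul]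
      exact hne' _ (entry (by simp [SLTwoRel.coe_rot, coe_qJ hK, Matrix.mul_apply, Fin.sum_univ_two]))
        (entry (by simp [SLTwoRel.coe_rot, coe_qJ hK, Matrix.mul_apply, Fin.sum_univ_two]))
    intro h
    rcases zmod_two_cases b with rfl | rfl <;> rcases zmod_two_cases c with rfl | rfl <;> simp [ZMod.val_one, hI1, hJ1, hIJ1] at h ⊢
  have hinj : Function.Injective φ := by
    refine (MonoidHom.ker_eq_bot_iff φ).1 ((Subgroup.eq_bot_iff_forall _).2 ?_)
    rintro ⟨⟨a, b⟩, c⟩ hp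
    have h : invA hK ^ a.toAdd.val * I ^ b.toAdd.val * J ^ c.toAdd.val = 1 := (hφ _ _ _).symm.trans hp
    have ha : a.toAdd = 0 := by
      by_contra ha
      have ha1 : a.toAdd.val = 1 := by
        have h2 := ZMod.val_lt a.toAdd
        have h3 : a.toAdd.val ≠ 0 := fun e => ha ((ZMod.val_eq_zero _).1 e)
        omega
      rw [ha1, pow_one, mul_assoc, hI, hJ, ← map_pow, ← map_pow, ← map_mul] at h
      exact invA_not_range hK _ ((eq_inv_of_mul_eq_one_right h).trans (invA_inv hK))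
    rw [ha, ZMod.val_zero, pow_zero, one_mul] at h
    exact Prod.ext (Prod.ext ha (hne _ _ h).1) (hne _ _ h).2
  have hcard : Nat.card φ.range = 8 := by
    rw [← Nat.card_congr (MonoidHom.ofInjective hinj).toEquiv, card_triple]
  obtain ⟨S, hS⟩ := (IsPGroup.of_card (p := 2) (n := 3) hcard : IsPGroup 2 ↥φ.range).exists_le_sylow
  have hSeq : (S : Subgroup ↥(gG K m)) = φ.range :=
    (Subgroup.eq_of_le_of_card_ge hS (by rw [hcard, MultW.ree_two_card hK S])).symm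
  refine ⟨S, hS ⟨((.ofAdd 1, .ofAdd 0), .ofAdd 0), ?_⟩, hS ⟨((.ofAdd 0, .ofAdd 1), .ofAdd 0), ?_⟩,
    hS ⟨((.ofAdd 0, .ofAdd 0), .ofAdd 1), ?_⟩, fun z hz => ?_⟩
  iterate 3 (rw [hφ]; simp [ZMod.val_one])
  obtain ⟨⟨⟨a, b⟩, c⟩, rfl⟩ := hSeq ▸ (show z ∈ (S : Subgroup ↥(gG K m)) from hz)
  exact ⟨_, _, _, hφ a.toAdd b.toAdd c.toAdd⟩

set_option maxHeartbeats 2000000 in
/-- A Sylow 2-subgroup is its own centraliser and has a normaliser of order 168. -/
theorem sylow_two_normalizer (S : Sylow 2 ↥(gG K m)) :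
    Subgroup.centralizer ((S : Subgroup ↥(gG K m)) : Set ↥(gG K m)) = S ∧
      Nat.card (Subgroup.normalizer ((S : Subgroup ↥(gG K m)) : Set ↥(gG K m))) = 168 := by
  classical
  haveI : Fact (Nat.Prime 2) := ⟨Nat.prime_two⟩
  obtain ⟨hi, hj, hji, hti, htj⟩ := quat_facts hK
  obtain ⟨S₀, haS, hIS, hJS, hel⟩ := exists_std hK
  set I := reeSL hK SLTwoRel.rot with hI
  set J := reeSL hK qJ with hJ
  set t := reeSL hK (SLTwoRel.upr 1) with ht
  have key : ∀ x : SL(2, K), Commute (reeSL hK x) I → Commute (reeSL hK x) J → reeSL hK x ∈ S₀ := by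
    intro x h1 h2
    have h1' := (reeSL_eq_iff hK).1 (show reeSL hK (x * SLTwoRel.rot) = reeSL hK (SLTwoRel.rot * x) by
      rw [map_mul, map_mul]; exact h1.eq)
    have h2' := (reeSL_eq_iff hK).1 (show reeSL hK (x * qJ) = reeSL hK (qJ * x) by
      rw [map_mul, map_mul]; exact h2.eq)
    have hI2 : I * I = 1 := by rw [hI, ← map_mul, hi, reeSL_neg_one]
    have hJ2 : J * J = 1 := by rw [hJ, ← map_mul, hj, reeSL_neg_one]
    have hir : (SLTwoRel.rot * qJ : SL(2, K)) = -(qJ * SLTwoRel.rot) := by rw [hji, neg_neg]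
    have fin : ∀ w : SL(2, K), (x * w) * SLTwoRel.rot = SLTwoRel.rot * (x * w) → (x * w) * qJ = qJ * (x * w) →
        reeSL hK w ∈ S₀ → reeSL hK x ∈ S₀ := by
      intro w hw1 hw2 hw
      have := quat_centralizer hK hw1 hw2
      rw [map_mul, mul_eq_one_iff_eq_inv] at this
      rw [this]; exact inv_mem hw
    rcases h1' with h1' | h1' <;> rcases h2' with h2' | h2'
    · exact fin 1 (by rw [mul_one]; exact h1') (by rw [mul_one]; exact h2') (by rw [map_one]; exact one_mem _)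
    · refine fin SLTwoRel.rot ?_ ?_ hIS
      · rw [← mul_assoc, ← h1']
      · rw [mul_assoc, hir, mul_neg, ← mul_assoc, h2', neg_mul, neg_neg, mul_assoc]
    · refine fin qJ ?_ ?_ hJS
      · rw [mul_assoc, hji, mul_neg, ← mul_assoc, h1', neg_mul, neg_neg, mul_assoc]
      · rw [← mul_assoc, ← h2']
    · have a1 : SLTwoRel.rot * x = -(x * SLTwoRel.rot) := (neg_eq_iff_eq_neg.2 h1').symm
      have a2 : qJ * x = -(x * qJ) := (neg_eq_iff_eq_neg.2 h2').symm
      refine fin (SLTwoRel.rot * qJ) ?_ ?_ (by rw [map_mul]; exact mul_mem hIS hJS)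
      · have l : x * (SLTwoRel.rot * qJ) * SLTwoRel.rot = x * qJ := by
          rw [mul_assoc, mul_assoc, hji, mul_neg, ← mul_assoc, hi]; simp
        have r : SLTwoRel.rot * (x * (SLTwoRel.rot * qJ)) = x * qJ := by
          rw [← mul_assoc, a1, neg_mul, ← mul_assoc, mul_assoc x, hi]; simp
        rw [l, r]
      · have l : x * (SLTwoRel.rot * qJ) * qJ = -(x * SLTwoRel.rot) := by
          rw [mul_assoc, mul_assoc, hj]; simp
        have r : qJ * (x * (SLTwoRel.rot * qJ)) = -(x * SLTwoRel.rot) := by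
          rw [← mul_assoc, a2, neg_mul, ← mul_assoc, mul_assoc x, hji, mul_neg, neg_mul, neg_neg, mul_assoc,
            mul_assoc, hj]; simp
        rw [l, r]
  have hC0 : Subgroup.centralizer ((S₀ : Subgroup ↥(gG K m)) : Set ↥(gG K m)) = S₀ := by
    refine le_antisymm (fun g hg => ?_) fun g hg => Subgroup.mem_centralizer_iff.2 fun x hx => ?_
    · have hc : ∀ {y}, y ∈ S₀ → Commute g y := fun hy => (Subgroup.mem_centralizer_iff.1 hg _ hy).symm
      obtain ⟨x, rfl | rfl⟩ := centralizer_elems hK (hc haS).eq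
      · exact key x (hc hIS) (hc hJS)
      · refine mul_mem haS (key x ?_ ?_)
        · simpa using (invA_comm_reeSL hK SLTwoRel.rot).inv_left.mul_left (hc hIS)
        · simpa using (invA_comm_reeSL hK qJ).inv_left.mul_left (hc hJS)
    · calc x * g = x * g * ((g * x) * (g * x)) := by rw [sylow_two_elementary hK S₀ (mul_mem hg hx), mul_one]
        _ = x * (g * g) * x * g * x := by group
        _ = g * x := by rw [sylow_two_elementary hK S₀ hg, mul_one, sylow_two_elementary hK S₀ hx, one_mul]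
  obtain ⟨h, rfl⟩ := MulAction.exists_smul_eq ↥(gG K m) S₀ S
  refine ⟨?_, ?_⟩
  · refine le_antisymm (fun g hg => ?_) fun g hg => Subgroup.mem_centralizer_iff.2 fun x hx => ?_
    · refine (mem_smul_sylow S₀).2 (hC0.le (Subgroup.mem_centralizer_iff.2 fun x hx => ?_))
      have := Subgroup.mem_centralizer_iff.1 hg (h * x * h⁻¹) ((mem_smul_sylow S₀).2 (by
        rw [show h⁻¹ * (h * x * h⁻¹) * h = x by group]; exact hx))
      calc x * (h⁻¹ * g * h) = h⁻¹ * (h * x * h⁻¹ * g) * h := by group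
        _ = _ := by rw [this]; group
    · calc x * g = x * g * ((g * x) * (g * x)) := by rw [sylow_two_elementary hK _ (mul_mem hg hx), mul_one]
        _ = x * (g * g) * x * g * x := by group
        _ = g * x := by rw [sylow_two_elementary hK _ hg, mul_one, sylow_two_elementary hK _ hx, one_mul]
  set N := Subgroup.normalizer ((S₀ : Subgroup ↥(gG K m)) : Set ↥(gG K m)) with hN
  have hcardN : Nat.card ↥(Subgroup.normalizer (((h • S₀ : Sylow 2 ↥(gG K m)) : Subgroup ↥(gG K m)) : Set ↥(gG K m))) =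
      Nat.card ↥N := by
    have e1 := Subgroup.card_mul_index (Subgroup.normalizer (((h • S₀ : Sylow 2 ↥(gG K m)) : Subgroup ↥(gG K m)) : Set ↥(gG K m)))
    have e2 := Subgroup.card_mul_index N
    have f1 := Sylow.card_eq_index_normalizer (h • S₀)
    have f2 := Sylow.card_eq_index_normalizer S₀
    have e3 := e1.trans e2.symm
    erw [← f1] at e3
    erw [← f2] at e3
    exact Nat.eq_of_mul_eq_mul_right Nat.card_pos e3
  rw [hcardN]
  -- the stabiliser
  have conjI : t * I * t⁻¹ = J := by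
    rw [mul_inv_eq_iff_eq_mul, ht, hI, hJ, ← map_mul, ← map_mul, hti, reeSL_neg]
  have conjJ : t * J * t⁻¹ = I * J := by
    rw [mul_inv_eq_iff_eq_mul, ht, hI, hJ, ← map_mul, ← map_mul, ← map_mul, htj, reeSL_neg]
  have ta : Commute t (invA hK) := (invA_comm_reeSL hK _).symm
  have t3 : t ^ 3 = 1 := by rw [ht, reeSL_upr]; exact eU_zero_cube hK _ _
  have conjIJ : t * (I * J) * t⁻¹ = I := by
    rw [show t * (I * J) * t⁻¹ = t * I * t⁻¹ * (t * J * t⁻¹) by group, conjI, conjJ]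
    have hJ2 : J * J = 1 := sylow_two_elementary hK S₀ hJS
    have e : J * I = I * J := by rw [hI, hJ, ← map_mul, ← map_mul, hji, reeSL_neg]
    rw [← mul_assoc, e, mul_assoc, hJ2, mul_one]
  have nmem : ∀ g, Commute g (invA hK) → g * I * g⁻¹ ∈ S₀ → g * J * g⁻¹ ∈ S₀ → g ∈ N := by
    intro g hga hgI hgJ
    refine Subgroup.mem_normalizer_iff.2 ?_
    have hmap : (S₀ : Subgroup ↥(gG K m)).map (MulAut.conj g).toMonoidHom = S₀ := by
      refine Subgroup.eq_of_le_of_card_ge ?_ (by rw [Subgroup.card_map_of_injective (MulAut.conj g).injective])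
      rintro _ ⟨z, hz, rfl⟩
      obtain ⟨a, b, c, rfl⟩ := hel z hz
      show MulAut.conj g _ ∈ (S₀ : Subgroup ↥(gG K m))
      rw [map_mul, map_mul, map_pow, map_pow, map_pow, MulAut.conj_apply, MulAut.conj_apply, MulAut.conj_apply,
        show g * invA hK * g⁻¹ = invA hK from mul_inv_eq_iff_eq_mul.2 hga.eq]
      exact mul_mem (mul_mem (pow_mem haS _) (pow_mem hgI _)) (pow_mem hgJ _)
    refine fun z => ⟨fun hz => hmap.le ⟨z, hz, rfl⟩, fun hz => ?_⟩
    obtain ⟨y, hy, e⟩ := hmap.ge hz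
    rwa [← (MulAut.conj g).injective e]
  have tN : t ∈ N := nmem t ta (by rw [conjI]; exact hJS) (by rw [conjJ]; exact mul_mem hIS hJS)
  have hstab : ∀ g ∈ N, Commute g (invA hK) → ∃ k : Fin 3, (t ^ (k : ℕ))⁻¹ * g ∈ S₀ := by
    intro g hg hga
    have himg : ∀ x : SL(2, K), reeSL hK x ∈ S₀ →
        ∃ b c : ℕ, g * reeSL hK x * g⁻¹ = I ^ b * J ^ c := by
      intro x hx
      obtain ⟨a, b, c, e⟩ := hel _ ((Subgroup.mem_normalizer_iff.1 hg _).1 hx)
      refine ⟨b, c, ?_⟩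
      obtain ⟨y, hy⟩ : ∃ y, g * reeSL hK x * g⁻¹ = reeSL hK y := by
        obtain ⟨w, rfl | rfl⟩ := centralizer_elems hK hga.eq
        · exact ⟨w * x * w⁻¹, by rw [map_mul, map_mul, map_inv]⟩
        · refine ⟨w * x * w⁻¹, ?_⟩
          rw [show invA hK * reeSL hK w * reeSL hK x * (invA hK * reeSL hK w)⁻¹ =
            invA hK * (reeSL hK w * reeSL hK x * (reeSL hK w)⁻¹) * (invA hK)⁻¹ by group, ← map_inv, ← map_mul,
            ← map_mul, (invA_comm_reeSL hK _).eq, mul_inv_cancel_right]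
      have ha : invA hK ^ a = 1 := by
        rcases Nat.even_or_odd a with ⟨d, rfl⟩ | ⟨d, rfl⟩
        · rw [← two_mul, pow_mul, pow_two, invA_sq, one_pow]
        · exfalso
          rw [pow_succ, pow_mul, pow_two, invA_sq, one_pow, one_mul, hy, mul_assoc, hI, hJ, ← map_pow, ← map_pow,
            ← map_mul, ← mul_inv_eq_iff_eq_mul, ← map_inv, ← map_mul] at e
          exact invA_not_range hK _ e
      rw [e, ha, one_mul]
    have hI2 : I * I = 1 := sylow_two_elementary hK S₀ hIS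
    have hJ2 : J * J = 1 := sylow_two_elementary hK S₀ hJS
    have hIne : I ≠ 1 := fun e => by
      rcases (reeSL_eq_iff hK (y := 1)).1 (e.trans (map_one (reeSL hK)).symm) with h | h <;>
        · have := congrArg (fun X : SL(2, K) => X.1 0 1) h
          simp [SLTwoRel.coe_rot] at this
    have pw : ∀ {w : ↥(gG K m)}, w * w = 1 → ∀ b : ℕ, w ^ b = 1 ∨ w ^ b = w := fun hw b => by
      rw [← Nat.mod_add_div b 2, pow_add, pow_mul, pow_two, hw, one_pow, mul_one]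
      rcases Nat.mod_two_eq_zero_or_one b with h | h <;> simp [h]
    have tri : ∀ x : SL(2, K), reeSL hK x ∈ S₀ → reeSL hK x ≠ 1 →
        g * reeSL hK x * g⁻¹ = I ∨ g * reeSL hK x * g⁻¹ = J ∨ g * reeSL hK x * g⁻¹ = I * J := by
      intro x hx hx1
      obtain ⟨b, c, e⟩ := himg x hx
      have hne : g * reeSL hK x * g⁻¹ ≠ 1 := fun e' => hx1 (conj_eq_one_iff.1 e')
      rcases pw hI2 b with hb | hb <;> rcases pw hJ2 c with hc | hc <;> rw [hb, hc] at e
      · exact absurd (e.trans (one_mul 1)) hne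
      · exact Or.inr (Or.inl (e.trans (one_mul J)))
      · exact Or.inl (e.trans (mul_one I))
      · exact Or.inr (Or.inr e)
    have hk : ∃ k : Fin 3, g * I * g⁻¹ = t ^ (k : ℕ) * I * (t ^ (k : ℕ))⁻¹ := by
      rcases tri _ hIS hIne with e | e | e
      · exact ⟨0, by simpa using e⟩
      · exact ⟨1, by simpa [conjI] using e⟩
      · refine ⟨2, ?_⟩
        rw [e, show ((2 : Fin 3) : ℕ) = 2 from rfl, ← conjJ, ← conjI, pow_two]; group
    obtain ⟨k, hk⟩ := hk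
    refine ⟨k, ?_⟩
    set g' := (t ^ (k : ℕ))⁻¹ * g with hg'
    have hg'N : g' ∈ N := mul_mem (inv_mem (pow_mem tN _)) hg
    have hg'a : Commute g' (invA hK) := (ta.pow_left _).inv_left.mul_left hga
    have hg'I : Commute g' I := mul_inv_eq_iff_eq_mul.1 (by
      rw [hg', show (t ^ (k : ℕ))⁻¹ * g * I * ((t ^ (k : ℕ))⁻¹ * g)⁻¹ =
        (t ^ (k : ℕ))⁻¹ * (g * I * g⁻¹) * t ^ (k : ℕ) by group, hk]; group)
    have hsq : g' ^ 2 ∈ S₀ := by
      have hcom : ∀ x, x = invA hK ∨ x = I ∨ x = J → Commute (g' ^ 2) x := by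
        rintro x (rfl | rfl | rfl)
        · exact hg'a.pow_left 2
        · exact hg'I.pow_left 2
        · obtain ⟨a, b, c, e⟩ := hel _ ((Subgroup.mem_normalizer_iff.1 hg'N _).1 hJS)
          have f1 : g' * invA hK ^ a * g'⁻¹ = invA hK ^ a := mul_inv_eq_iff_eq_mul.2 (hg'a.pow_right a).eq
          have f2 : g' * I ^ b * g'⁻¹ = I ^ b := mul_inv_eq_iff_eq_mul.2 (hg'I.pow_right b).eq
          have hab : (invA hK ^ a * I ^ b) * (invA hK ^ a * I ^ b) = 1 :=
            sylow_two_elementary hK S₀ (mul_mem (pow_mem haS _) (pow_mem hIS _))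
          rcases pw hJ2 c with hc | hc
          · rw [hc, mul_one] at e
            have : J = invA hK ^ a * I ^ b := by
              calc J = g'⁻¹ * (g' * J * g'⁻¹) * g' := by group
                _ = g'⁻¹ * (g' * (invA hK ^ a * I ^ b) * g'⁻¹) * g' := by
                  rw [e, show g' * (invA hK ^ a * I ^ b) * g'⁻¹ = g' * invA hK ^ a * g'⁻¹ * (g' * I ^ b * g'⁻¹) by group, f1, f2]
                _ = _ := by group
            rw [this]
            exact ((hg'a.pow_right a).mul_right (hg'I.pow_right b)).pow_left 2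
          · rw [hc] at e
            refine mul_inv_eq_iff_eq_mul.1 ?_
            calc g' ^ 2 * J * (g' ^ 2)⁻¹ = g' * (g' * J * g'⁻¹) * g'⁻¹ := by rw [pow_two]; group
              _ = g' * (invA hK ^ a * I ^ b * J) * g'⁻¹ := by rw [e]
              _ = g' * invA hK ^ a * g'⁻¹ * (g' * I ^ b * g'⁻¹) * (g' * J * g'⁻¹) := by group
              _ = (invA hK ^ a * I ^ b) * (invA hK ^ a * I ^ b) * J := by rw [f1, f2, e]; group
              _ = J := by rw [hab, one_mul]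
      refine hC0.le (Subgroup.mem_centralizer_iff.2 fun z hz => ?_)
      obtain ⟨a, b, c, rfl⟩ := hel z hz
      exact ((((hcom _ (Or.inl rfl)).pow_right a).mul_right ((hcom _ (Or.inr (Or.inl rfl))).pow_right b)).mul_right
        ((hcom _ (Or.inr (Or.inr rfl))).pow_right c)).eq.symm
    have hp : IsPGroup 2 ↥(Subgroup.zpowers g') := by
      have h4 : g' ^ 2 ^ 2 = 1 := by
        rw [show 2 ^ 2 = 2 * 2 from rfl, pow_mul, pow_two (g' ^ 2)]; exact sylow_two_elementary hK S₀ hsq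
      obtain ⟨j, -, hj⟩ := (Nat.dvd_prime_pow Nat.prime_two).1 (orderOf_dvd_of_pow_eq_one h4)
      exact IsPGroup.of_card (n := j) (by rw [Nat.card_zpowers, hj])
    have hsup : IsPGroup 2 ↥(Subgroup.zpowers g' ⊔ (S₀ : Subgroup ↥(gG K m))) :=
      hp.to_sup_of_normal_right' S₀.isPGroup' ((Subgroup.zpowers_le).2 hg'N)
    exact (S₀.is_maximal' hsup le_sup_right).le (Subgroup.mem_sup_left (Subgroup.mem_zpowers g'))
  have hr : ∀ x : {x : ↥(gG K m) // x ∈ S₀ ∧ x ≠ 1}, ∃ n : ↥N, (n : ↥(gG K m)) * invA hK * (n : ↥(gG K m))⁻¹ = x :=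
    fun x => by
      obtain ⟨n, hn, e⟩ := normalizer_trans hK S₀ haS (invA_ne_one hK) x.2.1 x.2.2
      exact ⟨⟨n, hn⟩, e⟩
  choose r hr using hr
  let f : {x : ↥(gG K m) // x ∈ S₀ ∧ x ≠ 1} × (Fin 3 × ↥(S₀ : Subgroup ↥(gG K m))) → ↥N := fun p =>
    r p.1 * ⟨t ^ (p.2.1 : ℕ) * p.2.2, mul_mem (pow_mem tN _) (Subgroup.le_normalizer p.2.2.2)⟩
  have hord : orderOf t = 3 := orderOf_eq_prime t3 fun e => by
    rw [e] at conjI
    rcases (reeSL_eq_iff hK).1 (show I = J by rw [← conjI]; group) with h | h <;>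
      · have := congrArg (fun X : SL(2, K) => X.1 0 0) h
        simp [SLTwoRel.coe_rot, coe_qJ hK] at this
  have sfix : ∀ (k : Fin 3) (s : ↥(gG K m)), s ∈ S₀ → Commute (t ^ (k : ℕ) * s) (invA hK) := fun k s hs =>
    (ta.pow_left _).mul_left (Subgroup.mem_centralizer_iff.1 (hC0.ge hs) _ haS).symm
  have hf : Function.Bijective f := by
    refine ⟨?_, fun n => ?_⟩
    · rintro ⟨x, k, s⟩ ⟨y, l, u⟩ e
      have e' : (r x : ↥(gG K m)) * (t ^ (k : ℕ) * s) = r y * (t ^ (l : ℕ) * u) := congrArg Subtype.val e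
      have hxy : x = y := by
        refine Subtype.ext ?_
        have f : ∀ z : ↥(gG K m), Commute z (invA hK) → ∀ w : ↥(gG K m), w * invA hK * w⁻¹ = w * z * invA hK * (w * z)⁻¹ :=
          fun z hz w => by
            rw [show w * z * invA hK * (w * z)⁻¹ = w * (z * invA hK * z⁻¹) * w⁻¹ by group,
              mul_inv_eq_iff_eq_mul.2 hz.eq]
        rw [← hr x, ← hr y, f _ (sfix k s s.2) (r x), f _ (sfix l u u.2) (r y), e']
      subst hxy
      have e2 := mul_left_cancel e'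
      have e3 : (t ^ (l : ℕ))⁻¹ * t ^ (k : ℕ) ∈ S₀ := by
        rw [show (t ^ (l : ℕ))⁻¹ * t ^ (k : ℕ) = (u : ↥(gG K m)) * (s : ↥(gG K m))⁻¹ by
          rw [eq_mul_inv_iff_mul_eq, mul_assoc, e2]; group]
        exact mul_mem u.2 (inv_mem s.2)
      have e4 : (t ^ (l : ℕ))⁻¹ * t ^ (k : ℕ) = 1 := by
        have hd : orderOf ((t ^ (l : ℕ))⁻¹ * t ^ (k : ℕ)) ∣ Nat.gcd 2 3 := by
          refine Nat.dvd_gcd (orderOf_dvd_of_pow_eq_one (by rw [pow_two]; exact sylow_two_elementary hK S₀ e3)) ?_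
          refine orderOf_dvd_of_pow_eq_one ?_
          rw [(((Commute.refl t).pow_pow _ _).inv_left).mul_pow, inv_pow, ← pow_mul, ← pow_mul, mul_comm (l : ℕ),
            mul_comm (k : ℕ), pow_mul, pow_mul, t3, one_pow, one_pow, inv_one, mul_one]
        exact orderOf_eq_one_iff.1 (Nat.eq_one_of_dvd_one hd)
      have e5 : k = l := Fin.ext (pow_injOn_Iio_orderOf (by rw [Set.mem_Iio, hord]; exact k.2)
        (by rw [Set.mem_Iio, hord]; exact l.2) (inv_mul_eq_one.1 e4).symm)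
      subst e5
      rw [Subtype.ext (mul_left_cancel e2)]
    · have hx : (n : ↥(gG K m)) * invA hK * (n : ↥(gG K m))⁻¹ ∈ S₀ := (Subgroup.mem_normalizer_iff.1 n.2 _).1 haS
      let x : {x : ↥(gG K m) // x ∈ S₀ ∧ x ≠ 1} := ⟨_, hx, fun e => invA_ne_one hK (conj_eq_one_iff.1 e)⟩
      have hx' : (r x : ↥(gG K m)) * invA hK * (r x : ↥(gG K m))⁻¹ = (n : ↥(gG K m)) * invA hK * (n : ↥(gG K m))⁻¹ := hr x
      obtain ⟨k, hk⟩ := hstab ((r x : ↥(gG K m))⁻¹ * n) (mul_mem (inv_mem (r x).2) n.2) (by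
        refine mul_inv_eq_iff_eq_mul.1 ?_
        rw [show (r x : ↥(gG K m))⁻¹ * n * invA hK * ((r x : ↥(gG K m))⁻¹ * n)⁻¹ =
          (r x : ↥(gG K m))⁻¹ * ((n : ↥(gG K m)) * invA hK * (n : ↥(gG K m))⁻¹) * r x by group, ← hx']
        group)
      refine ⟨⟨x, k, ⟨_, hk⟩⟩, Subtype.ext ?_⟩
      show (r x : ↥(gG K m)) * (t ^ (k : ℕ) * ((t ^ (k : ℕ))⁻¹ * ((r x : ↥(gG K m))⁻¹ * n))) = n
      group
  rw [← Nat.card_eq_of_bijective f hf, Nat.card_prod, Nat.card_prod, Nat.card_fin, MultW.ree_two_card hK]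
  have h7 : Nat.card {x : ↥(gG K m) // x ∈ S₀ ∧ x ≠ 1} = 7 := by
    have h8 := MultW.ree_two_card hK S₀
    let e : {x : ↥(gG K m) // x ∈ S₀ ∧ x ≠ 1} ≃ {z : ↥(S₀ : Subgroup ↥(gG K m)) // z ≠ 1} :=
      ⟨fun x => ⟨⟨x.1, x.2.1⟩, fun e => x.2.2 (congrArg Subtype.val e)⟩,
        fun z => ⟨z.1.1, z.1.2, fun e => z.2 (Subtype.ext e)⟩, fun x => rfl, fun z => rfl⟩
    haveI := Fintype.ofFinite ↥(S₀ : Subgroup ↥(gG K m))
    rw [Nat.card_congr e, Nat.card_eq_fintype_card, Fintype.card_subtype_compl, Fintype.card_subtype_eq,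
      ← Nat.card_eq_fintype_card, h8]
  rw [h7]

end Cfsg.Lib.Chev.Ree
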