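import Cfsg.Agent.Lib.Chev.ReeSinger
import Cfsg.Agent.Lib.Chev.ReeBasic

/-! The cyclic subgroups of orders `q ± 3^(m+1) + 1` of ²G₂(q). -/

set_option autoImplicit false
set_option linter.unusedSectionVars false
set_option maxRecDepth 100000

namespace Cfsg.Lib.Chev.Ree

open Cfsg.Lie Cfsg.Lib.Chev Cfsg.Lib.Chev.G2Aut

/-- A cyclic subgroup with a normaliser of given order equal to that of each of its non-trivial subgroups. -/
structure IsTorus {G : Type*} [Group G] (A C : Subgroup G) (k n : ℕ) : Prop where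
  cyclic : IsCyclic A
  card : Nat.card A = k
  card_norm : Nat.card (Subgroup.normalizer (A : Set G)) = n
  le : A ≤ C
  cent : ∀ x ∈ A, x ≠ 1 → Subgroup.centralizer {x} = C
  norm_sub : ∀ A₀ : Subgroup G, A₀ ≤ A → A₀ ≠ ⊥ → Subgroup.normalizer (A₀ : Set G) = Subgroup.normalizer (A : Set G)

/-- Subgroups of a cyclic group are kept by its normaliser. -/
theorem norm_le_norm {G : Type*} [Group G] [Finite G] {A A₀ : Subgroup G} [IsCyclic A] (h : A₀ ≤ A) :
    Subgroup.normalizer (A : Set G) ≤ Subgroup.normalizer (A₀ : Set G) := by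
  intro g hg
  obtain ⟨⟨a, ha⟩, hgen⟩ := IsCyclic.exists_generator (α := A)
  obtain ⟨i, hi⟩ := hgen ⟨g * a * g⁻¹, (Subgroup.mem_normalizer_iff.1 hg a).1 ha⟩
  have hi' : g * a * g⁻¹ = a ^ i := (congrArg Subtype.val hi).symm
  have hmap : A₀.map (MulAut.conj g).toMonoidHom = A₀ := by
    refine Subgroup.eq_of_le_of_card_ge ?_ (by rw [Subgroup.card_map_of_injective (MulAut.conj g).injective])
    rintro _ ⟨y, hy, rfl⟩
    obtain ⟨j, hj⟩ := hgen ⟨y, h hy⟩
    have hj' : a ^ j = y := congrArg Subtype.val hj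
    show g * y * g⁻¹ ∈ A₀
    rw [← hj', ← conj_zpow, hi', ← zpow_mul, mul_comm, zpow_mul, hj']
    exact zpow_mem hy i
  refine Subgroup.mem_normalizer_iff.2 fun z => ⟨fun hz => hmap.le ⟨z, hz, rfl⟩, fun hz => ?_⟩
  obtain ⟨y, hy, e⟩ := hmap.ge hz
  rwa [← (MulAut.conj g).injective e]

/-- The normaliser of a subgroup whose elements have a common centraliser keeps the centraliser. -/
theorem norm_le_cent {G : Type*} [Group G] {A₀ C : Subgroup G} {x : G} (hx : x ∈ A₀) (hx1 : x ≠ 1)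
    (hC : ∀ y ∈ A₀, y ≠ 1 → Subgroup.centralizer {y} = C) :
    Subgroup.normalizer (A₀ : Set G) ≤ Subgroup.normalizer (C : Set G) := by
  intro g hg
  refine Subgroup.mem_normalizer_iff.2 fun z => ?_
  have hy : g * x * g⁻¹ ∈ A₀ := (Subgroup.mem_normalizer_iff.1 hg x).1 hx
  have hy1 : g * x * g⁻¹ ≠ 1 := fun e => hx1 (conj_eq_one_iff.1 e)
  rw [← hC x hx hx1, Subgroup.mem_centralizer_singleton_iff]
  nth_rewrite 1 [hC x hx hx1, ← hC _ hy hy1]
  rw [Subgroup.mem_centralizer_singleton_iff]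
  constructor
  · intro e
    calc g * z * g⁻¹ * (g * x * g⁻¹) = g * (z * x) * g⁻¹ := by group
      _ = g * (x * z) * g⁻¹ := by rw [e]
      _ = _ := by group
  · intro e
    calc z * x = g⁻¹ * (g * z * g⁻¹ * (g * x * g⁻¹)) * g := by group
      _ = g⁻¹ * (g * x * g⁻¹ * (g * z * g⁻¹)) * g := by rw [e]
      _ = _ := by group

theorem five_roots : ∀ x : ZMod 5, x ^ 2 - x + 1 ≠ 0 := by decide

variable {K : Type*} [Field K] [Fintype K] [CharP K esymG2.p] {m : ℕ} (hK : Fintype.card K = 3 ^ (2 * m + 1))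
include hK

/-- The group G₂(q) has no further part at the primes of `q² - q + 1`. -/
theorem g2_ppart {p : ℕ} (hp : p.Prime) {N : ℕ} (hN : (N : ℤ) = (3 ^ (2 * m + 1) : ℤ) ^ 2 - 3 ^ (2 * m + 1) + 1)
    (hpN : p ∣ N) : p ^ (Nat.card ↥(chevG2.group K)).factorization p ∣ N := by
  have hd := Nat.ordProj_dvd (Nat.card ↥(chevG2.group K)) p
  generalize (Nat.card ↥(chevG2.group K)).factorization p = w at hd ⊢
  rw [MultW.ree_group_card_G2, Nat.card_eq_fintype_card, hK] at hd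
  have hne : ∀ n : ℕ, n ∣ 6 ^ 12 → p ∣ n → False := fun n hn hpn =>
    hp.one_lt.ne' (eq_one_of_dvd (m := m) (hN ▸ Int.natCast_dvd_natCast.2 hpN) (hpn.trans hn))
  set q := 3 ^ (2 * m + 1) with hq
  have q1 : 1 ≤ q := Nat.one_le_pow _ _ (by norm_num)
  have hqz : (3 : ℤ) ^ (2 * m + 1) = (q : ℤ) := by rw [hq]; push_cast; rfl
  rw [hqz] at hN
  have h2' : 1 ≤ q ^ 2 := Nat.one_le_pow _ _ q1
  have h6' : 1 ≤ q ^ 6 := Nat.one_le_pow _ _ q1
  have e : q ^ 6 * (q ^ 2 - 1) * (q ^ 6 - 1) = N * (q ^ 6 * (q ^ 2 - 1) * (q ^ 2 - 1) * (q ^ 2 + q + 1)) := by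
    have : ((q ^ 6 * (q ^ 2 - 1) * (q ^ 6 - 1) : ℕ) : ℤ) =
        ((N * (q ^ 6 * (q ^ 2 - 1) * (q ^ 2 - 1) * (q ^ 2 + q + 1)) : ℕ) : ℤ) := by
      push_cast [h2', h6']; rw [hN]; ring
    exact_mod_cast this
  rw [e] at hd
  refine MultW.prime_pow_dvd_left hp hd fun h => ?_
  haveI : Fact p.Prime := ⟨hp⟩
  have hN0 : (q : ZMod p) ^ 2 - q + 1 = 0 := by
    have h1 : ((N : ℤ) : ZMod p) = 0 := by rw [Int.cast_natCast]; exact (ZMod.natCast_eq_zero_iff N p).2 hpN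
    rw [hN] at h1; push_cast at h1; exact h1
  have h0 : ((q ^ 6 * (q ^ 2 - 1) * (q ^ 2 - 1) * (q ^ 2 + q + 1) : ℕ) : ZMod p) = 0 :=
    (ZMod.natCast_eq_zero_iff _ p).2 h
  push_cast [h2'] at h0
  have hq3 : ¬ p ∣ q := fun h' => hne 3 (by norm_num) (hp.dvd_of_dvd_pow h')
  have hq0 : (q : ZMod p) ≠ 0 := fun h' => hq3 ((ZMod.natCast_eq_zero_iff q p).1 h')
  have h3 : ((3 : ℕ) : ZMod p) ≠ 0 := fun h' => hne 3 (by norm_num) ((ZMod.natCast_eq_zero_iff 3 p).1 h')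
  have h2 : ((2 : ℕ) : ZMod p) ≠ 0 := fun h' => hne 2 (by norm_num) ((ZMod.natCast_eq_zero_iff 2 p).1 h')
  push_cast at h2 h3
  have hsq : (q : ZMod p) ^ 2 - 1 ≠ 0 := fun h' => h3 (by
    have e1 : (q : ZMod p) = 2 := by linear_combination h' - hN0
    rw [e1] at hN0; linear_combination hN0)
  rcases mul_eq_zero.1 h0 with h0 | h0
  · rcases mul_eq_zero.1 h0 with h0 | h0
    · rcases mul_eq_zero.1 h0 with h0 | h0
      · exact hq0 (pow_eq_zero_iff (by norm_num) |>.1 h0)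
      · exact hsq h0
    · exact hsq h0
  · exact mul_ne_zero h2 hq0 (by linear_combination h0 - hN0)

set_option maxHeartbeats 2000000 in
/-- The tori of orders `q ± r + 1`. -/
theorem exists_large_torus (hm : 1 ≤ m) {r : ℤ} (hr : r = 3 ^ (m + 1) ∨ r = -3 ^ (m + 1)) {k : ℕ}
    (hk : (k : ℤ) = (3 ^ (2 * m + 1) : ℤ) - r + 1) :
    ∃ A : Subgroup ↥(gG K m), IsTorus A A k (6 * k) := by
  classical
  obtain ⟨t, hord, hcent, htw, hconj⟩ := exists_singer (F := K) hm hK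
  obtain ⟨q, hq⟩ : ∃ q : ℕ, q = 3 ^ (2 * m + 1) := ⟨_, rfl⟩
  have hqz : (3 : ℤ) ^ (2 * m + 1) = (q : ℤ) := by rw [hq]; push_cast; rfl
  have hq27 : (27 : ℤ) ≤ q := by
    rw [hq]; exact_mod_cast (by norm_num : 27 ≤ 3 ^ 3).trans (Nat.pow_le_pow_right (by norm_num) (by omega))
  have hr2 : r * r = 3 * (q : ℤ) := by
    rcases hr with rfl | rfl <;> [skip; rw [neg_mul_neg]] <;>
      rw [← hqz, ← pow_add, ← pow_succ'] <;> congr 1 <;> omega
  have hrq : r ≤ (q : ℤ) ∧ -(q : ℤ) ≤ r := by constructor <;> nlinarith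
  rw [hqz] at hk hord htw hconj
  obtain ⟨k', hk'⟩ : ∃ k' : ℕ, (k' : ℤ) = (q : ℤ) + r + 1 := ⟨((q : ℤ) + r + 1).toNat, Int.toNat_of_nonneg (by linarith [hrq.2])⟩
  have hkk : (orderOf t : ℤ) = k * k' := by rw [hord, hk, hk']; linear_combination hr2
  have hNk : orderOf t = k * k' := by exact_mod_cast hkk
  have hN' : (orderOf t : ℤ) = ((3 : ℤ) ^ (2 * m + 1)) ^ 2 - 3 ^ (2 * m + 1) + 1 := by rw [hqz]; exact hord
  have hkN : (k : ℤ) ∣ (orderOf t : ℤ) := ⟨k', hkk⟩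
  have hk1 : 1 < k := by
    have : (1 : ℤ) < k := by rw [hk]; nlinarith
    exact_mod_cast this
  obtain ⟨p, hp, hpk⟩ := Nat.exists_prime_and_dvd hk1.ne'
  haveI : Fact p.Prime := ⟨hp⟩
  have hpN : p ∣ orderOf t := hpk.trans ⟨k', hNk⟩
  have hne : ∀ n : ℕ, n ∣ 6 ^ 12 → p ∣ n → False := fun n hn hpn =>
    hp.one_lt.ne' (eq_one_of_dvd (m := m) (hN' ▸ Int.natCast_dvd_natCast.2 hpN) (hpn.trans hn))
  -- an element of order p in the fixed group
  have hcard := card_gG hK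
  rw [← hq] at hcard
  have hkG : k ∣ Nat.card ↥(gG K m) := by
    have : (k : ℤ) ∣ (((q ^ 3 * ((q - 1) * (q ^ 3 + 1)) : ℕ)) : ℤ) := by
      rw [Nat.cast_mul, Nat.cast_mul, Nat.cast_add, Nat.cast_pow, Nat.cast_one]
      refine Dvd.dvd.mul_left (Dvd.dvd.mul_left ?_ _) _
      exact idvd (hkN.mul_left ((q : ℤ) + 1)) (by rw [hord]; ring)
    rw [hcard]; exact_mod_cast this
  obtain ⟨x, hx⟩ := exists_prime_orderOf_dvd_card' p (hpk.trans hkG)
  have hle : gG K m ≤ chevG2.group K := fun g hg => (((twOKG2 m).mem_fixed certG2C).1 hg).1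
  set ι := Subgroup.inclusion hle with hι
  have hιinj : Function.Injective ι := Subgroup.inclusion_injective hle
  -- move it into the torus
  have hw : p ^ (Nat.card ↥(chevG2.group K)).factorization p ∣ Nat.card ↥(Subgroup.zpowers t) := by
    rw [Nat.card_zpowers]; exact g2_ppart hK hp hN' hpN
  obtain ⟨u, hu⟩ : ∃ u : ↥(chevG2.group K), u⁻¹ * ι x * u ∈ Subgroup.zpowers t := by
    obtain ⟨g, hg, hgc⟩ : ∃ g ∈ Subgroup.zpowers t, orderOf g = p ^ (Nat.card ↥(chevG2.group K)).factorization p := by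
      rw [Nat.card_zpowers] at hw
      obtain ⟨c, hc⟩ := hw
      refine ⟨t ^ c, pow_mem (Subgroup.mem_zpowers t) c, ?_⟩
      have hc0 : c ≠ 0 := fun e => by rw [e, mul_zero] at hc; exact (orderOf_pos t).ne' hc
      rw [orderOf_pow_of_dvd hc0 ⟨_, hc.trans (mul_comm _ _)⟩, hc, Nat.mul_div_cancel _ (Nat.pos_of_ne_zero hc0)]
    let Q : Sylow p ↥(chevG2.group K) := Sylow.ofCard (Subgroup.zpowers g) (by rw [Nat.card_zpowers, hgc])
    have hxP : IsPGroup p ↥(Subgroup.zpowers (ι x)) := IsPGroup.of_card (n := 1) (by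
      rw [Nat.card_zpowers, orderOf_injective ι hιinj, hx, pow_one])
    obtain ⟨P, hP⟩ := hxP.exists_le_sylow
    obtain ⟨u, hu⟩ := MulAction.exists_smul_eq ↥(chevG2.group K) Q P
    refine ⟨u, ?_⟩
    have h1 : ι x ∈ ((u • Q : Sylow p ↥(chevG2.group K)) : Subgroup ↥(chevG2.group K)) := by
      rw [hu]; exact hP (Subgroup.mem_zpowers _)
    rw [Sylow.coe_subgroup_smul] at h1
    obtain ⟨y, hy, e⟩ := h1
    rw [← e]
    show u⁻¹ * (u * y * u⁻¹) * u ∈ _
    rw [show u⁻¹ * (u * y * u⁻¹) * u = y by group]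
    exact Subgroup.zpowers_le.2 hg hy
  obtain ⟨t', ht'⟩ : ∃ t', t' = u * t * u⁻¹ := ⟨_, rfl⟩
  have hord' : orderOf t' = orderOf t := by rw [ht', ← MulAut.conj_apply, MulEquiv.orderOf_eq]
  have hxt : ι x ∈ Subgroup.zpowers t' := by
    obtain ⟨i, hi⟩ := Subgroup.mem_zpowers_iff.1 hu
    exact Subgroup.mem_zpowers_iff.2 ⟨i, by rw [ht', conj_zpow, hi]; group⟩
  have hcent' : ∀ z ∈ Subgroup.zpowers t', z ≠ 1 → Subgroup.centralizer {z} = Subgroup.zpowers t' := by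
    intro z hz hz1
    obtain ⟨i, rfl⟩ := (mem_powers_iff_mem_zpowers.2 hz)
    have hi : t ^ i ≠ 1 := fun e => hz1 (by show t' ^ i = 1; rw [ht', conj_pow, e]; group)
    ext w
    rw [Subgroup.mem_centralizer_singleton_iff, Subgroup.mem_zpowers_iff]
    show w * t' ^ i = t' ^ i * w ↔ _
    rw [ht', conj_pow]
    constructor
    · intro e
      have : u⁻¹ * w * u ∈ Subgroup.centralizer {t ^ i} := Subgroup.mem_centralizer_singleton_iff.2 (by
        calc u⁻¹ * w * u * t ^ i = u⁻¹ * (w * (u * t ^ i * u⁻¹)) * u := by group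
          _ = _ := by rw [e]; group)
      rw [hcent i hi] at this
      obtain ⟨j, hj⟩ := Subgroup.mem_zpowers_iff.1 this
      exact ⟨j, by rw [conj_zpow, hj]; group⟩
    · rintro ⟨j, rfl⟩
      rw [← conj_pow, ← zpow_natCast, ← zpow_mul_comm]
  have hx1 : ι x ≠ 1 := fun e => by
    rw [← orderOf_eq_one_iff, orderOf_injective ι hιinj, hx] at e; exact hp.one_lt.ne' e
  -- the twisting map on the torus
  have hfix : ∀ y : ↥(gG K m), twG2σ m ((ι y : ↥(chevG2.group K)) : GL chevG2.Idx K) = (ι y : GL chevG2.Idx K) :=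
    fun y => (((twOKG2 m).mem_fixed certG2C).1 y.2).2
  obtain ⟨T, hT⟩ : ∃ T : ↥(chevG2.group K), (T : GL chevG2.Idx K) = twG2σ m (t' : GL chevG2.Idx K) :=
    ⟨⟨_, (twE_twE hK t'.2).1⟩, rfl⟩
  have hTmem : T ∈ Subgroup.zpowers t' := by
    rw [← hcent' _ hxt hx1, Subgroup.mem_centralizer_singleton_iff]
    have e0 : t' * ι x = ι x * t' := by
      have : t' ∈ Subgroup.centralizer {ι x} := by rw [hcent' _ hxt hx1]; exact Subgroup.mem_zpowers t'
      exact Subgroup.mem_centralizer_singleton_iff.1 this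
    refine Subtype.ext ?_
    have e1 := congrArg (fun z : ↥(chevG2.group K) => twG2σ m (z : GL chevG2.Idx K)) e0
    simp only [twG2σ, Subgroup.coe_mul] at e1 hT hfix ⊢
    rwa [twE_mul eSymOKG2 certG2C fullCertG2 m t'.2 (ι x).2, twE_mul eSymOKG2 certG2C fullCertG2 m (ι x).2 t'.2,
      hfix, ← hT] at e1
  obtain ⟨e, he⟩ := Subgroup.mem_zpowers_iff.1 hTmem
  have hte : twG2σ m (t' : GL chevG2.Idx K) = ((t' ^ e : ↥(chevG2.group K)) : GL chevG2.Idx K) := by rw [he, hT]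
  obtain ⟨he2, ε, hε, heq⟩ := htw u e (by rw [← ht']; exact hte)
  have hpow : ∀ a : ℕ, twG2σ m ((t' ^ a : ↥(chevG2.group K)) : GL chevG2.Idx K) = ((t' ^ (e * a) : ↥(chevG2.group K)) : GL chevG2.Idx K) := by
    intro a
    induction a with
    | zero => simp only [pow_zero, Nat.cast_zero, mul_zero, zpow_zero, OneMemClass.coe_one, twG2σ]; rw [twE_one]
    | succ a ih =>
      simp only [twG2σ] at ih hte ⊢
      rw [pow_succ, Subgroup.coe_mul, twE_mul eSymOKG2 certG2C fullCertG2 m (t' ^ a).2 t'.2, ih, hte, Nat.cast_succ,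
        mul_add, mul_one, zpow_add]
      rfl
  have hz : ∀ a : ℤ, t' ^ a = 1 ↔ (orderOf t : ℤ) ∣ a := fun a => by rw [← hord', orderOf_dvd_iff_zpow_eq_one]
  have hfixed : ∀ a : ℕ, twG2σ m ((t' ^ a : ↥(chevG2.group K)) : GL chevG2.Idx K) = ((t' ^ a : ↥(chevG2.group K)) : GL chevG2.Idx K) ↔
      (orderOf t : ℤ) ∣ (e - 1) * a := by
    intro a
    rw [hpow, ← hz, sub_mul, one_mul, zpow_sub, zpow_natCast, mul_inv_eq_one]
    exact ⟨fun h => Subtype.ext h, fun h => congrArg Subtype.val h⟩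
  -- signs
  obtain ⟨δ, hδ, heδ⟩ : ∃ δ : ℤ, (δ = 1 ∨ δ = -1) ∧ (orderOf t : ℤ) ∣ e * (1 + (q : ℤ)) - δ * r := by
    rcases hr with rfl | rfl
    · exact ⟨ε, hε, heq⟩
    · exact ⟨-ε, by rcases hε with rfl | rfl <;> norm_num, idvd heq (by ring)⟩
  have hcop : ∀ {a : ℕ}, (a : ℤ) ∣ (orderOf t : ℤ) → IsCoprime (a : ℤ) r := by
    intro a ha
    have h3 : IsCoprime (a : ℤ) 3 := by
      rw [show (3 : ℤ) = ((3 : ℕ) : ℤ) from rfl, Nat.isCoprime_iff_coprime, Nat.coprime_comm,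
        Nat.prime_three.coprime_iff_not_dvd]
      intro h3
      exact absurd (eq_one_of_dvd (m := m) (o := 3) (hN' ▸ (Int.natCast_dvd_natCast.2 h3).trans ha) (by norm_num)) (by norm_num)
    rcases hr with rfl | rfl
    · exact h3.pow_right
    · exact h3.pow_right.neg_right
  have hk1' : (k : ℤ) ∣ e - δ := by
    refine (hcop hkN).dvd_of_dvd_mul_right ?_
    exact idvd (dvd_sub (hkN.trans heδ) ((dvd_refl (k : ℤ)).mul_left e)) (by rw [hk]; ring)
  have hk'N : (k' : ℤ) ∣ (orderOf t : ℤ) := ⟨k, by rw [hkk, mul_comm]⟩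
  have hk2' : (k' : ℤ) ∣ e + δ := by
    refine (hcop hk'N).dvd_of_dvd_mul_right ?_
    exact idvd (dvd_sub ((dvd_refl (k' : ℤ)).mul_left e) (hk'N.trans heδ)) (by rw [hk']; ring)
  obtain ⟨i, hi⟩ := mem_powers_iff_mem_zpowers.2 hxt
  have hi' : t' ^ i = ι x := hi
  have hδ1 : δ = 1 := by
    rcases hδ with h | h
    · exact h
    exfalso
    have h1 := (hfixed i).1 (by rw [hi']; exact hfix x)
    have hpi : ¬ (p : ℤ) ∣ e - 1 := fun hd => hne 2 (by norm_num) (by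
      have h2 := dvd_sub ((Int.natCast_dvd_natCast.2 hpk).trans hk1') hd
      rw [h] at h2
      exact Int.natCast_dvd_natCast.1 (idvd h2 (show e - -1 - (e - 1) = ((2 : ℕ) : ℤ) by push_cast; ring)))
    have hcp : IsCoprime ((p : ℤ)) (e - 1) := (Nat.prime_iff_prime_int.1 hp).coprime_iff_not_dvd.2 hpi
    -- the exponent kills the element
    obtain ⟨a, b, hab⟩ := hcp
    have hxp : (orderOf t : ℤ) ∣ (p : ℤ) * i := by
      rw [← hz, mul_comm, zpow_mul, zpow_natCast t', hi', zpow_natCast, ← map_pow, ← hx, pow_orderOf_eq_one, map_one]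
    have h2 : (orderOf t : ℤ) ∣ (i : ℤ) := idvd (dvd_add (hxp.mul_left a) (h1.mul_left b)) (by linear_combination (i : ℤ) * hab)
    rw [← hz, zpow_natCast, hi'] at h2
    exact hx1 h2
  subst hδ1
  have hk'0 : k' ≠ 0 := fun h => by rw [h, mul_zero] at hNk; exact (orderOf_pos t).ne' hNk
  have hc2 : IsCoprime (k' : ℤ) (e - 1) := by
    have h2 : IsCoprime (k' : ℤ) 2 := by
      rw [show (2 : ℤ) = ((2 : ℕ) : ℤ) from rfl, Nat.isCoprime_iff_coprime, Nat.coprime_comm,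
        Nat.prime_two.coprime_iff_not_dvd]
      intro h2
      exact absurd (eq_one_of_dvd (m := m) (o := 2) (hN' ▸ (Int.natCast_dvd_natCast.2 h2).trans hk'N) (by norm_num)) (by norm_num)
    obtain ⟨c, hc⟩ := hk2'
    have := h2.neg_right.add_mul_left_right c
    rwa [show -2 + (k' : ℤ) * c = e - 1 by rw [← hc]; ring] at this
  -- the torus
  set A := (Subgroup.zpowers t').comap ι with hA
  have hgen : ((t' ^ k' : ↥(chevG2.group K)) : GL chevG2.Idx K) ∈ gG K m :=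
    ((twOKG2 m).mem_fixed certG2C).2 ⟨(t' ^ k').2, (hfixed k').2 (by rw [hkk]; exact mul_dvd_mul hk1' dvd_rfl)⟩
  let a₀ : ↥(gG K m) := ⟨_, hgen⟩
  have ha₀ : ι a₀ = t' ^ k' := Subtype.ext rfl
  have hAeq : A = Subgroup.zpowers a₀ := by
    refine le_antisymm (fun y hy => ?_) (Subgroup.zpowers_le.2 (by
      rw [hA, Subgroup.mem_comap, ha₀]; exact pow_mem (Subgroup.mem_zpowers t') k'))
    obtain ⟨b, hb⟩ := mem_powers_iff_mem_zpowers.2 (show ι y ∈ Subgroup.zpowers t' from hy)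
    have hb' : t' ^ b = ι y := hb
    have h1 := (hfixed b).1 (by rw [hb']; exact hfix y)
    obtain ⟨c, hc⟩ := hc2.dvd_of_dvd_mul_left (hk'N.trans h1)
    exact Subgroup.mem_zpowers_iff.2 ⟨c, hιinj (by rw [map_zpow, ha₀, ← zpow_natCast, ← zpow_mul, ← hc, zpow_natCast, hb'])⟩
  have hcardA : Nat.card A = k := by
    rw [hAeq, Nat.card_zpowers, ← orderOf_injective ι hιinj, ha₀, orderOf_pow_of_dvd hk'0 (by rw [hord', hNk]; exact dvd_mul_left _ _),
      hord', hNk, Nat.mul_div_cancel _ (Nat.pos_of_ne_zero hk'0)]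
  haveI hAc : IsCyclic A := by rw [hAeq]; infer_instance
  have hAcent : ∀ y ∈ A, y ≠ 1 → Subgroup.centralizer {y} = A := by
    intro y hy hy1
    ext w
    rw [Subgroup.mem_centralizer_singleton_iff, hA, Subgroup.mem_comap,
      ← hcent' _ hy (fun h => hy1 (hιinj (h.trans (map_one ι).symm))), Subgroup.mem_centralizer_singleton_iff,
      ← map_mul, ← map_mul, hιinj.eq_iff]
  have hxA : x ∈ A := hxt
  have hxne : x ≠ 1 := fun h => hx1 (by rw [h, map_one])
  have hnorm : ∀ A₀ : Subgroup ↥(gG K m), A₀ ≤ A → A₀ ≠ ⊥ →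
      Subgroup.normalizer (A₀ : Set ↥(gG K m)) = Subgroup.normalizer (A : Set ↥(gG K m)) := by
    intro A₀ h0 h1
    obtain ⟨y, hy, hy1⟩ := A₀.ne_bot_iff_exists_ne_one.1 h1 |> fun ⟨⟨y, hy⟩, h⟩ => (⟨y, hy, fun e => h (Subtype.ext e)⟩ : ∃ y ∈ A₀, y ≠ 1)
    exact le_antisymm (norm_le_cent hy hy1 fun z hz hz1 => hAcent z (h0 hz) hz1) (norm_le_norm h0)
  refine ⟨A, hAc, hcardA, ?_, le_rfl, hAcent, hnorm⟩
  -- the index of the torus in its normaliser
  set Nm := Subgroup.normalizer (A : Set ↥(gG K m)) with hNm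
  have hj : ∀ g : ↥Nm, ∃ j : Fin 6, (g : ↥(gG K m)) * a₀ * (g : ↥(gG K m))⁻¹ = a₀ ^ ((q : ℤ) ^ (j : ℕ)) := by
    intro g
    have h1 : ι g * t' * (ι g)⁻¹ ∈ Subgroup.zpowers t' := by
      have hxg : (g : ↥(gG K m)) * x * (g : ↥(gG K m))⁻¹ ∈ A := (Subgroup.mem_normalizer_iff.1 g.2 x).1 hxA
      have hy1 : ι ((g : ↥(gG K m)) * x * (g : ↥(gG K m))⁻¹) ≠ 1 := fun h =>
        hxne (conj_eq_one_iff.1 (hιinj (h.trans (map_one ι).symm)))
      rw [← hcent' _ hxg hy1, Subgroup.mem_centralizer_singleton_iff, map_mul, map_mul, map_inv]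
      have : t' ∈ Subgroup.centralizer {ι x} := by rw [hcent' _ hxt hx1]; exact Subgroup.mem_zpowers t'
      have e0 := Subgroup.mem_centralizer_singleton_iff.1 this
      calc ι g * t' * (ι g)⁻¹ * (ι g * ι x * (ι g)⁻¹) = ι g * (t' * ι x) * (ι g)⁻¹ := by group
        _ = _ := by rw [e0]; group
    obtain ⟨e', he'⟩ := Subgroup.mem_zpowers_iff.1 h1
    obtain ⟨j, hj⟩ := hconj (u⁻¹ * ι g * u) e' (by
      rw [show u⁻¹ * ι g * u * t * (u⁻¹ * ι g * u)⁻¹ = u⁻¹ * (ι g * (u * t * u⁻¹) * (ι g)⁻¹) * u by group, ← ht', ← he',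
        ht', conj_zpow]
      group)
    refine ⟨j, hιinj ?_⟩
    rw [map_mul, map_mul, map_inv, map_zpow, ha₀, ← conj_pow, ← he', ← zpow_natCast, ← zpow_natCast, ← zpow_mul,
      ← zpow_mul, ← mul_inv_eq_one, ← zpow_sub, hz]
    exact idvd (hj.mul_left (k' : ℤ)) (by ring)
  choose J hJ using hj
  have hfib : ∀ g g' : ↥Nm, J g = J g' → (g : ↥(gG K m))⁻¹ * g' ∈ A := by
    intro g g' h
    have h1 : (g : ↥(gG K m))⁻¹ * g' * a₀ = a₀ * ((g : ↥(gG K m))⁻¹ * g') := by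
      have h2 := (hJ g).trans (h ▸ (hJ g').symm)
      calc (g : ↥(gG K m))⁻¹ * g' * a₀ = (g : ↥(gG K m))⁻¹ * ((g' : ↥(gG K m)) * a₀ * (g' : ↥(gG K m))⁻¹) * g' := by group
        _ = _ := by rw [← h2]; group
    have ha1 : a₀ ≠ 1 := fun h => by
      rw [h, Subgroup.zpowers_one_eq_bot] at hAeq
      rw [hAeq, Subgroup.card_bot] at hcardA
      omega
    rw [← hAcent a₀ (hAeq ▸ Subgroup.mem_zpowers a₀) ha1]
    exact Subgroup.mem_centralizer_singleton_iff.2 h1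
  have hkN' : A ≤ Nm := Subgroup.le_normalizer
  obtain ⟨f, hf⟩ : k ∣ Nat.card ↥Nm := hcardA ▸ Subgroup.card_dvd_of_le hkN'
  have hf6 : f ≤ 6 := by
    let r' : Fin 6 → ↥Nm := fun j => if h : ∃ g, J g = j then h.choose else 1
    let F : ↥Nm → Fin 6 × ↥A := fun g => (J g, ⟨(r' (J g) : ↥(gG K m))⁻¹ * g, hfib _ _ (by
      have h : ∃ g', J g' = J g := ⟨g, rfl⟩
      simp only [r', dif_pos h]; exact h.choose_spec)⟩)
    have hF : Function.Injective F := fun g g' h => by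
      have h1 : J g = J g' := congrArg Prod.fst h
      have h2 := congrArg (fun z : Fin 6 × ↥A => (z.2 : ↥(gG K m))) h
      simp only [F, h1] at h2
      exact Subtype.ext (mul_left_cancel h2)
    have := Nat.card_le_card_of_injective F hF
    rw [Nat.card_prod, Nat.card_fin, hcardA, hf, mul_comm k] at this
    exact Nat.le_of_mul_le_mul_right this (by omega)
  -- Sylow's congruence
  have hv : p ^ (Nat.card ↥(gG K m)).factorization p ∣ k := by
    have h := (Nat.ordProj_dvd (Nat.card ↥(gG K m)) p)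
    have hd : p ^ (Nat.card ↥(gG K m)).factorization p ∣ orderOf t := by
      refine dvd_trans (pow_dvd_pow p ?_) (g2_ppart hK hp hN' hpN)
      exact (Nat.factorization_le_iff_dvd Nat.card_pos.ne' Nat.card_pos.ne').2 (Subgroup.card_dvd_of_le hle) p
    rw [hNk] at hd
    refine MultW.prime_pow_dvd_left hp hd fun h' => hne 2 (by norm_num) ?_
    have h2 := dvd_sub ((Int.natCast_dvd_natCast.2 h').trans hk2') ((Int.natCast_dvd_natCast.2 hpk).trans hk1')
    exact Int.natCast_dvd_natCast.1 (idvd h2 (show e + 1 - (e - 1) = ((2 : ℕ) : ℤ) by push_cast; ring))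
  obtain ⟨b, hb⟩ := hcardA.symm ▸ hv
  let y₀ := a₀ ^ b
  have hy₀ : orderOf y₀ = p ^ (Nat.card ↥(gG K m)).factorization p := by
    have hoa : orderOf a₀ = p ^ (Nat.card ↥(gG K m)).factorization p * b := by
      rw [← Nat.card_zpowers, ← hAeq, hb]
    have hb0 : b ≠ 0 := fun h => by rw [h, mul_zero] at hoa; exact (orderOf_pos a₀).ne' hoa
    rw [orderOf_pow_of_dvd hb0 (hoa ▸ dvd_mul_left _ _), hoa, Nat.mul_div_cancel _ (Nat.pos_of_ne_zero hb0)]
  let P : Sylow p ↥(gG K m) := Sylow.ofCard (Subgroup.zpowers y₀) (by rw [Nat.card_zpowers, hy₀])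
  have hPA : Subgroup.zpowers y₀ ≤ A := Subgroup.zpowers_le.2 (hAeq ▸ pow_mem (Subgroup.mem_zpowers a₀) b)
  have hPne : Subgroup.zpowers y₀ ≠ ⊥ := fun h => by
    have h1 := congrArg (fun S : Subgroup ↥(gG K m) => Nat.card S) h
    simp only [Nat.card_zpowers, hy₀, Subgroup.card_bot, Nat.pow_eq_one, hp.one_lt.ne', false_or] at h1
    exact (hp.factorization_pos_of_dvd Nat.card_pos.ne' (hpk.trans hkG)).ne' h1
  have hnP : Nm.index % p = 1 := by
    have h1 := card_sylow_modEq_one p ↥(gG K m)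
    have h2 := Sylow.card_eq_index_normalizer P
    have h3 : Subgroup.normalizer ((P : Subgroup ↥(gG K m)) : Set ↥(gG K m)) = Nm := hnorm _ hPA hPne
    rw [← h3]
    erw [← h2]
    rw [h1, Nat.mod_eq_of_lt hp.one_lt]
  have hidx : (Nm.index : ℤ) * f * k = (q : ℤ) ^ 3 * (((q : ℤ) - 1) * ((q : ℤ) + 1)) * k' * k := by
    have h1 := Subgroup.card_mul_index Nm
    rw [hf, hcard] at h1
    have h2 : ((k * f * Nm.index : ℕ) : ℤ) = ((q ^ 3 * ((q - 1) * (q ^ 3 + 1)) : ℕ) : ℤ) := by rw [h1]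
    have h1' : 1 ≤ q := by rw [hq]; exact Nat.one_le_pow _ _ (by norm_num)
    push_cast [h1'] at h2
    have h3 : (q : ℤ) ^ 3 + 1 = ((q : ℤ) + 1) * ((k : ℤ) * k') := by rw [← hkk, hord]; ring
    rw [h3] at h2
    linear_combination h2
  have hidx' := mul_right_cancel₀ (by exact_mod_cast (show k ≠ 0 by omega)) hidx
  have hI : ((Nm.index : ℤ) : ZMod p) = 1 := by
    rw [Int.cast_natCast, ← ZMod.natCast_mod, hnP, Nat.cast_one]
  have hK0 : ((k : ℤ) : ZMod p) = 0 := by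
    rw [Int.cast_natCast]; exact (ZMod.natCast_eq_zero_iff k p).2 hpk
  have hR : (r : ZMod p) ^ 2 = 3 * (q : ZMod p) := by
    have := congrArg (fun z : ℤ => (z : ZMod p)) hr2
    push_cast at this; rw [pow_two]; exact this
  rw [hk] at hK0
  have h6 : ((f : ℤ) : ZMod p) = 6 := by
    have := congrArg (fun z : ℤ => (z : ZMod p)) hidx'
    simp only [Int.cast_mul, hI, one_mul, hk'] at this
    rw [this]
    push_cast at hK0 ⊢
    have hQ : (q : ZMod p) = r - 1 := by linear_combination hK0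
    rw [hQ] at hR ⊢
    linear_combination ((-2) * (r : ZMod p) ^ 0 + (-2) * (r : ZMod p) ^ 1 + (0) * (r : ZMod p) ^ 2 + (-4) * (r : ZMod p) ^ 3 + (2) * (r : ZMod p) ^ 4) * hR
  have h7 : 7 ≤ p := by
    by_contra h
    have hp2 := hp.two_le
    interval_cases p
    · exact hne 2 (by norm_num) dvd_rfl
    · exact hne 3 (by norm_num) dvd_rfl
    · exact absurd hp (by norm_num)
    · refine five_roots (q : ZMod 5) ?_
      have h1 : ((orderOf t : ℤ) : ZMod 5) = 0 := by rw [Int.cast_natCast]; exact (ZMod.natCast_eq_zero_iff _ 5).2 hpN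
      rw [hord] at h1; push_cast at h1; exact h1
    · exact absurd hp (by norm_num)
  have hf' : f = 6 := by
    have h1 : (((f : ℕ)) : ZMod p) = ((6 : ℕ) : ZMod p) := by rw [← Int.cast_natCast]; rw [h6]; norm_num
    have h2 := (ZMod.natCast_eq_natCast_iff' _ _ _).1 h1
    rwa [Nat.mod_eq_of_lt (by omega), Nat.mod_eq_of_lt (by omega)] at h2
  rw [hf, hf', mul_comm]

end Cfsg.Lib.Chev.Ree
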