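import Cfsg.Agent.Lib.Chev.ReeToriSmall
import Cfsg.Agent.Lib.Chev.ReeCircle

/-! The cyclic subgroup of order `(q + 1) / 4` of ²G₂(q) and its centraliser. -/

set_option autoImplicit false
set_option linter.unusedSectionVars false
set_option maxRecDepth 100000

namespace Cfsg.Lib.Chev.Ree

open Cfsg.Lie Cfsg.Lib.Chev Cfsg.Lib.Chev.G2Aut
open scoped MatrixGroups

variable {K : Type*} [Field K] [Fintype K] [CharP K esymG2.p] {m : ℕ} (hK : Fintype.card K = 3 ^ (2 * m + 1))
include hK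

theorem q_mod_eight : 3 ^ (2 * m + 1) % 8 = 3 := by
  rw [pow_succ, pow_mul, Nat.mul_mod, Nat.pow_mod]; norm_num

theorem neg_one_nonsquare : ¬ IsSquare (-1 : K) := fun h =>
  FiniteField.isSquare_neg_one_iff.1 h (by have := q_mod_eight hK; omega)

theorem two_ne : (2 : K) ≠ 0 := fun h => neg_one_ne hK (by linear_combination -h)

/-- The abelian subgroup of order `q + 1`. -/
noncomputable def dTor : Subgroup ↥(gG K m) where
  carrier := {g | ∃ y ∈ circ K, g = reeSL hK y ∨ g = invA hK * reeSL hK y}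
  one_mem' := ⟨1, one_mem _, Or.inl (map_one _).symm⟩
  mul_mem' := by
    rintro g g' ⟨y, hy, e⟩ ⟨y', hy', e'⟩
    refine ⟨y * y', mul_mem hy hy', ?_⟩
    have hc := (invA_comm_reeSL hK y).eq
    rcases e with rfl | rfl <;> rcases e' with rfl | rfl <;> rw [map_mul]
    · exact Or.inl rfl
    · exact Or.inr (by rw [← mul_assoc, ← hc, mul_assoc])
    · exact Or.inr (mul_assoc _ _ _)
    · exact Or.inl (by
        calc invA hK * reeSL hK y * (invA hK * reeSL hK y') = invA hK * (reeSL hK y * invA hK) * reeSL hK y' := by group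
          _ = invA hK * invA hK * (reeSL hK y * reeSL hK y') := by rw [← hc]; group
          _ = _ := by rw [invA_sq, one_mul])
  inv_mem' := by
    rintro g ⟨y, hy, e⟩
    refine ⟨y⁻¹, inv_mem hy, ?_⟩
    rcases e with rfl | rfl
    · exact Or.inl (map_inv _ _).symm
    · exact Or.inr (by rw [mul_inv_rev, invA_inv, map_inv]; exact ((invA_comm_reeSL hK y).inv_right).eq.symm)

theorem mem_dTor {g : ↥(gG K m)} : g ∈ dTor hK ↔ ∃ y ∈ circ K, g = reeSL hK y ∨ g = invA hK * reeSL hK y := Iff.rfl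

theorem invA_mem_dTor : invA hK ∈ dTor hK := ⟨1, one_mem _, Or.inr (by rw [map_one, mul_one])⟩

theorem rot_mem_dTor : reeSL hK SLTwoRel.rot ∈ dTor hK :=
  ⟨_, Subgroup.mem_centralizer_singleton_iff.2 rfl, Or.inl rfl⟩

theorem dTor_comm {g g' : ↥(gG K m)} (h : g ∈ dTor hK) (h' : g' ∈ dTor hK) : Commute g g' := by
  haveI := cyclic_circ (neg_one_nonsquare hK)
  letI := IsCyclic.commGroup (α := circ K)
  obtain ⟨y, hy, e⟩ := h
  obtain ⟨y', hy', e'⟩ := h'
  have hyy : Commute (reeSL hK y) (reeSL hK y') := by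
    have := congrArg Subtype.val (mul_comm (⟨y, hy⟩ : circ K) ⟨y', hy'⟩)
    exact (show Commute y y' from this).map _
  rcases e with rfl | rfl <;> rcases e' with rfl | rfl
  · exact hyy
  · exact (invA_comm_reeSL hK y).symm.mul_right hyy
  · exact (invA_comm_reeSL hK y').mul_left hyy
  · exact ((Commute.refl _).mul_right (invA_comm_reeSL hK y')).mul_left ((invA_comm_reeSL hK y).symm.mul_right hyy)

/-- A generator of the circle. -/
theorem exists_circ_gen : ∃ c : SL(2, K), c ∈ circ K ∧ (∀ y ∈ circ K, ∃ i : ℕ, y = c ^ i) ∧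
    orderOf c = 3 ^ (2 * m + 1) + 1 ∧ orderOf (reeSL hK c) = (3 ^ (2 * m + 1) + 1) / 2 := by
  have hn := neg_one_nonsquare hK
  haveI := cyclic_circ hn
  obtain ⟨⟨c, hc⟩, hgen⟩ := IsCyclic.exists_generator (α := circ K)
  have hoc : orderOf c = 3 ^ (2 * m + 1) + 1 := by
    rw [show c = ((⟨c, hc⟩ : circ K) : SL(2, K)) from rfl, Subgroup.orderOf_coe,
      orderOf_eq_card_of_forall_mem_zpowers hgen, card_circ hn (two_ne hK), hK]
  refine ⟨c, hc, fun y hy => ?_, hoc, ?_⟩
  · obtain ⟨i, hi⟩ := mem_powers_iff_mem_zpowers.2 (hgen ⟨y, hy⟩)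
    exact ⟨i, (congrArg Subtype.val hi).symm⟩
  have h8 := q_mod_eight hK
  set H := (3 ^ (2 * m + 1) + 1) / 2 with hH
  have h2 : H * 2 = orderOf c := by rw [hoc]; omega
  have hneg : c ^ H = -1 := by
    rcases circ_sq_one hn (two_ne hK) (pow_mem hc H) (by rw [← pow_add, show H + H = orderOf c by omega, pow_orderOf_eq_one]) with h | h
    · have := Nat.le_of_dvd (by omega) (orderOf_dvd_of_pow_eq_one h)
      omega
    · exact h
  refine Nat.dvd_antisymm (orderOf_dvd_of_pow_eq_one (by rw [← map_pow, hneg, reeSL_neg_one])) ?_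
  have h1 : reeSL hK (c ^ orderOf (reeSL hK c)) = reeSL hK 1 := by rw [map_pow, pow_orderOf_eq_one, map_one]
  have h3 : orderOf c ∣ orderOf (reeSL hK c) * 2 := by
    refine orderOf_dvd_of_pow_eq_one ?_
    rcases (reeSL_eq_iff hK).1 h1 with h | h <;> rw [pow_mul, h] <;> simp
  rw [← h2] at h3
  exact Nat.dvd_of_mul_dvd_mul_right two_pos h3

theorem card_dTor : Nat.card ↥(dTor hK) = 3 ^ (2 * m + 1) + 1 := by
  classical
  obtain ⟨c, hc, hgen, -, ho⟩ := exists_circ_gen hK
  have h8 := q_mod_eight hK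
  let f : Fin 2 × Fin ((3 ^ (2 * m + 1) + 1) / 2) → ↥(dTor hK) := fun p =>
    ⟨invA hK ^ (p.1 : ℕ) * reeSL hK (c ^ (p.2 : ℕ)), mul_mem (pow_mem (invA_mem_dTor hK) _) ⟨_, pow_mem hc _, Or.inl rfl⟩⟩
  rw [← Nat.card_eq_of_bijective f ?_, Nat.card_prod, Nat.card_fin, Nat.card_fin]
  · omega
  refine ⟨?_, fun g => ?_⟩
  · rintro ⟨i, j⟩ ⟨k, l⟩ e
    have e' : invA hK ^ (i : ℕ) * reeSL hK (c ^ (j : ℕ)) = invA hK ^ (k : ℕ) * reeSL hK (c ^ (l : ℕ)) := congrArg Subtype.val e
    have hik : i = k := by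
      by_contra hne
      refine invA_not_range hK (c ^ (j : ℕ) * (c ^ (l : ℕ))⁻¹) ?_
      rw [map_mul, map_inv]
      fin_cases i <;> fin_cases k <;> simp at hne e' ⊢
      · rw [mul_inv_eq_iff_eq_mul]; exact e'
      · rw [mul_inv_eq_iff_eq_mul, ← e', ← mul_assoc, invA_sq, one_mul]
    subst hik
    have e2 := mul_left_cancel e'
    rw [map_pow, map_pow] at e2
    exact congrArg _ (Fin.ext (pow_injOn_Iio_orderOf (by rw [Set.mem_Iio, ho]; exact j.2) (by rw [Set.mem_Iio, ho]; exact l.2) e2))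
  · obtain ⟨y, hy, hg⟩ := g.2
    obtain ⟨j, rfl⟩ := hgen y hy
    have hj : reeSL hK (c ^ (j % ((3 ^ (2 * m + 1) + 1) / 2))) = reeSL hK (c ^ j) := by
      rw [map_pow, map_pow, ← ho]; exact pow_mod_orderOf _ _
    rcases hg with h | h
    · exact ⟨(0, ⟨_, Nat.mod_lt _ (by omega)⟩), Subtype.ext (by show _ * reeSL hK (c ^ (j % _)) = _; rw [hj, h]; simp)⟩
    · exact ⟨(1, ⟨_, Nat.mod_lt _ (by omega)⟩), Subtype.ext (by show _ * reeSL hK (c ^ (j % _)) = _; rw [hj, h]; simp)⟩

/-- The cyclic subgroup of order `(q + 1) / 4`. -/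
theorem exists_half (hm : 1 ≤ m) : ∃ A : Subgroup ↥(gG K m), IsCyclic A ∧ Nat.card A = (3 ^ (2 * m + 1) + 1) / 4 ∧
    ∀ z, z ∈ A ↔ z ∈ dTor hK ∧ z ^ ((3 ^ (2 * m + 1) + 1) / 4) = 1 := by
  obtain ⟨c, hc, hgen, -, ho⟩ := exists_circ_gen hK
  have h8 := q_mod_eight hK
  set k := (3 ^ (2 * m + 1) + 1) / 4 with hk
  set b := reeSL hK c with hb
  have hok : orderOf (b ^ 2) = k := by rw [orderOf_pow_of_dvd two_ne_zero (by omega), ho]; omega
  refine ⟨Subgroup.zpowers (b ^ 2), inferInstance, by rw [Nat.card_zpowers, hok], fun z => ⟨fun hz => ⟨?_, ?_⟩, ?_⟩⟩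
  · exact (Subgroup.zpowers_le.2 (pow_mem (show b ∈ dTor hK from ⟨c, hc, Or.inl rfl⟩) 2)) hz
  · obtain ⟨i, rfl⟩ := mem_powers_iff_mem_zpowers.2 hz
    show ((b ^ 2) ^ i) ^ k = 1
    rw [← pow_mul, mul_comm, pow_mul, ← hok, pow_orderOf_eq_one, one_pow]
  · rintro ⟨⟨y, hy, e⟩, hzk⟩
    obtain ⟨j, rfl⟩ := hgen y hy
    obtain ⟨r, hr⟩ : ∃ r, k = 2 * r + 1 := ⟨k / 2, by omega⟩
    rcases e with rfl | rfl
    · rw [map_pow, ← pow_mul, ← hb] at hzk
      have hd := orderOf_dvd_of_pow_eq_one hzk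
      rw [ho, show (3 ^ (2 * m + 1) + 1) / 2 = 2 * k by omega] at hd
      obtain ⟨i, rfl⟩ : 2 ∣ j := Nat.dvd_of_mul_dvd_mul_right (by omega) hd
      rw [map_pow, pow_mul]
      exact pow_mem (Subgroup.mem_zpowers _) i
    · exfalso
      have hck : invA hK ^ k = invA hK := by rw [hr, pow_succ, pow_mul, pow_two, invA_sq, one_pow, one_mul]
      rw [(invA_comm_reeSL hK _).mul_pow, hck, ← map_pow, mul_eq_one_iff_inv_eq, invA_inv] at hzk
      exact invA_not_range hK _ hzk.symm

/-- Elements of the centraliser of the involution commuting with a torus element. -/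
theorem cent_invA_inter {z g : ↥(gG K m)} (hz : z ∈ dTor hK) (hz1 : z ≠ 1) (hodd : Odd (orderOf z))
    (hga : g * invA hK = invA hK * g) (hgz : g * z = z * g) : g ∈ dTor hK := by
  obtain ⟨y, hy, e⟩ := hz
  obtain ⟨x, hx⟩ := centralizer_elems hK hga
  have hcomm : Commute (reeSL hK x) (reeSL hK y) := by
    have h0 : ∀ {u}, (u = reeSL hK x ∨ u = invA hK * reeSL hK x) → ∀ {v}, Commute u v → Commute (invA hK) v →
        Commute (reeSL hK x) v := by
      rintro u (rfl | rfl) v h1 h2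
      · exact h1
      · simpa using h2.inv_left.mul_left h1
    refine h0 hx ?_ (invA_comm_reeSL hK y)
    rcases e with rfl | rfl
    · exact hgz
    · have : Commute g (invA hK) := hga
      simpa using this.inv_right.mul_right (show Commute g (invA hK * reeSL hK y) from hgz)
  have hxc : x ∈ circ K := by
    obtain ⟨b1, b2⟩ := mem_circ.1 hy
    have hy1 : y.1 0 1 ≠ 0 := by
      intro h01
      have h00 := circ_norm (neg_one_nonsquare hK) hy
      rw [h01, mul_zero, add_zero] at h00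
      have hy' : reeSL hK y = 1 := by
        refine reeSL_center hK (Matrix.SpecialLinearGroup.mem_center_iff.2 ⟨y.1 0 0, by rw [Fintype.card_fin, pow_two]; exact h00, ?_⟩)
        ext i j
        fin_cases i <;> fin_cases j <;> simp [b1, b2, h01]
      rcases e with rfl | rfl
      · exact hz1 hy'
      · rw [hy', mul_one, orderOf_invA] at hodd; exact absurd hodd (by decide)
    have h := hcomm.eq
    rw [← map_mul, ← map_mul, reeSL_eq_iff] at h
    rcases h with h | h
    · refine mem_circ.2 ?_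
      have f0 := congrArg (fun X : SL(2, K) => X.1 0 0) h
      have f1 := congrArg (fun X : SL(2, K) => X.1 0 1) h
      simp [Matrix.mul_apply, Fin.sum_univ_two, b1, b2] at f0 f1
      exact ⟨mul_left_cancel₀ hy1 (by linear_combination -f0), mul_left_cancel₀ hy1 (by linear_combination -f1)⟩
    · exfalso
      have e2 : (x * y * x⁻¹).1 = -y.1 := by
        rw [h, show -(y * x) * x⁻¹ = -y by rw [neg_mul, mul_inv_cancel_right]]; simp
      have ht := congrArg Matrix.trace e2
      have hcyc : (x.1 * y.1 * (x⁻¹).1).trace = y.1.trace := by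
        rw [Matrix.trace_mul_cycle, ← Matrix.SpecialLinearGroup.coe_mul, inv_mul_cancel, Matrix.SpecialLinearGroup.coe_one, one_mul]
      rw [Matrix.SpecialLinearGroup.coe_mul, Matrix.SpecialLinearGroup.coe_mul, hcyc, Matrix.trace_neg, Matrix.trace_fin_two, b2] at ht
      have h00 : y.1 0 0 = 0 := mul_left_cancel₀ (mul_ne_zero (two_ne hK) (two_ne hK)) (by linear_combination ht)
      have hyy : reeSL hK y * reeSL hK y = 1 := by
        rw [← map_mul, show y * y = -1 from ?_, reeSL_neg_one]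
        refine circ_ext (neg_one_nonsquare hK) (mul_mem hy hy) (mem_circ.2 ⟨by simp, by simp⟩) ?_ ?_
        · have := circ_norm (neg_one_nonsquare hK) hy
          simp [Matrix.mul_apply, Fin.sum_univ_two, b1, h00]
          rw [h00] at this; linear_combination this
        · simp [Matrix.mul_apply, Fin.sum_univ_two, b2, h00]
      have hzz : z ^ 2 = 1 := by
        rcases e with rfl | rfl
        · rw [pow_two, hyy]
        · rw [(invA_comm_reeSL hK y).mul_pow, pow_two, pow_two, invA_sq, hyy, one_mul]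
      rcases (Nat.dvd_prime Nat.prime_two).1 (orderOf_dvd_of_pow_eq_one hzz) with h' | h'
      · exact hz1 (orderOf_eq_one_iff.1 h')
      · rw [h'] at hodd; exact absurd hodd (by decide)
  exact ⟨x, hxc, hx⟩

/-- The two large tori together. -/
theorem large_torus_of_prime (hm : 1 ≤ m) {p : ℕ} (hp : p.Prime)
    (hpN : p ∣ (3 ^ (2 * m + 1)) ^ 2 - 3 ^ (2 * m + 1) + 1) :
    ∃ (A : Subgroup ↥(gG K m)) (k : ℕ), p ^ (Nat.card ↥(gG K m)).factorization p ∣ k ∧ IsTorus A A k (6 * k) ∧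
      k ∣ (3 ^ (2 * m + 1)) ^ 2 - 3 ^ (2 * m + 1) + 1 := by
  obtain ⟨q, hq⟩ : ∃ q : ℕ, q = 3 ^ (2 * m + 1) := ⟨_, rfl⟩
  obtain ⟨r, hr⟩ : ∃ r : ℕ, r = 3 ^ (m + 1) := ⟨_, rfl⟩
  rw [← hq] at hpN ⊢
  have hr2 : r * r = 3 * q := by rw [hr, hq, ← pow_add, ← pow_succ']; congr 1; omega
  have hrq : r ≤ q := by rw [hr, hq]; exact Nat.pow_le_pow_right (by norm_num) (by omega)
  have hqq : q ≤ q ^ 2 := Nat.le_self_pow two_ne_zero q
  have hN : q ^ 2 - q + 1 = (q - r + 1) * (q + r + 1) := by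
    have := congrArg (fun n : ℕ => (n : ℤ)) hr2
    zify [hrq, hqq]
    push_cast at this
    linear_combination this
  have hqz : (3 : ℤ) ^ (2 * m + 1) = (q : ℤ) := by rw [hq]; push_cast; rfl
  have hrz : (3 : ℤ) ^ (m + 1) = (r : ℤ) := by rw [hr]; push_cast; rfl
  obtain ⟨A, hA⟩ := exists_large_torus hK hm (r := 3 ^ (m + 1)) (Or.inl rfl) (k := q - r + 1)
    (by push_cast [hrq]; rw [hqz, hrz])
  obtain ⟨B, hB⟩ := exists_large_torus hK hm (r := -3 ^ (m + 1)) (Or.inr rfl) (k := q + r + 1)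
    (by push_cast; rw [hqz, hrz]; ring)
  obtain ⟨hd, hd'⟩ : p ^ (Nat.card ↥(gG K m)).factorization p ∣ (q - r + 1) * (q + r + 1) ∧ (p ∣ q - r + 1 → p ∣ q + r + 1 → False) := by
    refine ⟨?_, fun h1 h2 => ?_⟩
    · rw [← hN]
      have hG : gG K m ≤ chevG2.group K := fun g hg => (((twOKG2 m).mem_fixed certG2C).1 hg).1
      refine (pow_dvd_pow p ((Nat.factorization_le_iff_dvd Nat.card_pos.ne' Nat.card_pos.ne').2 (Subgroup.card_dvd_of_le hG) p)).trans ?_
      exact g2_ppart hK hp (N := q ^ 2 - q + 1) (by push_cast [hqq]; rw [hqz]) hpN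
    · have h3 : p ∣ 2 * r := by
        have := Nat.dvd_sub h2 h1
        rwa [show q + r + 1 - (q - r + 1) = 2 * r by omega] at this
      have h23 : p = 2 ∨ p = 3 := by
        rcases hp.dvd_mul.1 h3 with h | h
        · exact Or.inl ((Nat.prime_dvd_prime_iff_eq hp Nat.prime_two).1 h)
        · exact Or.inr ((Nat.prime_dvd_prime_iff_eq hp Nat.prime_three).1 (hp.dvd_of_dvd_pow (hr ▸ h)))
      have hqr : q % 2 = 1 ∧ r % 2 = 1 ∧ q % 3 = 0 ∧ r % 3 = 0 := by
        refine ⟨?_, ?_, ?_, ?_⟩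
        · rw [hq]; simp [Nat.pow_mod]
        · rw [hr]; simp [Nat.pow_mod]
        · rw [hq, pow_succ]; omega
        · rw [hr, pow_succ]; omega
      rcases h23 with rfl | rfl <;> omega
  by_cases h1 : p ∣ q - r + 1
  · exact ⟨A, _, MultW.prime_pow_dvd_left hp hd (hd' h1), hA, Dvd.intro _ hN.symm⟩
  · refine ⟨B, _, MultW.prime_pow_dvd_left hp (by rwa [mul_comm] at hd) h1, hB, Dvd.intro_left _ hN.symm⟩

/-- Every element is a sum of two squares. -/
theorem two_squares (b : K) : ∃ u v : K, u * u + v * v = b := by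
  haveI : CharP K 3 := inferInstanceAs (CharP K esymG2.p)
  have h3 : (3 : K) = 0 := by have := CharP.cast_eq_zero K 3; push_cast at this; exact this
  rcases eq_or_ne b 0 with rfl | hb
  · exact ⟨0, 0, by ring⟩
  have hr : ringChar K ≠ 2 := by rw [ringChar.eq K 3]; norm_num
  rcases FiniteField.pow_dichotomy hr hb with h | h
  · obtain ⟨u, hu⟩ := (FiniteField.isSquare_iff hr hb).2 h
    exact ⟨u, 0, by rw [hu]; ring⟩
  · obtain ⟨u, hu⟩ := (FiniteField.isSquare_iff hr (neg_ne_zero.2 hb)).2 (by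
      rw [Odd.neg_pow (by rw [hK, Nat.odd_iff]; have := q_mod_eight hK; omega), h, neg_neg])
    exact ⟨u, u, by linear_combination (-2 : K) * hu + (-b) * h3⟩

/-- The elements squaring to minus one are conjugate to the rotation. -/
theorem exists_conj_rot {w : SL(2, K)} (hw : w * w = -1) : ∃ g : SL(2, K), g * w * g⁻¹ = SLTwoRel.rot := by
  have hn := neg_one_nonsquare hK
  set α := w.1 0 0
  set β := w.1 0 1 with hβ
  set γ := w.1 1 0
  set δ := w.1 1 1
  have e00 := congrArg (fun X : SL(2, K) => X.1 0 0) hw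
  have e01 := congrArg (fun X : SL(2, K) => X.1 0 1) hw
  simp [Matrix.mul_apply, Fin.sum_univ_two] at e00 e01
  have hb : β ≠ 0 := fun h => hn ⟨α, by linear_combination -e00 + γ * h⟩
  have hδ : δ = -α := mul_left_cancel₀ hb (by linear_combination e01)
  obtain ⟨P, R, hPR⟩ := two_squares hK β
  set s := P / β + α * R / β with hs
  set t := R with ht
  let g : SL(2, K) := ⟨!![s, t; s * α + t * γ, s * β + t * δ], by
    rw [Matrix.det_fin_two_of, hδ, hs, ht]
    field_simp
    linear_combination hPR + (-(R * R)) * e00⟩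
  refine ⟨g, mul_inv_eq_iff_eq_mul.2 (Subtype.ext ?_)⟩
  have eα : α * α + β * γ = -1 := e00
  rw [Matrix.SpecialLinearGroup.coe_mul, Matrix.SpecialLinearGroup.coe_mul]
  show !![s, t; s * α + t * γ, s * β + t * δ] * w.1 = !![0, 1; -1, 0] * !![s, t; s * α + t * γ, s * β + t * δ]
  ext i j
  fin_cases i <;> fin_cases j <;>
    simp [Matrix.mul_apply, Fin.sum_univ_two] <;>
    first
    | rfl
    | linear_combination s * eα + t * γ * hδ
    | linear_combination t * eα + (s * β + t * δ) * hδ - t * α * hδ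

/-- Anything commuting with a non-trivial element of the circle is in the circle. -/
theorem mem_circ_of_comm {x y : SL(2, K)} (hy : y ∈ circ K) (hy1 : y.1 0 1 ≠ 0) (h : x * y = y * x) : x ∈ circ K := by
  obtain ⟨b1, b2⟩ := mem_circ.1 hy
  refine mem_circ.2 ?_
  have f0 := congrArg (fun X : SL(2, K) => X.1 0 0) h
  have f1 := congrArg (fun X : SL(2, K) => X.1 0 1) h
  simp [Matrix.mul_apply, Fin.sum_univ_two, b1, b2] at f0 f1
  exact ⟨mul_left_cancel₀ hy1 (by linear_combination -f0), mul_left_cancel₀ hy1 (by linear_combination -f1)⟩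

/-- No elementary subgroup of order eight centralises an element of odd order of the centraliser. -/
theorem no_eight_cent {z : ↥(gG K m)} {x : SL(2, K)} (hz : z = reeSL hK x) (hodd : Odd (orderOf z)) (hz1 : z ≠ 1)
    (S : Subgroup ↥(gG K m)) (hS : Nat.card ↥S = 8) (hS2 : ∀ s ∈ S, s * s = 1)
    (hc : ∀ s ∈ S, s * invA hK = invA hK * s ∧ s * z = z * s) : False := by
  classical
  have hn := neg_one_nonsquare hK
  -- the part inside the image
  set R := S ⊓ (reeSL hK).range with hR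
  have hR4 : 2 < Nat.card ↥R := by
    by_cases hall : ∀ s ∈ S, s ∈ (reeSL hK).range
    · rw [hR, inf_eq_left.2 hall, hS]; norm_num
    push Not at hall
    obtain ⟨s₀, hs₀, hs₀'⟩ := hall
    have hor : ∀ s ∈ S, s ∈ (reeSL hK).range ∨ invA hK * s ∈ (reeSL hK).range := fun s hs => by
      obtain ⟨w, hw | hw⟩ := centralizer_elems hK (hc s hs).1
      · exact Or.inl ⟨w, hw.symm⟩
      · exact Or.inr ⟨w, by rw [hw, ← mul_assoc, invA_sq, one_mul]⟩
    let F : ↥R × Fin 2 → ↥(gG K m) := fun p => if p.2 = 0 then p.1 else s₀ * p.1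
    have hsub : (S : Set ↥(gG K m)) ⊆ Set.range F := by
      intro s hs
      by_cases h : s ∈ (reeSL hK).range
      · exact ⟨(⟨s, hs, h⟩, 0), by simp [F]⟩
      · have h1 := (hor s hs).resolve_left h
        have h2 := (hor s₀ hs₀).resolve_left hs₀'
        have h3 : s₀ * s ∈ (reeSL hK).range := by
          have := mul_mem h2 h1
          have hca : invA hK * s₀ = s₀ * invA hK := (hc s₀ hs₀).1.symm
          rwa [hca, mul_assoc, ← mul_assoc (invA hK), invA_sq, one_mul] at this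
        exact ⟨(⟨s₀ * s, mul_mem hs₀ hs, h3⟩, 1), by simp [F]; rw [← mul_assoc, hS2 s₀ hs₀, one_mul]⟩
    have h := Set.ncard_le_ncard hsub (Set.toFinite _)
    rw [← Nat.card_coe_set_eq, ← Nat.card_coe_set_eq] at h
    have h' := h.trans (Finite.card_range_le F)
    rw [Nat.card_prod, Nat.card_fin] at h'
    change Nat.card ↥S ≤ _ at h'
    omega
  -- two different involutions
  obtain ⟨u, hu1, v, hv1, huv⟩ : ∃ u : ↥R, u ≠ 1 ∧ ∃ v : ↥R, v ≠ 1 ∧ u ≠ v := by
    haveI : Nontrivial ↥R := Finite.one_lt_card_iff_nontrivial.1 (by omega)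
    obtain ⟨u, hu⟩ := exists_ne (1 : ↥R)
    by_contra hcon
    push Not at hcon
    have : Nat.card ↥R ≤ 2 := by
      rw [show (2 : ℕ) = Nat.card (Fin 2) by simp]
      refine Nat.card_le_card_of_injective (fun v => if v = 1 then (0 : Fin 2) else 1) fun a b e => ?_
      by_cases ha : a = 1 <;> by_cases hb : b = 1 <;> simp [ha, hb] at e ⊢
      exact (hcon u hu a ha).symm.trans (hcon u hu b hb)
    omega
  obtain ⟨u, huS, w₁, rfl⟩ := u
  obtain ⟨v, hvS, w₂, rfl⟩ := v
  have hsq : ∀ w, reeSL hK w ∈ S → reeSL hK w ≠ 1 → w * w = -1 := by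
    intro w hw hw1
    have h := hS2 _ hw
    rw [← map_mul, ← map_one (reeSL hK), reeSL_eq_iff] at h
    rcases h with h | h
    · exfalso
      have hd : w.1 0 0 * w.1 1 1 - w.1 0 1 * w.1 1 0 = 1 := by rw [← Matrix.det_fin_two]; exact w.2
      have e00 := congrArg (fun X : SL(2, K) => X.1 0 0) h
      have e01 := congrArg (fun X : SL(2, K) => X.1 0 1) h
      have e10 := congrArg (fun X : SL(2, K) => X.1 1 0) h
      simp [Matrix.mul_apply, Fin.sum_univ_two] at e00 e01 e10
      have ht : w.1 0 0 + w.1 1 1 ≠ 0 := fun ht => two_ne hK (by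
        linear_combination (-1 : K) * e00 + (-1 : K) * hd + w.1 0 0 * ht)
      have h01 : w.1 0 1 = 0 := mul_left_cancel₀ ht (by linear_combination e01)
      have h10 : w.1 1 0 = 0 := mul_left_cancel₀ ht (by linear_combination e10)
      rw [h01, h10] at hd e00
      have h11 : w.1 1 1 = w.1 0 0 := by linear_combination w.1 0 0 * hd - w.1 1 1 * e00
      refine hw1 (reeSL_center hK (Matrix.SpecialLinearGroup.mem_center_iff.2 ⟨w.1 0 0, ?_, ?_⟩))
      · rw [Fintype.card_fin, pow_two]; linear_combination e00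
      · ext i j
        fin_cases i <;> fin_cases j <;> simp [h01, h10, h11]
    · exact h
  have hne₁ : reeSL hK w₁ ≠ 1 := fun e => hu1 (Subtype.ext e)
  have hne₂ : reeSL hK w₂ ≠ 1 := fun e => hv1 (Subtype.ext e)
  have hcx : ∀ w, reeSL hK w ∈ S → reeSL hK w ≠ 1 → w * x = x * w := by
    intro w hw hw1
    have h := (hc _ hw).2
    rw [hz, ← map_mul, ← map_mul, reeSL_eq_iff] at h
    rcases h with h | h
    · exact h
    exfalso
    have e2 : (w * x * w⁻¹).1 = -x.1 := by
      rw [h, show -(x * w) * w⁻¹ = -x by rw [neg_mul, mul_inv_cancel_right]]; simp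
    have ht := congrArg Matrix.trace e2
    have hcyc : (w.1 * x.1 * (w⁻¹).1).trace = x.1.trace := by
      rw [Matrix.trace_mul_cycle, ← Matrix.SpecialLinearGroup.coe_mul, inv_mul_cancel, Matrix.SpecialLinearGroup.coe_one, one_mul]
    rw [Matrix.SpecialLinearGroup.coe_mul, Matrix.SpecialLinearGroup.coe_mul, hcyc, Matrix.trace_neg, Matrix.trace_fin_two] at ht
    have ht0 : x.1 1 1 = -x.1 0 0 := mul_left_cancel₀ (two_ne hK) (by linear_combination ht)
    have hx2 : x * x = -1 := by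
      have hd : x.1 0 0 * x.1 1 1 - x.1 0 1 * x.1 1 0 = 1 := by rw [← Matrix.det_fin_two]; exact x.2
      rw [ht0] at hd
      refine Subtype.ext ?_
      ext i j
      fin_cases i <;> fin_cases j <;> simp [Matrix.mul_apply, Fin.sum_univ_two, ht0] <;>
        first | linear_combination -hd | ring
    have hz2 : z ^ 2 = 1 := by rw [hz, pow_two, ← map_mul, hx2, reeSL_neg_one]
    rcases (Nat.dvd_prime Nat.prime_two).1 (orderOf_dvd_of_pow_eq_one hz2) with h' | h'
    · exact hz1 (orderOf_eq_one_iff.1 h')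
    · rw [h'] at hodd; exact absurd hodd (by decide)
  obtain ⟨g, hg⟩ := exists_conj_rot hK (hsq _ huS hne₁)
  have hcj : ∀ {y}, w₁ * y = y * w₁ → g * y * g⁻¹ ∈ circ K := fun {y} h => by
    rw [circ, Subgroup.mem_centralizer_singleton_iff, ← hg]
    calc g * y * g⁻¹ * (g * w₁ * g⁻¹) = g * (y * w₁) * g⁻¹ := by group
      _ = g * (w₁ * y) * g⁻¹ := by rw [h]
      _ = _ := by group
  have hx' := hcj (hcx _ huS hne₁)
  obtain ⟨b1, b2⟩ := mem_circ.1 hx'
  have hy1 : (g * x * g⁻¹).1 0 1 ≠ 0 := by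
    intro h01
    have h00 := circ_norm hn hx'
    rw [h01, mul_zero, add_zero] at h00
    refine hz1 ?_
    have h1 : reeSL hK (g * x * g⁻¹) = 1 := by
      refine reeSL_center hK (Matrix.SpecialLinearGroup.mem_center_iff.2 ⟨(g * x * g⁻¹).1 0 0, by rw [Fintype.card_fin, pow_two]; exact h00, ?_⟩)
      generalize g * x * g⁻¹ = y at *
      ext i j
      fin_cases i <;> fin_cases j <;> simp [b1, b2, h01]
    rw [map_mul, map_mul, map_inv, conj_eq_one_iff] at h1
    rw [hz, h1]
  have hw₂ : g * w₂ * g⁻¹ ∈ circ K := mem_circ_of_comm hK hx' hy1 (by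
    calc g * w₂ * g⁻¹ * (g * x * g⁻¹) = g * (w₂ * x) * g⁻¹ := by group
      _ = g * (x * w₂) * g⁻¹ := by rw [hcx _ hvS hne₂]
      _ = _ := by group)
  have hrot : SLTwoRel.rot ∈ circ K := Subgroup.mem_centralizer_singleton_iff.2 rfl
  set y := g * w₂ * g⁻¹ with hy
  have hyy : y * y = -1 := by
    rw [hy, show g * w₂ * g⁻¹ * (g * w₂ * g⁻¹) = g * (w₂ * w₂) * g⁻¹ by group, hsq _ hvS hne₂]; simp
  have hyr : (y * SLTwoRel.rot) * (y * SLTwoRel.rot) = 1 := by
    have hc' : y * SLTwoRel.rot = SLTwoRel.rot * y := Subgroup.mem_centralizer_singleton_iff.1 hw₂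
    nth_rewrite 1 [hc']
    rw [mul_assoc, ← mul_assoc y, hyy, neg_mul, one_mul, mul_neg, (quat_facts hK).1, neg_neg]
  refine huv (Subtype.ext ?_)
  show reeSL hK w₁ = reeSL hK w₂
  have h : reeSL hK y = reeSL hK SLTwoRel.rot := by
    rw [reeSL_eq_iff]
    have hinv : (SLTwoRel.rot : SL(2, K))⁻¹ = -SLTwoRel.rot :=
      inv_eq_of_mul_eq_one_right (by rw [mul_neg, (quat_facts hK).1, neg_neg])
    rcases circ_sq_one hn (two_ne hK) (mul_mem hw₂ hrot) hyr with h | h
    · right; rw [← hinv]; exact eq_inv_of_mul_eq_one_left h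
    · left
      calc y = y * SLTwoRel.rot * (SLTwoRel.rot)⁻¹ := by rw [mul_inv_cancel_right]
        _ = SLTwoRel.rot := by rw [h, hinv, neg_mul, one_mul, neg_neg]
  rw [hy, ← hg, map_mul, map_mul, map_mul, map_mul, map_inv] at h
  exact (mul_left_cancel (mul_right_cancel h)).symm

/-- The centraliser of a non-trivial element of odd order in `dTor`. -/
theorem centralizer_half (hm : 1 ≤ m) {z : ↥(gG K m)} (hz : z ∈ dTor hK)
    (hzk : z ^ ((3 ^ (2 * m + 1) + 1) / 4) = 1) (hz1 : z ≠ 1) : Subgroup.centralizer {z} = dTor hK := by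
  classical
  have h8 := q_mod_eight hK
  have hcD := card_dTor hK
  have h27 : 27 ≤ 3 ^ (2 * m + 1) := (by norm_num : 27 ≤ 3 ^ 3).trans (Nat.pow_le_pow_right (by norm_num) (by omega))
  obtain ⟨q, hq⟩ : ∃ q : ℕ, q = 3 ^ (2 * m + 1) := ⟨_, rfl⟩
  have h3q : q % 3 = 0 := by rw [hq, pow_succ]; omega
  rw [← hq] at h8 hcD hzk h27
  have hoz : orderOf z ∣ (q + 1) / 4 := orderOf_dvd_of_pow_eq_one hzk
  have hodd : Odd (orderOf z) := (Nat.odd_iff.2 (by omega : ((q + 1) / 4) % 2 = 1)).of_dvd_nat hoz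
  have hozq : orderOf z ∣ q + 1 := hoz.trans ⟨4, by omega⟩
  have hcop : ∀ n : ℕ, orderOf z ∣ n → Nat.gcd ((q + 1) / 4) n = 1 → False := fun n hn hg =>
    hz1 (orderOf_eq_one_iff.1 (Nat.eq_one_of_dvd_one (hg ▸ Nat.dvd_gcd hoz hn)))
  set H := Subgroup.centralizer {z} with hH
  have hDH : dTor hK ≤ H := fun g hg => Subgroup.mem_centralizer_singleton_iff.2 (dTor_comm hK hg hz).eq
  have hdiv : Nat.card ↥H ∣ q + 1 := by
    rw [Nat.dvd_iff_prime_pow_dvd_dvd]
    intro p k hp hpk
    haveI : Fact p.Prime := ⟨hp⟩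
    rcases Nat.eq_zero_or_pos k with rfl | hk
    · simp
    have hpH : p ∣ Nat.card ↥H := (dvd_pow_self p hk.ne').trans hpk
    obtain ⟨⟨x, hxH⟩, hx⟩ := exists_prime_orderOf_dvd_card' p hpH
    rw [Subgroup.orderOf_mk] at hx
    have hxz : x * z = z * x := Subgroup.mem_centralizer_singleton_iff.1 hxH
    have hx1 : x ≠ 1 := fun e => by rw [e, orderOf_one] at hx; exact hp.one_lt.ne hx
    by_cases hp3 : p = 3
    · subst hp3
      exfalso
      obtain ⟨g, hg⟩ := exists_conj_pos hK (x := x) (k := 1) (by rw [pow_one, ← hx, pow_orderOf_eq_one])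
      have hc : (g * z * g⁻¹) * (g * x * g⁻¹) = (g * x * g⁻¹) * (g * z * g⁻¹) := by
        calc _ = g * (z * x) * g⁻¹ := by group
          _ = g * (x * z) * g⁻¹ := by rw [hxz]
          _ = _ := by group
      have h6 := order_three_cent hK hg (fun e => hx1 (conj_eq_one_iff.1 e)) hc
      rw [conj_pow, conj_pow, conj_eq_one_iff, conj_eq_one_iff] at h6
      rcases h6 with h6 | h6
      · exact hcop 9 (orderOf_dvd_of_pow_eq_one h6) (Nat.Coprime.pow_right 2 ((Nat.prime_three.coprime_iff_not_dvd.2 (by omega)).symm))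
      · exact hcop 6 (orderOf_dvd_of_pow_eq_one h6) (Nat.Coprime.mul_right
          ((Nat.prime_two.coprime_iff_not_dvd.2 (by omega)).symm) ((Nat.prime_three.coprime_iff_not_dvd.2 (by omega)).symm))
    by_cases hp2 : p = 2
    · subst hp2
      have hk2 : k ≤ 2 := by
        by_contra hk3
        have h2H : (2 : ℕ) ^ 3 ∣ Nat.card ↥H := (pow_dvd_pow 2 (by omega)).trans hpk
        obtain ⟨Q, hQ⟩ := Sylow.exists_subgroup_card_pow_prime 2 h2H
        -- an elementary subgroup of order eight in the centraliser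
        have hmap : Nat.card ↥(Q.map H.subtype) = 2 ^ 3 := by
          rw [Subgroup.card_map_of_injective H.subtype_injective, hQ]
        obtain ⟨S, hS⟩ := (IsPGroup.of_card hmap : IsPGroup 2 ↥(Q.map H.subtype)).exists_le_sylow
        have hSH : ∀ s ∈ S, s * z = z * s := by
          have : (S : Subgroup ↥(gG K m)) = Q.map H.subtype :=
            (Subgroup.eq_of_le_of_card_ge hS (by rw [hmap, MultW.ree_two_card hK S]; norm_num)).symm
          intro s hs
          obtain ⟨⟨y, hy⟩, -, rfl⟩ := this ▸ (show s ∈ (S : Subgroup ↥(gG K m)) from hs)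
          exact Subgroup.mem_centralizer_singleton_iff.1 hy
        -- a conjugate of the involution inside
        have h8S : Nat.card ↥(S : Subgroup ↥(gG K m)) = 8 := MultW.ree_two_card hK S
        haveI : Nontrivial ↥(S : Subgroup ↥(gG K m)) := Finite.one_lt_card_iff_nontrivial.1 (by omega)
        obtain ⟨⟨t, ht⟩, ht1⟩ := exists_ne (1 : ↥(S : Subgroup ↥(gG K m)))
        obtain ⟨g, rfl⟩ := invol_conj hK (sylow_two_elementary hK S ht) fun e => ht1 (Subtype.ext e)
        -- count in the centraliser of the involution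
        obtain ⟨P, hP⟩ := (IsPGroup.of_card (p := 2) (n := 1) (by rw [Nat.card_zpowers, orderOf_invA, pow_one]) :
          IsPGroup 2 ↥(Subgroup.zpowers (invA hK))).exists_le_sylow
        have hzc : (g⁻¹ * z * g) * invA hK = invA hK * (g⁻¹ * z * g) := by
          have := hSH _ ht
          calc _ = g⁻¹ * (z * (g * invA hK * g⁻¹)) * g := by group
            _ = _ := by rw [← this]; group
        have hcd := card_centralizer hK
        rw [hK, ← hq] at hcd
        set z' := g⁻¹ * z * g with hz'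
        have hz'o : orderOf z' = orderOf z := by
          rw [hz', show g⁻¹ * z * g = MulAut.conj g⁻¹ z by simp, MulEquiv.orderOf_eq]
        set S' : Subgroup ↥(gG K m) := (S : Subgroup ↥(gG K m)).map (MulAut.conj g⁻¹).toMonoidHom with hS'
        have hSc : ∀ s ∈ S', s * invA hK = invA hK * s ∧ s * z' = z' * s := by
          rintro _ ⟨s, hs, rfl⟩
          show g⁻¹ * s * g⁻¹⁻¹ * invA hK = invA hK * (g⁻¹ * s * g⁻¹⁻¹) ∧ g⁻¹ * s * g⁻¹⁻¹ * z' = z' * (g⁻¹ * s * g⁻¹⁻¹)
          have h1 : s * (g * invA hK * g⁻¹) = g * invA hK * g⁻¹ * s := by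
            have a1 := sylow_two_elementary hK S (mul_mem hs ht)
            have a2 := sylow_two_elementary hK S hs
            have a3 := sylow_two_elementary hK S ht
            set u := g * invA hK * g⁻¹
            calc s * u = s * u * ((u * s) * (u * s)) := by rw [sylow_two_elementary hK S (mul_mem ht hs), mul_one]
              _ = s * (u * u) * s * u * s := by group
              _ = _ := by rw [a3, mul_one, a2, one_mul]
          refine ⟨?_, ?_⟩
          · calc g⁻¹ * s * g⁻¹⁻¹ * invA hK = g⁻¹ * (s * (g * invA hK * g⁻¹)) * g := by group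
              _ = _ := by rw [h1]; group
          · have := hSH _ hs
            calc g⁻¹ * s * g⁻¹⁻¹ * z' = g⁻¹ * (s * z) * g := by rw [hz']; group
              _ = _ := by rw [this, hz']; group
        -- the eight elements lie in the centraliser of an odd element inside C(a)
        obtain ⟨x, hx'⟩ := centralizer_elems hK hzc
        have hz'' : z' = reeSL hK x := by
          rcases hx' with h | h
          · exact h
          · exfalso
            obtain ⟨r, hr⟩ := hodd
            have e1 : z' ^ (2 * r + 1) = 1 := by rw [← hr, ← hz'o, pow_orderOf_eq_one]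
            rw [h, (invA_comm_reeSL hK x).mul_pow, pow_succ (invA hK), pow_mul, pow_two, invA_sq, one_pow, one_mul,
              ← map_pow, mul_eq_one_iff_inv_eq, invA_inv] at e1
            exact invA_not_range hK _ e1.symm
        exact no_eight_cent hK hz'' (by rw [hz'o]; exact hodd) (fun e => hz1 (by
            rw [← orderOf_eq_one_iff, ← hz'o, e, orderOf_one]))
          S' (by rw [hS', Subgroup.card_map_of_injective (MulAut.conj g⁻¹).injective, h8S])
          (fun s hs => by obtain ⟨y, hy, rfl⟩ := hs; rw [← map_mul, sylow_two_elementary hK S hy, map_one]) hSc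
      exact (pow_dvd_pow 2 hk2).trans ⟨(q + 1) / 4, by omega⟩
    have hp5 : 5 ≤ p := by
      have h2 := hp.two_le
      by_contra h
      interval_cases p <;> first | omega | exact absurd hp (by norm_num)
    by_cases hpq : p ∣ q + 1
    · have hv := (small_ppart hK (m := m) hp hp5).2 (hq ▸ hpq)
      refine (pow_dvd_pow p ?_).trans (hv.trans ⟨4, by omega⟩)
      exact (hp.pow_dvd_iff_le_factorization Nat.card_pos.ne').1 (hpk.trans (Subgroup.card_subgroup_dvd_card H))
    exfalso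
    -- move x into a torus and read off its centraliser
    suffices hsuf : ∃ (C : Subgroup ↥(gG K m)) (g : ↥(gG K m)), Subgroup.centralizer {g * x * g⁻¹} = C ∧
        Nat.gcd ((q + 1) / 4) (Nat.card ↥C) = 1 by
      obtain ⟨C, g, hC, hgcd⟩ := hsuf
      have hzC : g * z * g⁻¹ ∈ C := by
        rw [← hC, Subgroup.mem_centralizer_singleton_iff]
        calc _ = g * (z * x) * g⁻¹ := by group
          _ = g * (x * z) * g⁻¹ := by rw [hxz]
          _ = _ := by group
      refine hcop _ ?_ hgcd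
      rw [show orderOf z = orderOf (g * z * g⁻¹) by rw [← MulAut.conj_apply, MulEquiv.orderOf_eq]]
      exact Subgroup.orderOf_dvd_natCard C hzC
    have hpG : p ∣ q ^ 3 * ((q - 1) * (q ^ 3 + 1)) := by
      rw [hq, ← card_gG hK]; exact hpH.trans (Subgroup.card_subgroup_dvd_card H)
    rcases hp.dvd_mul.1 hpG with h | h
    · exact absurd ((Nat.prime_dvd_prime_iff_eq hp Nat.prime_three).1 (hp.dvd_of_dvd_pow (hq ▸ hp.dvd_of_dvd_pow h))) hp3
    rcases hp.dvd_mul.1 h with h | h
    · obtain ⟨A, hA⟩ := exists_split_torus hK hm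
      haveI := hA.cyclic
      obtain ⟨g, hg⟩ := conj_into (A := A) (by rw [hA.card]; exact (small_ppart hK hp hp5).1 (hq ▸ h)) hx
      refine ⟨_, g, hA.cent _ hg fun e => hx1 (conj_eq_one_iff.1 e), ?_⟩
      rw [card_torT, ← hq]
      refine Nat.Coprime.gcd_eq_one (Nat.coprime_of_dvd fun r hr hr1 hr2 => ?_)
      have h2 : r ∣ q + 1 := hr1.trans ⟨4, by omega⟩
      have : r ∣ 2 := by
        have := Nat.dvd_sub h2 hr2
        rwa [show q + 1 - (q - 1) = 2 by omega] at this
      rw [(Nat.prime_dvd_prime_iff_eq hr Nat.prime_two).1 this] at hr1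
      omega
    · have hN : p ∣ q ^ 2 - q + 1 := by
        have hqq : q ≤ q ^ 2 := Nat.le_self_pow two_ne_zero q
        rw [show q ^ 3 + 1 = (q + 1) * (q ^ 2 - q + 1) by zify [hqq]; ring] at h
        exact (hp.dvd_mul.1 h).resolve_left hpq
      obtain ⟨A, k, hk, hA, hkN⟩ := large_torus_of_prime hK hm hp (hq ▸ hN)
      haveI := hA.cyclic
      obtain ⟨g, hg⟩ := conj_into (A := A) (by rw [hA.card]; exact hk) hx
      refine ⟨_, g, hA.cent _ hg fun e => hx1 (conj_eq_one_iff.1 e), ?_⟩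
      rw [hA.card]
      refine Nat.Coprime.gcd_eq_one (Nat.coprime_of_dvd fun r hr hr1 hr2 => ?_)
      have h2 : r ∣ q + 1 := hr1.trans ⟨4, by omega⟩
      have h2' : r ∣ q ^ 2 - q + 1 := hr2.trans (hq ▸ hkN)
      have h3 : r ∣ 3 := by
        have hqq : q ≤ q ^ 2 := Nat.le_self_pow two_ne_zero q
        have e1 : ((q ^ 2 - q + 1 : ℕ) : ℤ) - ((q : ℤ) - 2) * ((q + 1 : ℕ) : ℤ) = 3 := by push_cast [hqq]; ring
        exact Int.natCast_dvd_natCast.1 (idvd (dvd_sub (Int.natCast_dvd_natCast.2 h2')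
          ((Int.natCast_dvd_natCast.2 h2).mul_left _)) e1)
      rw [(Nat.prime_dvd_prime_iff_eq hr Nat.prime_three).1 h3] at h2
      omega
  refine (Subgroup.eq_of_le_of_card_ge hDH ?_).symm
  rw [hcD]
  exact Nat.le_of_dvd (by omega) hdiv

/-- The four-group in `dTor`. -/
noncomputable def fourGrp : Subgroup ↥(gG K m) where
  carrier := {g | g ∈ dTor hK ∧ g * g = 1}
  one_mem' := ⟨one_mem _, one_mul 1⟩
  mul_mem' := fun {g g'} h h' => ⟨mul_mem h.1 h'.1, by
    rw [(dTor_comm hK h'.1 h.1).mul_mul_mul_comm, h.2, h'.2, one_mul]⟩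
  inv_mem' := fun {g} h => ⟨inv_mem h.1, by rw [← mul_inv_rev, h.2, inv_one]⟩

theorem rot_invol : reeSL hK SLTwoRel.rot * reeSL hK SLTwoRel.rot = 1 := by
  rw [← map_mul, (quat_facts hK).1, reeSL_neg_one]

theorem circ_sq {y : SL(2, K)} (hy : y ∈ circ K) (h : y * y = -1) : reeSL hK y = reeSL hK SLTwoRel.rot := by
  have hn := neg_one_nonsquare hK
  have hrot : SLTwoRel.rot ∈ circ K := Subgroup.mem_centralizer_singleton_iff.2 rfl
  have hc : y * SLTwoRel.rot = SLTwoRel.rot * y := Subgroup.mem_centralizer_singleton_iff.1 hy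
  have hyr : (y * SLTwoRel.rot) * (y * SLTwoRel.rot) = 1 := by
    nth_rewrite 1 [hc]
    rw [mul_assoc, ← mul_assoc y, h, neg_mul, one_mul, mul_neg, (quat_facts hK).1, neg_neg]
  have hinv : (SLTwoRel.rot : SL(2, K))⁻¹ = -SLTwoRel.rot :=
    inv_eq_of_mul_eq_one_right (by rw [mul_neg, (quat_facts hK).1, neg_neg])
  rw [reeSL_eq_iff]
  rcases circ_sq_one hn (two_ne hK) (mul_mem hy hrot) hyr with h' | h'
  · right; rw [← hinv]; exact eq_inv_of_mul_eq_one_left h'
  · left
    calc y = y * SLTwoRel.rot * (SLTwoRel.rot)⁻¹ := by rw [mul_inv_cancel_right]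
      _ = SLTwoRel.rot := by rw [h', hinv, neg_mul, one_mul, neg_neg]

theorem four_cases {g : ↥(gG K m)} (h : g ∈ fourGrp hK) :
    g = 1 ∨ g = invA hK ∨ g = reeSL hK SLTwoRel.rot ∨ g = invA hK * reeSL hK SLTwoRel.rot := by
  obtain ⟨⟨y, hy, e⟩, h2⟩ := h
  have hyy : reeSL hK y * reeSL hK y = 1 := by
    rcases e with rfl | rfl
    · exact h2
    · rwa [(invA_comm_reeSL hK y).symm.mul_mul_mul_comm, invA_sq, one_mul] at h2
  rw [← map_mul, ← map_one (reeSL hK), reeSL_eq_iff] at hyy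
  have hy' : reeSL hK y = 1 ∨ reeSL hK y = reeSL hK SLTwoRel.rot := by
    rcases hyy with h | h
    · left
      rcases circ_sq_one (neg_one_nonsquare hK) (two_ne hK) hy h with rfl | rfl
      · exact map_one _
      · exact reeSL_neg_one hK
    · exact Or.inr (circ_sq hK hy h)
  rcases e with rfl | rfl <;> rcases hy' with h | h <;> rw [h] <;> simp

theorem invA_mem_four : invA hK ∈ fourGrp hK := ⟨invA_mem_dTor hK, invA_sq hK⟩

theorem rot_mem_four : reeSL hK SLTwoRel.rot ∈ fourGrp hK := ⟨rot_mem_dTor hK, rot_invol hK⟩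

/-- The reflection keeps `dTor`. -/
theorem qJ_norm {g : ↥(gG K m)} (h : g ∈ dTor hK) : reeSL hK qJ * g * (reeSL hK qJ)⁻¹ ∈ dTor hK := by
  obtain ⟨y, hy, e⟩ := h
  obtain ⟨hi, hj, hji, -, -⟩ := quat_facts hK
  refine ⟨qJ * y * qJ⁻¹, ?_, ?_⟩
  · have hyr : y * SLTwoRel.rot = SLTwoRel.rot * y := Subgroup.mem_centralizer_singleton_iff.1 hy
    have h1 : (qJ : SL(2, K))⁻¹ * SLTwoRel.rot = -(SLTwoRel.rot * qJ⁻¹) := by
      rw [inv_mul_eq_iff_eq_mul, mul_neg, ← mul_assoc, hji, neg_mul, neg_neg, mul_inv_cancel_right]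
    refine Subgroup.mem_centralizer_singleton_iff.2 ?_
    rw [mul_assoc, h1, mul_neg, ← mul_assoc, mul_assoc qJ y, hyr, ← mul_assoc qJ, hji, neg_mul, neg_mul, neg_neg]
    group
  · rcases e with rfl | rfl
    · exact Or.inl (by rw [map_mul, map_mul, map_inv])
    · refine Or.inr ?_
      rw [map_mul, map_mul, map_inv, ← mul_assoc (reeSL hK qJ) (invA hK), ← (invA_comm_reeSL hK qJ).eq]
      group

/-- The stabiliser of the involution and the four-group. -/
theorem stab_four {g : ↥(gG K m)} (hga : g * invA hK = invA hK * g)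
    (hgI : g * reeSL hK SLTwoRel.rot * g⁻¹ ∈ fourGrp hK) : g ∈ dTor hK ∨ g * (reeSL hK qJ)⁻¹ ∈ dTor hK := by
  obtain ⟨x, hx⟩ := centralizer_elems hK hga
  have hI : g * reeSL hK SLTwoRel.rot * g⁻¹ = reeSL hK (x * SLTwoRel.rot * x⁻¹) := by
    rw [map_mul, map_mul, map_inv]
    rcases hx with rfl | rfl
    · rfl
    · rw [show invA hK * reeSL hK x * reeSL hK SLTwoRel.rot * (invA hK * reeSL hK x)⁻¹ =
        invA hK * (reeSL hK x * reeSL hK SLTwoRel.rot * (reeSL hK x)⁻¹) * (invA hK)⁻¹ by group, ← map_inv, ← map_mul,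
        ← map_mul, (invA_comm_reeSL hK _).eq, mul_inv_cancel_right]
  rw [hI] at hgI
  have hne : ∀ z, reeSL hK z ≠ invA hK := invA_not_range hK
  have hrot : reeSL hK (x * SLTwoRel.rot * x⁻¹) = reeSL hK SLTwoRel.rot := by
    rcases four_cases hK hgI with h | h | h | h
    · exfalso
      rw [map_mul, map_mul, map_inv, conj_eq_one_iff, ← map_one (reeSL hK), reeSL_eq_iff] at h
      rcases h with h | h <;>
        · have := congrArg (fun X : SL(2, K) => X.1 0 1) h
          simp [SLTwoRel.coe_rot] at this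
    · exact absurd h (hne _)
    · exact h
    · exfalso
      rw [← mul_inv_eq_iff_eq_mul, ← map_inv, ← map_mul] at h
      exact hne _ h
  have hmem : ∀ {u : SL(2, K)} {g' : ↥(gG K m)}, u ∈ circ K → (g' = reeSL hK u ∨ g' = invA hK * reeSL hK u) →
      g' ∈ dTor hK := fun hu e => ⟨_, hu, e⟩
  rcases (reeSL_eq_iff hK).1 hrot with h | h
  · exact Or.inl (hmem (Subgroup.mem_centralizer_singleton_iff.2 (mul_inv_eq_iff_eq_mul.1 h)) hx)
  · obtain ⟨hi, hj, hji, -, -⟩ := quat_facts hK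
    refine Or.inr (hmem (u := x * qJ⁻¹) (Subgroup.mem_centralizer_singleton_iff.2 ?_) ?_)
    · have hxr : x * SLTwoRel.rot = -(SLTwoRel.rot * x) := by rw [← neg_mul]; exact mul_inv_eq_iff_eq_mul.1 h
      have h1 : (qJ : SL(2, K))⁻¹ * SLTwoRel.rot = -(SLTwoRel.rot * qJ⁻¹) := by
        rw [inv_mul_eq_iff_eq_mul, mul_neg, ← mul_assoc, hji, neg_mul, neg_neg, mul_inv_cancel_right]
      rw [mul_assoc, h1, mul_neg, ← mul_assoc, hxr, neg_mul, neg_neg, mul_assoc]
    · rw [map_mul, map_inv]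
      rcases hx with rfl | rfl
      · exact Or.inl rfl
      · exact Or.inr (mul_assoc _ _ _)

omit hK in
/-- Sylow's congruence for a cyclic subgroup. -/
theorem sylow_index {G : Type*} [Group G] [Finite G] {A N : Subgroup G} [IsCyclic A] {p : ℕ} [Fact p.Prime]
    (hA : p ^ (Nat.card G).factorization p ∣ Nat.card A) (hp : p ∣ Nat.card G)
    (hN : ∀ A₀ : Subgroup G, A₀ ≤ A → A₀ ≠ ⊥ → Subgroup.normalizer (A₀ : Set G) = N) : N.index % p = 1 := by
  have hp' : p.Prime := Fact.out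
  obtain ⟨⟨a, ha⟩, hgen⟩ := IsCyclic.exists_generator (α := A)
  have hoa : orderOf a = Nat.card A := by
    rw [show a = ((⟨a, ha⟩ : A) : G) from rfl, Subgroup.orderOf_coe, orderOf_eq_card_of_forall_mem_zpowers hgen]
  obtain ⟨c, hc⟩ := hA
  have hc0 : c ≠ 0 := fun e => by rw [e, mul_zero] at hc; exact Nat.card_pos.ne' hc
  have hoc : orderOf (a ^ c) = p ^ (Nat.card G).factorization p := by
    rw [orderOf_pow_of_dvd hc0 (by rw [hoa, hc]; exact dvd_mul_left _ _), hoa, hc,
      Nat.mul_div_cancel _ (Nat.pos_of_ne_zero hc0)]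
  let Q : Sylow p G := Sylow.ofCard (Subgroup.zpowers (a ^ c)) (by rw [Nat.card_zpowers, hoc])
  have hQne : Subgroup.zpowers (a ^ c) ≠ ⊥ := fun h => by
    have h1 := congrArg (fun S : Subgroup G => Nat.card S) h
    simp only [Nat.card_zpowers, hoc, Subgroup.card_bot, Nat.pow_eq_one, hp'.one_lt.ne', false_or] at h1
    exact (hp'.factorization_pos_of_dvd Nat.card_pos.ne' hp).ne' h1
  have h1 := card_sylow_modEq_one p G
  have h2 := Sylow.card_eq_index_normalizer Q
  have h3 : Subgroup.normalizer ((Q : Subgroup G) : Set G) = N := hN _ (Subgroup.zpowers_le.2 (pow_mem ha c)) hQne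
  rw [← h3]
  erw [← h2]
  rw [h1, Nat.mod_eq_of_lt hp'.one_lt]

set_option maxHeartbeats 1000000 in
/-- The torus of order `(q + 1) / 4`. -/
theorem exists_half_torus (hm : 1 ≤ m) :
    ∃ A : Subgroup ↥(gG K m), IsTorus A (dTor hK) ((3 ^ (2 * m + 1) + 1) / 4) (6 * (3 ^ (2 * m + 1) + 1)) ∧
      (∀ z, z ∈ A ↔ z ∈ dTor hK ∧ z ^ ((3 ^ (2 * m + 1) + 1) / 4) = 1) ∧
      Subgroup.normalizer (fourGrp hK : Set ↥(gG K m)) = Subgroup.normalizer (A : Set ↥(gG K m)) := by
  classical
  obtain ⟨A, hAc, hAk, hAmem⟩ := exists_half hK hm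
  haveI := hAc
  have h8 := q_mod_eight hK
  obtain ⟨q, hq⟩ : ∃ q : ℕ, q = 3 ^ (2 * m + 1) := ⟨_, rfl⟩
  have h27 : 27 ≤ q := hq ▸ (by norm_num : 27 ≤ 3 ^ 3).trans (Nat.pow_le_pow_right (by norm_num) (by omega))
  have hcent : ∀ y ∈ A, y ≠ 1 → Subgroup.centralizer {y} = dTor hK := fun y hy hy1 =>
    centralizer_half hK hm ((hAmem y).1 hy).1 ((hAmem y).1 hy).2 hy1
  have hAle : A ≤ dTor hK := fun y hy => ((hAmem y).1 hy).1
  have key : ∀ g, (∀ d ∈ dTor hK, g * d * g⁻¹ ∈ dTor hK) → g ∈ Subgroup.normalizer (dTor hK : Set ↥(gG K m)) := by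
    intro g hg
    have hmap : (dTor hK).map (MulAut.conj g).toMonoidHom = dTor hK := by
      refine Subgroup.eq_of_le_of_card_ge ?_ (by rw [Subgroup.card_map_of_injective (MulAut.conj g).injective])
      rintro _ ⟨d, hd, rfl⟩
      exact hg d hd
    refine Subgroup.mem_normalizer_iff.2 fun z => ⟨hg z, fun hz => ?_⟩
    obtain ⟨y, hy, e⟩ := hmap.ge hz
    rwa [← (MulAut.conj g).injective e]
  have hNDA : Subgroup.normalizer (dTor hK : Set ↥(gG K m)) ≤ Subgroup.normalizer (A : Set ↥(gG K m)) := by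
    intro g hg
    refine Subgroup.mem_normalizer_iff.2 fun z => ?_
    rw [hAmem, hAmem, conj_pow, conj_eq_one_iff]
    exact and_congr_left' (Subgroup.mem_normalizer_iff.1 hg z)
  have hN : ∀ A₀ : Subgroup ↥(gG K m), A₀ ≤ A → A₀ ≠ ⊥ →
      Subgroup.normalizer (A₀ : Set ↥(gG K m)) = Subgroup.normalizer (A : Set ↥(gG K m)) := by
    intro A₀ h0 h1
    obtain ⟨⟨y, hy⟩, hy1⟩ := A₀.ne_bot_iff_exists_ne_one.1 h1
    exact le_antisymm ((norm_le_cent hy (fun e => hy1 (Subtype.ext e)) fun z hz hz1 => hcent z (h0 hz) hz1).trans hNDA)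
      (norm_le_norm h0)
  have hAne : A ≠ ⊥ := fun h => by rw [h, Subgroup.card_bot] at hAk; omega
  have hND : Subgroup.normalizer (A : Set ↥(gG K m)) = Subgroup.normalizer (dTor hK : Set ↥(gG K m)) := by
    obtain ⟨⟨y, hy⟩, hy1⟩ := A.ne_bot_iff_exists_ne_one.1 hAne
    exact le_antisymm (norm_le_cent hy (fun e => hy1 (Subtype.ext e)) hcent) hNDA
  set N := Subgroup.normalizer (fourGrp hK : Set ↥(gG K m)) with hNdef
  have hDN : Subgroup.normalizer (dTor hK : Set ↥(gG K m)) ≤ N := by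
    intro g hg
    refine Subgroup.mem_normalizer_iff.2 fun z => ?_
    show z ∈ dTor hK ∧ z * z = 1 ↔ g * z * g⁻¹ ∈ dTor hK ∧ g * z * g⁻¹ * (g * z * g⁻¹) = 1
    rw [show g * z * g⁻¹ * (g * z * g⁻¹) = g * (z * z) * g⁻¹ by group, conj_eq_one_iff]
    exact and_congr_left' (Subgroup.mem_normalizer_iff.1 hg z)
  set St := N ⊓ Subgroup.centralizer {invA hK} with hSt
  have hJD : reeSL hK qJ ∈ Subgroup.normalizer (dTor hK : Set ↥(gG K m)) := key _ fun d hd => qJ_norm hK hd
  have hSD : St ≤ Subgroup.normalizer (dTor hK : Set ↥(gG K m)) := by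
    rintro g ⟨hgN, hga⟩
    rcases stab_four hK (Subgroup.mem_centralizer_singleton_iff.1 hga)
      ((Subgroup.mem_normalizer_iff.1 hgN _).1 (rot_mem_four hK)) with h | h
    · exact Subgroup.le_normalizer h
    · rw [show g = g * (reeSL hK qJ)⁻¹ * reeSL hK qJ by group]
      exact mul_mem (Subgroup.le_normalizer h) hJD
  have hJne : reeSL hK qJ ∉ dTor hK := by
    rintro ⟨y, hy, e⟩
    rcases e with e | e
    · obtain ⟨hi, hj, hji, -, -⟩ := quat_facts hK
      rcases (reeSL_eq_iff hK).1 e with rfl | h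
      · obtain ⟨b1, b2⟩ := mem_circ.1 hy
        simp [coe_qJ hK] at b1
        exact two_ne hK (by linear_combination b1)
      · have hy' : qJ ∈ circ K := h ▸ (by
          have := mem_circ.1 hy
          exact mem_circ.2 ⟨by simp [this.1], by simp [this.2]⟩)
        obtain ⟨b1, b2⟩ := mem_circ.1 hy'
        simp [coe_qJ hK] at b1
        exact two_ne hK (by linear_combination b1)
    · exact invA_not_range hK (qJ * y⁻¹) (by rw [map_mul, map_inv, e, mul_inv_cancel_right])
  have hStcard : Nat.card ↥St = 2 * (q + 1) := by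
    have hDSt : dTor hK ≤ St := fun d hd => ⟨hDN (Subgroup.le_normalizer hd),
      Subgroup.mem_centralizer_singleton_iff.2 (dTor_comm hK hd (invA_mem_dTor hK)).eq⟩
    have hJSt : reeSL hK qJ ∈ St := ⟨hDN hJD, Subgroup.mem_centralizer_singleton_iff.2 (invA_comm_reeSL hK qJ).eq.symm⟩
    let F : Fin 2 × ↥(dTor hK) → ↥St := fun p =>
      ⟨(p.2 : ↥(gG K m)) * reeSL hK qJ ^ (p.1 : ℕ), mul_mem (hDSt p.2.2) (pow_mem hJSt _)⟩
    rw [← Nat.card_eq_of_bijective F ?_, Nat.card_prod, Nat.card_fin, card_dTor, hq]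
    refine ⟨?_, fun g => ?_⟩
    · rintro ⟨i, d⟩ ⟨j, e⟩ h
      have h' : (d : ↥(gG K m)) * reeSL hK qJ ^ (i : ℕ) = (e : ↥(gG K m)) * reeSL hK qJ ^ (j : ℕ) := congrArg Subtype.val h
      have hij : i = j := by
        by_contra hne
        refine hJne ?_
        fin_cases i <;> fin_cases j <;> simp at hne h'
        · rw [show reeSL hK qJ = (e : ↥(gG K m))⁻¹ * d by rw [h']; group]
          exact mul_mem (inv_mem e.2) d.2
        · rw [show reeSL hK qJ = (d : ↥(gG K m))⁻¹ * e by rw [← h']; group]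
          exact mul_mem (inv_mem d.2) e.2
      subst hij
      exact congrArg _ (Subtype.ext (mul_right_cancel h'))
    · rcases stab_four hK (Subgroup.mem_centralizer_singleton_iff.1 g.2.2)
        ((Subgroup.mem_normalizer_iff.1 g.2.1 _).1 (rot_mem_four hK)) with h | h
      · exact ⟨(0, ⟨_, h⟩), Subtype.ext (by simp [F])⟩
      · exact ⟨(1, ⟨_, h⟩), Subtype.ext (by simp [F])⟩
  have hidx : (St.subgroupOf N).index ≤ 3 := by
    let s : Finset ↥(gG K m) := {invA hK, reeSL hK SLTwoRel.rot, invA hK * reeSL hK SLTwoRel.rot}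
    have hmem : ∀ g : ↥N, (g : ↥(gG K m)) * invA hK * (g : ↥(gG K m))⁻¹ ∈ s := fun g => by
      simp only [s, Finset.mem_insert, Finset.mem_singleton]
      exact (four_cases hK ((Subgroup.mem_normalizer_iff.1 g.2 _).1 (invA_mem_four hK))).resolve_left
        fun h => invA_ne_one hK (conj_eq_one_iff.1 h)
    let f : ↥N ⧸ St.subgroupOf N → ↥s := fun x => ⟨_, hmem x.out⟩
    have hf : Function.Injective f := by
      intro x y e
      have hconj : (x.out : ↥(gG K m)) * invA hK * (x.out : ↥(gG K m))⁻¹ =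
          (y.out : ↥(gG K m)) * invA hK * (y.out : ↥(gG K m))⁻¹ := congrArg Subtype.val e
      rw [← QuotientGroup.out_eq' x, ← QuotientGroup.out_eq' y, QuotientGroup.eq, Subgroup.mem_subgroupOf]
      refine Subgroup.mem_inf.2 ⟨(x.out⁻¹ * y.out).2, Subgroup.mem_centralizer_singleton_iff.2 ?_⟩
      show (x.out : ↥(gG K m))⁻¹ * y.out * invA hK = invA hK * ((x.out : ↥(gG K m))⁻¹ * y.out)
      calc (x.out : ↥(gG K m))⁻¹ * y.out * invA hK
          = (x.out : ↥(gG K m))⁻¹ * ((y.out : ↥(gG K m)) * invA hK * (y.out : ↥(gG K m))⁻¹) * y.out := by group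
        _ = _ := by rw [← hconj]; group
    rw [Subgroup.index]
    refine (Nat.card_le_card_of_injective f hf).trans ?_
    rw [Nat.card_eq_fintype_card, Fintype.card_coe]
    exact Finset.card_le_three
  have hNcard : Nat.card ↥N = (St.subgroupOf N).index * (2 * (q + 1)) := by
    rw [← Subgroup.card_mul_index (St.subgroupOf N), mul_comm, Nat.card_congr (Subgroup.subgroupOfEquivOfLe inf_le_left).toEquiv, hStcard]
  set NA := Subgroup.normalizer (A : Set ↥(gG K m)) with hNA
  have hStNA : St ≤ NA := hND ▸ hSD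
  obtain ⟨f, hf⟩ : 2 * (q + 1) ∣ Nat.card ↥NA := hStcard ▸ Subgroup.card_dvd_of_le hStNA
  have hNAN : NA ≤ N := hND ▸ hDN
  have hf3 : f ≤ 3 := by
    have h1 := Subgroup.card_le_card_group (NA.subgroupOf N)
    rw [Nat.card_congr (Subgroup.subgroupOfEquivOfLe hNAN).toEquiv, hf, hNcard, mul_comm _ (2 * (q + 1))] at h1
    exact (Nat.le_of_mul_le_mul_left h1 (by omega)).trans hidx
  obtain ⟨p, hp, hpk⟩ := Nat.exists_prime_and_dvd (show (q + 1) / 4 ≠ 1 by omega)
  haveI : Fact p.Prime := ⟨hp⟩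
  have h3q : q % 3 = 0 := by rw [hq, pow_succ]; omega
  have hpq : p ∣ q + 1 := hpk.trans ⟨4, by omega⟩
  have hp5 : 5 ≤ p := by
    have h2 := hp.two_le
    by_contra h
    have h4 : p = 2 ∨ p = 3 := by interval_cases p <;> first | omega | exact absurd hp (by norm_num)
    rcases h4 with rfl | rfl <;> omega
  have hG := card_gG hK
  rw [← hq] at hG
  have hpG : p ∣ Nat.card ↥(gG K m) := (hq ▸ hpk : p ∣ (3 ^ (2 * m + 1) + 1) / 4).trans (hAk ▸ Subgroup.card_subgroup_dvd_card A)
  have hI := sylow_index (N := NA) (by rw [hAk]; exact (small_ppart hK hp hp5).2 (hq ▸ hpq)) hpG hN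
  have hqq : q ≤ q ^ 2 := Nat.le_self_pow two_ne_zero q
  have hprod : NA.index * (2 * f) = q ^ 3 * ((q - 1) * (q ^ 2 - q + 1)) := by
    have h1 := Subgroup.card_mul_index NA
    rw [hf, hG, show q ^ 3 + 1 = (q + 1) * (q ^ 2 - q + 1) by zify [hqq]; ring] at h1
    refine Nat.eq_of_mul_eq_mul_left (show 0 < q + 1 by omega) ?_
    calc (q + 1) * (NA.index * (2 * f)) = 2 * (q + 1) * f * NA.index := by ring
      _ = _ := by rw [h1]; ring
  have hf' : f = 3 := by
    have h1 := congrArg (fun n : ℕ => (n : ZMod p)) hprod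
    have hI' : ((NA.index : ℕ) : ZMod p) = 1 := by rw [← ZMod.natCast_mod, hI, Nat.cast_one]
    have hQ : (q : ZMod p) = -1 := by
      have := (ZMod.natCast_eq_zero_iff (q + 1) p).2 hpq
      push_cast at this; linear_combination this
    push_cast [hqq, (by omega : 1 ≤ q)] at h1
    rw [hI', hQ, one_mul] at h1
    have h6 : ((2 * f : ℕ) : ZMod p) = ((2 * 3 : ℕ) : ZMod p) := by push_cast; linear_combination h1
    rw [ZMod.natCast_eq_natCast_iff] at h6
    have h7 := Nat.ModEq.cancel_left_of_coprime ((Nat.coprime_primes hp Nat.prime_two).2 (by omega)) h6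
    unfold Nat.ModEq at h7
    rwa [Nat.mod_eq_of_lt (by omega), Nat.mod_eq_of_lt (by omega)] at h7
  have hNA6 : Nat.card ↥NA = 6 * (3 ^ (2 * m + 1) + 1) := by rw [hf, hf', ← hq]; ring
  refine ⟨A, ⟨hAc, hAk, hNA6, hAle, hcent, hN⟩, hAmem, ?_⟩
  refine (Subgroup.eq_of_le_of_card_ge hNAN ?_).symm
  rw [hNA6, hNcard, ← hq]
  calc (St.subgroupOf N).index * (2 * (q + 1)) ≤ 3 * (2 * (q + 1)) := Nat.mul_le_mul_right _ hidx
    _ = _ := by ring

end Cfsg.Lib.Chev.Ree
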