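import Cfsg.Agent.Lib.Chev.ReeToriLarge
import Cfsg.Agent.Lib.Chev.ReeSylowTwo

/-! The tori of orders `(q - 1) / 2` and `(q + 1) / 4` of ²G₂(q). -/

set_option autoImplicit false
set_option linter.unusedSectionVars false
set_option maxRecDepth 100000

namespace Cfsg.Lib.Chev.Ree

open Cfsg.Lie Cfsg.Lib.Chev Cfsg.Lib.Chev.G2Aut
open scoped MatrixGroups

/-- A cyclic subgroup holding a whole Sylow subgroup meets every class of elements of that prime order. -/
theorem conj_into {G : Type*} [Group G] [Finite G] {p : ℕ} [Fact p.Prime] {A : Subgroup G} [IsCyclic A]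
    (hA : p ^ (Nat.card G).factorization p ∣ Nat.card A) {x : G} (hx : orderOf x = p) : ∃ g, g * x * g⁻¹ ∈ A := by
  obtain ⟨⟨a, ha⟩, hgen⟩ := IsCyclic.exists_generator (α := A)
  have hoa : orderOf a = Nat.card A := by
    rw [show a = ((⟨a, ha⟩ : A) : G) from rfl, Subgroup.orderOf_coe, orderOf_eq_card_of_forall_mem_zpowers hgen]
  obtain ⟨c, hc⟩ := hA
  have hc0 : c ≠ 0 := fun e => by rw [e, mul_zero] at hc; exact Nat.card_pos.ne' hc
  have hoc : orderOf (a ^ c) = p ^ (Nat.card G).factorization p := by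
    rw [orderOf_pow_of_dvd hc0 (by rw [hoa, hc]; exact dvd_mul_left _ _), hoa, hc,
      Nat.mul_div_cancel _ (Nat.pos_of_ne_zero hc0)]
  let Q : Sylow p G := Sylow.ofCard (Subgroup.zpowers (a ^ c)) (by rw [Nat.card_zpowers, hoc])
  have hxP : IsPGroup p ↥(Subgroup.zpowers x) := IsPGroup.of_card (n := 1) (by rw [Nat.card_zpowers, hx, pow_one])
  obtain ⟨P, hP⟩ := hxP.exists_le_sylow
  obtain ⟨g, hg⟩ := MulAction.exists_smul_eq G P Q
  refine ⟨g, ?_⟩
  have h : g * x * g⁻¹ ∈ ((g • P : Sylow p G) : Subgroup G) := by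
    rw [Sylow.coe_subgroup_smul]; exact ⟨x, hP (Subgroup.mem_zpowers x), rfl⟩
  rw [hg] at h
  exact Subgroup.zpowers_le.2 (pow_mem ha c) h

variable {K : Type*} [Field K] [Fintype K] [CharP K esymG2.p] {m : ℕ} (hK : Fintype.card K = 3 ^ (2 * m + 1))
include hK

omit hK in
/-- The arithmetic of the order. -/
theorem ppart_arith {p : ℕ} (hp : p.Prime) (hp5 : 5 ≤ p) {q : ℕ} (hq : 1 ≤ q) (hq3 : ¬ p ∣ q) {v : ℕ}
    (hd : p ^ v ∣ q ^ 3 * ((q - 1) * (q ^ 3 + 1))) :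
    (p ∣ q - 1 → p ^ v ∣ q - 1) ∧ (p ∣ q + 1 → p ^ v ∣ q + 1) := by
  haveI : Fact p.Prime := ⟨hp⟩
  have zd : ∀ n : ℕ, p ∣ n ↔ (n : ZMod p) = 0 := fun n => (ZMod.natCast_eq_zero_iff n p).symm
  have h2 : ¬ p ∣ 2 := fun h => by have := Nat.le_of_dvd two_pos h; omega
  have h3 : ¬ p ∣ 3 := fun h => by have := Nat.le_of_dvd three_pos h; omega
  have hqq : q ≤ q ^ 2 := Nat.le_self_pow two_ne_zero q
  have hfac : q ^ 3 + 1 = (q + 1) * (q ^ 2 - q + 1) := by zify [hqq]; ring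
  refine ⟨fun h1 => ?_, fun h1 => ?_⟩
  · refine MultW.prime_pow_dvd_left hp (b := q ^ 3 * (q ^ 3 + 1)) (by rwa [show (q - 1) * (q ^ 3 * (q ^ 3 + 1)) = q ^ 3 * ((q - 1) * (q ^ 3 + 1)) by ring]) fun h => ?_
    rcases hp.dvd_mul.1 h with h | h
    · exact hq3 (hp.dvd_of_dvd_pow h)
    · refine h2 ((zd 2).2 ?_)
      rw [zd, Nat.cast_sub hq, Nat.cast_one, sub_eq_zero] at h1
      rw [zd] at h
      push_cast at h ⊢
      rw [h1] at h; linear_combination h
  · refine MultW.prime_pow_dvd_left hp (b := q ^ 3 * ((q - 1) * (q ^ 2 - q + 1))) (by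
      rwa [show (q + 1) * (q ^ 3 * ((q - 1) * (q ^ 2 - q + 1))) = q ^ 3 * ((q - 1) * ((q + 1) * (q ^ 2 - q + 1))) by ring,
        ← hfac]) fun h => ?_
    rw [zd] at h1
    push_cast at h1
    have hq1 : (q : ZMod p) = -1 := by linear_combination h1
    rcases hp.dvd_mul.1 h with h | h
    · exact hq3 (hp.dvd_of_dvd_pow h)
    rcases hp.dvd_mul.1 h with h | h
    · rw [zd, Nat.cast_sub hq, Nat.cast_one, hq1] at h
      exact h2 ((zd 2).2 (by push_cast; linear_combination -h))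
    · rw [zd, Nat.cast_add, Nat.cast_sub hqq, Nat.cast_pow, Nat.cast_one, hq1] at h
      exact h3 ((zd 3).2 (by push_cast; linear_combination h))

/-- The Sylow part at a prime of `(q - 1) / 2` or of `(q + 1) / 4`. -/
theorem small_ppart {p : ℕ} (hp : p.Prime) (hp5 : 5 ≤ p) :
    (p ∣ 3 ^ (2 * m + 1) - 1 → p ^ (Nat.card ↥(gG K m)).factorization p ∣ (3 ^ (2 * m + 1) - 1) / 2) ∧
    (p ∣ 3 ^ (2 * m + 1) + 1 → p ^ (Nat.card ↥(gG K m)).factorization p ∣ (3 ^ (2 * m + 1) + 1) / 4) := by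
  have hd := Nat.ordProj_dvd (Nat.card ↥(gG K m)) p
  generalize (Nat.card ↥(gG K m)).factorization p = v at hd ⊢
  rw [card_gG hK] at hd
  obtain ⟨h1, h2⟩ := ppart_arith hp hp5 (q := 3 ^ (2 * m + 1)) (Nat.one_le_pow _ _ (by norm_num)) (fun h => by
    have := Nat.le_of_dvd three_pos (hp.dvd_of_dvd_pow h); omega) hd
  have h8 : 3 ^ (2 * m + 1) % 8 = 3 := by
    rw [pow_succ, pow_mul, Nat.mul_mod, Nat.pow_mod]; norm_num
  have hn2 : ¬ p ∣ 2 := fun h => by have := Nat.le_of_dvd two_pos h; omega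
  refine ⟨fun h => MultW.prime_pow_dvd_left hp (b := 2) ?_ hn2, fun h => ?_⟩
  · rw [Nat.div_mul_cancel (by omega)]; exact h1 h
  · refine MultW.prime_pow_dvd_left hp (b := 4) ?_ fun h4 => hn2 (hp.dvd_of_dvd_pow (n := 2) h4)
    rw [Nat.div_mul_cancel (by omega)]; exact h2 h

/-- The decomposition in the big cell of an element carrying one torus element to another. -/
theorem cell_conj {n w c : ↥(gG K m)} (hn : LongRep n) (hw : w ∈ posG K m) (hc : c ∈ posG K m) {s s' z : Kˣ}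
    (e : eT hK s * (w * eT hK z * n * c) = w * eT hK z * n * c * eT hK s') :
    eT hK s * w * (eT hK s)⁻¹ = w ∧ eT hK s' * c * (eT hK s')⁻¹ = c ∧ eT hK s = n * eT hK s' * n⁻¹ := by
  obtain ⟨d, hd⟩ := exists_eT hK (hn.torus _ (eT_mem hK s'))
  have hB : ∀ y, eT hK y ∈ borG K m := fun y => Subgroup.mem_subgroupOf.2 (Subgroup.mem_sup_right (eT_mem hK y))
  set x := eT hK s with hx
  set x' := eT hK s' with hx'
  have e1 : n⁻¹ * ((w * eT hK z)⁻¹ * (x * w * x⁻¹ * eT hK z * (x * (n * x' * n⁻¹)⁻¹))) * n = c * (x' * c * x'⁻¹)⁻¹ := by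
    calc _ = n⁻¹ * (w * eT hK z)⁻¹ * (x * w * x⁻¹ * (eT hK z * x) * n * (x'⁻¹ * n⁻¹ * n)) := by group
      _ = n⁻¹ * (w * eT hK z)⁻¹ * (x * w * x⁻¹ * (x * eT hK z) * n * (x'⁻¹ * n⁻¹ * n)) := by
          rw [(eT_comm hK z s).eq]
      _ = n⁻¹ * (w * eT hK z)⁻¹ * (x * (w * eT hK z * n * c)) * c⁻¹ * x'⁻¹ := by group
      _ = _ := by rw [e]; group
  have hX : (w * eT hK z)⁻¹ * (x * w * x⁻¹ * eT hK z * (x * (n * x' * n⁻¹)⁻¹)) ∈ borG K m :=
    mul_mem (inv_mem (mul_mem (pos_le_bor hw) (hB z))) (mul_mem (mul_mem (pos_le_bor (bor_norm (hB s) hw)) (hB z))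
      (mul_mem (hB s) (inv_mem (hd ▸ hB d))))
  have h1 := hn.unique hX (mul_mem hc (inv_mem (bor_norm (hB s') hc))) e1
  rw [h1] at e1
  have h2 : x * w * x⁻¹ * eT hK z * (x * (eT hK d)⁻¹) = w * eT hK z := by
    rw [← hd]
    calc _ = w * eT hK z * (n * (n⁻¹ * ((w * eT hK z)⁻¹ * (x * w * x⁻¹ * eT hK z * (x * (n * x' * n⁻¹)⁻¹))) * n) * n⁻¹) := by group
      _ = _ := by rw [e1]; group
  have h3 : w⁻¹ * (x * w * x⁻¹) = eT hK z * (eT hK z * (x * (eT hK d)⁻¹))⁻¹ := by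
    rw [eq_mul_inv_iff_mul_eq]
    calc _ = w⁻¹ * (x * w * x⁻¹ * eT hK z * (x * (eT hK d)⁻¹)) := by group
      _ = _ := by rw [h2]; group
  have h4 : ((w⁻¹ * (x * w * x⁻¹) : ↥(gG K m)) : GL chevG2.Idx K) ∈ chevG2.posUnipotent K ⊓ chevG2.diagonalSubgroup K := by
    refine ⟨Subgroup.mem_subgroupOf.1 (mul_mem (inv_mem hw) (bor_norm (hB s) hw)), ?_⟩
    rw [h3]
    exact Subgroup.mul_mem _ (eT_mem hK z) (Subgroup.inv_mem _ (Subgroup.mul_mem _ (eT_mem hK z)
      (Subgroup.mul_mem _ (eT_mem hK s) (Subgroup.inv_mem _ (eT_mem hK d)))))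
  rw [pos_inf_diag certG2C, Subgroup.mem_bot] at h4
  have h5 : w⁻¹ * (x * w * x⁻¹) = 1 := Subtype.ext h4
  rw [h5] at h3
  refine ⟨(inv_mul_eq_one.1 h5).symm, (mul_inv_eq_one.1 h1).symm, ?_⟩
  rw [hd]
  have h6 := mul_inv_eq_one.1 h3.symm
  exact mul_inv_eq_one.1 (left_eq_mul.1 h6)

/-- A torus element of order above two fixes nothing in the Sylow 3-subgroup. -/
theorem eT_fix {w : ↥(gG K m)} (hw : w ∈ posG K m) {s : Kˣ} (hs : s ^ 2 ≠ 1)
    (e : eT hK s * w * (eT hK s)⁻¹ = w) : w = 1 := by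
  obtain ⟨t, u, v, rfl⟩ := exists_eU hK hw
  rw [eT_conj] at e
  obtain ⟨h1, h2, h3⟩ := eU_inj hK e
  have key : ∀ {r : ℕ} {y : K}, (r = 6 ∨ r = 10 ∨ r = 11) →
      chr tblG2 chevG2 (extend' (g2Par m s)) r * y = y → y = 0 := fun hr ey => by
    by_contra hy
    exact hs (g2_chr_eq_one hK hr ((mul_eq_right₀ hy).1 ey))
  rw [key (Or.inl rfl) h1, key (Or.inr (Or.inl rfl)) h2, key (Or.inr (Or.inr rfl)) h3, eU_zero]

/-- The torus as a subgroup. -/
noncomputable def torT : Subgroup ↥(gG K m) :=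
  (MonoidHom.mk' (eT (m := m) hK) (eT_mul hK)).range

theorem card_torT : Nat.card ↥(torT hK) = 3 ^ (2 * m + 1) - 1 := by
  rw [torT, ← Nat.card_congr (MonoidHom.ofInjective (eT_injective hK)).toEquiv, Nat.card_units,
    Nat.card_eq_fintype_card, hK]

theorem cyclic_torT : IsCyclic ↥(torT hK) := isCyclic_of_surjective _ (MonoidHom.rangeRestrict_surjective _)

theorem eT_inv (s : Kˣ) : eT hK s⁻¹ = (eT (m := m) hK s)⁻¹ :=
  eq_inv_of_mul_eq_one_left (by rw [← eT_mul, inv_mul_cancel, eT_one])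

/-- The long element inverts the torus. -/
theorem long_inv {n : ↥(gG K m)} (hn : LongRep n) (s : Kˣ) : n * eT hK s * n⁻¹ = eT hK s⁻¹ := by
  by_cases hs : s ^ 2 = 1
  · have hv : (s : K) * s = 1 := by rw [← pow_two, ← Units.val_pow_eq_pow_val, hs, Units.val_one]
    rcases mul_self_eq_one_iff.1 hv with h | h
    · rw [show s = 1 from Units.ext h, inv_one, eT_one, mul_one, mul_inv_cancel]
    · rw [show s = -1 from Units.ext (by simpa using h), inv_neg, inv_one]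
      exact mul_inv_eq_iff_eq_mul.2 (long_invA hK hn).eq
  -- the diagonal element of `SL₂`
  set a : K := (s : K) with ha
  have ha0 : a ≠ 0 := s.ne_zero
  have hn1 : a * a ≠ 1 := fun h => hs (Units.ext (by rw [Units.val_pow_eq_pow_val, pow_two]; exact h))
  have hm1 : a * a ≠ -1 := fun h => FiniteField.isSquare_neg_one_iff.1 ⟨a, h.symm⟩ (by
    rw [hK, pow_succ, pow_mul, Nat.mul_mod, Nat.pow_mod]; norm_num)
  obtain ⟨s', hs'⟩ := exists_eT hK (reeSL_tri_diag hK ha0)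
  have hsa : eT hK s * invA hK = invA hK * eT hK s := (eT_comm hK s (-1)).eq
  obtain ⟨x, hx⟩ := centralizer_elems hK hsa
  have hxd : Commute (reeSL hK x) (reeSL hK (SLTwoRel.tri a 0 ha0)) := by
    rw [hs']
    rcases hx with e | e
    · rw [← e]; exact eT_comm hK _ _
    · rw [show reeSL hK x = (invA hK)⁻¹ * eT hK s by rw [e, inv_mul_cancel_left]]
      exact (eT_comm hK (-1) s').inv_left.mul_left (eT_comm hK _ _)
  have h01 : x.1 0 1 = 0 ∧ x.1 1 0 = 0 := by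
    have h := hxd.eq
    rw [← map_mul, ← map_mul, reeSL_eq_iff] at h
    have hai : a⁻¹ ≠ a := fun e => hn1 (by nth_rewrite 1 [← e]; exact inv_mul_cancel₀ ha0)
    have hai' : a⁻¹ + a ≠ 0 := fun e => hm1 (by
      have := congrArg (· * a) e; simp only [add_mul, inv_mul_cancel₀ ha0, zero_mul] at this; linear_combination this)
    rcases h with h | h
    · have f1 := congrArg (fun X : SL(2, K) => X.1 0 1) h
      have f2 := congrArg (fun X : SL(2, K) => X.1 1 0) h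
      simp [SLTwoRel.coe_tri, Matrix.mul_apply, Matrix.vecMul, dotProduct, Fin.sum_univ_two] at f1 f2
      constructor
      · exact (mul_eq_zero.1 (show x.1 0 1 * (a⁻¹ - a) = 0 by linear_combination f1)).resolve_right (sub_ne_zero.2 hai)
      · exact (mul_eq_zero.1 (show x.1 1 0 * (a⁻¹ - a) = 0 by linear_combination -f2)).resolve_right (sub_ne_zero.2 hai)
    · have f1 := congrArg (fun X : SL(2, K) => X.1 0 1) h
      have f2 := congrArg (fun X : SL(2, K) => X.1 1 0) h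
      simp [SLTwoRel.coe_tri, Matrix.mul_apply, Matrix.vecMul, dotProduct, Fin.sum_univ_two] at f1 f2
      constructor
      · exact (mul_eq_zero.1 (show x.1 0 1 * (a⁻¹ + a) = 0 by linear_combination f1)).resolve_right hai'
      · exact (mul_eq_zero.1 (show x.1 1 0 * (a⁻¹ + a) = 0 by linear_combination f2)).resolve_right hai'
  set w := reeSL hK SLTwoRel.rot with hw
  have hxi : w * reeSL hK x * w⁻¹ = (reeSL hK x)⁻¹ := by
    rw [hw, ← map_inv, ← map_inv, ← map_mul, ← map_mul]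
    congr 1
    rw [mul_inv_eq_iff_eq_mul]
    refine Subtype.ext ?_
    ext i j
    fin_cases i <;> fin_cases j <;>
      simp [SLTwoRel.coe_rot, Matrix.mul_apply, Fin.sum_univ_two, Matrix.SpecialLinearGroup.coe_inv,
        Matrix.adjugate_fin_two, h01.1, h01.2]
  have hwx : w * eT hK s * w⁻¹ = (eT hK s)⁻¹ := by
    rcases hx with e | e
    · rw [e]; exact hxi
    · rw [e, show w * (invA hK * reeSL hK x) * w⁻¹ = w * invA hK * w⁻¹ * (w * reeSL hK x * w⁻¹) by group, hxi,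
        mul_inv_eq_iff_eq_mul.2 (invA_comm_reeSL hK _).eq.symm, mul_inv_rev, invA_inv]
      exact ((invA_comm_reeSL hK x).inv_right).eq
  have hwx' : eT hK s⁻¹ * w = w * eT hK s := by
    rw [eT_inv, ← hwx]; group
  rcases hn.cells w with hb | ⟨b, hb, c, hc, e⟩
  · exfalso
    obtain ⟨u, hu, z, hz⟩ := borG_parts hK hb
    have hB : eT hK s ∈ borG K m := Subgroup.mem_subgroupOf.2 (Subgroup.mem_sup_right (eT_mem hK s))
    have e1 : u * (eT hK s * u⁻¹ * (eT hK s)⁻¹) = eT hK (s⁻¹ * s⁻¹) := by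
      have := hwx
      rw [hz, show u * eT hK z * eT hK s * (u * eT hK z)⁻¹ = u * (eT hK z * eT hK s * (eT hK z)⁻¹) * u⁻¹ by group,
        mul_inv_eq_iff_eq_mul.2 (eT_comm hK z s).eq] at this
      calc u * (eT hK s * u⁻¹ * (eT hK s)⁻¹) = u * eT hK s * u⁻¹ * (eT hK s)⁻¹ := by group
        _ = _ := by rw [this, eT_mul, eT_inv]
    have h1 : ((eT hK (s⁻¹ * s⁻¹) : ↥(gG K m)) : GL chevG2.Idx K) ∈ chevG2.posUnipotent K ⊓ chevG2.diagonalSubgroup K :=
      ⟨Subgroup.mem_subgroupOf.1 (e1 ▸ mul_mem hu (bor_norm hB (inv_mem hu))), eT_mem hK _⟩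
    rw [pos_inf_diag certG2C, Subgroup.mem_bot] at h1
    have h2 : s⁻¹ * s⁻¹ = 1 := eT_injective hK (by rw [eT_one]; exact Subtype.ext h1)
    exact hs (by rw [pow_two, ← inv_inv s, ← mul_inv, h2, inv_one])
  · obtain ⟨u, hu, z, rfl⟩ := borG_parts hK hb
    rw [e] at hwx'
    exact (cell_conj hK hn hu hc hwx').2.2.symm

/-- The centraliser of a torus element of order above two. -/
theorem centralizer_eT {s : Kˣ} (hs : s ^ 2 ≠ 1) : Subgroup.centralizer {eT (m := m) hK s} = torT hK := by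
  obtain ⟨n, hn⟩ := G2Aut.exists_long hK
  refine le_antisymm (fun g hg => ?_) ?_
  · have e : eT hK s * g = g * eT hK s := (Subgroup.mem_centralizer_singleton_iff.1 hg).symm
    rcases hn.cells g with hb | ⟨b, hb, c, hc, rfl⟩
    · obtain ⟨u, hu, z, rfl⟩ := borG_parts hK hb
      have h1 : eT hK s * u * (eT hK s)⁻¹ = u := by
        rw [mul_inv_eq_iff_eq_mul]
        refine mul_right_cancel (b := eT hK z) ?_
        rw [mul_assoc u (eT hK s), (eT_comm hK s z).eq, ← mul_assoc u]; exact (mul_assoc _ _ _).trans e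
      rw [eT_fix hK hu hs h1, one_mul]; exact ⟨z, rfl⟩
    · obtain ⟨u, hu, z, rfl⟩ := borG_parts hK hb
      have h3 := (cell_conj hK hn hu hc e).2.2
      rw [long_inv hK hn] at h3
      refine absurd ?_ hs
      rw [pow_two]; nth_rewrite 2 [eT_injective hK h3]; exact mul_inv_cancel s
  · rintro _ ⟨z, rfl⟩
    exact Subgroup.mem_centralizer_singleton_iff.2 (eT_comm hK z s).eq

/-- An element carrying one torus element to another. -/
theorem eT_transporter {n : ↥(gG K m)} (hn : LongRep n) {s s' : Kˣ} (hs : s ^ 2 ≠ 1) {g : ↥(gG K m)}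
    (e : g * eT hK s * g⁻¹ = eT hK s') : g ∈ torT hK ∨ ∃ z, g = eT hK z * n := by
  have e' : eT hK s' * g = g * eT hK s := by rw [← e]; group
  rcases hn.cells g with hb | ⟨b, hb, c, hc, rfl⟩
  · obtain ⟨u, hu, z, rfl⟩ := borG_parts hK hb
    have hB : eT hK s ∈ borG K m := Subgroup.mem_subgroupOf.2 (Subgroup.mem_sup_right (eT_mem hK s))
    have e1 : u * (eT hK s * u⁻¹ * (eT hK s)⁻¹) = eT hK (s' * s⁻¹) := by
      rw [eT_mul, eT_inv, ← e, show u * eT hK z * eT hK s * (u * eT hK z)⁻¹ = u * (eT hK z * eT hK s * (eT hK z)⁻¹) * u⁻¹ by group,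
        mul_inv_eq_iff_eq_mul.2 (eT_comm hK z s).eq]
      group
    have h1 : ((eT hK (s' * s⁻¹) : ↥(gG K m)) : GL chevG2.Idx K) ∈ chevG2.posUnipotent K ⊓ chevG2.diagonalSubgroup K :=
      ⟨Subgroup.mem_subgroupOf.1 (e1 ▸ mul_mem hu (bor_norm hB (inv_mem hu))), eT_mem hK _⟩
    rw [pos_inf_diag certG2C, Subgroup.mem_bot] at h1
    have h2 : u * (eT hK s * u⁻¹ * (eT hK s)⁻¹) = 1 := e1.trans (Subtype.ext h1)
    have h3 : eT hK s * u * (eT hK s)⁻¹ = u := by
      calc eT hK s * u * (eT hK s)⁻¹ = (u * (eT hK s * u⁻¹ * (eT hK s)⁻¹))⁻¹ * u := by group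
        _ = u := by rw [h2]; group
    exact Or.inl (by rw [eT_fix hK hu hs h3, one_mul]; exact ⟨z, rfl⟩)
  · obtain ⟨u, hu, z, rfl⟩ := borG_parts hK hb
    obtain ⟨hu', hc', h3⟩ := cell_conj hK hn hu hc e'
    rw [long_inv hK hn] at h3
    have hs' : s' ^ 2 ≠ 1 := fun h => hs (by rw [← inv_inv s, ← eT_injective hK h3, inv_pow, h, inv_one])
    exact Or.inr ⟨z, by rw [eT_fix hK hu hs' hu', eT_fix hK hc hs hc']; group⟩

/-- The torus of order `(q - 1) / 2`. -/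
theorem exists_split_torus (hm : 1 ≤ m) :
    ∃ A : Subgroup ↥(gG K m), IsTorus A (torT hK) ((3 ^ (2 * m + 1) - 1) / 2) (2 * (3 ^ (2 * m + 1) - 1)) := by
  classical
  obtain ⟨n, hn⟩ := G2Aut.exists_long hK
  set f : Kˣ →* ↥(gG K m) := MonoidHom.mk' (eT (m := m) hK) (eT_mul hK) with hf
  set S : Subgroup Kˣ := (powMonoidHom 2).range with hS
  have hq : Nat.card Kˣ = 3 ^ (2 * m + 1) - 1 := by rw [Nat.card_units, Nat.card_eq_fintype_card, hK]
  have h8 : 3 ^ (2 * m + 1) % 8 = 3 := by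
    rw [pow_succ, pow_mul, Nat.mul_mod, Nat.pow_mod]; norm_num
  have h27 : 27 ≤ 3 ^ (2 * m + 1) := (by norm_num : 27 ≤ 3 ^ 3).trans (Nat.pow_le_pow_right (by norm_num) (by omega))
  have hScard : Nat.card S = (3 ^ (2 * m + 1) - 1) / 2 := by
    rw [hS, IsCyclic.card_powMonoidHom_range, hq, Nat.gcd_eq_right (by omega)]
  have hsq : ∀ s ∈ S, s ≠ 1 → s ^ 2 ≠ 1 := by
    intro s hs hs1 h2
    have ho : orderOf s = 2 := orderOf_eq_prime (p := 2) h2 hs1
    have := Subgroup.orderOf_dvd_natCard S hs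
    rw [ho, hScard] at this
    omega
  have hSne : ∃ s ∈ S, s ≠ 1 := by
    haveI : Nontrivial ↥S := Finite.one_lt_card_iff_nontrivial.1 (by rw [hScard]; omega)
    obtain ⟨x, hx⟩ := exists_ne (1 : ↥S)
    exact ⟨x, x.2, fun h => hx (Subtype.ext h)⟩
  set A := S.map f with hA
  haveI hAc : IsCyclic A :=
    isCyclic_of_surjective (f.subgroupMap S) (f.subgroupMap_surjective S)
  have hN : ∀ A₀ : Subgroup ↥(gG K m), A₀ ≤ A → A₀ ≠ ⊥ →
      ∀ g, g ∈ Subgroup.normalizer (A₀ : Set ↥(gG K m)) ↔ g ∈ torT hK ∨ ∃ z, g = eT hK z * n := by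
    intro A₀ h0 h1 g
    constructor
    · intro hg
      obtain ⟨⟨x, hx⟩, hx1⟩ := A₀.ne_bot_iff_exists_ne_one.1 h1
      obtain ⟨s, hs, rfl⟩ := h0 hx
      obtain ⟨s', -, e⟩ := h0 ((Subgroup.mem_normalizer_iff.1 hg _).1 hx)
      refine eT_transporter hK hn (hsq s hs fun h => hx1 (Subtype.ext ?_)) e.symm
      show f s = 1
      rw [h, map_one]
    · intro hg
      have key : ∀ h : ↥(gG K m), (∀ s, h * eT hK s * h⁻¹ = eT hK s ∨ h * eT hK s * h⁻¹ = (eT hK s)⁻¹) →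
          ∀ y ∈ A₀, h * y * h⁻¹ ∈ A₀ := by
        intro h hh y hy
        obtain ⟨s, -, rfl⟩ := h0 hy
        rcases hh s with e | e
        · exact e.symm ▸ hy
        · exact e.symm ▸ inv_mem hy
      have hh : ∀ h : ↥(gG K m), (h ∈ torT hK ∨ ∃ z, h = eT hK z * n) →
          ∀ s, h * eT hK s * h⁻¹ = eT hK s ∨ h * eT hK s * h⁻¹ = (eT hK s)⁻¹ := by
        rintro h (⟨z, rfl⟩ | ⟨z, rfl⟩) s
        · exact Or.inl (mul_inv_eq_iff_eq_mul.2 (eT_comm hK z s).eq)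
        · refine Or.inr ?_
          rw [show eT hK z * n * eT hK s * (eT hK z * n)⁻¹ = eT hK z * (n * eT hK s * n⁻¹) * (eT hK z)⁻¹ by group,
            long_inv hK hn, mul_inv_eq_iff_eq_mul.2 (eT_comm hK z s⁻¹).eq, eT_inv]
      refine Subgroup.mem_normalizer_iff.2 fun y => ⟨key g (hh g hg) y, fun hy => ?_⟩
      have := key g⁻¹ (fun s => ?_) _ hy
      · rwa [show g⁻¹ * (g * y * g⁻¹) * g⁻¹⁻¹ = y by group] at this
      · rcases hh g hg s with e | e
        · refine Or.inl ?_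
          nth_rewrite 1 [← e]; group
        · refine Or.inr ?_
          calc g⁻¹ * eT hK s * g⁻¹⁻¹ = g⁻¹ * (g * eT hK s * g⁻¹)⁻¹ * g := by rw [e]; group
            _ = (eT hK s)⁻¹ := by group
  have hAne : A ≠ ⊥ := fun h => by
    obtain ⟨s, hs, hs1⟩ := hSne
    have : f s ∈ A := ⟨s, hs, rfl⟩
    rw [h, Subgroup.mem_bot] at this
    exact hs1 (eT_injective hK (by rw [eT_one]; exact this))
  refine ⟨A, hAc, ?_, ?_, ?_, ?_, fun A₀ h0 h1 => Subgroup.ext fun g => by rw [hN A₀ h0 h1, hN A le_rfl hAne]⟩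
  · rw [hA, Subgroup.card_map_of_injective (eT_injective hK), hScard]
  · have hdis : ∀ z w, eT hK z ≠ eT hK w * n := by
      intro z w e
      obtain ⟨s, hs, hs1⟩ := hSne
      have h := long_inv hK hn s
      rw [show n = (eT hK w)⁻¹ * eT hK z by rw [e]; group, ← eT_inv, ← eT_mul,
        mul_inv_eq_iff_eq_mul.2 (eT_comm hK _ s).eq] at h
      refine hsq s hs hs1 ?_
      rw [pow_two]; nth_rewrite 2 [eT_injective hK h]; exact mul_inv_cancel s
    let F : Kˣ ⊕ Kˣ → ↥(Subgroup.normalizer (A : Set ↥(gG K m))) :=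
      Sum.elim (fun z => ⟨eT hK z, (hN A le_rfl hAne _).2 (Or.inl ⟨z, rfl⟩)⟩)
        fun z => ⟨eT hK z * n, (hN A le_rfl hAne _).2 (Or.inr ⟨z, rfl⟩)⟩
    have hF : Function.Bijective F := by
      refine ⟨?_, fun g => ?_⟩
      · rintro (z | z) (w | w) e <;> have e' := congrArg Subtype.val e
        · exact congrArg _ (eT_injective hK e')
        · exact absurd e' (hdis z w)
        · exact absurd e'.symm (hdis w z)
        · exact congrArg _ (eT_injective hK (mul_right_cancel e'))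
      · rcases (hN A le_rfl hAne _).1 g.2 with ⟨z, hz⟩ | ⟨z, hz⟩
        · exact ⟨Sum.inl z, Subtype.ext hz⟩
        · exact ⟨Sum.inr z, Subtype.ext hz.symm⟩
    rw [← Nat.card_eq_of_bijective F hF, Nat.card_sum, hq]; omega
  · rintro _ ⟨s, -, rfl⟩; exact ⟨s, rfl⟩
  · rintro _ ⟨s, hs, rfl⟩ h1
    exact centralizer_eT hK (hsq s hs fun h => h1 (by rw [h, map_one]))

end Cfsg.Lib.Chev.Ree
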