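import Cfsg.Agent.Lib.Chev.RootCent
import Cfsg.Agent.Lib.Chev.FullE8

/-! The dominant roots of type E8. -/

set_option autoImplicit false
set_option maxRecDepth 100000

namespace Cfsg.Lib.Chev

/-- The data of the root `239`. -/
def rootE8_239 : RootData := ⟨239, 227, [0, 1, 2, 3, 4, 5, 6, 7, 8, 9, 10, 11, 12, 13, 14, 15, 16, 17, 18, 19, 20, 21, 22, 23, 24, 25, 26, 27, 28, 29, 30, 31, 32, 33, 34, 35, 36, 37, 38, 39, 40, 41, 42, 43, 44, 45, 46, 47, 48, 49, 50, 51, 52, 53, 54, 55, 56, 57, 58, 59, 60, 61, 62, 63, 64, 65, 66, 67, 68, 69, 70, 71, 72, 73, 74, 75, 76, 77, 78, 79, 80, 81, 82, 83, 84, 85, 86, 87, 88, 89, 90, 91, 92, 93, 94, 95, 96, 97, 98, 99, 100, 101, 102, 103, 104, 105, 106, 107, 108, 109, 110, 111, 112, 113, 114, 115, 116, 117, 118, 119, 120, 121, 122, 123, 124, 125, 126, 127, 128, 129, 130, 131, 132, 133, 134, 135, 136, 137, 138, 139, 140, 141, 142, 143, 144, 145,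 146, 147, 148, 149, 150, 151, 152, 153, 154, 155, 156, 157, 158, 159, 160, 161, 162, 163, 164, 165, 166, 167, 168, 169, 170, 171, 172, 173, 174, 175, 176, 177, 178, 179, 180, 181, 182, 183, 184, 185, 186, 187, 188, 189, 190, 191, 192, 193, 194, 195, 196, 197, 198, 199, 200, 201, 202, 203, 204, 205, 206, 207, 208, 209, 210, 211, 212, 213, 214, 215, 216, 217, 218, 219, 220, 221, 222, 223, 224, 225, 226, 227, 228, 229, 230, 231, 232, 233, 234, 235, 236, 237, 238, 239], 2, [[(227, 1), (228, 1), (229, 1), (230, 1), (231, 1), (232, -2), (233, -1), (239, -1)], [(231, -2), (233, 2)], [(231, -2), (232, 2)], [(230, -2), (231, 2)], [(229, -2), (230, 2)], [(228, -2), (229, 2)], [(227, -2), (228, 2)], [(227, 2), (232, -2), (233, -2), (239, 2)]], [[(134, 1), (140, -1), (146, -1), (173, 1)], [(134, -1), (146, 1)], [(134, -1), (140, 1)], [(129, -1), (134, 1)], [(125, -1), (129, 1)], [(122, -1),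 (125, 1)], [(120, -1), (122, 1)], [(120, 1)]]⟩

theorem rootOK_E8_239 : RootOK Cfsg.Lie.chevE8 tblE8 rootE8_239 :=
  rootOK_of_chk (by decide +kernel)

/-- The dominant roots. -/
def rootsE8 : List RootData := [rootE8_239]

theorem rootOK_E8 : ∀ R ∈ rootsE8, RootOK Cfsg.Lie.chevE8 tblE8 R := by
  simp only [rootsE8, List.forall_mem_cons, List.not_mem_nil, IsEmpty.forall_iff, implies_true, and_true]
  exact rootOK_E8_239

theorem rootWord_E8 : ∀ i < Cfsg.Lie.chevE8.rank, ∃ R ∈ rootsE8, ∃ w,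
    IsWord Cfsg.Lie.chevE8 w ∧ wperm tblE8 w (tblE8.simp' i) = R.rho := by
  intro i hi
  have hi' : i < 8 := hi
  interval_cases i
  · exact ⟨rootE8_239, by simp [rootsE8], [7, 6, 5, 4, 3, 1, 2, 0, 3, 2, 4, 3, 1, 5, 4, 3, 2, 6, 5, 4, 3, 1, 7, 6, 5, 4, 3, 2], by unfold IsWord; decide +kernel, by decide +kernel⟩
  · exact ⟨rootE8_239, by simp [rootsE8], [7, 6, 5, 4, 3, 1, 2, 0, 3, 2, 4, 3, 1, 5, 4, 3, 2, 0, 6, 5, 4, 3, 2, 7, 6, 5, 4, 3], by unfold IsWord; decide +kernel, by decide +kernel⟩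
  · exact ⟨rootE8_239, by simp [rootsE8], [7, 6, 5, 4, 3, 1, 2, 0, 3, 2, 4, 3, 1, 5, 4, 3, 2, 0, 6, 5, 4, 3, 1, 7, 6, 5, 4, 3], by unfold IsWord; decide +kernel, by decide +kernel⟩
  · exact ⟨rootE8_239, by simp [rootsE8], [7, 6, 5, 4, 3, 1, 2, 0, 3, 2, 4, 3, 1, 5, 4, 3, 2, 0, 6, 5, 4, 3, 1, 2, 7, 6, 5, 4], by unfold IsWord; decide +kernel, by decide +kernel⟩
  · exact ⟨rootE8_239, by simp [rootsE8], [7, 6, 5, 4, 3, 1, 2, 0, 3, 2, 4, 3, 1, 5, 4, 3, 2, 0, 6, 5, 4, 3, 1, 2, 3, 7, 6, 5], by unfold IsWord; decide +kernel, by decide +kernel⟩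
  · exact ⟨rootE8_239, by simp [rootsE8], [7, 6, 5, 4, 3, 1, 2, 0, 3, 2, 4, 3, 1, 5, 4, 3, 2, 0, 6, 5, 4, 3, 1, 2, 3, 4, 7, 6], by unfold IsWord; decide +kernel, by decide +kernel⟩
  · exact ⟨rootE8_239, by simp [rootsE8], [7, 6, 5, 4, 3, 1, 2, 0, 3, 2, 4, 3, 1, 5, 4, 3, 2, 0, 6, 5, 4, 3, 1, 2, 3, 4, 5, 7], by unfold IsWord; decide +kernel, by decide +kernel⟩
  · exact ⟨rootE8_239, by simp [rootsE8], [7, 6, 5, 4, 3, 1, 2, 0, 3, 2, 4, 3, 1, 5, 4, 3, 2, 0, 6, 5, 4, 3, 1, 2, 3, 4, 5, 6], by unfold IsWord; decide +kernel, by decide +kernel⟩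

end Cfsg.Lib.Chev
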