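import Cfsg.Agent.Lib.Chev.RootCent
import Cfsg.Agent.Lib.Chev.FullF4

/-! The dominant roots of type F4. -/

set_option autoImplicit false
set_option maxRecDepth 100000

namespace Cfsg.Lib.Chev

/-- The data of the root `44`. -/
def rootF4_44 : RootData := ⟨44, 33, [3, 7, 8, 9, 10, 11, 12, 13, 14, 18, 19, 20, 27, 28, 29, 33, 34, 35, 36, 37, 38, 39, 40, 44], 1, [[(33, 1)], [(33, -1), (34, 1)], [(33, 1), (34, -2), (37, 1)], [(33, -1), (34, 1), (36, 1), (37, -1)]], [[(33, 1)], [(33, -1), (34, 1)], [(33, 1), (34, -2), (37, 1)], [(33, -1), (34, 1), (36, 1), (37, -1)]]⟩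

theorem rootOK_F4_44 : RootOK Cfsg.Lie.chevF4 tblF4 rootF4_44 :=
  rootOK_of_chk (by decide +kernel)

/-- The data of the root `47`. -/
def rootF4_47 : RootData := ⟨47, 42, [0, 1, 2, 4, 5, 6, 15, 16, 17, 21, 22, 23, 24, 25, 26, 30, 31, 32, 41, 42, 43, 45, 46, 47], 2, [[(42, 1), (43, 1), (47, -1)], [(43, -2), (44, 2)], [(42, -2), (43, 2)], [(42, 2), (44, -4), (47, 2)]], [[(29, -1), (36, 1)], [(26, -1), (29, 1)], [(24, -1), (26, 1)], [(24, 1)]]⟩

theorem rootOK_F4_47 : RootOK Cfsg.Lie.chevF4 tblF4 rootF4_47 :=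
  rootOK_of_chk (by decide +kernel)

/-- The dominant roots. -/
def rootsF4 : List RootData := [rootF4_44, rootF4_47]

theorem rootOK_F4 : ∀ R ∈ rootsF4, RootOK Cfsg.Lie.chevF4 tblF4 R := by
  simp only [rootsF4, List.forall_mem_cons, List.not_mem_nil, IsEmpty.forall_iff, implies_true, and_true]
  exact ⟨rootOK_F4_44, rootOK_F4_47⟩

theorem rootWord_F4 : ∀ i < Cfsg.Lie.chevF4.rank, ∃ R ∈ rootsF4, ∃ w,
    IsWord Cfsg.Lie.chevF4 w ∧ wperm tblF4 w (tblF4.simp' i) = R.rho := by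
  intro i hi
  have hi' : i < 4 := hi
  interval_cases i
  · exact ⟨rootF4_44, by simp [rootsF4], [0, 1, 2, 1, 3, 2, 1], by unfold IsWord; decide +kernel, by decide +kernel⟩
  · exact ⟨rootF4_44, by simp [rootsF4], [0, 1, 2, 1, 0, 3, 2], by unfold IsWord; decide +kernel, by decide +kernel⟩
  · exact ⟨rootF4_47, by simp [rootsF4], [3, 2, 1, 0, 2, 1, 3], by unfold IsWord; decide +kernel, by decide +kernel⟩
  · exact ⟨rootF4_47, by simp [rootsF4], [3, 2, 1, 0, 2, 1, 2], by unfold IsWord; decide +kernel, by decide +kernel⟩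

end Cfsg.Lib.Chev
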