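import Cfsg.Agent.Lib.Chev.RootCent
import Cfsg.Agent.Lib.Chev.FullG2

/-! The dominant roots of type G2. -/

set_option autoImplicit false
set_option maxRecDepth 100000

namespace Cfsg.Lib.Chev

/-- The data of the root `9`. -/
def rootG2_9 : RootData := ⟨9, 9, [2, 3, 4, 7, 8, 9], 1, [[(9, -1), (10, 1)], [(9, 3), (10, -2)]], [[(9, -1), (10, 1)], [(9, 3), (10, -2)]]⟩

theorem rootOK_G2_9 : RootOK Cfsg.Lie.chevG2 tblG2 rootG2_9 :=
  rootOK_of_chk (by decide +kernel)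

/-- The data of the root `11`. -/
def rootG2_11 : RootData := ⟨11, 8, [0, 1, 5, 6, 10, 11], 1, [[(8, -1), (9, 1)], [(8, 2), (9, -1)]], [[(6, -1), (8, 1)], [(6, 1)]]⟩

theorem rootOK_G2_11 : RootOK Cfsg.Lie.chevG2 tblG2 rootG2_11 :=
  rootOK_of_chk (by decide +kernel)

/-- The dominant roots. -/
def rootsG2 : List RootData := [rootG2_9, rootG2_11]

theorem rootOK_G2 : ∀ R ∈ rootsG2, RootOK Cfsg.Lie.chevG2 tblG2 R := by
  simp only [rootsG2, List.forall_mem_cons, List.not_mem_nil, IsEmpty.forall_iff, implies_true, and_true]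
  exact ⟨rootOK_G2_9, rootOK_G2_11⟩

theorem rootWord_G2 : ∀ i < Cfsg.Lie.chevG2.rank, ∃ R ∈ rootsG2, ∃ w,
    IsWord Cfsg.Lie.chevG2 w ∧ wperm tblG2 w (tblG2.simp' i) = R.rho := by
  intro i hi
  have hi' : i < 2 := hi
  interval_cases i
  · exact ⟨rootG2_9, by simp [rootsG2], [0, 1], by unfold IsWord; decide +kernel, by decide +kernel⟩
  · exact ⟨rootG2_11, by simp [rootsG2], [1, 0], by unfold IsWord; decide +kernel, by decide +kernel⟩

end Cfsg.Lib.Chev
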