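import Cfsg.Prelude.Def_Classical
import Cfsg.Agent.Lib.Chev.MatCode
import Cfsg.Agent.Lib.Chev.CodeHom

/-!
Codes for elements of small special unitary groups.
-/

set_option autoImplicit false
set_option maxRecDepth 100000

namespace Cfsg.Lib.Chev.MatCode

open Matrix

/-- The matrix of an element of `SU n`. -/
abbrev suMat {K : Type*} [Field K] {n q : ℕ} (g : Cfsg.SU n K q) : Matrix (Fin n) (Fin n) K :=
  ((g : Matrix.SpecialLinearGroup (Fin n) K) : Matrix (Fin n) (Fin n) K)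

theorem suMat_inj {K : Type*} [Field K] {n q : ℕ} {g h : Cfsg.SU n K q} (e : suMat g = suMat h) : g = h :=
  Subtype.ext (Subtype.ext e)

theorem suMat_mul {K : Type*} [Field K] {n q : ℕ} (g h : Cfsg.SU n K q) : suMat (g * h) = suMat g * suMat h := rfl

theorem suMat_one {K : Type*} [Field K] {n q : ℕ} : suMat (1 : Cfsg.SU n K q) = 1 := rfl

variable {C : FCode} {K : Type*} [Field K] {e : ℕ → K} {f : K →+* K}

/-- The determinant in degree three. -/
def det3C (C : FCode) (A : ℕ) : ℕ :=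
  let s := fun k => slot A 4 k
  let m := fun a b c => C.mul (C.mul (s a) (s b)) (s c)
  C.add (C.add (C.add (m 0 4 8) (m 1 5 6)) (m 2 3 7))
    (C.neg (C.add (C.add (m 0 5 7) (m 1 3 8)) (m 2 4 6)))

/-- A minor in degree three. -/
def minC (C : FCode) (A : ℕ) (c₀ c₁ c₂ : ℕ) : ℕ :=
  let m := fun a b c => C.mul (C.mul (slot A 4 (4 + a)) (slot A 4 (8 + b))) (slot A 4 (12 + c))
  C.add (C.add (C.add (m c₀ c₁ c₂) (m c₁ c₂ c₀)) (m c₂ c₀ c₁))
    (C.neg (C.add (C.add (m c₀ c₂ c₁) (m c₁ c₀ c₂)) (m c₂ c₁ c₀)))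

/-- The determinant in degree four. -/
def det4C (C : FCode) (A : ℕ) : ℕ :=
  C.add (C.add (C.mul (slot A 4 0) (minC C A 1 2 3)) (C.mul (slot A 4 2) (minC C A 0 1 3)))
    (C.neg (C.add (C.mul (slot A 4 1) (minC C A 0 2 3)) (C.mul (slot A 4 3) (minC C A 0 1 2))))

variable (R : C.Real e f)
include R

theorem det3C_spec {A : ℕ} (hA : okM C 3 A = true) :
    det3C C A < C.Q ∧ e (det3C C A) = (evM e 3 A).det := by
  simp only [okM, List.all_eq_true, List.mem_range, Nat.blt_eq] at hA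
  have hm : ∀ a b c, a < 9 → b < 9 → c < 9 →
      C.mul (C.mul (slot A 4 a) (slot A 4 b)) (slot A 4 c) < C.Q ∧
        e (C.mul (C.mul (slot A 4 a) (slot A 4 b)) (slot A 4 c)) =
          e (slot A 4 a) * e (slot A 4 b) * e (slot A 4 c) := fun a b c ha hb hc => by
    have h1 := (R.lt (hA a ha) (hA b hb)).2.1
    exact ⟨(R.lt h1 (hA c hc)).2.1, by rw [R.mul _ h1 _ (hA c hc), R.mul _ (hA a ha) _ (hA b hb)]⟩
  have hs : ∀ {a b : ℕ}, a < C.Q → b < C.Q → C.add a b < C.Q := fun ha hb => (R.lt ha hb).1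
  obtain ⟨l1, e1⟩ := hm 0 4 8 (by norm_num) (by norm_num) (by norm_num)
  obtain ⟨l2, e2⟩ := hm 1 5 6 (by norm_num) (by norm_num) (by norm_num)
  obtain ⟨l3, e3⟩ := hm 2 3 7 (by norm_num) (by norm_num) (by norm_num)
  obtain ⟨l4, e4⟩ := hm 0 5 7 (by norm_num) (by norm_num) (by norm_num)
  obtain ⟨l5, e5⟩ := hm 1 3 8 (by norm_num) (by norm_num) (by norm_num)
  obtain ⟨l6, e6⟩ := hm 2 4 6 (by norm_num) (by norm_num) (by norm_num)
  have hn := hs (hs l4 l5) l6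
  refine ⟨hs (hs (hs l1 l2) l3) (R.lt hn hn).2.2.1, ?_⟩
  rw [det3C, R.add _ (hs (hs l1 l2) l3) _ (R.lt hn hn).2.2.1, R.neg _ hn, R.add _ (hs l1 l2) _ l3,
    R.add _ l1 _ l2, R.add _ (hs l4 l5) _ l6, R.add _ l4 _ l5, e1, e2, e3, e4, e5, e6, Matrix.det_fin_three]
  simp only [evM, Fin.val_zero, Fin.val_one, Fin.val_two]
  ring

theorem det4C_spec {A : ℕ} (hA : okM C 4 A = true) :
    det4C C A < C.Q ∧ e (det4C C A) = (evM e 4 A).det := by
  simp only [okM, List.all_eq_true, List.mem_range, Nat.blt_eq] at hA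
  have hm : ∀ a b c, a < 4 → b < 4 → c < 4 →
      C.mul (C.mul (slot A 4 (4 + a)) (slot A 4 (8 + b))) (slot A 4 (12 + c)) < C.Q ∧
        e (C.mul (C.mul (slot A 4 (4 + a)) (slot A 4 (8 + b))) (slot A 4 (12 + c))) =
          e (slot A 4 (4 + a)) * e (slot A 4 (8 + b)) * e (slot A 4 (12 + c)) := fun a b c ha hb hc => by
    have ga := hA (4 + a) (by omega)
    have gb := hA (8 + b) (by omega)
    have gc := hA (12 + c) (by omega)
    have h1 := (R.lt ga gb).2.1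
    exact ⟨(R.lt h1 gc).2.1, by rw [R.mul _ h1 _ gc, R.mul _ ga _ gb]⟩
  have hs : ∀ {a b : ℕ}, a < C.Q → b < C.Q → C.add a b < C.Q := fun ha hb => (R.lt ha hb).1
  have hmin : ∀ a b c, a < 4 → b < 4 → c < 4 → minC C A a b c < C.Q ∧
      e (minC C A a b c) = e (slot A 4 (4 + a)) * e (slot A 4 (8 + b)) * e (slot A 4 (12 + c)) +
        e (slot A 4 (4 + b)) * e (slot A 4 (8 + c)) * e (slot A 4 (12 + a)) +
        e (slot A 4 (4 + c)) * e (slot A 4 (8 + a)) * e (slot A 4 (12 + b)) -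
        (e (slot A 4 (4 + a)) * e (slot A 4 (8 + c)) * e (slot A 4 (12 + b)) +
        e (slot A 4 (4 + b)) * e (slot A 4 (8 + a)) * e (slot A 4 (12 + c)) +
        e (slot A 4 (4 + c)) * e (slot A 4 (8 + b)) * e (slot A 4 (12 + a))) := by
    intro a b c ha hb hc
    obtain ⟨l1, e1⟩ := hm a b c ha hb hc
    obtain ⟨l2, e2⟩ := hm b c a hb hc ha
    obtain ⟨l3, e3⟩ := hm c a b hc ha hb
    obtain ⟨l4, e4⟩ := hm a c b ha hc hb
    obtain ⟨l5, e5⟩ := hm b a c hb ha hc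
    obtain ⟨l6, e6⟩ := hm c b a hc hb ha
    have hn := hs (hs l4 l5) l6
    refine ⟨hs (hs (hs l1 l2) l3) (R.lt hn hn).2.2.1, ?_⟩
    rw [minC, R.add _ (hs (hs l1 l2) l3) _ (R.lt hn hn).2.2.1, R.neg _ hn, R.add _ (hs l1 l2) _ l3,
      R.add _ l1 _ l2, R.add _ (hs l4 l5) _ l6, R.add _ l4 _ l5, e1, e2, e3, e4, e5, e6, sub_eq_add_neg]
  have hp : ∀ a m, a < 4 → m < C.Q → C.mul (slot A 4 a) m < C.Q ∧
      e (C.mul (slot A 4 a) m) = e (slot A 4 a) * e m := fun a m ha hm' =>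
    ⟨(R.lt (hA a (by omega)) hm').2.1, R.mul _ (hA a (by omega)) _ hm'⟩
  obtain ⟨m0, f0⟩ := hmin 1 2 3 (by norm_num) (by norm_num) (by norm_num)
  obtain ⟨m1, f1⟩ := hmin 0 2 3 (by norm_num) (by norm_num) (by norm_num)
  obtain ⟨m2, f2⟩ := hmin 0 1 3 (by norm_num) (by norm_num) (by norm_num)
  obtain ⟨m3, f3⟩ := hmin 0 1 2 (by norm_num) (by norm_num) (by norm_num)
  obtain ⟨l0, g0⟩ := hp 0 _ (by norm_num) m0
  obtain ⟨l1, g1⟩ := hp 1 _ (by norm_num) m1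
  obtain ⟨l2, g2⟩ := hp 2 _ (by norm_num) m2
  obtain ⟨l3, g3⟩ := hp 3 _ (by norm_num) m3
  have hn := hs l1 l3
  refine ⟨hs (hs l0 l2) (R.lt hn hn).2.2.1, ?_⟩
  rw [det4C, R.add _ (hs l0 l2) _ (R.lt hn hn).2.2.1, R.neg _ hn, R.add _ l0 _ l2, R.add _ l1 _ l3,
    g0, g1, g2, g3, f0, f1, f2, f3]
  simp only [Matrix.det_succ_row_zero, Fin.sum_univ_succ, Matrix.det_unique, evM, Matrix.submatrix_apply,
    Finset.sum_singleton, Fin.val_zero, Fin.val_succ, Fin.default_eq_zero, Fin.succAbove, Fin.lt_def]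
  simp
  ring

omit R in
/-- A code with a unitary matrix of determinant one is an element of `SU n`. -/
theorem exists_su_of_code (R : C.Real e f) {n q : ℕ} (hf : ∀ x, f x = x ^ q) {A : ℕ} (hA : okM C n A = true)
    (hu : mulM C n (starM C n A) A = oneM n) (hd : (evM e n A).det = 1) :
    ∃ g : Cfsg.SU n K q, suMat g = evM e n A := by
  have h1 := (mulM_spec R (starM_spec R hA).1 hA).2
  rw [hu, (oneM_spec R).2, (starM_spec R hA).2] at h1
  refine ⟨⟨⟨evM e n A, hd⟩, fun u v => ?_⟩, rfl⟩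
  have hh : ∀ a b : Fin n → K, Cfsg.hermForm n K q a b = a ⬝ᵥ (fun i => f (b i)) := fun a b => by
    simp [Cfsg.hermForm, dotProduct, hf]
  rw [hh, hh]
  show (evM e n A *ᵥ u) ⬝ᵥ (fun i => f ((evM e n A *ᵥ v) i)) = _
  rw [show (fun i => f ((evM e n A *ᵥ v) i)) = (evM e n A).map f *ᵥ (fun i => f (v i)) from
      funext fun i => RingHom.map_mulVec f _ _ i,
    dotProduct_mulVec, ← mulVec_transpose, Matrix.mulVec_mulVec, ← h1, Matrix.one_mulVec]

end Cfsg.Lib.Chev.MatCode
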