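import Mathlib
import Cfsg.Agent.Lib.Chev.TwTools

/-! Non-triviality of orbit subgroups from their number of elements. -/

set_option autoImplicit false

namespace Cfsg.Lib.Chev

open Cfsg.Lie

theorem exists_ne_of_card {G : Type*} [Group G] {S : Set G} {n : ℕ} (h : Nat.card ↥S = n) (hn : 2 ≤ n) :
    ∃ g ∈ S, g ≠ 1 := by
  by_contra hno
  push Not at hno
  have : Subsingleton ↥S := ⟨fun a b => Subtype.ext ((hno a a.2).trans (hno b b.2).symm)⟩
  have := Nat.card_eq_one_iff_unique (α := ↥S)
  rcases isEmpty_or_nonempty ↥S with he | he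
  · rw [Nat.card_of_isEmpty] at h; omega
  · rw [this.2 ⟨inferInstance, he⟩] at h; omega

end Cfsg.Lib.Chev
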