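import Cfsg.Agent.Lib.Chev.SlE8

/-! Witnesses for the lifting of the relators in a simply laced system. -/

set_option autoImplicit false
set_option maxRecDepth 100000

namespace Cfsg.Lib.Chev

open Cfsg.Lie

theorem slPairs_E8_0 : slPairs tblE8 slE8 0 60 = true := by decide +kernel

end Cfsg.Lib.Chev
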