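import Cfsg.Agent.Lib.Chev.StPres
import Cfsg.Agent.Lib.Chev.PerfectAll

/-! The seven types: neighbours, perfectness of families of elements satisfying Steinberg's relations. -/

set_option autoImplicit false
set_option maxRecDepth 100000

namespace Cfsg.Lib.Chev

open Cfsg.Lie

theorem nbrChk_G2 : nbrChk tblG2 = true := by decide +kernel

theorem nbrChk_B2 : nbrChk tblB2 = true := by decide +kernel

theorem nbrChk_D4 : nbrChk tblD4 = true := by decide +kernel

theorem nbrChk_F4 : nbrChk tblF4 = true := by decide +kernel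

theorem nbrChk_E6 : nbrChk tblE6 = true := by decide +kernel

theorem nbrChk_E7 : nbrChk tblE7 = true := by decide +kernel

theorem nbrChk_E8 : nbrChk tblE8 = true := by decide +kernel

theorem exists_nbrCert {D : ChevalleyDatum}
    (hD : D ∈ [chevG2, chevB2, chevD4, chevF4, chevE6, chevE7, chevE8]) :
    ∃ T, FullCert D T ∧ HasNbr D T := by
  simp only [List.mem_cons, List.not_mem_nil, or_false] at hD
  rcases hD with rfl | rfl | rfl | rfl | rfl | rfl | rfl
  exacts [⟨_, fullCertG2, hasNbr_of_chk fullCertG2.comm.cert nbrChk_G2⟩,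
    ⟨_, fullCertB2, hasNbr_of_chk fullCertB2.comm.cert nbrChk_B2⟩,
    ⟨_, fullCertD4, hasNbr_of_chk fullCertD4.comm.cert nbrChk_D4⟩,
    ⟨_, fullCertF4, hasNbr_of_chk fullCertF4.comm.cert nbrChk_F4⟩,
    ⟨_, fullCertE6, hasNbr_of_chk fullCertE6.comm.cert nbrChk_E6⟩,
    ⟨_, fullCertE7, hasNbr_of_chk fullCertE7.comm.cert nbrChk_E7⟩,
    ⟨_, fullCertE8, hasNbr_of_chk fullCertE8.comm.cert nbrChk_E8⟩]

variable {F : Type*} [Field F]

theorem stPerfectB2 {E : Type*} [Group E] {C : Cert chevB2 tblB2} (Φ : StAll C F E) (hgen : Φ.Gen)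
    (hF : ∃ a : F, a ≠ 0 ∧ a ≠ 1) : commutator E = ⊤ := by
  have K := fullCertB2
  have hN := hasNbr_of_chk C nbrChk_B2
  refine Φ.perfect_of_simple' K hN hgen fun i hi => ?_
  rcases field_dichotomy hF with ⟨a, ha, ha2⟩ | h3
  · exact Φ.inDer_of_sq K hN ha ha2 hi
  have h2 : ((2 : ℤ) : F) ≠ 0 := fun e => one_ne_zero (α := F) (by push_cast at e; linear_combination h3 - e)
  have h2' : ((-2 : ℤ) : F) ≠ 0 := by push_cast at h2 ⊢; exact neg_ne_zero.2 h2
  have r3 : Φ.InDer 3 := Φ.inDer_of_terms K (r := 5) (s := 1) (rest := [])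
    (by decide) (by decide) (by decide) (by decide +kernel) (by decide +kernel : tTerms tblB2 5 1 = [(3, 2, 1, 1)]) h2 (by simp)
  have r4 : Φ.InDer 4 := Φ.inDer_of_terms K (r := 2) (s := 6) (rest := [])
    (by decide) (by decide) (by decide) (by decide +kernel) (by decide +kernel : tTerms tblB2 2 6 = [(4, -2, 1, 1)]) h2' (by simp)
  have r5 : Φ.InDer 5 := Φ.inDer_of_terms K (r := 1) (s := 7) (rest := [(3, 1, 2, 1)])
    (by decide) (by decide) (by decide) (by decide +kernel)
    (by decide +kernel : tTerms tblB2 1 7 = [(5, -1, 1, 1), (3, 1, 2, 1)]) (by simp)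
    (fun p hp => Or.inr (by rw [List.mem_singleton.1 hp]; exact r3))
  change i < 2 at hi
  interval_cases i
  · rw [show tblB2.simp' 0 = 5 by decide +kernel]; exact r5
  · rw [show tblB2.simp' 1 = 4 by decide +kernel]; exact r4

theorem stPerfectG2 {E : Type*} [Group E] {C : Cert chevG2 tblG2} (Φ : StAll C F E) (hgen : Φ.Gen)
    (hF : ∃ a : F, a ≠ 0 ∧ a ≠ 1) : commutator E = ⊤ := by
  have K := fullCertG2
  have hN := hasNbr_of_chk C nbrChk_G2
  refine Φ.perfect_of_simple' K hN hgen fun i hi => ?_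
  rcases field_dichotomy hF with ⟨a, ha, ha2⟩ | h3
  · exact Φ.inDer_of_sq K hN ha ha2 hi
  have h2 : ((2 : ℤ) : F) ≠ 0 := fun e => one_ne_zero (α := F) (by push_cast at e; linear_combination h3 - e)
  have r6 : Φ.InDer 6 := Φ.inDer_of_terms K (r := 1) (s := 11) (rest := [])
    (by decide) (by decide) (by decide) (by decide +kernel) (by decide +kernel : tTerms tblG2 1 11 = [(6, -1, 1, 1)]) (by simp) (by simp)
  have r7 : Φ.InDer 7 := Φ.inDer_of_terms K (r := 3) (s := 9) (rest := [(5, -3, 2, 1), (10, 3, 1, 2)])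
    (by decide) (by decide) (by decide) (by decide +kernel)
    (by decide +kernel : tTerms tblG2 3 9 = [(7, 2, 1, 1), (5, -3, 2, 1), (10, 3, 1, 2)]) h2
    (fun p hp => Or.inl (by
      rcases List.mem_cons.1 hp with rfl | hp
      · push_cast; linear_combination -h3
      · rw [List.mem_singleton.1 hp]; push_cast; exact h3))
  change i < 2 at hi
  interval_cases i
  · rw [show tblG2.simp' 0 = 7 by decide +kernel]; exact r7
  · rw [show tblG2.simp' 1 = 6 by decide +kernel]; exact r6

/-- The group presented by (R1), (R2) is perfect. -/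
theorem steinbergCover_perfect {D : ChevalleyDatum}
    (hD : D ∈ [chevG2, chevB2, chevD4, chevF4, chevE6, chevE7, chevE8])
    (hK : D ∈ [chevB2, chevG2] → ∃ x : F, x ≠ 0 ∧ x ≠ 1) : commutator (D.SteinbergCover F) = ⊤ := by
  simp only [List.mem_cons, List.not_mem_nil, or_false] at hD
  rcases hD with rfl | rfl | rfl | rfl | rfl | rfl | rfl
  · exact stPerfectG2 (presFam fullCertG2.comm.cert fullCertG2.comm subset_rfl relsAB_subset)
      (presFam_gen _ _ _ _) (hK (by simp))
  · exact stPerfectB2 (presFam fullCertB2.comm.cert fullCertB2.comm subset_rfl relsAB_subset)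
      (presFam_gen _ _ _ _) (hK (by simp))
  · exact (presFam fullCertD4.comm.cert fullCertD4.comm subset_rfl relsAB_subset).perfect_of_clean' fullCertD4
      (hasNbr_of_chk fullCertD4.comm.cert nbrChk_D4) (presFam_gen _ _ _ _) cleanD4
  · exact (presFam fullCertF4.comm.cert fullCertF4.comm subset_rfl relsAB_subset).perfect_of_clean' fullCertF4
      (hasNbr_of_chk fullCertF4.comm.cert nbrChk_F4) (presFam_gen _ _ _ _) cleanF4
  · exact (presFam fullCertE6.comm.cert fullCertE6.comm subset_rfl relsAB_subset).perfect_of_clean' fullCertE6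
      (hasNbr_of_chk fullCertE6.comm.cert nbrChk_E6) (presFam_gen _ _ _ _) cleanE6
  · exact (presFam fullCertE7.comm.cert fullCertE7.comm subset_rfl relsAB_subset).perfect_of_clean' fullCertE7
      (hasNbr_of_chk fullCertE7.comm.cert nbrChk_E7) (presFam_gen _ _ _ _) cleanE7
  · exact (presFam fullCertE8.comm.cert fullCertE8.comm subset_rfl relsAB_subset).perfect_of_clean' fullCertE8
      (hasNbr_of_chk fullCertE8.comm.cert nbrChk_E8) (presFam_gen _ _ _ _) cleanE8

end Cfsg.Lib.Chev
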