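import Cfsg.Agent.Lib.Chev.StFam
import Cfsg.Agent.Lib.Chev.NormalForm

/-!
For a family satisfying the relations of all the root elements, the group it generates is covered by the cells of a
Bruhat decomposition, so the kernel of the projection lies in the torus part and is central.
-/

set_option autoImplicit false
set_option linter.unusedSectionVars false
set_option maxHeartbeats 800000

namespace Cfsg.Lib.Chev

open Cfsg.Lie

variable {D : ChevalleyDatum} {T : Tbl} {F : Type*} [Field F]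

/-- Root elements for different roots are different. -/
theorem xg_root_inj (C : Cert D T) {a b : ℕ} (ha : a < D.nroots) (hb : b < D.nroots) {t u : F} (ht : t ≠ 0)
    (e : xg C a t = xg C b u) : a = b := by
  by_contra hab
  refine ht (coroot_primitive C ha fun m hm => ?_)
  have e3 := congrArg (fun g : GL D.Idx F => (g : Matrix D.Idx D.Idx F) (Sum.inl ⟨m, hm⟩)
    (Sum.inr ⟨_, C.spec.neg_lt _ ha⟩)) e
  simp only [coe_xg] at e3
  rwa [x_inl_inr C.spec ha, if_pos rfl, x_inl_inr C.spec hb, if_neg fun e => hab (by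
    have := congrArg T.neg e
    simpa [C.spec.neg_neg _ ha, C.spec.neg_neg _ hb] using this)] at e3

theorem xg_param_inj (C : Cert D T) {a : ℕ} (ha : a < D.nroots) {t u : F} (e : xg C a t = xg C a u) : t = u := by
  have : xg C a (t - u) = 1 := by rw [sub_eq_add_neg, ← xg_add, e, ← xg_inv, mul_inv_cancel]
  exact sub_eq_zero.1 (xg_eq_one C ha this)

/-- The character of a torus element, with its values at opposite roots. -/
theorem diag_char (C : Cert D T) {h : GL D.Idx F} (hh : h ∈ D.diagonalSubgroup F) :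
    ∃ χ : ℕ → F, ∀ r < D.nroots, χ r ≠ 0 ∧ χ (T.neg r) = (χ r)⁻¹ ∧ ∀ t, h * xg C r t * h⁻¹ = xg C r (χ r * t) := by
  obtain ⟨c, hc, e⟩ := coe_diagonal C hh
  refine ⟨chr T D c, fun r hr => ⟨chr_ne_zero c hc r, chr_neg C.spec c hr, fun t => ?_⟩⟩
  rw [mul_inv_eq_iff_eq_mul]
  exact Units.ext (by rw [Units.val_mul, Units.val_mul, e, coe_xg, coe_xg, scal_mul_x C.spec c hc hr])

namespace StAll

variable {C : Cert D T} {E : Type*} [Group E] (Φ : StAll C F E)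

theorem add' {r : ℕ} (hr : r < D.nroots) (t u : F) : Φ.X r t * Φ.X r u = Φ.X r (t + u) := Φ.add r hr t u

theorem zero' {r : ℕ} (hr : r < D.nroots) : Φ.X r 0 = 1 := Φ.zero (r := r) hr

theorem inv' {r : ℕ} (hr : r < D.nroots) (t : F) : (Φ.X r t)⁻¹ = Φ.X r (-t) := Φ.inv (r := r) hr t

theorem nH_inv {q : ℕ} (hq : q < D.nroots) (v : F) : (Φ.nH q v)⁻¹ = Φ.nH q (-v) := by
  refine inv_eq_of_mul_eq_one_right ?_
  have hn := C.spec.neg_lt q hq
  calc Φ.nH q v * Φ.nH q (-v)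
      = Φ.X q v * Φ.X (T.neg q) (-v⁻¹) * (Φ.X q v * Φ.X q (-v)) * Φ.X (T.neg q) (-(-v)⁻¹) * Φ.X q (-v) := by
        simp only [nH, mul_assoc]
    _ = Φ.X q v * (Φ.X (T.neg q) (-v⁻¹) * Φ.X (T.neg q) (-(-v)⁻¹)) * Φ.X q (-v) := by
        rw [Φ.add' hq, add_neg_cancel, Φ.zero' hq, mul_one]; group
    _ = 1 := by rw [Φ.add' hn, inv_neg, neg_neg, neg_add_cancel, Φ.zero' hn, mul_one, Φ.add' hq, add_neg_cancel,
        Φ.zero' hq]

/-- The torus part. -/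
def torH : Subgroup E := Subgroup.closure {g | ∃ (i : ℕ) (v : F), i < D.rank ∧ v ≠ 0 ∧ g = Φ.hH (T.simp' i) v}

theorem hH_mem_torH {i : ℕ} (hi : i < D.rank) {v : F} (hv : v ≠ 0) : Φ.hH (T.simp' i) v ∈ Φ.torH :=
  Subgroup.subset_closure ⟨i, v, hi, hv, rfl⟩

theorem proj_torH {h : E} (hh : h ∈ Φ.torH) : Φ.proj h ∈ D.diagonalSubgroup F := by
  induction hh using Subgroup.closure_induction with
  | mem g hg =>
    obtain ⟨i, v, hi, hv, rfl⟩ := hg
    rw [Φ.proj_hH (C.spec.simp_lt i hi)]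
    exact hg_mem C (C.spec.simp_lt i hi) hv
  | one => rw [map_one]; exact one_mem _
  | mul a b _ _ ha hb => rw [map_mul]; exact mul_mem ha hb
  | inv a _ ha => rw [map_inv]; exact inv_mem ha

theorem nuH_sq {i : ℕ} (hi : i < D.rank) : Φ.nuH i * Φ.nuH i ∈ Φ.torH := by
  have hp := C.spec.simp_lt i hi
  have h := inv_mem (Φ.hH_mem_torH hi (neg_ne_zero.2 (one_ne_zero (α := F))))
  rwa [hH, mul_inv_rev, Φ.nH_inv hp, neg_neg] at h

/-- The element over a word. -/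
def wnuH (w : List ℕ) : E := (w.map Φ.nuH).prod

theorem wnuH_cons (i : ℕ) (w : List ℕ) : Φ.wnuH (i :: w) = Φ.nuH i * Φ.wnuH w := by simp [wnuH]

theorem wnuH_append (v w : List ℕ) : Φ.wnuH (v ++ w) = Φ.wnuH v * Φ.wnuH w := by simp [wnuH]

theorem proj_wnuH {w : List ℕ} (hw : IsWord D w) : Φ.proj (Φ.wnuH w) = wnu C F w := by
  induction w with
  | nil => simp [wnuH, wnu]
  | cons i w ih => rw [Φ.wnuH_cons, map_mul, Φ.proj_nuH hw.tail.1, ih hw.tail.2, wnu_cons]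

variable (K : FullCert D T) (hN : HasNbr D T)
include K hN

theorem nuH_conj {i : ℕ} (hi : i < D.rank) {s : ℕ} (hs : s < D.nroots) (t : F) :
    Φ.nuH i * Φ.X s t * (Φ.nuH i)⁻¹ = Φ.X (T.refl' i s) ((T.eta' i s : ℤ) * t) :=
  Φ.nH_conj K hN hi hs one_ne_zero (nu_conj_xg C hi hs t)

omit hN K in
theorem exists_ng_conj {i : ℕ} (hi : i < D.rank) {s : ℕ} (hs : s < D.nroots) {v : F} (hv : v ≠ 0) (t : F) :
    ∃ u, ng C (T.simp' i) v * xg C s t * (ng C (T.simp' i) v)⁻¹ = xg C (T.refl' i s) u := by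
  obtain ⟨χ, hχ⟩ := diag_conj_xg C (hg_mem C (F := F) (C.spec.simp_lt i hi) hv)
  refine ⟨χ (T.refl' i s) * (((T.eta' i s : ℤ) : F) * t), ?_⟩
  rw [← (hχ _ (C.spec.refl_lt i hi s hs)).2, ← nu_conj_xg C hi hs, ng_eq C (C.spec.simp_lt i hi) v, nu]
  group

/-- Conjugation by the torus part is determined by the image. -/
theorem torH_conj {h : E} (hh : h ∈ Φ.torH) : ∀ {s : ℕ}, s < D.nroots → ∀ {t u : F},
    Φ.proj h * xg C s t * (Φ.proj h)⁻¹ = xg C s u → h * Φ.X s t * h⁻¹ = Φ.X s u := by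
  induction hh using Subgroup.closure_induction with
  | mem g hg =>
    obtain ⟨i, v, hi, hv, rfl⟩ := hg
    intro s hs t u e
    have hp := C.spec.simp_lt i hi
    obtain ⟨u₁, h1⟩ := exists_ng_conj hi hs (neg_ne_zero.2 (one_ne_zero (α := F))) t (C := C)
    obtain ⟨u₂, h2⟩ := exists_ng_conj hi (C.spec.refl_lt i hi s hs) hv u₁ (C := C)
    have e1 := Φ.nH_conj K hN hi hs (neg_ne_zero.2 one_ne_zero) h1
    have e2 := Φ.nH_conj K hN hi (C.spec.refl_lt i hi s hs) hv h2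
    rw [C.spec.refl_refl i hi s hs] at h2 e2
    obtain rfl : u₂ = u := xg_param_inj C hs (by
      rw [← e, ← h2, ← h1, Φ.proj_hH hp, hg]; group)
    rw [← e2, ← e1, hH]; group
  | one =>
    intro s hs t u e
    rw [map_one, one_mul, inv_one, mul_one] at e
    rw [one_mul, inv_one, mul_one, xg_param_inj C hs e]
  | mul a b ha hb iha ihb =>
    intro s hs t u e
    obtain ⟨χ, hχ⟩ := diag_conj_xg C (Φ.proj_torH hb)
    have e1 := ihb hs ((hχ s hs).2 t)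
    have e2 := iha hs (t := χ s * t) (u := u) (by rw [← (hχ s hs).2 t, ← e, map_mul]; group)
    rw [← e2, ← e1]; group
  | inv a ha iha =>
    intro s hs t u e
    have e1 := iha hs (t := u) (u := t) (by rw [← e, map_inv]; group)
    rw [← e1]; group

/-- A conjugated reflection element. -/
theorem nuH_torH {i : ℕ} (hi : i < D.rank) {h : E} (hh : h ∈ Φ.torH) :
    Φ.nuH i * h * (Φ.nuH i)⁻¹ ∈ Φ.torH := by
  have hp := C.spec.simp_lt i hi
  have hn := C.spec.neg_lt _ hp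
  obtain ⟨χ, hχ⟩ := diag_char C (inv_mem (Φ.proj_torH hh))
  have e1 := Φ.torH_conj K hN (inv_mem hh) hp (t := 1) (u := χ (T.simp' i)) (by
    rw [map_inv, (hχ _ hp).2.2, mul_one])
  have e2 := Φ.torH_conj K hN (inv_mem hh) hn (t := -(1 : F)⁻¹) (u := -(χ (T.simp' i))⁻¹) (by
    rw [map_inv, (hχ _ hn).2.2, (hχ _ hp).2.1, inv_one, mul_neg_one])
  have e3 : h⁻¹ * Φ.nuH i * h = Φ.nH (T.simp' i) (χ (T.simp' i)) := by
    simp only [nuH, nH]
    rw [← e1, ← e2]; group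
  have e4 : Φ.nuH i * h * (Φ.nuH i)⁻¹ = h * Φ.hH (T.simp' i) (χ (T.simp' i)) := by
    rw [hH, ← e3, nuH, Φ.nH_inv hp]; group
  rw [e4]
  exact mul_mem hh (Φ.hH_mem_torH hi (hχ _ hp).1)

theorem nuH_torH' {i : ℕ} (hi : i < D.rank) {h : E} (hh : h ∈ Φ.torH) :
    (Φ.nuH i)⁻¹ * h * Φ.nuH i ∈ Φ.torH := by
  have h1 := mul_mem (mul_mem (inv_mem (Φ.nuH_sq hi)) (Φ.nuH_torH K hN hi hh)) (Φ.nuH_sq hi)
  convert h1 using 1
  group

theorem wnuH_torH {w : List ℕ} (hw : IsWord D w) {h : E} (hh : h ∈ Φ.torH) :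
    Φ.wnuH w * h * (Φ.wnuH w)⁻¹ ∈ Φ.torH ∧ (Φ.wnuH w)⁻¹ * h * Φ.wnuH w ∈ Φ.torH := by
  induction w generalizing h with
  | nil => simpa [wnuH] using hh
  | cons i w ih =>
    obtain ⟨hi, hw'⟩ := hw.tail
    rw [Φ.wnuH_cons]
    refine ⟨?_, ?_⟩
    · have := Φ.nuH_torH K hN hi (ih hw' hh).1
      simpa [mul_assoc] using this
    · have := (ih hw' (Φ.nuH_torH' K hN hi hh)).2
      simpa [mul_assoc] using this

/-- Words permute the root subgroups, with the same sign at opposite roots. -/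
theorem wnuH_conj {w : List ℕ} (hw : IsWord D w) {s : ℕ} (hs : s < D.nroots) :
    ∃ c : F, c * c = 1 ∧ ∀ t, Φ.wnuH w * Φ.X s t * (Φ.wnuH w)⁻¹ = Φ.X (wperm T w s) (c * t) ∧
      Φ.wnuH w * Φ.X (T.neg s) t * (Φ.wnuH w)⁻¹ = Φ.X (T.neg (wperm T w s)) (c * t) := by
  induction w with
  | nil => exact ⟨1, one_mul 1, fun t => by simp [wnuH, wperm]⟩
  | cons i w ih =>
    obtain ⟨hi, hw'⟩ := hw.tail
    obtain ⟨c, hc, hc'⟩ := ih hw'
    have hlt := wperm_lt C hw' hs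
    refine ⟨((T.eta' i (wperm T w s) : ℤ) : F) * c, ?_, fun t => ⟨?_, ?_⟩⟩
    · rw [mul_mul_mul_comm, eta_sq, hc, one_mul]
    · rw [Φ.wnuH_cons, show Φ.nuH i * Φ.wnuH w * Φ.X s t * (Φ.nuH i * Φ.wnuH w)⁻¹ =
        Φ.nuH i * (Φ.wnuH w * Φ.X s t * (Φ.wnuH w)⁻¹) * (Φ.nuH i)⁻¹ by group, (hc' t).1,
        Φ.nuH_conj K hN hi hlt, mul_assoc]
      rfl
    · rw [Φ.wnuH_cons, show Φ.nuH i * Φ.wnuH w * Φ.X (T.neg s) t * (Φ.nuH i * Φ.wnuH w)⁻¹ =
        Φ.nuH i * (Φ.wnuH w * Φ.X (T.neg s) t * (Φ.wnuH w)⁻¹) * (Φ.nuH i)⁻¹ by group, (hc' t).2,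
        Φ.nuH_conj K hN hi (C.spec.neg_lt _ hlt), C.spec.eta_neg i hi _ hlt, C.spec.refl_neg i hi _ hlt, mul_assoc]
      rfl

theorem exchangeH {k : ℕ} (hk : k < D.rank) : ∀ {w : List ℕ}, IsWord D w →
    2 * wperm T w (T.simp' k) < D.nroots →
    ∃ v, IsWord D v ∧ v.length + 1 = w.length ∧ ∃ h ∈ Φ.torH, Φ.wnuH w * Φ.nuH k = Φ.wnuH v * h := by
  intro w
  induction w with
  | nil =>
    intro _ h
    have := K.simple_pos hk
    simp only [wperm, List.foldr_nil] at h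
    omega
  | cons i w ih =>
    intro hw h
    have hi := hw.tail.1
    have hsk := C.spec.simp_lt k hk
    have hsi := C.spec.simp_lt i hi
    have hβ := wperm_lt C hw.tail.2 hsk
    change 2 * T.refl' i (wperm T w (T.simp' k)) < D.nroots at h
    by_cases hpos : D.nroots ≤ 2 * wperm T w (T.simp' k)
    · -- the sign changes at `i`
      have hβp : wperm T w (T.simp' k) = T.simp' i := by
        by_contra hne
        have := K.refl_pos hi hβ hpos hne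
        omega
      refine ⟨w, hw.tail.2, rfl, ?_⟩
      obtain ⟨c, hc, hc'⟩ := Φ.wnuH_conj K hN hw.tail.2 hsk
      have hcinv : c⁻¹ = c := inv_eq_of_mul_eq_one_right hc
      have hc0 : c ≠ 0 := left_ne_zero_of_mul (by rw [hc]; exact one_ne_zero)
      have hconj : Φ.wnuH w * Φ.nuH k * (Φ.wnuH w)⁻¹ = Φ.nH (T.simp' i) c := by
        rw [nuH, nH, show Φ.wnuH w * (Φ.X (T.simp' k) 1 * Φ.X (T.neg (T.simp' k)) (-(1 : F)⁻¹) * Φ.X (T.simp' k) 1) *
          (Φ.wnuH w)⁻¹ = (Φ.wnuH w * Φ.X (T.simp' k) 1 * (Φ.wnuH w)⁻¹) *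
            (Φ.wnuH w * Φ.X (T.neg (T.simp' k)) (-(1 : F)⁻¹) * (Φ.wnuH w)⁻¹) *
            (Φ.wnuH w * Φ.X (T.simp' k) 1 * (Φ.wnuH w)⁻¹) by group, (hc' _).1, (hc' _).2, hβp]
        simp only [nH, hcinv, inv_one, mul_one, mul_neg]
      have hh : Φ.nuH i * Φ.nH (T.simp' i) c ∈ Φ.torH := by
        have h1 : Φ.nuH i * Φ.nH (T.simp' i) c =
            (Φ.nuH i * Φ.hH (T.simp' i) c * (Φ.nuH i)⁻¹) * (Φ.nuH i * Φ.nuH i) := by
          have e : (Φ.nH (T.simp' i) (-1 : F))⁻¹ = Φ.nuH i := by rw [Φ.nH_inv hsi, neg_neg, nuH]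
          rw [hH, ← e]; group
        rw [h1]
        exact mul_mem (Φ.nuH_torH K hN hi (Φ.hH_mem_torH hi hc0)) (Φ.nuH_sq hi)
      refine ⟨(Φ.wnuH w)⁻¹ * (Φ.nuH i * Φ.nH (T.simp' i) c) * Φ.wnuH w, (Φ.wnuH_torH K hN hw.tail.2 hh).2, ?_⟩
      rw [Φ.wnuH_cons, ← hconj]
      group
    · obtain ⟨v, hv, hlen, d, hd, e⟩ := ih hw.tail.2 (by omega)
      exact ⟨i :: v, hv.cons hi, by simp [hlen], d, hd, by rw [Φ.wnuH_cons, Φ.wnuH_cons, mul_assoc, e, mul_assoc]⟩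

theorem word_kernelH : ∀ (n : ℕ) {w : List ℕ}, w.length = n → IsWord D w →
    (∀ k < D.rank, D.nroots ≤ 2 * wperm T w (T.simp' k)) → Φ.wnuH w ∈ Φ.torH := by
  intro n
  induction n using Nat.strong_induction_on with
  | _ n ih =>
    intro w hn hw hpos
    rcases w.eq_nil_or_concat' with rfl | ⟨w', k, rfl⟩
    · simp [wnuH]
    have hk : k < D.rank := hw k (by simp)
    have hw' : IsWord D w' := fun j hj => hw j (List.mem_append_left _ hj)
    have hsk := C.spec.simp_lt k hk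
    have h := hpos k hk
    rw [wperm_append] at h
    change D.nroots ≤ 2 * wperm T w' (T.refl' k (T.simp' k)) at h
    rw [C.spec.refl_simple k hk, wperm_neg C hw' hsk, K.neg_pos_iff (wperm_lt C hw' hsk)] at h
    obtain ⟨v, hv, hlen, d, hd, e⟩ := Φ.exchangeH K hN hk hw' h
    have hw2 : Φ.wnuH (w' ++ [k]) = Φ.wnuH v * d := by rw [Φ.wnuH_append, ← e]; simp [wnuH]
    rw [hw2]
    refine mul_mem (ih v.length (by simp at hn; omega) rfl hv fun j hj => ?_) hd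
    have hsj := C.spec.simp_lt j hj
    obtain ⟨c, hc, hc'⟩ := wnu_conj_xg C (F := F) hw hsj
    obtain ⟨c2, hc2, hc2'⟩ := wnu_conj_xg C (F := F) hv hsj
    obtain ⟨χ, hχ⟩ := diag_conj_xg C (Φ.proj_torH hd)
    have hp : wnu C F (w' ++ [k]) = wnu C F v * Φ.proj d := by
      rw [← Φ.proj_wnuH hw, hw2, map_mul, Φ.proj_wnuH hv]
    have e1 : xg C (wperm T v (T.simp' j)) (c2 * (χ (T.simp' j) * 1)) = xg C (wperm T (w' ++ [k]) (T.simp' j)) (c * 1) := by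
      rw [← hc' 1, ← hc2', ← (hχ _ hsj).2, hp]; group
    have hne : c2 * (χ (T.simp' j) * 1) ≠ 0 := by
      rw [mul_one]
      exact mul_ne_zero (left_ne_zero_of_mul (by rw [hc2]; exact one_ne_zero)) (hχ _ hsj).1
    rw [xg_root_inj C (wperm_lt C hv hsj) (wperm_lt C hw hsj) hne e1]
    exact hpos j hj

omit K hN in
/-- The positive part. -/
def posH : Subgroup E := Φ.gen {x | x < D.nroots ∧ D.nroots ≤ 2 * x}

omit K hN in
/-- The positive part without one fundamental root. -/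
def radH (i : ℕ) : Subgroup E := Φ.gen {x | x < D.nroots ∧ D.nroots ≤ 2 * x ∧ x ≠ T.simp' i}

omit K hN in
/-- The part over the Borel subgroup. -/
def borelH : Subgroup E := Φ.posH ⊔ Φ.torH

omit K hN in
theorem proj_posH {g : E} (hg : g ∈ Φ.posH) : Φ.proj g ∈ D.posUnipotent F := by
  induction hg using Subgroup.closure_induction with
  | mem g hg =>
    obtain ⟨r, hr, t, rfl⟩ := hg
    rw [Φ.map r hr.1]
    exact xg_mem_pos C hr.1 hr.2 t
  | one => rw [map_one]; exact one_mem _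
  | mul a b _ _ ha hb => rw [map_mul]; exact mul_mem ha hb
  | inv a _ ha => rw [map_inv]; exact inv_mem ha

omit K hN in
theorem posH_inj {g : E} (hg : g ∈ Φ.posH) (h : Φ.proj g = 1) : g = 1 := by
  refine Φ.eq_of_proj_eq (R := {x | x < D.nroots ∧ D.nroots ≤ 2 * x}) (fun x hx => hx.1) (f₀ := fun' C)
    (fun r s q i j e => fun'_linear C e) (fun a ha => fun'_pos C ha.1 ha.2) (fun a ha b hb _ _ c hc => ?_) hg
    (one_mem _) (by rw [h, map_one])
  obtain ⟨h1, h2, h3, h4⟩ := term_level C (f := fun' C) (fun r s q i j e => fun'_linear C e) ha.1 hb.1 hc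
  refine ⟨h1, ?_⟩
  by_contra hneg
  have := fun'_neg' C h1 (by omega)
  have := fun'_pos C ha.1 ha.2
  have := fun'_pos C hb.1 hb.2
  nlinarith

theorem torH_normalizes {R : Set ℕ} (hR : ∀ x ∈ R, x < D.nroots) :
    Φ.torH ≤ Subgroup.normalizer (Φ.gen R : Set E) := by
  intro h hh
  have key : ∀ h ∈ Φ.torH, ∀ g ∈ Φ.gen R, h * g * h⁻¹ ∈ Φ.gen R := by
    intro h hh g hg
    refine conj_mem_closure ?_ hg
    rintro _ ⟨r, hr, t, rfl⟩
    obtain ⟨χ, hχ⟩ := diag_conj_xg C (Φ.proj_torH hh)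
    rw [Φ.torH_conj K hN hh (hR r hr) ((hχ r (hR r hr)).2 t)]
    exact Φ.mem_gen hr _
  refine Subgroup.mem_normalizer_iff.2 fun g => ⟨key h hh g, fun hg => ?_⟩
  simpa [mul_assoc] using key _ (inv_mem hh) _ hg

theorem mem_borelH {g : E} : g ∈ Φ.borelH ↔ ∃ u ∈ Φ.posH, ∃ h ∈ Φ.torH, g = u * h := by
  constructor
  · intro hg
    rw [borelH, posH, ← SetLike.mem_coe, Subgroup.coe_mul_of_right_le_normalizer_left _ _
      (Φ.torH_normalizes K hN (R := {x | x < D.nroots ∧ D.nroots ≤ 2 * x}) fun x hx => hx.1)] at hg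
    obtain ⟨u, hu, h, hh, rfl⟩ := Set.mem_mul.1 hg
    exact ⟨u, hu, h, hh, rfl⟩
  · rintro ⟨u, hu, h, hh, rfl⟩
    exact mul_mem (Subgroup.mem_sup_left hu) (Subgroup.mem_sup_right hh)

omit hN in
theorem simple_conj_radH {i : ℕ} (hi : i < D.rank) (t : F) {g : E} (hg : g ∈ Φ.radH i) :
    Φ.X (T.simp' i) t * g * (Φ.X (T.simp' i) t)⁻¹ ∈ Φ.radH i := by
  have hp := C.spec.simp_lt i hi
  have hpp := K.simple_pos hi
  refine Φ.conj_gen_mem (R := {x | x < D.nroots ∧ D.nroots ≤ 2 * x ∧ x ≠ T.simp' i}) hp (fun x hx => hx.1)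
    (fun x hx => ?_) t hg
  obtain ⟨h1, h2, h3⟩ := hx
  have hneg := C.neg_eq hp
  refine ⟨h3, by omega, fun c hc => ?_⟩
  obtain ⟨g1, -, g3, g4⟩ := tTerms_lt C hp h1 c hc
  have hn : ¬ D.InRootSub {i} x := fun h => h3 (inRootSub_singleton C K hi h h2)
  obtain ⟨q1, q2⟩ := sum_pos C K g1 g3 g4 (inRootSub_simple C hi (J := ({i} : Set ℕ)) rfl) h1 h2 hn
  exact ⟨g1, q1, fun e => q2 (e ▸ inRootSub_simple C hi (J := ({i} : Set ℕ)) rfl)⟩

omit hN in
theorem pos_decompH {i : ℕ} (hi : i < D.rank) {u : E} (hu : u ∈ Φ.posH) :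
    ∃ v ∈ Φ.radH i, ∃ t : F, u = v * Φ.X (T.simp' i) t := by
  have hp := C.spec.simp_lt i hi
  induction hu using Subgroup.closure_induction with
  | mem g hg =>
    obtain ⟨r, hr, t, rfl⟩ := hg
    by_cases h : r = T.simp' i
    · subst h; exact ⟨1, one_mem _, t, (one_mul _).symm⟩
    · exact ⟨_, Φ.mem_gen (R := {x | x < D.nroots ∧ D.nroots ≤ 2 * x ∧ x ≠ T.simp' i}) ⟨hr.1, hr.2, h⟩ t, 0,
        by rw [Φ.zero' hp, mul_one]⟩
  | one => exact ⟨1, one_mem _, 0, by rw [Φ.zero' hp, mul_one]⟩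
  | mul a b _ _ ha hb =>
    obtain ⟨v, hv, t, rfl⟩ := ha
    obtain ⟨w, hw, s, rfl⟩ := hb
    refine ⟨v * (Φ.X (T.simp' i) t * w * (Φ.X (T.simp' i) t)⁻¹), mul_mem hv (Φ.simple_conj_radH K hi t hw),
      t + s, ?_⟩
    rw [← Φ.add' hp]; group
  | inv a _ ha =>
    obtain ⟨v, hv, t, rfl⟩ := ha
    refine ⟨Φ.X (T.simp' i) (-t) * v⁻¹ * (Φ.X (T.simp' i) (-t))⁻¹, Φ.simple_conj_radH K hi _ (inv_mem hv), -t, ?_⟩
    rw [← Φ.inv' hp]; group

theorem nuH_conj_radH {i : ℕ} (hi : i < D.rank) {g : E} (hg : g ∈ Φ.radH i) :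
    Φ.nuH i * g * (Φ.nuH i)⁻¹ ∈ Φ.radH i := by
  refine conj_mem_closure ?_ hg
  rintro _ ⟨r, ⟨h1, h2, h3⟩, t, rfl⟩
  rw [Φ.nuH_conj K hN hi h1]
  refine Φ.mem_gen (R := {x | x < D.nroots ∧ D.nroots ≤ 2 * x ∧ x ≠ T.simp' i})
    ⟨C.spec.refl_lt i hi r h1, K.refl_pos hi h1 h2 h3, fun e => ?_⟩ _
  have := congrArg (T.refl' i) e
  rw [C.spec.refl_refl i hi r h1, C.spec.refl_simple i hi] at this
  have := C.neg_eq (C.spec.simp_lt i hi)
  have := K.simple_pos hi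
  omega

theorem nuH_mul_borelH {i : ℕ} (hi : i < D.rank) {b d : E} (hb : b ∈ Φ.borelH) {w : List ℕ} (hw : IsWord D w)
    (hd : d ∈ Φ.torH) : ∃ x ∈ Φ.borelH, ∃ y ∈ Φ.borelH,
      Φ.nuH i * b * (Φ.wnuH w * d) = x * Φ.wnuH (i :: w) * y ∨ Φ.nuH i * b * (Φ.wnuH w * d) = x * Φ.wnuH w * y := by
  have hHB : Φ.torH ≤ Φ.borelH := le_sup_right
  obtain ⟨u, hu, h, hh, rfl⟩ := (Φ.mem_borelH K hN).1 hb
  obtain ⟨v, hv, t, rfl⟩ := Φ.pos_decompH K hi hu
  have hp := C.spec.simp_lt i hi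
  have hnp := C.spec.neg_lt _ hp
  let σ := wperm T w.reverse (T.simp' i)
  have hσ : σ < D.nroots := wperm_lt C hw.reverse hp
  have hwσ : wperm T w σ = T.simp' i := by
    have := wperm_reverse C hw.reverse hp
    rwa [List.reverse_reverse] at this
  have hrad : Φ.radH i ≤ Φ.borelH :=
    (Φ.gen_mono (R' := {x | x < D.nroots ∧ D.nroots ≤ 2 * x}) fun x hx => ⟨hx.1, hx.2.1⟩).trans le_sup_left
  have hxB : ∀ {r : ℕ}, r < D.nroots → D.nroots ≤ 2 * r → ∀ a : F, Φ.X r a ∈ Φ.borelH := fun h1 h2 a =>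
    Subgroup.mem_sup_left (Φ.mem_gen (R := {x | x < D.nroots ∧ D.nroots ≤ 2 * x}) ⟨h1, h2⟩ a)
  have hv' : Φ.nuH i * v * (Φ.nuH i)⁻¹ ∈ Φ.borelH := hrad (Φ.nuH_conj_radH K hN hi hv)
  have hh' : (Φ.wnuH w)⁻¹ * h * Φ.wnuH w ∈ Φ.borelH := hHB (Φ.wnuH_torH K hN hw hh).2
  obtain ⟨c, hc, hct⟩ := Φ.wnuH_conj K hN hw hσ
  have hxW : ∀ a : F, Φ.X (T.simp' i) a * Φ.wnuH w = Φ.wnuH w * Φ.X σ (c * a) := fun a => by
    have := (hct (c * a)).1
    rw [← mul_assoc c, hc, one_mul, hwσ] at this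
    rw [← this]; group
  have e0 : Φ.nuH i * (v * Φ.X (T.simp' i) t * h) * (Φ.wnuH w * d) =
      (Φ.nuH i * v * (Φ.nuH i)⁻¹) * (Φ.nuH i * Φ.X (T.simp' i) t * Φ.wnuH w) *
        (((Φ.wnuH w)⁻¹ * h * Φ.wnuH w) * d) := by group
  by_cases hcase : t = 0 ∨ D.nroots ≤ 2 * σ
  · have hx : Φ.X σ (c * t) ∈ Φ.borelH := by
      rcases hcase with rfl | hpos
      · rw [mul_zero, Φ.zero' hσ]; exact one_mem _
      · exact hxB hσ hpos _
    refine ⟨_, hv', Φ.X σ (c * t) * (((Φ.wnuH w)⁻¹ * h * Φ.wnuH w) * d),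
      mul_mem hx (mul_mem hh' (hHB hd)), Or.inl ?_⟩
    rw [e0, mul_assoc (Φ.nuH i) (Φ.X (T.simp' i) t), hxW, Φ.wnuH_cons]
    group
  · push Not at hcase
    obtain ⟨ht, hneg⟩ := hcase
    have hyW : ∀ a : F, Φ.X (T.neg (T.simp' i)) a * Φ.wnuH w = Φ.wnuH w * Φ.X (T.neg σ) (c * a) := fun a => by
      have := (hct (c * a)).2
      rw [← mul_assoc c, hc, one_mul, hwσ] at this
      rw [← this]; group
    let a : F := (-t)⁻¹
    have ha : a ≠ 0 := inv_ne_zero (neg_ne_zero.2 ht)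
    have hsx : ∀ b : F, Φ.nuH i * Φ.X (T.simp' i) b = Φ.X (T.neg (T.simp' i)) (-b) * Φ.nuH i := fun b => by
      have := Φ.nuH_conj K hN hi hp b
      rw [C.spec.refl_simple i hi, C.spec.eta_simple i hi] at this
      push_cast at this
      rw [neg_one_mul] at this
      rw [← this]; group
    have hy : Φ.X (T.neg (T.simp' i)) (-t) =
        Φ.X (T.simp' i) a * Φ.hH (T.simp' i) (-a) * Φ.nuH i * Φ.X (T.simp' i) a := by
      have e3 : Φ.hH (T.simp' i) (-a) * Φ.nuH i = Φ.nH (T.simp' i) (-a) := by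
        rw [hH, nuH, mul_assoc, ← Φ.nH_inv hp (1 : F), inv_mul_cancel, mul_one]
      have e4 : -(-a)⁻¹ = -t := by simp [a]
      rw [mul_assoc (Φ.X (T.simp' i) a), e3, nH, e4]
      simp only [← mul_assoc]
      rw [Φ.add' hp, add_neg_cancel, Φ.zero' hp, one_mul, mul_assoc, Φ.add' hp, neg_add_cancel, Φ.zero' hp, mul_one]
    have e1 : Φ.nuH i * Φ.X (T.simp' i) t * Φ.wnuH w =
        Φ.X (T.simp' i) a * Φ.hH (T.simp' i) (-a) * Φ.wnuH w *
          (Φ.X (T.neg σ) (c * -a) * ((Φ.wnuH w)⁻¹ * (Φ.nuH i * Φ.nuH i) * Φ.wnuH w)) := by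
      rw [hsx, hy]
      calc Φ.X (T.simp' i) a * Φ.hH (T.simp' i) (-a) * Φ.nuH i * Φ.X (T.simp' i) a * Φ.nuH i * Φ.wnuH w
          = Φ.X (T.simp' i) a * Φ.hH (T.simp' i) (-a) *
              (Φ.X (T.neg (T.simp' i)) (-a) * (Φ.nuH i * Φ.nuH i)) * Φ.wnuH w := by
            rw [mul_assoc (Φ.X (T.simp' i) a * Φ.hH (T.simp' i) (-a)) (Φ.nuH i), hsx]; group
        _ = Φ.X (T.simp' i) a * Φ.hH (T.simp' i) (-a) * (Φ.X (T.neg (T.simp' i)) (-a) * Φ.wnuH w) *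
              ((Φ.wnuH w)⁻¹ * (Φ.nuH i * Φ.nuH i) * Φ.wnuH w) := by group
        _ = _ := by rw [hyW]; group
    refine ⟨(Φ.nuH i * v * (Φ.nuH i)⁻¹) * (Φ.X (T.simp' i) a * Φ.hH (T.simp' i) (-a)),
      mul_mem hv' (mul_mem (hxB hp (K.simple_pos hi) a) (hHB (Φ.hH_mem_torH hi (neg_ne_zero.2 ha)))),
      (Φ.X (T.neg σ) (c * -a) * ((Φ.wnuH w)⁻¹ * (Φ.nuH i * Φ.nuH i) * Φ.wnuH w)) *
        (((Φ.wnuH w)⁻¹ * h * Φ.wnuH w) * d),
      mul_mem (mul_mem (hxB (C.spec.neg_lt σ hσ) ((K.neg_pos_iff hσ).2 hneg) _)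
        (hHB (Φ.wnuH_torH K hN hw (Φ.nuH_sq hi)).2)) (mul_mem hh' (hHB hd)), Or.inr ?_⟩
    rw [e0, e1]
    group

omit K hN in
/-- Membership in one of the cells. -/
def InCell (g : E) : Prop :=
  ∃ b ∈ Φ.borelH, ∃ w, IsWord D w ∧ ∃ d ∈ Φ.torH, ∃ b' ∈ Φ.borelH, g = b * (Φ.wnuH w * d) * b'

theorem gen_inCell {g : E} (hg : g ∈ Φ.gen {r | r < D.nroots}) : Φ.InCell g := by
  let M : Subgroup E :=
    { carrier := {g | ∀ y, Φ.InCell y → Φ.InCell (g * y) ∧ Φ.InCell (g⁻¹ * y)}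
      one_mem' := fun y hy => by simpa using hy
      inv_mem' := fun {g} hg y hy => by simpa [and_comm] using hg y hy
      mul_mem' := fun {a b} ha hb y hy => ⟨by simpa [mul_assoc] using (ha _ (hb y hy).1).1,
        by simpa [mul_assoc] using (hb _ (ha y hy).2).2⟩ }
  have hB : Φ.borelH ≤ M := by
    intro b hb y hy
    obtain ⟨x, hx, w, hw, d, hd, x', hx', rfl⟩ := hy
    exact ⟨⟨b * x, mul_mem hb hx, w, hw, d, hd, x', hx', by group⟩,
      ⟨b⁻¹ * x, mul_mem (inv_mem hb) hx, w, hw, d, hd, x', hx', by group⟩⟩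
  have hnu : ∀ i < D.rank, Φ.nuH i ∈ M := by
    intro i hi
    have h1 : ∀ y, Φ.InCell y → Φ.InCell (Φ.nuH i * y) := by
      rintro y ⟨b, hb, w, hw, d, hd, b', hb', rfl⟩
      obtain ⟨x, hx, z, hz, e | e⟩ := Φ.nuH_mul_borelH K hN hi hb hw hd
      · exact ⟨x, hx, i :: w, hw.cons hi, 1, one_mem _, z * b', mul_mem hz hb', by
          rw [← mul_assoc, ← mul_assoc (Φ.nuH i), e]; group⟩
      · exact ⟨x, hx, w, hw, 1, one_mem _, z * b', mul_mem hz hb', by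
          rw [← mul_assoc, ← mul_assoc (Φ.nuH i), e]; group⟩
    intro y hy
    refine ⟨h1 y hy, ?_⟩
    have h2 := (hB (Subgroup.mem_sup_right (Φ.nuH_sq hi)) _ (h1 y hy)).2
    have e : (Φ.nuH i * Φ.nuH i)⁻¹ * (Φ.nuH i * y) = (Φ.nuH i)⁻¹ * y := by group
    rwa [e] at h2
  have hX : ∀ r < D.nroots, ∀ t : F, Φ.X r t ∈ M := by
    refine C.root_induction (P := fun r => ∀ t : F, Φ.X r t ∈ M) (fun i hi t => hB (Subgroup.mem_sup_left
      (Φ.mem_gen (R := {x | x < D.nroots ∧ D.nroots ≤ 2 * x}) ⟨C.spec.simp_lt i hi, K.simple_pos hi⟩ t))) ?_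
    intro i hi r hr ih t
    have e := Φ.nuH_conj K hN hi hr ((T.eta' i r : ℤ) * t : F)
    rw [← mul_assoc, eta_sq, one_mul] at e
    rw [← e]
    exact mul_mem (mul_mem (hnu i hi) (ih _)) (inv_mem (hnu i hi))
  have hM : g ∈ M := (Subgroup.closure_le _).2 (fun x (hx : ∃ r ∈ {r | r < D.nroots}, ∃ t, x = Φ.X r t) => by
    obtain ⟨r, hr, t, rfl⟩ := hx
    exact hX r hr t) hg
  have := (hM 1 ⟨1, one_mem _, [], fun _ h => absurd h List.not_mem_nil, 1, one_mem _, 1, one_mem _, by simp [wnuH]⟩).1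
  rwa [mul_one] at this

/-- An element over the identity lies in the torus part and centralises the root elements. -/
theorem kernel_mem {g : E} (hg : g ∈ Φ.gen {r | r < D.nroots}) (h1 : Φ.proj g = 1) :
    g ∈ Φ.torH ∧ ∀ r < D.nroots, ∀ t, g * Φ.X r t = Φ.X r t * g := by
  obtain ⟨b, hb, w, hw, d, hd, b', hb', rfl⟩ := Φ.gen_inCell K hN hg
  have hπB : ∀ x ∈ Φ.borelH, Φ.proj x ∈ D.borelSubgroup F := by
    intro x hx
    obtain ⟨u, hu, h, hh, rfl⟩ := (Φ.mem_borelH K hN).1 hx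
    rw [map_mul]
    exact mul_mem (Subgroup.mem_sup_left (Φ.proj_posH hu)) (Subgroup.mem_sup_right (Φ.proj_torH hh))
  have hn : Φ.proj (Φ.wnuH w * d) = (Φ.proj b)⁻¹ * (Φ.proj b')⁻¹ := by
    rw [map_mul, map_mul] at h1
    calc Φ.proj (Φ.wnuH w * d) = (Φ.proj b)⁻¹ * (Φ.proj b * Φ.proj (Φ.wnuH w * d) * Φ.proj b') * (Φ.proj b')⁻¹ := by
          group
      _ = _ := by rw [h1, mul_one]
  have hdiag : wnu C F w ∈ D.diagonalSubgroup F := by
    have h2 : Φ.proj (Φ.wnuH w * d) ∈ D.borelSubgroup F := by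
      rw [hn]; exact mul_mem (inv_mem (hπB b hb)) (inv_mem (hπB b' hb'))
    have h3 : Φ.proj (Φ.wnuH w * d) ∈ D.monomialSubgroup F := by
      rw [map_mul, Φ.proj_wnuH hw]
      exact mul_mem (wnu_mem C hw) (diag_le_monomial C (Φ.proj_torH hd))
    have h4 : Φ.proj (Φ.wnuH w * d) ∈ D.diagonalSubgroup F := by
      rw [← borel_inf_monomial C]; exact ⟨h2, h3⟩
    rw [map_mul, Φ.proj_wnuH hw] at h4
    exact (Subgroup.mul_mem_cancel_right _ (Φ.proj_torH hd)).1 h4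
  have hpos : ∀ k < D.rank, D.nroots ≤ 2 * wperm T w (T.simp' k) := fun k hk => by
    have hsk := C.spec.simp_lt k hk
    obtain ⟨c, hc, hct⟩ := wnu_conj_xg C (F := F) hw hsk
    obtain ⟨χ, hχ⟩ := diag_conj_xg C hdiag
    have := xg_root_inj C hsk (wperm_lt C hw hsk) (t := χ (T.simp' k) * 1) (u := c * 1)
      (by rw [mul_one]; exact (hχ _ hsk).1) (by rw [← (hχ _ hsk).2, hct])
    rw [← this]; exact K.simple_pos hk
  have hgB : b * (Φ.wnuH w * d) * b' ∈ Φ.borelH :=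
    mul_mem (mul_mem hb (Subgroup.mem_sup_right (mul_mem (Φ.word_kernelH K hN _ rfl hw hpos) hd))) hb'
  obtain ⟨u, hu, h, hh, e⟩ := (Φ.mem_borelH K hN).1 hgB
  rw [e] at h1 ⊢
  rw [map_mul] at h1
  have hπu : Φ.proj u = 1 := (Subgroup.eq_bot_iff_forall _).1 (pos_inf_diag C) _
    ⟨Φ.proj_posH hu, eq_inv_of_mul_eq_one_left h1 ▸ Subgroup.inv_mem _ (Φ.proj_torH hh)⟩
  rw [hπu, one_mul] at h1
  rw [Φ.posH_inj hu hπu, one_mul]
  refine ⟨hh, fun r hr t => ?_⟩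
  have := Φ.torH_conj K hN hh hr (t := t) (u := t) (by rw [h1, one_mul, inv_one, mul_one])
  rwa [mul_inv_eq_iff_eq_mul] at this

end StAll

end Cfsg.Lib.Chev
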