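import Cfsg.Agent.Lib.Chev.StEmbE
import Cfsg.Agent.Lib.Chev.StEquiv

/-! The order of the centre of the group presented by Steinberg's relators: types E6, E7 inside E8. -/

set_option autoImplicit false
set_option linter.unusedSectionVars false

namespace Cfsg.Lib.Chev

open Cfsg.Lie

variable {D D' : ChevalleyDatum} {T T' : Tbl} {F : Type*} [Field F]

theorem prod_hg_eq_scal (C : Cert D T) {v : ℕ → F} (hv : ∀ i, v i ≠ 0) : ∀ n ≤ D.rank,
    ((((List.range n).map fun i => hg C (T.simp' i) (v i)).prod : GL D.Idx F) : Matrix D.Idx D.Idx F) =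
      scal T D (fun j => if j < n then v j else 1)
  | 0, _ => by simp [scal_one]
  | n + 1, hn => by
    have hn' : n < D.rank := by omega
    rw [List.range_succ, List.map_append, List.prod_append, List.map_singleton, List.prod_singleton, Units.val_mul,
      prod_hg_eq_scal C hv n (by omega), coe_hg_eq C (C.spec.simp_lt n hn') (hv n), coDiag_simple C hn',
      dModel_eq_scal hn', scal_mul]
    congr 1
    funext j
    rcases lt_trichotomy j n with h | h | h
    · simp [h, h.ne, Nat.lt_succ_of_lt h]
    · subst h; simp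
    · simp [show ¬ j < n by omega, h.ne', show ¬ j < n + 1 by omega]

theorem scal_extend (c : Fin D.rank → Fˣ) :
    scal T D (fun j => if j < D.rank then extend' c j else 1) =
      ((torusHom D T F c : GL D.Idx F) : Matrix D.Idx D.Idx F) := by
  rw [coe_torusHom]
  congr 1
  funext j
  unfold extend'
  split_ifs <;> rfl

/-- The map of generators into a larger root system. -/
noncomputable def subGen (C' : Cert D' T') (ph : List ℕ) (p : Fin D.nroots × F) : GL D'.Idx F :=
  xg C' (ph.getD p.1 0) p.2

section Sub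

variable (C : Cert D T) (C' : Cert D' T') {ph : List ℕ} (hph : chkSub T T' ph = true)
include C C' hph

theorem sub_root {r : ℕ} (hr : r < D.nroots) : ph.getD r 0 < D'.nroots ∧ ph.getD (T.neg r) 0 = T'.neg (ph.getD r 0) ∧
    ∀ s < D.nroots, s ≠ r → s ≠ T.neg r → ph.getD s 0 ≠ ph.getD r 0 ∧ ph.getD s 0 ≠ T'.neg (ph.getD r 0) ∧
      tTerms T' (ph.getD r 0) (ph.getD s 0) = (tTerms T r s).map fun c => (ph.getD c.1 0, c.2) := by
  simp only [chkSub, Bool.and_eq_true, allBelow_iff, C.spec.shape.nroots_eq, C'.spec.shape.nroots_eq, Nat.blt_eq,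
    Bool.or_eq_true, Bool.not_eq_true', decide_eq_true_eq] at hph
  obtain ⟨⟨h1, h2⟩, h3⟩ := hph.1 r hr
  refine ⟨h1, Nat.eq_of_beq_eq_true h2, fun s hs hne hne' => ?_⟩
  rcases h3 s hs with h | h | h
  · exact absurd (Nat.eq_of_beq_eq_true h) hne
  · exact absurd (Nat.eq_of_beq_eq_true h) hne'
  · obtain ⟨⟨ha, hb⟩, hc⟩ := h
    exact ⟨fun e => by rw [e, Nat.beq_refl] at ha; exact Bool.noConfusion ha,
      fun e => by rw [e, Nat.beq_refl] at hb; exact Bool.noConfusion hb, hc⟩

theorem sub_simp {i : ℕ} (hi : i < D.rank) : i < D'.rank ∧ ph.getD (T.simp' i) 0 = T'.simp' i := by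
  simp only [chkSub, Bool.and_eq_true, allBelow_iff, C.spec.shape.rank_eq, C'.spec.shape.rank_eq, Nat.blt_eq] at hph
  obtain ⟨h1, h2⟩ := hph.2 i hi
  exact ⟨h1, Nat.eq_of_beq_eq_true h2⟩

theorem subGen_stX {r : ℕ} (hr : r < D.nroots) (t : F) :
    FreeGroup.lift (subGen C' ph) (D.stX r t) = xg C' (ph.getD r 0) t := by
  rw [ChevalleyDatum.stX, dif_pos hr]; exact FreeGroup.lift_apply_of

theorem subGen_stH {r : ℕ} (hr : r < D.nroots) (v : F) :
    FreeGroup.lift (subGen C' ph) (D.stH r v) = hg C' (ph.getD r 0) v := by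
  obtain ⟨h1, h2, -⟩ := sub_root C C' hph hr
  rw [ChevalleyDatum.stH, hom_stWord]
  simp only [ChevalleyDatum.hWord, ChevalleyDatum.nWord, List.cons_append, List.nil_append, List.map_cons, List.map_nil,
    List.prod_cons, List.prod_nil, mul_one, C.spec.shape.neg_eq r hr, subGen_stX C C' hph hr,
    subGen_stX C C' hph (C.spec.neg_lt r hr), h2, hg, ng, C'.spec.shape.neg_eq _ h1, mul_assoc]

theorem subGen_rels (K' : CommCert D' T') : ∀ g ∈ D.steinbergRels F, FreeGroup.lift (subGen C' ph) g = 1 := by
  rintro g ((⟨r, t₁, t₂, hr, rfl⟩ | ⟨r, s, t, u, hr, hs, h1, h2, rfl⟩) | ⟨r, t₁, t₂, hr, ht₁, ht₂, rfl⟩)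
  · rw [map_mul, map_mul, map_inv, subGen_stX C C' hph hr, subGen_stX C C' hph hr, subGen_stX C C' hph hr, xg_add,
      mul_inv_cancel]
  · rw [C.spec.shape.neg_eq r hr] at h2
    obtain ⟨hr1, hr2, hr3⟩ := sub_root C C' hph hr
    obtain ⟨hs1, -, -⟩ := sub_root C C' hph hs
    obtain ⟨hne, hne', he⟩ := hr3 s hs h1 h2
    rw [map_mul, map_mul, map_mul, map_mul, map_inv, map_inv, map_inv, subGen_stX C C' hph hr, subGen_stX C C' hph hs,
      hom_stWord, ChevalleyDatum.commWord, commTerms_eq C hr hs, List.map_map]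
    have hterm : ((tTerms T r s).map fun c : ℕ × ℤ × ℕ × ℕ =>
        FreeGroup.lift (subGen C' ph) (D.stX c.1 ((c.2.1 : F) * (-t) ^ c.2.2.1 * u ^ c.2.2.2))).prod =
        termProd T' (fun x v => xg C' x v) (ph.getD r 0) (ph.getD s 0) t u := by
      rw [termProd, he, List.map_map]
      exact congrArg List.prod (List.map_congr_left fun c hc => subGen_stX C C' hph (tTerms_lt C hr hs c hc).1 _)
    simp only [Function.comp_def]
    rw [hterm, mul_assoc _ (xg C' (ph.getD s 0) u), comm_xg_terms C' K' hr1 hs1 hne hne' t u]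
    group
  · rw [map_mul, map_mul, map_inv, subGen_stH C C' hph hr, subGen_stH C C' hph hr, subGen_stH C C' hph hr,
      hg_mul C' (sub_root C C' hph hr).1 ht₁ ht₂, mul_inv_cancel]

/-- The homomorphism into the larger Chevalley group. -/
noncomputable def subHom (K' : CommCert D' T') : D.SteinbergGroup F →* GL D'.Idx F :=
  PresentedGroup.toGroup (subGen_rels C C' hph K')

theorem subHom_mk (K' : CommCert D' T') (g : FreeGroup (Fin D.nroots × F)) :
    subHom C C' hph K' (PresentedGroup.mk (D.steinbergRels F) g) = FreeGroup.lift (subGen C' ph) g := rfl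

end Sub

theorem card_center_of_sub [Finite F] (C : Cert D T) (K : FullCert D T) (hN : HasNbr D T) (C' : Cert D' T')
    (K' : CommCert D' T') {ph : List ℕ} (hph : chkSub T T' ph = true)
    {M : Matrix (Fin D'.rank) (Fin D'.rank) ℤ} (hM : M * cartanMat D' T' = 1) :
    Nat.card (Subgroup.center (D.SteinbergGroup F)) =
      Nat.card (powHom (cartanMat D T) : (Fin D.rank → Fˣ) →* _).ker := by
  classical
  let Φ := presFam (F := F) C K.comm (fun g hg => relsAB_subset hg : D.steinbergRelsAB F ⊆ D.steinbergRels F) subset_rfl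
  have hgen : Φ.Gen := presFam_gen _ _ _ _
  have hmul : Φ.HMul := fun i hi t u ht hu => by
    have h := PresentedGroup.one_of_mem (rels := D.steinbergRels F)
      (x := D.stH (T.simp' i) t * D.stH (T.simp' i) u * (D.stH (T.simp' i) (t * u))⁻¹)
      (Or.inr ⟨_, t, u, C.spec.simp_lt i hi, ht, hu, rfl⟩)
    rw [map_mul, map_mul, map_inv, mul_inv_eq_one] at h
    simp only [stH_mk C K.comm (fun g hg => relsAB_subset hg) subset_rfl (C.spec.simp_lt i hi)] at h
    exact h
  have hne : ∀ (c : Fin D.rank → Fˣ) i, extend' c i ≠ 0 := fun c => extend'_ne c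
  let Ψ : (Fin D.rank → Fˣ) →* D.SteinbergGroup F :=
    { toFun := fun c => Φ.hProd (extend' c) D.rank
      map_one' := by
        convert Φ.hProd_one D.rank le_rfl using 2
        funext j; simp [extend']
      map_mul' := fun a b => by
        rw [Φ.hProd_mul K hN hmul (hne a) (hne b) D.rank le_rfl]
        congr 1
        funext j; unfold extend'; split_ifs <;> simp }
  have hπ : ∀ c, Φ.proj (Ψ c) = torusHom D T F c := fun c => Units.ext (by
    rw [← scal_extend, ← prod_hg_eq_scal C (hne c) D.rank le_rfl]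
    show ((Φ.proj (Φ.hProd (extend' c) D.rank) : GL D.Idx F) : Matrix D.Idx D.Idx F) = _
    rw [StAll.hProd, map_list_prod, List.map_map]
    congr 2
    exact List.map_congr_left fun i hi => Φ.proj_hH (C.spec.simp_lt i (List.mem_range.1 hi)) _)
  have hle : D.rank ≤ D'.rank := by
    by_contra hlt
    exact lt_irrefl _ (sub_simp C C' hph (show D'.rank < D.rank by omega)).1
  have hinj : Function.Injective Ψ := (injective_iff_map_eq_one Ψ).2 fun c hc => by
    let c' : Fin D'.rank → Fˣ := fun k => if h : k.1 < D.rank then c ⟨k, h⟩ else 1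
    have hρ : torusHom D' T' F c' = 1 := by
      have h1 : subHom C C' hph K' (Ψ c) = 1 := by rw [hc, map_one]
      rw [← h1]
      refine Units.ext ?_
      show _ = ((subHom C C' hph K' (Φ.hProd (extend' c) D.rank) : GL D'.Idx F) : Matrix D'.Idx D'.Idx F)
      rw [StAll.hProd, map_list_prod, List.map_map,
        List.map_congr_left (g := fun i => hg C' (T'.simp' i) (extend' c i)) (fun i hi => ?_),
        prod_hg_eq_scal C' (hne c) D.rank hle, coe_torusHom]
      · congr 1
        funext j
        by_cases h : j < D.rank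
        · simp [extend', c', h, show j < D'.rank by omega]
        · rw [if_neg h]; unfold extend'; split_ifs <;> simp [c', h]
      · have hi' := List.mem_range.1 hi
        rw [Function.comp_apply,
          ← stH_mk C K.comm (fun g hg => relsAB_subset hg) subset_rfl (C.spec.simp_lt i hi'), subHom_mk,
          subGen_stH C C' hph (C.spec.simp_lt i hi'), (sub_simp C C' hph hi').2]
    have hk : c' ∈ (powHom (cartanMat D' T') : (Fin D'.rank → Fˣ) →* _).ker := by
      rw [← torusHom_ker C']; exact hρ
    have hc' : c' = 1 := by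
      have e : powHom (M * cartanMat D' T') c' = c' := by rw [hM, powHom_one]; rfl
      rw [← e, powHom_mul, MonoidHom.comp_apply, MonoidHom.mem_ker.1 hk, map_one]
    funext i
    have := congrFun hc' ⟨i.1, lt_of_lt_of_le i.2 hle⟩
    simpa [c', i.2] using this
  have himg : Subgroup.center (D.SteinbergGroup F) = (powHom (cartanMat D T) : (Fin D.rank → Fˣ) →* _).ker.map Ψ := by
    rw [← Φ.ker_projG_eq_center K hN hgen, ← torusHom_ker C]
    refine le_antisymm (fun g hg => ?_) ?_
    · obtain ⟨v, hv, rfl⟩ := Φ.exists_hProd K hN hmul (Φ.ker_projG_le_torH K hN hgen hg)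
      have e : Ψ (fun i => Units.mk0 (v i) (hv i)) = Φ.hProd v D.rank := by
        show Φ.hProd _ D.rank = Φ.hProd v D.rank
        exact congrArg List.prod (List.map_congr_left fun i hi => by simp [extend', List.mem_range.1 hi])
      refine ⟨_, ?_, e⟩
      show torusHom D T F _ = 1
      rw [← hπ, e]
      exact congrArg Subtype.val (show Φ.projG hgen _ = 1 from hg)
    · rintro _ ⟨c, hc, rfl⟩
      exact Subtype.ext ((hπ c).trans hc)
  rw [himg, Nat.card_congr (Subgroup.equivMapOfInjective _ Ψ hinj).toEquiv]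

end Cfsg.Lib.Chev
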