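import Cfsg.Agent.Lib.Chev.StPairAll

/-!
The group presented by (R1)–(R3) as covering group: from lifted relators to Schur multipliers.
-/

set_option autoImplicit false
set_option linter.unusedSectionVars false

namespace Cfsg.Lib.Chev

open Cfsg.Lie
open scoped commutatorElement

universe w

variable {D : ChevalleyDatum} {T : Tbl} {F : Type w} [Field F] {C : Cert D T} {E : Type*} [Group E]

theorem fam_stH (Φ : StAll C F E) {r : ℕ} (hr : r < D.nroots) (t : F) :
    FreeGroup.lift (fun p : Fin D.nroots × F => Φ.X p.1 p.2) (D.stH r t) = Φ.hH r t := by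
  rw [ChevalleyDatum.stH, hom_stWord]
  simp only [ChevalleyDatum.hWord, ChevalleyDatum.nWord, List.cons_append, List.nil_append, List.map_cons, List.map_nil,
    List.prod_cons, List.prod_nil, mul_one, C.spec.shape.neg_eq r hr, lift_fam Φ hr,
    lift_fam Φ (C.spec.neg_lt r hr), StAll.hH, StAll.nH, mul_assoc]

theorem fam_rels (Φ : StAll C F E) (K : FullCert D T) (hN : HasNbr D T) (hmul : Φ.HMul) :
    ∀ g ∈ D.steinbergRels F, FreeGroup.lift (fun p : Fin D.nroots × F => Φ.X p.1 p.2) g = 1 := by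
  rintro g (hg | ⟨r, t, u, hr, ht, hu, rfl⟩)
  · exact fam_relsAB Φ g hg
  · rw [map_mul, map_mul, map_inv, fam_stH Φ hr, fam_stH Φ hr, fam_stH Φ hr,
      Φ.hH_mul_root K hN hmul r hr t u ht hu, mul_inv_cancel]

/-- The homomorphism from the group presented by (R1)–(R3). -/
noncomputable def famHomFull (Φ : StAll C F E) (K : FullCert D T) (hN : HasNbr D T) (hmul : Φ.HMul) :
    D.SteinbergGroup F →* E := PresentedGroup.toGroup (fam_rels Φ K hN hmul)

theorem proj_famHomFull (Φ : StAll C F E) (K : FullCert D T) (hN : HasNbr D T) (hmul : Φ.HMul) :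
    Φ.proj.comp (famHomFull Φ K hN hmul) = presProj C K.comm (rels := D.steinbergRels F) subset_rfl := by
  refine PresentedGroup.ext fun p => ?_
  show Φ.proj (famHomFull Φ K hN hmul (PresentedGroup.of p)) = _
  rw [famHomFull, PresentedGroup.toGroup.of]
  rw [show PresentedGroup.of p = PresentedGroup.mk (D.steinbergRels F) (FreeGroup.of p) from rfl, presProj_mk,
    FreeGroup.lift_apply_of]
  exact Φ.map _ p.1.2 _

theorem famHomFull_range (Φ : StAll C F E) (K : FullCert D T) (hN : HasNbr D T) (hmul : Φ.HMul) :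
    (famHomFull Φ K hN hmul).range = Φ.gen {r | r < D.nroots} := by
  refine le_antisymm ?_ ?_
  · rw [MonoidHom.range_eq_map, ← PresentedGroup.closure_range_of, MonoidHom.map_closure, Subgroup.closure_le]
    rintro _ ⟨_, ⟨⟨r, t⟩, rfl⟩, rfl⟩
    rw [famHomFull, PresentedGroup.toGroup.of]
    exact Φ.mem_gen (R := {r | r < D.nroots}) r.2 t
  · refine (Subgroup.closure_le _).2 ?_
    rintro _ ⟨r, hr, t, rfl⟩
    exact ⟨PresentedGroup.of (⟨r, hr⟩, t), PresentedGroup.toGroup.of _⟩

theorem steinbergGroup_perfect (K : FullCert D T) (hp : commutator (D.SteinbergCover F) = ⊤) :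
    commutator (D.SteinbergGroup F) = ⊤ := by
  let Φ := presFam (F := F) K.comm.cert K.comm (fun g hg => relsAB_subset hg : D.steinbergRelsAB F ⊆ D.steinbergRels F) subset_rfl
  have hs : Function.Surjective (famHom Φ) := by
    rw [← MonoidHom.range_eq_top, famHom_range]
    exact presFam_gen _ _ _ _
  have h := congrArg (Subgroup.map (famHom Φ)) hp
  rw [Subgroup.map_top_of_surjective _ hs, commutator_def, Subgroup.map_commutator,
    Subgroup.map_top_of_surjective _ hs] at h
  exact h

/-- The group presented by (R1)–(R3) is finite over a finite field. -/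
theorem steinbergGroup_finite [Finite F] (K : FullCert D T) (hN : HasNbr D T)
    (hc : Nat.card (Subgroup.center (D.SteinbergGroup F)) ≠ 0) : Finite (D.SteinbergGroup F) := by
  let Φ := presFam (F := F) K.comm.cert K.comm (fun g hg => relsAB_subset hg : D.steinbergRelsAB F ⊆ D.steinbergRels F) subset_rfl
  have hgen : Φ.Gen := presFam_gen _ _ _ _
  haveI : Finite ↥(Φ.projG hgen).ker := by
    rw [Φ.ker_projG_eq_center K hN hgen]; exact Nat.finite_of_card_ne_zero hc
  haveI : Finite (D.SteinbergGroup F ⧸ (Φ.projG hgen).ker) :=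
    Finite.of_equiv _ (QuotientGroup.quotientKerEquivOfSurjective _ (Φ.projG_surjective hgen)).symm.toEquiv
  exact Finite.of_equiv _ (Subgroup.groupEquivQuotientProdSubgroup (s := (Φ.projG hgen).ker)).symm

/-- Lifted relators give a trivial multiplier of the group presented by (R1)–(R3). -/
theorem steinbergGroup_multiplier [Finite F] (K : FullCert D T) (hN : HasNbr D T)
    (hp : commutator (D.SteinbergCover F) = ⊤) (hc : Nat.card (Subgroup.center (D.SteinbergGroup F)) ≠ 0)
    (hfam : ∀ (X : Type w) [Group X] (P : CentExt K.comm.cert F X), commutator X = ⊤ →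
      ∃ Φ : StAll K.comm.cert F X, Φ.proj = P.p) :
    Cfsg.HasCyclicSchurMultiplier (D.SteinbergGroup F) 1 := by
  haveI := steinbergGroup_finite K hN hc
  have hpG := steinbergGroup_perfect K hp
  let Φ₀ := presFam (F := F) K.comm.cert K.comm (fun g hg => relsAB_subset hg : D.steinbergRelsAB F ⊆ D.steinbergRels F) subset_rfl
  have hgen : Φ₀.Gen := presFam_gen _ _ _ _
  refine trivial_multiplier fun Γ _ _ σ hσ => ?_
  let P : CentExt K.comm.cert F Γ :=
    { p := Φ₀.proj.comp σ
      central := fun x hx => central_of_over_central σ hσ.1 hσ.2.1 hpG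
        (Φ₀.ker_projG_le_center K hN hgen (Subtype.ext (show Φ₀.proj (σ x) = 1 from hx)))
      mem_range := fun r t => by
        by_cases hr : r < D.nroots
        · obtain ⟨x, hx⟩ := hσ.1 (Φ₀.X r t)
          exact ⟨x, by show Φ₀.proj (σ x) = _; rw [hx, Φ₀.map r hr]⟩
        · rw [xg_out _ hr]; exact one_mem _ }
  obtain ⟨Φ, hΦ⟩ := hfam Γ P (stem_perfect hσ hpG)
  have hmul := Φ.hMul_of_finite K hN
  let τ := famHomFull Φ K hN hmul
  have hid : σ.comp τ = MonoidHom.id _ := by
    refine eq_of_central_diff _ _ (fun y => Φ₀.ker_projG_le_center K hN hgen (Subtype.ext ?_)) hpG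
    show Φ₀.proj ((σ (τ y))⁻¹ * y) = 1
    have h1 := proj_famHomFull Φ K hN hmul
    rw [hΦ] at h1
    have e : Φ₀.proj (σ (τ y)) = Φ₀.proj y := DFunLike.congr_fun h1 y
    rw [map_mul, map_inv, e, inv_mul_cancel]
  have hτ : Function.Surjective τ := by
    rw [← MonoidHom.range_eq_top]
    refine top_of_stem hσ hpG (eq_top_iff.2 fun y _ => ⟨τ y, ⟨y, rfl⟩, DFunLike.congr_fun hid y⟩)
  refine (Subgroup.eq_bot_iff_forall _).2 fun x hx => ?_
  obtain ⟨y, rfl⟩ := hτ x
  have hy : y = 1 := (DFunLike.congr_fun hid y).symm.trans hx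
  rw [hy, map_one]

/-- Lifted relators give the multiplier of the Chevalley group when the centre of its covering group is cyclic of
order `1` or a prime. -/
theorem group_multiplier [Finite F] (K : FullCert D T) (hN : HasNbr D T)
    (hp : commutator (D.SteinbergCover F) = ⊤) {p n : ℕ} (hpp : p.Prime) (hn : n ∣ p)
    (hc : Nat.card (Subgroup.center (D.SteinbergGroup F)) = n)
    (hfam : ∀ (X : Type w) [Group X] (P : CentExt K.comm.cert F X), commutator X = ⊤ →
      ∃ Φ : StAll K.comm.cert F X, Φ.proj = P.p) :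
    Cfsg.HasCyclicSchurMultiplier ↥(D.group F) n := by
  have hn0 : n ≠ 0 := fun e => hpp.ne_zero (by simpa [e] using hn)
  haveI := steinbergGroup_finite K hN (hc ▸ hn0)
  have hpG := steinbergGroup_perfect K hp
  have hpD := commutator_group_top K hN hp
  let Φ₀ := presFam (F := F) K.comm.cert K.comm (fun g hg => relsAB_subset hg : D.steinbergRelsAB F ⊆ D.steinbergRels F) subset_rfl
  have hgen : Φ₀.Gen := presFam_gen _ _ _ _
  let θ := Φ₀.projG hgen
  have hker : θ.ker = Subgroup.center (D.SteinbergGroup F) := Φ₀.ker_projG_eq_center K hN hgen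
  haveI : IsCyclic ↥θ.ker := by
    rcases (Nat.dvd_prime hpp).1 (hker.symm ▸ hc ▸ hn : Nat.card ↥θ.ker ∣ p) with h | h
    · haveI := (Nat.card_eq_one_iff_unique.1 h).1
      exact isCyclic_of_subsingleton
    · haveI := Fact.mk hpp
      exact isCyclic_of_prime_card h
  have hcard : Nat.card ↥θ.ker = n := by rw [hker]; exact hc
  let e : Multiplicative (ZMod n) ≃* ↥θ.ker := hcard ▸ zmodCyclicMulEquiv inferInstance
  refine ⟨⟨D.SteinbergGroup F, inferInstance, inferInstance, θ, ⟨Φ₀.projG_surjective hgen, hker.le,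
    hpG ▸ le_top⟩, ⟨e.symm⟩⟩, fun Γ _ _ σ hσ => ?_⟩
  obtain ⟨Φ, hΦ⟩ := hfam Γ (stemExt K.comm.cert σ hσ) (stem_perfect hσ hpD)
  have hgen' := stem_gen K.comm.cert σ hσ hpD Φ hΦ
  have hmul := Φ.hMul_of_finite K hN
  let τ := famHomFull Φ K hN hmul
  have hστ : ∀ y, σ (τ y) = θ y := fun y => Subtype.ext (by
    have h1 := proj_famHomFull Φ K hN hmul
    rw [hΦ] at h1
    exact DFunLike.congr_fun h1 y)
  have hτ : Function.Surjective τ := by
    rw [← MonoidHom.range_eq_top, famHomFull_range]; exact hgen'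
  let ρ : ↥θ.ker →* ↥σ.ker := (τ.comp θ.ker.subtype).codRestrict σ.ker fun y => by
    show σ (τ y) = 1
    rw [hστ]; exact y.2
  refine ⟨ρ.comp e.toMonoidHom, fun x => ?_⟩
  obtain ⟨y, hy⟩ := hτ x.1
  have hy' : y ∈ θ.ker := by rw [MonoidHom.mem_ker, ← hστ, hy]; exact x.2
  obtain ⟨z, hz⟩ := e.surjective ⟨y, hy'⟩
  refine ⟨z, Subtype.ext ?_⟩
  show τ (e z).1 = x.1
  rw [hz]; exact hy

end Cfsg.Lib.Chev
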