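import Cfsg.Agent.Lib.Chev.StAllTypes
import Cfsg.Agent.Lib.Chev.Torus

/-! The root systems of types E6, E7 inside the one of type E8: the structure constants agree. -/

set_option autoImplicit false
set_option maxRecDepth 100000

namespace Cfsg.Lib.Chev

open Cfsg.Lie

/-- The structure constants agree along a map of root indices. -/
noncomputable def chkSub (T T' : Tbl) (ph : List ℕ) : Bool :=
  allBelow (fun r => (Nat.blt (ph.getD r 0) T'.nroots && Nat.beq (ph.getD (T.neg r) 0) (T'.neg (ph.getD r 0))) &&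
    allBelow (fun s => Nat.beq s r || (Nat.beq s (T.neg r) || ((!Nat.beq (ph.getD s 0) (ph.getD r 0) &&
      !Nat.beq (ph.getD s 0) (T'.neg (ph.getD r 0))) && decide (tTerms T' (ph.getD r 0) (ph.getD s 0) =
      (tTerms T r s).map fun c => (ph.getD c.1 0, c.2))))) T.nroots) T.nroots &&
    allBelow (fun i => Nat.blt i T'.rank && Nat.beq (ph.getD (T.simp' i) 0) (T'.simp' i)) T.rank

/-- The root indices of E6 in E8. -/
def subE6E8 : List ℕ := [35, 45, 51, 54, 55, 61, 64, 65, 68, 69, 70, 73, 74, 75, 76, 77, 83, 86, 87, 90, 91, 92, 95, 96, 97, 98, 101, 102, 103, 104, 107, 108, 109, 112, 113, 116, 123, 126, 127, 130, 131, 132, 135, 136, 137, 138, 141, 142, 143, 144, 147, 148, 149, 152, 153, 156, 162, 163, 164, 165, 166, 169, 170, 171, 174, 175, 178, 184, 185, 188, 194, 204]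

theorem chkSub_E6 : chkSub tblE6 tblE8 subE6E8 = true := by decide +kernel

/-- The root indices of E7 in E8. -/
def subE7E8 : List ℕ := [13, 20, 25, 29, 32, 34, 35, 39, 42, 44, 45, 48, 50, 51, 53, 54, 55, 58, 60, 61, 63, 64, 65, 67, 68, 69, 70, 72, 73, 74, 75, 76, 77, 80, 82, 83, 85, 86, 87, 89, 90, 91, 92, 94, 95, 96, 97, 98, 100, 101, 102, 103, 104, 106, 107, 108, 109, 111, 112, 113, 115, 116, 118, 121, 123, 124, 126, 127, 128, 130, 131, 132, 133, 135, 136, 137, 138, 139, 141, 142, 143, 144, 145, 147, 148, 149, 150, 152, 153, 154, 156, 157, 159, 162, 163, 164, 165, 166, 167, 169, 170, 171, 172, 174, 175, 176, 178, 179, 181, 184, 185, 186, 188, 189, 191, 194, 195, 197, 200, 204, 205, 207, 210, 214, 219, 226]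

theorem chkSub_E7 : chkSub tblE7 tblE8 subE7E8 = true := by decide +kernel

theorem invCartE8 : (Matrix.of fun k j => (phiE8.getD k.1 []).getD j.1 0 : Matrix (Fin chevE8.rank) (Fin chevE8.rank) ℤ) *
    cartanMat chevE8 tblE8 = 1 := by decide +kernel

end Cfsg.Lib.Chev
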