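import Cfsg.Agent.Lib.Chev.Borel
import Cfsg.Agent.Lib.Chev.Perfect

/-!
Families of elements of an arbitrary group satisfying the relations of the root elements: on a positive set of roots
the map to the Chevalley group is injective, and the reflection elements permute the root subgroups.
-/

set_option autoImplicit false
set_option linter.unusedSectionVars false
set_option maxHeartbeats 800000

namespace Cfsg.Lib.Chev

open Cfsg.Lie

variable {D : ChevalleyDatum} {T : Tbl} {F : Type*} [Field F]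

/-- The product occurring in the commutator formula, for a family of elements. -/
def termProd {E : Type*} [Group E] (T : Tbl) (X : ℕ → F → E) (r s : ℕ) (t u : F) : E :=
  ((tTerms T r s).map fun c => X c.1 ((c.2.1 : F) * (-t) ^ c.2.2.1 * u ^ c.2.2.2)).prod

/-- Elements over the root elements satisfying the relations for the roots of `S`. -/
structure StFam (C : Cert D T) (F : Type*) [Field F] (E : Type*) [Group E] (S : Set ℕ) where
  /-- The elements. -/
  X : ℕ → F → E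
  /-- The projection. -/
  proj : E →* GL D.Idx F
  lt : ∀ r ∈ S, r < D.nroots
  map : ∀ r < D.nroots, ∀ t, proj (X r t) = xg C r t
  add : ∀ r ∈ S, ∀ t u, X r t * X r u = X r (t + u)
  comm : ∀ r ∈ S, ∀ s ∈ S, s ≠ r → s ≠ T.neg r → ∀ t u, X s u * X r t = X r t * X s u * termProd T X r s t u

/-- The functional separates two roots which are not proportional. -/
theorem exists_sep {C : Cert D T} (K : FullCert D T) : ∀ q < D.nroots, ∀ y < D.nroots, y ≠ q → y ≠ T.neg q →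
    ∃ f, IsLin D T f ∧ f q = 0 ∧ 0 < f y := by
  refine C.root_induction (P := fun q => ∀ y < D.nroots, y ≠ q → y ≠ T.neg q →
    ∃ f, IsLin D T f ∧ f q = 0 ∧ 0 < f y) ?_ ?_
  · intro i hi y hy h1 h2
    obtain ⟨a, hlin, ha⟩ := exists_coef C K
    have hsi := C.spec.simp_lt i hi
    have hnot : ¬ D.InRootSub {i} y := by
      intro h
      by_cases hp : D.nroots ≤ 2 * y
      · exact h1 (inRootSub_singleton C K hi h hp)
      · have := inRootSub_singleton C K hi (inRootSub_neg C h) ((K.neg_pos_iff hy).2 (by omega))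
        exact h2 (by rw [← this, C.spec.neg_neg y hy])
    rw [inRootSub_iff C] at hnot
    push Not at hnot
    obtain ⟨k, hk, hki, hne⟩ := hnot hy
    have h0 : a k (T.simp' i) = 0 := (ha _ hsi k hk).1.1 (by
      rw [C.spec.cor_simple i hi k hk, if_neg (by simpa using hki)])
    have h3 : a k y ≠ 0 := fun e => hne ((ha y hy k hk).1.2 e)
    rcases lt_or_gt_of_ne h3 with hneg | hpos
    · refine ⟨fun x => -a k x, fun r s q i j h => ?_, by simp [h0], show 0 < -a k y by omega⟩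
      show -a k q = i * -a k r + j * -a k s
      rw [hlin k r s q i j h]; ring
    · exact ⟨a k, hlin k, h0, hpos⟩
  · intro i hi q hq ih y hy h1 h2
    have hy' := C.spec.refl_lt i hi y hy
    obtain ⟨f, hf, hf1, hf2⟩ := ih _ hy' (fun e => h1 (by rw [← e, C.spec.refl_refl i hi y hy]))
      (fun e => h2 (by rw [← C.spec.refl_neg i hi q hq, ← e, C.spec.refl_refl i hi y hy]))
    have hval : ∀ x < D.nroots, f (T.refl' i x) = f x - T.cartan i x * f (T.simp' i) := fun x hx => by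
      rw [hf x (T.simp' i) _ 1 (-T.cartan i x) fun m hm => by rw [C.spec.cart_refl i hi m hm x hx]; ring]
      ring
    refine ⟨fun x => f x - T.cartan i x * f (T.simp' i), fun r s x a b h => ?_, ?_, ?_⟩
    · show f x - T.cartan i x * f (T.simp' i) = a * (f r - T.cartan i r * f (T.simp' i)) +
        b * (f s - T.cartan i s * f (T.simp' i))
      rw [hf r s x a b h, h i hi]; ring
    · show f (T.refl' i q) - T.cartan i (T.refl' i q) * f (T.simp' i) = 0
      rw [← hval _ (C.spec.refl_lt i hi q hq), C.spec.refl_refl i hi q hq]; exact hf1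
    · show 0 < f y - T.cartan i y * f (T.simp' i)
      rw [← hval y hy]; exact hf2

/-- The terms of the formula for roots with levels `a` and `b`. -/
theorem term_level (C : Cert D T) {f : ℕ → ℤ} (hf : IsLin D T f) {r s : ℕ} (hr : r < D.nroots) (hs : s < D.nroots)
    {c : ℕ × ℤ × ℕ × ℕ} (hc : c ∈ tTerms T r s) :
    c.1 < D.nroots ∧ f c.1 = (c.2.2.1 : ℤ) * f r + (c.2.2.2 : ℤ) * f s ∧ (1 : ℤ) ≤ c.2.2.1 ∧ (1 : ℤ) ≤ c.2.2.2 := by
  obtain ⟨h1, h2, h3, h4⟩ := tTerms_lt C hr hs c hc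
  exact ⟨h1, hf r s c.1 _ _ h4, by exact_mod_cast h2, by exact_mod_cast h3⟩

namespace StFam

variable {C : Cert D T} {E : Type*} [Group E] {S : Set ℕ} (Φ : StFam C F E S)

theorem zero {r : ℕ} (hr : r ∈ S) : Φ.X r 0 = 1 := by
  have := Φ.add r hr 0 0
  rw [add_zero] at this
  exact mul_eq_left.1 this

theorem inv {r : ℕ} (hr : r ∈ S) (t : F) : (Φ.X r t)⁻¹ = Φ.X r (-t) :=
  inv_eq_of_mul_eq_one_left (by rw [Φ.add r hr, neg_add_cancel, Φ.zero hr])

theorem mapTermProd {r s : ℕ} (hr : r < D.nroots) (hs : s < D.nroots) (t u : F) :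
    Φ.proj (termProd T Φ.X r s t u) = termProd T (fun x v => xg C x v) r s t u := by
  rw [termProd, map_list_prod, List.map_map, termProd]
  exact congrArg List.prod (List.map_congr_left fun c hc => Φ.map _ (tTerms_lt C hr hs c hc).1 _)

/-- The subgroup generated by the elements of a set of roots. -/
def gen (R : Set ℕ) : Subgroup E := Subgroup.closure {g | ∃ r ∈ R, ∃ t, g = Φ.X r t}

theorem mem_gen {R : Set ℕ} {r : ℕ} (hr : r ∈ R) (t : F) : Φ.X r t ∈ Φ.gen R :=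
  Subgroup.subset_closure ⟨r, hr, t, rfl⟩

theorem gen_mono {R R' : Set ℕ} (h : R ⊆ R') : Φ.gen R ≤ Φ.gen R' :=
  Subgroup.closure_mono fun _ ⟨r, hr, t, e⟩ => ⟨r, h hr, t, e⟩

theorem conj_gen_mem {q : ℕ} (hq : q ∈ S) {R : Set ℕ} (hRS : R ⊆ S)
    (h : ∀ x ∈ R, x ≠ q ∧ x ≠ T.neg q ∧ ∀ c ∈ tTerms T q x, c.1 ∈ R) (t : F) {g : E} (hg : g ∈ Φ.gen R) :
    Φ.X q t * g * (Φ.X q t)⁻¹ ∈ Φ.gen R := by
  refine conj_mem_closure ?_ hg
  rintro _ ⟨x, hx, u, rfl⟩
  obtain ⟨h1, h2, h3⟩ := h x hx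
  have e := Φ.comm q hq x (hRS hx) h1 h2 (-t) u
  have e' : Φ.X q t * Φ.X x u * (Φ.X q t)⁻¹ = Φ.X x u * termProd T Φ.X q x (-t) u := by
    rw [Φ.inv hq, mul_assoc, e, ← mul_assoc, ← mul_assoc, Φ.add q hq, add_neg_cancel, Φ.zero hq, one_mul]
  rw [e']
  refine mul_mem (Φ.mem_gen hx u) (list_prod_mem fun y hy => ?_)
  obtain ⟨c, hc, rfl⟩ := List.mem_map.1 hy
  exact Φ.mem_gen (h3 c hc) _

section Tri

variable {R : Set ℕ} (hRS : R ⊆ S) {f : ℕ → ℤ} (hf : IsLin D T f) (hinj : ∀ a ∈ R, ∀ b ∈ R, f a = f b → a = b)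
  (hcl : ∀ a ∈ R, ∀ b ∈ R, b ≠ a → b ≠ T.neg a → ∀ c ∈ tTerms T a b, c.1 ∈ R)
include hRS hf hinj hcl

theorem level_step (hpos : ∀ a ∈ R, 0 < f a) {c : ℤ} {g : E} (hg : g ∈ Φ.gen {x | x ∈ R ∧ c ≤ f x}) :
    g ∈ Φ.gen {x | x ∈ R ∧ c + 1 ≤ f x} ∨
      ∃ r ∈ R, f r = c ∧ ∃ t, ∃ b ∈ Φ.gen {x | x ∈ R ∧ c + 1 ≤ f x}, g = Φ.X r t * b := by
  by_cases hex : ∃ r ∈ R, f r = c
  · refine Or.inr ?_
    obtain ⟨r, hr, hrc⟩ := hex
    refine ⟨r, hr, hrc, ?_⟩
    have hconj : ∀ t : F, ∀ b ∈ Φ.gen {x | x ∈ R ∧ c + 1 ≤ f x},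
        Φ.X r t * b * (Φ.X r t)⁻¹ ∈ Φ.gen {x | x ∈ R ∧ c + 1 ≤ f x} := fun t b hb => by
      refine Φ.conj_gen_mem (hRS hr) (fun x hx => hRS hx.1) (fun x hx => ?_) t hb
      obtain ⟨hxR, hxc⟩ := hx
      have hne : x ≠ r := fun e => by subst e; omega
      have hxn := Φ.lt x (hRS hxR)
      have hrn := Φ.lt r (hRS hr)
      have hne2 : x ≠ T.neg r := fun e => by
        have := isLin_neg C hf hrn
        rw [← e] at this
        have := hpos x hxR
        have := hpos r hr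
        omega
      refine ⟨hne, hne2, fun d hd => ⟨hcl r hr x hxR hne hne2 d hd, ?_⟩⟩
      obtain ⟨-, h2, h3, h4⟩ := term_level C hf hrn hxn hd
      have := hpos r hr
      rw [h2]; nlinarith
    induction hg using Subgroup.closure_induction with
    | mem g hg =>
      obtain ⟨x, ⟨hxR, hxc⟩, t, rfl⟩ := hg
      rcases hxc.eq_or_lt with h | h
      · obtain rfl := hinj x hxR r hr (h.symm.trans hrc.symm)
        exact ⟨t, 1, one_mem _, (mul_one _).symm⟩
      · exact ⟨0, _, Φ.mem_gen (R := {x | x ∈ R ∧ c + 1 ≤ f x}) ⟨hxR, h⟩ t, by rw [Φ.zero (hRS hr), one_mul]⟩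
    | one => exact ⟨0, 1, one_mem _, by rw [Φ.zero (hRS hr), one_mul]⟩
    | mul a b _ _ ha hb =>
      obtain ⟨t, a', ha', rfl⟩ := ha
      obtain ⟨u, b', hb', rfl⟩ := hb
      refine ⟨t + u, Φ.X r (-u) * a' * (Φ.X r (-u))⁻¹ * b', mul_mem (hconj _ _ ha') hb', ?_⟩
      rw [← Φ.add r (hRS hr), ← Φ.inv (hRS hr)]; group
    | inv a _ ha =>
      obtain ⟨t, a', ha', rfl⟩ := ha
      refine ⟨-t, Φ.X r t * a'⁻¹ * (Φ.X r t)⁻¹, hconj _ _ (inv_mem ha'), ?_⟩
      rw [← Φ.inv (hRS hr)]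
      group
  · refine Or.inl ?_
    push Not at hex
    refine Φ.gen_mono (R := {x | x ∈ R ∧ c ≤ f x}) (R' := {x | x ∈ R ∧ c + 1 ≤ f x}) (fun x hx => ⟨hx.1, ?_⟩) hg
    have := hx.2
    have := hex x hx.1
    omega

theorem level_map_le {c : ℤ} (hc : 0 ≤ c) :
    ∀ g ∈ Φ.gen {x | x ∈ R ∧ c ≤ f x}, Φ.proj g ∈ gshiftGroup D F f c hc := by
  intro g hg
  induction hg using Subgroup.closure_induction with
  | mem g hg =>
    obtain ⟨x, ⟨hxR, hxc⟩, t, rfl⟩ := hg
    rw [Φ.map x (Φ.lt x (hRS hxR))]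
    exact xg_mem_gshift C hf (Φ.lt x (hRS hxR)) t hxc hc
  | one => rw [map_one]; exact one_mem _
  | mul a b _ _ ha hb => rw [map_mul]; exact mul_mem ha hb
  | inv a _ ha => rw [map_inv]; exact inv_mem ha

theorem level_inj (hpos : ∀ a ∈ R, 0 < f a) : ∀ (m : ℕ) {c : ℤ}, 1 ≤ c → (∀ x ∈ R, f x < c + m) →
    ∀ g ∈ Φ.gen {x | x ∈ R ∧ c ≤ f x}, Φ.proj g = 1 → g = 1 := by
  intro m
  induction m with
  | zero =>
    intro c _ hb g hg _
    have he : {g : E | ∃ r ∈ {x | x ∈ R ∧ c ≤ f x}, ∃ t, g = Φ.X r t} = ∅ :=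
      Set.eq_empty_iff_forall_notMem.2 fun _ ⟨r, ⟨hr, hrc⟩, _⟩ => by
        have := hb r hr
        omega
    rw [gen, he, Subgroup.closure_empty, Subgroup.mem_bot] at hg
    exact hg
  | succ m ih =>
    intro c hc hb g hg hπ
    have hb' : ∀ x ∈ R, f x < c + 1 + m := fun x hx => by have := hb x hx; omega
    rcases Φ.level_step hRS hf hinj hcl hpos hg with h | ⟨r, hr, hrc, t, b, hbm, rfl⟩
    · exact ih (by omega) hb' g h hπ
    · have hrn := Φ.lt r (hRS hr)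
      rw [map_mul, Φ.map r hrn] at hπ
      have hbs := Φ.level_map_le hRS hf hinj hcl (c := c + 1) (by omega) b hbm
      rw [eq_inv_of_mul_eq_one_right hπ, inv_mem_iff] at hbs
      have ht : t = 0 := by
        refine coroot_primitive C hrn fun k hk => ?_
        by_contra hne
        have hn := C.spec.neg_lt r hrn
        have := hbs.1 (Sum.inl ⟨k, hk⟩) (Sum.inr ⟨T.neg r, hn⟩) (by
          rw [Matrix.sub_apply, coe_xg, x_inl_inr C.spec hrn, if_pos rfl, Matrix.one_apply_ne (by simp), sub_zero]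
          exact hne)
        simp only [glev, isLin_neg C hf hrn] at this
        omega
      subst ht
      rw [xg_zero, one_mul] at hπ
      rw [ih (by omega) hb' b hbm hπ, Φ.zero (hRS hr), one_mul]

end Tri

/-- On a set of roots positive for a functional the projection is injective. -/
theorem eq_of_proj_eq {R : Set ℕ} (hRS : R ⊆ S) {f₀ : ℕ → ℤ} (hf₀ : IsLin D T f₀) (hpos : ∀ a ∈ R, 0 < f₀ a)
    (hcl : ∀ a ∈ R, ∀ b ∈ R, b ≠ a → b ≠ T.neg a → ∀ c ∈ tTerms T a b, c.1 ∈ R) {g h : E}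
    (hg : g ∈ Φ.gen R) (hh : h ∈ Φ.gen R) (e : Φ.proj g = Φ.proj h) : g = h := by
  let B : ℤ := ∑ x ∈ Finset.range D.nroots, |fun' C x|
  have hB : ∀ x < D.nroots, |fun' C x| ≤ B := fun x hx =>
    Finset.single_le_sum (f := fun x => |fun' C x|) (fun y _ => abs_nonneg _) (Finset.mem_range.2 hx)
  have hB0 : 0 ≤ B := Finset.sum_nonneg fun y _ => abs_nonneg _
  let f : ℕ → ℤ := fun x => (2 * B + 1) * f₀ x + fun' C x
  have hf : IsLin D T f := fun r s q i j h => by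
    simp only [f, hf₀ r s q i j h, fun'_linear C h]; ring
  have hfpos : ∀ a ∈ R, 0 < f a := fun a ha => by
    have h1 := hpos a ha
    have h2 := (abs_le.1 (hB a (Φ.lt a (hRS ha)))).1
    simp only [f]; nlinarith
  have hinj : ∀ a ∈ R, ∀ b ∈ R, f a = f b → a = b := fun a ha b hb e => by
    have han := Φ.lt a (hRS ha)
    have hbn := Φ.lt b (hRS hb)
    have h1 := abs_le.1 (hB a han)
    have h2 := abs_le.1 (hB b hbn)
    simp only [f] at e
    have h3 : f₀ a = f₀ b := by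
      rcases lt_trichotomy (f₀ a) (f₀ b) with h | h | h
      · nlinarith
      · exact h
      · nlinarith
    rw [h3] at e
    rcases lt_trichotomy a b with h | h | h
    · have := fun'_lt C hbn h; omega
    · exact h
    · have := fun'_lt C han h; omega
  let M : ℕ := (∑ x ∈ Finset.range D.nroots, |f x|).toNat
  have hM : ∀ x ∈ R, f x < 1 + (M : ℤ) := fun x hx => by
    have h1 : |f x| ≤ ∑ y ∈ Finset.range D.nroots, |f y| :=
      Finset.single_le_sum (f := fun y => |f y|) (fun y _ => abs_nonneg _) (Finset.mem_range.2 (Φ.lt x (hRS hx)))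
    have h2 := le_abs_self (f x)
    simp only [M]; omega
  have hle : Φ.gen R ≤ Φ.gen {x | x ∈ R ∧ 1 ≤ f x} := Φ.gen_mono fun x hx => ⟨hx, hfpos x hx⟩
  exact mul_inv_eq_one.1 (Φ.level_inj hRS hf hinj hcl hfpos M le_rfl hM _ (hle (mul_mem hg (inv_mem hh)))
    (by rw [map_mul, map_inv, e, mul_inv_cancel]))

end StFam

/-- A family for all roots. -/
abbrev StAll (C : Cert D T) (F : Type*) [Field F] (E : Type*) [Group E] := StFam C F E {r | r < D.nroots}

namespace StAll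

variable {C : Cert D T} {E : Type*} [Group E] (Φ : StAll C F E)

/-- The group generated by the elements for `± q`. -/
def pairGen (q : ℕ) : Subgroup E := Φ.gen {q, T.neg q}

/-- Conjugation by an element for `± q` is determined by the image. -/
theorem conj_lift {q y z : ℕ} (hq : q < D.nroots) (hy : y < D.nroots) (hz : z < D.nroots) {f : ℕ → ℤ}
    (hf : IsLin D T f) (h0 : f q = 0) (hy0 : 0 < f y) (hz0 : 0 < f z) {g : E} (hg : g ∈ Φ.pairGen q) {t u : F}
    (e : Φ.proj g * xg C y t * (Φ.proj g)⁻¹ = xg C z u) : g * Φ.X y t * g⁻¹ = Φ.X z u := by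
  let R : Set ℕ := {x | x < D.nroots ∧ 0 < f x}
  have hRS : R ⊆ {r | r < D.nroots} := fun x hx => hx.1
  have hcl : ∀ a ∈ R, ∀ b ∈ R, b ≠ a → b ≠ T.neg a → ∀ c ∈ tTerms T a b, c.1 ∈ R := fun a ha b hb _ _ c hc => by
    obtain ⟨h1, h2, h3, h4⟩ := term_level C hf ha.1 hb.1 hc
    refine ⟨h1, ?_⟩
    have := ha.2
    have := hb.2
    rw [h2]; nlinarith
  have key : ∀ p, p < D.nroots → f p = 0 → ∀ (s : F) (h : E), h ∈ Φ.gen R →
      Φ.X p s * h * (Φ.X p s)⁻¹ ∈ Φ.gen R := fun p hp hp0 s h hh => by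
    refine Φ.conj_gen_mem hp hRS (fun x hx => ⟨fun e => ?_, fun e => ?_, fun c hc => ?_⟩) s hh
    · have := hx.2; rw [e, hp0] at this; omega
    · have := hx.2; rw [e, isLin_neg C hf hp, hp0] at this; omega
    · obtain ⟨h1, h2, -, h4⟩ := term_level C hf hp hx.1 hc
      refine ⟨h1, ?_⟩
      have := hx.2
      rw [h2, hp0]; nlinarith
  have hconj : ∀ h ∈ Φ.gen R, g * h * g⁻¹ ∈ Φ.gen R := by
    clear e
    change g ∈ Subgroup.closure _ at hg
    induction hg using Subgroup.closure_induction'' with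
    | mem g hg =>
      obtain ⟨p, hp, s, rfl⟩ := hg
      rcases hp with rfl | rfl
      · exact key _ hq h0 s
      · exact key _ (C.spec.neg_lt q hq) (by rw [isLin_neg C hf hq, h0, neg_zero]) s
    | inv_mem g hg =>
      obtain ⟨p, hp, s, rfl⟩ := hg
      have hp' : p < D.nroots ∧ f p = 0 := by
        rcases hp with rfl | rfl
        · exact ⟨hq, h0⟩
        · exact ⟨C.spec.neg_lt q hq, by rw [isLin_neg C hf hq, h0, neg_zero]⟩
      rw [Φ.inv (show p ∈ {r | r < D.nroots} from hp'.1)]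
      exact key p hp'.1 hp'.2 (-s)
    | one => simp
    | mul a b _ _ iha ihb =>
      intro h hh
      simpa [mul_assoc] using iha _ (ihb h hh)
  refine Φ.eq_of_proj_eq hRS hf (fun a ha => ha.2) hcl (hconj _ (Φ.mem_gen (R := R) ⟨hy, hy0⟩ t))
    (Φ.mem_gen (R := R) ⟨hz, hz0⟩ u) ?_
  rw [map_mul, map_mul, map_inv, Φ.map y hy, Φ.map z hz, e]

/-- The element over `n_q (v)`. -/
def nH (q : ℕ) (v : F) : E := Φ.X q v * Φ.X (T.neg q) (-v⁻¹) * Φ.X q v

/-- The element over `h_q (v)`. -/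
def hH (q : ℕ) (v : F) : E := Φ.nH q v * Φ.nH q (-1)

/-- The element over `n_i`. -/
def nuH (i : ℕ) : E := Φ.nH (T.simp' i) 1

theorem proj_nH {q : ℕ} (hq : q < D.nroots) (v : F) : Φ.proj (Φ.nH q v) = ng C q v := by
  rw [nH, map_mul, map_mul, Φ.map q hq, Φ.map _ (C.spec.neg_lt q hq), ng, C.spec.shape.neg_eq q hq]

theorem proj_hH {q : ℕ} (hq : q < D.nroots) (v : F) : Φ.proj (Φ.hH q v) = hg C q v := by
  rw [hH, map_mul, Φ.proj_nH hq, Φ.proj_nH hq, hg]

theorem proj_nuH {i : ℕ} (hi : i < D.rank) : Φ.proj (Φ.nuH i) = nu C i := Φ.proj_nH (C.spec.simp_lt i hi) 1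

theorem mem_pair (q : ℕ) (a : F) : Φ.X q a ∈ Φ.pairGen q :=
  Φ.mem_gen (R := ({q, T.neg q} : Set ℕ)) (Or.inl rfl) a

theorem mem_pair' (q : ℕ) (a : F) : Φ.X (T.neg q) a ∈ Φ.pairGen q :=
  Φ.mem_gen (R := ({q, T.neg q} : Set ℕ)) (Or.inr rfl) a

theorem nH_mem_pair (q : ℕ) (v : F) : Φ.nH q v ∈ Φ.pairGen q :=
  mul_mem (mul_mem (Φ.mem_pair q v) (Φ.mem_pair' q _)) (Φ.mem_pair q v)

end StAll

/-- Every fundamental root has a neighbour. -/
def HasNbr (D : ChevalleyDatum) (T : Tbl) : Prop :=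
  ∀ i < D.rank, ∃ j < D.rank, j ≠ i ∧ T.cartan j (T.simp' i) ≠ 0

/-- The check for neighbours. -/
noncomputable def nbrChk (T : Tbl) : Bool :=
  allBelow (fun i => anyBelow (fun j => !Nat.beq j i && !decide (T.cartan j (T.simp' i) = 0)) T.rank) T.rank

theorem hasNbr_of_chk (C : Cert D T) (h : nbrChk T = true) : HasNbr D T := fun i hi => by
  simp only [nbrChk, allBelow_iff, C.spec.shape.rank_eq] at h
  obtain ⟨j, hj, h'⟩ := exists_of_anyBelow (h i hi)
  simp only [Bool.and_eq_true, Bool.not_eq_true', decide_eq_false_iff_not] at h'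
  exact ⟨j, hj, ne_of_beq_false h'.1, h'.2⟩

namespace StAll

variable {C : Cert D T} {E : Type*} [Group E] (Φ : StAll C F E) (K : FullCert D T)
include K

/-- Conjugation by `n_i (v)` away from `± a_i`. -/
theorem nH_conj_of_ne {i : ℕ} (hi : i < D.rank) {s : ℕ} (hs : s < D.nroots) (h1 : s ≠ T.simp' i)
    (h2 : s ≠ T.neg (T.simp' i)) {v t u : F}
    (e : ng C (T.simp' i) v * xg C s t * (ng C (T.simp' i) v)⁻¹ = xg C (T.refl' i s) u) :
    Φ.nH (T.simp' i) v * Φ.X s t * (Φ.nH (T.simp' i) v)⁻¹ = Φ.X (T.refl' i s) u := by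
  have hp := C.spec.simp_lt i hi
  have hz := C.spec.refl_lt i hi s hs
  obtain ⟨f, hf, h0, hy⟩ := exists_sep (C := C) K _ hp s hs h1 h2
  refine Φ.conj_lift hp hs hz hf h0 hy ?_ (Φ.nH_mem_pair _ v) (by rw [Φ.proj_nH hp, e])
  rw [hf s (T.simp' i) _ 1 (-T.cartan i s) fun m hm => by rw [C.spec.cart_refl i hi m hm s hs]; ring, h0]
  omega

variable (hN : HasNbr D T)
include hN

/-- Conjugation by `n_i (v)`, in general. -/
theorem nH_conj {i : ℕ} (hi : i < D.rank) {s : ℕ} (hs : s < D.nroots) {v t u : F} (hv : v ≠ 0)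
    (e : ng C (T.simp' i) v * xg C s t * (ng C (T.simp' i) v)⁻¹ = xg C (T.refl' i s) u) :
    Φ.nH (T.simp' i) v * Φ.X s t * (Φ.nH (T.simp' i) v)⁻¹ = Φ.X (T.refl' i s) u := by
  by_cases hcase : s ≠ T.simp' i ∧ s ≠ T.neg (T.simp' i)
  · exact Φ.nH_conj_of_ne K hi hs hcase.1 hcase.2 e
  obtain ⟨j, hj, hji, hA⟩ := hN i hi
  have hsi := C.spec.simp_lt i hi
  have hsj := C.spec.simp_lt j hj
  have hA' : T.cartan j s ≠ 0 := by
    rcases not_and_or.1 hcase with h | h <;> rw [ne_eq, not_not] at h <;> subst h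
    · exact hA
    · rw [C.spec.cart_neg j hj _ hsi]; omega
  have hsne : s ≠ T.simp' j ∧ s ≠ T.neg (T.simp' j) := by
    have h1 : T.simp' i ≠ T.simp' j := fun e => hji (simp_inj C hi hj e).symm
    have h3 := K.simple_pos hi
    have h4 := K.simple_pos hj
    have h5 := C.neg_eq hsi
    have h6 := C.neg_eq hsj
    rcases not_and_or.1 hcase with h | h <;> rw [ne_eq, not_not] at h <;> subst h <;> omega
  obtain ⟨f, hf, hf0, hfs⟩ := exists_sep (C := C) K _ hsj s hs hsne.1 hsne.2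
  set y₀ := T.refl' j s with hy₀
  have hy₀n : y₀ < D.nroots := C.spec.refl_lt j hj s hs
  have hfy : f y₀ = f s := by
    rw [hy₀, hf s (T.simp' j) _ 1 (-T.cartan j s) fun m hm => by rw [C.spec.cart_refl j hj m hm s hs]; ring, hf0]
    ring
  have hne1 : y₀ ≠ T.simp' j ∧ y₀ ≠ T.neg (T.simp' j) := by
    refine ⟨fun e => ?_, fun e => ?_⟩
    · rw [e, hf0] at hfy; omega
    · rw [e, isLin_neg C hf hsj, hf0] at hfy; omega
  have hne2 : y₀ ≠ s ∧ y₀ ≠ T.neg s := by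
    refine ⟨fun e => ?_, fun e => ?_⟩
    · have h := C.spec.cart_refl j hj j hj s hs
      rw [← hy₀, e, C.spec.cart_simple j hj] at h
      omega
    · rw [e, isLin_neg C hf hs] at hfy; omega
  -- the element is a conjugate of one for another root
  have hxs : xg C s t = nu C j * xg C y₀ (((T.eta' j y₀ : ℤ) : F) * t) * (nu C j)⁻¹ := by
    rw [nu_conj_xg C hj hy₀n, hy₀, C.spec.refl_refl j hj s hs, ← mul_assoc, eta_sq, one_mul]
  have hXs : Φ.X s t = Φ.nuH j * Φ.X y₀ (((T.eta' j y₀ : ℤ) : F) * t) * (Φ.nuH j)⁻¹ := by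
    have := Φ.nH_conj_of_ne K hj hy₀n hne1.1 hne1.2 (v := 1) (t := ((T.eta' j y₀ : ℤ) : F) * t) (u := t)
      (by rw [hy₀, C.spec.refl_refl j hj s hs]; exact hxs.symm)
    rw [hy₀, C.spec.refl_refl j hj s hs] at this
    exact this.symm
  have hy₀i : y₀ ≠ T.simp' i ∧ y₀ ≠ T.neg (T.simp' i) := by
    rcases not_and_or.1 hcase with h | h <;> rw [ne_eq, not_not] at h
    · rw [← h]; exact hne2
    · have h7 : T.neg s = T.simp' i := by rw [h, C.spec.neg_neg _ hsi]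
      exact ⟨by rw [← h7]; exact hne2.2, by rw [← h]; exact hne2.1⟩
  set n := Φ.nH (T.simp' i) v with hn
  have hπn : Φ.proj n = ng C (T.simp' i) v := Φ.proj_nH hsi v
  obtain ⟨u', hu'⟩ : ∃ u', ng C (T.simp' i) v * xg C y₀ (((T.eta' j y₀ : ℤ) : F) * t) * (ng C (T.simp' i) v)⁻¹ =
      xg C (T.refl' i y₀) u' := by
    obtain ⟨χ, hχ⟩ := diag_conj_xg C (hg_mem C (F := F) hsi hv)
    refine ⟨χ (T.refl' i y₀) * (((T.eta' i y₀ : ℤ) : F) * (((T.eta' j y₀ : ℤ) : F) * t)), ?_⟩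
    rw [← (hχ _ (C.spec.refl_lt i hi _ hy₀n)).2, ← nu_conj_xg C hi hy₀n, ng_eq C hsi v, nu]
    group
  have hy : n * Φ.X y₀ (((T.eta' j y₀ : ℤ) : F) * t) * n⁻¹ = Φ.X (T.refl' i y₀) u' :=
    Φ.nH_conj_of_ne K hi hy₀n hy₀i.1 hy₀i.2 hu'
  -- the conjugate of `n_j` lies in the group of the image of `a_j`
  set q := T.refl' i (T.simp' j) with hq
  have hqn : q < D.nroots := C.spec.refl_lt i hi _ hsj
  have hconjX : ∀ p, p < D.nroots → p ≠ T.simp' i → p ≠ T.neg (T.simp' i) → ∀ a : F,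
      ∃ b, n * Φ.X p a * n⁻¹ = Φ.X (T.refl' i p) b := by
    intro p hp hp1 hp2 a
    obtain ⟨χ, hχ⟩ := diag_conj_xg C (hg_mem C (F := F) hsi hv)
    refine ⟨χ (T.refl' i p) * (((T.eta' i p : ℤ) : F) * a), Φ.nH_conj_of_ne K hi hp hp1 hp2 ?_⟩
    rw [← (hχ _ (C.spec.refl_lt i hi p hp)).2, ← nu_conj_xg C hi hp, ng_eq C hsi v, nu]
    group
  have hg : n * Φ.nuH j * n⁻¹ ∈ Φ.pairGen q := by
    have h1 : T.simp' i ≠ T.simp' j := fun e => hji (simp_inj C hi hj e).symm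
    have h3 := K.simple_pos hi
    have h4 := K.simple_pos hj
    have h5 := C.neg_eq hsi
    have h6 := C.neg_eq hsj
    obtain ⟨a, ha⟩ := hconjX _ hsj (by omega) (by omega) (1 : F)
    obtain ⟨b, hb⟩ := hconjX _ (C.spec.neg_lt _ hsj) (by omega) (by omega) (-(1 : F)⁻¹)
    rw [show n * Φ.nuH j * n⁻¹ = (n * Φ.X (T.simp' j) 1 * n⁻¹) * (n * Φ.X (T.neg (T.simp' j)) (-(1 : F)⁻¹) * n⁻¹) *
      (n * Φ.X (T.simp' j) 1 * n⁻¹) by rw [nuH, nH]; group, ha, hb, C.spec.refl_neg i hi _ hsj, ← hq]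
    exact mul_mem (mul_mem (Φ.mem_pair q a) (Φ.mem_pair' q b)) (Φ.mem_pair q a)
  have hyq : T.refl' i y₀ ≠ q ∧ T.refl' i y₀ ≠ T.neg q := by
    refine ⟨fun e => hne1.1 ?_, fun e => hne1.2 ?_⟩
    · have := congrArg (T.refl' i) e
      rwa [hq, C.spec.refl_refl i hi _ hy₀n, C.spec.refl_refl i hi _ hsj] at this
    · have := congrArg (T.refl' i) e
      rwa [hq, ← C.spec.refl_neg i hi _ hsj, C.spec.refl_refl i hi _ hy₀n,
        C.spec.refl_refl i hi _ (C.spec.neg_lt _ hsj)] at this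
  obtain ⟨g, hg', hgq, hgy⟩ := exists_sep (C := C) K q hqn _ (C.spec.refl_lt i hi _ hy₀n) hyq.1 hyq.2
  have hrel : ∀ m < D.rank, T.cartan m (T.refl' i y₀) =
      1 * T.cartan m (T.refl' i s) + (-T.cartan j s) * T.cartan m q := fun m hm => by
    have h0 : ∀ m < D.rank, T.cartan m y₀ = 1 * T.cartan m s + (-T.cartan j s) * T.cartan m (T.simp' j) :=
      fun m hm => by rw [hy₀, C.spec.cart_refl j hj m hm s hs]; ring
    rw [hq, C.spec.cart_refl i hi m hm y₀ hy₀n, C.spec.cart_refl i hi m hm s hs, C.spec.cart_refl i hi m hm _ hsj,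
      h0 m hm, h0 i hi]
    ring
  have hgz : g (T.refl' i y₀) = g (T.refl' i s) := by rw [hg' _ _ _ _ _ hrel, hgq]; ring
  rw [hXs, show n * (Φ.nuH j * Φ.X y₀ (((T.eta' j y₀ : ℤ) : F) * t) * (Φ.nuH j)⁻¹) * n⁻¹ =
    (n * Φ.nuH j * n⁻¹) * (n * Φ.X y₀ (((T.eta' j y₀ : ℤ) : F) * t) * n⁻¹) * (n * Φ.nuH j * n⁻¹)⁻¹ by group, hy]
  refine Φ.conj_lift hqn (C.spec.refl_lt i hi _ hy₀n) (C.spec.refl_lt i hi s hs) hg' hgq hgy (hgz ▸ hgy) hg ?_
  rw [map_mul, map_mul, map_inv, hπn, Φ.proj_nuH hj, ← hu', ← e, hxs]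
  group

end StAll

end Cfsg.Lib.Chev
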