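import Cfsg.Agent.Lib.Chev.SlE6
import Cfsg.Agent.Lib.Chev.SlE7
import Cfsg.Agent.Lib.Chev.SlE8p0
import Cfsg.Agent.Lib.Chev.SlE8p1
import Cfsg.Agent.Lib.Chev.SlE8p2
import Cfsg.Agent.Lib.Chev.SlE8p3
import Cfsg.Agent.Lib.Chev.StCoverGroup
import Cfsg.Agent.Lib.Chev.StCenter
import Cfsg.Agent.Lib.Chev.OrderE6
import Cfsg.Agent.Lib.Chev.OrderE7

/-! The relators lift in types E6, E7, E8 over every field; the multipliers. -/

set_option autoImplicit false
set_option linter.unusedSectionVars false

namespace Cfsg.Lib.Chev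

open Cfsg.Lie

universe w

theorem slPair_of_chk {D : ChevalleyDatum} {T : Tbl} (C : Cert D T) {W : SlData} {a n : ℕ} (h : slPairs T W a n = true)
    {r : ℕ} (h1 : a ≤ r) (h2 : r < a + n) : ∀ s < D.nroots, slPair T W r s = true := fun s hs => by
  have := allBelow_iff.1 (allBelow_iff.1 h (r - a) (by omega)) s (C.spec.shape.nroots_eq ▸ hs)
  rwa [show a + (r - a) = r by omega] at this

theorem slOK_E6 : SlOK chevE6 tblE6 slE6 where
  width := rfl
  root k hk := allBelow_iff.1 slRoot_E6 k hk
  pair r hr := by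
    have h : r < 72 := hr
    exact slPair_of_chk fullCertE6.comm.cert slPairs_E6_0 (by omega) (by omega)

theorem slOK_E7 : SlOK chevE7 tblE7 slE7 where
  width := rfl
  root k hk := allBelow_iff.1 slRoot_E7 k hk
  pair r hr := by
    have h : r < 126 := hr
    exact slPair_of_chk fullCertE7.comm.cert slPairs_E7_0 (by omega) (by omega)

theorem slOK_E8 : SlOK chevE8 tblE8 slE8 where
  width := rfl
  root k hk := allBelow_iff.1 slRoot_E8 k hk
  pair r hr := by
    have h : r < 240 := hr
    by_cases h0 : r < 60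
    · exact slPair_of_chk fullCertE8.comm.cert slPairs_E8_0 (by omega) (by omega)
    by_cases h1 : r < 120
    · exact slPair_of_chk fullCertE8.comm.cert slPairs_E8_1 (by omega) (by omega)
    by_cases h2 : r < 180
    · exact slPair_of_chk fullCertE8.comm.cert slPairs_E8_2 (by omega) (by omega)
    exact slPair_of_chk fullCertE8.comm.cert slPairs_E8_3 (by omega) (by omega)

variable {F : Type w} [Field F] [Fintype F]

theorem center_card_E6 : Nat.card (Subgroup.center (chevE6.SteinbergGroup F)) = Nat.gcd 3 (Fintype.card F - 1) := by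
  classical
  have hc := card_center_of_sub (F := F) fullCertE6.comm.cert fullCertE6
    (hasNbr_of_chk fullCertE6.comm.cert nbrChk_E6) fullCertE8.comm.cert fullCertE8.comm chkSub_E6 invCartE8
  obtain ⟨P, P', Q, Q', h1, h2, h3, h4⟩ := torusCertE6.exists_snf
  have hk := card_ker_powHom (G := Fˣ) h1 h2 h3 h4
  rw [Nat.card_units, Nat.card_eq_fintype_card (α := F)] at hk
  have hk' : _ = ∏ k, (Fintype.card F - 1).gcd ((![1, 1, 1, 1, 1, 3] : Fin 6 → ℕ) k) := hc.trans hk
  refine hk'.trans ?_
  simp [Fin.prod_univ_succ, Nat.gcd_comm]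

theorem center_card_E7 : Nat.card (Subgroup.center (chevE7.SteinbergGroup F)) = Nat.gcd 2 (Fintype.card F - 1) := by
  classical
  have hc := card_center_of_sub (F := F) fullCertE7.comm.cert fullCertE7
    (hasNbr_of_chk fullCertE7.comm.cert nbrChk_E7) fullCertE8.comm.cert fullCertE8.comm chkSub_E7 invCartE8
  obtain ⟨P, P', Q, Q', h1, h2, h3, h4⟩ := torusCertE7.exists_snf
  have hk := card_ker_powHom (G := Fˣ) h1 h2 h3 h4
  rw [Nat.card_units, Nat.card_eq_fintype_card (α := F)] at hk
  have hk' : _ = ∏ k, (Fintype.card F - 1).gcd ((![1, 1, 1, 1, 1, 1, 2] : Fin 7 → ℕ) k) := hc.trans hk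
  refine hk'.trans ?_
  simp [Fin.prod_univ_succ, Nat.gcd_comm]

theorem cover_perfect_E {D : ChevalleyDatum} (hD : D ∈ [chevE6, chevE7, chevE8]) :
    commutator (D.SteinbergCover F) = ⊤ := by
  simp only [List.mem_cons, List.not_mem_nil, or_false] at hD
  rcases hD with rfl | rfl | rfl <;>
    exact steinbergCover_perfect (by simp) fun h => by
      simp only [List.mem_cons, List.not_mem_nil, or_false] at h
      rcases h with h | h <;> exact absurd (congrArg ChevalleyDatum.nroots h) (by decide +kernel)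

theorem multiplier_E6 : Cfsg.HasCyclicSchurMultiplier ↥(chevE6.group F) (Nat.gcd 3 (Fintype.card F - 1)) :=
  group_multiplier fullCertE6 (hasNbr_of_chk fullCertE6.comm.cert nbrChk_E6) (cover_perfect_E (by simp))
    Nat.prime_three (Nat.gcd_dvd_left _ _) center_card_E6
    fun _ _ P _ => P.exists_family_simply fullCertE6.comm slOK_E6

theorem multiplier_E7 : Cfsg.HasCyclicSchurMultiplier ↥(chevE7.group F) (Nat.gcd 2 (Fintype.card F - 1)) :=
  group_multiplier fullCertE7 (hasNbr_of_chk fullCertE7.comm.cert nbrChk_E7) (cover_perfect_E (by simp))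
    Nat.prime_two (Nat.gcd_dvd_left _ _) center_card_E7
    fun _ _ P _ => P.exists_family_simply fullCertE7.comm slOK_E7

theorem multiplier_E8 : Cfsg.HasCyclicSchurMultiplier ↥(chevE8.group F) 1 :=
  multiplier_trivial_of_family fullCertE8.comm.cert fullCertE8 (hasNbr_of_chk fullCertE8.comm.cert nbrChk_E8)
    (M := phiE8) (by decide +kernel) (cover_perfect_E (by simp))
    fun _ _ P _ => P.exists_family_simply fullCertE8.comm slOK_E8

end Cfsg.Lib.Chev
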