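import Cfsg.Agent.Lib.Chev.StPairChk

/-! The checks on pairs of roots for a part of a larger table. -/

set_option autoImplicit false
set_option maxRecDepth 100000

namespace Cfsg.Lib.Chev

open Cfsg.Lie

theorem chkPairs_E8b : chkPairs tblE8 60 60 = true := by decide +kernel

end Cfsg.Lib.Chev
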