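import Cfsg.Agent.Lib.Chev.StPairChkE7a
import Cfsg.Agent.Lib.Chev.StPairChkE7b
import Cfsg.Agent.Lib.Chev.StPairChkE8a
import Cfsg.Agent.Lib.Chev.StPairChkE8b
import Cfsg.Agent.Lib.Chev.StPairChkE8c
import Cfsg.Agent.Lib.Chev.StPairChkE8d
import Cfsg.Agent.Lib.Chev.StLift
import Cfsg.Agent.Lib.Chev.StStem

/-! Lifting of the relators over fields with more than four elements, for the seven types. -/

set_option autoImplicit false
set_option linter.unusedSectionVars false

namespace Cfsg.Lib.Chev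

open Cfsg.Lie

theorem pairAt_of_chk {D : ChevalleyDatum} {T : Tbl} (C : Cert D T) {a n : ℕ} (h : chkPairs T a n = true) :
    ∀ r < D.nroots, a ≤ r → r < a + n → ∀ s < D.nroots, s ≠ r → s ≠ T.neg r → chkPairAt T r s = true := by
  intro r _ h1 h2 s hs hne hne'
  have h' := allBelow_iff.1 (allBelow_iff.1 h (r - a) (by omega)) s (C.spec.shape.nroots_eq ▸ hs)
  rw [show a + (r - a) = r by omega] at h'
  simp only [Bool.or_eq_true] at h'
  rcases h' with h' | h' | h'
  · exact absurd (Nat.eq_of_beq_eq_true h') hne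
  · exact absurd (Nat.eq_of_beq_eq_true h') hne'
  · exact h'

theorem exists_liftCert {D : ChevalleyDatum}
    (hD : D ∈ [chevG2, chevB2, chevD4, chevF4, chevE6, chevE7, chevE8]) :
    ∃ T, FullCert D T ∧ HasNbr D T ∧ chkMult T = true ∧
      ∀ r < D.nroots, ∀ s < D.nroots, s ≠ r → s ≠ T.neg r → chkPairAt T r s = true := by
  simp only [List.mem_cons, List.not_mem_nil, or_false] at hD
  rcases hD with rfl | rfl | rfl | rfl | rfl | rfl | rfl
  · exact ⟨_, fullCertG2, hasNbr_of_chk fullCertG2.comm.cert nbrChk_G2, chkMult_G2, fun r hr => pairAt_of_chk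
      fullCertG2.comm.cert chkPairs_G2 r hr r.zero_le (by rw [zero_add]; exact hr)⟩
  · exact ⟨_, fullCertB2, hasNbr_of_chk fullCertB2.comm.cert nbrChk_B2, chkMult_B2, fun r hr => pairAt_of_chk
      fullCertB2.comm.cert chkPairs_B2 r hr r.zero_le (by rw [zero_add]; exact hr)⟩
  · exact ⟨_, fullCertD4, hasNbr_of_chk fullCertD4.comm.cert nbrChk_D4, chkMult_D4, fun r hr => pairAt_of_chk
      fullCertD4.comm.cert chkPairs_D4 r hr r.zero_le (by rw [zero_add]; exact hr)⟩
  · exact ⟨_, fullCertF4, hasNbr_of_chk fullCertF4.comm.cert nbrChk_F4, chkMult_F4, fun r hr => pairAt_of_chk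
      fullCertF4.comm.cert chkPairs_F4 r hr r.zero_le (by rw [zero_add]; exact hr)⟩
  · exact ⟨_, fullCertE6, hasNbr_of_chk fullCertE6.comm.cert nbrChk_E6, chkMult_E6, fun r hr => pairAt_of_chk
      fullCertE6.comm.cert chkPairs_E6 r hr r.zero_le (by rw [zero_add]; exact hr)⟩
  · refine ⟨_, fullCertE7, hasNbr_of_chk fullCertE7.comm.cert nbrChk_E7, chkMult_E7, fun r hr => ?_⟩
    have h : r < 126 := hr
    by_cases h1 : r < 63
    · exact pairAt_of_chk fullCertE7.comm.cert chkPairs_E7a r hr r.zero_le (by omega)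
    · exact pairAt_of_chk fullCertE7.comm.cert chkPairs_E7b r hr (by omega) (by omega)
  · refine ⟨_, fullCertE8, hasNbr_of_chk fullCertE8.comm.cert nbrChk_E8, chkMult_E8, fun r hr => ?_⟩
    have h : r < 240 := hr
    by_cases h1 : r < 60
    · exact pairAt_of_chk fullCertE8.comm.cert chkPairs_E8a r hr r.zero_le (by omega)
    by_cases h2 : r < 120
    · exact pairAt_of_chk fullCertE8.comm.cert chkPairs_E8b r hr (by omega) (by omega)
    by_cases h3 : r < 180
    · exact pairAt_of_chk fullCertE8.comm.cert chkPairs_E8c r hr (by omega) (by omega)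
    · exact pairAt_of_chk fullCertE8.comm.cert chkPairs_E8d r hr (by omega) (by omega)

theorem exists_good_v {F : Type*} [Field F] (hF : ∃ s : Finset F, 4 < s.card) : ∃ v : F, v ≠ 0 ∧ v ^ 2 ≠ 1 := by
  obtain ⟨v, h0, h⟩ := exists_pow_ne hF (e := 2) (by decide) (by decide)
  exact ⟨v, h0, fun e => h (by rw [show (2 : ℤ) = ((2 : ℕ) : ℤ) from rfl, zpow_natCast, e])⟩

section Cover

variable {F : Type*} [Field F] {D : ChevalleyDatum}

theorem cover_nontrivial_hyp (hF : ∃ s : Finset F, 4 < s.card) : ∃ x : F, x ≠ 0 ∧ x ≠ 1 := by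
  obtain ⟨v, h0, h⟩ := exists_good_v hF
  exact ⟨v, h0, fun e => h (by rw [e, one_pow])⟩

/-- Central extensions of the group presented by (R1), (R2) split. -/
theorem cover_section (hF : ∃ s : Finset F, 4 < s.card)
    (hD : D ∈ [chevG2, chevB2, chevD4, chevF4, chevE6, chevE7, chevE8]) {X : Type*} [Group X]
    (π : X →* D.SteinbergCover F) (hπ : Function.Surjective π) (hc : π.ker ≤ Subgroup.center X) :
    ∃ τ : D.SteinbergCover F →* X, π.comp τ = MonoidHom.id _ := by
  obtain ⟨T, K, hN, hM, hPr⟩ := exists_liftCert hD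
  let C := K.comm.cert
  have hperf := steinbergCover_perfect (F := F) hD fun _ => cover_nontrivial_hyp hF
  let Φ₀ := presFam (F := F) C K.comm (subset_rfl : D.steinbergRelsAB F ⊆ _) relsAB_subset
  have hgen : Φ₀.Gen := presFam_gen _ _ _ _
  let P : CentExt C F X :=
    { p := Φ₀.proj.comp π
      central := fun x hx => central_of_over_central π hπ hc hperf
        (Φ₀.ker_projG_le_center K hN hgen (Subtype.ext (show Φ₀.proj (π x) = 1 from hx)))
      mem_range := fun r t => by
        by_cases hr : r < D.nroots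
        · obtain ⟨x, hx⟩ := hπ (Φ₀.X r t)
          exact ⟨x, by show Φ₀.proj (π x) = _; rw [hx, Φ₀.map r hr]⟩
        · rw [xg_out C hr]; exact one_mem _ }
  obtain ⟨v, hv0, hv⟩ := exists_good_v hF
  obtain ⟨Φ, hΦ⟩ := P.exists_family K hF hM hPr hv0 hv
  refine ⟨famHom Φ, eq_of_central_diff _ _ (fun x => ?_) hperf⟩
  refine Φ₀.ker_projG_le_center K hN hgen (Subtype.ext ?_)
  show Φ₀.proj ((π (famHom Φ x))⁻¹ * x) = 1
  have e : Φ₀.proj (π (famHom Φ x)) = Φ₀.proj x := by
    have h1 : Φ.proj.comp (famHom Φ) = presProj C K.comm relsAB_subset := proj_famHom Φ K.comm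
    rw [hΦ] at h1
    exact DFunLike.congr_fun h1 x
  rw [map_mul, map_inv, e, inv_mul_cancel]

/-- The universal property of the group presented by (R1), (R2). -/
theorem cover_lift (hF : ∃ s : Finset F, 4 < s.card)
    (hD : D ∈ [chevG2, chevB2, chevD4, chevF4, chevE6, chevE7, chevE8])
    {G₁ E : Type*} [Group G₁] [Group E] (π₁ : E →* G₁) (hπ : Function.Surjective π₁)
    (hc : π₁.ker ≤ Subgroup.center E) (σ : D.SteinbergCover F →* G₁) :
    ∃! τ : D.SteinbergCover F →* E, π₁.comp τ = σ := by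
  let S : Subgroup (E × D.SteinbergCover F) :=
    { carrier := {q | π₁ q.1 = σ q.2}
      one_mem' := by simp
      mul_mem' := fun {a b} (ha : π₁ a.1 = σ a.2) (hb : π₁ b.1 = σ b.2) => by
        show π₁ (a.1 * b.1) = σ (a.2 * b.2)
        rw [map_mul, map_mul, ha, hb]
      inv_mem' := fun {a} (ha : π₁ a.1 = σ a.2) => by
        show π₁ (a.1⁻¹) = σ (a.2⁻¹)
        rw [map_inv, map_inv, ha] }
  let π : ↥S →* D.SteinbergCover F := (MonoidHom.snd E _).comp S.subtype
  have hs : Function.Surjective π := fun x => by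
    obtain ⟨e, he⟩ := hπ (σ x)
    exact ⟨⟨(e, x), he⟩, rfl⟩
  have hk : π.ker ≤ Subgroup.center ↥S := fun q (hq : q.1.2 = 1) => by
    have h1 : π₁ q.1.1 = 1 := by rw [show π₁ q.1.1 = σ q.1.2 from q.2, hq, map_one]
    refine Subgroup.mem_center_iff.2 fun g => Subtype.ext (Prod.ext ?_ ?_)
    · exact Subgroup.mem_center_iff.1 (hc h1) g.1.1
    · show g.1.2 * q.1.2 = q.1.2 * g.1.2
      rw [hq, mul_one, one_mul]
  obtain ⟨τ₀, hτ₀⟩ := cover_section hF hD π hs hk
  refine ⟨((MonoidHom.fst E _).comp S.subtype).comp τ₀, ?_, fun τ' hτ' => ?_⟩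
  · refine MonoidHom.ext fun x => ?_
    show π₁ (τ₀ x).1.1 = σ x
    rw [show π₁ (τ₀ x).1.1 = σ (τ₀ x).1.2 from (τ₀ x).2,
      show (τ₀ x).1.2 = x from DFunLike.congr_fun hτ₀ x]
  · refine eq_of_central_diff _ _ (fun x => hc ?_) (steinbergCover_perfect hD fun _ => cover_nontrivial_hyp hF)
    rw [MonoidHom.mem_ker, map_mul, map_inv, show π₁ (τ' x) = σ x from DFunLike.congr_fun hτ' x]
    show (σ x)⁻¹ * π₁ (τ₀ x).1.1 = 1
    rw [show π₁ (τ₀ x).1.1 = σ (τ₀ x).1.2 from (τ₀ x).2,
      show (τ₀ x).1.2 = x from DFunLike.congr_fun hτ₀ x, inv_mul_cancel]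

end Cover

section Stem

universe w

variable {F : Type w} [Field F] {D : ChevalleyDatum} {T : Tbl} (C : Cert D T)

theorem commutator_group_top (K : FullCert D T) (hN : HasNbr D T) (hp : commutator (D.SteinbergCover F) = ⊤) :
    commutator ↥(D.group F) = ⊤ := by
  let C := K.comm.cert
  let Φ₀ := presFam (F := F) C K.comm (subset_rfl : D.steinbergRelsAB F ⊆ _) relsAB_subset
  have hgen : Φ₀.Gen := presFam_gen _ _ _ _
  have h := congrArg (Subgroup.map (Φ₀.projG hgen)) hp
  rw [Subgroup.map_top_of_surjective _ (Φ₀.projG_surjective hgen)] at h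
  refine eq_top_iff.2 (h.ge.trans ?_)
  rw [commutator_def, Subgroup.map_commutator]
  exact Subgroup.commutator_mono le_top le_top

/-- The extension seen as a map to the matrix group. -/
def stemExt {X : Type*} [Group X] (σ : X →* ↥(D.group F)) (h : Cfsg.IsStemExtension σ) : CentExt C F X where
  p := (D.group F).subtype.comp σ
  central := fun x hx => h.2.1 (MonoidHom.mem_ker.2 (Subtype.ext (show ((σ x : ↥(D.group F)) : GL D.Idx F) = 1 from hx)))
  mem_range := fun r t => by
    obtain ⟨x, hx⟩ := h.1 ⟨xg C r t, xg_mem_group C r t⟩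
    exact ⟨x, congrArg Subtype.val hx⟩

theorem stem_gen {X : Type*} [Group X] (σ : X →* ↥(D.group F)) (h : Cfsg.IsStemExtension σ)
    (hp : commutator ↥(D.group F) = ⊤) (Φ : StAll C F X) (hΦ : Φ.proj = (stemExt C σ h).p) : Φ.Gen := by
  refine top_of_stem h hp ?_
  refine eq_top_iff.2 ?_
  rintro ⟨g, hg⟩ -
  suffices hs : g ∈ (Φ.gen {r | r < D.nroots}).map Φ.proj by
    obtain ⟨x, hx, e⟩ := hs
    rw [hΦ] at e
    exact ⟨x, hx, Subtype.ext e⟩
  refine (Subgroup.closure_le _).2 ?_ hg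
  rintro x ⟨r, t, e⟩
  refine ⟨Φ.X r.1 t, Φ.mem_gen (R := {r | r < D.nroots}) r.2 t, ?_⟩
  rw [Φ.map r.1 r.2]
  exact (eq_xg C (show (x : Matrix D.Idx D.Idx F) = D.x F r.1 t from
    e.trans (by rw [ChevalleyDatum.x, dif_pos r.2]))).symm

/-- Lifted relators and an integral inverse of the Cartan matrix: the multiplier is trivial. -/
theorem multiplier_trivial_of_family [Finite F] (K : FullCert D T) (hN : HasNbr D T) {M : List (List ℤ)}
    (hMc : StAll.unimodChk T M = true) (hp : commutator (D.SteinbergCover F) = ⊤)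
    (hfam : ∀ (X : Type w) [Group X] (P : CentExt C F X), commutator X = ⊤ → ∃ Φ : StAll C F X, Φ.proj = P.p) :
    Cfsg.HasCyclicSchurMultiplier ↥(D.group F) 1 := by
  have hpG := commutator_group_top K hN hp
  refine trivial_multiplier fun Γ _ _ σ hσ => ?_
  obtain ⟨Φ, hΦ⟩ := hfam Γ (stemExt C σ hσ) (stem_perfect hσ hpG)
  have hgen := stem_gen C σ hσ hpG Φ hΦ
  refine eq_bot_iff.2 fun x hx => ?_
  rw [← Φ.ker_projG_eq_bot K hN hgen (Φ.hMul_of_finite K hN) hMc, MonoidHom.mem_ker]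
  refine Subtype.ext ?_
  show Φ.proj x = 1
  rw [hΦ]
  exact congrArg Subtype.val (MonoidHom.mem_ker.1 hx)

end Stem

theorem finset_of_card {F : Type*} [Fintype F] (h : 5 ≤ Fintype.card F) : ∃ s : Finset F, 4 < s.card :=
  ⟨Finset.univ, by rw [Finset.card_univ]; omega⟩

end Cfsg.Lib.Chev
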