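import Cfsg.Agent.Lib.Chev.StCentral
import Cfsg.Agent.Lib.Chev.FullAll

/-! The checks on pairs of roots used for lifting the relators (R1), (R2) to central extensions. -/

set_option autoImplicit false
set_option maxRecDepth 100000

namespace Cfsg.Lib.Chev

open Cfsg.Lie

/-- The integer `⟨s, r^∨⟩`. -/
noncomputable def rootPairSt (T : Tbl) (r s : ℕ) : ℤ :=
  Nat.rec 0 (fun i acc => acc + T.coroot r i * T.cartan i s) T.rank

/-- Enough multipliers or a decomposition with a single term for every root. -/
noncomputable def chkMult (T : Tbl) : Bool :=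
  allBelow (fun k => decide (rootPairSt T k k = 2) && ((!allBelow (fun i => !decide (T.cartan i k % 2 = 1)) T.rank) ||
    !allBelow (fun r => allBelow (fun s => !(decide (tTerms T r s = [(k, 2, 1, 1)] ∨ tTerms T r s = [(k, -2, 1, 1)]) &&
      (!Nat.beq s r && !Nat.beq s (T.neg r)) &&
      (!Nat.beq r k && !Nat.beq r (T.neg k) && decide (tTerms T k r = [])) &&
      (!Nat.beq s k && !Nat.beq s (T.neg k) && decide (tTerms T k s = [])))) T.nroots) T.nroots)) T.nroots

/-- One pair: a torus element separating the roots, and the roots of the commutator formula. -/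
noncomputable def chkPairAt (T : Tbl) (r s : ℕ) : Bool :=
  decide (rootPairSt T s r = 0 ∨ (4 - rootPairSt T s r * rootPairSt T r s ≠ 0 ∧
      (4 - rootPairSt T s r * rootPairSt T r s).natAbs ≤ 3)) &&
  ((s :: (tTerms T r s).map Prod.fst).all fun x => (s :: (tTerms T r s).map Prod.fst).all fun y =>
    Nat.beq y x || (!Nat.beq y (T.neg x) && (Nat.blt (tTerms T x y).length (tTerms T r s).length &&
      ((tTerms T x y).all fun c => (s :: (tTerms T r s).map Prod.fst).any fun z => Nat.beq z c.1))))

/-- The pairs whose first root lies in an interval. -/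
noncomputable def chkPairs (T : Tbl) (a n : ℕ) : Bool :=
  allBelow (fun k => allBelow (fun s => Nat.beq s (a + k) || (Nat.beq s (T.neg (a + k)) || chkPairAt T (a + k) s))
    T.nroots) n

theorem chkMult_G2 : chkMult tblG2 = true := by decide +kernel

theorem chkMult_B2 : chkMult tblB2 = true := by decide +kernel

theorem chkMult_D4 : chkMult tblD4 = true := by decide +kernel

theorem chkMult_F4 : chkMult tblF4 = true := by decide +kernel

theorem chkMult_E6 : chkMult tblE6 = true := by decide +kernel

theorem chkMult_E7 : chkMult tblE7 = true := by decide +kernel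

theorem chkMult_E8 : chkMult tblE8 = true := by decide +kernel

theorem chkPairs_G2 : chkPairs tblG2 0 12 = true := by decide +kernel

theorem chkPairs_B2 : chkPairs tblB2 0 8 = true := by decide +kernel

theorem chkPairs_D4 : chkPairs tblD4 0 24 = true := by decide +kernel

theorem chkPairs_F4 : chkPairs tblF4 0 48 = true := by decide +kernel

theorem chkPairs_E6 : chkPairs tblE6 0 72 = true := by decide +kernel

end Cfsg.Lib.Chev
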