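import Cfsg.Agent.Lib.Chev.StBruhat
import Cfsg.Agent.Lib.Chev.DescentNormal

/-!
Over a finite field the torus elements of a family satisfying the relations of the root elements are multiplicative.
-/

set_option autoImplicit false
set_option linter.unusedSectionVars false
set_option maxHeartbeats 800000

namespace Cfsg.Lib.Chev

open Cfsg.Lie

variable {D : ChevalleyDatum} {T : Tbl} {F : Type*} [Field F]

/-- There is a non-square `g` such that `1 - g` is a non-square. -/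
theorem exists_nonsquare_pair [Finite F] (h : ∃ a : F, ¬ IsSquare a) :
    ∃ g : F, ¬ IsSquare g ∧ ¬ IsSquare (1 - g) := by
  classical
  have := Fintype.ofFinite F
  obtain ⟨g, hg⟩ := h
  have hg0 : g ≠ 0 := fun e => hg (e ▸ ⟨0, (mul_zero 0).symm⟩)
  by_contra hall
  push Not at hall
  let S : Finset F := Finset.univ.filter fun x => IsSquare x ∧ x ≠ 0
  let N : Finset F := Finset.univ.filter fun x => ¬ IsSquare x
  have h1 : S.card ≤ N.card := by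
    refine Finset.card_le_card_of_injOn (fun x => g * x) (fun x hx => ?_) fun a _ b _ e => mul_left_cancel₀ hg0 e
    simp only [S, Finset.coe_filter, Finset.mem_univ, true_and, Set.mem_setOf_eq] at hx
    simp only [N, Finset.coe_filter, Finset.mem_univ, true_and, Set.mem_setOf_eq]
    obtain ⟨⟨y, rfl⟩, hy⟩ := hx
    have hy0 : y ≠ 0 := left_ne_zero_of_mul hy
    rintro ⟨z, hz⟩
    exact hg ⟨z / y, by field_simp; linear_combination hz⟩
  have h2 : N.card ≤ (S.erase 1).card := by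
    refine Finset.card_le_card_of_injOn (fun x => 1 - x) (fun x hx => ?_) fun a _ b _ e => by simpa using e
    simp only [N, Finset.coe_filter, Finset.mem_univ, true_and, Set.mem_setOf_eq] at hx
    simp only [S, Finset.coe_erase, Finset.coe_filter, Finset.mem_univ, true_and, Set.mem_diff, Set.mem_setOf_eq,
      Set.mem_singleton_iff]
    refine ⟨⟨hall x hx, fun e => hx ?_⟩, fun e => hx ?_⟩
    · rw [← sub_eq_zero.1 e]; exact ⟨1, (mul_one 1).symm⟩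
    · rw [sub_eq_self] at e; rw [e]; exact ⟨0, (mul_zero 0).symm⟩
  have h3 : (S.erase 1).card < S.card := Finset.card_erase_lt_of_mem (by simp [S])
  omega

/-- In a finite field the quotient of two non-squares is a square. -/
theorem sq_mul_of_nonsquare [Finite F] {a b : F} (ha : ¬ IsSquare a) (hb : ¬ IsSquare b) :
    ∃ s, s ≠ 0 ∧ b = s ^ 2 * a := by
  classical
  have := Fintype.ofFinite F
  have ha0 : a ≠ 0 := fun e => ha (e ▸ ⟨0, (mul_zero 0).symm⟩)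
  have hb0 : b ≠ 0 := fun e => hb (e ▸ ⟨0, (mul_zero 0).symm⟩)
  have h1 := quadraticChar_neg_one_iff_not_isSquare.2 ha
  have h2 := quadraticChar_neg_one_iff_not_isSquare.2 hb
  have h3 : quadraticChar F (b * a) = 1 := by rw [map_mul, h1, h2]; rfl
  obtain ⟨z, hz⟩ := (quadraticChar_one_iff_isSquare (mul_ne_zero hb0 ha0)).1 h3
  have hz0 : z ≠ 0 := fun e => mul_ne_zero hb0 ha0 (by rw [hz, e, mul_zero])
  exact ⟨z / a, div_ne_zero hz0 ha0, by field_simp; linear_combination hz⟩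

namespace StAll

variable {C : Cert D T} {E : Type*} [Group E] (Φ : StAll C F E)

/-- The torus elements of the fundamental roots are multiplicative. -/
def HMul : Prop := ∀ i < D.rank, ∀ t u : F, t ≠ 0 → u ≠ 0 →
  Φ.hH (T.simp' i) t * Φ.hH (T.simp' i) u = Φ.hH (T.simp' i) (t * u)

theorem hH_one {q : ℕ} (hq : q < D.nroots) : Φ.hH q (1 : F) = 1 := by
  rw [hH, ← Φ.nH_inv hq, mul_inv_cancel]

theorem proj_gen_central {g : E} (hg : g ∈ Φ.gen {r | r < D.nroots})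
    (hc : ∀ r < D.nroots, ∀ t, g * Φ.X r t = Φ.X r t * g) {y : E} (hy : y ∈ Φ.gen {r | r < D.nroots}) :
    g * y = y * g := by
  induction hy using Subgroup.closure_induction with
  | mem x hx => obtain ⟨r, hr, t, rfl⟩ := hx; exact hc r hr t
  | one => simp
  | mul a b _ _ ha hb => exact ((show Commute g a from ha).mul_right hb).eq
  | inv a _ ha => exact ((show Commute g a from ha).inv_right).eq

theorem pairGen_le {q : ℕ} (hq : q < D.nroots) : Φ.pairGen q ≤ Φ.gen {r | r < D.nroots} :=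
  Φ.gen_mono fun x hx => by
    rcases hx with rfl | rfl
    · exact hq
    · exact C.spec.neg_lt q hq

theorem hH_mem_gen {q : ℕ} (hq : q < D.nroots) (v : F) : Φ.hH q v ∈ Φ.gen {r | r < D.nroots} :=
  Φ.pairGen_le hq (mul_mem (Φ.nH_mem_pair q v) (Φ.nH_mem_pair q (-1)))

variable (K : FullCert D T) (hN : HasNbr D T)
include K hN

theorem nH_conj_x {i : ℕ} (hi : i < D.rank) {v : F} (hv : v ≠ 0) (a : F) :
    Φ.nH (T.simp' i) v * Φ.X (T.simp' i) a * (Φ.nH (T.simp' i) v)⁻¹ = Φ.X (T.neg (T.simp' i)) (-a / v ^ 2) := by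
  have hp := C.spec.simp_lt i hi
  have := Φ.nH_conj K hN hi hp hv (t := a) (u := -a / v ^ 2)
    (by rw [C.spec.refl_simple i hi]; exact ng_conj_xg C hp hv a)
  rwa [C.spec.refl_simple i hi] at this

theorem nH_conj_y {i : ℕ} (hi : i < D.rank) {v : F} (hv : v ≠ 0) (b : F) :
    Φ.nH (T.simp' i) v * Φ.X (T.neg (T.simp' i)) b * (Φ.nH (T.simp' i) v)⁻¹ = Φ.X (T.simp' i) (-b * v ^ 2) := by
  have hp := C.spec.simp_lt i hi
  have h := Φ.nH_conj_x K hN hi (neg_ne_zero.2 hv) (-b * v ^ 2)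
  have e : -(-b * v ^ 2) / (-v) ^ 2 = b := by field_simp
  rw [e, ← Φ.nH_inv hp, inv_inv] at h
  rw [← h]; group

theorem nH_second {i : ℕ} (hi : i < D.rank) {v : F} (hv : v ≠ 0) :
    Φ.nH (T.simp' i) v = Φ.X (T.neg (T.simp' i)) (-v⁻¹) * Φ.X (T.simp' i) v * Φ.X (T.neg (T.simp' i)) (-v⁻¹) := by
  have h1 := Φ.nH_conj_x K hN hi hv v
  have h2 := Φ.nH_conj_y K hN hi hv (-v⁻¹)
  rw [show -v / v ^ 2 = -v⁻¹ by field_simp] at h1
  rw [show - -v⁻¹ * v ^ 2 = v by field_simp] at h2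
  calc Φ.nH (T.simp' i) v = Φ.nH (T.simp' i) v *
      (Φ.X (T.simp' i) v * Φ.X (T.neg (T.simp' i)) (-v⁻¹) * Φ.X (T.simp' i) v) * (Φ.nH (T.simp' i) v)⁻¹ :=
        (mul_inv_cancel_right _ _).symm
    _ = (Φ.nH (T.simp' i) v * Φ.X (T.simp' i) v * (Φ.nH (T.simp' i) v)⁻¹) *
        (Φ.nH (T.simp' i) v * Φ.X (T.neg (T.simp' i)) (-v⁻¹) * (Φ.nH (T.simp' i) v)⁻¹) *
        (Φ.nH (T.simp' i) v * Φ.X (T.simp' i) v * (Φ.nH (T.simp' i) v)⁻¹) := by group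
    _ = _ := by rw [h1, h2]

theorem nH_mul_of_add_eq_one {i : ℕ} (hi : i < D.rank) {t u : F} (ht : t ≠ 0) (hu : u ≠ 0) (h : t + u = 1) :
    Φ.nH (T.simp' i) t * Φ.nH (T.simp' i) u = Φ.nH (T.simp' i) (t / u) * Φ.nH (T.simp' i) 1 := by
  have hp := C.spec.simp_lt i hi
  have hn := C.spec.neg_lt _ hp
  have hX : ∀ {v : F}, v ≠ 0 → Φ.X (T.simp' i) v =
      Φ.X (T.neg (T.simp' i)) v⁻¹ * Φ.nH (T.simp' i) v * Φ.X (T.neg (T.simp' i)) v⁻¹ := fun {v} hv => by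
    rw [Φ.nH_second K hN hi hv]
    simp only [← mul_assoc]
    rw [Φ.add' hn, add_neg_cancel, Φ.zero' hn, one_mul, mul_assoc, Φ.add' hn, neg_add_cancel, Φ.zero' hn, mul_one]
  have e1 : Φ.X (T.simp' i) t * Φ.X (T.simp' i) u = Φ.X (T.simp' i) 1 := by rw [Φ.add' hp, h]
  rw [hX ht, hX hu, hX one_ne_zero, inv_one] at e1
  have e2 : Φ.nH (T.simp' i) t * Φ.X (T.neg (T.simp' i)) (t⁻¹ + u⁻¹) =
      Φ.X (T.simp' i) (-(t / u)) * Φ.nH (T.simp' i) t := by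
    rw [← mul_inv_eq_iff_eq_mul, Φ.nH_conj_y K hN hi ht]
    congr 1
    field_simp
    linear_combination -h
  have e3 : Φ.nH (T.simp' i) 1 * Φ.X (T.neg (T.simp' i)) (-(t / u)) =
      Φ.X (T.simp' i) (t / u) * Φ.nH (T.simp' i) 1 := by
    rw [← mul_inv_eq_iff_eq_mul, Φ.nH_conj_y K hN hi one_ne_zero]
    congr 1
    ring
  have e4 : Φ.X (T.simp' i) (-(t / u)) * (Φ.nH (T.simp' i) t * Φ.nH (T.simp' i) u) =
      Φ.X (T.neg (T.simp' i)) (-t⁻¹ + 1) * Φ.nH (T.simp' i) 1 * Φ.X (T.neg (T.simp' i)) (1 + -u⁻¹) := by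
    rw [← mul_assoc, ← e2, ← Φ.add' hn t⁻¹ u⁻¹, ← Φ.add' hn (-t⁻¹) 1, ← Φ.add' hn 1 (-u⁻¹), ← Φ.inv' hn t⁻¹,
      ← Φ.inv' hn u⁻¹]
    calc Φ.nH (T.simp' i) t * (Φ.X (T.neg (T.simp' i)) t⁻¹ * Φ.X (T.neg (T.simp' i)) u⁻¹) * Φ.nH (T.simp' i) u
        = (Φ.X (T.neg (T.simp' i)) t⁻¹)⁻¹ * (Φ.X (T.neg (T.simp' i)) t⁻¹ * Φ.nH (T.simp' i) t *
            Φ.X (T.neg (T.simp' i)) t⁻¹ * (Φ.X (T.neg (T.simp' i)) u⁻¹ * Φ.nH (T.simp' i) u *
            Φ.X (T.neg (T.simp' i)) u⁻¹)) * (Φ.X (T.neg (T.simp' i)) u⁻¹)⁻¹ := by group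
      _ = _ := by rw [e1]; group
  have ha : -t⁻¹ + 1 = -(t / u)⁻¹ := by field_simp; linear_combination h
  have hb : 1 + -u⁻¹ = -(t / u) := by field_simp; linear_combination h
  rw [ha, hb, mul_assoc (Φ.X (T.neg (T.simp' i)) _), e3] at e4
  calc Φ.nH (T.simp' i) t * Φ.nH (T.simp' i) u
      = Φ.X (T.simp' i) (t / u) * (Φ.X (T.simp' i) (-(t / u)) * (Φ.nH (T.simp' i) t * Φ.nH (T.simp' i) u)) := by
        rw [← mul_assoc (Φ.X (T.simp' i) (t / u)), Φ.add' hp, add_neg_cancel, Φ.zero' hp, one_mul]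
    _ = _ := by rw [e4]; simp only [nH, mul_assoc]

/-- The basic identity for the torus elements. -/
theorem hH_mul_inv_sub {i : ℕ} (hi : i < D.rank) {t : F} (ht : t ≠ 0) (ht1 : 1 - t ≠ 0) :
    Φ.hH (T.simp' i) t * Φ.hH (T.simp' i) (1 - t)⁻¹ = Φ.hH (T.simp' i) (t * (1 - t)⁻¹) := by
  have hp := C.spec.simp_lt i hi
  set u := 1 - t with hu
  have hm1 : (-1 : F) ≠ 0 := neg_ne_zero.2 one_ne_zero
  have h1 : Φ.nH (T.simp' i) (-1) * Φ.nH (T.simp' i) u⁻¹ * (Φ.nH (T.simp' i) (-1))⁻¹ = Φ.nH (T.simp' i) u := by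
    rw [Φ.nH_second K hN hi (inv_ne_zero ht1), nH.eq_def Φ (T.simp' i) u]
    have a1 := Φ.nH_conj_y K hN hi hm1 (-u⁻¹⁻¹)
    have a2 := Φ.nH_conj_x K hN hi hm1 u⁻¹
    rw [neg_sq, one_pow, mul_one, neg_neg, inv_inv] at a1
    rw [neg_sq, one_pow, div_one] at a2
    calc _ = (Φ.nH (T.simp' i) (-1) * Φ.X (T.neg (T.simp' i)) (-u⁻¹⁻¹) * (Φ.nH (T.simp' i) (-1))⁻¹) *
          (Φ.nH (T.simp' i) (-1) * Φ.X (T.simp' i) u⁻¹ * (Φ.nH (T.simp' i) (-1))⁻¹) *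
          (Φ.nH (T.simp' i) (-1) * Φ.X (T.neg (T.simp' i)) (-u⁻¹⁻¹) * (Φ.nH (T.simp' i) (-1))⁻¹) := by group
      _ = _ := by rw [inv_inv, a1, a2]
  have h2 := Φ.nH_mul_of_add_eq_one K hN hi ht ht1 (by rw [hu]; ring)
  simp only [hH]
  calc Φ.nH (T.simp' i) t * Φ.nH (T.simp' i) (-1) * (Φ.nH (T.simp' i) u⁻¹ * Φ.nH (T.simp' i) (-1))
      = Φ.nH (T.simp' i) t * (Φ.nH (T.simp' i) (-1) * Φ.nH (T.simp' i) u⁻¹ * (Φ.nH (T.simp' i) (-1))⁻¹) *
          (Φ.nH (T.simp' i) (-1) * Φ.nH (T.simp' i) (-1)) := by group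
    _ = Φ.nH (T.simp' i) (t / u) * (Φ.nH (T.simp' i) 1 * Φ.nH (T.simp' i) (-1)) * Φ.nH (T.simp' i) (-1) := by
        rw [h1, h2]; group
    _ = _ := by rw [← Φ.nH_inv hp, mul_inv_cancel, mul_one, div_eq_mul_inv]

/-- Conjugation of a torus element by another. -/
theorem torH_conj_hH {h : E} (hh : h ∈ Φ.torH) {i : ℕ} (hi : i < D.rank) {χ : F} (hχ0 : χ ≠ 0)
    (hχ : Φ.proj h * xg C (T.simp' i) 1 * (Φ.proj h)⁻¹ = xg C (T.simp' i) χ) (u : F) :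
    h * Φ.hH (T.simp' i) u * h⁻¹ = Φ.hH (T.simp' i) (χ * u) * (Φ.hH (T.simp' i) χ)⁻¹ := by
  have hp := C.spec.simp_lt i hi
  have hn := C.spec.neg_lt _ hp
  obtain ⟨ψ, hψ⟩ := diag_char C (Φ.proj_torH hh)
  have e0 : ψ (T.simp' i) = χ := xg_param_inj C hp (by rw [← hχ, (hψ _ hp).2.2, mul_one])
  have ex : ∀ a : F, h * Φ.X (T.simp' i) a * h⁻¹ = Φ.X (T.simp' i) (χ * a) := fun a =>
    Φ.torH_conj K hN hh hp (by rw [(hψ _ hp).2.2, e0])
  have ey : ∀ a : F, h * Φ.X (T.neg (T.simp' i)) a * h⁻¹ = Φ.X (T.neg (T.simp' i)) (χ⁻¹ * a) := fun a =>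
    Φ.torH_conj K hN hh hn (by rw [(hψ _ hn).2.2, (hψ _ hp).2.1, e0])
  have en : ∀ v : F, h * Φ.nH (T.simp' i) v * h⁻¹ = Φ.nH (T.simp' i) (χ * v) := fun v => by
    rw [nH, nH, mul_inv, show -(χ⁻¹ * v⁻¹) = χ⁻¹ * -v⁻¹ by ring, ← ex, ← ey]; group
  rw [hH, show h * (Φ.nH (T.simp' i) u * Φ.nH (T.simp' i) (-1)) * h⁻¹ =
    (h * Φ.nH (T.simp' i) u * h⁻¹) * (h * Φ.nH (T.simp' i) (-1) * h⁻¹) by group, en, en, hH, hH, mul_inv_rev,
    Φ.nH_inv hp, Φ.nH_inv hp, mul_neg_one]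
  rw [neg_neg, show Φ.nH (T.simp' i) (1 : F) = (Φ.nH (T.simp' i) (-1))⁻¹ by rw [Φ.nH_inv hp, neg_neg]]
  group

theorem hH_commute_of_gen {i : ℕ} (hi : i < D.rank) {g : F} (hg : g ≠ 0) (k l : ℕ) :
    Commute (Φ.hH (T.simp' i) (g ^ k)) (Φ.hH (T.simp' i) (g ^ l)) := by
  have hp := C.spec.simp_lt i hi
  have hz : ∀ t u : F, t ≠ 0 → u ≠ 0 → ∀ y ∈ Φ.gen {r | r < D.nroots},
      Commute ((Φ.hH (T.simp' i) t * Φ.hH (T.simp' i) u)⁻¹ * Φ.hH (T.simp' i) (t * u)) y := fun t u ht hu y hy => by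
    have hm : (Φ.hH (T.simp' i) t * Φ.hH (T.simp' i) u)⁻¹ * Φ.hH (T.simp' i) (t * u) ∈ Φ.gen {r | r < D.nroots} :=
      mul_mem (inv_mem (mul_mem (Φ.hH_mem_gen hp t) (Φ.hH_mem_gen hp u))) (Φ.hH_mem_gen hp _)
    obtain ⟨-, hc⟩ := Φ.kernel_mem K hN hm (by
      rw [map_mul, map_inv, map_mul, Φ.proj_hH hp, Φ.proj_hH hp, Φ.proj_hH hp, hg_mul C hp ht hu, inv_mul_cancel])
    exact Φ.proj_gen_central hm hc hy
  have key : ∀ (y : E), y ∈ Φ.gen {r | r < D.nroots} → Commute y (Φ.hH (T.simp' i) g) →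
      ∀ l, Commute y (Φ.hH (T.simp' i) (g ^ l)) := by
    intro y hy hc l
    induction l with
    | zero => rw [pow_zero, Φ.hH_one hp]; exact Commute.one_right y
    | succ l ih =>
      rw [pow_succ, show Φ.hH (T.simp' i) (g ^ l * g) = Φ.hH (T.simp' i) (g ^ l) * Φ.hH (T.simp' i) g *
        ((Φ.hH (T.simp' i) (g ^ l) * Φ.hH (T.simp' i) g)⁻¹ * Φ.hH (T.simp' i) (g ^ l * g)) by group]
      exact (ih.mul_right hc).mul_right (hz _ _ (pow_ne_zero l hg) hg y hy).symm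
  exact key _ (Φ.hH_mem_gen hp _) ((key _ (Φ.hH_mem_gen hp _) (Commute.refl _) k).symm) l

/-- The torus elements are multiplicative over a finite field. -/
theorem hMul_of_finite [Finite F] : Φ.HMul := by
  classical
  have := Fintype.ofFinite F
  intro i hi t u ht hu
  have hp := C.spec.simp_lt i hi
  obtain ⟨z, hz⟩ := IsCyclic.exists_generator (α := Fˣ)
  have hpow : ∀ a : F, a ≠ 0 → ∃ k : ℕ, a = (z : F) ^ k := fun a ha => by
    obtain ⟨k, -, hk⟩ := (isOfFinOrder_of_finite z).mem_zpowers_iff_mem_range_orderOf.1 (hz (Units.mk0 a ha)) |>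
      fun h => by simpa using h
    exact ⟨k, by rw [← Units.val_pow_eq_pow_val, hk, Units.val_mk0]⟩
  have hcomm : ∀ a b : F, a ≠ 0 → b ≠ 0 → Commute (Φ.hH (T.simp' i) a) (Φ.hH (T.simp' i) b) := fun a b ha hb => by
    obtain ⟨k, rfl⟩ := hpow a ha
    obtain ⟨l, rfl⟩ := hpow b hb
    exact Φ.hH_commute_of_gen K hN hi z.ne_zero k l
  have hsq : ∀ s v : F, s ≠ 0 → v ≠ 0 →
      Φ.hH (T.simp' i) (s ^ 2) * Φ.hH (T.simp' i) v = Φ.hH (T.simp' i) (s ^ 2 * v) := fun s v hs hv => by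
    have e := Φ.torH_conj_hH K hN (Φ.hH_mem_torH hi hs) hi (pow_ne_zero 2 hs)
      (by rw [Φ.proj_hH hp, hg_conj_xg C hp hs, mul_one]) v
    rw [(hcomm s v hs hv).eq, mul_inv_cancel_right, eq_mul_inv_iff_mul_eq] at e
    rw [← e, (hcomm _ _ (pow_ne_zero 2 hs) hv).eq]
  by_cases h1 : IsSquare t
  · obtain ⟨s, rfl⟩ := h1
    rw [← sq] at ht ⊢
    exact hsq s u (fun e => ht (by rw [e]; ring)) hu
  by_cases h2 : IsSquare u
  · obtain ⟨s, rfl⟩ := h2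
    rw [← sq] at hu ⊢
    rw [(hcomm t _ ht hu).eq, hsq s t (fun e => hu (by rw [e]; ring)) ht, mul_comm]
  obtain ⟨g, hg, hg1⟩ := exists_nonsquare_pair ⟨t, h1⟩
  have hg0 : g ≠ 0 := fun e => hg (e ▸ ⟨0, (mul_zero 0).symm⟩)
  have hg10 : 1 - g ≠ 0 := fun e => hg1 (e ▸ ⟨0, (mul_zero 0).symm⟩)
  have hw : ¬ IsSquare (1 - g)⁻¹ := fun ⟨z, hz⟩ => hg1 ⟨z⁻¹, by rw [← mul_inv, ← hz, inv_inv]⟩
  have hgg : Φ.hH (T.simp' i) g * Φ.hH (T.simp' i) g = Φ.hH (T.simp' i) (g * g) := by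
    obtain ⟨s, hs, e⟩ := sq_mul_of_nonsquare hw hg
    have hs2 := pow_ne_zero 2 hs
    calc Φ.hH (T.simp' i) g * Φ.hH (T.simp' i) g
        = Φ.hH (T.simp' i) g * (Φ.hH (T.simp' i) (s ^ 2) * Φ.hH (T.simp' i) (1 - g)⁻¹) := by
          rw [hsq s _ hs (inv_ne_zero hg10), ← e]
      _ = Φ.hH (T.simp' i) (s ^ 2) * (Φ.hH (T.simp' i) g * Φ.hH (T.simp' i) (1 - g)⁻¹) := by
          rw [← mul_assoc, (hcomm g _ hg0 hs2).eq, mul_assoc]
      _ = _ := by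
          rw [Φ.hH_mul_inv_sub K hN hi hg0 hg10, hsq s _ hs (mul_ne_zero hg0 (inv_ne_zero hg10))]
          congr 1
          linear_combination -g * e
  obtain ⟨a, ha, rfl⟩ := sq_mul_of_nonsquare hg h1
  obtain ⟨b, hb, rfl⟩ := sq_mul_of_nonsquare hg h2
  have ha2 := pow_ne_zero 2 ha
  have hb2 := pow_ne_zero 2 hb
  calc Φ.hH (T.simp' i) (a ^ 2 * g) * Φ.hH (T.simp' i) (b ^ 2 * g)
      = Φ.hH (T.simp' i) (a ^ 2) * (Φ.hH (T.simp' i) g * Φ.hH (T.simp' i) (b ^ 2)) * Φ.hH (T.simp' i) g := by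
        rw [← hsq a g ha hg0, ← hsq b g hb hg0]; group
    _ = (Φ.hH (T.simp' i) (a ^ 2) * Φ.hH (T.simp' i) (b ^ 2)) * (Φ.hH (T.simp' i) g * Φ.hH (T.simp' i) g) := by
        rw [(hcomm g _ hg0 hb2).eq]; group
    _ = _ := by
        rw [hgg, hsq a _ ha hb2, ← mul_pow, hsq _ _ (mul_ne_zero ha hb) (mul_ne_zero hg0 hg0)]
        congr 1
        ring

/-- Multiplicative torus elements commute. -/
theorem torH_comm (hmul : Φ.HMul) {a b : E} (ha : a ∈ Φ.torH) (hb : b ∈ Φ.torH) : a * b = b * a := by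
  induction hb using Subgroup.closure_induction with
  | mem g hg =>
    obtain ⟨i, v, hi, hv, rfl⟩ := hg
    have hp := C.spec.simp_lt i hi
    obtain ⟨χ, hχ⟩ := diag_conj_xg C (Φ.proj_torH ha)
    have e := Φ.torH_conj_hH K hN ha hi (hχ _ hp).1 (by rw [(hχ _ hp).2, mul_one]) v
    rw [← hmul i hi _ _ hv (hχ _ hp).1 |>.trans (congrArg _ (mul_comm v (χ (T.simp' i)))), mul_inv_cancel_right,
      mul_inv_eq_iff_eq_mul] at e
    exact e
  | one => simp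
  | mul x y _ _ hx hy => exact ((show Commute a x from hx).mul_right hy).eq
  | inv x _ hx => exact ((show Commute a x from hx).inv_right).eq

end StAll

end Cfsg.Lib.Chev
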