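import Cfsg.Prelude.Def_Steinberg
import Cfsg.Prelude.Def_SteinbergCover
import Cfsg.Agent.Lib.Chev.StTorus
import Cfsg.Agent.Lib.Chev.PerfectAll

/-!
The groups presented by Steinberg's relators as families over the root elements.
-/

set_option autoImplicit false
set_option linter.unusedSectionVars false
set_option maxHeartbeats 800000

namespace Cfsg.Lib.Chev

open Cfsg.Lie
open scoped commutatorElement

variable {D : ChevalleyDatum} {T : Tbl} {F : Type*} [Field F]

theorem lift_stXH (C : Cert D T) (r : ℕ) (t : F) :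
    FreeGroup.lift (fun p : Fin D.nroots × F => xg C p.1 p.2) (D.stX r t) = xg C r t := by
  rw [ChevalleyDatum.stX]
  split_ifs with h
  · exact FreeGroup.lift_apply_of
  · rw [map_one, xg_out C h]

theorem hom_stWord {G : Type*} [Group G] (f : FreeGroup (Fin D.nroots × F) →* G) (w : List (ℕ × F)) :
    f (D.stWord w) = (w.map fun p => f (D.stX p.1 p.2)).prod := by
  rw [ChevalleyDatum.stWord, map_list_prod, List.map_map]; rfl

theorem lift_stH (C : Cert D T) {r : ℕ} (t : F) :
    FreeGroup.lift (fun p : Fin D.nroots × F => xg C p.1 p.2) (D.stH r t) = hg C r t := by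
  rw [ChevalleyDatum.stH, hom_stWord]
  simp [ChevalleyDatum.hWord, ChevalleyDatum.nWord, lift_stXH C, hg, ng, mul_assoc]

theorem comm_xg_terms (C : Cert D T) (K : CommCert D T) {r s : ℕ} (hr : r < D.nroots) (hs : s < D.nroots)
    (h1 : s ≠ r) (h2 : s ≠ T.neg r) (t u : F) :
    xg C s u * xg C r t = xg C r t * xg C s u * termProd T (fun x v => xg C x v) r s t u := by
  have h := comm_xg_prod C K hr hs h1 h2 t u
  rw [commutatorElement_def, inv_inv, inv_inv] at h
  rw [termProd, ← h]; group

/-- The relators vanish in the Chevalley group. -/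
theorem lift_rels (C : Cert D T) (K : CommCert D T) :
    ∀ g ∈ D.steinbergRels F, FreeGroup.lift (fun p : Fin D.nroots × F => xg C p.1 p.2) g = 1 := by
  rintro g ((⟨r, t₁, t₂, -, rfl⟩ | ⟨r, s, t, u, hr, hs, h1, h2, rfl⟩) | ⟨r, t₁, t₂, hr, ht₁, ht₂, rfl⟩)
  · rw [map_mul, map_mul, map_inv, lift_stXH C, lift_stXH C, lift_stXH C, xg_add, mul_inv_cancel]
  · rw [C.spec.shape.neg_eq r hr] at h2
    rw [map_mul, map_mul, map_mul, map_mul, map_inv, map_inv, map_inv, lift_stXH C, lift_stXH C, hom_stWord,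
      ChevalleyDatum.commWord, commTerms_eq C hr hs, List.map_map]
    simp only [Function.comp_def, lift_stXH C]
    change (xg C s u)⁻¹ * (xg C r t)⁻¹ * xg C s u * xg C r t * (termProd T (fun x v => xg C x v) r s t u)⁻¹ = 1
    rw [mul_assoc _ (xg C s u), comm_xg_terms C K hr hs h1 h2 t u]
    group
  · rw [map_mul, map_mul, map_inv, lift_stH C, lift_stH C, lift_stH C, hg_mul C hr ht₁ ht₂, mul_inv_cancel]

theorem relsAB_subset : D.steinbergRelsAB F ⊆ D.steinbergRels F := fun _ hg => Or.inl hg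

/-- The projection of a presented group whose relators contain only Steinberg's. -/
noncomputable def presProj (C : Cert D T) (K : CommCert D T) {rels : Set (FreeGroup (Fin D.nroots × F))}
    (h2 : rels ⊆ D.steinbergRels F) : PresentedGroup rels →* GL D.Idx F :=
  PresentedGroup.toGroup (f := fun p : Fin D.nroots × F => xg C p.1 p.2) fun g hg => lift_rels C K g (h2 hg)

theorem presProj_mk (C : Cert D T) (K : CommCert D T) {rels : Set (FreeGroup (Fin D.nroots × F))}
    (h2 : rels ⊆ D.steinbergRels F) (g : FreeGroup (Fin D.nroots × F)) :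
    presProj C K h2 (PresentedGroup.mk rels g) = FreeGroup.lift (fun p : Fin D.nroots × F => xg C p.1 p.2) g := rfl

/-- The family of generators of a group presented by relators between (R1), (R2) and (R1)–(R3). -/
noncomputable def presFam (C : Cert D T) (K : CommCert D T) {rels : Set (FreeGroup (Fin D.nroots × F))}
    (h1 : D.steinbergRelsAB F ⊆ rels) (h2 : rels ⊆ D.steinbergRels F) :
    StAll C F (PresentedGroup rels) where
  X r t := PresentedGroup.mk rels (D.stX r t)
  proj := presProj C K h2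
  lt _ hr := hr
  map r _ t := by rw [presProj_mk, lift_stXH C]
  add r hr t u := by
    have h := PresentedGroup.one_of_mem (rels := rels) (h1 (Or.inl ⟨r, t, u, hr, rfl⟩))
    rw [map_mul, map_mul, map_inv, mul_inv_eq_one] at h
    exact h
  comm r hr s hs hne hne' t u := by
    have h := PresentedGroup.one_of_mem (rels := rels)
      (h1 (Or.inr ⟨r, s, t, u, hr, hs, hne, by rwa [C.spec.shape.neg_eq r hr], rfl⟩))
    rw [map_mul, map_mul, map_mul, map_mul, map_inv, map_inv, map_inv, hom_stWord, mul_inv_eq_one,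
      ChevalleyDatum.commWord, commTerms_eq C hr hs, List.map_map] at h
    rw [show termProd T (fun x v => PresentedGroup.mk rels (D.stX x v)) r s t u = _ from h.symm]
    group

theorem presFam_gen (C : Cert D T) (K : CommCert D T) {rels : Set (FreeGroup (Fin D.nroots × F))}
    (h1 : D.steinbergRelsAB F ⊆ rels) (h2 : rels ⊆ D.steinbergRels F) :
    (presFam C K h1 h2).gen {r | r < D.nroots} = ⊤ := by
  rw [eq_top_iff, ← PresentedGroup.closure_range_of rels, Subgroup.closure_le]
  rintro _ ⟨⟨r, t⟩, rfl⟩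
  refine Subgroup.subset_closure ⟨r, r.2, t, ?_⟩
  show PresentedGroup.of (r, t) = PresentedGroup.mk rels (D.stX r t)
  rw [ChevalleyDatum.stX, dif_pos r.2]; rfl

namespace StAll

variable {C : Cert D T} {E : Type*} [Group E] (Φ : StAll C F E)

/-- The family generates the group. -/
def Gen : Prop := Φ.gen {r | r < D.nroots} = ⊤

theorem proj_mem_group (hgen : Φ.Gen) (g : E) : Φ.proj g ∈ D.group F := by
  have hg : g ∈ Φ.gen {r | r < D.nroots} := hgen ▸ Subgroup.mem_top g
  induction hg using Subgroup.closure_induction with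
  | mem g hg => obtain ⟨r, hr, t, rfl⟩ := hg; rw [Φ.map r hr]; exact xg_mem_group C r t
  | one => rw [map_one]; exact one_mem _
  | mul a b _ _ ha hb => rw [map_mul]; exact mul_mem ha hb
  | inv a _ ha => rw [map_inv]; exact inv_mem ha

/-- The projection onto the Chevalley group. -/
def projG (hgen : Φ.Gen) : E →* ↥(D.group F) := Φ.proj.codRestrict (D.group F) (Φ.proj_mem_group hgen)

theorem projG_surjective (hgen : Φ.Gen) : Function.Surjective (Φ.projG hgen) := by
  rintro ⟨g, hg⟩
  suffices h : g ∈ Φ.proj.range by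
    obtain ⟨x, hx⟩ := h
    exact ⟨x, Subtype.ext hx⟩
  refine (Subgroup.closure_le _).2 ?_ hg
  rintro x ⟨r, t, e⟩
  refine ⟨Φ.X r.1 t, ?_⟩
  rw [Φ.map r.1 r.2]
  exact (eq_xg C (show (x : Matrix D.Idx D.Idx F) = D.x F r.1 t from
    e.trans (by rw [ChevalleyDatum.x, dif_pos r.2]))).symm

variable (K : FullCert D T) (hN : HasNbr D T)
include K hN

theorem ker_projG_le_center (hgen : Φ.Gen) : (Φ.projG hgen).ker ≤ Subgroup.center E := fun g hg => by
  have hgm : g ∈ Φ.gen {r | r < D.nroots} := hgen ▸ Subgroup.mem_top g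
  obtain ⟨-, hc⟩ := Φ.kernel_mem K hN hgm (congrArg Subtype.val (show Φ.projG hgen g = 1 from hg))
  exact Subgroup.mem_center_iff.2 fun y => (Φ.proj_gen_central hgm hc (hgen ▸ Subgroup.mem_top y)).symm

theorem ker_projG_le_torH (hgen : Φ.Gen) : (Φ.projG hgen).ker ≤ Φ.torH := fun g hg =>
  (Φ.kernel_mem K hN (hgen ▸ Subgroup.mem_top g) (congrArg Subtype.val (show Φ.projG hgen g = 1 from hg))).1

theorem ker_projG_eq_center (hgen : Φ.Gen) : (Φ.projG hgen).ker = Subgroup.center E := by
  refine le_antisymm (Φ.ker_projG_le_center K hN hgen) fun g hg => Subtype.ext ?_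
  refine eq_one_of_comm C K (Φ.projG hgen g).2 fun r hr => ?_
  show Φ.proj g * xg C r 1 = xg C r 1 * Φ.proj g
  rw [← Φ.map r hr, ← map_mul, ← map_mul, Subgroup.mem_center_iff.1 hg]

/-- A root whose elements are products of commutators. -/
def InDer (_Φ : StAll C F E) (r : ℕ) : Prop := ∀ t : F, _Φ.X r t ∈ commutator E

omit hN in
theorem inDer_of_terms {r s k : ℕ} {c : ℤ} {rest : List (ℕ × ℤ × ℕ × ℕ)} (hr : r < D.nroots) (hs : s < D.nroots)
    (h1 : s ≠ r) (h2 : s ≠ T.neg r) (e : tTerms T r s = (k, c, 1, 1) :: rest) (hc : (c : F) ≠ 0)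
    (hrest : ∀ p ∈ rest, (p.2.1 : F) = 0 ∨ Φ.InDer p.1) : Φ.InDer k := by
  intro a
  have h := Φ.comm r hr s hs h1 h2 (-(a * (c : F)⁻¹)) 1
  rw [termProd, e, List.map_cons, List.prod_cons] at h
  have hm : (List.map (fun q : ℕ × ℤ × ℕ × ℕ => Φ.X q.1 ((q.2.1 : F) * (- -(a * (c : F)⁻¹)) ^ q.2.2.1 * 1 ^ q.2.2.2))
      rest).prod ∈ commutator E := list_prod_mem fun x hx => by
    obtain ⟨p, hp, rfl⟩ := List.mem_map.1 hx
    rcases hrest p hp with h0 | h0
    · have hlt := (tTerms_lt C hr hs p (e ▸ List.mem_cons_of_mem _ hp)).1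
      rw [h0, zero_mul, zero_mul, Φ.zero' hlt]; exact one_mem _
    · exact h0 _
  have hcomm : ⁅(Φ.X s 1)⁻¹, (Φ.X r (-(a * (c : F)⁻¹)))⁻¹⁆ ∈ commutator E :=
    Subgroup.commutator_mem_commutator (Subgroup.mem_top _) (Subgroup.mem_top _)
  rw [commutatorElement_def, inv_inv, inv_inv, mul_assoc _ (Φ.X s 1), h, ← mul_assoc] at hcomm
  simp only [← mul_assoc, inv_mul_cancel_right, inv_mul_cancel, one_mul] at hcomm
  have e' : (c : F) * (- -(a * (c : F)⁻¹)) ^ 1 * (1 : F) ^ 1 = a := by rw [neg_neg]; field_simp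
  rw [Subgroup.mul_mem_cancel_right _ hm, e'] at hcomm
  exact hcomm

theorem inDer_refl {i r : ℕ} (hi : i < D.rank) (hr : r < D.nroots) (h : Φ.InDer r) : Φ.InDer (T.refl' i r) := by
  intro t
  have e := Φ.nuH_conj K hN hi hr ((T.eta' i r : ℤ) * t : F)
  rw [← mul_assoc, eta_sq, one_mul] at e
  rw [← e]
  exact (Subgroup.Normal.conj_mem inferInstance _ (h _) _)

theorem inDer_of_sq {a : F} (ha : a ≠ 0) (ha2 : a ^ 2 ≠ 1) {i : ℕ} (hi : i < D.rank) : Φ.InDer (T.simp' i) := by
  intro t
  have hp := C.spec.simp_lt i hi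
  have e := Φ.torH_conj K hN (Φ.hH_mem_torH hi ha) hp (t := t / (a ^ 2 - 1))
    (by rw [Φ.proj_hH hp]; exact hg_conj_xg C hp ha _)
  have h : ⁅Φ.hH (T.simp' i) a, Φ.X (T.simp' i) (t / (a ^ 2 - 1))⁆ ∈ commutator E :=
    Subgroup.commutator_mem_commutator (Subgroup.mem_top _) (Subgroup.mem_top _)
  have hd : a ^ 2 - 1 ≠ 0 := sub_ne_zero.2 ha2
  rw [commutatorElement_def, e, Φ.inv' hp, Φ.add' hp,
    show a ^ 2 * (t / (a ^ 2 - 1)) + -(t / (a ^ 2 - 1)) = t by field_simp; ring] at h
  exact h

theorem perfect_of_simple' (hgen : Φ.Gen) (h : ∀ i < D.rank, Φ.InDer (T.simp' i)) : commutator E = ⊤ := by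
  rw [eq_top_iff, ← show Φ.gen {r | r < D.nroots} = ⊤ from hgen, StFam.gen, Subgroup.closure_le]
  rintro g ⟨r, hr, t, rfl⟩
  exact C.root_induction (P := Φ.InDer) h (fun i hi r hr h => Φ.inDer_refl K hN hi hr h) r hr t

theorem perfect_of_clean' (hgen : Φ.Gen) {w : List (ℕ × ℕ)} (h : chkClean T w = true) : commutator E = ⊤ := by
  refine Φ.perfect_of_simple' K hN hgen fun i hi => ?_
  have := allBelow_iff.1 h i (C.spec.shape.rank_eq ▸ hi)
  simp only [Bool.and_eq_true, Bool.or_eq_true, Nat.blt_eq, Bool.not_eq_true', decide_eq_true_eq,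
    C.spec.shape.nroots_eq] at this
  obtain ⟨hr, hs, h1, h2, he⟩ := this
  rcases he with he | he
  · exact Φ.inDer_of_terms K hr hs (ne_of_beq_false h1) (ne_of_beq_false h2) he (by simp) (by simp)
  · exact Φ.inDer_of_terms K hr hs (ne_of_beq_false h1) (ne_of_beq_false h2) he (by simp) (by simp)

/-- A product of fundamental torus elements. -/
def hProd (v : ℕ → F) (n : ℕ) : E := ((List.range n).map fun i => Φ.hH (T.simp' i) (v i)).prod

theorem hProd_mem {v : ℕ → F} (hv : ∀ i, v i ≠ 0) : ∀ {n : ℕ}, n ≤ D.rank → Φ.hProd v n ∈ Φ.torH := by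
  intro n hn
  refine list_prod_mem fun x hx => ?_
  obtain ⟨i, hi, rfl⟩ := List.mem_map.1 hx
  exact Φ.hH_mem_torH (lt_of_lt_of_le (List.mem_range.1 hi) hn) (hv i)

theorem hProd_mul (hmul : Φ.HMul) {v w : ℕ → F} (hv : ∀ i, v i ≠ 0) (hw : ∀ i, w i ≠ 0) :
    ∀ n ≤ D.rank, Φ.hProd v n * Φ.hProd w n = Φ.hProd (fun i => v i * w i) n := by
  intro n
  induction n with
  | zero => intro _; simp [hProd]
  | succ n ih =>
    intro hn
    have hs : ∀ u : ℕ → F, Φ.hProd u (n + 1) = Φ.hProd u n * Φ.hH (T.simp' n) (u n) := fun u => by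
      simp [hProd, List.range_succ]
    rw [hs, hs, hs, mul_assoc, ← mul_assoc (Φ.hH (T.simp' n) (v n)),
      Φ.torH_comm K hN hmul (Φ.hH_mem_torH (by omega) (hv n)) (Φ.hProd_mem K hN hw (by omega)), mul_assoc,
      hmul n (by omega) _ _ (hv n) (hw n), ← mul_assoc, ih (by omega)]

omit K hN in
theorem hProd_one : ∀ n ≤ D.rank, Φ.hProd (fun _ => (1 : F)) n = 1 := fun n hn => by
  refine List.prod_eq_one fun x hx => ?_
  obtain ⟨i, hi, rfl⟩ := List.mem_map.1 hx
  exact Φ.hH_one (C.spec.simp_lt i (lt_of_lt_of_le (List.mem_range.1 hi) hn))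

omit K hN in
theorem hProd_single {i : ℕ} (hi : i < D.rank) (v : F) :
    ∀ n ≤ D.rank, Φ.hProd (fun k => if k = i then v else 1) n = if i < n then Φ.hH (T.simp' i) v else 1 := by
  intro n
  induction n with
  | zero => intro _; simp [hProd]
  | succ n ih =>
    intro hn
    rw [show Φ.hProd (fun k => if k = i then v else 1) (n + 1) =
      Φ.hProd (fun k => if k = i then v else 1) n * Φ.hH (T.simp' n) (if n = i then v else 1) by
        simp [hProd, List.range_succ], ih (by omega)]
    rcases eq_or_ne n i with rfl | hne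
    · rw [if_neg (lt_irrefl _), if_pos rfl, if_pos (Nat.lt_succ_self _), one_mul]
    · rw [if_neg hne, Φ.hH_one (C.spec.simp_lt n (by omega)), mul_one]
      by_cases h : i < n
      · rw [if_pos h, if_pos (by omega)]
      · rw [if_neg h, if_neg (by omega)]

theorem exists_hProd (hmul : Φ.HMul) {h : E} (hh : h ∈ Φ.torH) :
    ∃ v : ℕ → F, (∀ i, v i ≠ 0) ∧ h = Φ.hProd v D.rank := by
  induction hh using Subgroup.closure_induction with
  | mem g hg =>
    obtain ⟨i, v, hi, hv, rfl⟩ := hg
    refine ⟨fun k => if k = i then v else 1, fun k => by simp only []; split_ifs <;> simp [hv], ?_⟩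
    rw [Φ.hProd_single hi v D.rank le_rfl, if_pos hi]
  | one => exact ⟨fun _ => 1, fun _ => one_ne_zero, (Φ.hProd_one D.rank le_rfl).symm⟩
  | mul a b _ _ ha hb =>
    obtain ⟨v, hv, rfl⟩ := ha
    obtain ⟨w, hw, rfl⟩ := hb
    exact ⟨fun i => v i * w i, fun i => mul_ne_zero (hv i) (hw i), Φ.hProd_mul K hN hmul hv hw _ le_rfl⟩
  | inv a _ ha =>
    obtain ⟨v, hv, rfl⟩ := ha
    refine ⟨fun i => (v i)⁻¹, fun i => inv_ne_zero (hv i), inv_eq_of_mul_eq_one_right ?_⟩
    rw [Φ.hProd_mul K hN hmul hv (fun i => inv_ne_zero (hv i)) _ le_rfl]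
    convert Φ.hProd_one D.rank le_rfl using 2
    funext i
    exact mul_inv_cancel₀ (hv i)

omit K hN in
theorem proj_hProd_conj {v : ℕ → F} (hv : ∀ i, v i ≠ 0) {r : ℕ} (hr : r < D.nroots) (t : F) :
    Φ.proj (Φ.hProd v D.rank) * xg C r t * (Φ.proj (Φ.hProd v D.rank))⁻¹ = xg C r (chr T D v r * t) := by
  have key : ∀ n ≤ D.rank, ∀ t : F, Φ.proj (Φ.hProd v n) * xg C r t * (Φ.proj (Φ.hProd v n))⁻¹ =
      xg C r ((∏ j ∈ Finset.range n, v j ^ T.cartan j r) * t) := by
    intro n
    induction n with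
    | zero => intro _ t; simp [hProd]
    | succ n ih =>
      intro hn t
      have hp := C.spec.simp_lt n (show n < D.rank by omega)
      rw [show Φ.hProd v (n + 1) = Φ.hProd v n * Φ.hH (T.simp' n) (v n) by simp [hProd, List.range_succ], map_mul,
        Φ.proj_hH hp]
      have h1 : hg C (T.simp' n) (v n) * xg C r t * (hg C (T.simp' n) (v n))⁻¹ =
          xg C r (v n ^ T.cartan n r * t) := by
        rw [mul_inv_eq_iff_eq_mul]
        refine Units.ext ?_
        rw [Units.val_mul, Units.val_mul, coe_hg_eq C hp (hv n), coDiag_simple C (show n < D.rank by omega),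
          dModel_eq_scal (show n < D.rank by omega), coe_xg, coe_xg,
          scal_mul_x C.spec _ (fun j _ => by split_ifs <;> simp [hv n]) hr, chr_update (show n < D.rank by omega)]
      calc _ = Φ.proj (Φ.hProd v n) * (hg C (T.simp' n) (v n) * xg C r t * (hg C (T.simp' n) (v n))⁻¹) *
            (Φ.proj (Φ.hProd v n))⁻¹ := by group
        _ = _ := by rw [h1, ih (by omega), Finset.prod_range_succ, mul_assoc]
  exact key D.rank le_rfl t

/-- The check of an integral inverse of the Cartan matrix. -/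
noncomputable def unimodChk (T : Tbl) (M : List (List ℤ)) : Bool :=
  allBelow (fun i => allBelow (fun j =>
    decide (((List.range T.rank).map fun k => (M.getD i []).getD k 0 * T.cartan j (T.simp' k)).sum =
      if i = j then 1 else 0)) T.rank) T.rank

theorem ker_projG_eq_bot (hgen : Φ.Gen) (hmul : Φ.HMul) {M : List (List ℤ)} (hM : unimodChk T M = true) :
    (Φ.projG hgen).ker = ⊥ := by
  refine (Subgroup.eq_bot_iff_forall _).2 fun g hg => ?_
  obtain ⟨v, hv, rfl⟩ := Φ.exists_hProd K hN hmul (Φ.ker_projG_le_torH K hN hgen hg)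
  have h1 : Φ.proj (Φ.hProd v D.rank) = 1 := congrArg Subtype.val (show Φ.projG hgen _ = 1 from hg)
  have hchr : ∀ k < D.rank, chr T D v (T.simp' k) = 1 := fun k hk => by
    have hp := C.spec.simp_lt k hk
    have := Φ.proj_hProd_conj hv hp (1 : F)
    rw [h1, one_mul, inv_one, mul_one, mul_one] at this
    exact (xg_param_inj C hp this).symm
  simp only [unimodChk, allBelow_iff, decide_eq_true_eq, C.spec.shape.rank_eq] at hM
  have hvi : ∀ i < D.rank, v i = 1 := fun i hi => by
    let m : ℕ → ℤ := fun k => (M.getD i []).getD k 0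
    have e : ∏ k ∈ Finset.range D.rank, chr T D v (T.simp' k) ^ m k = v i := by
      simp only [chr, ← Finset.prod_zpow, ← zpow_mul]
      rw [Finset.prod_comm, Finset.prod_eq_single i]
      · have hsum := hM i hi i hi
        rw [if_pos rfl] at hsum
        have : ∀ n, ∏ x ∈ Finset.range n, v i ^ (T.cartan i (T.simp' x) * m x) =
            v i ^ ((List.range n).map fun k => m k * T.cartan i (T.simp' k)).sum := by
          intro n
          induction n with
          | zero => simp
          | succ n ih => rw [Finset.prod_range_succ, ih, ← zpow_add₀ (hv i)]; simp [List.range_succ, mul_comm]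
        rw [this, hsum, zpow_one]
      · intro j hj hji
        have hsum := hM i hi j (Finset.mem_range.1 hj)
        rw [if_neg (Ne.symm hji)] at hsum
        have : ∀ n, ∏ x ∈ Finset.range n, v j ^ (T.cartan j (T.simp' x) * m x) =
            v j ^ ((List.range n).map fun k => m k * T.cartan j (T.simp' k)).sum := by
          intro n
          induction n with
          | zero => simp
          | succ n ih => rw [Finset.prod_range_succ, ih, ← zpow_add₀ (hv j)]; simp [List.range_succ, mul_comm]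
        rw [this, hsum, zpow_zero]
      · intro h; exact absurd (Finset.mem_range.2 hi) h
    rw [← e]
    exact Finset.prod_eq_one fun k hk => by rw [hchr k (Finset.mem_range.1 hk), one_zpow]
  refine List.prod_eq_one fun x hx => ?_
  obtain ⟨i, hi, rfl⟩ := List.mem_map.1 hx
  rw [hvi i (List.mem_range.1 hi), Φ.hH_one (C.spec.simp_lt i (List.mem_range.1 hi))]

end StAll

end Cfsg.Lib.Chev
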