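import Cfsg.Agent.Lib.Chev.StPairAll

/-!
Simply laced root systems with decompositions avoiding a given root: the relators (R1), (R2) lift to central
extensions over every field, by commutators of lifts of root elements.
-/

set_option autoImplicit false
set_option linter.unusedSectionVars false

namespace Cfsg.Lib.Chev

open Cfsg.Lie
open scoped commutatorElement

/-- The packed entry of a table of width one. -/
def slEnt (T : Tbl) (r s : ℕ) : ℕ := slot (T.chain.get r) 12 s

/-- Roots whose root subgroups commute. -/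
noncomputable def slComm (T : Tbl) (a c : ℕ) : Bool :=
  Nat.beq c a || (!Nat.beq c (T.neg a) && Nat.beq (slEnt T a c) 0)

/-- A decomposition of a root as a sum of two roots with a single sign. -/
noncomputable def slDec (T : Tbl) (k a b : ℕ) : Bool :=
  (Nat.blt k 256 && (Nat.beq (slEnt T b a) (k + 1280) || Nat.beq (slEnt T b a) (k + 768))) &&
    (!Nat.beq a b && !Nat.beq a (T.neg b))

/-- The difference of two roots. -/
noncomputable def slSub (T : Tbl) (a f : ℕ) : ℕ := slEnt T (T.neg a) f % 256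

/-- Two decompositions joined by a third root. -/
noncomputable def slLink (T : Tbl) (k a g d f : ℕ) : Bool :=
  slDec T k a g && (slDec T k d f && (slDec T f a (slSub T a f) && (slDec T g d (slSub T a f) &&
    (slComm T a d && slComm T f g))))

/-- Tables of witnesses. -/
structure SlData where
  /-- A summand of the second root commuting with the first one, packed by rows. -/
  wit : BT
  /-- The first summands of the chosen decompositions. -/
  canon : ℕ
  /-- The first summands of other decompositions. -/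
  alt : ℕ

/-- The witness for a pair. -/
noncomputable def SlData.witAt (W : SlData) (r s : ℕ) : ℕ := slot (W.wit.get r) 8 s

/-- The first summand of the chosen decomposition. -/
noncomputable def SlData.canonAt (W : SlData) (k : ℕ) : ℕ := slot W.canon 8 k

/-- The first summand of another decomposition. -/
noncomputable def SlData.altAt (W : SlData) (k : ℕ) : ℕ := slot W.alt 8 k

/-- The check of one root. -/
noncomputable def slRoot (T : Tbl) (W : SlData) (k : ℕ) : Bool :=
  Nat.blt (W.canonAt k) T.nroots && (Nat.blt (slSub T (W.canonAt k) k) T.nroots &&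
  (Nat.blt (W.altAt k) T.nroots && (Nat.blt (slSub T (W.altAt k) k) T.nroots &&
  (Nat.blt (slSub T (W.altAt k) (slSub T (W.canonAt k) k)) T.nroots &&
  slLink T k (W.altAt k) (slSub T (W.altAt k) k) (W.canonAt k) (slSub T (W.canonAt k) k)))))

/-- A decomposition is the chosen one or linked to it. -/
noncomputable def slCanon (T : Tbl) (W : SlData) (k r s : ℕ) : Bool :=
  (Nat.beq s (W.canonAt k) && Nat.beq r (slSub T (W.canonAt k) k)) ||
  ((Nat.beq r (W.canonAt k) && Nat.beq s (slSub T (W.canonAt k) k)) ||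
  (slLink T k s r (W.canonAt k) (slSub T (W.canonAt k) k) ||
  (slLink T k r s (W.canonAt k) (slSub T (W.canonAt k) k) ||
  (slLink T k s r (slSub T (W.canonAt k) k) (W.canonAt k) ||
   slLink T k r s (slSub T (W.canonAt k) k) (W.canonAt k)))))

/-- The check of one pair. -/
noncomputable def slPair (T : Tbl) (W : SlData) (r s : ℕ) : Bool :=
  Nat.beq s (T.neg r) ||
  (((Nat.beq s r || Nat.beq (slEnt T r s) 0) &&
      (Nat.blt (W.witAt r s) T.nroots && (Nat.blt (slSub T (W.witAt r s) s) T.nroots &&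
        (slDec T s (W.witAt r s) (slSub T (W.witAt r s) s) && (slComm T r (W.witAt r s) &&
          slComm T r (slSub T (W.witAt r s) s)))))) ||
    ((!Nat.beq s r && !Nat.beq (slEnt T r s) 0) && (slDec T (slEnt T r s % 256) s r &&
      (slComm T (slEnt T r s % 256) r && (slComm T (slEnt T r s % 256) s &&
        slCanon T W (slEnt T r s % 256) r s)))))

/-- The checks for the pairs whose first root lies in an interval. -/
noncomputable def slPairs (T : Tbl) (W : SlData) (a n : ℕ) : Bool :=
  allBelow (fun k => allBelow (fun s => slPair T W (a + k) s) T.nroots) n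

variable {D : ChevalleyDatum} {T : Tbl} {F : Type*} [Field F] {E : Type*} [Group E]

theorem slEnt_nil (hw : T.width = 1) {r s : ℕ} (h : slEnt T r s = 0) : tTerms T r s = [] := by
  have he : T.entry r s = [] := by
    simp only [Tbl.entry, hw, Nat.mul_one, Tbl.fields]
    rw [show slot (T.chain.get r) 12 s = 0 from h]; rfl
  have hl : (T.entry s r).length ≤ 1 := by
    simp only [Tbl.entry, hw, Tbl.fields]
    cases Nat.beq (slot (T.chain.get s) (12 * 1) r % 4096) 0 <;> simp
  have h3 : ∀ i, 2 ≤ i → tRoot T s r i = none := fun i hi => by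
    rw [tRoot, List.getElem?_eq_none (by omega)]; rfl
  have h0 : ∀ i, tRoot T r s i = none := fun i => by rw [tRoot, he]; simp
  simp [tTerms, h0, h3 2 le_rfl, h3 3 (by norm_num)]

theorem slEnt_ne (hw : T.width = 1) {r s : ℕ} (h : slEnt T r s ≠ 0) :
    tTerms T r s = [(slEnt T r s % 256, ((slEnt T r s / 256 : ℕ) : ℤ) - 4, 1, 1)] := by
  have hlt : slEnt T r s % 4096 = slEnt T r s := Nat.mod_eq_of_lt (Nat.mod_lt _ (by norm_num))
  have hb : Nat.beq (slEnt T r s % 4096) 0 = false := Bool.eq_false_iff.2 fun e => h (hlt ▸ Nat.eq_of_beq_eq_true e)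
  have he : T.entry r s = [(slEnt T r s % 256, ((slEnt T r s / 256 : ℕ) : ℤ) - 4)] := by
    simp only [Tbl.entry, hw, Nat.mul_one, Tbl.fields]
    change (bif Nat.beq (slEnt T r s % 4096) 0 then [] else _) = _
    rw [hb, cond_false, show slot (T.chain.get r) 12 s = slEnt T r s from rfl, hlt]
  have h2 : ∀ i, 2 ≤ i → tRoot T r s i = none := fun i hi => by
    rw [tRoot, he, List.getElem?_eq_none (by simp; omega)]; rfl
  have h3 : ∀ i, 2 ≤ i → tRoot T s r i = none := fun i hi => by
    have hl : (T.entry s r).length ≤ 1 := by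
      simp only [Tbl.entry, hw, Tbl.fields]
      cases Nat.beq (slot (T.chain.get s) (12 * 1) r % 4096) 0 <;> simp
    rw [tRoot, List.getElem?_eq_none (by omega)]; rfl
  have h1 : tRoot T r s 1 = some (slEnt T r s % 256) := by rw [tRoot, he]; rfl
  have hM : tM T r s 1 = ((slEnt T r s / 256 : ℕ) : ℤ) - 4 := by rw [tM, he]; rfl
  simp [tTerms, h1, hM, h2 2 le_rfl, h2 3 (by norm_num), h3 2 le_rfl, h3 3 (by norm_num)]

theorem slDec_iff (hw : T.width = 1) {k a b : ℕ} (h : slDec T k a b = true) :
    ∃ c : ℤ, (c = 1 ∨ c = -1) ∧ tTerms T b a = [(k, c, 1, 1)] ∧ a ≠ b ∧ a ≠ T.neg b := by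
  simp only [slDec, Bool.and_eq_true, Bool.or_eq_true, Bool.not_eq_true', Nat.blt_eq] at h
  obtain ⟨⟨hk, he⟩, h1, h2⟩ := h
  have n1 : a ≠ b := fun e => by rw [e, Nat.beq_refl] at h1; exact Bool.noConfusion h1
  have n2 : a ≠ T.neg b := fun e => by rw [e, Nat.beq_refl] at h2; exact Bool.noConfusion h2
  have hne : slEnt T b a ≠ 0 := by
    rcases he with he | he <;> rw [Nat.eq_of_beq_eq_true he] <;> omega
  have ht := slEnt_ne hw hne
  rcases he with he | he <;> rw [Nat.eq_of_beq_eq_true he] at ht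
  · rw [show (k + 1280) % 256 = k by omega, show (k + 1280) / 256 = 5 by omega] at ht
    exact ⟨1, Or.inl rfl, by rw [ht]; rfl, n1, n2⟩
  · rw [show (k + 768) % 256 = k by omega, show (k + 768) / 256 = 3 by omega] at ht
    exact ⟨-1, Or.inr rfl, by rw [ht]; rfl, n1, n2⟩

namespace CentExt

variable {C : Cert D T} (P : CentExt C F E) (K : CommCert D T)

theorem comm_add_right {a : E} {b b' : E} (h : Commute b ⁅a, b'⁆) : ⁅a, b * b'⁆ = ⁅a, b⁆ * ⁅a, b'⁆ := by
  rw [show ⁅a, b * b'⁆ = ⁅a, b⁆ * (b * ⁅a, b'⁆ * b⁻¹) by simp only [commutatorElement_def]; group, h.eq,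
    mul_inv_cancel_right]

theorem slComm_p (hw : T.width = 1) {a c : ℕ} (ha : a < D.nroots) (hc : c < D.nroots) (h : slComm T a c = true) (t u : F)
    (hK : CommCert D T := K) : xg C a t * xg C c u = xg C c u * xg C a t := by
  simp only [slComm, Bool.or_eq_true, Bool.and_eq_true, Bool.not_eq_true'] at h
  rcases h with h | ⟨h1, h2⟩
  · rw [Nat.eq_of_beq_eq_true h, xg_add, xg_add, add_comm]
  · by_cases hca : c = a
    · rw [hca, xg_add, xg_add, add_comm]
    · have e := comm_xg_terms C hK ha hc hca (fun e => by rw [e, Nat.beq_refl] at h1; exact Bool.noConfusion h1) t u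
      rw [termProd, slEnt_nil hw (Nat.eq_of_beq_eq_true h2), List.map_nil, List.prod_nil, mul_one] at e
      exact e.symm

end CentExt

/-- The hypotheses on the tables. -/
structure SlOK (D : ChevalleyDatum) (T : Tbl) (W : SlData) : Prop where
  width : T.width = 1
  root : ∀ k < D.nroots, slRoot T W k = true
  pair : ∀ r < D.nroots, ∀ s < D.nroots, slPair T W r s = true

namespace CentExt

variable {C : Cert D T} (P : CentExt C F E)

/-- The commutator of lifts. -/
noncomputable def B (a b : ℕ) (t u : F) : E := ⁅P.xL a t, P.xL b u⁆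

theorem B_swap (a b : ℕ) (t u : F) : (P.B a b t u)⁻¹ = P.B b a u t := commutatorElement_inv _ _

variable (K : CommCert D T)
include K

theorem p_dec (hw : T.width = 1) {k a b : ℕ} (hk : k < D.nroots) (ha : a < D.nroots) (hb : b < D.nroots) (h : slDec T k a b = true)
    (h1 : slComm T k a = true) (h2 : slComm T k b = true) :
    ∃ c : F, c * c = 1 ∧ ∀ t u : F, P.p (P.B a b t u) = xg C k (c * t * u) := by
  obtain ⟨c, hc, he, n1, n2⟩ := slDec_iff hw h
  refine ⟨-(c : F), by rcases hc with rfl | rfl <;> simp, fun t u => ?_⟩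
  have e := comm_xg_terms C K hb ha n1 n2 u t
  rw [termProd, he, List.map_singleton, List.prod_singleton] at e
  rw [B, commutatorElement_def, map_mul, map_mul, map_mul, map_inv, map_inv, P.p_xL, P.p_xL, e]
  have hz := fun w => CentExt.slComm_p (C := C) K hw hk ha h1 w t
  have hz' := fun w => CentExt.slComm_p (C := C) K hw hk hb h2 w u
  have hw : -(c : F) * t * u = (c : F) * (-u) ^ 1 * t ^ 1 := by ring
  rw [hw]
  generalize (c : F) * (-u) ^ 1 * t ^ 1 = w
  calc xg C b u * xg C a t * xg C k w * (xg C a t)⁻¹ * (xg C b u)⁻¹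
      = xg C b u * (xg C a t * xg C k w) * (xg C a t)⁻¹ * (xg C b u)⁻¹ := by group
    _ = xg C b u * xg C k w * (xg C b u)⁻¹ := by rw [← hz w]; group
    _ = _ := by rw [← hz' w, mul_inv_cancel_right]

variable {W : SlData} (hW : SlOK D T W)
include C
include hW

theorem witAt_spec {r s : ℕ} (hr : r < D.nroots) (hs : s < D.nroots) (h : slComm T r s = true) :
    ∃ c d, c < D.nroots ∧ d < D.nroots ∧ slDec T s c d = true ∧ slComm T r c = true ∧ slComm T r d = true := by
  have hp := hW.pair r hr s hs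
  simp only [slPair, Bool.or_eq_true, Bool.and_eq_true, Bool.not_eq_true', Nat.blt_eq,
    C.spec.shape.nroots_eq] at hp
  simp only [slComm, Bool.or_eq_true, Bool.and_eq_true, Bool.not_eq_true'] at h
  rcases hp with hp | ⟨-, h1, h2, h3, h4, h5⟩ | ⟨⟨hne, hc⟩, -⟩
  · exfalso
    have e := Nat.eq_of_beq_eq_true hp
    rcases h with h | ⟨h, -⟩
    · have := Nat.eq_of_beq_eq_true h
      have := C.neg_eq hr
      have := nroots_even C
      omega
    · rw [e, Nat.beq_refl] at h; exact Bool.noConfusion h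
  · exact ⟨_, _, h1, h2, h3, h4, h5⟩
  · exfalso
    rcases h with h | ⟨-, h⟩
    · rw [hne] at h; exact Bool.noConfusion h
    · rw [h] at hc; exact Bool.noConfusion hc

theorem dec_comm {k a b : ℕ} (ha : a < D.nroots) (hb : b < D.nroots) (h : slDec T k a b = true) :
    k < D.nroots ∧ slComm T k b = true ∧ slComm T k a = true := by
  obtain ⟨c, -, he, n1, n2⟩ := slDec_iff hW.width h
  have hk : k < D.nroots := (tTerms_lt C hb ha (k, c, 1, 1) (by rw [he]; exact List.mem_singleton_self _)).1
  have hp := hW.pair b hb a ha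
  simp only [slPair, Bool.or_eq_true, Bool.and_eq_true, Bool.not_eq_true'] at hp
  have hne : slEnt T b a ≠ 0 := fun e => by rw [slEnt_nil hW.width e] at he; exact List.cons_ne_nil _ _ he.symm
  rcases hp with hp | ⟨h1, -⟩ | ⟨-, -, h2, h3, -⟩
  · exact absurd (Nat.eq_of_beq_eq_true hp) n2
  · rcases h1 with h1 | h1
    · exact absurd (Nat.eq_of_beq_eq_true h1) n1
    · exact absurd (Nat.eq_of_beq_eq_true h1) hne
  · have e := slEnt_ne hW.width hne
    rw [he, List.cons.injEq, Prod.mk.injEq] at e
    rw [← e.1.1] at h2 h3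
    exact ⟨hk, h2, h3⟩

/-- Lifts of commuting root elements commute. -/
theorem slComm_lift {a c : ℕ} (ha : a < D.nroots) (hc : c < D.nroots) (h : slComm T a c = true) (t u : F) :
    Commute (P.xL a t) (P.xL c u) := by
  obtain ⟨x, y, hx, hy, hdec, h1, h2⟩ := witAt_spec (C := C) K hW ha hc h
  obtain ⟨-, h3, h4⟩ := dec_comm (C := C) K hW hx hy hdec
  obtain ⟨e, he, hp⟩ := P.p_dec K hW.width hc hx hy hdec h4 h3
  have hz : P.p (P.xL c u) = P.p (P.B x y (e * u) 1) := by rw [P.p_xL, hp, ← mul_assoc, he, one_mul, mul_one]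
  have hfix : P.xL a t * P.B x y (e * u) 1 * (P.xL a t)⁻¹ = P.B x y (e * u) 1 := by
    rw [B, p_conj_comm]
    refine P.comm_eq ?_ ?_
    · rw [map_mul, map_mul, map_inv, P.p_xL, P.p_xL, CentExt.slComm_p (C := C) K hW.width ha hx h1, mul_inv_cancel_right]
    · rw [map_mul, map_mul, map_inv, P.p_xL, P.p_xL, CentExt.slComm_p (C := C) K hW.width ha hy h2, mul_inv_cancel_right]
  have hc' : (P.B x y (e * u) 1)⁻¹ * P.xL c u ∈ Subgroup.center E :=
    P.mem_center (by rw [map_mul, map_inv, hz, inv_mul_cancel])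
  have hA : Commute (P.xL a t) (P.B x y (e * u) 1) := mul_inv_eq_iff_eq_mul.1 hfix
  have hB : Commute (P.xL a t) ((P.B x y (e * u) 1)⁻¹ * P.xL c u) := Subgroup.mem_center_iff.1 hc' _
  simpa using hA.mul_right hB

theorem B_comm_left {k a b : ℕ} (ha : a < D.nroots) (hb : b < D.nroots) (h : slDec T k a b = true) {x : E}
    {m : ℕ} {w : F} (hm : m < D.nroots) (hx : P.p x = xg C m w) (hkm : slComm T k m = true) (t u : F) :
    Commute x (P.B a b t u) := by
  obtain ⟨hk, h1, h2⟩ := dec_comm (C := C) K hW ha hb h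
  obtain ⟨e, -, hp⟩ := P.p_dec K hW.width hk ha hb h h2 h1
  refine commutatorElement_eq_one_iff_commute.1 ?_
  rw [P.comm_eq (a' := P.xL m w) (b' := P.xL k (e * t * u)) (by rw [hx, P.p_xL]) (by rw [hp, P.p_xL]),
    commutatorElement_eq_one_iff_commute]
  exact (P.slComm_lift K hW hk hm hkm _ _).symm

theorem B_add_right {k a b : ℕ} (ha : a < D.nroots) (hb : b < D.nroots) (h : slDec T k a b = true) (t u u' : F) :
    P.B a b t (u + u') = P.B a b t u * P.B a b t u' := by
  obtain ⟨-, h1, -⟩ := dec_comm (C := C) K hW ha hb h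
  rw [B, P.comm_eq (a' := P.xL a t) (b' := P.xL b u * P.xL b u') rfl
    (by rw [map_mul, P.p_xL, P.p_xL, P.p_xL, xg_add])]
  exact comm_add_right (P.B_comm_left K hW ha hb h hb (P.p_xL b u) h1 t u')

theorem B_add_left {k a b : ℕ} (ha : a < D.nroots) (hb : b < D.nroots) (h : slDec T k a b = true) (t t' u : F) :
    P.B a b (t + t') u = P.B a b t u * P.B a b t' u := by
  obtain ⟨-, -, h2⟩ := dec_comm (C := C) K hW ha hb h
  have e : P.B a b (t + t') u = ⁅P.xL a t' * P.xL a t, P.xL b u⁆ :=
    P.comm_eq (by rw [map_mul, P.p_xL, P.p_xL, P.p_xL, xg_add, add_comm]) rfl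
  rw [e, show ⁅P.xL a t' * P.xL a t, P.xL b u⁆ = P.xL a t' * P.B a b t u * (P.xL a t')⁻¹ * P.B a b t' u by
    simp only [B, commutatorElement_def]; group, (P.B_comm_left K hW ha hb h ha (P.p_xL a t') h2 t u).eq,
    mul_inv_cancel_right]

theorem B_swap_neg {k a b : ℕ} (ha : a < D.nroots) (hb : b < D.nroots) (h : slDec T k a b = true) (t u : F) :
    P.B b a u t = P.B a b (-t) u := by
  have e := P.B_add_left K hW ha hb h 0 0 u
  rw [add_zero] at e
  have e0 : P.B a b 0 u = 1 := mul_eq_left.1 e.symm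
  rw [← B_swap]
  exact inv_eq_of_mul_eq_one_left (by rw [← P.B_add_left K hW ha hb h, neg_add_cancel, e0])

omit hW in
/-- The commutators for two decompositions are determined by their images. -/
def Det (P : CentExt C F E) (a b a' b' : ℕ) : Prop :=
  ∀ t u t' u' : F, P.p (P.B a b t u) = P.p (P.B a' b' t' u') → P.B a b t u = P.B a' b' t' u'

omit hW K in
theorem Det.symm {a b a' b' : ℕ} (h : P.Det a b a' b') : P.Det a' b' a b := fun t u t' u' e =>
  (h t' u' t u e.symm).symm

theorem Det.swap_left {k a b a' b' : ℕ} (ha : a < D.nroots) (hb : b < D.nroots) (hd : slDec T k a b = true)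
    (h : P.Det a b a' b') : P.Det b a a' b' := fun u t t' u' e => by
  rw [P.B_swap_neg K hW ha hb hd] at e ⊢
  exact h _ _ _ _ e

theorem det_of_link {k a g d f : ℕ} (ha : a < D.nroots) (hg : g < D.nroots) (hd : d < D.nroots) (hf : f < D.nroots)
    (h : slLink T k a g d f = true) : P.Det a g a g ∧ P.Det d f d f ∧ P.Det a g d f := by
  simp only [slLink, Bool.and_eq_true] at h
  obtain ⟨hag, hdf, hfac, hgdc, had, hfg⟩ := h
  set c := slSub T a f with hcdef
  have hc : c < D.nroots := by
    by_contra hcon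
    obtain ⟨e, -, he, -, -⟩ := slDec_iff hW.width hfac
    obtain ⟨e', -, he', -, -⟩ := slDec_iff hW.width hdf
    refine hcon ?_
    rw [hcdef, slSub]
    by_cases h0 : slEnt T (T.neg a) f = 0
    · rw [h0]; exact Nat.zero_lt_of_lt ha
    · exact (tTerms_lt C (C.spec.neg_lt a ha) hf _ (by rw [slEnt_ne hW.width h0]; exact List.mem_singleton_self _)).1
  obtain ⟨hk, k1, k2⟩ := dec_comm (C := C) K hW ha hg hag
  obtain ⟨-, k3, k4⟩ := dec_comm (C := C) K hW hd hf hdf
  obtain ⟨-, f1, f2⟩ := dec_comm (C := C) K hW ha hc hfac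
  obtain ⟨-, g1, g2⟩ := dec_comm (C := C) K hW hd hc hgdc
  obtain ⟨e1, he1, hp1⟩ := P.p_dec K hW.width hf ha hc hfac f2 f1
  obtain ⟨e2, he2, hp2⟩ := P.p_dec K hW.width hg hd hc hgdc g2 g1
  obtain ⟨ea, hea, hpa⟩ := P.p_dec K hW.width hk ha hg hag k2 k1
  obtain ⟨ed, hed, hpd⟩ := P.p_dec K hW.width hk hd hf hdf k4 k3
  have main : ∀ t u w, P.B d f w (e1 * t * u) = P.B a g t (e2 * w * u) := by
    intro t u w
    have hZf : P.B d f w (e1 * t * u) = ⁅P.xL d w, P.B a c t u⁆ := P.comm_eq rfl (by rw [P.p_xL, hp1])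
    have hDg : P.B a g t (e2 * w * u) = ⁅P.xL a t, P.B d c w u⁆ := P.comm_eq rfl (by rw [P.p_xL, hp2])
    rw [hZf, hDg]
    have hDZ : Commute (P.B d c w u) (P.B a c t u) :=
      P.B_comm_left K hW ha hc hfac hg (hp2 w u) hfg t u
    have hconj : P.xL d w * P.B a c t u * (P.xL d w)⁻¹ = ⁅P.xL a t, P.B d c w u⁆ * P.B a c t u := by
      rw [B, p_conj_comm, ← P.comm_eq (a := P.xL a t) (b := P.B d c w u * P.xL c u)]
      · exact comm_add_right hDZ
      · rw [map_mul, map_mul, map_inv, P.p_xL, P.p_xL, ← CentExt.slComm_p (C := C) K hW.width ha hd had t w,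
          mul_inv_cancel_right]
      · simp only [B, commutatorElement_def, map_mul, map_inv]; group
    rw [commutatorElement_def, hconj, mul_inv_cancel_right]
  have h1 : ∀ t x, P.B a g t x = P.B d f 1 (e1 * e2 * t * x) := fun t x => by
    have := main t (e2 * x) 1
    rw [mul_one, ← mul_assoc e2, he2, one_mul] at this
    rw [← this, show e1 * t * (e2 * x) = e1 * e2 * t * x by ring]
  have h2 : ∀ w y, P.B d f w y = P.B a g 1 (e1 * e2 * w * y) := fun w y => by
    have := main 1 (e1 * y) w
    rw [mul_one, ← mul_assoc e1, he1, one_mul] at this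
    rw [this, show e2 * w * (e1 * y) = e1 * e2 * w * y by ring]
  have hea0 : ea ≠ 0 := left_ne_zero_of_mul_eq_one hea
  have hed0 : ed ≠ 0 := left_ne_zero_of_mul_eq_one hed
  have hd1 : P.Det d f d f := fun t u t' u' e => by
    rw [hpd, hpd] at e
    have e' := xg_param_inj C hk e
    rw [mul_assoc, mul_assoc, mul_right_inj' hed0] at e'
    rw [h2 t u, h2 t' u', mul_assoc (e1 * e2) t u, mul_assoc (e1 * e2) t' u', e']
  refine ⟨fun t u t' u' e => ?_, hd1, fun t u t' u' e => ?_⟩
  · rw [hpa, hpa] at e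
    have e' := xg_param_inj C hk e
    rw [mul_assoc, mul_assoc, mul_right_inj' hea0] at e'
    rw [h1 t u, h1 t' u', mul_assoc (e1 * e2) t u, mul_assoc (e1 * e2) t' u', e']
  · rw [h1 t u] at e ⊢
    exact hd1 _ _ _ _ e

theorem exists_root_fun {k : ℕ} (hk : k < D.nroots) : ∃ Y : F → E, (∀ z, P.p (Y z) = xg C k z) ∧
    (∀ y z, Y y * Y z = Y (y + z)) ∧
    ∀ r < D.nroots, ∀ s < D.nroots, s ≠ r → s ≠ T.neg r → ∀ c, tTerms T r s = c → (c.map Prod.fst) = [k] →
      ∀ t u z, P.p (P.B s r u t) = xg C k z → P.B s r u t = Y z := by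
  have hR := hW.root k hk
  simp only [slRoot, Bool.and_eq_true, Nat.blt_eq, C.spec.shape.nroots_eq] at hR
  obtain ⟨ha0, hb0, ha1, hb1, -, hlink⟩ := hR
  set a0 := W.canonAt k with ha0d
  set b0 := slSub T a0 k with hb0d
  obtain ⟨-, hD00, -⟩ := P.det_of_link K hW ha1 hb1 ha0 hb0 hlink
  simp only [slLink, Bool.and_eq_true] at hlink
  have hdec0 := hlink.2.1
  obtain ⟨-, h1, h2⟩ := dec_comm (C := C) K hW ha0 hb0 hdec0
  obtain ⟨e, he, hp⟩ := P.p_dec K hW.width hk ha0 hb0 hdec0 h2 h1
  refine ⟨fun z => P.B a0 b0 1 (e * z), fun z => by rw [hp, mul_one, ← mul_assoc, he, one_mul],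
    fun y z => by
      show _ = P.B a0 b0 1 (e * (y + z))
      rw [← P.B_add_right K hW ha0 hb0 hdec0, mul_add], fun r hr s hs hne hne' c hc hcm t u z hz => ?_⟩
  have hdet : P.Det s r a0 b0 := by
    have hp' := hW.pair r hr s hs
    simp only [slPair, slCanon, Bool.or_eq_true, Bool.and_eq_true, Bool.not_eq_true'] at hp'
    rcases hp' with hp' | ⟨h', -⟩ | ⟨⟨-, hq⟩, hdec, -, -, hl⟩
    · exact absurd (Nat.eq_of_beq_eq_true hp') hne'
    · rcases h' with h' | h'
      · exact absurd (Nat.eq_of_beq_eq_true h') hne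
      · rw [← hc, slEnt_nil hW.width (Nat.eq_of_beq_eq_true h')] at hcm; exact absurd hcm (by simp)
    have hqk : slEnt T r s % 256 = k := by
      have hn : slEnt T r s ≠ 0 := fun e => by rw [e, Nat.beq_refl] at hq; exact Bool.noConfusion hq
      rw [← hc, slEnt_ne hW.width hn] at hcm
      simpa using hcm
    rw [hqk, ← ha0d, ← hb0d] at hl
    rw [hqk] at hdec
    have hlink' : ∀ {a g d f}, a < D.nroots → g < D.nroots → d < D.nroots → f < D.nroots →
        slLink T k a g d f = true → P.Det a g d f := fun h1 h2 h3 h4 h => (P.det_of_link K hW h1 h2 h3 h4 h).2.2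
    have hdec' : slLink T k r s a0 b0 = true ∨ slLink T k r s b0 a0 = true → slDec T k r s = true := fun h => by
      rcases h with h | h <;> simp only [slLink, Bool.and_eq_true] at h <;> exact h.1
    rcases hl with ⟨e1, e2⟩ | ⟨e1, e2⟩ | hl | hl | hl | hl
    · rw [Nat.eq_of_beq_eq_true e1, Nat.eq_of_beq_eq_true e2]; exact hD00
    · rw [Nat.eq_of_beq_eq_true e1, Nat.eq_of_beq_eq_true e2]; exact hD00.swap_left P K hW ha0 hb0 hdec0
    · exact hlink' hs hr ha0 hb0 hl
    · exact (hlink' hr hs ha0 hb0 hl).swap_left P K hW hr hs (hdec' (Or.inl hl))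
    · exact (((hlink' hs hr hb0 ha0 hl).symm P).swap_left P K hW hb0 ha0
        (by simp only [slLink, Bool.and_eq_true] at hl; exact hl.2.1)).symm P
    · exact (((hlink' hr hs hb0 ha0 hl).swap_left P K hW hr hs (hdec' (Or.inr hl))).symm P |>.swap_left P K hW hb0 ha0
        (by simp only [slLink, Bool.and_eq_true] at hl; exact hl.2.1)).symm P
  exact hdet _ _ _ _ (by rw [hz, hp, mul_one, ← mul_assoc, he, one_mul])

/-- Lifted relators for a simply laced system, over any field. -/
theorem exists_family_simply : ∃ Φ : StAll C F E, Φ.proj = P.p := by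
  classical
  let Y : ℕ → F → E := fun k => if h : k < D.nroots then (P.exists_root_fun K hW h).choose else fun _ => 1
  have hY : ∀ {k} (h : k < D.nroots), Y k = (P.exists_root_fun K hW h).choose := fun h => dif_pos h
  have hp : ∀ k < D.nroots, ∀ z, P.p (Y k z) = xg C k z := fun k hk z => by
    rw [hY hk]; exact (P.exists_root_fun K hW hk).choose_spec.1 z
  refine ⟨{ X := Y, proj := P.p, lt := fun _ hr => hr, map := hp,
            add := fun k hk t u => by rw [hY hk]; exact (P.exists_root_fun K hW hk).choose_spec.2.1 t u,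
            comm := ?_ }, rfl⟩
  intro r hr s hs hne hne' t u
  change r < D.nroots at hr
  change s < D.nroots at hs
  have hB : ⁅Y s u, Y r t⁆ = P.B s r u t := P.comm_eq (by rw [hp s hs, P.p_xL]) (by rw [hp r hr, P.p_xL])
  have hp' := hW.pair r hr s hs
  simp only [slPair, Bool.or_eq_true, Bool.and_eq_true, Bool.not_eq_true', Nat.blt_eq,
    C.spec.shape.nroots_eq] at hp'
  rcases hp' with h | ⟨h, -⟩ | ⟨⟨-, hq⟩, hdec, hqr, hqs, -⟩
  · exact absurd (Nat.eq_of_beq_eq_true h) hne'
  · rcases h with h | h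
    · exact absurd (Nat.eq_of_beq_eq_true h) hne
    have hc : slComm T r s = true := by
      simp only [slComm, Bool.or_eq_true, Bool.and_eq_true, Bool.not_eq_true']
      exact Or.inr ⟨Bool.eq_false_iff.2 fun e => hne' (Nat.eq_of_beq_eq_true e), h⟩
    have h1 : ⁅Y s u, Y r t⁆ = 1 := by
      rw [hB]; exact commutatorElement_eq_one_iff_commute.2 (P.slComm_lift K hW hr hs hc t u).symm
    rw [termProd, slEnt_nil hW.width (Nat.eq_of_beq_eq_true h), List.map_nil, List.prod_nil, mul_one]
    exact commutatorElement_eq_one_iff_mul_comm.1 h1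
  · obtain ⟨c, -, he, -, -⟩ := slDec_iff hW.width hdec
    have hk : slEnt T r s % 256 < D.nroots := (tTerms_lt C hr hs _ (by rw [he]; exact List.mem_singleton_self _)).1
    rw [termProd, he, List.map_singleton, List.prod_singleton]
    have hval : P.B s r u t = Y (slEnt T r s % 256) ((c : F) * (-t) ^ 1 * u ^ 1) := by
      rw [hY hk]
      refine (P.exists_root_fun K hW hk).choose_spec.2.2 r hr s hs hne hne' _ he (by simp) t u _ ?_
      have e := comm_xg_terms C K hr hs hne hne' t u
      rw [termProd, he, List.map_singleton, List.prod_singleton] at e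
      rw [← hB, commutatorElement_def]
      simp only [map_mul, map_inv, hp s hs, hp r hr]
      rw [e]
      generalize (c : F) * (-t) ^ 1 * u ^ 1 = w
      calc xg C r t * xg C s u * xg C (slEnt T r s % 256) w * (xg C s u)⁻¹ * (xg C r t)⁻¹
          = xg C r t * (xg C s u * xg C (slEnt T r s % 256) w) * (xg C s u)⁻¹ * (xg C r t)⁻¹ := by group
        _ = xg C r t * xg C (slEnt T r s % 256) w * (xg C r t)⁻¹ := by
          rw [← CentExt.slComm_p (C := C) K hW.width hk hs hqs w u]; group
        _ = _ := by rw [← CentExt.slComm_p (C := C) K hW.width hk hr hqr w t, mul_inv_cancel_right]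
    show Y s u * Y r t = Y r t * Y s u * Y (slEnt T r s % 256) _
    rw [← hval]
    have c1 : Commute (Y s u) (P.B s r u t) := P.B_comm_left K hW hs hr hdec hs (hp s hs u) hqs u t
    have c2 : Commute (Y r t) (P.B s r u t) := P.B_comm_left K hW hs hr hdec hr (hp r hr t) hqr u t
    calc Y s u * Y r t = ⁅Y s u, Y r t⁆ * (Y r t * Y s u) := by rw [commutatorElement_def]; group
      _ = _ := by rw [hB, ((c2.mul_left c1).symm).eq]

end CentExt

end Cfsg.Lib.Chev
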