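import Mathlib
import Cfsg.Agent.Lib.Chev.Steinberg
import Cfsg.Agent.Lib.Chev.WeakClosed

/-!
The signed count of double coset words that carry the roots of a set of fundamental roots to fundamental roots.
-/

set_option autoImplicit false
set_option linter.unusedSectionVars false

namespace Cfsg.Lib.Chev

open Cfsg Cfsg.Lie

/-- A signed sum over an interval of subsets. -/
theorem sum_interval_signs {n : ℕ} (A₀ A : Finset ℕ) (hA : A ⊆ Finset.range n) (h : A₀ ⊆ A) :
    ∑ K ∈ (Finset.range n).powerset, (if A₀ ⊆ K ∧ K ⊆ A then (-1 : ℂ) ^ K.card else 0) =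
      if A = A₀ then (-1 : ℂ) ^ A₀.card else 0 := by
  split_ifs with hAA
  · subst hAA
    rw [Finset.sum_eq_single A]
    · rw [if_pos ⟨subset_rfl, subset_rfl⟩]
    · intro K _ hne
      rw [if_neg]
      exact fun hc => hne (subset_antisymm hc.2 hc.1)
    · exact fun hc => absurd (Finset.mem_powerset.2 hA) hc
  · obtain ⟨a, ha, hna⟩ : ∃ a ∈ A, a ∉ A₀ := Finset.not_subset.1 fun hc => hAA (subset_antisymm hc h)
    refine Finset.sum_involution (fun K _ => symmDiff K {a}) ?_ ?_ ?_ ?_
    · intro K hK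
      by_cases haK : a ∈ K
      · have e : symmDiff K {a} = K.erase a := by
          ext x; simp [Finset.mem_symmDiff]; aesop
        rw [e]
        have hiff : (A₀ ⊆ K.erase a ∧ K.erase a ⊆ A) ↔ (A₀ ⊆ K ∧ K ⊆ A) :=
          ⟨fun ⟨h1, h2⟩ => ⟨h1.trans (Finset.erase_subset a K), fun x hx => (em (x = a)).elim
              (fun hxa => hxa.symm ▸ ha) fun hxa => h2 (Finset.mem_erase.2 ⟨hxa, hx⟩)⟩,
            fun ⟨h1, h2⟩ => ⟨fun x hx => Finset.mem_erase.2 ⟨fun hxa => hna (hxa ▸ hx), h1 hx⟩,
              (Finset.erase_subset a K).trans h2⟩⟩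
        have hc : K.card = (K.erase a).card + 1 := by rw [Finset.card_erase_add_one haK]
        simp only [hiff]
        split_ifs
        · rw [hc, pow_succ]; ring
        · simp
      · have e : symmDiff K {a} = insert a K := by
          ext x; simp [Finset.mem_symmDiff]; aesop
        rw [e]
        have hiff : (A₀ ⊆ insert a K ∧ insert a K ⊆ A) ↔ (A₀ ⊆ K ∧ K ⊆ A) :=
          ⟨fun ⟨h1, h2⟩ => ⟨fun x hx => (Finset.mem_insert.1 (h1 hx)).resolve_left fun hxa => hna (hxa ▸ hx),
              (Finset.subset_insert a K).trans h2⟩,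
            fun ⟨h1, h2⟩ => ⟨h1.trans (Finset.subset_insert a K), Finset.insert_subset ha h2⟩⟩
        have hc : (insert a K).card = K.card + 1 := Finset.card_insert_of_notMem haK
        simp only [hiff]
        split_ifs
        · rw [hc, pow_succ]; ring
        · simp
    · intro K _ _ he
      have h1 : a ∈ symmDiff K {a} ↔ a ∈ K := by rw [he]
      simp [Finset.mem_symmDiff] at h1
    · intro K hK
      rw [Finset.mem_powerset] at hK ⊢
      intro x hx
      rcases Finset.mem_symmDiff.1 hx with hx | hx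
      · exact hK hx.1
      · exact hA (by rw [Finset.mem_singleton.1 hx.1]; exact ha)
    · intro K _
      exact symmDiff_symmDiff_cancel_right {a} K

variable {D : ChevalleyDatum} {T : Tbl} (C : Cert D T) (K : FullCert D T)
include C K

/-- A fundamental root of `K'` sent into the span of `J` by a word minimal on both sides goes to a fundamental root. -/
theorem fund_image {J K' : Set ℕ} {v : List ℕ} (hv : IsWord D v) (hR : RMin D T K' v)
    (hL : RMin D T J v.reverse) {k : ℕ} (hk : k < D.rank) (hkK : k ∈ K')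
    (hin : D.InRootSub J (wperm T v (T.simp' k))) :
    ∃ j ∈ J, j < D.rank ∧ wperm T v (T.simp' k) = T.simp' j := by
  classical
  have hp := C.spec.simp_lt k hk
  have hvk := hR k hkK hk
  have hvklt := wperm_lt C hv hp
  have hsum : ∀ m < D.rank, T.coroot (T.simp' k) m =
      ∑ i ∈ Finset.range D.rank, T.coroot (wperm T v (T.simp' k)) i *
        T.coroot (wperm T v.reverse (T.simp' i)) m := fun m hm => by
    rw [← coroot_wperm C hv.reverse hvklt m hm, wperm_reverse C hv hp]
  obtain ⟨j, hj, hjne⟩ := coroot_exists_ne C hvklt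
  have hjJ : j ∈ J := by
    by_contra h
    exact hjne (((inRootSub_iff C).1 hin).2 j hj h)
  refine ⟨j, hjJ, hj, inRootSub_singleton C K hj ((inRootSub_iff C).2 ⟨hvklt, fun i hi hij => ?_⟩) hvk⟩
  have hij' : i ≠ j := hij
  by_contra hine
  have htot : (1 : ℤ) = ∑ i ∈ Finset.range D.rank, T.coroot (wperm T v (T.simp' k)) i *
      ∑ m ∈ Finset.range D.rank, T.coroot (wperm T v.reverse (T.simp' i)) m := by
    have : ∑ m ∈ Finset.range D.rank, T.coroot (T.simp' k) m = 1 := by
      rw [Finset.sum_eq_single k]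
      · rw [C.spec.cor_simple k hk k hk, if_pos rfl]
      · intro m hm hmk
        rw [C.spec.cor_simple k hk m (Finset.mem_range.1 hm), if_neg]
        exact hmk
      · exact fun h => absurd (Finset.mem_range.2 hk) h
    rw [← this, Finset.sum_congr rfl (fun m hm => hsum m (Finset.mem_range.1 hm)), Finset.sum_comm]
    exact Finset.sum_congr rfl fun i _ => (Finset.mul_sum _ _ _).symm
  have hge : ∀ i' < D.rank, T.coroot (wperm T v (T.simp' k)) i' ≠ 0 →
      1 ≤ T.coroot (wperm T v (T.simp' k)) i' *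
        ∑ m ∈ Finset.range D.rank, T.coroot (wperm T v.reverse (T.simp' i')) m := by
    intro i' hi' hne
    have hi'J : i' ∈ J := by
      by_contra h
      exact hne (((inRootSub_iff C).1 hin).2 i' hi' h)
    have h1 : 1 ≤ T.coroot (wperm T v (T.simp' k)) i' := by
      have := coroot_nonneg C hvklt hvk hi'
      omega
    have hlt := wperm_lt C hv.reverse (C.spec.simp_lt i' hi')
    obtain ⟨m, hm, hmne⟩ := coroot_exists_ne C hlt
    have h2 : 1 ≤ ∑ m ∈ Finset.range D.rank, T.coroot (wperm T v.reverse (T.simp' i')) m := by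
      refine le_trans ?_ (Finset.single_le_sum (fun m hm => coroot_nonneg C hlt (hL i' hi'J hi')
        (Finset.mem_range.1 hm)) (Finset.mem_range.2 hm))
      have := coroot_nonneg C hlt (hL i' hi'J hi') hm
      omega
    nlinarith
  have h2 : (2 : ℤ) ≤ 1 := by
    conv_rhs => rw [htot]
    refine le_trans ?_ (Finset.sum_le_sum_of_subset_of_nonneg (s := {i, j})
      (Finset.insert_subset (Finset.mem_range.2 hi) (Finset.singleton_subset_iff.2 (Finset.mem_range.2 hj)))
      fun i' hi' _ => ?_)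
    · rw [Finset.sum_pair hij']
      have := hge i hi hine
      have := hge j hj hjne
      omega
    · by_cases h0 : T.coroot (wperm T v (T.simp' k)) i' = 0
      · rw [h0, zero_mul]
      · have := hge i' (Finset.mem_range.1 hi') h0; omega
  omega

/-- The image of a root of `J` under the inverse of a word, inside the span of `K'`, is fundamental. -/
theorem fund_preimage {J K' : Set ℕ} {v : List ℕ} (hv : IsWord D v) (hR : RMin D T K' v)
    (hL : RMin D T J v.reverse) {j : ℕ} (hj : j < D.rank) (hjJ : j ∈ J)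
    (hin : D.InRootSub K' (wperm T v.reverse (T.simp' j))) :
    ∃ k ∈ K', k < D.rank ∧ wperm T v.reverse (T.simp' j) = T.simp' k ∧ wperm T v (T.simp' k) = T.simp' j := by
  have hR' : RMin D T K' v.reverse.reverse := by rw [List.reverse_reverse]; exact hR
  obtain ⟨k, hkK, hk, e⟩ := fund_image C K hv.reverse hL hR' hj hjJ hin
  refine ⟨k, hkK, hk, e, ?_⟩
  rw [← e, wperm_rev C hv (C.spec.simp_lt j hj)]

/-- The inverse word sends the fundamental roots of `J` to fundamental roots, and the others kept positive are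
exactly these images. -/
def IsOpp (D : ChevalleyDatum) (T : Tbl) (J : Set ℕ) (v : List ℕ) : Prop :=
  (∀ j ∈ J, j < D.rank → ∃ k, k < D.rank ∧ wperm T v.reverse (T.simp' j) = T.simp' k) ∧
    ∀ k < D.rank, D.nroots ≤ 2 * wperm T v (T.simp' k) → ∃ j ∈ J, j < D.rank ∧ wperm T v (T.simp' k) = T.simp' j

theorem IsOpp.rmin {J : Set ℕ} {v : List ℕ} (h : IsOpp D T J v) : RMin D T J v.reverse := fun j hj hjr => by
  obtain ⟨k, hk, e⟩ := h.1 j hj hjr
  rw [e]; exact K.simple_pos hk

theorem IsOpp.inRootSub_of_pos {J : Set ℕ} {v : List ℕ} (h : IsOpp D T J v) (hv : IsWord D v) {s : ℕ}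
    (hs : s < D.nroots) (hp : D.nroots ≤ 2 * s) (hpos : D.nroots ≤ 2 * wperm T v s) :
    D.InRootSub J (wperm T v s) := by
  have hlt := wperm_lt C hv hs
  refine (inRootSub_iff C).2 ⟨hlt, fun m hm hmJ => le_antisymm ?_ (coroot_nonneg C hlt hpos hm)⟩
  rw [coroot_wperm C hv hs m hm]
  refine Finset.sum_nonpos fun k hk => ?_
  rw [Finset.mem_range] at hk
  refine mul_nonpos_of_nonneg_of_nonpos (coroot_nonneg C hs hp hk) ?_
  have hklt := wperm_lt C hv (C.spec.simp_lt k hk)
  by_cases hk' : D.nroots ≤ 2 * wperm T v (T.simp' k)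
  · obtain ⟨j, hjJ, hjr, e⟩ := h.2 k hk hk'
    rw [e, C.spec.cor_simple j hjr m hm, if_neg (by rintro rfl; exact hmJ hjJ)]
  · have hn := coroot_nonneg C (C.spec.neg_lt _ hklt) ((K.neg_pos_iff hklt).2 (not_le.1 hk')) hm
    rw [C.spec.cor_neg _ hklt m hm] at hn
    omega

theorem IsOpp.unique {J : Set ℕ} {v v' : List ℕ} (hv : IsWord D v) (hv' : IsWord D v')
    (h : IsOpp D T J v) (h' : IsOpp D T J v') : SamePerm D T v v' := by
  have hu : SamePerm D T (v'.reverse ++ v) [] := samePerm_nil C K (hv'.reverse.append hv) fun k hk => by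
    rw [wperm_append]
    have hp := C.spec.simp_lt k hk
    have hlt := wperm_lt C hv hp
    by_cases hk' : D.nroots ≤ 2 * wperm T v (T.simp' k)
    · obtain ⟨j, hjJ, hjr, e⟩ := h.2 k hk hk'
      rw [e]
      exact h'.rmin C K j hjJ hjr
    · by_contra hneg
      push Not at hneg hk'
      set γ := wperm T v (T.simp' k) with hγ
      have hlt' := wperm_lt C hv'.reverse hlt
      have hpos : D.nroots ≤ 2 * wperm T v'.reverse (T.neg γ) := by
        rw [wperm_neg C hv'.reverse hlt]; exact (K.neg_pos_iff hlt').2 hneg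
      have hin := IsOpp.inRootSub_of_pos C K h' hv' (wperm_lt C hv'.reverse (C.spec.neg_lt _ hlt)) hpos (by
        rw [wperm_rev C hv' (C.spec.neg_lt _ hlt)]; exact (K.neg_pos_iff hlt).2 hk')
      rw [wperm_rev C hv' (C.spec.neg_lt _ hlt)] at hin
      have hin' := inRootSub_neg C hin
      rw [C.spec.neg_neg _ hlt] at hin'
      have := rmin_neg C K hv.reverse (h.rmin C K) hin' hk'
      rw [hγ, wperm_reverse C hv hp] at this
      have := K.simple_pos hk
      omega
  intro s hs
  have := hu s hs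
  rw [wperm_append] at this
  rw [← wperm_rev C hv' (wperm_lt C hv hs), this]; rfl

theorem exists_isOpp (J : Set ℕ) : ∃ v, IsWord D v ∧ IsOpp D T J v := by
  classical
  obtain ⟨l, hl, hneg⟩ := exists_long C K
  obtain ⟨a, ha, haneg⟩ := exists_long_inW C K J
  obtain ⟨v, hvdef⟩ : ∃ v, v = a ++ l := ⟨_, rfl⟩
  have hv : IsWord D v := hvdef ▸ ha.1.append hl
  let Asc : Set ℕ := {k | D.nroots ≤ 2 * wperm T v (T.simp' k)}
  have hRA : RMin D T Asc v := fun k hk _ => hk
  have hLJ : RMin D T J v.reverse := by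
    intro j hj hjr
    rw [hvdef, List.reverse_append, wperm_append]
    have hp := C.spec.simp_lt j hjr
    have hin := inW_inRootSub C ha.reverse (inRootSub_simple C hjr hj)
    have hlt := hin.1
    have hn : 2 * wperm T a.reverse (T.simp' j) < D.nroots := by
      by_contra hc
      have := haneg _ hin (le_of_not_gt hc)
      rw [wperm_rev C ha.1 hp] at this
      have := K.simple_pos hjr
      omega
    have h2 := long_inv C K hl hneg (C.spec.neg_lt _ hlt) ((K.neg_pos_iff hlt).2 hn)
    rw [wperm_neg C hl.reverse hlt] at h2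
    by_contra hc
    have := (K.neg_pos_iff (wperm_lt C hl.reverse hlt)).2 (not_le.1 hc)
    omega
  have hout : ∀ k < D.rank, ¬ D.InRootSub J (wperm T l (T.simp' k)) →
      ¬ D.InRootSub J (wperm T v (T.simp' k)) ∧ 2 * wperm T v (T.simp' k) < D.nroots := by
    intro k hk hn
    have hlt := wperm_lt C hl (C.spec.simp_lt k hk)
    rw [hvdef, wperm_append]
    refine ⟨(inW_outside C K ha hlt hn).1, ?_⟩
    have hγ := hneg _ (C.spec.simp_lt k hk) (K.simple_pos hk)
    have hn' : ¬ D.InRootSub J (T.neg (wperm T l (T.simp' k))) := fun hc => hn (by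
      have := inRootSub_neg C hc
      rwa [C.spec.neg_neg _ hlt] at this)
    have h2 := (inW_outside C K ha (C.spec.neg_lt _ hlt) hn').2 ((K.neg_pos_iff hlt).2 hγ)
    rw [wperm_neg C ha.1 hlt] at h2
    exact (K.neg_pos_iff (wperm_lt C ha.1 hlt)).1 h2
  have hinJ : ∀ k < D.rank, D.nroots ≤ 2 * wperm T v (T.simp' k) → D.InRootSub J (wperm T v (T.simp' k)) := by
    intro k hk hpos
    have hin : D.InRootSub J (wperm T l (T.simp' k)) := by
      by_contra hc
      have := (hout k hk hc).2
      omega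
    rw [hvdef, wperm_append]
    exact inW_inRootSub C ha hin
  refine ⟨v, hv, fun j hj hjr => ?_, fun k hk hpos => fund_image C K hv hRA hLJ hk hpos (hinJ k hk hpos)⟩
  obtain ⟨β, hβdef⟩ : ∃ β, β = wperm T v.reverse (T.simp' j) := ⟨_, rfl⟩
  have hp := C.spec.simp_lt j hjr
  have hβlt : β < D.nroots := hβdef ▸ wperm_lt C hv.reverse hp
  have hβpos : D.nroots ≤ 2 * β := hβdef ▸ hLJ j hj hjr
  have hin : D.InRootSub Asc β := by
    refine (inRootSub_iff C).2 ⟨hβlt, fun k hk hkA => ?_⟩
    have hkneg : 2 * wperm T v (T.simp' k) < D.nroots := not_le.1 hkA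
    have hklt := wperm_lt C hv (C.spec.simp_lt k hk)
    have hnJ : ¬ D.InRootSub J (wperm T v (T.simp' k)) := by
      intro hc
      have := rmin_neg C K hv.reverse hLJ hc hkneg
      rw [wperm_reverse C hv (C.spec.simp_lt k hk)] at this
      have := K.simple_pos hk
      omega
    obtain ⟨m, hm, hmJ, hmne⟩ : ∃ m < D.rank, m ∉ J ∧ T.coroot (wperm T v (T.simp' k)) m ≠ 0 := by
      by_contra hc
      push Not at hc
      exact hnJ ((inRootSub_iff C).2 ⟨hklt, hc⟩)
    have hsum := coroot_wperm C hv hβlt m hm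
    rw [hβdef, wperm_rev C hv hp, C.spec.cor_simple j hjr m hm, if_neg (by rintro rfl; exact hmJ hj), ← hβdef] at hsum
    have hterm : ∀ i ∈ Finset.range D.rank, T.coroot β i * T.coroot (wperm T v (T.simp' i)) m ≤ 0 := by
      intro i hi
      rw [Finset.mem_range] at hi
      refine mul_nonpos_of_nonneg_of_nonpos (coroot_nonneg C hβlt hβpos hi) ?_
      have hilt := wperm_lt C hv (C.spec.simp_lt i hi)
      by_cases hi' : D.nroots ≤ 2 * wperm T v (T.simp' i)
      · exact (((inRootSub_iff C).1 (hinJ i hi hi')).2 m hm hmJ).le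
      · have hn := coroot_nonneg C (C.spec.neg_lt _ hilt) ((K.neg_pos_iff hilt).2 (not_le.1 hi')) hm
        rw [C.spec.cor_neg _ hilt m hm] at hn
        omega
    have h0 := (Finset.sum_eq_zero_iff_of_nonpos hterm).1 hsum.symm k (Finset.mem_range.2 hk)
    exact (mul_eq_zero.1 h0).resolve_right hmne
  obtain ⟨k, -, hk, e, -⟩ := fund_preimage C K hv hRA hLJ hjr hj (hβdef ▸ hin)
  exact ⟨k, hk, e⟩

/-- The words counted at `K'`: minimal on both sides, carrying `J` into the span of `K'`. -/
def IsStable (D : ChevalleyDatum) (T : Tbl) (J K' : Set ℕ) (v : List ℕ) : Prop :=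
  RMin D T K' v ∧ RMin D T J v.reverse ∧ ∀ j ∈ J, j < D.rank → D.InRootSub K' (wperm T v.reverse (T.simp' j))

theorem signed_count_isStable {J : Finset ℕ} (hJ : J ⊆ Finset.range D.rank) :
    ∃ ε : ℤ, (ε = 1 ∨ ε = -1) ∧
      ∑ K' ∈ (Finset.range D.rank).powerset, (-1 : ℂ) ^ K'.card *
        (Nat.card {p : WElt D T // IsStable D T (↑J : Set ℕ) (↑K' : Set ℕ) p.word} : ℂ) = ε := by
  classical
  haveI := WElt.finite C
  letI := Fintype.ofFinite (WElt D T)
  obtain ⟨v₀, hv₀, hopp₀⟩ := exists_isOpp C K (↑J : Set ℕ)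
  obtain ⟨p₀, hp₀⟩ := WElt.exists_of_word (T := T) hv₀
  let im : WElt D T → Finset ℕ := fun p =>
    (Finset.range D.rank).filter fun k => ∃ j ∈ J, wperm T p.word (T.simp' k) = T.simp' j
  let good : WElt D T → Prop := fun p =>
    ∀ j ∈ J, ∃ k, k < D.rank ∧ wperm T p.word.reverse (T.simp' j) = T.simp' k
  have himA : ∀ p, im p ⊆ ascSet D T p.word := fun p k hk => by
    obtain ⟨hk, j, hj, e⟩ := Finset.mem_filter.1 hk
    refine Finset.mem_filter.2 ⟨hk, ?_⟩
    rw [e]; exact K.simple_pos (Finset.mem_range.1 (hJ hj))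
  have hiff : ∀ p, ∀ K' ∈ (Finset.range D.rank).powerset,
      IsStable D T (↑J : Set ℕ) (↑K' : Set ℕ) p.word ↔ good p ∧ im p ⊆ K' ∧ K' ⊆ ascSet D T p.word := by
    intro p K' hK'
    rw [Finset.mem_powerset] at hK'
    constructor
    · rintro ⟨hR, hL, hin⟩
      have hf := fun j (hj : j ∈ J) => fund_preimage C K p.isWord hR hL (Finset.mem_range.1 (hJ hj))
        (Finset.mem_coe.2 hj) (hin j (Finset.mem_coe.2 hj) (Finset.mem_range.1 (hJ hj)))
      refine ⟨fun j hj => ?_, fun k hk => ?_, (subset_ascSet hK').2 hR⟩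
      · obtain ⟨k, -, hk, e, -⟩ := hf j hj; exact ⟨k, hk, e⟩
      · obtain ⟨hk, j, hj, e⟩ := Finset.mem_filter.1 hk
        obtain ⟨k', hk', hk'r, -, e'⟩ := hf j hj
        have := wperm_inj C p.isWord (C.spec.simp_lt k (Finset.mem_range.1 hk)) (C.spec.simp_lt k' hk'r)
          (e.trans e'.symm)
        by_contra hne
        have hkk : k ≠ k' := fun hc => hne (hc ▸ Finset.mem_coe.1 hk')
        have h1 := C.spec.cor_simple k (Finset.mem_range.1 hk) k (Finset.mem_range.1 hk)
        rw [this, C.spec.cor_simple k' hk'r k (Finset.mem_range.1 hk), if_pos rfl, if_neg hkk] at h1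
        exact zero_ne_one h1
    · rintro ⟨hg, him, hA⟩
      refine ⟨(subset_ascSet hK').1 hA, fun j hj hjr => ?_, fun j hj hjr => ?_⟩
      · obtain ⟨k, hk, e⟩ := hg j (Finset.mem_coe.1 hj)
        rw [e]; exact K.simple_pos hk
      · obtain ⟨k, hk, e⟩ := hg j (Finset.mem_coe.1 hj)
        rw [e]
        refine inRootSub_simple C hk (Finset.mem_coe.2 (him (Finset.mem_filter.2 ⟨Finset.mem_range.2 hk, j,
          Finset.mem_coe.1 hj, ?_⟩)))
        rw [← e, wperm_rev C p.isWord (C.spec.simp_lt j hjr)]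
  have hopp : ∀ p : WElt D T, good p ∧ ascSet D T p.word = im p ↔ p = p₀ := by
    intro p
    constructor
    · rintro ⟨hg, he⟩
      refine WElt.ext_word ((IsOpp.unique C K p.isWord hv₀ ⟨fun j hj _ => hg j (Finset.mem_coe.1 hj), ?_⟩
        hopp₀).trans hp₀.symm)
      intro k hk hpos
      have hkA : k ∈ ascSet D T p.word := Finset.mem_filter.2 ⟨Finset.mem_range.2 hk, hpos⟩
      rw [he] at hkA
      obtain ⟨-, j, hj, e⟩ := Finset.mem_filter.1 hkA
      exact ⟨j, Finset.mem_coe.2 hj, Finset.mem_range.1 (hJ hj), e⟩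
    · rintro rfl
      refine ⟨fun j hj => ?_, subset_antisymm (fun k hk => ?_) (himA p)⟩
      · obtain ⟨k, hk, e⟩ := hopp₀.1 j (Finset.mem_coe.2 hj) (Finset.mem_range.1 (hJ hj))
        refine ⟨k, hk, ?_⟩
        rw [samePerm_reverse C p.isWord hv₀ hp₀ _ (C.spec.simp_lt j (Finset.mem_range.1 (hJ hj))), e]
      · obtain ⟨hk, hpos⟩ := Finset.mem_filter.1 hk
        have he := hp₀ _ (C.spec.simp_lt k (Finset.mem_range.1 hk))
        rw [he] at hpos
        obtain ⟨j, hj, -, e⟩ := hopp₀.2 k (Finset.mem_range.1 hk) hpos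
        exact Finset.mem_filter.2 ⟨hk, j, Finset.mem_coe.1 hj, he.trans e⟩
  refine ⟨(-1) ^ (im p₀).card, neg_one_pow_eq_or ℤ _, ?_⟩
  calc ∑ K' ∈ (Finset.range D.rank).powerset, (-1 : ℂ) ^ K'.card *
        (Nat.card {p : WElt D T // IsStable D T (↑J : Set ℕ) (↑K' : Set ℕ) p.word} : ℂ)
      = ∑ K' ∈ (Finset.range D.rank).powerset, ∑ p : WElt D T,
          if good p ∧ im p ⊆ K' ∧ K' ⊆ ascSet D T p.word then (-1 : ℂ) ^ K'.card else 0 := by
        refine Finset.sum_congr rfl fun K' hK' => ?_
        rw [Nat.card_eq_fintype_card, Fintype.card_subtype, Finset.filter_congr fun p _ => hiff p K' hK',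
          ← Finset.sum_filter, Finset.sum_const, nsmul_eq_mul, mul_comm]
    _ = ∑ p : WElt D T, if good p ∧ ascSet D T p.word = im p then (-1 : ℂ) ^ (im p).card else 0 := by
        rw [Finset.sum_comm]
        refine Finset.sum_congr rfl fun p _ => ?_
        by_cases hg : good p
        · simp only [hg, true_and]
          exact sum_interval_signs (im p) (ascSet D T p.word) (Finset.filter_subset _ _) (himA p)
        · simp [hg]
    _ = ((((-1) ^ (im p₀).card : ℤ)) : ℂ) := by
        simp only [hopp]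
        rw [Finset.sum_ite_eq' Finset.univ p₀ (fun p => (-1 : ℂ) ^ (im p).card), if_pos (Finset.mem_univ _)]
        push_cast
        rfl

end Cfsg.Lib.Chev
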