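import Mathlib
import Cfsg.Agent.Lib.Coprime.Conjugacy
import Cfsg.Agent.Lib.Char.Central

/-!
Sums of permutation characters and of vanishing class functions over a coset of a normalized `p`-subgroup,
and the divisibility of the values of a character of full defect degree.
-/

set_option autoImplicit false
set_option linter.unusedSectionVars false

namespace Cfsg.Lib.Chev

open Cfsg MulAction Cfsg.Lib.Char

section Coset

variable {G : Type*} [Group G] [Finite G]

/-- Counting the fixed points over a coset of a subgroup normalized by an element. -/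
theorem sum_fixed_coset {X : Type*} [MulAction G X] [Finite X] (U : Subgroup G) [Fintype ↥U] {g : G}
    (hg' : ∀ u ∈ U, g⁻¹ * u * g ∈ U) {ι : Type*} [Finite ι] (x₀ : ι → X)
    (hinj : ∀ i i', x₀ i' ∈ orbit ↥U (x₀ i) → i = i')
    (hstab : ∀ i, g⁻¹ • x₀ i ∈ orbit ↥U (x₀ i))
    (hall : ∀ (x : X) (u : ↥U), (g * (u : G)) • x = x → ∃ i, x ∈ orbit ↥U (x₀ i)) :
    ∑ u : ↥U, Nat.card (fixedBy X (g * (u : G))) = Nat.card ι * Nat.card ↥U := by
  classical
  letI := Fintype.ofFinite X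
  letI := Fintype.ofFinite ι
  have hcnt : ∀ x : X, (∃ i, x ∈ orbit ↥U (x₀ i)) →
      (Finset.univ.filter fun u : ↥U => (g * (u : G)) • x = x).card * Nat.card (orbit ↥U x) = Nat.card ↥U := by
    rintro x ⟨i, hx⟩
    obtain ⟨w, rfl⟩ := hx
    obtain ⟨w', hw'⟩ := hstab i
    obtain ⟨u₁, hu₁⟩ : ∃ u₁ : ↥U, u₁ • (w • x₀ i) = g⁻¹ • (w • x₀ i) := by
      refine ⟨⟨g⁻¹ * w * g, hg' _ w.2⟩ * w' * w⁻¹, ?_⟩
      simp only at hw'
      rw [mul_smul, inv_smul_smul, mul_smul, hw']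
      show (g⁻¹ * (w : G) * g) • g⁻¹ • x₀ i = g⁻¹ • (w : G) • x₀ i
      rw [smul_smul, smul_smul]
      congr 1
      group
    have e1 : (Finset.univ.filter fun u : ↥U => (g * (u : G)) • (w • x₀ i) = w • x₀ i).card =
        Nat.card (stabilizer ↥U (w • x₀ i)) := by
      rw [← Fintype.card_subtype, ← Nat.card_eq_fintype_card]
      have key : ∀ u : ↥U, (g * (u : G)) • (w • x₀ i) = w • x₀ i ↔ u • (w • x₀ i) = g⁻¹ • (w • x₀ i) := fun u => by
        rw [mul_smul, eq_inv_smul_iff]; rfl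
      refine Nat.card_congr ⟨fun u => ⟨u₁⁻¹ * u.1, ?_⟩, fun s => ⟨u₁ * s.1, ?_⟩, ?_, ?_⟩
      · rw [mem_stabilizer_iff, mul_smul, (key u.1).1 u.2, ← hu₁, inv_smul_smul]
      · rw [key, mul_smul, mem_stabilizer_iff.1 s.2, hu₁]
      · intro u; ext; simp
      · intro s; ext; simp
    rw [e1, mul_comm, ← Nat.card_prod]
    exact Nat.card_congr (orbitProdStabilizerEquivGroup ↥U (w • x₀ i))
  have hsum : ∀ i, ∑ x ∈ Finset.univ.filter (fun x : X => x ∈ orbit ↥U (x₀ i)),
      (Finset.univ.filter fun u : ↥U => (g * (u : G)) • x = x).card = Nat.card ↥U := by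
    intro i
    have hc : ∀ x ∈ Finset.univ.filter (fun x : X => x ∈ orbit ↥U (x₀ i)),
        (Finset.univ.filter fun u : ↥U => (g * (u : G)) • x = x).card * Nat.card (orbit ↥U (x₀ i)) = Nat.card ↥U := by
      intro x hx
      have hx' := (Finset.mem_filter.1 hx).2
      have h := hcnt x ⟨i, hx'⟩
      rwa [orbit_eq_iff.2 hx'] at h
    have hpos : 0 < Nat.card (orbit ↥U (x₀ i)) := by
      haveI : Nonempty (orbit ↥U (x₀ i)) := ⟨⟨x₀ i, mem_orbit_self _⟩⟩
      exact Nat.card_pos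
    refine Nat.eq_of_mul_eq_mul_right hpos ?_
    rw [Finset.sum_mul, Finset.sum_congr rfl hc, Finset.sum_const, smul_eq_mul, ← Fintype.card_subtype,
      ← Nat.card_eq_fintype_card, mul_comm]
  have hswap : ∑ u : ↥U, Nat.card (fixedBy X (g * (u : G))) =
      ∑ x : X, (Finset.univ.filter fun u : ↥U => (g * (u : G)) • x = x).card := by
    simp only [Finset.card_filter]
    rw [Finset.sum_comm]
    refine Finset.sum_congr rfl fun u _ => ?_
    rw [← Finset.card_filter, ← Fintype.card_subtype, ← Nat.card_eq_fintype_card]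
    exact Nat.card_congr (Equiv.subtypeEquivRight fun x => Iff.rfl)
  rw [hswap, ← Finset.sum_subset (s₁ := Finset.univ.filter fun x : X => ∃ i, x ∈ orbit ↥U (x₀ i))
    (Finset.subset_univ _) (fun x _ hx => ?_)]
  · rw [show (Finset.univ.filter fun x : X => ∃ i, x ∈ orbit ↥U (x₀ i)) =
      (Finset.univ : Finset ι).biUnion fun i => Finset.univ.filter fun x : X => x ∈ orbit ↥U (x₀ i) by
        ext x; simp]
    rw [Finset.sum_biUnion, Finset.sum_congr rfl fun i _ => hsum i, Finset.sum_const, smul_eq_mul,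
      Finset.card_univ, ← Nat.card_eq_fintype_card]
    intro i _ i' _ hne
    refine Finset.disjoint_left.2 fun x hx hx' => hne (hinj i i' ?_)
    have h1 := orbit_eq_iff.2 (Finset.mem_filter.1 hx).2
    have h2 := orbit_eq_iff.2 (Finset.mem_filter.1 hx').2
    exact orbit_eq_iff.1 (h2.symm.trans h1)
  · rw [Finset.card_eq_zero, Finset.filter_eq_empty_iff]
    exact fun u _ hu => hx (Finset.mem_filter.2 ⟨Finset.mem_univ _, hall x u hu⟩)

theorem exists_pow_coset {U : Subgroup G} {g : G} (hg' : ∀ u ∈ U, g⁻¹ * u * g ∈ U) {u : G} (hu : u ∈ U) :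
    ∀ n : ℕ, ∃ u' ∈ U, (g * u) ^ n = g ^ n * u'
  | 0 => ⟨1, one_mem _, by simp⟩
  | n + 1 => by
    obtain ⟨u', hu', e⟩ := exists_pow_coset hg' hu n
    refine ⟨g⁻¹ * u' * g * u, mul_mem (hg' _ hu') hu, ?_⟩
    rw [pow_succ, e, pow_succ]
    group

/-- A class function vanishing on `p`-singular elements, summed over a coset of a normalized `p`-subgroup. -/
theorem sum_vanishing_coset (p : ℕ) [Fact p.Prime] (U : Subgroup G) [Fintype ↥U] (hU : IsPGroup p ↥U) {g : G}
    (hgn : g ∈ Subgroup.normalizer (U : Set G)) (hg : ¬ p ∣ orderOf g) {χ : G → ℂ}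
    (hcl : ∀ a x, χ (x * a * x⁻¹) = χ a) (hvan : ∀ a, p ∣ orderOf a → χ a = 0) :
    (Nat.card ↥(U ⊓ Subgroup.centralizer ({g} : Set G)) : ℂ) * ∑ u : ↥U, χ (g * (u : G)) =
      (Nat.card ↥U : ℂ) * χ g := by
  classical
  have hg' : ∀ u ∈ U, g⁻¹ * u * g ∈ U := fun u hu => by
    have := (Subgroup.mem_normalizer_iff.1 (inv_mem hgn) u).1 hu
    simpa using this
  let φ : ↥U → ↥U := fun w => ⟨g⁻¹ * w * g * (w : G)⁻¹, mul_mem (hg' _ w.2) (inv_mem w.2)⟩
  have hφ : ∀ w : ↥U, χ (g * (φ w : G)) = χ g := fun w => by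
    rw [show g * (φ w : G) = (w : G) * g * (w : G)⁻¹ by simp only [φ]; group]
    exact hcl g w
  have hout : ∀ u : ↥U, u ∉ Finset.univ.image φ → χ (g * (u : G)) = 0 := by
    intro u hu
    refine hvan _ (by_contra fun hreg => hu ?_)
    have hp : p.Prime := Fact.out
    obtain ⟨a, ha⟩ := IsPGroup.iff_card.1 hU
    have htriv : ∀ z : G, ¬ p ∣ orderOf z → ∀ k : ℕ, z ^ k ∈ U → z ^ k = 1 := by
      intro z hz k hk
      obtain ⟨j, hj⟩ := IsPGroup.iff_orderOf.1 hU ⟨z ^ k, hk⟩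
      rw [Subgroup.orderOf_mk] at hj
      rcases Nat.eq_zero_or_pos j with rfl | hj0
      · exact orderOf_eq_one_iff.1 (by simpa using hj)
      · exact absurd ((dvd_pow_self p hj0.ne').trans (hj ▸ orderOf_pow_dvd k)) hz
    have hord : orderOf (g * (u : G)) = orderOf g := by
      refine Nat.dvd_antisymm (orderOf_dvd_of_pow_eq_one ?_) (orderOf_dvd_of_pow_eq_one ?_)
      · obtain ⟨u', hu', e⟩ := exists_pow_coset hg' u.2 (orderOf g)
        rw [pow_orderOf_eq_one, one_mul] at e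
        exact htriv _ hreg _ (e ▸ hu')
      · obtain ⟨u', hu', e⟩ := exists_pow_coset hg' u.2 (orderOf (g * (u : G)))
        rw [pow_orderOf_eq_one] at e
        exact htriv _ hg _ ((eq_inv_of_mul_eq_one_left e.symm) ▸ inv_mem hu')
    have hAN : Subgroup.zpowers g ≤ Subgroup.normalizer (U : Set G) := Subgroup.zpowers_le.2 hgn
    have hcop : (Nat.card ↥(Subgroup.zpowers g)).Coprime (Nat.card ↥U) := by
      rw [Nat.card_zpowers, ha]
      exact ((hp.coprime_iff_not_dvd.2 hg).symm).pow_right a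
    have hsup : Subgroup.zpowers (g * (u : G)) ≤ U ⊔ Subgroup.zpowers g := Subgroup.zpowers_le.2
      (mul_mem (Subgroup.mem_sup_right (Subgroup.mem_zpowers g)) (Subgroup.mem_sup_left u.2))
    haveI : Group.IsNilpotent ↥U := hU.isNilpotent
    obtain ⟨n, hn, he⟩ := Cfsg.Lib.Coprime.exists_conj_of_coprime U (Subgroup.zpowers g)
      (Subgroup.zpowers (g * (u : G))) hAN hcop (Or.inr inferInstance) hsup
      (by rw [Nat.card_zpowers, Nat.card_zpowers, hord])
    have hm : g * (u : G) ∈ (Subgroup.zpowers g).map (MulAut.conj n).toMonoidHom := he ▸ Subgroup.mem_zpowers _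
    obtain ⟨b, hb, e⟩ := hm
    simp only [MulEquiv.coe_toMonoidHom, MulAut.conj_apply] at e
    have hbU : g⁻¹ * b ∈ U := by
      have h1 : b * g⁻¹ = n⁻¹ * (g * ((u : G) * n) * g⁻¹) := by rw [← mul_assoc g (u : G) n, ← e]; group
      have h2 : b * g⁻¹ ∈ U := h1 ▸ mul_mem (inv_mem hn) ((Subgroup.mem_normalizer_iff.1 hgn _).1 (mul_mem u.2 hn))
      rw [show g⁻¹ * b = g⁻¹ * (b * g⁻¹) * g by group]
      exact hg' _ h2
    obtain ⟨z, hz⟩ := Subgroup.mem_zpowers_iff.1 hb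
    have hb1 : g⁻¹ * b = 1 := by
      have hm' : g⁻¹ * b ∈ Subgroup.zpowers g := mul_mem (inv_mem (Subgroup.mem_zpowers g)) hb
      exact Subgroup.disjoint_def.1 (Subgroup.disjoint_of_coprime_natCard hcop.symm) hbU hm'
    have hbg : b = g := (inv_mul_eq_one.1 hb1).symm
    rw [hbg] at e
    refine Finset.mem_image.2 ⟨⟨n, hn⟩, Finset.mem_univ _, Subtype.ext ?_⟩
    show g⁻¹ * n * g * n⁻¹ = (u : G)
    rw [show g⁻¹ * n * g * n⁻¹ = g⁻¹ * (n * g * n⁻¹) by group, e, inv_mul_cancel_left]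
  have hfib : ∀ u ∈ Finset.univ.image φ,
      (Finset.univ.filter fun w => φ w = u).card = Nat.card ↥(U ⊓ Subgroup.centralizer ({g} : Set G)) := by
    intro u hu
    obtain ⟨w₀, -, rfl⟩ := Finset.mem_image.1 hu
    rw [← Fintype.card_subtype, ← Nat.card_eq_fintype_card]
    refine Nat.card_congr ⟨fun w => ⟨(w₀ : G)⁻¹ * (w.1 : G), Subgroup.mem_inf.2
      ⟨mul_mem (inv_mem w₀.2) w.1.2, ?_⟩⟩, fun c => ⟨⟨(w₀ : G) * (c : G), mul_mem w₀.2 (Subgroup.mem_inf.1 c.2).1⟩, ?_⟩,
      ?_, ?_⟩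
    · have h : g⁻¹ * (w.1 : G) * g * (w.1 : G)⁻¹ = g⁻¹ * (w₀ : G) * g * (w₀ : G)⁻¹ := congrArg Subtype.val w.2
      rw [Subgroup.mem_centralizer_singleton_iff]
      calc (w₀ : G)⁻¹ * (w.1 : G) * g = (w₀ : G)⁻¹ * g * (g⁻¹ * (w.1 : G) * g * (w.1 : G)⁻¹) * (w.1 : G) := by group
        _ = g * ((w₀ : G)⁻¹ * (w.1 : G)) := by rw [h]; group
    · have hc := Subgroup.mem_centralizer_singleton_iff.1 (Subgroup.mem_inf.1 c.2).2
      refine Subtype.ext ?_
      show g⁻¹ * ((w₀ : G) * (c : G)) * g * ((w₀ : G) * (c : G))⁻¹ = g⁻¹ * (w₀ : G) * g * (w₀ : G)⁻¹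
      rw [show g⁻¹ * ((w₀ : G) * (c : G)) * g = g⁻¹ * (w₀ : G) * ((c : G) * g) by group, hc]
      group
    · intro w; ext; simp
    · intro c; ext; simp
  calc (Nat.card ↥(U ⊓ Subgroup.centralizer ({g} : Set G)) : ℂ) * ∑ u : ↥U, χ (g * (u : G))
      = (Nat.card ↥(U ⊓ Subgroup.centralizer ({g} : Set G)) : ℂ) * ∑ u ∈ Finset.univ.image φ, χ (g * (u : G)) := by
        rw [Finset.sum_subset (Finset.subset_univ (Finset.univ.image φ)) fun u _ hu => hout u hu]
    _ = ∑ u ∈ Finset.univ.image φ, ∑ w ∈ Finset.univ.filter (fun w => φ w = u), χ (g * (φ w : G)) := by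
        rw [Finset.mul_sum]
        refine Finset.sum_congr rfl fun u hu => ?_
        rw [Finset.sum_congr rfl (g := fun _ => χ (g * (u : G))) (fun w hw => by rw [(Finset.mem_filter.1 hw).2]),
          Finset.sum_const, hfib u hu, nsmul_eq_mul]
    _ = ∑ w : ↥U, χ (g * (φ w : G)) :=
        Finset.sum_fiberwise_of_maps_to (fun w _ => Finset.mem_image_of_mem φ (Finset.mem_univ w)) _
    _ = (Nat.card ↥U : ℂ) * χ g := by
        rw [Finset.sum_congr rfl fun w _ => hφ w, Finset.sum_const, Finset.card_univ, nsmul_eq_mul,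
          Nat.card_eq_fintype_card]

/-- The values of a character of full `p`-degree are divisible by the `p`-part of the centralizer order. -/
theorem dvd_value_of_full_degree [Fintype G] (p : ℕ) [Fact p.Prime] {χ : G → ℂ} (hχ : IsIrrCharacter G χ) {d : ℕ}
    (hd : χ 1 = d) (hdp : p ^ (Nat.card G).factorization p ∣ d) {g : G} {m : ℤ} (hm : χ g = m) :
    (p : ℤ) ^ (Nat.card ↥(Subgroup.centralizer ({g} : Set G))).factorization p ∣ m := by
  classical
  have hp : p.Prime := Fact.out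
  have hd0 : (d : ℂ) ≠ 0 := hd ▸ hχ.apply_one_ne_zero
  have h := hχ.isIntegral_class g
  rw [hm, hd] at h
  have e : ((classFinset g).card : ℂ) * (m : ℂ) / (d : ℂ) =
      ((((classFinset g).card : ℚ) * (m : ℚ) / (d : ℚ) : ℚ) : ℂ) := by push_cast; ring
  rw [e] at h
  obtain ⟨z, hz⟩ := exists_int_of_isIntegral_rat h
  have hd0' : (d : ℚ) ≠ 0 := fun h0 => hd0 (by exact_mod_cast h0)
  rw [div_eq_iff hd0'] at hz
  have hz' : ((classFinset g).card : ℤ) * m = z * d := by exact_mod_cast hz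
  have hcard : (classFinset g).card * Nat.card ↥(Subgroup.centralizer ({g} : Set G)) = Nat.card G := by
    have h1 : (classFinset g).card = (Subgroup.centralizer ({g} : Set G)).index := by
      rw [card_classFinset]
    rw [h1, Subgroup.index_mul_card]
  obtain ⟨k, hk⟩ : ∃ k, k = (classFinset g).card := ⟨_, rfl⟩
  obtain ⟨c, hc⟩ : ∃ c, c = Nat.card ↥(Subgroup.centralizer ({g} : Set G)) := ⟨_, rfl⟩
  rw [← hk, ← hc] at hcard
  rw [← hk] at hz'
  rw [← hc]
  have hk0 : k ≠ 0 := fun h0 => by rw [h0, zero_mul] at hcard; exact Nat.card_pos.ne' hcard.symm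
  have hc0 : c ≠ 0 := fun h0 => by rw [h0, mul_zero] at hcard; exact Nat.card_pos.ne' hcard.symm
  have h1 : (p : ℤ) ^ (Nat.card G).factorization p ∣ (k : ℤ) * m :=
    hz' ▸ (dvd_mul_of_dvd_right (by exact_mod_cast Int.natCast_dvd_natCast.2 hdp) z)
  rw [← hcard, Nat.factorization_mul hk0 hc0, Finsupp.add_apply, pow_add] at h1
  have h2 : (k : ℤ) = (p : ℤ) ^ k.factorization p * ((k / p ^ k.factorization p : ℕ) : ℤ) := by
    exact_mod_cast (Nat.ordProj_mul_ordCompl_eq_self k p).symm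
  rw [h2, mul_assoc] at h1
  have h3 := (mul_dvd_mul_iff_left (pow_ne_zero _ (by exact_mod_cast hp.ne_zero))).1 h1
  refine IsCoprime.dvd_of_dvd_mul_left (IsCoprime.pow_left ?_) h3
  exact Int.isCoprime_iff_nat_coprime.2 (by rw [Int.natAbs_natCast, Int.natAbs_natCast]; exact Nat.coprime_ordCompl hp hk0)

end Coset

end Cfsg.Lib.Chev
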