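import Mathlib
import Cfsg.Agent.Lib.Chev.SteinbergCount
import Cfsg.Agent.Lib.Chev.SteinbergTruncation

/-!
The value of the Steinberg character at an element of order prime to the characteristic: up to sign the
`p`-part of the order of its centralizer.
-/

set_option autoImplicit false
set_option linter.unusedSectionVars false

namespace Cfsg.Lib.Chev

open Cfsg Cfsg.Lie MulAction

variable {D : ChevalleyDatum} {T : Tbl} (C : Cert D T) (K : FullCert D T) {F : Type*} [Field F]
include C K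

theorem bCell_inv {v : List ℕ} (hv : IsWord D v) {g : GL D.Idx F} (hg : g ∈ bCell C F v) :
    g⁻¹ ∈ bCell C F v.reverse := by
  obtain ⟨x, hx, y, hy, rfl⟩ := hg
  refine ⟨y⁻¹ * (wnu C F v.reverse * wnu C F v)⁻¹, mul_mem (inv_mem hy)
    (inv_mem (Subgroup.mem_sup_right (wnu_reverse_mul C hv))), x⁻¹, inv_mem hx, ?_⟩
  group

theorem exists_word_of_parabolic {J : Set ℕ} {h : GL D.Idx F} (hh : h ∈ D.parabolicSubgroup F J) :
    ∃ a, InW D J a ∧ h ∈ bCell C F a := by
  have h1 : (1 : GL D.Idx F) ∈ pCells C F J [] (∅ : Set ℕ) :=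
    ⟨[], [], inW_nil J, inW_nil _, 1, one_mem _, 1, one_mem _, by simp [wnu]⟩
  have := pCells_left C K (fun i hi => absurd hi List.not_mem_nil) h1 hh
  rw [mul_one] at this
  obtain ⟨a, b, ha, hb, hm⟩ := this
  have hb0 : b = [] := List.eq_nil_iff_forall_not_mem.2 fun i hi => hb.2 i hi
  subst hb0
  exact ⟨a, ha, by simpa using hm⟩

theorem exists_word_preimage {J K' : Set ℕ} {v : List ℕ} (hv : IsWord D v) (hR : RMin D T K' v)
    (hL : RMin D T J v.reverse) :
    ∀ (n : ℕ) (a b : List ℕ), (negSet D T a).card ≤ n → InW D J a → InW D K' b →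
      SamePerm D T (a ++ v) (v ++ b) →
      ∃ a', InW D {j | j ∈ J ∧ D.InRootSub K' (wperm T v.reverse (T.simp' j))} a' ∧ SamePerm D T a a' := by
  intro n
  induction n using Nat.strong_induction_on with
  | _ n ih =>
    intro a b hn ha hb e
    by_cases hmin : RMin D T J a.reverse
    · refine ⟨[], inW_nil _, ?_⟩
      have := samePerm_reverse C ha.1.reverse (inW_nil (D := D) J).1 (inW_nil_of_min C K ha.reverse hmin)
      rwa [List.reverse_reverse] at this
    · rw [RMin] at hmin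
      push Not at hmin
      obtain ⟨j, hjJ, hj, hneg⟩ := hmin
      have hp := C.spec.simp_lt j hj
      have hin : D.InRootSub K' (wperm T v.reverse (T.simp' j)) := by
        by_contra hout
        have hlt := wperm_lt C hv.reverse hp
        have hpos := (inW_outside C K hb.reverse hlt hout).2 (hL j hjJ hj)
        have e' := samePerm_reverse C (ha.1.append hv) (hv.append hb.1) e _ hp
        rw [List.reverse_append, List.reverse_append, wperm_append, wperm_append] at e'
        have := rmin_neg C K hv.reverse hL (inW_inRootSub C ha.reverse (inRootSub_simple C hj hjJ)) hneg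
        rw [e'] at this
        omega
      obtain ⟨k, hkK, hk, -, hvk⟩ := fund_preimage C K hv hR hL hj hjJ hin
      have hconj := samePerm_conj C K hv hk hj hvk
      have hlt : (negSet D T (j :: a)).card < n :=
        lt_of_lt_of_le (by have := card_descent_left C K hj ha.1 hneg; omega) hn
      obtain ⟨a', ha', e'⟩ := ih _ hlt (j :: a) (k :: b) le_rfl (ha.cons hj hjJ) (hb.cons hk hkK) fun s hs => by
        show wperm T (([j] ++ a) ++ v) s = wperm T (v ++ ([k] ++ b)) s
        rw [List.append_assoc, wperm_append, e s hs, ← wperm_append, ← List.append_assoc, ← List.append_assoc,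
          wperm_append, wperm_append (v := v ++ [k])]
        exact hconj _ (wperm_lt C hb.1 hs)
      refine ⟨j :: a', ha'.cons hj ⟨hjJ, hin⟩, fun s hs => ?_⟩
      rw [← samePerm_double C hj ha.1 s hs]
      show T.refl' j (wperm T (j :: a) s) = T.refl' j (wperm T a' s)
      rw [e' s hs]

theorem mem_parabolic_of_stab {J K' : Set ℕ} {v : List ℕ} (hv : IsWord D v) (hR : RMin D T K' v)
    (hL : RMin D T J v.reverse) {h : GL D.Idx F} (hh : h ∈ D.parabolicSubgroup F J)
    (hq : (wnu C F v)⁻¹ * h * wnu C F v ∈ D.parabolicSubgroup F K') :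
    h ∈ D.parabolicSubgroup F {j | j ∈ J ∧ D.InRootSub K' (wperm T v.reverse (T.simp' j))} := by
  obtain ⟨a, ha, hha⟩ := exists_word_of_parabolic C K hh
  obtain ⟨b, hb, hqb⟩ := exists_word_of_parabolic C K hq
  have h1 : (h * wnu C F v)⁻¹ ∈ bCell C F (v.reverse ++ a.reverse) := by
    obtain ⟨x, hx, y, hy, e⟩ := bCell_inv C K ha.1 hha
    obtain ⟨x', hx', y', hy', e'⟩ :=
      bCell_inv C K hv (mem_bCell C (one_mem (D.borelSubgroup F)) (one_mem _) v)
    simp only [one_mul, mul_one] at e'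
    rw [mul_inv_rev, e, e', show x' * wnu C F v.reverse * y' * (x * wnu C F a.reverse * y) =
      x' * (wnu C F v.reverse * (y' * x) * wnu C F a.reverse) * y by group]
    exact bCell_mul C hx' hy (bCell_add C K hv.reverse hL _ a.reverse le_rfl ha.reverse (mul_mem hy' hx))
  have h2 : h * wnu C F v ∈ bCell C F (v ++ b) := by
    obtain ⟨x, hx, y, hy, e⟩ := hqb
    have e2 : h * wnu C F v = 1 * (wnu C F v * x * wnu C F b) * y := by
      rw [one_mul, mul_assoc (wnu C F v), mul_assoc (wnu C F v), ← e]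
      group
    rw [e2]
    exact bCell_mul C (one_mem _) hy (bCell_add C K hv hR _ b le_rfl hb hx)
  have e1 := bCell_disjoint C K (hv.reverse.append ha.1.reverse) (hv.append hb.1).reverse h1
    (bCell_inv C K (hv.append hb.1) h2)
  have e3 := samePerm_reverse C (hv.reverse.append ha.1.reverse) (hv.append hb.1).reverse e1
  rw [List.reverse_append, List.reverse_reverse, List.reverse_reverse, List.reverse_reverse] at e3
  obtain ⟨a', ha', ea⟩ := exists_word_preimage C K hv hR hL _ a b le_rfl ha hb e3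
  obtain ⟨x, hx, y, hy, rfl⟩ := bCell_congr C K ha.1 ha'.1 ea hha
  exact mul_mem (mul_mem (Subgroup.mem_sup_left hx) (mem_parabolic_of_word C K ha')) (Subgroup.mem_sup_left hy)

theorem levi_conj_le {J K' : Set ℕ} {v : List ℕ} (hv : IsWord D v)
    (hin : ∀ j ∈ J, j < D.rank → D.InRootSub K' (wperm T v.reverse (T.simp' j))) :
    D.leviSubgroup F J ≤ (D.parabolicSubgroup F K').map (MulAut.conj (wnu C F v)).toMonoidHom := by
  have key : ∀ l : GL D.Idx F, (wnu C F v)⁻¹ * l * wnu C F v ∈ D.parabolicSubgroup F K' →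
      l ∈ (D.parabolicSubgroup F K').map (MulAut.conj (wnu C F v)).toMonoidHom := fun l hl =>
    ⟨_, hl, by simp [mul_assoc]⟩
  have hdiag : D.diagonalSubgroup F ≤ D.parabolicSubgroup F K' := fun d hd =>
    Subgroup.mem_sup_left (Subgroup.mem_sup_right hd)
  refine sup_le (fun d hd => key d (hdiag (conj_mem_diag C (wnu_mem C hv) hd).2)) ((Subgroup.closure_le _).2 ?_)
  rintro l ⟨r, t, hr, e⟩
  rw [eq_xg C e]
  refine key _ ?_
  have hs : D.InRootSub K' (wperm T v.reverse r) := by
    refine (inRootSub_iff C).2 ⟨wperm_lt C hv.reverse hr.1, fun m hm hmK => ?_⟩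
    rw [coroot_wperm C hv.reverse hr.1 m hm]
    refine Finset.sum_eq_zero fun k hk => ?_
    rw [Finset.mem_range] at hk
    by_cases hkJ : k ∈ J
    · rw [((inRootSub_iff C).1 (hin k hkJ hk)).2 m hm hmK, mul_zero]
    · rw [((inRootSub_iff C).1 hr).2 k hk hkJ, zero_mul]
  obtain ⟨c, -, hc⟩ := wnu_conj_xg C (F := F) hv.reverse hr.1
  have hd := hdiag (wnu_reverse_mul C (F := F) hv)
  have hx : xg C (wperm T v.reverse r) (c * t) ∈ D.parabolicSubgroup F K' := by
    rw [parabolic_eq C K]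
    exact Subgroup.mem_sup_right (Subgroup.subset_closure ⟨_, _, Or.inr hs, coe_xg C _ _⟩)
  rw [show (wnu C F v)⁻¹ * xg C r t * wnu C F v = (wnu C F v.reverse * wnu C F v)⁻¹ *
    (wnu C F v.reverse * xg C r t * (wnu C F v.reverse)⁻¹) * (wnu C F v.reverse * wnu C F v) by group, hc]
  exact mul_mem (mul_mem (inv_mem hd) hx) hd

theorem orbit_stable {J K' : Set ℕ} {v : List ℕ} (hv : IsWord D v)
    (hin : ∀ j ∈ J, j < D.rank → D.InRootSub K' (wperm T v.reverse (T.simp' j)))
    {a : GL D.Idx F} (ha : a ∈ D.parabolicSubgroup F J) :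
    ∃ u ∈ D.unipotentRadical F J, (wnu C F v)⁻¹ * (u⁻¹ * a) * wnu C F v ∈ D.parabolicSubgroup F K' := by
  rw [← radical_sup_levi C K] at ha
  obtain ⟨u, hu, l, hl, rfl⟩ := Cfsg.Lib.Coprime.exists_mul_of_mem_sup (levi_le_normalizer C K J) ha
  obtain ⟨q, hq, e⟩ := levi_conj_le C K hv hin hl
  refine ⟨u, hu, ?_⟩
  rw [inv_mul_cancel_left, ← e]
  simpa [mul_assoc] using hq

theorem parabolic_univ {g : GL D.Idx F} (hg : g ∈ D.group F) :
    g ∈ D.parabolicSubgroup F (↑(Finset.range D.rank) : Set ℕ) := by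
  obtain ⟨w, hw, b, hb, c, hc, rfl⟩ := bruhat_normal C K hg
  refine mul_mem (mul_mem (Subgroup.mem_sup_left hb) (mem_parabolic_of_word C K ⟨hw, fun i hi => ?_⟩))
    (Subgroup.mem_sup_left (signPart_le_borel C K w true hc))
  exact Finset.mem_coe.2 (Finset.mem_range.2 (hw i hi))

theorem sum_steinberg_coset [Finite F] {J : Finset ℕ} (hJ : J ⊆ Finset.range D.rank) {g : ↥(D.group F)}
    (hg : g ∈ D.parabolicIn F J)
    (hmin : ∀ J' : Finset ℕ, J' ⊆ Finset.range D.rank → (∃ x, x * g * x⁻¹ ∈ D.parabolicIn F J') → J.card ≤ J'.card)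
    [Fintype ↥((D.unipotentRadical F (↑J : Set ℕ)).subgroupOf (D.group F))] :
    ∃ ε : ℤ, (ε = 1 ∨ ε = -1) ∧
      ∑ u : ↥((D.unipotentRadical F (↑J : Set ℕ)).subgroupOf (D.group F)),
        D.steinbergCharacter F (g * (u : ↥(D.group F))) =
      (Nat.card ↥((D.unipotentRadical F (↑J : Set ℕ)).subgroupOf (D.group F)) : ℂ) * ε := by
  classical
  haveI := WElt.finite C
  obtain ⟨ε, hε, hsum⟩ := signed_count_isStable C K hJ
  refine ⟨ε, hε, ?_⟩
  simp only [ChevalleyDatum.steinbergCharacter]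
  rw [Finset.sum_comm, ← hsum, Finset.mul_sum]
  refine Finset.sum_congr rfl fun K' hK' => ?_
  rw [← Finset.mul_sum, mul_left_comm]
  congr 1
  simp only [fixedPointCharacter]
  rw [← Nat.cast_sum, ← Nat.cast_mul, mul_comm]
  congr 1
  let U := (D.unipotentRadical F (↑J : Set ℕ)).subgroupOf (D.group F)
  let P := D.parabolicIn F J
  have hUn : ∀ a ∈ P, ∀ u ∈ U, a⁻¹ * u * a ∈ U := fun a ha u hu => by
    have hn := parabolic_le_normalizer C K (↑J : Set ℕ) (inv_mem (show (a : GL D.Idx F) ∈ _ from ha))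
    have h3 := (Subgroup.mem_normalizer_iff.1 hn _).1 (show (u : GL D.Idx F) ∈ D.unipotentRadical F (↑J : Set ℕ) from hu)
    show ((a⁻¹ * u * a : ↥(D.group F)) : GL D.Idx F) ∈ D.unipotentRadical F (↑J : Set ℕ)
    simpa using h3
  have hUP : ∀ u ∈ U, u ∈ P := fun u hu =>
    Subgroup.mem_sup_left (Subgroup.mem_sup_left (radical_le_pos C _ hu))
  let nelt : WElt D T → ↥(D.group F) := fun p => ⟨wnu C F p.word, wnu_mem_group C p.isWord⟩
  have horb : ∀ (p : WElt D T), IsStable D T (↑J : Set ℕ) (↑K' : Set ℕ) p.word → ∀ a ∈ P,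
      a • ((nelt p : ↥(D.group F)) : ↥(D.group F) ⧸ D.parabolicIn F K') ∈
        orbit ↥U ((nelt p : ↥(D.group F)) : ↥(D.group F) ⧸ D.parabolicIn F K') := by
    intro p hp a ha
    obtain ⟨u, hu, hq⟩ := orbit_stable C K p.isWord hp.2.2 (show (a : GL D.Idx F) ∈ _ from ha)
    refine ⟨⟨⟨u, pos_le_group C (radical_le_pos C _ hu)⟩, hu⟩, ?_⟩
    change ((_ * nelt p : ↥(D.group F)) : ↥(D.group F) ⧸ D.parabolicIn F K') = ((a * nelt p : ↥(D.group F)) : _)
    refine QuotientGroup.eq.2 ?_
    rw [ChevalleyDatum.parabolicIn, Subgroup.mem_subgroupOf]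
    simpa [nelt, mul_assoc] using hq
  refine sum_fixed_coset U (hUn g hg)
    (fun p : {p : WElt D T // IsStable D T (↑J : Set ℕ) (↑K' : Set ℕ) p.word} =>
      ((nelt p.1 : ↥(D.group F)) : ↥(D.group F) ⧸ D.parabolicIn F K')) ?_ ?_ ?_
  · rintro p p' ⟨u, e⟩
    change ((_ * nelt p.1 : ↥(D.group F)) : ↥(D.group F) ⧸ D.parabolicIn F K') = _ at e
    rw [QuotientGroup.eq] at e
    have e' : (((u : ↥(D.group F)) : GL D.Idx F) * wnu C F p.1.word)⁻¹ * wnu C F p'.1.word ∈
        D.parabolicSubgroup F (↑K' : Set ℕ) := by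
      rw [ChevalleyDatum.parabolicIn, Subgroup.mem_subgroupOf] at e
      simpa [nelt, mul_assoc] using e
    refine Subtype.ext (WElt.ext_word (min_word_unique C K p.1.isWord p'.1.isWord p.2.1 p.2.2.1 p'.2.1 p'.2.2.1
      (show ((u : ↥(D.group F)) : GL D.Idx F) ∈ D.parabolicSubgroup F (↑J : Set ℕ) from hUP _ u.2) e' ?_))
    group
  · exact fun p => horb p.1 p.2 g⁻¹ (inv_mem hg)
  · intro x u hx
    induction x using QuotientGroup.induction_on with
    | H y =>
      obtain ⟨v, hv, hR, hL, a, ha, q, hq, e⟩ := exists_min_word C K (F := F) (↑J : Set ℕ) (↑K' : Set ℕ) y.2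
      obtain ⟨p, hp⟩ := WElt.exists_of_word (T := T) hv
      have haG : a ∈ D.group F :=
        (inf_le_right : _ ⊓ D.group F ≤ _) ((normalizer_radical C K (F := F) (↑J : Set ℕ)).ge ha)
      let a' : ↥(D.group F) := ⟨a, haG⟩
      have ha' : a' ∈ P := ha
      have hd : (wnu C F p.word)⁻¹ * wnu C F v ∈ D.parabolicSubgroup F (↑K' : Set ℕ) :=
        Subgroup.mem_sup_left (Subgroup.mem_sup_right
          (same_of_perm C K p.isWord hv fun k hk => hp _ (C.spec.simp_lt k hk)))
      have hy : (y : ↥(D.group F) ⧸ D.parabolicIn F K') =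
          a' • ((nelt p : ↥(D.group F)) : ↥(D.group F) ⧸ D.parabolicIn F K') := by
        refine (QuotientGroup.eq.2 ?_).symm
        show (((a' * nelt p)⁻¹ * y : ↥(D.group F)) : GL D.Idx F) ∈ D.parabolicSubgroup F (↑K' : Set ℕ)
        simp only [nelt, a', Subgroup.coe_mul, InvMemClass.coe_inv, e]
        rw [show (a * wnu C F p.word)⁻¹ * (a * wnu C F v * q) = (wnu C F p.word)⁻¹ * wnu C F v * q by group]
        exact mul_mem hd hq
      have hRp : RMin D T (↑K' : Set ℕ) p.word := hR.congr C hp.symm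
      have hLp : RMin D T (↑J : Set ℕ) p.word.reverse :=
        hL.congr C (samePerm_reverse C hv p.isWord hp.symm)
      by_cases hst : IsStable D T (↑J : Set ℕ) (↑K' : Set ℕ) p.word
      · exact ⟨⟨p, hst⟩, hy ▸ horb p hst a' ha'⟩
      · exfalso
        have hnot : ∃ j ∈ J, ¬ D.InRootSub (↑K' : Set ℕ) (wperm T p.word.reverse (T.simp' j)) := by
          by_contra hc
          push Not at hc
          exact hst ⟨hRp, hLp, fun j hj _ => hc j (Finset.mem_coe.1 hj)⟩
        obtain ⟨j, hj, hjn⟩ := hnot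
        let J' := J.filter fun j => D.InRootSub (↑K' : Set ℕ) (wperm T p.word.reverse (T.simp' j))
        rw [hy, smul_smul, ← inv_smul_eq_iff, smul_smul] at hx
        have hh : a'⁻¹ * (g * (u : ↥(D.group F)) * a') ∈ P :=
          mul_mem (inv_mem ha') (mul_mem (mul_mem hg (hUP _ u.2)) ha')
        change ((a'⁻¹ * (g * (u : ↥(D.group F)) * a') * nelt p : ↥(D.group F)) :
          ↥(D.group F) ⧸ D.parabolicIn F K') = _ at hx
        have hx' := QuotientGroup.eq.1 hx.symm
        have hq' : (wnu C F p.word)⁻¹ * ((a'⁻¹ * (g * (u : ↥(D.group F)) * a') : ↥(D.group F)) : GL D.Idx F) *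
            wnu C F p.word ∈ D.parabolicSubgroup F (↑K' : Set ℕ) := by
          rw [ChevalleyDatum.parabolicIn, Subgroup.mem_subgroupOf] at hx'
          simpa [nelt, mul_assoc] using hx'
        have hmem := mem_parabolic_of_stab C K p.isWord hRp hLp hh hq'
        have hset : {j | j ∈ (↑J : Set ℕ) ∧ D.InRootSub (↑K' : Set ℕ) (wperm T p.word.reverse (T.simp' j))} =
            (↑J' : Set ℕ) := by ext; simp [J']
        rw [hset] at hmem
        have hu' : (a'⁻¹ * (u : ↥(D.group F)) * a') ∈ D.parabolicIn F J' :=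
          Subgroup.mem_sup_left (Subgroup.mem_sup_left (radical_le_pos C _ (hUn a' ha' u u.2)))
        have hgJ' : a'⁻¹ * g * a'⁻¹⁻¹ ∈ D.parabolicIn F J' := by
          rw [show a'⁻¹ * g * a'⁻¹⁻¹ = a'⁻¹ * (g * (u : ↥(D.group F)) * a') *
            (a'⁻¹ * (u : ↥(D.group F)) * a')⁻¹ by group]
          exact mul_mem hmem (inv_mem hu')
        have hle := hmin J' ((Finset.filter_subset _ _).trans hJ) ⟨a'⁻¹, hgJ'⟩
        have hlt : J'.card < J.card := Finset.card_lt_card
          (Finset.filter_ssubset.2 ⟨j, hj, hjn⟩)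
        omega

theorem steinberg_semisimple [Finite F] (p : ℕ) [Fact p.Prime] [CharP F p] (g : ↥(D.group F)) (hg : ¬ p ∣ orderOf g) :
    D.steinbergCharacter F g =
        ((p ^ (Nat.card ↥(Subgroup.centralizer ({g} : Set ↥(D.group F)))).factorization p : ℕ) : ℂ) ∨
      D.steinbergCharacter F g =
        -((p ^ (Nat.card ↥(Subgroup.centralizer ({g} : Set ↥(D.group F)))).factorization p : ℕ) : ℂ) := by
  classical
  letI := Fintype.ofFinite ↥(D.group F)
  have hcl : ∀ a x, D.steinbergCharacter F (x * a * x⁻¹) = D.steinbergCharacter F a := fun a x => by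
    simp only [ChevalleyDatum.steinbergCharacter, fixedPointCharacter_conj]
  have hp : p.Prime := Fact.out
  obtain ⟨J, ⟨hJ, x, hx⟩, hmin⟩ : ∃ J : Finset ℕ, (J ⊆ Finset.range D.rank ∧ ∃ x, x * g * x⁻¹ ∈ D.parabolicIn F J) ∧
      ∀ J' : Finset ℕ, (J' ⊆ Finset.range D.rank ∧ ∃ x, x * g * x⁻¹ ∈ D.parabolicIn F J') → J.card ≤ J'.card := by
    obtain ⟨J, hJ, hmin⟩ := Finset.exists_min_image
      ((Finset.range D.rank).powerset.filter fun J => ∃ x, x * g * x⁻¹ ∈ D.parabolicIn F J) Finset.card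
      ⟨Finset.range D.rank, Finset.mem_filter.2 ⟨Finset.mem_powerset.2 subset_rfl, 1, by
        rw [one_mul, inv_one, mul_one]; exact parabolic_univ C K g.2⟩⟩
    obtain ⟨h1, h2⟩ := Finset.mem_filter.1 hJ
    exact ⟨J, ⟨Finset.mem_powerset.1 h1, h2⟩, fun J' h =>
      hmin J' (Finset.mem_filter.2 ⟨Finset.mem_powerset.2 h.1, h.2⟩)⟩
  obtain ⟨y, hy⟩ : ∃ y, y = x * g * x⁻¹ := ⟨_, rfl⟩
  rw [← hy] at hx
  have hyg : D.steinbergCharacter F y = D.steinbergCharacter F g := hy ▸ hcl g x
  have hyo : ¬ p ∣ orderOf y := by rw [hy, ← MulAut.conj_apply, MulEquiv.orderOf_eq]; exact hg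
  have hymin : ∀ J' : Finset ℕ, J' ⊆ Finset.range D.rank → (∃ z, z * y * z⁻¹ ∈ D.parabolicIn F J') →
      J.card ≤ J'.card := fun J' h1 ⟨z, hz⟩ => hmin J' ⟨h1, z * x, by
    rw [show z * x * g * (z * x)⁻¹ = z * y * z⁻¹ by rw [hy]; group]; exact hz⟩
  set U := (D.unipotentRadical F (↑J : Set ℕ)).subgroupOf (D.group F) with hUdef
  letI : Fintype ↥U := Fintype.ofFinite _
  obtain ⟨ε, hε, hsum⟩ := sum_steinberg_coset C K hJ hx hymin
  have hFp : ∃ f, Nat.card F = p ^ f := by
    haveI := Fintype.ofFinite F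
    obtain ⟨f, -, hf⟩ := FiniteField.card F p
    exact ⟨f, by rw [Nat.card_eq_fintype_card, hf]⟩
  obtain ⟨f, hf⟩ := hFp
  have hU : IsPGroup p ↥U := by
    have h1 : IsPGroup p ↥(D.posUnipotent F) :=
      IsPGroup.of_card (n := f * (D.nroots / 2)) (by rw [card_pos C K, hf, ← pow_mul])
    exact h1.of_injective
      ((Subgroup.inclusion (radical_le_pos C (F := F) (↑J : Set ℕ))).comp
        (Subgroup.subgroupOfEquivOfLe ((radical_le_pos C _).trans (pos_le_group C (F := F)))).toMonoidHom)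
      ((Subgroup.inclusion_injective (radical_le_pos C (F := F) (↑J : Set ℕ))).comp (MulEquiv.injective _))
  have hyn : y ∈ Subgroup.normalizer (U : Set ↥(D.group F)) := by
    have hn := parabolic_le_normalizer C K (↑J : Set ℕ) (show (y : GL D.Idx F) ∈ _ from hx)
    refine Subgroup.mem_normalizer_iff.2 fun u => ?_
    rw [hUdef, Subgroup.mem_subgroupOf, Subgroup.mem_subgroupOf]
    simpa using Subgroup.mem_normalizer_iff.1 hn (u : GL D.Idx F)
  have hv := sum_vanishing_coset p U hU hyn hyo hcl (fun a ha => steinberg_vanish C K p a ha)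
  obtain ⟨c, hc⟩ : ∃ c, c = Nat.card ↥(U ⊓ Subgroup.centralizer ({y} : Set ↥(D.group F))) := ⟨_, rfl⟩
  rw [← hc, hsum, mul_left_comm] at hv
  have hval := mul_left_cancel₀ (Nat.cast_ne_zero.2 (Nat.card_pos (α := ↥U)).ne') hv
  have hm : D.steinbergCharacter F y = (((c : ℤ) * ε : ℤ) : ℂ) := by rw [← hval]; push_cast; ring
  obtain ⟨P, hP⟩ := exists_sylow C K (F := F) p
  have hGp : p ^ (Nat.card ↥(D.group F)).factorization p = Nat.card F ^ (D.nroots / 2) := by
    rw [← Sylow.card_eq_multiplicity P, hP,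
      Nat.card_congr (Subgroup.subgroupOfEquivOfLe (pos_le_group C (F := F))).toEquiv, card_pos C K]
  have hdvd := dvd_value_of_full_degree p (steinberg_irr C K (F := F)) (d := Nat.card F ^ (D.nroots / 2))
    (by rw [steinberg_one C K, Nat.cast_pow]) (hGp ▸ dvd_rfl) hm
  set e := (Nat.card ↥(Subgroup.centralizer ({y} : Set ↥(D.group F)))).factorization p with he
  have hcdvd : c ∣ p ^ e := by
    obtain ⟨k, hk⟩ := IsPGroup.iff_card.1 ((hU.to_le (inf_le_left : U ⊓ Subgroup.centralizer ({y} : Set ↥(D.group F)) ≤ U)))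
    rw [hc, hk]
    refine Nat.pow_dvd_pow p ((hp.pow_dvd_iff_le_factorization Nat.card_pos.ne').1 ?_)
    rw [← hk]
    exact Subgroup.card_dvd_of_le inf_le_right
  have hcd : p ^ e ∣ c := by
    rcases hε with rfl | rfl
    · rw [mul_one] at hdvd; exact_mod_cast hdvd
    · rw [mul_neg, mul_one, dvd_neg] at hdvd; exact_mod_cast hdvd
  have hce : c = p ^ e := Nat.dvd_antisymm hcdvd hcd
  have hcent : Nat.card ↥(Subgroup.centralizer ({y} : Set ↥(D.group F))) =
      Nat.card ↥(Subgroup.centralizer ({g} : Set ↥(D.group F))) := by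
    refine (Nat.card_congr (Equiv.subtypeEquiv (MulAut.conj x).toEquiv fun a => ?_)).symm
    simp only [Subgroup.mem_centralizer_singleton_iff, MulEquiv.toEquiv_eq_coe, EquivLike.coe_coe, hy]
    rw [show x * g * x⁻¹ = MulAut.conj x g from rfl, ← map_mul, ← map_mul, (MulAut.conj x).injective.eq_iff]
  rw [← hcent, ← he, ← hyg, hm, ← hce]
  rcases hε with rfl | rfl
  · left; simp
  · right; simp

end Cfsg.Lib.Chev
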