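import Cfsg.Agent.Lib.Chev.SylowTorus
import Cfsg.Agent.Lib.Chev.FullB2

/-! Twisted tori of type B2, one for each regular number. -/

set_option autoImplicit false
set_option maxRecDepth 100000

namespace Cfsg.Lib.Chev

/-- The torus data for `1`. -/
def sylB2_1 : SylTor := ⟨[], [-1], [[[1], [0]], [[0], [1]]], [0, 1]⟩

theorem chkSyl_B2_1 : chkSyl tblB2 2 sylB2_1 = true := by decide +kernel

/-- The torus data for `2`. -/
def sylB2_2 : SylTor := ⟨[0, 1, 0, 1], [1], [[[1], [0]], [[0], [1]]], [0, 1]⟩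

theorem chkSyl_B2_2 : chkSyl tblB2 2 sylB2_2 = true := by decide +kernel

/-- The torus data for `4`. -/
def sylB2_4 : SylTor := ⟨[0, 1], [1, 0], [[[1, 0], [1, 1]]], [0]⟩

theorem chkSyl_B2_4 : chkSyl tblB2 1 sylB2_4 = true := by decide +kernel

end Cfsg.Lib.Chev
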