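import Cfsg.Agent.Lib.Chev.SylowTorus
import Cfsg.Agent.Lib.Chev.FullD4

/-! Twisted tori of type D4, one for each regular number. -/

set_option autoImplicit false
set_option maxRecDepth 100000

namespace Cfsg.Lib.Chev

/-- The torus data for `1`. -/
def sylD4_1 : SylTor := ⟨[], [-1], [[[1], [0], [0], [0]], [[0], [1], [0], [0]], [[0], [0], [1], [0]], [[0], [0], [0], [1]]], [0, 1, 2, 3]⟩

theorem chkSyl_D4_1 : chkSyl tblD4 4 sylD4_1 = true := by decide +kernel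

/-- The torus data for `2`. -/
def sylD4_2 : SylTor := ⟨[0, 1, 2, 3, 0, 1, 2, 3, 0, 1, 2, 3], [1], [[[1], [0], [0], [0]], [[0], [1], [0], [0]], [[0], [0], [1], [0]], [[0], [0], [0], [1]]], [0, 1, 2, 3]⟩

theorem chkSyl_D4_2 : chkSyl tblD4 4 sylD4_2 = true := by decide +kernel

/-- The torus data for `3`. -/
def sylD4_3 : SylTor := ⟨[0, 1, 2, 3, 0, 1, 2, 3], [1, 1], [[[0, -1], [1, -1], [1, 0], [1, 0]]], [3]⟩

theorem chkSyl_D4_3 : chkSyl tblD4 1 sylD4_3 = true := by decide +kernel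

/-- The torus data for `4`. -/
def sylD4_4 : SylTor := ⟨[2, 3, 3, 1, 2, 1, 3, 1, 3, 0, 3, 3], [1, 0], [[[1, 0], [1, -1], [1, 0], [0, 0]], [[0, 1], [1, 1], [0, 0], [1, 0]]], [2, 3]⟩

theorem chkSyl_D4_4 : chkSyl tblD4 2 sylD4_4 = true := by decide +kernel

/-- The torus data for `6`. -/
def sylD4_6 : SylTor := ⟨[0, 1, 2, 3], [1, -1], [[[1, -1], [2, -1], [1, 0], [1, 0]]], [3]⟩

theorem chkSyl_D4_6 : chkSyl tblD4 1 sylD4_6 = true := by decide +kernel

end Cfsg.Lib.Chev
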