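import Cfsg.Agent.Lib.Chev.SylowTorus
import Cfsg.Agent.Lib.Chev.FullE6

/-! Twisted tori of type E6, one for each regular number. -/

set_option autoImplicit false
set_option maxRecDepth 100000

namespace Cfsg.Lib.Chev

/-- The torus data for `1`. -/
def sylE6_1 : SylTor := ⟨[], [-1], [[[1], [0], [0], [0], [0], [0]], [[0], [1], [0], [0], [0], [0]], [[0], [0], [1], [0], [0], [0]], [[0], [0], [0], [1], [0], [0]], [[0], [0], [0], [0], [1], [0]], [[0], [0], [0], [0], [0], [1]]], [0, 1, 2, 3, 4, 5]⟩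

theorem chkSyl_E6_1 : chkSyl tblE6 6 sylE6_1 = true := by decide +kernel

/-- The torus data for `2`. -/
def sylE6_2 : SylTor := ⟨[0, 1, 2, 3, 4, 5, 0, 1, 2, 3, 4, 5, 0, 1, 2, 3, 4, 5, 0, 1, 2, 3, 4, 5, 0, 1, 2, 3, 4, 5, 0, 1, 2, 3, 4, 5], [1], [[[0], [1], [0], [0], [0], [0]], [[1], [0], [1], [1], [0], [0]], [[-1], [0], [0], [0], [1], [0]], [[0], [0], [-1], [0], [0], [1]]], [1, 3, 4, 5]⟩

theorem chkSyl_E6_2 : chkSyl tblE6 4 sylE6_2 = true := by decide +kernel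

/-- The torus data for `3`. -/
def sylE6_3 : SylTor := ⟨[0, 1, 2, 3, 4, 5, 0, 1, 2, 3, 4, 5, 0, 1, 2, 3, 4, 5, 0, 1, 2, 3, 4, 5], [1, 1], [[[0, 0], [0, 0], [0, -1], [1, 0], [0, 0], [0, 0]], [[0, 0], [0, -1], [1, 1], [0, 0], [1, 0], [0, 0]], [[0, -1], [1, 1], [0, 0], [0, 0], [0, 0], [1, 0]]], [3, 4, 5]⟩

theorem chkSyl_E6_3 : chkSyl tblE6 3 sylE6_3 = true := by decide +kernel

/-- The torus data for `4`. -/
def sylE6_4 : SylTor := ⟨[0, 1, 2, 3, 4, 5, 0, 1, 2, 3, 4, 5, 0, 1, 2, 3, 4, 5], [1, 0], [[[0, -1], [0, 0], [1, -1], [1, -1], [1, 0], [0, 0]], [[1, 1], [1, -1], [0, 1], [1, 1], [0, 0], [1, 0]]], [4, 5]⟩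

theorem chkSyl_E6_4 : chkSyl tblE6 2 sylE6_4 = true := by decide +kernel

/-- The torus data for `5`. -/
def sylE6_5 : SylTor := ⟨[4, 5, 3, 3, 0, 0, 5, 3, 4, 4, 5, 1, 3, 3], [1, 1, 1, 1], [[[0, 0, 0, 0], [0, 0, 0, -1], [0, 0, 0, 0], [0, 0, -1, -1], [0, -1, -1, -1], [1, 0, 0, 0]]], [5]⟩

theorem chkSyl_E6_5 : chkSyl tblE6 1 sylE6_5 = true := by decide +kernel

/-- The torus data for `6`. -/
def sylE6_6 : SylTor := ⟨[0, 1, 2, 3, 4, 5, 0, 1, 2, 3, 4, 5], [1, -1], [[[0, 0], [1, -1], [1, 0], [1, 0], [1, 0], [0, 0]], [[1, -1], [0, 1], [0, -1], [1, -1], [0, 0], [1, 0]]], [4, 5]⟩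

theorem chkSyl_E6_6 : chkSyl tblE6 2 sylE6_6 = true := by decide +kernel

/-- The torus data for `8`. -/
def sylE6_8 : SylTor := ⟨[0, 3, 2, 0, 0, 0, 1, 3, 4, 5, 0, 4, 4, 4, 3, 4, 1, 5, 5], [1, 0, 0, 0], [[[0, 0, 0, -1], [1, 0, 0, 0], [1, 0, 0, -1], [2, 0, -1, 0], [1, 1, -1, 0], [1, 0, 0, 0]]], [5]⟩

theorem chkSyl_E6_8 : chkSyl tblE6 1 sylE6_8 = true := by decide +kernel

/-- The torus data for `9`. -/
def sylE6_9 : SylTor := ⟨[5, 2, 2, 1, 3, 0, 2, 0, 3, 4, 5, 4, 0, 3, 4, 4, 0, 0], [1, 0, 0, 1, 0, 0], [[[0, 0, 0, -1, 0, 0], [1, 0, -1, 0, 0, 0], [0, 0, 0, -1, -1, 0], [1, 1, -1, -1, 0, 0], [1, 0, -1, 0, 0, -1], [1, 0, 0, 0, 0, 0]]], [5]⟩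

theorem chkSyl_E6_9 : chkSyl tblE6 1 sylE6_9 = true := by decide +kernel

/-- The torus data for `12`. -/
def sylE6_12 : SylTor := ⟨[0, 1, 2, 3, 4, 5], [1, 0, -1, 0], [[[1, 0, -1, 0], [1, 0, 0, -1], [1, 1, -1, -1], [2, 1, -1, -1], [1, 1, 0, -1], [1, 0, 0, 0]]], [5]⟩

theorem chkSyl_E6_12 : chkSyl tblE6 1 sylE6_12 = true := by decide +kernel

end Cfsg.Lib.Chev
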