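import Cfsg.Agent.Lib.Chev.SylowTorus
import Cfsg.Agent.Lib.Chev.FullG2

/-! Twisted tori of type G2, one for each regular number. -/

set_option autoImplicit false
set_option maxRecDepth 100000

namespace Cfsg.Lib.Chev

/-- The torus data for `1`. -/
def sylG2_1 : SylTor := ⟨[], [-1], [[[1], [0]], [[0], [1]]], [0, 1]⟩

theorem chkSyl_G2_1 : chkSyl tblG2 2 sylG2_1 = true := by decide +kernel

/-- The torus data for `2`. -/
def sylG2_2 : SylTor := ⟨[0, 1, 0, 1, 0, 1], [1], [[[1], [0]], [[0], [1]]], [0, 1]⟩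

theorem chkSyl_G2_2 : chkSyl tblG2 2 sylG2_2 = true := by decide +kernel

/-- The torus data for `3`. -/
def sylG2_3 : SylTor := ⟨[0, 1, 0, 1], [1, 1], [[[1, 0], [2, 1]]], [0]⟩

theorem chkSyl_G2_3 : chkSyl tblG2 1 sylG2_3 = true := by decide +kernel

/-- The torus data for `6`. -/
def sylG2_6 : SylTor := ⟨[0, 1], [1, -1], [[[1, 0], [1, 1]]], [0]⟩

theorem chkSyl_G2_6 : chkSyl tblG2 1 sylG2_6 = true := by decide +kernel

end Cfsg.Lib.Chev
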