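import Cfsg.Agent.Lib.Chev.SylowTorus

/-!
Orders of Sylow subgroups from the degrees.
-/

set_option autoImplicit false
set_option linter.unusedSectionVars false

namespace Cfsg.Lib.Chev

open Cfsg.Lie Cfsg.Lib.Linear.SylowLarge

/-- A polynomial is a factor of `X ^ d - 1` whose cofactor only has roots of smaller order. -/
def CycGood (d : ℕ) (phi : List ℤ) : Prop :=
  ∃ A B : ℤ → ℤ, ∃ L : List ℕ, (∀ e ∈ L, ¬ d ∣ e) ∧ ∀ x : ℤ,
    (x ^ phi.length + sumBelow (fun k => nth 0 phi k * x ^ k) phi.length) * A x = x ^ d - 1 ∧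
      A x * B x = (L.map fun e => x ^ e - 1).prod

variable {q r : ℕ}

theorem cast_pow_sub_one (h1 : 1 ≤ q) (e : ℕ) : ((q ^ e - 1 : ℕ) : ℤ) = (q : ℤ) ^ e - 1 := by
  rw [Nat.cast_sub (Nat.one_le_pow _ _ h1)]; simp

theorem cycGood_dvd [hr : Fact r.Prime] (hrq : ¬ r ∣ q) {S : SylTor}
    (h : CycGood (orderOf (q : ZMod r)) S.phi) : ((r ^ vexp q r : ℕ) : ℤ) ∣ S.val q := by
  obtain ⟨A, B, L, hL, hq⟩ := h
  obtain ⟨e1, e2⟩ := hq q
  have hpr : Prime (r : ℤ) := Nat.prime_iff_prime_int.1 hr.out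
  have hA : ¬ (r : ℤ) ∣ A q := by
    intro hd
    have h2 : (r : ℤ) ∣ (L.map fun e => (q : ℤ) ^ e - 1).prod := e2 ▸ hd.mul_right (B q)
    obtain ⟨x, hx, hdx⟩ := hpr.dvd_prod_iff.1 h2
    obtain ⟨e, he, rfl⟩ := List.mem_map.1 hx
    rw [← cast_pow_sub_one (q_pos hrq)] at hdx
    exact hL e he ((dvd_pow_sub_one_iff hrq e).1 (Int.natCast_dvd_natCast.1 hdx))
  have h3 : ((r ^ vexp q r : ℕ) : ℤ) ∣ S.val q * A q := by
    rw [SylTor.val, e1, ← cast_pow_sub_one (q_pos hrq)]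
    exact Int.natCast_dvd_natCast.2 (Nat.ordProj_dvd _ r)
  rw [Nat.cast_pow] at h3 ⊢
  exact hpr.pow_dvd_of_dvd_mul_right _ hA h3

theorem factorization_pow_sub_one [hr : Fact r.Prime] (hrq : ¬ r ∣ q) (h1 : 1 < q) {j : ℕ} (hj : ¬ r ∣ j) :
    (q ^ j - 1).factorization r = if orderOf (q : ZMod r) ∣ j then vexp q r else 0 := by
  set d := orderOf (q : ZMod r) with hd
  split_ifs with h
  · obtain ⟨k, rfl⟩ := h
    have hd0 : 0 < d := ord_pos hrq
    obtain ⟨x, hx⟩ : ∃ x, q ^ d = x + 1 := ⟨q ^ d - 1, (Nat.sub_add_cancel (Nat.one_le_pow _ _ (by omega))).symm⟩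
    have hg : (∑ i ∈ Finset.range k, (x + 1) ^ i) * x + 1 = (x + 1) ^ k := geom_sum_mul_add x k
    have hS : q ^ (d * k) - 1 = (∑ i ∈ Finset.range k, (x + 1) ^ i) * x := by rw [pow_mul, hx, ← hg]; omega
    have hx0 : x ≠ 0 := by
      have : 2 ≤ q ^ d := le_trans h1 (Nat.le_self_pow hd0.ne' q)
      omega
    have hSr : ¬ r ∣ ∑ i ∈ Finset.range k, (x + 1) ^ i := by
      rw [← ZMod.natCast_eq_zero_iff, Nat.cast_sum]
      have : ∀ i, (((x + 1) ^ i : ℕ) : ZMod r) = 1 := fun i => by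
        rw [← hx, Nat.cast_pow, Nat.cast_pow, hd, pow_orderOf_eq_one, one_pow]
      simp only [this, Finset.sum_const, Finset.card_range, nsmul_one]
      rw [ZMod.natCast_eq_zero_iff]
      exact fun hk => hj (hk.mul_left d)
    rw [hS, Nat.factorization_mul (fun h => hSr (by rw [h]; exact dvd_zero r)) hx0, Finsupp.add_apply,
      Nat.factorization_eq_zero_of_not_dvd hSr, zero_add, vexp, ← hd, hx, Nat.add_sub_cancel]
  · exact Nat.factorization_eq_zero_of_not_dvd fun h' => h ((dvd_pow_sub_one_iff hrq j).mp h')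

theorem degrees_prod [hr : Fact r.Prime] (hrq : ¬ r ∣ q) (h1 : 1 < q) : ∀ degs : List ℕ,
    (∀ e ∈ degs, ¬ r ∣ e) →
    (degs.map fun e => q ^ e - 1).prod ≠ 0 ∧ (degs.map fun e => q ^ e - 1).prod.factorization r =
      (degs.filter (fun e => orderOf (q : ZMod r) ∣ e)).length * vexp q r
  | [], _ => by simp
  | e :: l, h => by
    obtain ⟨ih1, ih2⟩ := degrees_prod hrq h1 l fun x hx => h x (List.mem_cons_of_mem _ hx)
    have he : ¬ r ∣ e := h e List.mem_cons_self
    have he0 : q ^ e - 1 ≠ 0 := by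
      have : 2 ≤ q ^ e := le_trans h1 (Nat.le_self_pow (fun hh : e = 0 => he (hh ▸ dvd_zero r)) q)
      omega
    refine ⟨by rw [List.map_cons, List.prod_cons]; exact mul_ne_zero he0 ih1, ?_⟩
    rw [List.map_cons, List.prod_cons, Nat.factorization_mul he0 ih1, Finsupp.add_apply, ih2,
      factorization_pow_sub_one hrq h1 he, List.filter_cons]
    by_cases hd : orderOf (q : ZMod r) ∣ e
    · rw [if_pos hd, if_pos (by simpa using hd), List.length_cons]; ring
    · rw [if_neg hd, if_neg (by simpa using hd), zero_add]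

theorem factorization_order [hr : Fact r.Prime] (hrq : ¬ r ∣ q) (h1 : 1 < q) {degs : List ℕ} (hdeg : ¬ r ∣ degs.prod)
    {g N n : ℕ} (hg : g ∣ degs.prod) (hn : g * n = q ^ N * (degs.map fun e => q ^ e - 1).prod) :
    n.factorization r = (degs.filter (fun e => orderOf (q : ZMod r) ∣ e)).length * vexp q r := by
  obtain ⟨h2, h3⟩ := degrees_prod hrq h1 degs fun e he hre => hdeg (hre.trans (List.dvd_prod he))
  have h0 : g * n ≠ 0 := by rw [hn]; exact mul_ne_zero (pow_ne_zero _ (by omega)) h2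
  have h4 := congrArg (fun x => x.factorization r) hn
  simp only [Nat.factorization_mul (pow_ne_zero N (by omega : q ≠ 0)) h2,
    Nat.factorization_mul (left_ne_zero_of_mul h0) (right_ne_zero_of_mul h0), Finsupp.add_apply, h3,
    Nat.factorization_eq_zero_of_not_dvd (fun h => hdeg (h.trans hg)),
    Nat.factorization_eq_zero_of_not_dvd (fun h => hrq (hr.out.dvd_of_dvd_pow h)), zero_add] at h4
  exact h4

variable {D : ChevalleyDatum} {T : Tbl} (C : Cert D T) (K : FullCert D T)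
include C K

/-- Sylow subgroups are homocyclic away from the Weyl group. -/
theorem sylow_homocyclic_deg {F : Type*} [Field F] [Fintype F] {q : ℕ} (hF : Fintype.card F = q) {r : ℕ}
    [hr : Fact r.Prime] (hrq : ¬ r ∣ q) {Mi : Matrix (Fin D.rank) (Fin D.rank) ℤ} {e : ℕ}
    (hMi : Mi * cartanMat D T = Matrix.diagonal fun _ => ((e : ℕ) : ℤ)) {degs : List ℕ} (hdeg : ¬ r ∣ degs.prod)
    (hre : e ∣ degs.prod) {g N : ℕ} (hg : g ∣ degs.prod)
    (hcard : g * Nat.card ↥(D.group F) = q ^ N * (degs.map fun x => q ^ x - 1).prod)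
    (hrG : r ∣ Nat.card ↥(D.group F)) {ds : List ℕ} (hds : ∀ x ∈ degs, ∀ d ∈ x.divisors, d ∈ ds)
    (data : ∀ d ∈ ds, ∃ S, chkSyl T (degs.filter (fun x => d ∣ x)).length S = true ∧ CycGood d S.phi)
    (P : Sylow r ↥(D.group F)) :
    Nonempty (↥(P : Subgroup ↥(D.group F)) ≃*
      (Fin (degs.filter (fun x => orderOf (q : ZMod r) ∣ x)).length →
        Multiplicative (ZMod (r ^ padicValNat r ((Polynomial.cyclotomic (orderOf (q : ZMod r)) ℤ).eval (q : ℤ)).natAbs)))) := by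
  have h1 : 1 < q := one_lt_q hF
  have hord := factorization_order hrq h1 hdeg hg hcard
  have hpos : 1 ≤ (Nat.card ↥(D.group F)).factorization r :=
    (hr.out.dvd_iff_one_le_factorization Nat.card_pos.ne').1 hrG
  have hne : degs.filter (fun x => orderOf (q : ZMod r) ∣ x) ≠ [] := fun h => by
    rw [hord, h, List.length_nil, zero_mul] at hpos
    exact absurd hpos (by omega)
  obtain ⟨x, hx⟩ := List.exists_mem_of_ne_nil _ hne
  rw [List.mem_filter, decide_eq_true_eq] at hx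
  have hx0 : x ≠ 0 := fun h => hdeg ((h ▸ dvd_zero r : r ∣ x).trans (List.dvd_prod hx.1))
  obtain ⟨S, hS, hgood⟩ := data _ (hds x hx.1 _ (Nat.mem_divisors.2 ⟨hx.2, hx0⟩))
  rw [cyc_eval hrq h1]
  exact sylow_homocyclic C K hF hrq hMi (fun h => hdeg (h.trans hre)) (sylOK_of_chk C hS) (cycGood_dvd hrq hgood) hord P

end Cfsg.Lib.Chev
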