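import Cfsg.Agent.Lib.Chev.TwAutBase

/-!
Automorphisms of a twisted group with orbits of orthogonal roots: an inner adjustment fixes both maximal unipotent
subgroups, and then the orbit subgroups and their opposites are permuted.
-/

set_option autoImplicit false
set_option linter.unusedSectionVars false

namespace Cfsg.Lib.Chev

open Cfsg.Lie

namespace TwCtx

variable {D : ChevalleyDatum} {T : Tbl} {F : Type*} [Field F] (X : TwCtx D T F)

/-- The unipotent subgroup. -/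
noncomputable abbrev posT : Subgroup ↥X.grp := (D.posUnipotent F).subgroupOf X.grp

/-- The opposite unipotent subgroup. -/
noncomputable abbrev negT : Subgroup ↥X.grp := (D.negUnipotent F).subgroupOf X.grp

/-- The Borel subgroup. -/
noncomputable abbrev borT : Subgroup ↥X.grp := (D.borelSubgroup F).subgroupOf X.grp

variable [Finite F]

theorem borel_split {b : GL D.Idx F} (hb : b ∈ D.borelSubgroup F) (hb' : b ∈ X.grp) :
    ∃ u ∈ D.posUnipotent F, u ∈ X.grp ∧ ∃ d ∈ D.diagonalSubgroup F, d ∈ X.grp ∧ b = u * d := by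
  obtain ⟨u, hu, d, hd, rfl⟩ := (mem_borel X.cert).1 hb
  have huG := pos_le_group X.cert hu
  have hdG := diag_le_group X.cert hd
  have e1 : X.sig u * X.sig d = u * d := by rw [← X.ok.map_mul _ huG _ hdG]; exact hb'.2
  have hx : u⁻¹ * X.sig u ∈ D.posUnipotent F ⊓ D.diagonalSubgroup F := by
    refine ⟨Subgroup.mul_mem _ (Subgroup.inv_mem _ hu) (X.ok.map_pos X.cert X.comb hu), ?_⟩
    rw [show u⁻¹ * X.sig u = d * (X.sig d)⁻¹ by rw [eq_mul_inv_iff_mul_eq, mul_assoc, e1, inv_mul_cancel_left]]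
    exact Subgroup.mul_mem _ hd (Subgroup.inv_mem _ (X.ok.map_diag d hd))
  rw [pos_inf_diag X.cert, Subgroup.mem_bot, inv_mul_eq_one] at hx
  refine ⟨u, hu, ⟨huG, hx.symm⟩, d, hd, ⟨hdG, ?_⟩, rfl⟩
  rw [← hx] at e1
  exact mul_left_cancel e1

include X in
theorem conj_pos_iff {b x : GL D.Idx F} (hb : b ∈ D.borelSubgroup F) :
    b * x * b⁻¹ ∈ D.posUnipotent F ↔ x ∈ D.posUnipotent F := by
  obtain ⟨u, hu, d, hd, rfl⟩ := (mem_borel X.cert).1 hb
  rw [show u * d * x * (u * d)⁻¹ = u * (d * x * d⁻¹) * u⁻¹ by group, Subgroup.mul_mem_cancel_right _ (inv_mem hu),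
    Subgroup.mul_mem_cancel_left _ hu]
  exact (Subgroup.mem_normalizer_iff.1 (diag_le_normalizer X.cert hd) x).symm

theorem mono_of_rep {e : ℕ} (he : e < X.tw.elts.length) {n : GL D.Idx F}
    (hd : (wnu X.cert F (X.tw.eword e))⁻¹ * n ∈ D.diagonalSubgroup F) : n ∈ D.monomialSubgroup F := by
  have := mul_mem (wnu_mem X.cert (F := F) (X.comb.eword_word X.cert he)) (diag_le_monomial X.cert hd)
  rwa [mul_inv_cancel_left] at this

/-- A nontrivial fixed element in the class of a positive root. -/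
theorem exists_class_el {r : ℕ} (hr : r < D.nroots) (hp : D.nroots ≤ 2 * r) :
    ∃ c ∈ X.tw.classes, r ∈ X.tw.cls T c ∧
      ∃ y ∈ Pset X.cert (X.tw.cls T c), y ∈ X.grp ∧ y ∈ D.posUnipotent F ∧ y ≠ 1 := by
  obtain ⟨c, hc, hrc⟩ := List.mem_flatMap.1 (X.comb.exists_class X.cert hr hp)
  obtain ⟨hJ, ha⟩ := X.comb.class_lt c hc
  obtain ⟨n, hn, hd⟩ := X.ok.exists_fixed_rep X.cert X.comb ha
  have hel : X.el c.1 1 ∈ twFixPart X.cert X.sig (X.tw.base c.1) :=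
    (X.fixPart_el ⟨c.1, hJ⟩).2 ⟨1, one_mem _, rfl⟩
  refine ⟨c, hc, hrc, n * X.el c.1 1 * n⁻¹,
    (mono_conj_pset X.cert (X.comb.eword_word X.cert ha) hd (X.comb.base_lt _ hJ)).1 hel.1,
    mul_mem (mul_mem hn (X.el_mem ⟨c.1, hJ⟩ (one_mem _))) (inv_mem hn), ?_, fun h => ?_⟩
  · refine pset_pos X.cert (fun s hs => ?_)
      ((mono_conj_pset X.cert (X.comb.eword_word X.cert ha) hd (X.comb.base_lt _ hJ)).1 hel.1)
    have := (X.comb.class_pos s (List.mem_flatMap.2 ⟨c, hc, hs⟩)).2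
    omega
  · rw [mul_inv_eq_one, mul_eq_left] at h
    exact one_ne_zero (X.el_injective ⟨c.1, hJ⟩ (h.trans (orbEl_zero _).symm))

/-- An element sending a positive root to a negative one moves some fixed element of `U` into `V`. -/
theorem exists_moved {e : ℕ} (he : e < X.tw.elts.length) {n : GL D.Idx F}
    (hd : (wnu X.cert F (X.tw.eword e))⁻¹ * n ∈ D.diagonalSubgroup F) {r : ℕ} (hr : r < D.nroots)
    (hp : D.nroots ≤ 2 * r) (hneg : 2 * wperm T (X.tw.eword e) r < D.nroots) :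
    ∃ y : GL D.Idx F, y ∈ X.grp ∧ y ∈ D.posUnipotent F ∧ y ≠ 1 ∧ n * y * n⁻¹ ∈ D.negUnipotent F := by
  obtain ⟨c, hc, hrc, y, hy, hyG, hyU, hy1⟩ := X.exists_class_el hr hp
  refine ⟨y, hyG, hyU, hy1, ?_⟩
  have hall : ∀ s ∈ X.tw.cls T c, 2 * wperm T (X.tw.eword e) s < D.nroots := fun s hs =>
    (mem_negSet.1 ((X.comb.class_sign X.cert X.full he hc hs).2
      ((X.comb.class_sign X.cert X.full he hc hrc).1 (mem_negSet.2 ⟨hr, hp, hneg⟩)))).2.2
  refine ((signPart_iff_conj X.cert X.full (X.comb.eword_word X.cert he) hd).1 ?_).2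
  obtain ⟨t, rfl⟩ := hy
  refine list_prod_mem fun x hx => ?_
  obtain ⟨s, hs, rfl⟩ := List.mem_map.1 hx
  obtain ⟨h1, h2⟩ := X.comb.class_pos s (List.mem_flatMap.2 ⟨c, hc, hs⟩)
  exact xg_mem_signPart X.cert X.full (by omega) h1 (by simpa using hall s hs) _

/-- An element keeping a positive root positive keeps some fixed element of `U` in `U`. -/
theorem exists_kept {e : ℕ} (he : e < X.tw.elts.length) {n : GL D.Idx F}
    (hd : (wnu X.cert F (X.tw.eword e))⁻¹ * n ∈ D.diagonalSubgroup F) {r : ℕ} (hr : r < D.nroots)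
    (hp : D.nroots ≤ 2 * r) (hpos : D.nroots ≤ 2 * wperm T (X.tw.eword e) r) :
    ∃ y : GL D.Idx F, y ∈ X.grp ∧ y ∈ D.posUnipotent F ∧ y ≠ 1 ∧ n * y * n⁻¹ ∈ D.posUnipotent F := by
  obtain ⟨c, hc, hrc, y, hy, hyG, hyU, hy1⟩ := X.exists_class_el hr hp
  refine ⟨y, hyG, hyU, hy1, ?_⟩
  have hw := X.comb.eword_word X.cert he
  have hl : ∀ s ∈ X.tw.cls T c, s < D.nroots := fun s hs => (X.comb.class_pos s (List.mem_flatMap.2 ⟨c, hc, hs⟩)).1
  refine pset_pos X.cert (fun s hs => ?_) ((mono_conj_pset X.cert hw hd hl).1 hy)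
  obtain ⟨a, ha, rfl⟩ := List.mem_map.1 hs
  have h2 := (X.comb.class_pos a (List.mem_flatMap.2 ⟨c, hc, ha⟩)).2
  by_contra hlt
  have hneg : 2 * wperm T (X.tw.eword e) a < D.nroots := by omega
  have := (mem_negSet.1 ((X.comb.class_sign X.cert X.full he hc hrc).2
    ((X.comb.class_sign X.cert X.full he hc ha).1 (mem_negSet.2 ⟨hl a ha, h2, hneg⟩)))).2.2
  omega

/-- The normaliser of `U` is the Borel subgroup. -/
theorem normalizer_posT : Subgroup.normalizer (X.posT : Set ↥X.grp) = X.borT := by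
  ext g
  rw [Subgroup.mem_normalizer_iff, Subgroup.mem_subgroupOf]
  refine ⟨fun h => ?_, fun h y => ?_⟩
  · obtain ⟨e, he, hall⟩ := X.ok.bruhat_fixed X.cert X.full X.comb g.2
    obtain ⟨n, hn, hd⟩ := X.ok.exists_fixed_rep X.cert X.comb he
    obtain ⟨b, hb, c, hc, eg⟩ := hall n hn hd
    have hcB := signPart_le_borel X.cert X.full _ true hc.1
    have hn_diag : n ∈ D.diagonalSubgroup F := by
      have hid : SamePerm D T (X.tw.eword e) [] := by
        refine samePerm_nil_of_negSet X.cert X.full (X.comb.eword_word X.cert he)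
          (Finset.eq_empty_iff_forall_notMem.2 fun r hr => ?_)
        obtain ⟨h1, h2, h3⟩ := mem_negSet.1 hr
        obtain ⟨y, hyG, hyU, hy1, hyV⟩ := X.exists_moved he hd h1 h2 h3
        have hy' : c⁻¹ * y * c ∈ D.posUnipotent F := by
          have := (X.conj_pos_iff (x := y) (inv_mem hcB)).2 hyU
          rwa [inv_inv] at this
        have h4 := (h ⟨c⁻¹ * y * c, mul_mem (mul_mem (inv_mem hc.2) hyG) hc.2⟩).1 hy'
        have h5 : (g : GL D.Idx F) * (c⁻¹ * y * c) * (g : GL D.Idx F)⁻¹ ∈ D.posUnipotent F := h4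
        rw [eg, show b * n * c * (c⁻¹ * y * c) * (b * n * c)⁻¹ = b * (n * y * n⁻¹) * b⁻¹ by group,
          X.conj_pos_iff hb.1] at h5
        have h6 := (Subgroup.eq_bot_iff_forall _).1 (borel_inf_neg X.cert) _ ⟨Subgroup.mem_sup_left h5, hyV⟩
        rw [mul_inv_eq_one, mul_eq_left] at h6
        exact hy1 h6
      have h2 := same_of_perm X.cert X.full (F := F) (show IsWord D [] from fun i hi => absurd hi List.not_mem_nil)
        (X.comb.eword_word X.cert he) fun i hi => (hid _ (X.cert.spec.simp_lt i hi)).symm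
      have := mul_mem h2 hd
      simpa [wnu] using this
    rw [eg]
    exact mul_mem (mul_mem hb.1 (Subgroup.mem_sup_right hn_diag)) hcB
  · exact (X.conj_pos_iff h).symm

theorem exists_sylowT (p : ℕ) [Fact p.Prime] [CharP F p] :
    ∃ P : Sylow p ↥X.grp, (P : Subgroup ↥X.grp) = X.posT := by
  classical
  have hle : X.grp ≤ D.group F := fun g hg => hg.1
  obtain ⟨P₀, hP₀⟩ := exists_sylow X.cert X.full p (F := F)
  have hU : IsPGroup p ↥X.posT := by
    intro x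
    have hx : ((x : ↥X.grp) : GL D.Idx F) ∈ D.posUnipotent F := x.2
    obtain ⟨k, hk⟩ := P₀.isPGroup' ⟨⟨_, hle (x : ↥X.grp).2⟩, by rw [hP₀]; exact hx⟩
    exact ⟨k, Subtype.ext (Subtype.ext (congrArg
      (fun z : ↥(P₀ : Subgroup ↥(D.group F)) => ((z : ↥(D.group F)) : GL D.Idx F)) hk :))⟩
  obtain ⟨P, hUP⟩ := hU.exists_le_sylow
  refine ⟨P, le_antisymm ?_ hUP⟩
  by_contra hnle
  have hnil : Group.IsNilpotent ↥(P : Subgroup ↥X.grp) := P.isPGroup'.isNilpotent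
  have hne : X.posT.subgroupOf (P : Subgroup ↥X.grp) ≠ ⊤ := fun e => hnle (Subgroup.subgroupOf_eq_top.1 e)
  obtain ⟨x, hxN, hxU⟩ := SetLike.exists_of_lt
    (Group.normalizerCondition_of_isNilpotent (X.posT.subgroupOf (P : Subgroup ↥X.grp)) hne.lt_top)
  have hxB : (x : ↥X.grp) ∈ X.borT := by
    rw [← X.normalizer_posT]
    refine Subgroup.mem_normalizer_iff.2 fun y => ⟨fun hy => ?_, fun hy => ?_⟩
    · exact (Subgroup.mem_normalizer_iff.1 hxN ⟨y, hUP hy⟩).1 hy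
    · have hy' : y ∈ (P : Subgroup ↥X.grp) := by
        have := mul_mem (mul_mem (inv_mem x.2) (hUP hy)) x.2
        simpa [mul_assoc] using this
      exact (Subgroup.mem_normalizer_iff.1 hxN ⟨y, hy'⟩).2 hy
  obtain ⟨u, hu, huG, d, hd, hdG, e⟩ := X.borel_split hxB (x : ↥X.grp).2
  have hdP : (⟨d, hdG⟩ : ↥X.grp) ∈ (P : Subgroup ↥X.grp) := by
    rw [show (⟨d, hdG⟩ : ↥X.grp) = (⟨u, huG⟩ : ↥X.grp)⁻¹ * x from
      Subtype.ext (eq_inv_mul_iff_mul_eq.2 e.symm)]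
    exact mul_mem (inv_mem (hUP hu)) x.2
  obtain ⟨k, hk⟩ := P.isPGroup' ⟨⟨d, hdG⟩, hdP⟩
  have hk' : d ^ p ^ k = 1 :=
    congrArg (fun z : ↥(P : Subgroup ↥X.grp) => ((z : ↥X.grp) : GL D.Idx F)) hk
  have h1 : d ^ Nat.card ↥(D.diagonalSubgroup F) = 1 :=
    congrArg Subtype.val (pow_card_eq_one' (x := (⟨d, hd⟩ : ↥(D.diagonalSubgroup F))))
  have hcop : Nat.Coprime (p ^ k) (Nat.card ↥(D.diagonalSubgroup F)) := by
    refine Nat.Coprime.coprime_dvd_right (card_diagonal_dvd X.cert) (Nat.Coprime.pow k _ ?_)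
    refine (Nat.Prime.coprime_iff_not_dvd Fact.out).2 fun h => ?_
    haveI := Fintype.ofFinite F
    obtain ⟨a, hp', hq⟩ := FiniteField.card F p
    rw [← Nat.card_eq_fintype_card] at hq
    have hpq : p ∣ Nat.card F := hq ▸ dvd_pow_self p a.ne_zero
    have h1 : 1 ≤ Nat.card F := Nat.card_pos
    have : p ∣ Nat.card F - (Nat.card F - 1) := Nat.dvd_sub hpq h
    rw [show Nat.card F - (Nat.card F - 1) = 1 by omega] at this
    exact hp'.not_dvd_one this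
  have hd1 : d = 1 := by
    have := pow_gcd_eq_one.2 ⟨hk', h1⟩
    rwa [Nat.coprime_iff_gcd_eq_one.1 hcop, pow_one] at this
  apply hxU
  show ((x : ↥X.grp) : GL D.Idx F) ∈ D.posUnipotent F
  show X.grp.subtype (x : ↥X.grp) ∈ D.posUnipotent F
  rw [e, hd1, mul_one]; exact hu

/-- A longest representative exchanges `U` and `V`. -/
theorem exists_longRep : ∃ W : ↥X.grp, ∀ x : GL D.Idx F,
    ((W : GL D.Idx F) * x * (W : GL D.Idx F)⁻¹ ∈ D.negUnipotent F ↔ x ∈ D.posUnipotent F) ∧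
    ((W : GL D.Idx F) * x * (W : GL D.Idx F)⁻¹ ∈ D.posUnipotent F ↔ x ∈ D.negUnipotent F) ∧
    ∃ e < X.tw.elts.length, (wnu X.cert F (X.tw.eword e))⁻¹ * (W : GL D.Idx F) ∈ D.diagonalSubgroup F ∧
      ∀ s < D.nroots, D.nroots ≤ 2 * s → 2 * wperm T (X.tw.eword e) s < D.nroots := by
  obtain ⟨e, he, hl⟩ := X.comb.exists_long_elt X.cert X.full
  obtain ⟨n, hn, hd⟩ := X.ok.exists_fixed_rep X.cert X.comb he
  refine ⟨⟨n, hn⟩, fun x => ?_⟩
  have hw := X.comb.eword_word X.cert he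
  set w := wnu X.cert F (X.tw.eword e)
  have hy := fun z : GL D.Idx F => allNeg_conj X.cert X.full hw hl (x := z)
  have hflip : ∀ z : GL D.Idx F, (w * z * w⁻¹ ∈ D.negUnipotent F ↔ z ∈ D.posUnipotent F) ∧
      (w * z * w⁻¹ ∈ D.posUnipotent F ↔ z ∈ D.negUnipotent F) := fun z =>
    ⟨⟨fun h => by simpa [mul_assoc, w] using (hy _).2.2.2 h, (hy z).1⟩,
      ⟨fun h => by simpa [mul_assoc, w] using (hy _).2.2.1 h, (hy z).2.1⟩⟩
  have e1 : n * x * n⁻¹ = w * ((w⁻¹ * n) * x * (w⁻¹ * n)⁻¹) * w⁻¹ := by group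
  refine ⟨?_, ?_, e, he, hd, hl⟩
  · show n * x * n⁻¹ ∈ _ ↔ _
    rw [e1, (hflip _).1]
    exact (Subgroup.mem_normalizer_iff.1 (diag_le_normalizer X.cert hd) x).symm
  · show n * x * n⁻¹ ∈ _ ↔ _
    rw [e1, (hflip _).2]
    exact (Subgroup.mem_normalizer_iff.1 (neg_conj_diag X.cert hd) x).symm

theorem negT_conj_iff {W : ↥X.grp} (hW : ∀ x : GL D.Idx F,
    ((W : GL D.Idx F) * x * (W : GL D.Idx F)⁻¹ ∈ D.negUnipotent F ↔ x ∈ D.posUnipotent F)) (y : ↥X.grp) :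
    y ∈ X.negT ↔ W⁻¹ * y * W ∈ X.posT := by
  rw [Subgroup.mem_subgroupOf, Subgroup.mem_subgroupOf, ← hW]
  simp [mul_assoc]

/-- An element of the group normalising `U` and `V` is in the torus. -/
theorem mem_diag_of_normalizes {g : ↥X.grp} (hU : g ∈ Subgroup.normalizer (X.posT : Set ↥X.grp))
    (hV : g ∈ Subgroup.normalizer (X.negT : Set ↥X.grp)) : (g : GL D.Idx F) ∈ D.diagonalSubgroup F := by
  obtain ⟨W, hW⟩ := X.exists_longRep
  rw [X.normalizer_posT, Subgroup.mem_subgroupOf] at hU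
  obtain ⟨u, hu, huG, d, hd, hdG, e⟩ := X.borel_split hU g.2
  have hu' : (⟨u, huG⟩ : ↥X.grp) ∈ Subgroup.normalizer (X.negT : Set ↥X.grp) := by
    rw [show (⟨u, huG⟩ : ↥X.grp) = g * (⟨d, hdG⟩ : ↥X.grp)⁻¹ from Subtype.ext (by simp [e])]
    refine mul_mem hV (inv_mem (Subgroup.mem_normalizer_iff.2 fun y => ?_))
    exact Subgroup.mem_normalizer_iff.1 (neg_conj_diag X.cert hd) (y : GL D.Idx F)
  have hn : W⁻¹ * ⟨u, huG⟩ * W ∈ Subgroup.normalizer (X.posT : Set ↥X.grp) := by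
    refine Subgroup.mem_normalizer_iff.2 fun y => ?_
    have h1 := X.negT_conj_iff (fun x => (hW x).1) (W * y * W⁻¹)
    rw [show W⁻¹ * (W * y * W⁻¹) * W = y by group] at h1
    rw [← h1, Subgroup.mem_normalizer_iff.1 hu' (W * y * W⁻¹), X.negT_conj_iff fun x => (hW x).1]
    exact iff_of_eq (congrArg (· ∈ X.posT) (by group))
  rw [X.normalizer_posT, Subgroup.mem_subgroupOf] at hn
  obtain ⟨-, -, e', he', hdW, -⟩ := hW 1
  have hWN := X.mono_of_rep he' hdW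
  obtain ⟨a, ha, d', hd', ea⟩ := (mem_borel X.cert).1 hn
  let w : GL D.Idx F := W
  have ea' : u = (w * a * w⁻¹) * (w * d' * w⁻¹) := by
    have : w⁻¹ * u * w = a * d' := ea
    calc u = w * (w⁻¹ * u * w) * w⁻¹ := by group
      _ = _ := by rw [this]; group
  have hv : w * a * w⁻¹ ∈ D.negUnipotent F := (hW a).1.2 ha
  have hd'' := (conj_mem_diag X.cert hWN hd').1
  have h1 : w * a * w⁻¹ = 1 := (Subgroup.eq_bot_iff_forall _).1 (borel_inf_neg X.cert) _
    ⟨by rw [show w * a * w⁻¹ = u * (w * d' * w⁻¹)⁻¹ by rw [ea']; group]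
        exact Subgroup.mul_mem _ (Subgroup.mem_sup_left hu) (Subgroup.inv_mem _ (Subgroup.mem_sup_right hd'')), hv⟩
  rw [h1, one_mul] at ea'
  have h2 := (Subgroup.eq_bot_iff_forall _).1 (pos_inf_diag X.cert) u ⟨hu, ea' ▸ hd''⟩
  rw [e, h2, one_mul]; exact hd

/-- After an inner adjustment both maximal unipotent subgroups are fixed. -/
theorem exists_inner_normaliseT (θ : MulAut ↥X.grp) : ∃ x : ↥X.grp,
    AutKeeps (MulAut.conj x * θ) X.posT ∧ AutKeeps (MulAut.conj x * θ) X.negT := by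
  classical
  obtain ⟨p, hp⟩ := CharP.exists F
  haveI : Fact p.Prime := ⟨(CharP.char_is_prime_or_zero F p).resolve_right (CharP.char_ne_zero_of_finite F p)⟩
  obtain ⟨P, hP⟩ := X.exists_sylowT p
  obtain ⟨x₁, hx₁⟩ := MulAction.exists_smul_eq ↥X.grp (θ • P) P
  let θ₁ : MulAut ↥X.grp := MulAut.conj x₁ * θ
  have hsm : (θ₁ • P : Sylow p ↥X.grp) = P := by
    show (MulAut.conj x₁ * θ) • P = P
    rw [mul_smul]; exact hx₁
  have hU : AutKeeps θ₁ X.posT := fun g => by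
    rw [← hP]
    have h : θ₁ g ∈ ((θ₁ • P : Sylow p ↥X.grp) : Subgroup ↥X.grp) ↔
        g ∈ (P : Subgroup ↥X.grp) := Subgroup.smul_mem_pointwise_smul_iff
    rwa [hsm] at h
  obtain ⟨W, hW⟩ := X.exists_longRep
  obtain ⟨e, he, hall⟩ := X.ok.bruhat_fixed X.cert X.full X.comb (θ₁ W).2
  obtain ⟨n, hn, hd⟩ := X.ok.exists_fixed_rep X.cert X.comb he
  obtain ⟨b, hb, c, hc, eg⟩ := hall n hn hd
  have hcB := signPart_le_borel X.cert X.full _ true hc.1
  have hlong : ∀ s < D.nroots, D.nroots ≤ 2 * s → 2 * wperm T (X.tw.eword e) s < D.nroots := fun s hs hsp => by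
    by_contra hpos
    obtain ⟨y, hyG, hyU, hy1, hyk⟩ := X.exists_kept he hd hs hsp (by omega)
    have hy'G : c⁻¹ * y * c ∈ X.grp := mul_mem (mul_mem (inv_mem hc.2) hyG) hc.2
    have hy' : c⁻¹ * y * c ∈ D.posUnipotent F := by
      have := (X.conj_pos_iff (x := y) (inv_mem hcB)).2 hyU
      rwa [inv_inv] at this
    obtain ⟨y₀, hy₀⟩ := θ₁.surjective ⟨c⁻¹ * y * c, hy'G⟩
    have h1 : y₀ ∈ X.posT := (hU y₀).1 (by rw [hy₀]; exact hy')
    have h2 : W * y₀ * W⁻¹ ∈ X.posT := (hU _).1 (by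
      rw [map_mul, map_mul, map_inv, hy₀, Subgroup.mem_subgroupOf]
      show (θ₁ W : GL D.Idx F) * (c⁻¹ * y * c) * (θ₁ W : GL D.Idx F)⁻¹ ∈ D.posUnipotent F
      rw [eg, show b * n * c * (c⁻¹ * y * c) * (b * n * c)⁻¹ = b * (n * y * n⁻¹) * b⁻¹ by group,
        X.conj_pos_iff hb.1]
      exact hyk)
    have h3 : W * y₀ * W⁻¹ = 1 := Subtype.ext ((Subgroup.eq_bot_iff_forall _).1 (borel_inf_neg X.cert) _
      ⟨Subgroup.mem_sup_left h2, (hW _).1.2 h1⟩)
    rw [mul_inv_eq_one, mul_eq_left] at h3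
    rw [h3, map_one] at hy₀
    have h5 : c⁻¹ * y * c = 1 := (congrArg Subtype.val hy₀).symm
    exact hy1 (by rw [← mul_left_inj c, ← mul_right_inj c⁻¹, ← mul_assoc, h5]; group)
  have hw := X.comb.eword_word X.cert he
  have hn' : ∀ x : GL D.Idx F, n⁻¹ * x * n ∈ D.posUnipotent F ↔ x ∈ D.negUnipotent F := fun x => by
    set w := wnu X.cert F (X.tw.eword e)
    have hy := fun z : GL D.Idx F => allNeg_conj X.cert X.full hw hlong (x := z)
    have h1 : n⁻¹ * x * n = (w⁻¹ * n)⁻¹ * (w⁻¹ * x * w) * ((w⁻¹ * n)⁻¹)⁻¹ := by group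
    rw [h1, ← Subgroup.mem_normalizer_iff.1 (diag_le_normalizer X.cert (inv_mem hd))]
    exact ⟨fun h => by simpa [mul_assoc, w] using (hy _).1 h, (hy x).2.2.2⟩
  let bb : ↥X.grp := ⟨b, hb.2⟩
  have hbU : bb⁻¹ ∈ Subgroup.normalizer (X.posT : Set ↥X.grp) := by
    rw [X.normalizer_posT]; exact inv_mem hb.1
  refine ⟨bb⁻¹ * x₁, fun y => ?_, fun y => ?_⟩ <;> rw [map_mul, mul_assoc]
  · show bb⁻¹ * θ₁ y * (bb⁻¹)⁻¹ ∈ X.posT ↔ y ∈ X.posT
    rw [← Subgroup.mem_normalizer_iff.1 hbU, hU]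
  · show bb⁻¹ * θ₁ y * (bb⁻¹)⁻¹ ∈ X.negT ↔ y ∈ X.negT
    rw [X.negT_conj_iff (fun x => (hW x).1) y, ← hU, map_mul, map_mul, map_inv, Subgroup.mem_subgroupOf,
      Subgroup.mem_subgroupOf]
    show b⁻¹ * (θ₁ y : GL D.Idx F) * b⁻¹⁻¹ ∈ D.negUnipotent F ↔
      (θ₁ W : GL D.Idx F)⁻¹ * (θ₁ y : GL D.Idx F) * (θ₁ W : GL D.Idx F) ∈ D.posUnipotent F
    rw [eg, show (b * n * c)⁻¹ * (θ₁ y : GL D.Idx F) * (b * n * c) =
      c⁻¹ * (n⁻¹ * (b⁻¹ * (θ₁ y : GL D.Idx F) * b) * n) * c⁻¹⁻¹ by group, X.conj_pos_iff (inv_mem hcB), hn', inv_inv]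

end TwCtx

end Cfsg.Lib.Chev
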