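import Cfsg.Agent.Lib.Chev.TwAutOut
import Cfsg.Agent.Lib.Chev.TwD4
import Cfsg.Agent.Lib.Chev.TwE6
import Cfsg.Agent.Lib.Chev.AutTypes

/-! The outer automorphism groups of ³D₄(q) and ²E₆(q). -/

set_option autoImplicit false
set_option linter.unusedSectionVars false
set_option maxRecDepth 100000

namespace Cfsg.Lib.Chev

open Cfsg.Lie

theorem noGraphD4 : NoGraph tblD4 twD4 := by unfold NoGraph; decide +kernel
theorem noGraphE6 : NoGraph tblE6 twE6 := by unfold NoGraph; decide +kernel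
theorem longFlipD4 : TwCtx.chkLongFlip tblD4 twD4 = true := by decide +kernel
theorem longFlipE6 : TwCtx.chkLongFlip tblE6 twE6 = true := by decide +kernel
theorem twChainD4 : chkTwChain tblD4 twD4 3 = true := by decide +kernel
theorem twChainE6 : chkTwChain tblE6 twE6 2 = true := by decide +kernel

variable {K : Type*} [Field K] [Fintype K] {q : ℕ}

/-- The data of ³D₄(q). -/
theorem exists_ctxD4 (hq : IsPrimePow q) (hK : Fintype.card K = q ^ 3) :
    ∃ X : TwCtx chevD4 tblD4 K, Cfsg.Lie.twistedD4 K q = X.grp ∧ X.AutChecks ∧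
      Nat.card ↥((torusHom chevD4 tblD4 K).ker ⊓ twFixPar X.symOK X.frob X.cert) = 1 := by
  have hq2 : 2 ≤ q := hq.two_le
  have hK' : Nat.card K = q ^ 3 := by rw [Nat.card_eq_fintype_card]; exact hK
  obtain ⟨f, hf, hit, hk⟩ := exists_frobQ hq (by norm_num) hK'
  have hZ := fun c => hZD4 hk c
  have h := twSimplyD4.twOK certD4C symOKD4_tri f fullCertD4 twCombD4
  have hgen := twSimplyD4.fixed_eq_closure certD4C symOKD4_tri f fullCertD4 twCombD4 twLinkedD4 hZ
  have heq : Cfsg.Lie.twistedD4 K q = h.fixed certD4C := by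
    rw [hgen, Cfsg.Lie.twistedD4, ChevalleyDatum.genSubgroup]
    congr 1
    have b0 : twD4.base 0 = [18, 13, 12] := rfl
    have b1 : twD4.base 1 = [14] := rfl
    have n0 : ([18, 13, 12] : List ℕ).map tblD4.neg = [5, 10, 11] := by decide +kernel
    have n1 : ([14] : List ℕ).map tblD4.neg = [9] := by decide +kernel
    have v1 : ∀ t : K, f^[(twD4.orb 1).length] t = t ↔ t ^ q = t := fun t => by
      rw [show (twD4.orb 1).length = 1 from rfl, hit, pow_one]
    have v0 : ∀ t : K, f^[(twD4.orb 0).length] t = t := fun t => hk t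
    have hcoe : ∀ (r : ℕ) (t : K), ((orbEl certD4C f [r] t : GL chevD4.Idx K) : Matrix chevD4.Idx chevD4.Idx K) =
        chevD4.wordMat K [(r, t)] := fun r t => by simp [orbEl, ChevalleyDatum.wordMat, coe_xg]
    have hcoe3 : ∀ (r s u : ℕ) (t : K), ((orbEl certD4C f [r, s, u] t : GL chevD4.Idx K) :
        Matrix chevD4.Idx chevD4.Idx K) = chevD4.wordMat K [(r, t), (s, t ^ q), (u, t ^ (q ^ 2))] := fun r s u t => by
      simp [orbEl, ChevalleyDatum.wordMat, coe_xg, hf, ← pow_mul, ← sq, mul_assoc]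
    ext g
    constructor
    · rintro ⟨w, hw, hg⟩
      rcases hw with ⟨t, ht, r, hr, rfl⟩ | ⟨t, rs, hr, rfl⟩
      · simp only [List.mem_cons, List.not_mem_nil, or_false] at hr
        rcases hr with rfl | rfl
        · exact ⟨1, by decide, t, (v1 t).2 ht, Or.inl (Units.ext (by rw [hg, b1, hcoe]; rfl))⟩
        · exact ⟨1, by decide, t, (v1 t).2 ht, Or.inr (Units.ext (by rw [hg, b1, n1, hcoe]; rfl))⟩
      · simp only [List.mem_cons, List.not_mem_nil, or_false] at hr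
        rcases hr with rfl | rfl
        · exact ⟨0, by decide, t, v0 t, Or.inl (Units.ext (by rw [hg, b0, hcoe3]; rfl))⟩
        · exact ⟨0, by decide, t, v0 t, Or.inr (Units.ext (by rw [hg, b0, n0, hcoe3]; rfl))⟩
    · rintro ⟨J, hJ, t, ht, hg⟩
      have : J = 0 ∨ J = 1 := by
        have : J < 2 := hJ
        omega
      rcases this with rfl | rfl
      · rcases hg with rfl | rfl
        · exact ⟨_, Or.inr ⟨t, (d4p1, d4p3, d4p4), by simp, rfl⟩, by rw [b0, hcoe3]; rfl⟩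
        · exact ⟨_, Or.inr ⟨t, (d4m1, d4m3, d4m4), by simp, rfl⟩, by rw [b0, n0, hcoe3]; rfl⟩
      · rcases hg with rfl | rfl
        · exact ⟨_, Or.inl ⟨t, (v1 t).1 ht, d4p2, by simp, rfl⟩, by rw [b1, hcoe]; rfl⟩
        · exact ⟨_, Or.inl ⟨t, (v1 t).1 ht, d4m2, by simp, rfl⟩, by rw [b1, n1, hcoe]; rfl⟩
  let X : TwCtx chevD4 tblD4 K := ⟨symD4_3, twD4, 3, f, q, certD4C, fullCertD4, symOKD4_tri, twCombD4, twLinkedD4,
    twSimplyD4, hq, hK', by norm_num, hit, hZ⟩
  have hlen : chevD4.chain.toList.length = chevD4.nroots := autDataD4.hlen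
  refine ⟨X, heq, ⟨(by decide : 0 < twD4.norb), longFlipD4, autDataD4.commNeg, noGraphD4, twChainD4, hlen, autDataD4.step,
    autDataD4.delta⟩, ?_⟩
  obtain ⟨f', h', e', -, hd, -, -⟩ := twistedD4_facts hq hK
  have e1 := twSimplyD4.card_diag_fixed certD4C symOKD4_tri f fullCertD4 twCombD4 hZ
  have e2 := twSimplyD4.card_par_eq certD4C symOKD4_tri f fullCertD4 twCombD4 twLinkedD4 hq2 hK' hit
  rw [← heq, e', hd, e2] at e1
  have e3 : (∏ J : Fin twD4.norb, (q ^ (twD4.orb J).length - 1)) = (q - 1) * (q ^ 3 - 1) := by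
    show (∏ J : Fin 2, (q ^ (twD4.orb J).length - 1)) = _
    rw [Fin.prod_univ_two, show (twD4.orb (0 : Fin 2)).length = 3 from rfl,
      show (twD4.orb (1 : Fin 2)).length = 1 from rfl, pow_one, mul_comm]
  rw [e3] at e1
  have h3 : 1 < q ^ 3 := Nat.one_lt_pow (by norm_num) hq2
  exact (Nat.mul_eq_right (Nat.mul_ne_zero (by omega) (by omega))).1 e1

/-- The data of ²E₆(q). -/
theorem exists_ctxE6 (hq : IsPrimePow q) (hK : Fintype.card K = q ^ 2) :
    ∃ X : TwCtx chevE6 tblE6 K, Cfsg.Lie.twistedE6 K q = X.grp ∧ X.AutChecks ∧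
      Nat.card ↥((torusHom chevE6 tblE6 K).ker ⊓ twFixPar X.symOK X.frob X.cert) = Nat.gcd 3 (q + 1) := by
  have hq2 : 2 ≤ q := hq.two_le
  have hK' : Nat.card K = q ^ 2 := by rw [Nat.card_eq_fintype_card]; exact hK
  obtain ⟨f, hf, hit, hk⟩ := exists_frobQ hq (by norm_num) hK'
  have hZ := fun c => hZE6 hk c
  have h := twSimplyE6.twOK certE6C symOKE6_gr f fullCertE6 twCombE6
  have hgen := twSimplyE6.fixed_eq_closure certE6C symOKE6_gr f fullCertE6 twCombE6 twLinkedE6 hZ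
  have heq : Cfsg.Lie.twistedE6 K q = h.fixed certE6C := by
    rw [hgen, Cfsg.Lie.twistedE6, ChevalleyDatum.genSubgroup]
    congr 1
    have b0 : twE6.base 0 = [56, 36] := rfl
    have b1 : twE6.base 1 = [42, 37] := rfl
    have b2 : twE6.base 2 = [39] := rfl
    have b3 : twE6.base 3 = [46] := rfl
    have n0 : ([56, 36] : List ℕ).map tblE6.neg = [15, 35] := by decide +kernel
    have n1 : ([42, 37] : List ℕ).map tblE6.neg = [29, 34] := by decide +kernel
    have n2 : ([39] : List ℕ).map tblE6.neg = [32] := by decide +kernel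
    have n3 : ([46] : List ℕ).map tblE6.neg = [25] := by decide +kernel
    have v2 : ∀ (J : ℕ), J = 2 ∨ J = 3 → ∀ t : K, f^[(twE6.orb J).length] t = t ↔ t ^ q = t := by
      rintro J (rfl | rfl) t
      · rw [show (twE6.orb 2).length = 1 from rfl, hit, pow_one]
      · rw [show (twE6.orb 3).length = 1 from rfl, hit, pow_one]
    have v0 : ∀ (J : ℕ), J = 0 ∨ J = 1 → ∀ t : K, f^[(twE6.orb J).length] t = t := by
      rintro J (rfl | rfl) t <;> exact hk t
    have hcoe : ∀ (r : ℕ) (t : K), ((orbEl certE6C f [r] t : GL chevE6.Idx K) : Matrix chevE6.Idx chevE6.Idx K) =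
        chevE6.wordMat K [(r, t)] := fun r t => by simp [orbEl, ChevalleyDatum.wordMat, coe_xg]
    have hcoe2 : ∀ (r s : ℕ) (t : K), ((orbEl certE6C f [r, s] t : GL chevE6.Idx K) :
        Matrix chevE6.Idx chevE6.Idx K) = chevE6.wordMat K [(r, t), (s, t ^ q)] := fun r s t => by
      simp [orbEl, ChevalleyDatum.wordMat, coe_xg, hf]
    ext g
    constructor
    · rintro ⟨w, hw, hg⟩
      rcases hw with ⟨t, ht, r, hr, rfl⟩ | ⟨t, rs, hr, rfl⟩
      · simp only [List.mem_cons, List.not_mem_nil, or_false] at hr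
        rcases hr with rfl | rfl | rfl | rfl
        · exact ⟨3, by decide, t, (v2 3 (by simp) t).2 ht, Or.inl (Units.ext (by rw [hg, b3, hcoe]; rfl))⟩
        · exact ⟨3, by decide, t, (v2 3 (by simp) t).2 ht, Or.inr (Units.ext (by rw [hg, b3, n3, hcoe]; rfl))⟩
        · exact ⟨2, by decide, t, (v2 2 (by simp) t).2 ht, Or.inl (Units.ext (by rw [hg, b2, hcoe]; rfl))⟩
        · exact ⟨2, by decide, t, (v2 2 (by simp) t).2 ht, Or.inr (Units.ext (by rw [hg, b2, n2, hcoe]; rfl))⟩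
      · simp only [List.mem_cons, List.not_mem_nil, or_false] at hr
        rcases hr with rfl | rfl | rfl | rfl
        · exact ⟨0, by decide, t, v0 0 (by simp) t, Or.inl (Units.ext (by rw [hg, b0, hcoe2]; rfl))⟩
        · exact ⟨0, by decide, t, v0 0 (by simp) t, Or.inr (Units.ext (by rw [hg, b0, n0, hcoe2]; rfl))⟩
        · exact ⟨1, by decide, t, v0 1 (by simp) t, Or.inl (Units.ext (by rw [hg, b1, hcoe2]; rfl))⟩
        · exact ⟨1, by decide, t, v0 1 (by simp) t, Or.inr (Units.ext (by rw [hg, b1, n1, hcoe2]; rfl))⟩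
    · rintro ⟨J, hJ, t, ht, hg⟩
      have : J = 0 ∨ J = 1 ∨ J = 2 ∨ J = 3 := by
        have : J < 4 := hJ
        omega
      rcases this with rfl | rfl | rfl | rfl <;> rcases hg with rfl | rfl
      · exact ⟨_, Or.inr ⟨t, (e6p1, e6p6), by simp, rfl⟩, by rw [b0, hcoe2]; rfl⟩
      · exact ⟨_, Or.inr ⟨t, (e6m1, e6m6), by simp, rfl⟩, by rw [b0, n0, hcoe2]; rfl⟩
      · exact ⟨_, Or.inr ⟨t, (e6p3, e6p5), by simp, rfl⟩, by rw [b1, hcoe2]; rfl⟩
      · exact ⟨_, Or.inr ⟨t, (e6m3, e6m5), by simp, rfl⟩, by rw [b1, n1, hcoe2]; rfl⟩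
      · exact ⟨_, Or.inl ⟨t, (v2 2 (by simp) t).1 ht, e6p4, by simp, rfl⟩, by rw [b2, hcoe]; rfl⟩
      · exact ⟨_, Or.inl ⟨t, (v2 2 (by simp) t).1 ht, e6m4, by simp, rfl⟩, by rw [b2, n2, hcoe]; rfl⟩
      · exact ⟨_, Or.inl ⟨t, (v2 3 (by simp) t).1 ht, e6p2, by simp, rfl⟩, by rw [b3, hcoe]; rfl⟩
      · exact ⟨_, Or.inl ⟨t, (v2 3 (by simp) t).1 ht, e6m2, by simp, rfl⟩, by rw [b3, n3, hcoe]; rfl⟩
  let X : TwCtx chevE6 tblE6 K := ⟨symE6_1, twE6, 2, f, q, certE6C, fullCertE6, symOKE6_gr, twCombE6, twLinkedE6,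
    twSimplyE6, hq, hK', by norm_num, hit, hZ⟩
  have hlen : chevE6.chain.toList.length = chevE6.nroots := autDataE6.hlen
  refine ⟨X, heq, ⟨(by decide : 0 < twE6.norb), longFlipE6, autDataE6.commNeg, noGraphE6, twChainE6, hlen, autDataE6.step,
    autDataE6.delta⟩, ?_⟩
  obtain ⟨f', h', e', -, hd, -, -⟩ := twistedE6_facts hq hK
  have e1 := twSimplyE6.card_diag_fixed certE6C symOKE6_gr f fullCertE6 twCombE6 hZ
  have e2 := twSimplyE6.card_par_eq certE6C symOKE6_gr f fullCertE6 twCombE6 twLinkedE6 hq2 hK' hit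
  rw [← heq, e', e2] at e1
  have e3 : (∏ J : Fin twE6.norb, (q ^ (twE6.orb J).length - 1)) = (q - 1) ^ 2 * (q ^ 2 - 1) ^ 2 := by
    show (∏ J : Fin 4, (q ^ (twE6.orb J).length - 1)) = _
    rw [Fin.prod_univ_four, show (twE6.orb (0 : Fin 4)).length = 2 from rfl,
      show (twE6.orb (1 : Fin 4)).length = 2 from rfl, show (twE6.orb (2 : Fin 4)).length = 1 from rfl,
      show (twE6.orb (3 : Fin 4)).length = 1 from rfl, pow_one]
    ring
  rw [e3, ← hd] at e1
  exact Nat.eq_of_mul_eq_mul_right Nat.card_pos e1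

/-- The order of the outer automorphism group of ³D₄(q). -/
theorem card_out_twistedD4 (p f : ℕ) [Fact p.Prime] [CharP K p] (hK : Fintype.card K = p ^ (3 * f)) (hf : 1 ≤ f) :
    Nat.card (Cfsg.Out ↥(Cfsg.Lie.twistedD4 K (p ^ f))) = 3 * f := by
  obtain ⟨X, e, A, hker⟩ := exists_ctxD4 (q := p ^ f) (K := K)
    ((Fact.out : p.Prime).isPrimePow.pow (by omega)) (by rw [hK, ← pow_mul, mul_comm])
  rw [e, X.card_outT A, hker, one_mul]
  exact (card_ringAut_field p (3 * f) (by rw [Nat.card_eq_fintype_card]; exact hK)).2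

/-- The order of the outer automorphism group of ²E₆(q). -/
theorem card_out_twistedE6 (p f : ℕ) [Fact p.Prime] [CharP K p] (hK : Fintype.card K = p ^ (2 * f)) (hf : 1 ≤ f) :
    Nat.card (Cfsg.Out ↥(Cfsg.Lie.twistedE6 K (p ^ f))) = Nat.gcd 3 (p ^ f + 1) * (2 * f) := by
  obtain ⟨X, e, A, hker⟩ := exists_ctxE6 (q := p ^ f) (K := K)
    ((Fact.out : p.Prime).isPrimePow.pow (by omega)) (by rw [hK, ← pow_mul, mul_comm])
  rw [e, X.card_outT A, hker]
  congr 1
  exact (card_ringAut_field p (2 * f) (by rw [Nat.card_eq_fintype_card]; exact hK)).2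

end Cfsg.Lib.Chev
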