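import Cfsg.Agent.Lib.Chev.TwF4

/-! Collection in the positive unipotent group of F₄(2) and its twisted form. -/

set_option autoImplicit false
set_option maxRecDepth 100000

namespace Cfsg.Lib.Chev

open Cfsg.Lie

/-- Right multiplication of a reversed word by a generator, by collection. -/
def insColl (R : ℕ → ℕ → List ℕ) (S : ℕ → List ℕ) : ℕ → List ℕ → ℕ → List ℕ
  | 0, l, x => x :: l
  | _ + 1, [], x => [x]
  | n + 1, s :: l, x =>
    bif Nat.blt s x then x :: s :: l
    else bif Nat.beq s x then (S x).foldl (insColl R S n) l
    else (R s x).foldl (insColl R S n) (insColl R S n (insColl R S n l x) s)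

/-- Collection of a word. -/
def collWord (R : ℕ → ℕ → List ℕ) (S : ℕ → List ℕ) (w : List ℕ) : List ℕ := w.foldl (insColl R S 64) []

section
variable {G : Type*} [Monoid G] (g : ℕ → G) {R : ℕ → ℕ → List ℕ} {S : ℕ → List ℕ}
  (hR : ∀ s x, x < s → g s * g x = g x * g s * ((R s x).map g).prod)
  (hS : ∀ x, g x * g x = ((S x).map g).prod)

include hR hS in
theorem insColl_prod : ∀ (n : ℕ) (l : List ℕ) (x : ℕ),
    ((insColl R S n l x).reverse.map g).prod = (l.reverse.map g).prod * g x := by
  intro n
  induction n with
  | zero => intro l x; simp [insColl]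
  | succ n ih =>
    have hf : ∀ (w l : List ℕ), (((w.foldl (insColl R S n) l).reverse).map g).prod =
        (l.reverse.map g).prod * (w.map g).prod := by
      intro w
      induction w with
      | nil => simp
      | cons a w iw => intro l; rw [List.foldl_cons, iw, ih, List.map_cons, List.prod_cons, mul_assoc]
    intro l x
    cases l with
    | nil => simp [insColl]
    | cons s l =>
      unfold insColl
      cases h1 : Nat.blt s x
      · cases h2 : Nat.beq s x
        · have hlt : x < s := by
            have e1 : ¬ s < x := fun h => by simp [← Nat.blt_eq, h1] at h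
            have e2 : ¬ s = x := fun h => by rw [h, Nat.beq_refl] at h2; cases h2
            omega
          simp only [cond_false, hf, ih, List.reverse_cons, List.map_append, List.map_cons, List.map_nil,
            List.prod_append, List.prod_cons, List.prod_nil, mul_one, mul_assoc]
          rw [← mul_assoc (g x), ← hR s x hlt]
        · obtain rfl := Nat.eq_of_beq_eq_true h2
          simp only [cond_true, cond_false, hf, List.reverse_cons, List.map_append, List.map_cons, List.map_nil,
            List.prod_append, List.prod_cons, List.prod_nil, mul_one, mul_assoc, hS]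
      · simp [cond_true, mul_assoc]

include hR hS in
theorem collWord_prod (w : List ℕ) : ((collWord R S w).reverse.map g).prod = (w.map g).prod := by
  have hf : ∀ (w l : List ℕ), (((w.foldl (insColl R S 64) l).reverse).map g).prod =
      (l.reverse.map g).prod * (w.map g).prod := by
    intro w
    induction w with
    | nil => simp
    | cons a w iw => intro l; rw [List.foldl_cons, iw, insColl_prod g hR hS, List.map_cons, List.prod_cons, mul_assoc]
  rw [collWord, hf]
  simp

include hR hS in
theorem collWord_eq {v w : List ℕ} (h : collWord R S v = collWord R S w) : (v.map g).prod = (w.map g).prod := by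
  rw [← collWord_prod g hR hS v, ← collWord_prod g hR hS w, h]
end

/-- The roots produced modulo 2 when two root elements pass each other. -/
noncomputable def f4RootR (s x : ℕ) : List ℕ :=
  bif Nat.ble 24 x && Nat.blt s 48 then
    ((tTerms tblF4 x s).filter fun c => c.2.1 % 2 != 0).map Prod.fst
  else []

/-- A checkable form of the hypotheses of the commutator formula. -/
noncomputable def chkF4RootR : Bool :=
  allBelow (fun s => allBelow (fun x => !(Nat.ble 24 x && Nat.blt x s) ||
    (!Nat.beq s (tblF4.neg x) && ((tTerms tblF4 x s).all fun c => Nat.ble 24 c.1 && Nat.blt c.1 48))) 48) 48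

theorem chkF4RootR_ok : chkF4RootR = true := by decide +kernel

section
variable (K : Type*) [Field K]

/-- The positive root elements with coefficient one. -/
noncomputable def f4Gen (r : ℕ) : GL chevF4.Idx K := if 24 ≤ r ∧ r < 48 then xg certF4C r (1 : K) else 1

variable {K} [CharP K esymF4.p]

theorem f4Gen_mul_self (r : ℕ) : f4Gen K r * f4Gen K r = 1 := by
  unfold f4Gen
  split_ifs
  · rw [xg_add, show (1 : K) + 1 = 0 by rw [one_add_one_eq_two, f4_two_eq_zero], xg_zero]
  · rw [one_mul]

theorem f4Gen_swap {s x : ℕ} (h : x < s) :
    f4Gen K s * f4Gen K x = f4Gen K x * f4Gen K s * ((f4RootR s x).map (f4Gen K)).prod := by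
  by_cases hx : 24 ≤ x
  swap
  · have e : f4RootR s x = [] := by
      have : Nat.ble 24 x = false := Bool.eq_false_iff.2 fun h' => hx (Nat.le_of_ble_eq_true h')
      simp [f4RootR, this]
    simp [e, f4Gen, hx]
  by_cases hs : s < 48
  swap
  · have e : f4RootR s x = [] := by
      have : Nat.blt s 48 = false := Bool.eq_false_iff.2 fun h' => hs (Nat.blt_eq ▸ h')
      simp [f4RootR, this]
    simp [e, f4Gen, hs]
  have hxl : x < chevF4.nroots := by show x < 48; omega
  have hsl : s < chevF4.nroots := hs
  have hc := chkF4RootR_ok
  simp only [chkF4RootR, allBelow_iff] at hc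
  have hc' := hc s hs x (by omega)
  simp only [Bool.or_eq_true, Bool.not_eq_true', Bool.and_eq_false_iff, Bool.and_eq_true, List.all_eq_true,
    Nat.ble_eq, Nat.blt_eq] at hc'
  obtain ⟨hn, hmem⟩ := hc'.resolve_left (by
    rintro (h' | h')
    · exact absurd (Nat.ble_eq_true_of_le hx) (by simp [h'])
    · exact absurd ((Nat.blt_eq).symm ▸ h : Nat.blt x s = true) (by simp [h']))
  have hform := comm_formula fullCertF4.comm (F := K) (r := x) (s := s) hxl hsl (by omega)
    (fun e => by rw [e, Nat.beq_refl] at hn; exact Bool.noConfusion hn)
  have e : f4RootR s x = ((tTerms tblF4 x s).filter fun c => c.2.1 % 2 != 0).map Prod.fst := by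
    simp [f4RootR, Nat.ble_eq_true_of_le hx, ((Nat.blt_eq).symm ▸ hs : Nat.blt s 48 = true)]
  have hg : ∀ r, 24 ≤ r → r < 48 → f4Gen K r = xg certF4C r 1 := fun r h1 h2 => if_pos ⟨h1, h2⟩
  rw [e, hg s (by omega) hs, hg x hx (by omega)]
  refine Units.ext ?_
  have h0 := hform 1 1
  rw [ChevalleyDatum.commWord, commTerms_eq certF4C hxl hsl] at h0
  simp only [Units.val_mul, coe_xg]
  rw [h0]
  congr 1
  clear h0 e
  generalize tTerms tblF4 x s = l at hmem
  induction l with
  | nil => simp [ChevalleyDatum.wordMat]
  | cons c l ih =>
    rw [List.map_cons, wordMat_cons, ih fun d hd => hmem d (List.mem_cons_of_mem _ hd)]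
    obtain ⟨h1, h2⟩ := hmem c (List.mem_cons_self ..)
    haveI : CharP K 2 := inferInstanceAs (CharP K esymF4.p)
    have hneg : (-1 : K) = 1 := CharTwo.neg_eq 1
    simp only [hneg, one_pow, mul_one]
    by_cases hp : c.2.1 % 2 = 0
    · have e0 : (c.2.1 : K) = 0 := by
        rw [← Int.mul_ediv_add_emod c.2.1 2, hp]
        push_cast
        rw [f4_two_eq_zero, zero_mul, zero_add]
      rw [e0, x_zero', one_mul, List.filter_cons_of_neg (by simp [hp])]
    · rw [f4_odd_cast (show c.2.1 % 2 = 1 by omega), List.filter_cons_of_pos (by simp [hp]), List.map_cons,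
        List.map_cons, List.prod_cons, hg c.1 h1 h2, Units.val_mul, coe_xg]

theorem f4Gen_coll {v w : List ℕ} (h : collWord f4RootR (fun _ => []) v = collWord f4RootR (fun _ => []) w) :
    (v.map (f4Gen K)).prod = (w.map (f4Gen K)).prod :=
  collWord_eq (f4Gen K) (fun _ _ => f4Gen_swap) (fun x => by simpa using f4Gen_mul_self x) h
end

/-- Commutation table of the twelve generators of the twisted group over GF(2). -/
def titsR : List (List (List ℕ)) :=
  [[],
    [[3, 5, 9, 10]],
    [[4, 5, 6, 7, 8, 9, 10, 11], []],
    [[], [5, 6, 8, 9, 10, 11], [5, 7, 10]],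
    [[], [7, 8, 10], [7, 10, 11], []],
    [[8, 11], [], [], [7, 10, 11], [10]],
    [[4, 8, 10], [5], [], [], [], []],
    [[10], [], [], [], [], [], []],
    [[], [7, 10, 11], [7], [], [], [], [10], []],
    [[4], [], [], [8], [], [7], [11], [], []],
    [[], [], [], [], [], [], [], [], [], []],
    [[], [7], [], [10], [], [], [], [], [], [], []]]

/-- Squares of the twelve generators. -/
def titsS : List (List ℕ) := [[], [2], [], [4], [], [], [7], [], [], [10], [], []]

/-- Root words of the twelve generators. -/
def titsW : List (List ℕ) := [[33, 24], [27, 25, 28], [28, 30], [34, 26, 36], [36, 42], [37, 32], [35, 31, 40], [40, 46], [38, 43], [29, 41, 44], [44, 47], [39, 45]]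

/-- Commutation of two generators. -/
def titsRf (s x : ℕ) : List ℕ := (titsR.getD s []).getD x []

/-- Square of a generator. -/
def titsSf (x : ℕ) : List ℕ := titsS.getD x []

/-- Root word of a generator. -/
def titsWf (x : ℕ) : List ℕ := titsW.getD x []

/-- The relations hold in the root words. -/
noncomputable def chkTitsRels : Bool :=
  allBelow (fun s => allBelow (fun x => !Nat.blt x s ||
    collWord f4RootR (fun _ => []) (titsWf s ++ titsWf x) ==
      collWord f4RootR (fun _ => []) (titsWf x ++ titsWf s ++ (titsRf s x).flatMap titsWf)) 12) 12 &&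
  allBelow (fun x => collWord f4RootR (fun _ => []) (titsWf x ++ titsWf x) ==
      collWord f4RootR (fun _ => []) ((titsSf x).flatMap titsWf)) 12

theorem chkTitsRels_ok : chkTitsRels = true := by decide +kernel

/-- The word with the given bits. -/
def titsBits (m : ℕ) : List ℕ := (List.range 12).filter fun i => m.testBit i

/-- The parity of the four generators of order four. -/
def titsPar (m : ℕ) : Bool := (m.testBit 1 != m.testBit 3) != (m.testBit 6 != m.testBit 9)

/-- An odd element does not square to the identity. -/
noncomputable def chkTitsSquare (lo n : ℕ) : Bool :=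
  allBelow (fun k => !titsPar (lo + k) ||
    (let r := collWord titsRf titsSf (titsBits (lo + k) ++ titsBits (lo + k));
     let m := r.foldl (fun acc i => acc + 2 ^ i) 0;
     !Nat.beq m 0 && (Nat.blt m 4096 && (titsBits m).reverse == r))) n

theorem chkTitsSquare_probe : chkTitsSquare 0 128 = true := by decide +kernel

end Cfsg.Lib.Chev
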