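import Cfsg.Agent.Lib.Chev.TitsWord
import Cfsg.Agent.Lib.Chev.TitsInvol

/-! The parity on the Sylow 2-subgroup of ²F₄(2) is invariant under fusion. -/

set_option autoImplicit false
set_option maxRecDepth 100000

namespace Cfsg.Lib.Chev

open Cfsg.Lie

variable {K : Type*} [Field K] [CharP K esymF4.p]

/-- A word in the twelve generators. -/
def IsTitsWord (w : List ℕ) : Prop := ∀ i ∈ w, i < 12

theorem titsWPar_append (v w : List ℕ) : titsWPar (v ++ w) = (titsWPar v != titsWPar w) := by
  induction v with
  | nil => simp [titsWPar]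
  | cons a v ih => simp [titsWPar, ih]

theorem titsBits_word (m : ℕ) : IsTitsWord (titsBits m) := fun i hi => by
  have := (List.mem_filter.1 hi).1
  simpa using this

theorem titsWPar_bits {m : ℕ} (hm : m < 4096) : titsWPar (titsBits m) = titsPar m := by
  have h := titsBits_par
  rw [allBelow_iff] at h
  simpa using h m hm

theorem tits_closed {m i : ℕ} (hm : m < 4096) (hi : i < 12) :
    ∃ m' < 4096, (titsEv K) m * (titsGen K) i = (titsEv K) m' ∧ titsPar m' = (titsPar m != titsQ i) := by
  have key : ∀ lo, chkTitsClosed lo 512 = true → lo ≤ m → m < lo + 512 →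
      ∃ m' < 4096, (titsEv K) m * (titsGen K) i = (titsEv K) m' ∧ titsPar m' = (titsPar m != titsQ i) := by
    intro lo h h1 h2
    simp only [chkTitsClosed, allBelow_iff] at h
    have h3 := h (m - lo) (by omega) i hi
    rw [show lo + (m - lo) = m by omega] at h3
    simp only [Bool.and_eq_true, beq_iff_eq] at h3
    obtain ⟨e1, e2, e3⟩ := h3
    refine ⟨_, Nat.blt_eq ▸ e1, ?_, e3⟩
    have hc := collWord_prod (R := titsRf) (S := titsSf) (titsGen K) (fun _ _ h => titsGen_swap h) titsGen_sq
      (titsBits m ++ [i])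
    rw [← e2, List.reverse_reverse, List.map_append, List.prod_append, List.map_cons, List.map_nil,
      List.prod_cons, List.prod_nil, mul_one] at hc
    exact hc.symm
  by_cases m < 512
  · exact key _ chkTitsClosed_0 (by omega) (by omega)
  by_cases m < 1024
  · exact key _ chkTitsClosed_1 (by omega) (by omega)
  by_cases m < 1536
  · exact key _ chkTitsClosed_2 (by omega) (by omega)
  by_cases m < 2048
  · exact key _ chkTitsClosed_3 (by omega) (by omega)
  by_cases m < 2560
  · exact key _ chkTitsClosed_4 (by omega) (by omega)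
  by_cases m < 3072
  · exact key _ chkTitsClosed_5 (by omega) (by omega)
  by_cases m < 3584
  · exact key _ chkTitsClosed_6 (by omega) (by omega)
  exact key _ chkTitsClosed_7 (by omega) (by omega)

theorem tits_word_normal {w : List ℕ} (hw : IsTitsWord w) :
    ∃ m < 4096, (w.map (titsGen K)).prod = (titsEv K) m ∧ titsWPar w = titsPar m := by
  induction w using List.reverseRecOn with
  | nil => exact ⟨0, by norm_num, by rw [titsEv_zero]; rfl, by decide⟩
  | append_singleton w i ih =>
    obtain ⟨m, hm, e, hp⟩ := ih fun j hj => hw j (List.mem_append_left _ hj)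
    obtain ⟨m', hm', e', hp'⟩ := tits_closed (K := K) hm (hw i (by simp))
    refine ⟨m', hm', ?_, ?_⟩
    · rw [List.map_append, List.prod_append, e, List.map_cons, List.map_nil, List.prod_cons, List.prod_nil, mul_one, e']
    · rw [titsWPar_append, hp, hp']
      simp [titsWPar]

theorem titsWPar_congr {v w : List ℕ} (hv : IsTitsWord v) (hw : IsTitsWord w)
    (e : (v.map (titsGen K)).prod = (w.map (titsGen K)).prod) : titsWPar v = titsWPar w := by
  obtain ⟨a, ha, ea, pa⟩ := tits_word_normal (K := K) hv
  obtain ⟨b, hb, eb, pb⟩ := tits_word_normal (K := K) hw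
  rw [ea, eb] at e
  rw [pa, pb, titsEv_inj (K := K) ha hb e]

/-- The word of the given bits in angular order. -/
def titsABits (l : List ℕ) (m : ℕ) : List ℕ := (l.flatMap titsClsGens).filter fun i => m.testBit i

theorem titsABits_word (l : List ℕ) (m : ℕ) : IsTitsWord (titsABits l m) := fun i hi => by
  obtain ⟨c, -, hc⟩ := List.mem_flatMap.1 (List.mem_filter.1 hi).1
  by_cases h : c < 8
  · interval_cases c <;> simp [titsClsGens] at hc <;> omega
  · rw [titsClsGens, List.getD_eq_default _ _ (by simpa using not_lt.1 h)] at hc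
    simp at hc

theorem lprod_append' (l l' : List ℕ) (t : ℕ → K) :
    lprod certF4C (l ++ l') t = lprod certF4C l t * lprod certF4C l' t := by
  simp [lprod]

theorem titsABits_lprod (m : ℕ) : ∀ l : List ℕ, (∀ c ∈ l, c < 8) →
    ((titsABits l m).map (titsGen K)).prod = lprod certF4C (l.flatMap titsClsRoots) (titsCoef K m) := by
  intro l
  induction l with
  | nil => intro _; rfl
  | cons c l ih =>
    intro hl
    rw [titsABits, List.flatMap_cons, List.filter_append, List.map_append, List.prod_append, List.flatMap_cons,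
      lprod_append', ← ih fun x hx => hl x (List.mem_cons_of_mem _ hx), titsABits]
    congr 1
    have ec : ∀ r, 24 ≤ r ∧ r < 48 → xg certF4C r (1 : K) * xg certF4C r 1 = 1 := fun r _ => by
      rw [xg_add, show (1 : K) + 1 = 0 by rw [one_add_one_eq_two, f4_two_eq_zero], xg_zero]
    have hc := hl c (List.mem_cons_self ..)
    interval_cases c
    · cases h : m.testBit 0 <;> simp [titsClsGens, titsClsRoots, lprod, titsCoef, h, xg_zero, titsGen,
        titsWf, titsW, f4Gen]
    · cases h : m.testBit 1 <;> cases h' : m.testBit 2 <;> simp [titsClsGens, titsClsRoots, lprod, titsCoef, h, h',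
        xg_zero, titsGen, titsWf, titsW, f4Gen, mul_assoc]
      rw [← mul_assoc (xg certF4C 28 1), ec 28 (by omega), one_mul]
    · cases h : m.testBit 3 <;> cases h' : m.testBit 4 <;> simp [titsClsGens, titsClsRoots, lprod, titsCoef, h, h',
        xg_zero, titsGen, titsWf, titsW, f4Gen, mul_assoc]
      rw [← mul_assoc (xg certF4C 36 1), ec 36 (by omega), one_mul]
    · cases h : m.testBit 5 <;> simp [titsClsGens, titsClsRoots, lprod, titsCoef, h, xg_zero, titsGen,
        titsWf, titsW, f4Gen]
    · cases h : m.testBit 6 <;> cases h' : m.testBit 7 <;> simp [titsClsGens, titsClsRoots, lprod, titsCoef, h, h',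
        xg_zero, titsGen, titsWf, titsW, f4Gen, mul_assoc]
      rw [← mul_assoc (xg certF4C 40 1), ec 40 (by omega), one_mul]
    · cases h : m.testBit 8 <;> simp [titsClsGens, titsClsRoots, lprod, titsCoef, h, xg_zero, titsGen,
        titsWf, titsW, f4Gen]
    · cases h : m.testBit 9 <;> cases h' : m.testBit 10 <;> simp [titsClsGens, titsClsRoots, lprod, titsCoef, h, h',
        xg_zero, titsGen, titsWf, titsW, f4Gen, mul_assoc]
      rw [← mul_assoc (xg certF4C 44 1), ec 44 (by omega), one_mul]
    · cases h : m.testBit 11 <;> simp [titsClsGens, titsClsRoots, lprod, titsCoef, h, xg_zero, titsGen,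
        titsWf, titsW, f4Gen]

theorem titsOrder_lt : ∀ c ∈ titsOrder, c < 8 := by decide

variable [Fintype K] (hK : Fintype.card K = 2 ^ (2 * 0 + 1))
include hK

theorem titsWord_mem {w : List ℕ} (_hw : IsTitsWord w) :
    (w.map (titsGen K)).prod ∈ chevF4.posUnipotent K ⊓ (titsG K) :=
  list_prod_mem fun g hg => by
    obtain ⟨i, -, rfl⟩ := List.mem_map.1 hg
    exact Subgroup.mem_inf.2 ⟨titsGen_pos i, titsGen_fixed hK i⟩

/-- The Sylow 2-subgroup in angular order. -/
theorem titsABits_surj {g : GL chevF4.Idx K} (hg : g ∈ chevF4.posUnipotent K ⊓ (titsG K)) :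
    ∃ m < 4096, ((titsABits titsOrder m).map (titsGen K)).prod = g := by
  have hinj : ∀ a b : ℕ, a < 4096 → b < 4096 → ((titsABits titsOrder a).map (titsGen K)).prod =
      ((titsABits titsOrder b).map (titsGen K)).prod → a = b := by
    intro a b ha hb e
    rw [titsABits_lprod a _ titsOrder_lt, titsABits_lprod b _ titsOrder_lt] at e
    have h := lprod_inj certF4C fullCertF4.comm (by decide) (by decide) e
    refine titsEv_inj (K := K) ha hb ?_
    rw [titsEv_lprod, titsEv_lprod, lprod, lprod]
    congr 1
    refine List.map_congr_left fun r hr => ?_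
    rw [h r ((show ∀ r ∈ titsL24, r ∈ titsOrder.flatMap titsClsRoots by decide) r hr)]
  obtain ⟨m, hm⟩ := (Function.Injective.bijective_of_nat_card_le
    (f := fun m : Fin 4096 => (⟨((titsABits titsOrder m).map (titsGen K)).prod,
      titsWord_mem hK (titsABits_word _ _)⟩ : ↥(chevF4.posUnipotent K ⊓ (titsG K))))
    (fun m n e => Fin.ext (hinj _ _ m.2 n.2 (congrArg Subtype.val e)))
    (by rw [tits_pos_card hK, Nat.card_fin])).2 ⟨g, hg⟩
  exact ⟨m, m.2, congrArg Subtype.val hm⟩

theorem tits_word_of_mem {g : GL chevF4.Idx K} (hg : g ∈ chevF4.posUnipotent K ⊓ (titsG K)) :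
    ∃ w, IsTitsWord w ∧ (w.map (titsGen K)).prod = g := by
  obtain ⟨m, -, e⟩ := titsEv_surj hK hg
  exact ⟨titsBits m, titsBits_word m, e⟩

/-- Conjugation by a monomial element permutes the root elements. -/
theorem tits_conj_f4Gen {e : ℕ} (he : e < twF4.elts.length) {n : GL chevF4.Idx K}
    (hd : (wnu certF4C K (twF4.eword e))⁻¹ * n ∈ chevF4.diagonalSubgroup K) {r : ℕ} (hr : 24 ≤ r ∧ r < 48) :
    n * f4Gen K r * n⁻¹ = xg certF4C (wperm tblF4 (twF4.eword e) r) (1 : K) := by
  obtain ⟨c, hc0, hcl⟩ := mono_conj_lprod certF4C (twCombF4.eword_word certF4C he) hd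
  have h := hcl [r] (fun _ => (1 : K)) fun x hx => by
    rw [List.mem_singleton] at hx
    subst hx; exact hr.2
  have hc1 : c r = 1 := (f4_zero_or_one hK (c r)).resolve_left (hc0 r hr.2)
  simpa [lprod, hc1, f4Gen_eq hr] using h

/-- Conjugation by a monomial element keeps the parity. -/
theorem tits_cell_par {e : ℕ} (he : e < twF4.elts.length) {n : GL chevF4.Idx K}
    (hd : (wnu certF4C K (twF4.eword e))⁻¹ * n ∈ chevF4.diagonalSubgroup K) {v u : List ℕ}
    (hv : IsTitsWord v) (hu : IsTitsWord u) (heq : n * (v.map (titsGen K)).prod * n⁻¹ = (u.map (titsGen K)).prod) :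
    titsWPar v = titsWPar u := by
  have he16 : e < 16 := he
  have hchk := chkTitsCells_ok
  simp only [chkTitsCells, allBelow_iff, Bool.and_eq_true] at hchk
  obtain ⟨hsplit, hcell⟩ := hchk e he16
  obtain ⟨m, hm, hvm⟩ := titsABits_surj hK (titsWord_mem hK hv)
  have hvA : titsWPar v = titsWPar (titsABits titsOrder m) :=
    titsWPar_congr (K := K) hv (titsABits_word _ _) hvm.symm
  set I := titsOrder.filter (titsInv e) with hI
  set J := titsOrder.filter (fun c => !titsInv e c) with hJ
  have hgen : ∀ c < 8, ∀ i ∈ titsClsGens c, (∀ r ∈ titsWf i, 24 ≤ r ∧ r < 48) := by decide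
  have hconjW : ∀ l : List ℕ, (∀ r ∈ l, 24 ≤ r ∧ r < 48) → n * (l.map (f4Gen K)).prod * n⁻¹ =
      ((l.map (wperm tblF4 (twF4.eword e))).map fun r => xg certF4C r (1 : K)).prod := by
    intro l
    induction l with
    | nil => intro _; simp
    | cons r l ih =>
      intro hl
      rw [List.map_cons, List.prod_cons, List.map_cons, List.map_cons, List.prod_cons,
        ← ih (fun x hx => hl x (List.mem_cons_of_mem _ hx)), ← tits_conj_f4Gen hK he hd (hl r (List.mem_cons_self ..))]
      group
  -- the inverted part goes to the negative group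
  have hneg : ∀ w : List ℕ, (∀ i ∈ w, ∃ c ∈ I, i ∈ titsClsGens c) →
      n * (w.map (titsGen K)).prod * n⁻¹ ∈ chevF4.negUnipotent K := by
    intro w
    induction w with
    | nil => intro _; simp
    | cons i w ih =>
      intro hw
      rw [List.map_cons, List.prod_cons, show n * ((titsGen K) i * (w.map (titsGen K)).prod) * n⁻¹ =
        (n * (titsGen K) i * n⁻¹) * (n * (w.map (titsGen K)).prod * n⁻¹) by group]
      refine mul_mem ?_ (ih fun x hx => hw x (List.mem_cons_of_mem _ hx))
      obtain ⟨c, hcI, hic⟩ := hw i (List.mem_cons_self ..)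
      rw [hI, List.mem_filter] at hcI
      obtain ⟨hcO, hinv⟩ := hcI
      have hc8 := titsOrder_lt c hcO
      have hk := hcell c hc8
      simp only [chkTitsCell, hinv, cond_true, List.all_eq_true, Bool.and_eq_true] at hk
      rw [titsGen, hconjW _ (hgen c hc8 i hic)]
      refine list_prod_mem fun g hg => ?_
      simp only [List.mem_map] at hg
      obtain ⟨_, ⟨r, hr, rfl⟩, rfl⟩ := hg
      refine xg_mem_neg certF4C (Nat.blt_eq ▸ hk.1 i hic r hr) ?_ _
      have h24 : wperm tblF4 (twF4.eword e) r < 24 := Nat.blt_eq ▸ hk.2 i hic r hr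
      show 2 * _ < 48
      omega
  -- the other part keeps the parity
  have hpos : ∀ w : List ℕ, (∀ i ∈ w, ∃ c ∈ J, i ∈ titsClsGens c) →
      ∃ w', IsTitsWord w' ∧ n * (w.map (titsGen K)).prod * n⁻¹ = (w'.map (titsGen K)).prod ∧
        titsWPar w' = titsWPar w := by
    intro w
    induction w with
    | nil => intro _; exact ⟨[], fun _ h => by simp at h, by simp, rfl⟩
    | cons i w ih =>
      intro hw
      obtain ⟨w', hw', e', p'⟩ := ih fun x hx => hw x (List.mem_cons_of_mem _ hx)
      obtain ⟨c, hcJ, hic⟩ := hw i (List.mem_cons_self ..)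
      rw [hJ, List.mem_filter, Bool.not_eq_true'] at hcJ
      obtain ⟨hcO, hinv⟩ := hcJ
      have hc8 := titsOrder_lt c hcO
      have hk := hcell c hc8
      simp only [chkTitsCell, hinv, cond_false, List.all_eq_true, Bool.and_eq_true] at hk
      obtain ⟨hge, hfind⟩ := hk.2 i hic
      cases himg : titsImage e i with
      | none => rw [himg] at hfind; exact absurd hfind (by simp)
      | some z =>
        rw [himg] at hfind
        simp only [Bool.and_eq_true, beq_iff_eq, List.all_eq_true] at hfind
        obtain ⟨hzp, hz12⟩ := hfind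
        have hz : IsTitsWord z := fun j hj => Nat.blt_eq ▸ hz12 j hj
        have hc := List.find?_some himg
        simp only [beq_iff_eq] at hc
        have hz2 := f4Gen_coll (K := K) hc
        rw [titsGen_flat] at hz2
        have hgi : n * (titsGen K) i * n⁻¹ = (z.map (titsGen K)).prod := by
          rw [hz2, titsGen, hconjW _ (hgen c hc8 i hic)]
          congr 1
          refine List.map_congr_left fun r hr => ?_
          obtain ⟨s, hs, rfl⟩ := List.mem_map.1 hr
          exact (f4Gen_eq ⟨Nat.le_of_ble_eq_true (hge s hs), Nat.blt_eq ▸ hk.1 i hic s hs⟩).symm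
        refine ⟨z ++ w', ?_, ?_, ?_⟩
        · intro j hj
          rcases List.mem_append.1 hj with h | h
          exacts [hz j h, hw' j h]
        · rw [List.map_cons, List.prod_cons, List.map_append, List.prod_append, ← hgi, ← e']; group
        · rw [titsWPar_append, p', hzp, titsWPar]
  have hmemI : ∀ i ∈ titsABits I m, ∃ c ∈ I, i ∈ titsClsGens c := fun i hi =>
    List.mem_flatMap.1 (List.mem_filter.1 hi).1
  have hmemJ : ∀ i ∈ titsABits J m, ∃ c ∈ J, i ∈ titsClsGens c := fun i hi =>
    List.mem_flatMap.1 (List.mem_filter.1 hi).1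
  obtain ⟨w', hw', ew', pw'⟩ := hpos _ hmemJ
  have hnI := hneg _ hmemI
  have hJU := titsWord_mem hK hw'
  have huU := titsWord_mem hK hu
  -- the inverted part is trivial
  have hone : n * ((titsABits I m).map (titsGen K)).prod * n⁻¹ ∈ chevF4.posUnipotent K →
      ((titsABits I m).map (titsGen K)).prod = 1 := fun h => by
    have h2 : n * ((titsABits I m).map (titsGen K)).prod * n⁻¹ ∈
        chevF4.borelSubgroup K ⊓ chevF4.negUnipotent K := Subgroup.mem_inf.2 ⟨Subgroup.mem_sup_left h, hnI⟩
    rw [borel_inf_neg certF4C, Subgroup.mem_bot, conj_eq_one_iff] at h2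
    exact h2
  have hfin : ((titsABits titsOrder m).map (titsGen K)).prod = ((titsABits J m).map (titsGen K)).prod := by
    simp only [chkTitsSplit, Bool.or_eq_true, beq_iff_eq, ← hI, ← hJ] at hsplit
    rcases hsplit with hs | hs
    · have e1 : titsABits titsOrder m = titsABits I m ++ titsABits J m := by
        rw [← hs, titsABits, List.flatMap_append, List.filter_append]; rfl
      rw [e1, List.map_append, List.prod_append]
      rw [e1, List.map_append, List.prod_append] at hvm
      have : n * ((titsABits I m).map (titsGen K)).prod * n⁻¹ =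
          (u.map (titsGen K)).prod * ((w'.map (titsGen K)).prod)⁻¹ := by
        rw [← heq, ← hvm, ← ew']; group
      rw [hone (this ▸ mul_mem huU.1 (inv_mem hJU.1)), one_mul]
    · have e1 : titsABits titsOrder m = titsABits J m ++ titsABits I m := by
        rw [← hs, titsABits, List.flatMap_append, List.filter_append]; rfl
      rw [e1, List.map_append, List.prod_append]
      rw [e1, List.map_append, List.prod_append] at hvm
      have : n * ((titsABits I m).map (titsGen K)).prod * n⁻¹ =
          ((w'.map (titsGen K)).prod)⁻¹ * (u.map (titsGen K)).prod := by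
        rw [← heq, ← hvm, ← ew']; group
      rw [hone (this ▸ mul_mem (inv_mem hJU.1) huU.1), mul_one]
  have hvJ : titsWPar v = titsWPar (titsABits J m) :=
    titsWPar_congr (K := K) hv (titsABits_word _ _) (hvm.symm.trans hfin)
  have hu' : titsWPar u = titsWPar w' := titsWPar_congr (K := K) hu hw' (by
    rw [← heq, ← hvm, hfin, ew'])
  rw [hvJ, hu', pw']

/-- The fixed part of the Borel subgroup is unipotent. -/
theorem tits_borel_le : chevF4.borelSubgroup K ⊓ (titsG K) ≤ chevF4.posUnipotent K ⊓ (titsG K) := by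
  intro g hg
  obtain ⟨hb, hf⟩ := Subgroup.mem_inf.1 hg
  obtain ⟨u, hu, d, hd, rfl⟩ := (mem_borel certF4C).1 hb
  have hd1 : d = 1 := by
    obtain ⟨c, hc0, ec⟩ := coe_diagonal certF4C hd
    refine diag_eq_one_of_comm certF4C hd fun r hr => Units.ext ?_
    rw [Units.val_mul, Units.val_mul, ec, coe_xg, scal_mul_x certF4C.spec c hc0 hr]
    congr 2
    have : chr tblF4 chevF4 c r = 1 := by
      refine Finset.prod_eq_one fun i hi => ?_
      rw [(f4_zero_or_one hK (c i)).resolve_left (hc0 i (Finset.mem_range.1 hi)), one_zpow]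
    rw [this, one_mul]
  subst hd1
  rw [mul_one] at hf ⊢
  exact Subgroup.mem_inf.2 ⟨hu, hf⟩

/-- The parity is invariant under fusion. -/
theorem tits_fusion_par {g : GL chevF4.Idx K} (hg : g ∈ titsG K) {v u : List ℕ} (hv : IsTitsWord v)
    (hu : IsTitsWord u) (heq : g * (v.map (titsGen K)).prod * g⁻¹ = (u.map (titsGen K)).prod) :
    titsWPar v = titsWPar u := by
  obtain ⟨e, he, hrep⟩ := (twOKF4 (K := K) 0).bruhat_fixed certF4C fullCertF4 twCombF4 hg
  obtain ⟨n, hn, hd⟩ := (twOKF4 (K := K) 0).exists_fixed_rep certF4C twCombF4 he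
  obtain ⟨b, hb, c, hc, rfl⟩ := hrep n hn hd
  have hbU := tits_borel_le hK hb
  have hcU : c ∈ chevF4.posUnipotent K ⊓ (titsG K) := by
    obtain ⟨h1, h2⟩ := Subgroup.mem_inf.1 hc
    refine Subgroup.mem_inf.2 ⟨?_, h2⟩
    rw [posUnipotent_eq certF4C]
    exact signPart_le_upper certF4C fullCertF4 _ _ _ h1
  have hconj : ∀ {x : GL chevF4.Idx K}, x ∈ chevF4.posUnipotent K ⊓ (titsG K) → ∀ {w : List ℕ}, IsTitsWord w →
      ∃ w', IsTitsWord w' ∧ x * (w.map (titsGen K)).prod * x⁻¹ = (w'.map (titsGen K)).prod ∧
        titsWPar w' = titsWPar w := by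
    intro x hx w hw
    obtain ⟨a, ha, ea⟩ := tits_word_of_mem hK hx
    obtain ⟨a', ha', ea'⟩ := tits_word_of_mem hK (inv_mem hx)
    refine ⟨a ++ w ++ a', ?_, ?_, ?_⟩
    · intro j hj
      simp only [List.mem_append] at hj
      rcases hj with (h | h) | h
      exacts [ha j h, hw j h, ha' j h]
    · simp [ea, ea', mul_assoc]
    · have h0 : titsWPar (a ++ a') = false := titsWPar_congr (K := K) (w := [])
        (fun j hj => (List.mem_append.1 hj).elim (ha j) (ha' j)) (fun _ h => by simp at h) (by simp [ea, ea'])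
      rw [titsWPar_append] at h0
      rw [titsWPar_append, titsWPar_append]
      revert h0
      cases titsWPar a <;> cases titsWPar a' <;> cases titsWPar w <;> simp
  obtain ⟨v1, hv1, ev1, pv1⟩ := hconj hcU hv
  obtain ⟨u1, hu1, eu1, pu1⟩ := hconj (inv_mem hbU) hu
  have h := tits_cell_par hK he hd hv1 hu1 (by rw [← ev1, ← eu1, ← heq]; group)
  rw [← pv1, h, pu1]

end Cfsg.Lib.Chev
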