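import Cfsg.Agent.Lib.Chev.TitsCollect

/-! Odd elements of the Sylow 2-subgroup of ²F₄(2) do not square to the identity. -/

set_option autoImplicit false
set_option maxRecDepth 100000

namespace Cfsg.Lib.Chev

theorem chkTitsSquare_0 : chkTitsSquare 0 512 = true := by decide +kernel
theorem chkTitsSquare_1 : chkTitsSquare 512 512 = true := by decide +kernel
theorem chkTitsSquare_2 : chkTitsSquare 1024 512 = true := by decide +kernel
theorem chkTitsSquare_3 : chkTitsSquare 1536 512 = true := by decide +kernel
theorem chkTitsSquare_4 : chkTitsSquare 2048 512 = true := by decide +kernel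
theorem chkTitsSquare_5 : chkTitsSquare 2560 512 = true := by decide +kernel
theorem chkTitsSquare_6 : chkTitsSquare 3072 512 = true := by decide +kernel
theorem chkTitsSquare_7 : chkTitsSquare 3584 512 = true := by decide +kernel

/-- The result of the collection of the square of an odd word. -/
theorem tits_square {n : ℕ} (hn : n < 4096) (hp : titsPar n = true) :
    ∃ m, m < 4096 ∧ m ≠ 0 ∧ (titsBits m).reverse = collWord titsRf titsSf (titsBits n ++ titsBits n) := by
  have key : ∀ lo, chkTitsSquare lo 512 = true → lo ≤ n → n < lo + 512 →
      ∃ m, m < 4096 ∧ m ≠ 0 ∧ (titsBits m).reverse = collWord titsRf titsSf (titsBits n ++ titsBits n) := by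
    intro lo h h1 h2
    simp only [chkTitsSquare, allBelow_iff] at h
    have := h (n - lo) (by omega)
    rw [show lo + (n - lo) = n by omega, hp] at this
    simp only [Bool.not_true, Bool.false_or, Bool.and_eq_true, Bool.not_eq_true', beq_iff_eq] at this
    obtain ⟨e0, e1, e2⟩ := this
    exact ⟨_, Nat.blt_eq ▸ e1, fun e => by rw [e, Nat.beq_refl] at e0; exact Bool.noConfusion e0, e2⟩
  by_cases n < 512
  · exact key _ chkTitsSquare_0 (by omega) (by omega)
  by_cases n < 1024
  · exact key _ chkTitsSquare_1 (by omega) (by omega)
  by_cases n < 1536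
  · exact key _ chkTitsSquare_2 (by omega) (by omega)
  by_cases n < 2048
  · exact key _ chkTitsSquare_3 (by omega) (by omega)
  by_cases n < 2560
  · exact key _ chkTitsSquare_4 (by omega) (by omega)
  by_cases n < 3072
  · exact key _ chkTitsSquare_5 (by omega) (by omega)
  by_cases n < 3584
  · exact key _ chkTitsSquare_6 (by omega) (by omega)
  exact key _ chkTitsSquare_7 (by omega) (by omega)

end Cfsg.Lib.Chev
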