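import Cfsg.Agent.Lib.Chev.TwF4TwoClass

/-!
The two classes of involutions of the Tits group.
-/

set_option autoImplicit false
set_option maxRecDepth 100000
set_option linter.unusedSectionVars false
set_option linter.unusedSimpArgs false

namespace Cfsg.Lib.Chev

open Cfsg.Lie

/-- Conjugacy in a subgroup of index two for an element centralised outside it. -/
theorem isConj_index_two {G : Type*} [Group G] {C : Subgroup G} (h : C.index = 2) {x y s : G}
    (hx : x ∈ C) (hy : y ∈ C) (hs : s ∉ C) (hc : Commute s y) (e : IsConj x y) :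
    IsConj (⟨x, hx⟩ : ↥C) ⟨y, hy⟩ := by
  obtain ⟨g, hg⟩ := isConj_iff.1 e
  by_cases hgC : g ∈ C
  · exact isConj_iff.2 ⟨⟨g, hgC⟩, Subtype.ext hg⟩
  · refine isConj_iff.2 ⟨⟨s * g, (Subgroup.mul_mem_iff_of_index_two h).2 (iff_of_false hs hgC)⟩, Subtype.ext ?_⟩
    show s * g * x * (s * g)⁻¹ = y
    rw [show s * g * x * (s * g)⁻¹ = s * (g * x * g⁻¹) * s⁻¹ by group, hg, hc.eq, mul_inv_cancel_right]

variable {K : Type*} [Field K] [CharP K esymF4.p] [CharP K 2] [Fintype K] (hK : Fintype.card K = 2 ^ (2 * 0 + 1))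
include hK

theorem tits_g1_not_mem : (⟨titsGen K 1, titsGen_fixed hK 1⟩ : ↥(titsG K)) ∉ commutator ↥(titsG K) := by
  intro h
  obtain ⟨τ, hτ⟩ := tits_exists_hom hK
  exact hτ (MonoidHom.mem_ker.1 (Abelianization.commutator_subset_ker τ h))

theorem tits_g6_not_mem : (⟨titsGen K 6, titsGen_fixed hK 6⟩ : ↥(titsG K)) ∉ commutator ↥(titsG K) := by
  intro h6
  obtain ⟨m', hm', e', hp'⟩ := tits_word_normal (K := K) (w := [6, 1]) fun j hj => by simp at hj; omega
  have h61 : (⟨titsGen K 6, titsGen_fixed hK 6⟩ : ↥(titsG K)) * ⟨titsGen K 1, titsGen_fixed hK 1⟩ ∈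
      commutator ↥(titsG K) := by
    rw [show (⟨titsGen K 6, titsGen_fixed hK 6⟩ : ↥(titsG K)) * ⟨titsGen K 1, titsGen_fixed hK 1⟩ =
      ⟨(titsEv K) m', (titsEv_mem hK m').2⟩ from Subtype.ext (by
        rw [Subgroup.coe_mul]; simpa using e')]
    exact tits_even_mem hK (by rw [← hp']; rfl)
  exact tits_g1_not_mem hK (((commutator ↥(titsG K)).mul_mem_cancel_left h6).1 h61)

theorem tits_gen_commute :
    Commute (⟨titsGen K 1, titsGen_fixed hK 1⟩ : ↥(titsG K)) (f4RG (m := 0) hK) ∧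
      Commute (⟨titsGen K 6, titsGen_fixed hK 6⟩ : ↥(titsG K)) (f4RH (m := 0) hK) := by
  constructor <;> refine Subtype.ext ?_
  · show titsGen K 1 * (fpG 1).el 0 = (fpG 1).el 0 * titsGen K 1
    rw [fpG_el]
    exact (f4Ww_commute (f4_pos_le_Ww (titsGen_pos 1))).eq
  · show titsGen K 6 * (fpH 1).el 0 = (fpH 1).el 0 * titsGen K 6
    rw [fpH_el]
    refine (f4Wv_commute ?_).eq
    rw [titsGen, show titsWf 6 = [35, 31, 40] from rfl]
    simp only [List.map_cons, List.map_nil, List.prod_cons, List.prod_nil, mul_one]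
    refine mul_mem ?_ (mul_mem ?_ ?_) <;>
      (rw [f4Gen_eq (by norm_num)]; exact f4Wv_mem (Or.inr (by simp)) 1)

theorem tits_two_classes :
    (ConjClasses.mk '' {g : ↥(commutator ↥(titsG K)) | orderOf g = 2}).ncard = 2 := by
  obtain ⟨oG, oH⟩ := f4_reps_order (m := 0) hK
  have mG := tits_involution_mem hK _ oG
  have mH := tits_involution_mem hK _ oH
  refine ncard_two_classes (⟨_, mG⟩ : ↥(commutator ↥(titsG K))) ⟨_, mH⟩ (by rw [← Subgroup.orderOf_coe]; exact oG)
    (by rw [← Subgroup.orderOf_coe]; exact oH)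
    (fun h => f4_reps_not_conj (m := 0) hK ((commutator ↥(titsG K)).subtype.map_isConj h)) ?_
  intro x hx
  rw [← Subgroup.orderOf_coe] at hx
  rcases f4_two_class_cover (m := 0) hK (x : ↥(titsG K)) hx with h | h
  · exact Or.inl (isConj_index_two (tits_index_two hK) x.2 mG (tits_g1_not_mem hK) (tits_gen_commute hK).1 h)
  · exact Or.inr (isConj_index_two (tits_index_two hK) x.2 mH (tits_g6_not_mem hK) (tits_gen_commute hK).2 h)

omit hK in
theorem tits_group_two_classes :
    (ConjClasses.mk '' {g : Cfsg.Lie.TitsGroup | orderOf g = 2}).ncard = 2 := by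
  haveI : CharP (ZMod 2) esymF4.p := ZMod.charP 2
  have hK : Fintype.card (ZMod 2) = 2 ^ (2 * 0 + 1) := ZMod.card 2
  have e : twistedF4 (ZMod 2) 1 = titsG (ZMod 2) := twistedF4_eq (m := 0) hK
  unfold Cfsg.Lie.TitsGroup
  rw [e]
  exact tits_two_classes hK

end Cfsg.Lib.Chev
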