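import Cfsg.Agent.Lib.Chev.TitsCollect

/-! Finite checks for the parity on the Sylow 2-subgroup of ²F₄(2). -/

set_option autoImplicit false
set_option maxRecDepth 100000

namespace Cfsg.Lib.Chev

/-- The four generators of order four. -/
def titsQ (i : ℕ) : Bool := Nat.beq i 1 || (Nat.beq i 3 || (Nat.beq i 6 || Nat.beq i 9))

/-- The parity of a word. -/
def titsWPar : List ℕ → Bool
  | [] => false
  | i :: l => titsQ i != titsWPar l

/-- Right multiplication of a normal word by a generator gives a normal word. -/
noncomputable def chkTitsClosed (lo n : ℕ) : Bool :=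
  allBelow (fun k => allBelow (fun i =>
    (let r := collWord titsRf titsSf (titsBits (lo + k) ++ [i]);
     let m := r.foldl (fun acc j => acc + 2 ^ j) 0;
     Nat.blt m 4096 && ((titsBits m).reverse == r && titsPar m == (titsPar (lo + k) != titsQ i)))) 12) n

/-- The classes in angular order. -/
def titsOrder : List ℕ := [0, 2, 5, 6, 7, 4, 3, 1]

/-- The generators of a class. -/
def titsClsGens (c : ℕ) : List ℕ :=
  [[0], [1, 2], [3, 4], [5], [6, 7], [8], [9, 10], [11]].getD c []

/-- The roots of a class. -/
def titsClsRoots (c : ℕ) : List ℕ :=
  [[33, 24], [27, 25, 28, 30], [34, 26, 36, 42], [37, 32], [35, 31, 40, 46], [38, 43], [29, 41, 44, 47],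
    [39, 45]].getD c []

/-- A class is inverted by an element of the fixed Weyl group. -/
noncomputable def titsInv (e c : ℕ) : Bool :=
  (titsClsRoots c).all fun r => Nat.blt (wperm tblF4 (twF4.eword e) r) 24

/-- The image of a generator that is not inverted. -/
noncomputable def titsImage (e i : ℕ) : Option (List ℕ) :=
  let R := collWord f4RootR (fun _ => []) ((titsWf i).map (wperm tblF4 (twF4.eword e)));
  [[0], [1], [2], [1, 2], [3], [4], [3, 4], [5], [6], [7], [6, 7], [8], [9], [10], [9, 10], [11]].find? fun w =>
    collWord f4RootR (fun _ => []) (w.flatMap titsWf) == R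

/-- The requirements on one class and one element of the fixed Weyl group. -/
noncomputable def chkTitsCell (e c : ℕ) : Bool :=
  ((titsClsGens c).all fun i => (titsWf i).all fun r => Nat.blt (wperm tblF4 (twF4.eword e) r) 48) &&
  (bif titsInv e c then (titsClsGens c).all fun i => (titsWf i).all fun r => Nat.blt (wperm tblF4 (twF4.eword e) r) 24
  else (titsClsGens c).all fun i => ((titsWf i).all fun r => Nat.ble 24 (wperm tblF4 (twF4.eword e) r)) &&
    (match titsImage e i with
      | none => false
      | some w => titsWPar w == titsQ i && (w.all fun j => Nat.blt j 12)))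

/-- The inverted classes come first or last. -/
noncomputable def chkTitsSplit (e : ℕ) : Bool :=
  titsOrder.filter (titsInv e) ++ titsOrder.filter (fun c => !titsInv e c) == titsOrder ||
    titsOrder.filter (fun c => !titsInv e c) ++ titsOrder.filter (titsInv e) == titsOrder

/-- All requirements for the cells. -/
noncomputable def chkTitsCells : Bool :=
  allBelow (fun e => chkTitsSplit e && allBelow (fun c => chkTitsCell e c) 8) 16

theorem chkTitsCells_ok : chkTitsCells = true := by decide +kernel

theorem titsBits_par : allBelow (fun m => titsWPar (titsBits m) == titsPar m) 4096 = true := by decide +kernel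

theorem chkTitsClosed_0 : chkTitsClosed 0 512 = true := by decide +kernel
theorem chkTitsClosed_1 : chkTitsClosed 512 512 = true := by decide +kernel
theorem chkTitsClosed_2 : chkTitsClosed 1024 512 = true := by decide +kernel
theorem chkTitsClosed_3 : chkTitsClosed 1536 512 = true := by decide +kernel
theorem chkTitsClosed_4 : chkTitsClosed 2048 512 = true := by decide +kernel
theorem chkTitsClosed_5 : chkTitsClosed 2560 512 = true := by decide +kernel
theorem chkTitsClosed_6 : chkTitsClosed 3072 512 = true := by decide +kernel
theorem chkTitsClosed_7 : chkTitsClosed 3584 512 = true := by decide +kernel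

end Cfsg.Lib.Chev
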