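import Mathlib
import Cfsg.Agent.Lib.Chev.NormalForm
import Cfsg.Agent.Lib.Chev.FullAll
import Cfsg.Agent.Lib.Chev.AnyOrder
import Cfsg.Agent.Lib.Chev.TwF4Orders

/-!
Two conjugates of the root subgroup of the highest root.
-/

set_option autoImplicit false
set_option linter.unusedSectionVars false

namespace Cfsg.Lib.Chev

open Cfsg.Lie

variable {D : ChevalleyDatum} {T : Tbl} {F : Type*} [Field F] (C : Cert D T)
include C

theorem gshiftGroup_isPGroup [CharP F 2] (hD : 0 < D.rank) (f : ℕ → ℤ) :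
    IsPGroup 2 ↥(gshiftGroup D F f 1 zero_le_one) := by
  rintro ⟨g, hg⟩
  obtain ⟨B, hB⟩ : ∃ B : ℕ, ∀ r < D.nroots, (f r).natAbs ≤ B :=
    ⟨(Finset.range D.nroots).sup fun r => (f r).natAbs, fun r hr =>
      Finset.le_sup (f := fun r => (f r).natAbs) (Finset.mem_range.2 hr)⟩
  have hb : ∀ i : D.Idx, (glev f i).natAbs ≤ B := by
    rintro (i | s)
    · simp [glev]
    · exact hB s s.2
  refine ⟨2 * B + 1, Subtype.ext ?_⟩
  have h2 : 2 * B + 1 < 2 ^ (2 * B + 1) := Nat.lt_two_pow_self
  have h0 : ((g : Matrix D.Idx D.Idx F) - 1) ^ 2 ^ (2 * B + 1) = 0 := by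
    refine Matrix.ext fun i j => ?_
    by_contra hne
    have h := gshift_pow_entry hg.1 _ i j hne
    have := hb i
    have := hb j
    omega
  have : Fact (Nat.Prime 2) := ⟨Nat.prime_two⟩
  have : Nonempty D.Idx := ⟨Sum.inl ⟨0, hD⟩⟩
  have : CharP (Matrix D.Idx D.Idx F) 2 :=
    charP_of_injective_ringHom (f := Matrix.scalar D.Idx) (fun a b e => by simpa using e) 2
  rw [sub_pow_char_pow_of_commute _ _ (Commute.one_right _), one_pow, sub_eq_zero] at h0
  exact Units.ext h0

/-- The functional `7 θ^∨ + 4 a^∨` is positive at the highest root and at `a`. -/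
noncomputable def topChk (D : ChevalleyDatum) (T : Tbl) : Bool :=
  allBelow (fun a => Nat.beq a 0 || (decide (1 ≤ fval T ((List.range T.rank).map fun k =>
      7 * T.coroot (T.nroots - 1) k + 4 * T.coroot a k) (T.nroots - 1)) &&
    decide (1 ≤ fval T ((List.range T.rank).map fun k =>
      7 * T.coroot (T.nroots - 1) k + 4 * T.coroot a k) a))) D.nroots

variable (K : FullCert D T)
include K

theorem borel_normalises_top {b : GL D.Idx F} (hb : b ∈ D.borelSubgroup F) (hn : 0 < D.nroots) :
    (D.rootSubgroup F (D.nroots - 1)).map (MulAut.conj b).toMonoidHom = D.rootSubgroup F (D.nroots - 1) := by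
  have hev := nroots_even C
  have key : ∀ b ∈ D.borelSubgroup F, ∀ x ∈ D.rootSubgroup F (D.nroots - 1),
      b * x * b⁻¹ ∈ D.rootSubgroup F (D.nroots - 1) := by
    intro b hb x hx
    obtain ⟨u, hu, h, hh, rfl⟩ := (mem_borel C).1 hb
    obtain ⟨t, rfl⟩ := (mem_rootSubgroup C).1 hx
    obtain ⟨χ, hχ⟩ := diag_conj_xg C hh
    have hc := (upper_central C K.comm (F := F) (k := D.nroots - 1) (by omega) (by omega)
      (Subgroup.inv_mem _ hu)).2 (χ (D.nroots - 1) * t)
    rw [inv_inv, upper_top C (by omega), Subgroup.mem_bot] at hc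
    refine (mem_rootSubgroup C).2 ⟨χ (D.nroots - 1) * t, ?_⟩
    calc u * h * xg C (D.nroots - 1) t * (u * h)⁻¹ = u * (h * xg C (D.nroots - 1) t * h⁻¹) * u⁻¹ := by group
      _ = u * xg C (D.nroots - 1) (χ (D.nroots - 1) * t) * u⁻¹ := by rw [(hχ _ (by omega)).2]
      _ = _ := by
        rw [mul_assoc ((xg C (D.nroots - 1) (χ (D.nroots - 1) * t))⁻¹ * u), mul_assoc] at hc
        exact (inv_mul_eq_one.1 (by simpa [mul_assoc] using hc)).symm
  refine le_antisymm ?_ fun x hx => ⟨b⁻¹ * x * b, by simpa using key _ (inv_mem hb) x hx, by simp [mul_assoc]⟩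
  rintro _ ⟨x, hx, rfl⟩
  exact key b hb x hx

/-- Two conjugates of the top root subgroup generate a 2-group, or are opposite. -/
theorem top_pair [CharP F 2] (hD : 0 < D.rank) (hn : 0 < D.nroots) (hchk : topChk D T = true)
    {g : GL D.Idx F} (hg : g ∈ D.group F) :
    IsPGroup 2 ↥(D.rootSubgroup F (D.nroots - 1) ⊔
        (D.rootSubgroup F (D.nroots - 1)).map (MulAut.conj g).toMonoidHom) ∨
      ∃ h ∈ D.group F, (D.rootSubgroup F (D.nroots - 1) ⊔
        (D.rootSubgroup F (D.nroots - 1)).map (MulAut.conj g).toMonoidHom).map (MulAut.conj h).toMonoidHom =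
          D.rootSubgroup F (D.nroots - 1) ⊔ D.rootSubgroup F 0 := by
  obtain ⟨w, hw, b, hb, c, hc, rfl⟩ := bruhat_normal C K hg
  have hev := nroots_even C
  have hcB : c ∈ D.borelSubgroup F := signPart_le_borel C K w true hc
  let X := D.rootSubgroup F (D.nroots - 1)
  let a := wperm T w (D.nroots - 1)
  have ha : a < D.nroots := wperm_lt C hw (by omega)
  have hXa : X.map (MulAut.conj (wnu C F w)).toMonoidHom = D.rootSubgroup F a := by
    obtain ⟨c, hc1, hct⟩ := wnu_conj_xg C (F := F) hw (show D.nroots - 1 < D.nroots by omega)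
    refine le_antisymm ?_ fun x hx => ?_
    · rintro _ ⟨x, hx, rfl⟩
      obtain ⟨t, rfl⟩ := (mem_rootSubgroup C).1 hx
      exact (mem_rootSubgroup C).2 ⟨c * t, hct t⟩
    · obtain ⟨t, rfl⟩ := (mem_rootSubgroup C).1 hx
      refine ⟨xg C (D.nroots - 1) (c * t), (mem_rootSubgroup C).2 ⟨_, rfl⟩, ?_⟩
      show wnu C F w * _ * (wnu C F w)⁻¹ = _
      rw [hct, ← mul_assoc, hc1, one_mul]
  have hcomp : ∀ (p q : GL D.Idx F) (S : Subgroup (GL D.Idx F)),
      (S.map (MulAut.conj q).toMonoidHom).map (MulAut.conj p).toMonoidHom =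
        S.map (MulAut.conj (p * q)).toMonoidHom := by
    intro p q S
    rw [Subgroup.map_map]
    congr 1
    refine MonoidHom.ext fun x => ?_
    simp [mul_assoc]
  have hM : X ⊔ X.map (MulAut.conj (b * wnu C F w * c)).toMonoidHom =
      (X ⊔ D.rootSubgroup F a).map (MulAut.conj b).toMonoidHom := by
    rw [Subgroup.map_sup, borel_normalises_top C K hb hn, ← hXa, ← hcomp, borel_normalises_top C K hcB hn, hcomp]
  by_cases h0 : a = 0
  · refine Or.inr ⟨b⁻¹, inv_mem (borel_le_group C hb), ?_⟩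
    rw [hM, hcomp, inv_mul_cancel, h0, map_one]
    exact Subgroup.map_id _
  · refine Or.inl ?_
    rw [hM]
    refine IsPGroup.map ?_ _
    let f := fval T ((List.range T.rank).map fun k => 7 * T.coroot (T.nroots - 1) k + 4 * T.coroot a k)
    refine (gshiftGroup_isPGroup C hD f).to_le (sup_le ?_ ?_)
    all_goals
      have h := allBelow_iff.1 hchk a ha
      simp only [Bool.or_eq_true, Bool.and_eq_true, Nat.beq_eq, h0, false_or, decide_eq_true_eq] at h
      intro x hx
      obtain ⟨t, rfl⟩ := (mem_rootSubgroup C).1 hx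
    · exact xg_mem_gshift C (isLin_fval C _) (by omega) t
        (show 1 ≤ f (D.nroots - 1) by rw [← C.spec.shape.nroots_eq]; exact h.1) zero_le_one
    · exact xg_mem_gshift C (isLin_fval C _) ha t h.2 zero_le_one

omit C K

theorem topChk_G2 : topChk chevG2 tblG2 = true := by decide +kernel
theorem topChk_D4 : topChk chevD4 tblD4 = true := by decide +kernel
theorem topChk_E6 : topChk chevE6 tblE6 = true := by decide +kernel
theorem topChk_E7 : topChk chevE7 tblE7 = true := by decide +kernel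
theorem topChk_E8 : topChk chevE8 tblE8 = true := by decide +kernel

end Cfsg.Lib.Chev
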