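import Cfsg.Agent.Lib.Chev.TorusTwist
import Cfsg.Agent.Lib.Chev.GraphAll
import Cfsg.Agent.Lib.Chev.TwD4

/-! A regular torus of the group of type triality D4. -/

set_option autoImplicit false
set_option maxRecDepth 100000

namespace Cfsg.Lib.Chev

/-- The torus data. -/
def torD4 : TwTor := ⟨[1], [-1, -1, 0, 1], [[0, -1, -1, -1], [-1, -1, -1, 0], [0, -1, -1, 0], [-1, -1, 0, 0], [0, -1, 0, 0], [-1, -1, 0, 1], [0, 0, -1, -1], [1, 0, -1, -1], [0, 0, 0, -1], [1, 0, 0, -1], [0, 0, -1, 0], [-1, 0, 0, 0], [1, 0, 0, 0], [0, 0, 1, 0], [-1, 0, 0, 1], [0, 0, 0, 1], [-1, 0, 1, 1], [0, 0, 1, 1], [1, 1, 0, -1], [0, 1, 0, 0], [1, 1, 0, 0], [0, 1, 1, 0], [1, 1, 1, 0], [0, 1, 1, 1]], 12⟩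

/-- Twice the inverse of the Cartan integers on the orbit. -/
def torInvD4 : Matrix (Fin Cfsg.Lie.chevD4.rank) (Fin Cfsg.Lie.chevD4.rank) ℤ :=
  (!![1, 2, 1, 0; 0, 2, 2, 2; 0, 1, 2, 1; 1, 1, 1, 1] : Matrix (Fin 4) (Fin 4) ℤ)

theorem torInvD4_mul :
    orbMat certD4C symD4_3.root torD4 * torInvD4 = Matrix.diagonal (fun _ => ((2 : ℕ) : ℤ)) := by
  decide +kernel

theorem chkTor_D4 : chkTwTor tblD4 symD4_3.root torD4 = true := by decide +kernel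

theorem chkLarge_D4 : chkTwLarge tblD4 torD4 [1171, 1682, 1683, 1746, 1747, 2258, 1179, 1180, 1243, 1244, 1691, 1754, 1756, 1819, 2266, 2267, 2330, 2331, 1252, 1763, 1764, 1827, 1828, 2339] = true := by decide +kernel

theorem chkTwPair_D4_2 : chkTwPair tblD4 torD4 ((2 : ℕ) : ℤ) [7, 14, 15, 18, 19, 5, 9, 10, 13, 14, 17, 20, 1, 4, 7, 8, 11, 12, 16, 2, 3, 6, 7, 14] = true := by decide +kernel

theorem chkTwSmall_D4_3 : chkTwSmall tblD4 torD4 ((3 : ℕ) : ℤ) [65, 91, 92, 100, 101, 23, 68, 69, 77, 78, 95, 103, 1, 9, 26, 27, 35, 36, 81, 3, 4, 12, 13, 39] = true := by decide +kernel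

theorem chkTwSmall_D4_4 : chkTwSmall tblD4 torD4 ((4 : ℕ) : ℤ) [231, 294, 295, 310, 311, 59, 235, 236, 251, 252, 299, 314, 1, 16, 63, 64, 79, 80, 256, 4, 5, 20, 21, 84] = true := by decide +kernel

end Cfsg.Lib.Chev
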