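import Cfsg.Agent.Lib.Chev.TorusData

/-!
Data of a regular torus whose coordinates in the coroot basis have denominators: the stored coordinates are scaled,
and separation is required modulo a divisor of the order.
-/

set_option autoImplicit false
set_option linter.unusedSectionVars false

namespace Cfsg.Lib.Chev

open Cfsg.Lie

/-- The coordinate of a root in the orbit basis. -/
noncomputable def TorData.cd (S : TorData) (T : Tbl) (d : ℤ) (r k : ℕ) : ℤ := S.coef T r k / d

/-- The exponent of a root. -/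
noncomputable def TorData.expd (S : TorData) (T : Tbl) (d q : ℤ) (r : ℕ) : ℤ :=
  sumBelow (fun k => S.cd T d r k * q ^ k) T.rank

/-- The scaled coordinate of a root of a larger system. -/
noncomputable def TorData.coefAmb (S : TorData) (T T' : Tbl) (r k : ℕ) : ℤ :=
  sumBelow (fun j => nth 0 (nth [] S.mg j) k * T'.cartan j r) T.rank

/-- The residues of the exponents. -/
noncomputable def TorData.resd (S : TorData) (T : Tbl) (d M q : ℤ) (r : ℕ) : ℕ := ((S.expd T d q r) % M).toNat

/-- A code of the coordinates. -/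
noncomputable def TorData.coded (S : TorData) (T : Tbl) (d : ℤ) (r : ℕ) : ℕ :=
  (sumBelow (fun k => (S.cd T d r k + 3) * 8 ^ k) T.rank).toNat

/-- The checks on the data, with a root of the larger system witnessing the obstruction. -/
noncomputable def chkTorDen (T T' : Tbl) (S : TorData) (d : ℤ) (r1 : ℕ) : Bool :=
  (Nat.blt 0 T.rank && (Nat.blt S.r0 T.nroots &&
    allBelow (fun k => decide (S.cd T d S.r0 k = if k = 0 then 1 else 0)) T.rank)) &&
  (allBelow (fun i => Nat.blt (nth 0 S.w i) T.rank) S.w.length &&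
  (allBelow (fun r => allBelow (fun k => decide (S.coef T r k % d = 0) &&
      decide (S.cd T d (wperm T S.w r) k =
        (if k = 0 then 0 else S.cd T d r (k - 1)) - S.cd T d r (T.rank - 1) * nth 0 S.tg k)) T.rank &&
    allBelow (fun j => decide (T.cartan j r = sumBelow (fun k => S.cd T d r k * T.cartan j (S.orb T k)) T.rank))
      T.rank) T.nroots &&
  (Nat.blt r1 T'.nroots && (!decide (S.coefAmb T T' r1 (T.rank - 1) % d = 0) &&
    allBelow (fun k => decide (S.coefAmb T T' (wperm T' S.w r1) k =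
      (if k = 0 then 0 else S.coefAmb T T' r1 (k - 1)) - S.coefAmb T T' r1 (T.rank - 1) * nth 0 S.tg k)) T.rank))))

/-- The residues are nonzero and separate the roots. -/
noncomputable def chkSmallDen (T : Tbl) (S : TorData) (d M q : ℤ) (V : List ℕ) : Bool :=
  decide (0 < M) && (chkCode (S.resd T d M q) T.nroots V && allIdx (fun _ x => !Nat.beq x 0) V 0)

/-- The residues are nonzero and separate the fundamental systems. -/
noncomputable def chkPairDen (T : Tbl) (S : TorData) (d M q : ℤ) (V : List ℕ) : Bool :=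
  (decide (0 < M) && (Nat.beq V.length T.nroots &&
    allIdx (fun k x => Nat.beq (S.resd T d M q k) x && !Nat.beq x 0) V 0)) &&
    allTup T (fun r => nth 0 V r) T.rank []

/-- The coordinates are small and separate the roots. -/
noncomputable def chkLargeDen (T : Tbl) (S : TorData) (d : ℤ) (V : List ℕ) : Bool :=
  chkCode (S.coded T d) T.nroots V && allBelow (fun r => allBelow (fun k => decide ((S.cd T d r k).natAbs ≤ 2)) T.rank &&
    decide (sumBelow (fun k => ((S.cd T d r k).natAbs : ℤ)) T.rank ≠ 0)) T.nroots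

/-- The data is consistent with the tables. -/
structure TorOKDen (D D' : ChevalleyDatum) (T T' : Tbl) (S : TorData) (d : ℤ) (r1 : ℕ) : Prop where
  rank_pos : 0 < D.rank
  r0_lt : S.r0 < D.nroots
  coef_r0 : ∀ k < D.rank, S.cd T d S.r0 k = if k = 0 then 1 else 0
  isWord : IsWord D S.w
  dvd : ∀ r < D.nroots, ∀ k < D.rank, d ∣ S.coef T r k
  step : ∀ r < D.nroots, ∀ k < D.rank, S.cd T d (wperm T S.w r) k =
    (if k = 0 then 0 else S.cd T d r (k - 1)) - S.cd T d r (D.rank - 1) * nth 0 S.tg k
  cart : ∀ r < D.nroots, ∀ j < D.rank,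
    T.cartan j r = ∑ k ∈ Finset.range D.rank, S.cd T d r k * T.cartan j (S.orb T k)
  r1_lt : r1 < D'.nroots
  amb_ne : ¬ d ∣ S.coefAmb T T' r1 (D.rank - 1)
  amb_step : ∀ k < D.rank, S.coefAmb T T' (wperm T' S.w r1) k =
    (if k = 0 then 0 else S.coefAmb T T' r1 (k - 1)) - S.coefAmb T T' r1 (D.rank - 1) * nth 0 S.tg k

/-- The exponents separate the roots modulo `M` as much as needed. -/
structure TorSepDen (D : ChevalleyDatum) (T : Tbl) (S : TorData) (d M : ℤ) (q : ℕ) : Prop where
  pos : 0 < M
  ne_zero : ∀ r < D.nroots, ¬ M ∣ S.expd T d q r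
  sep : ∀ v, IsWord D v → (∀ k < D.rank, M ∣ S.expd T d q (wperm T v (T.simp' k)) - S.expd T d q (T.simp' k)) →
    ∀ k < D.rank, wperm T v (T.simp' k) = T.simp' k

variable {D D' : ChevalleyDatum} {T T' : Tbl} (C : Cert D T) (C' : Cert D' T') {S : TorData} {d M : ℤ} {r1 : ℕ}
include C C'

theorem torOKDen_of_chk (h : chkTorDen T T' S d r1 = true) : TorOKDen D D' T T' S d r1 := by
  simp only [chkTorDen, Bool.and_eq_true, allBelow_iff, decide_eq_true_eq, Nat.blt_eq, sumBelow_eq,
    Bool.not_eq_true', decide_eq_false_iff_not,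
    C.spec.shape.rank_eq, C.spec.shape.nroots_eq, C'.spec.shape.nroots_eq] at h
  obtain ⟨⟨h1, h2, h3⟩, h4, h5, h6, h7, h8⟩ := h
  refine ⟨h1, h2, h3, fun i hi => ?_, fun r hr k hk => Int.dvd_of_emod_eq_zero ((h5 r hr).1 k hk).1,
    fun r hr k hk => ((h5 r hr).1 k hk).2, fun r hr => (h5 r hr).2, h6, fun hd => h7 (Int.emod_eq_zero_of_dvd hd), h8⟩
  obtain ⟨k, hk, rfl⟩ := List.getElem_of_mem hi
  have := h4 k hk
  rwa [nth_eq, List.getD_eq_getElem _ _ hk] at this

omit C C' in
theorem resd_eq_of_dvd {q : ℤ} {a b : ℕ} (h : M ∣ S.expd T d q a - S.expd T d q b) :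
    S.resd T d M q a = S.resd T d M q b := by
  rw [TorData.resd, TorData.resd, Int.emod_eq_emod_iff_emod_sub_eq_zero.2 (Int.emod_eq_zero_of_dvd h)]

omit C C' in
theorem resd_eq_zero_of_dvd {q : ℤ} {a : ℕ} (h : M ∣ S.expd T d q a) : S.resd T d M q a = 0 := by
  rw [TorData.resd, Int.emod_eq_zero_of_dvd h]; rfl

omit C'

theorem torSepDen_of_small {q : ℕ} {V : List ℕ} (h : chkSmallDen T S d M q V = true) : TorSepDen D T S d M q := by
  simp only [chkSmallDen, Bool.and_eq_true, decide_eq_true_eq, C.spec.shape.nroots_eq] at h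
  obtain ⟨h1, h2, h3⟩ := h
  exact ⟨h1, fun r hr hd => chkCode_ne h2 h3 hr (resd_eq_zero_of_dvd hd), fun v hv hd k hk =>
    chkCode_inj h2 (wperm_lt C hv (C.spec.simp_lt k hk)) (C.spec.simp_lt k hk) (resd_eq_of_dvd (hd k hk))⟩

theorem torSepDen_of_pair {q : ℕ} {V : List ℕ} (h : chkPairDen T S d M q V = true) : TorSepDen D T S d M q := by
  simp only [chkPairDen, Bool.and_eq_true, decide_eq_true_eq, allIdx_iff, Nat.beq_eq, C.spec.shape.nroots_eq,
    C.spec.shape.rank_eq, Bool.not_eq_true'] at h
  obtain ⟨⟨h1, h2, h3⟩, h4⟩ := h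
  have hV : ∀ r < D.nroots, nth 0 V r = S.resd T d M q r ∧ S.resd T d M q r ≠ 0 := by
    intro r hr
    have hr' : r < V.length := h2 ▸ hr
    have := h3 r hr'
    rw [zero_add] at this
    rw [nth_eq, List.getD_eq_getElem _ _ hr', this.1]
    exact ⟨rfl, fun e => by rw [e] at this; simp at this⟩
  refine ⟨h1, fun r hr hd => (hV r hr).2 (resd_eq_zero_of_dvd hd), fun v hv hd => ?_⟩
  let im := fun k => wperm T v (T.simp' k)
  suffices key : ∀ m k, k + m = D.rank → allTup T (fun r => nth 0 V r) m ((List.range k).map im) = true →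
      ∀ i < D.rank, im i = T.simp' i from key D.rank 0 (by omega) h4
  intro m
  induction m with
  | zero =>
    intro k hk ht i hi
    rw [add_zero] at hk
    subst hk
    have e := eqNats_iff _ _ ht
    rw [C.spec.shape.rank_eq] at e
    exact List.map_inj_left.1 e i (List.mem_range.2 hi)
  | succ m ih =>
    intro k hk ht
    have hkr : k < D.rank := by omega
    change allBelow _ T.nroots = true at ht
    rw [allBelow_iff] at ht
    have hs := ht (im k) (by rw [C.spec.shape.nroots_eq]; exact wperm_lt C hv (C.spec.simp_lt k hkr))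
    rw [Bool.or_eq_true] at hs
    refine ih (k + 1) (by omega) ?_
    rw [List.range_succ, List.map_append, List.map_singleton]
    refine hs.resolve_left fun hbad => ?_
    simp only [List.length_map, List.length_range, Bool.not_eq_true', ← Bool.not_eq_true, Bool.and_eq_true,
      Nat.beq_eq, allBelow_iff, decide_eq_true_eq] at hbad
    refine hbad ⟨?_, fun i hi => ?_⟩
    · rw [(hV _ (wperm_lt C hv (C.spec.simp_lt k hkr))).1, (hV _ (C.spec.simp_lt k hkr)).1]
      exact resd_eq_of_dvd (hd k hkr)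
    · rw [nth_eq, List.getD_eq_getElem _ _ (by simpa using hi), List.getElem_map, List.getElem_range]
      show rootPair T (wperm T v (T.simp' i)) (wperm T v (T.simp' k)) = _
      rw [rootPair_wperm C hv (C.spec.simp_lt i (hi.trans hkr)) (C.spec.simp_lt k hkr),
        rootPair_simple C (hi.trans hkr)]

theorem torSepDen_of_large {q : ℕ} (hq : 5 ≤ q) {V : List ℕ} (h : chkLargeDen T S d V = true)
    (hN : 4 * ∑ k ∈ Finset.range D.rank, (q : ℤ) ^ k < M) : TorSepDen D T S d M q := by
  simp only [chkLargeDen, Bool.and_eq_true, allBelow_iff, decide_eq_true_eq, sumBelow_eq, C.spec.shape.nroots_eq,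
    C.spec.shape.rank_eq] at h
  obtain ⟨h1, h2⟩ := h
  have hqz : (0 : ℤ) < q := by omega
  have hsum : 0 ≤ ∑ k ∈ Finset.range D.rank, (q : ℤ) ^ k := Finset.sum_nonneg fun k _ => pow_nonneg hqz.le k
  have key : ∀ e : ℕ → ℤ, (∀ k < D.rank, |e k| ≤ 4) → M ∣ ∑ k ∈ Finset.range D.rank, e k * (q : ℤ) ^ k →
      ∀ k < D.rank, e k = 0 := by
    intro e he hdvd
    refine digits_eq_zero hqz D.rank e (fun k hk => (he k hk).trans_lt (by omega))
      (Int.eq_zero_of_abs_lt_dvd hdvd (lt_of_le_of_lt ((Finset.abs_sum_le_sum_abs _ _).trans ?_) hN))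
    rw [Finset.mul_sum]
    refine Finset.sum_le_sum fun k hk => ?_
    rw [abs_mul, abs_of_nonneg (pow_nonneg hqz.le k)]
    exact mul_le_mul_of_nonneg_right (he k (Finset.mem_range.1 hk)) (pow_nonneg hqz.le k)
  have hb : ∀ r < D.nroots, ∀ k < D.rank, |S.cd T d r k| ≤ 2 := fun r hr k hk => by
    have := (h2 r hr).1 k hk
    rw [Int.abs_eq_natAbs]
    exact_mod_cast this
  refine ⟨by omega, fun r hr hd => (h2 r hr).2 ?_, fun v hv hd m hm => ?_⟩
  · refine Finset.sum_eq_zero fun k hk => ?_
    rw [key (S.cd T d r) (fun k hk => (hb r hr k hk).trans (by norm_num))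
      (by simpa only [TorData.expd, sumBelow_eq, C.spec.shape.rank_eq] using hd) k (Finset.mem_range.1 hk)]
    rfl
  · have ha := wperm_lt C hv (C.spec.simp_lt m hm)
    have hs := C.spec.simp_lt m hm
    refine chkCode_inj h1 ha hs ?_
    have hd' := hd m hm
    simp only [TorData.expd, sumBelow_eq, C.spec.shape.rank_eq, ← Finset.sum_sub_distrib, ← sub_mul] at hd'
    have := key _ (fun k hk => (abs_sub _ _).trans ((add_le_add (hb _ ha k hk) (hb _ hs k hk)).trans (by norm_num))) hd'
    simp only [TorData.coded, sumBelow_eq, C.spec.shape.rank_eq]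
    exact congrArg Int.toNat (Finset.sum_congr rfl fun k hk => by rw [sub_eq_zero.1 (this k (Finset.mem_range.1 hk))])

end Cfsg.Lib.Chev
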