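import Cfsg.Agent.Lib.Chev.StCenter
import Cfsg.Agent.Lib.Chev.DescentAut
import Cfsg.Agent.Lib.Chev.TorusLang

/-!
Pairs of an element of a Chevalley group and a preimage of it inside the group of a larger root system, and the
descent of fixed preimages.
-/

set_option autoImplicit false
set_option linter.unusedSectionVars false

namespace Cfsg.Lib.Chev

open Cfsg.Lie

variable {D D' : ChevalleyDatum} {T T' : Tbl} {F : Type*} [Field F]

/-- The pairs generated by corresponding root elements. -/
noncomputable def liftPairs (C : Cert D T) (C' : Cert D' T') (ph : List ℕ) (F : Type*) [Field F] :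
    Subgroup (GL D.Idx F × GL D'.Idx F) :=
  Subgroup.closure {p | ∃ r < D.nroots, ∃ t : F, p = (xg C r t, xg C' (ph.getD r 0) t)}

/-- Parameters extended by ones. -/
noncomputable def extPar (D D' : ChevalleyDatum) (F : Type*) [Field F] :
    (Fin D.rank → Fˣ) →* (Fin D'.rank → Fˣ) where
  toFun c k := if h : k.1 < D.rank then c ⟨k, h⟩ else 1
  map_one' := funext fun k => by simp
  map_mul' a b := funext fun k => by
    simp only [Pi.mul_apply]
    split_ifs <;> simp

/-- The preimage of a torus element in the larger group. -/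
noncomputable def tlift (D D' : ChevalleyDatum) (T' : Tbl) (F : Type*) [Field F] :
    (Fin D.rank → Fˣ) →* GL D'.Idx F :=
  (torusHom D' T' F).comp (extPar D D' F)

/-- The root data of the smaller system are restricted from the larger one. -/
structure SubData (D D' : ChevalleyDatum) (T T' : Tbl) (ph : List ℕ) : Prop where
  sub : chkSub T T' ph = true
  cart : ∀ r < D.nroots, ∀ j < D.rank, T'.cartan j (ph.getD r 0) = T.cartan j r
  nbr : HasNbr D T
  inv : ∃ M : Matrix (Fin D'.rank) (Fin D'.rank) ℤ, M * cartanMat D' T' = 1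

variable (C : Cert D T) (C' : Cert D' T') {ph : List ℕ} (hs : SubData D D' T T' ph)
include C C' hs

theorem sub_rank_le : D.rank ≤ D'.rank := by
  by_contra hlt
  exact lt_irrefl _ (sub_simp C C' hs.sub (show D'.rank < D.rank by omega)).1

theorem extend'_extPar (c : Fin D.rank → Fˣ) :
    extend' (extPar D D' F c) = fun j => if j < D.rank then extend' c j else 1 := by
  have hle := sub_rank_le C C' hs
  funext j
  by_cases h : j < D.rank
  · simp [extend', extPar, h, show j < D'.rank by omega]
  · rw [if_neg h]; unfold extend'; split_ifs <;> simp [extPar, h]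

theorem chr_extPar (c : Fin D.rank → Fˣ) (r : ℕ) :
    chr T' D' (extend' (extPar D D' F c)) r = ∏ j ∈ Finset.range D.rank, extend' c j ^ T'.cartan j r := by
  rw [chr, extend'_extPar C C' hs]
  refine (Finset.prod_subset (Finset.range_mono (sub_rank_le C C' hs)) fun j _ hj => ?_).symm.trans
    (Finset.prod_congr rfl fun j hj => by simp [Finset.mem_range.1 hj])
  rw [Finset.mem_range] at hj
  simp [hj]

theorem chr_extPar_ph (c : Fin D.rank → Fˣ) {r : ℕ} (hr : r < D.nroots) :
    chr T' D' (extend' (extPar D D' F c)) (ph.getD r 0) = chr T D (extend' c) r := by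
  rw [chr_extPar C C' hs, chr]
  exact Finset.prod_congr rfl fun j hj => by rw [hs.cart r hr j (Finset.mem_range.1 hj)]

theorem tlift_injective : Function.Injective (tlift D D' T' F) := by
  obtain ⟨M, hM⟩ := hs.inv
  have h1 : Function.Injective (torusHom D' T' F) :=
    torusHom_injective_scalar C' (M := M) (N := 1) (by rw [hM]; simp) fun x hx => by simpa using hx
  intro a b e
  have e' := h1 e
  funext i
  have := congrFun e' ⟨i.1, lt_of_lt_of_le i.2 (sub_rank_le C C' hs)⟩
  simpa [extPar, i.2] using this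

theorem pair_xg {r : ℕ} (hr : r < D.nroots) (t : F) : (xg C r t, xg C' (ph.getD r 0) t) ∈ liftPairs C C' ph F :=
  Subgroup.subset_closure ⟨r, hr, t, rfl⟩

theorem pair_ng {r : ℕ} (hr : r < D.nroots) (v : F) : (ng C r v, ng C' (ph.getD r 0) v) ∈ liftPairs C C' ph F := by
  obtain ⟨h1, h2, -⟩ := sub_root C C' hs.sub hr
  have h := mul_mem (mul_mem (pair_xg C C' hs hr v) (pair_xg C C' hs (C.spec.neg_lt r hr) (-v⁻¹)))
    (pair_xg C C' hs hr v)
  simpa only [Prod.mk_mul_mk, ng, C.spec.shape.neg_eq r hr, C'.spec.shape.neg_eq _ h1, h2] using h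

theorem pair_hg {i : ℕ} (hi : i < D.rank) (v : F) :
    (hg C (T.simp' i) v, hg C' (T'.simp' i) v) ∈ liftPairs C C' ph F := by
  have hr := C.spec.simp_lt i hi
  have h := mul_mem (pair_ng C C' hs hr v) (pair_ng C C' hs hr (-1 : F))
  rw [(sub_simp C C' hs.sub hi).2] at h
  exact h

theorem pair_wnu {w : List ℕ} (hw : IsWord D w) : (wnu C F w, wnu C' F w) ∈ liftPairs C C' ph F := by
  induction w with
  | nil => exact one_mem (liftPairs C C' ph F)
  | cons i w ih =>
    have hi : i < D.rank := hw i (by simp)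
    have h := pair_ng C C' hs (F := F) (C.spec.simp_lt i hi) 1
    rw [(sub_simp C C' hs.sub hi).2] at h
    rw [wnu_cons, wnu_cons]
    exact mul_mem h (ih fun j hj => hw j (by simp [hj]))

theorem pair_torus (c : Fin D.rank → Fˣ) : (torusHom D T F c, tlift D D' T' F c) ∈ liftPairs C C' ph F := by
  have hne : ∀ i, extend' c i ≠ 0 := extend'_ne c
  have e1 : torusHom D T F c = ((List.range D.rank).map fun i => hg C (T.simp' i) (extend' c i)).prod :=
    Units.ext (by rw [prod_hg_eq_scal C hne D.rank le_rfl, scal_extend])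
  have e2 : tlift D D' T' F c = ((List.range D.rank).map fun i => hg C' (T'.simp' i) (extend' c i)).prod :=
    Units.ext (by
      rw [prod_hg_eq_scal C' hne D.rank (sub_rank_le C C' hs), tlift, MonoidHom.comp_apply, coe_torusHom,
        extend'_extPar C C' hs])
  rw [e1, e2]
  have key : ∀ l : List ℕ, (∀ i ∈ l, i < D.rank) → ((l.map fun i => hg C (T.simp' i) (extend' c i)).prod,
      (l.map fun i => hg C' (T'.simp' i) (extend' c i)).prod) ∈ liftPairs C C' ph F := by
    intro l
    induction l with
    | nil => exact fun _ => one_mem (liftPairs C C' ph F)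
    | cons i l ih =>
      intro hl
      simp only [List.map_cons, List.prod_cons]
      exact mul_mem (pair_hg C C' hs (hl i (by simp)) _) (ih fun j hj => hl j (by simp [hj]))
  exact key _ fun i hi => List.mem_range.1 hi

theorem pair_exists {x : GL D.Idx F} (hx : x ∈ D.group F) : ∃ X, (x, X) ∈ liftPairs C C' ph F := by
  induction hx using Subgroup.closure_induction with
  | mem x hx =>
    obtain ⟨r, t, e⟩ := hx
    exact ⟨_, by rw [eq_xg C (r := r.1) (t := t) (e.trans (by rw [ChevalleyDatum.x, dif_pos r.2]))];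
                 exact pair_xg C C' hs r.2 t⟩
  | one => exact ⟨1, one_mem (liftPairs C C' ph F)⟩
  | mul a b _ _ ha hb =>
    obtain ⟨A, hA⟩ := ha
    obtain ⟨B, hB⟩ := hb
    exact ⟨A * B, mul_mem hA hB⟩
  | inv a _ ha =>
    obtain ⟨A, hA⟩ := ha
    exact ⟨A⁻¹, inv_mem hA⟩

theorem pair_map (σ : F →+* F) {p : GL D.Idx F × GL D'.Idx F} (hp : p ∈ liftPairs C C' ph F) :
    (Matrix.GeneralLinearGroup.map σ p.1, Matrix.GeneralLinearGroup.map σ p.2) ∈ liftPairs C C' ph F := by
  induction hp using Subgroup.closure_induction with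
  | mem x hx =>
    obtain ⟨r, hr, t, rfl⟩ := hx
    rw [map_xg, map_xg]
    exact pair_xg C C' hs hr _
  | one => simp only [Prod.fst_one, Prod.snd_one, map_one]; exact one_mem (liftPairs C C' ph F)
  | mul a b _ _ ha hb => simp only [Prod.fst_mul, Prod.snd_mul, map_mul]; exact mul_mem ha hb
  | inv a _ ha => simp only [Prod.fst_inv, Prod.snd_inv, map_inv]; exact inv_mem ha

theorem pair_of_fixedRoots (σ : F →+* F) {x : GL D.Idx F} (hx : x ∈ fixedRoots C σ) :
    ∃ X, (x, X) ∈ liftPairs C C' ph F ∧ Matrix.GeneralLinearGroup.map σ X = X := by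
  induction hx using Subgroup.closure_induction with
  | mem x hx =>
    obtain ⟨r, t, ht, rfl⟩ := hx
    by_cases hr : r < D.nroots
    · exact ⟨_, pair_xg C C' hs hr t, by rw [map_xg, ht]⟩
    · refine ⟨1, ?_, map_one _⟩
      rw [show xg C r t = 1 from Units.ext (by rw [coe_xg, ChevalleyDatum.x, dif_neg hr]; rfl)]
      exact one_mem (liftPairs C C' ph F)
  | one => exact ⟨1, one_mem (liftPairs C C' ph F), map_one _⟩
  | mul a b _ _ ha hb =>
    obtain ⟨A, hA, hA'⟩ := ha
    obtain ⟨B, hB, hB'⟩ := hb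
    exact ⟨A * B, mul_mem hA hB, by rw [map_mul, hA', hB']⟩
  | inv a _ ha =>
    obtain ⟨A, hA, hA'⟩ := ha
    exact ⟨A⁻¹, inv_mem hA, by rw [map_inv, hA']⟩

theorem tlift_ker_central {k : Fin D.rank → Fˣ} (hk : torusHom D T F k = 1) {p : GL D.Idx F × GL D'.Idx F}
    (hp : p ∈ liftPairs C C' ph F) : tlift D D' T' F k * p.2 = p.2 * tlift D D' T' F k := by
  induction hp using Subgroup.closure_induction with
  | mem x hx =>
    obtain ⟨r, hr, t, rfl⟩ := hx
    have h1 := torusHom_conj_xg C k hr (1 : F)
    rw [hk, mul_one, one_mul, inv_one, mul_one] at h1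
    have h2 := torusHom_conj_xg C' (extPar D D' F k) (sub_root C C' hs.sub hr).1 t
    rw [chr_extPar_ph C C' hs k hr, ← xg_injective C hr h1, one_mul] at h2
    exact mul_inv_eq_iff_eq_mul.1 h2
  | one => simp
  | mul a b _ _ ha hb => exact Commute.mul_right (show Commute _ a.2 from ha) (show Commute _ b.2 from hb)
  | inv a _ ha => exact Commute.inv_right (show Commute _ a.2 from ha)

variable (K : FullCert D T) (K' : CommCert D' T')
include K K'

theorem pair_one {X : GL D'.Idx F} (hX : ((1 : GL D.Idx F), X) ∈ liftPairs C C' ph F) :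
    ∃ k, torusHom D T F k = 1 ∧ X = tlift D D' T' F k := by
  let Φ := presFam (F := F) C K.comm (fun g hg => relsAB_subset hg : D.steinbergRelsAB F ⊆ D.steinbergRels F) subset_rfl
  have hgen : Φ.Gen := presFam_gen _ _ _ _
  let ρ := subHom (F := F) C C' hs.sub K'
  have hle : liftPairs C C' ph F ≤ (Φ.proj.prod ρ).range := by
    refine (Subgroup.closure_le _).2 ?_
    rintro _ ⟨r, hr, t, rfl⟩
    refine ⟨Φ.X r t, Prod.ext ?_ ?_⟩
    · exact Φ.map r hr t
    · show ρ (PresentedGroup.mk (D.steinbergRels F) (D.stX r t)) = _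
      rw [subHom_mk, subGen_stX C C' hs.sub hr]
  obtain ⟨s, hsX⟩ := hle hX
  have hs1 : Φ.proj s = 1 := congrArg Prod.fst hsX
  have hmul : Φ.HMul := fun i hi t u ht hu => by
    have h := PresentedGroup.one_of_mem (rels := D.steinbergRels F)
      (x := D.stH (T.simp' i) t * D.stH (T.simp' i) u * (D.stH (T.simp' i) (t * u))⁻¹)
      (Or.inr ⟨_, t, u, C.spec.simp_lt i hi, ht, hu, rfl⟩)
    rw [map_mul, map_mul, map_inv, mul_inv_eq_one] at h
    simp only [stH_mk C K.comm (fun g hg => relsAB_subset hg) subset_rfl (C.spec.simp_lt i hi)] at h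
    exact h
  obtain ⟨v, hv, e⟩ := Φ.exists_hProd K hs.nbr hmul
    (Φ.ker_projG_le_torH K hs.nbr hgen (show Φ.projG hgen s = 1 from Subtype.ext hs1))
  let k : Fin D.rank → Fˣ := fun i => Units.mk0 (v i) (hv i)
  have hk : ∀ i < D.rank, extend' k i = v i := fun i hi => by simp [extend', k, hi]
  refine ⟨k, ?_, ?_⟩
  · rw [← hs1, e]
    refine Units.ext ?_
    rw [← scal_extend, ← prod_hg_eq_scal C (extend'_ne k) D.rank le_rfl, StAll.hProd, map_list_prod, List.map_map]
    congr 2
    refine List.map_congr_left fun i hi => ?_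
    rw [Function.comp_apply, Φ.proj_hH (C.spec.simp_lt i (List.mem_range.1 hi)), hk i (List.mem_range.1 hi)]
  · rw [show X = ρ s from (congrArg Prod.snd hsX).symm, e]
    refine Units.ext ?_
    rw [StAll.hProd, map_list_prod, List.map_map,
      List.map_congr_left (g := fun i => hg C' (T'.simp' i) (extend' k i)) (fun i hi => ?_),
      prod_hg_eq_scal C' (extend'_ne k) D.rank (sub_rank_le C C' hs), tlift, MonoidHom.comp_apply, coe_torusHom,
      extend'_extPar C C' hs]
    have hi' := List.mem_range.1 hi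
    rw [Function.comp_apply,
      ← stH_mk C K.comm (fun g hg => relsAB_subset hg) subset_rfl (C.spec.simp_lt i hi'), subHom_mk,
      subGen_stH C C' hs.sub (C.spec.simp_lt i hi'), (sub_simp C C' hs.sub hi').2, hk i hi']

theorem pair_unique {x : GL D.Idx F} {X Y : GL D'.Idx F} (hX : (x, X) ∈ liftPairs C C' ph F)
    (hY : (x, Y) ∈ liftPairs C C' ph F) : ∃ k, torusHom D T F k = 1 ∧ X = Y * tlift D D' T' F k := by
  have h := mul_mem (inv_mem hY) hX
  rw [Prod.inv_mk, Prod.mk_mul_mk, inv_mul_cancel] at h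
  obtain ⟨k, hk, e⟩ := pair_one C C' hs K K' h
  exact ⟨k, hk, by rw [← e, mul_inv_cancel_left]⟩

/-- An element with a fixed preimage is generated by fixed root elements. -/
theorem mem_fixedRoots_of_lift (σ : F →+* F) {x : GL D.Idx F} {X : GL D'.Idx F}
    (hX : (x, X) ∈ liftPairs C C' ph F) (hx : x ∈ D.group F) (hσx : Matrix.GeneralLinearGroup.map σ x = x)
    (hσX : Matrix.GeneralLinearGroup.map σ X = X) : x ∈ fixedRoots C σ := by
  obtain ⟨u, hu, v, hv, d, hd, -, rfl⟩ := fixed_decomp C σ K hx hσx
  obtain ⟨U, hU, hU'⟩ := pair_of_fixedRoots C C' hs σ hu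
  obtain ⟨V, hV, hV'⟩ := pair_of_fixedRoots C C' hs σ hv
  rw [← torusHom_range C] at hd
  obtain ⟨c, rfl⟩ := hd
  obtain ⟨k, hk, e⟩ := pair_unique C C' hs K K' hX (mul_mem (mul_mem hU (pair_torus C C' hs c)) hV)
  have e2 : X = U * tlift D D' T' F (c * k) * V := by
    have hc : tlift D D' T' F k * V = V * tlift D D' T' F k := tlift_ker_central C C' hs hk hV
    rw [e, map_mul]
    show U * tlift D D' T' F c * V * tlift D D' T' F k = _
    rw [mul_assoc (U * _) V, ← hc]
    simp only [mul_assoc]
  rw [e2, map_mul, map_mul, hU', hV'] at hσX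
  have e3 := mul_left_cancel (mul_right_cancel hσX)
  refine mul_mem (mul_mem hu ?_) hv
  rw [show torusHom D T F c = torusHom D T F (c * k) by rw [map_mul, hk, mul_one]]
  have hfix : ∀ i < D.rank, σ (extend' (c * k) i) = extend' (c * k) i := by
    intro i hi
    rw [tlift, MonoidHom.comp_apply, map_torusHom C'] at e3
    obtain ⟨M, hM⟩ := hs.inv
    have h1 : Function.Injective (torusHom D' T' F) :=
      torusHom_injective_scalar C' (M := M) (N := 1) (by rw [hM]; simp) fun x hx => by simpa using hx
    have := congrArg Units.val (congrFun (h1 e3) ⟨i, lt_of_lt_of_le hi (sub_rank_le C C' hs)⟩)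
    simpa [extend', extPar, hi] using this
  rw [torusHom_eq_prod C (c * k) List.nodup_range (fun i => List.mem_range.1) (fun i hi => List.mem_range.2 hi)]
  refine list_prod_mem fun x hx => ?_
  obtain ⟨i, hi, rfl⟩ := List.mem_map.1 hx
  exact mul_mem (ng_mem_fixedRoots C σ (hfix i (List.mem_range.1 hi))) (ng_mem_fixedRoots C σ (by rw [map_neg, map_one]))

end Cfsg.Lib.Chev
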