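import Cfsg.Agent.Lib.Chev.TorusDenData
import Cfsg.Agent.Lib.Chev.TorusLift

/-!
Self-centralising cyclic subgroups in the types whose torus parametrisation has a kernel: the preimage inside the
larger group decides which elements of the twisted torus lie in the finite group.
-/

set_option autoImplicit false
set_option linter.unusedSectionVars false

namespace Cfsg.Lib.Chev

open Cfsg.Lie

variable {D D' : ChevalleyDatum} {T T' : Tbl} {F : Type*} [Field F]

theorem torus_chr_eq (C : Cert D T) {a b : Fin D.rank → Fˣ} (h : torusHom D T F a = torusHom D T F b) {r : ℕ}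
    (hr : r < D.nroots) : chr T D (extend' a) r = chr T D (extend' b) r := by
  have e := (torusHom_conj_xg C a hr (1 : F)).symm.trans (h ▸ torusHom_conj_xg C b hr (1 : F))
  rw [mul_one, mul_one] at e
  exact xg_injective C hr e

/-- The effect of the step relation on the value at `q`. -/
theorem step_sum {n : ℕ} (hn : 0 < n) {f f' tg : ℕ → ℤ}
    (h : ∀ k < n, f' k = (if k = 0 then 0 else f (k - 1)) - f (n - 1) * tg k) (q : ℤ) :
    ∑ k ∈ Finset.range n, f' k * q ^ k = q * ∑ k ∈ Finset.range n, f k * q ^ k -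
      f (n - 1) * (q ^ n + ∑ k ∈ Finset.range n, tg k * q ^ k) := by
  rw [Finset.sum_congr rfl fun k hk => by rw [h k (Finset.mem_range.1 hk)]]
  obtain ⟨m, rfl⟩ := Nat.exists_eq_succ_of_ne_zero hn.ne'
  simp only [Nat.succ_eq_add_one, sub_mul, Finset.sum_sub_distrib]
  rw [Finset.sum_range_succ' (fun k => (if k = 0 then 0 else f (k - 1)) * q ^ k),
    Finset.sum_range_succ (fun k => f k * q ^ k)]
  simp only [Nat.add_eq_zero_iff, one_ne_zero, and_false, if_false, Nat.add_sub_cancel, if_true, zero_mul, add_zero]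
  simp only [mul_add, Finset.mul_sum, mul_assoc]
  rw [Finset.sum_congr rfl (fun k _ => show f k * q ^ (k + 1) = q * (f k * q ^ k) by ring)]
  ring

theorem frob_fixed_iff {E L : Type*} [Field E] [Fintype E] [Field L] [Algebra E L] {σ : L →+* L}
    (hσ : ∀ x, σ x = x ^ Fintype.card E) (t : L) : σ t = t ↔ t ∈ (algebraMap E L).range := by
  classical
  refine ⟨fun ht => ?_, ?_⟩
  · rw [hσ] at ht
    let P : Polynomial L := Polynomial.X ^ Fintype.card E - Polynomial.X
    have hP : P ≠ 0 := FiniteField.X_pow_card_sub_X_ne_zero L Fintype.one_lt_card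
    have hsub : Finset.univ.image (algebraMap E L) ⊆ P.roots.toFinset := fun x hx => by
      obtain ⟨y, -, rfl⟩ := Finset.mem_image.1 hx
      rw [Multiset.mem_toFinset, Polynomial.mem_roots hP]
      simp [P, ← map_pow, FiniteField.pow_card]
    have heq := Finset.eq_of_subset_of_card_le hsub (by
      rw [Finset.card_image_of_injective _ (algebraMap E L).injective, Finset.card_univ]
      exact (Multiset.toFinset_card_le _).trans ((Polynomial.card_roots' P).trans
        (FiniteField.X_pow_card_sub_X_natDegree_eq L Fintype.one_lt_card).le))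
    have htm : t ∈ P.roots.toFinset := by
      rw [Multiset.mem_toFinset, Polynomial.mem_roots hP]; simp [P, ht]
    rw [← heq] at htm
    obtain ⟨y, -, e⟩ := Finset.mem_image.1 htm
    exact ⟨y, e⟩
  · rintro ⟨y, rfl⟩
    rw [hσ, ← map_pow, FiniteField.pow_card]

variable {S : TorData}

set_option maxHeartbeats 1600000 in
/-- A cyclic self-centralising subgroup whose order is the order of the torus divided by the index. -/
theorem exists_cyclic_self_centralizing_den (C : Cert D T) (K : FullCert D T) (C' : Cert D' T') (K' : CommCert D' T')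
    {ph : List ℕ} (hs : SubData D D' T T' ph) {E : Type*} [Field E] [Fintype E] {q : ℕ} (hE : Fintype.card E = q)
    {d : ℕ} (hd : d.Prime) {Mi : Matrix (Fin D.rank) (Fin D.rank) ℤ}
    (hMi : Mi * cartanMat D T = Matrix.diagonal fun _ => (d : ℤ)) {r1 : ℕ}
    (hS : TorOKDen D D' T T' S (d : ℤ) r1) (ht0 : nth 0 S.tg 0 = 1) {N : ℕ} (hN : (N : ℤ) = S.ord T q) (hN0 : N ≠ 0)
    (hdq : d ∣ N → d ∣ q - 1) {M : ℕ} (hM : M * d.gcd N = N) (hsep : TorSepDen D T S (d : ℤ) (M : ℤ) q) :
    ∃ H : Subgroup ↥(D.group E), IsCyclic ↥H ∧ Nat.card ↥H = M ∧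
      Subgroup.centralizer (H : Set ↥(D.group E)) = H := by
  classical
  subst hE
  obtain ⟨p, hp⟩ := CharP.exists E
  obtain ⟨f, hprime, hq⟩ := FiniteField.card E p
  haveI := Fact.mk hprime
  let L := AlgebraicClosure E
  haveI : CharP L p := charP_of_injective_algebraMap (algebraMap E L).injective p
  set σ := iterateFrobenius L p (f : ℕ) with hσdef
  have hσ : ∀ x : L, σ x = x ^ Fintype.card E := fun x => by rw [hσdef, iterateFrobenius_def, hq]
  set q := Fintype.card E with hqdef
  have hqpos : 2 ≤ q := Fintype.one_lt_card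
  have hfix := frob_fixed_iff (E := E) hσ
  have hrk : T.rank = D.rank := C.spec.shape.rank_eq
  have hord : S.ord T q = (q : ℤ) ^ D.rank + ∑ k ∈ Finset.range D.rank, nth 0 S.tg k * (q : ℤ) ^ k := by
    rw [TorData.ord, sumBelow_eq, hrk]
  -- a root of unity of order `N` and a root of it
  have hNL : (N : L) ≠ 0 := by
    intro h0
    rw [CharP.cast_eq_zero_iff L p] at h0
    have hd' : (p : ℤ) ∣ S.ord T q := hN ▸ Int.natCast_dvd_natCast.2 h0
    have hpq : (p : ℤ) ∣ (q : ℤ) := by rw [hq]; exact_mod_cast dvd_pow_self p f.ne_zero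
    obtain ⟨m, hm⟩ := Nat.exists_eq_succ_of_ne_zero hS.rank_pos.ne'
    simp only [TorData.ord, sumBelow_eq, C.spec.shape.rank_eq, hm, Nat.succ_eq_add_one,
      Finset.sum_range_succ', pow_zero, mul_one, ht0, ← add_assoc] at hd'
    have h1 : (p : ℤ) ∣ (1 : ℤ) := (dvd_add_right (dvd_add (hpq.trans (dvd_pow_self _ (Nat.succ_ne_zero m)))
      (Finset.dvd_sum fun k _ => Dvd.dvd.mul_left (hpq.trans (dvd_pow_self _ (Nat.succ_ne_zero k))) _))).1 hd'
    exact hprime.one_lt.ne' (by exact_mod_cast Int.eq_one_of_dvd_one (by omega) h1)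
  haveI : NeZero (N : L) := ⟨hNL⟩
  obtain ⟨ζ, hζ⟩ := HasEnoughRootsOfUnity.exists_primitiveRoot L N
  have hζ0 : ζ ≠ 0 := hζ.ne_zero hN0
  obtain ⟨ξ, hξ⟩ := IsAlgClosed.exists_pow_nat_eq ζ hd.pos
  have hξ0 : ξ ≠ 0 := fun e => hζ0 (by rw [← hξ, e, zero_pow hd.ne_zero])
  have hζeq : ∀ a b : ℤ, ζ ^ a = ζ ^ b ↔ S.ord T q ∣ a - b := fun a b => by
    rw [← hN, ← hζ.zpow_eq_one_iff_dvd, zpow_sub₀ hζ0, div_eq_one_iff_eq (zpow_ne_zero _ hζ0)]
  -- the parameters
  let c : Fin D.rank → Lˣ := fun j => Units.mk0 ξ hξ0 ^ S.gam T q j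
  have hsum : ∀ (cart : ℕ → ℤ), (∏ j ∈ Finset.range D.rank, extend' c j ^ cart j) =
      ξ ^ (∑ j ∈ Finset.range D.rank, S.gam T q j * cart j) := by
    intro cart
    rw [← zpow_sum' hξ0]
    refine Finset.prod_congr rfl fun j hj => ?_
    simp only [extend', dif_pos (Finset.mem_range.1 hj), c, Units.val_zpow_eq_zpow_val, Units.val_mk0, ← zpow_mul]
  have hc : ∀ r < D.nroots, chr T D (extend' c) r = ζ ^ S.expd T d q r := by
    intro r hr
    rw [chr, hsum (fun j => T.cartan j r), sum_gam C S q r, ← hξ, ← zpow_natCast, ← zpow_mul]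
    congr 1
    simp only [TorData.expo, TorData.expd, sumBelow_eq, hrk, Finset.mul_sum, ← mul_assoc]
    exact Finset.sum_congr rfl fun k hk => by
      rw [TorData.cd, Int.mul_ediv_cancel' (hS.dvd r hr k (Finset.mem_range.1 hk))]
  have hamb : ∀ r, chr T' D' (extend' (extPar D D' L c)) r =
      ξ ^ ∑ k ∈ Finset.range D.rank, S.coefAmb T T' r k * (q : ℤ) ^ k := by
    intro r
    rw [chr_extPar C C' hs, hsum (fun j => T'.cartan j r)]
    congr 1
    simp only [TorData.gam, TorData.coefAmb, sumBelow_eq, hrk, Finset.sum_mul]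
    rw [Finset.sum_comm]
    exact Finset.sum_congr rfl fun k _ => Finset.sum_congr rfl fun j _ => by ring
  have hstep0 : ∀ r < D.nroots, S.expd T d q (wperm T S.w r) =
      q * S.expd T d q r - S.cd T d r (D.rank - 1) * S.ord T q := by
    intro r hr
    rw [hord, TorData.expd, TorData.expd, sumBelow_eq, sumBelow_eq, hrk]
    exact step_sum hS.rank_pos (hS.step r hr) _
  have hrev : ∀ r < D.nroots, wperm T S.w (wperm T S.w.reverse r) = r := fun r hr => by
    have := wperm_reverse C hS.isWord.reverse hr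
    rwa [List.reverse_reverse] at this
  let σc : (Fin D.rank → Lˣ) → (Fin D.rank → Lˣ) := fun e i => Units.map σ.toMonoidHom (e i)
  have hσchr : ∀ e r, chr T D (extend' (σc e)) r = chr T D (extend' e) r ^ q := by
    intro e r
    rw [← hσ]
    simp only [chr, map_prod, map_zpow₀]
    refine Finset.prod_congr rfl fun j hj => ?_
    simp [extend', σc, Finset.mem_range.1 hj]
  have hσamb : ∀ r, chr T' D' (extend' (extPar D D' L (σc c))) r = chr T' D' (extend' (extPar D D' L c)) r ^ q := by
    intro r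
    rw [← hσ, chr_extPar C C' hs, chr_extPar C C' hs, map_prod]
    refine Finset.prod_congr rfl fun j hj => ?_
    simp [extend', σc, Finset.mem_range.1 hj, map_zpow₀]
  have hmaplift : ∀ e, Matrix.GeneralLinearGroup.map σ (tlift D D' T' L e) = tlift D D' T' L (σc e) := by
    intro e
    rw [tlift, MonoidHom.comp_apply, MonoidHom.comp_apply, map_torusHom C']
    refine congrArg _ (funext fun i => ?_)
    simp only [extPar, MonoidHom.coe_mk, OneHom.coe_mk, σc]
    split_ifs <;> simp
  have hker : ∀ k : Fin D.rank → Lˣ, torusHom D T L k = 1 → k ^ d = 1 := by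
    intro k hk
    have h : k ∈ (torusHom D T L).ker := hk
    rw [torusHom_ker C, MonoidHom.mem_ker] at h
    have h2 : powHom (Mi * cartanMat D T) k = 1 := by rw [powHom_mul, MonoidHom.comp_apply, h, map_one]
    rw [hMi] at h2
    funext i
    exact (powHom_diagonal (fun _ => d) k i).symm.trans (congrFun h2 i)
  set n := wnu C L S.w with hn
  set h := torusHom D T L c with hh
  have hnh : n * Matrix.GeneralLinearGroup.map σ h * n⁻¹ = h := by
    obtain ⟨e, he, hchr⟩ := torus_word_conj C hS.isWord (σc c)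
    rw [map_torusHom C, he]
    refine torusHom_congr fun r hr => ?_
    have hr' := wperm_lt C hS.isWord.reverse hr
    rw [← hrev r hr, hchr _ hr', hσchr, hc _ hr', hc _ (wperm_lt C hS.isWord hr'), ← zpow_natCast, ← zpow_mul, hζeq,
      hstep0 _ hr']
    exact ⟨S.cd T d (wperm T S.w.reverse r) (D.rank - 1), by ring⟩
  obtain ⟨g, hg, hgn⟩ := lang_chev C K (p := p) (f := (f : ℕ)) (by rw [← hq]; exact hqpos) (1 : GL D.Idx L)
    (fun x hx => by simpa using hx) (monomial_le_group C (wnu_mem C hS.isWord) : n ∈ D.group L)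
  have hσg : Matrix.GeneralLinearGroup.map σ g = g * n := by
    rw [← hgn, hσdef]; group
  have hhd : h ∈ D.diagonalSubgroup L := by rw [← torusHom_range C]; exact ⟨c, rfl⟩
  have hhG : h ∈ D.group L := monomial_le_group C (diag_le_monomial C hhd)
  have hyG : g * h * g⁻¹ ∈ D.group L := mul_mem (mul_mem hg hhG) (inv_mem hg)
  set y := g * h * g⁻¹ with hy
  have hσy : Matrix.GeneralLinearGroup.map σ y = y := by
    rw [hy, map_mul, map_mul, map_inv, hσg]
    calc g * n * Matrix.GeneralLinearGroup.map σ h * (g * n)⁻¹ =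
        g * (n * Matrix.GeneralLinearGroup.map σ h * n⁻¹) * g⁻¹ := by group
      _ = _ := by rw [hnh]
  -- the preimages
  obtain ⟨G, hG⟩ := pair_exists C C' hs hg
  set N' := wnu C' L S.w with hN'
  set Hl := tlift D D' T' L c with hHl
  have hnN : (n, N') ∈ liftPairs C C' ph L := pair_wnu C C' hs hS.isWord
  have hhH : (h, Hl) ∈ liftPairs C C' ph L := pair_torus C C' hs c
  obtain ⟨k0, hk0, hσG⟩ : ∃ k, torusHom D T L k = 1 ∧
      Matrix.GeneralLinearGroup.map σ G = G * N' * tlift D D' T' L k := by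
    refine pair_unique C C' hs K K' (x := g * n) ?_ (mul_mem hG hnN)
    rw [← hσg]
    exact pair_map C C' hs σ hG
  obtain ⟨k1, hk1, hσH⟩ : ∃ k, torusHom D T L k = 1 ∧
      N' * Matrix.GeneralLinearGroup.map σ Hl * N'⁻¹ = Hl * tlift D D' T' L k := by
    refine pair_unique C C' hs K K' (x := h) ?_ hhH
    have := mul_mem (mul_mem hnN (pair_map C C' hs σ hhH)) (inv_mem hnN)
    rw [Prod.inv_mk, Prod.mk_mul_mk, Prod.mk_mul_mk, hnh] at this
    exact this
  have hconj : ∀ i : ℕ, Matrix.GeneralLinearGroup.map σ (G * Hl ^ i * G⁻¹) =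
      G * (Hl * tlift D D' T' L k1) ^ i * G⁻¹ := by
    intro i
    have hcomm : tlift D D' T' L k0 * Matrix.GeneralLinearGroup.map σ (Hl ^ i) =
        Matrix.GeneralLinearGroup.map σ (Hl ^ i) * tlift D D' T' L k0 := by
      have := tlift_ker_central C C' hs hk0 (pair_map C C' hs σ (pow_mem hhH i))
      exact this
    rw [← hσH, conj_pow, map_mul, map_mul, map_inv, hσG, ← map_pow (Matrix.GeneralLinearGroup.map σ)]
    calc G * N' * tlift D D' T' L k0 * Matrix.GeneralLinearGroup.map σ (Hl ^ i) *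
          (G * N' * tlift D D' T' L k0)⁻¹
        = G * N' * (tlift D D' T' L k0 * Matrix.GeneralLinearGroup.map σ (Hl ^ i)) *
          (tlift D D' T' L k0)⁻¹ * N'⁻¹ * G⁻¹ := by group
      _ = _ := by rw [hcomm]; group
  -- the range
  let φ : ↥(D.group E) →* GL D.Idx L :=
    (Matrix.GeneralLinearGroup.map (algebraMap E L)).comp (D.group E).subtype
  have hφinj : Function.Injective φ := (map_gl_injective _).comp Subtype.val_injective
  have hrange : ∀ x, x ∈ fixedRoots C σ ↔ x ∈ φ.range := by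
    intro x
    rw [fixedRoots_eq_map C σ (algebraMap E L) hfix, Subgroup.mem_map]
    exact ⟨fun ⟨u, hu, e⟩ => ⟨⟨u, hu⟩, e⟩, fun ⟨u, e⟩ => ⟨u, u.2, e⟩⟩
  have hyd : y ^ d ∈ fixedRoots C σ := by
    refine mem_fixedRoots_of_lift C C' hs K K' σ (X := G * Hl ^ d * G⁻¹) ?_ (pow_mem hyG d)
      (by rw [map_pow, hσy]) ?_
    · have := mul_mem (mul_mem hG (pow_mem hhH d)) (inv_mem hG)
      rw [Prod.pow_mk, Prod.inv_mk, Prod.mk_mul_mk, Prod.mk_mul_mk] at this
      rw [hy, conj_pow]
      exact this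
    · rw [hconj, hHl, ← map_mul, ← map_pow, ← map_pow, mul_pow, hker k1 hk1, mul_one]
  have hordy : orderOf y = N := by
    rw [hy, ← MulAut.conj_apply, MulEquiv.orderOf_eq]
    refine Nat.dvd_antisymm (orderOf_dvd_of_pow_eq_one ?_) ?_
    · rw [hh, ← map_pow, ← map_one (torusHom D T L)]
      refine torusHom_congr fun r hr => ?_
      rw [chr_pow', hc r hr, ← zpow_natCast, ← zpow_mul,
        show chr T D (extend' (1 : Fin D.rank → Lˣ)) r = 1 by simp [chr, extend'], ← zpow_zero ζ, hζeq, sub_zero, ← hN]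
      exact dvd_mul_left _ _
    · have e := pow_orderOf_eq_one h
      generalize orderOf h = m at e ⊢
      rw [hh, ← map_pow, ← map_one (torusHom D T L)] at e
      have e' : chr T D (extend' (c ^ m)) S.r0 = 1 := by rw [torus_chr_eq C e hS.r0_lt]; simp [chr, extend']
      have hr0 : S.expd T d q S.r0 = 1 := by
        simp only [TorData.expd, sumBelow_eq, hrk]
        rw [Finset.sum_eq_single 0
          (fun k hk hk0 => by rw [hS.coef_r0 k (Finset.mem_range.1 hk), if_neg hk0, zero_mul])
          (fun h => absurd (Finset.mem_range.2 hS.rank_pos) h), hS.coef_r0 0 hS.rank_pos, if_pos rfl, pow_zero, one_mul]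
      rw [chr_pow', hc _ hS.r0_lt, hr0, zpow_one] at e'
      exact hζ.dvd_of_pow_eq_one m e'
  set j := d.gcd N with hj
  have hyj : y ^ j ∈ fixedRoots C σ := by
    have hyN : y ^ N = 1 := by rw [← hordy, pow_orderOf_eq_one]
    have e : y ^ (j : ℤ) = (y ^ (d : ℤ)) ^ d.gcdA N * (y ^ (N : ℤ)) ^ d.gcdB N := by
      rw [← zpow_mul, ← zpow_mul, ← zpow_add, hj, Nat.gcd_eq_gcd_ab]
    rw [← zpow_natCast, e, zpow_natCast, zpow_natCast, hyN, one_zpow, mul_one]
    exact zpow_mem hyd _
  have hnot : j = d → y ∉ fixedRoots C σ := by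
    intro hjd hmem
    have hdN : d ∣ N := by rw [← hjd]; exact Nat.gcd_dvd_right d N
    obtain ⟨R, hR, hσR⟩ := pair_of_fixedRoots C C' hs σ hmem
    have hGH : (y, G * Hl ^ 1 * G⁻¹) ∈ liftPairs C C' ph L := by
      have := mul_mem (mul_mem hG hhH) (inv_mem hG)
      rw [Prod.inv_mk, Prod.mk_mul_mk, Prod.mk_mul_mk] at this
      rw [pow_one]; exact this
    obtain ⟨k2, hk2, rfl⟩ := pair_unique C C' hs K K' hR hGH
    have hσk : σc k2 = k2 := by
      obtain ⟨m, hm⟩ := hdq hdN
      funext i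
      refine Units.ext ?_
      show σ (k2 i : L) = k2 i
      have h1 : (k2 i : L) ^ d = 1 := by
        rw [← Units.val_pow_eq_pow_val]
        exact congrArg Units.val (congrFun (hker k2 hk2) i)
      rw [hσ, show q = d * m + 1 by omega, pow_succ, pow_mul, h1, one_pow, one_mul]
    rw [map_mul, hmaplift, hσk, hconj, pow_one, pow_one] at hσR
    have e0 : Hl * tlift D D' T' L k1 = Hl := mul_left_cancel (mul_right_cancel (mul_right_cancel hσR))
    rw [e0] at hσH
    have hw' : IsWord D' S.w := fun i hi => lt_of_lt_of_le (hS.isWord i hi) (sub_rank_le C C' hs)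
    obtain ⟨e, he, hchr⟩ := torus_word_conj C' hw' (extPar D D' L (σc c))
    rw [hmaplift] at hσH
    have he' : torusHom D' T' L e = torusHom D' T' L (extPar D D' L c) := he.symm.trans hσH
    have e1 := (hchr r1 hS.r1_lt).symm.trans (torus_chr_eq C' he' (wperm_lt C' hw' hS.r1_lt))
    rw [hσamb, hamb, hamb, step_sum hS.rank_pos hS.amb_step, ← hord, ← zpow_natCast, ← zpow_mul, zpow_sub₀ hξ0,
      mul_comm (q : ℤ), eq_div_iff (zpow_ne_zero _ hξ0), mul_eq_left₀ (zpow_ne_zero _ hξ0), mul_comm, zpow_mul,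
      ← hN, zpow_natCast] at e1
    set η := ξ ^ N with hη
    have hη1 : η ^ d = 1 := by rw [hη, ← pow_mul, mul_comm, pow_mul, hξ, hζ.pow_eq_one]
    have hηne : η ≠ 1 := by
      intro h1
      obtain ⟨m, hm⟩ := hdN
      refine hζ.pow_ne_one_of_pos_of_lt (l := m) ?_ ?_ (by rw [← hξ, ← pow_mul, ← hm, ← hη, h1])
      · rintro rfl; exact hN0 (by rw [hm, mul_zero])
      · rw [hm]; exact lt_mul_of_one_lt_left (Nat.pos_of_ne_zero (by rintro rfl; exact hN0 (by rw [hm, mul_zero]))) hd.one_lt
    haveI := Fact.mk hd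
    have hηd : IsPrimitiveRoot η d := (orderOf_eq_prime hη1 hηne) ▸ IsPrimitiveRoot.orderOf η
    exact hS.amb_ne ((hηd.zpow_eq_one_iff_dvd _).1 e1)
  obtain ⟨t, ht⟩ := (hrange _).1 hyj
  have hordt : orderOf t = M := by
    rw [← orderOf_injective φ hφinj, ht, orderOf_pow' y (Nat.gcd_pos_of_pos_left N hd.pos).ne', hordy, Nat.gcd_eq_right (Nat.gcd_dvd_right d N)]
    exact Nat.div_eq_of_eq_mul_left (Nat.gcd_pos_of_pos_left _ hd.pos) hM.symm
  have hj0 : (j : ℤ) ≠ 0 := by exact_mod_cast (Nat.gcd_pos_of_pos_left N hd.pos).ne'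
  have hjc : ∀ r < D.nroots, chr T D (extend' (c ^ j)) r = ζ ^ (S.expd T d q r * j) := fun r hr => by
    rw [chr_pow', hc r hr, ← zpow_natCast, ← zpow_mul]
  have hjdvd : ∀ a : ℤ, S.ord T q ∣ a * j ↔ (M : ℤ) ∣ a := fun a => by
    rw [← hN, ← hM, Nat.cast_mul, Int.mul_dvd_mul_iff_right hj0]
  have hreg : ∀ r < D.nroots, chr T D (extend' (c ^ j)) r ≠ 1 := fun r hr e => by
    rw [hjc r hr, ← zpow_zero ζ, hζeq, sub_zero, hjdvd] at e
    exact hsep.ne_zero r hr e
  have hsep' : ∀ v, IsWord D v → (∀ k < D.rank,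
      chr T D (extend' (c ^ j)) (wperm T v (T.simp' k)) = chr T D (extend' (c ^ j)) (T.simp' k)) →
      ∀ k < D.rank, wperm T v (T.simp' k) = T.simp' k := fun v hv h =>
    hsep.sep v hv fun k hk => by
      have := h k hk
      rwa [hjc _ (wperm_lt C hv (C.spec.simp_lt k hk)), hjc _ (C.spec.simp_lt k hk), hζeq, ← sub_mul, hjdvd] at this
  refine ⟨Subgroup.zpowers t, inferInstance, by rw [Nat.card_zpowers, hordt], ?_⟩
  refine le_antisymm (fun u hu => ?_) (fun x hx => ?_)
  · have hu' : t * u = u * t := Subgroup.mem_centralizer_iff.1 hu t (Subgroup.mem_zpowers t)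
    have huF : φ u ∈ fixedRoots C σ := (hrange _).2 ⟨u, rfl⟩
    have hUG := fixedRoots_le_group C σ huF
    have hUfix := map_fixedRoots C σ huF
    have hhj : torusHom D T L (c ^ j) = g⁻¹ * y ^ j * g := by
      rw [map_pow, ← hh, hy, conj_pow]; group
    have hcomm : torusHom D T L (c ^ j) * (g⁻¹ * φ u * g) = (g⁻¹ * φ u * g) * torusHom D T L (c ^ j) := by
      rw [hhj]
      calc g⁻¹ * y ^ j * g * (g⁻¹ * φ u * g) = g⁻¹ * (φ t * φ u) * g := by rw [ht]; group
        _ = g⁻¹ * (φ u * φ t) * g := by rw [← map_mul, hu', map_mul]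
        _ = _ := by rw [ht]; group
    have hd2 := centralizer_regular C K hreg hsep' (mul_mem (mul_mem (inv_mem hg) hUG) hg) hcomm
    rw [← torusHom_range C] at hd2
    obtain ⟨a, ha⟩ := hd2
    have hnd : n * Matrix.GeneralLinearGroup.map σ (torusHom D T L a) * n⁻¹ = torusHom D T L a := by
      rw [ha, map_mul, map_mul, map_inv, hUfix, hσg]; group
    obtain ⟨e, he, hchr⟩ := torus_word_conj C hS.isWord (σc a)
    rw [map_torusHom C, he] at hnd
    have hstep : ∀ r < D.nroots, chr T D (extend' a) (wperm T S.w r) = chr T D (extend' a) r ^ q := fun r hr => by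
      rw [← hσchr, ← hchr r hr, torus_chr_eq C hnd (wperm_lt C hS.isWord hr)]
    have horblt : ∀ k, S.orb T k < D.nroots := by
      intro k
      induction k with
      | zero => exact hS.r0_lt
      | succ k ih => exact wperm_lt C hS.isWord ih
    set z := chr T D (extend' a) S.r0 with hz
    have hz0 : z ≠ 0 := chr_ne_zero' C a _
    have horb : ∀ k : ℕ, chr T D (extend' a) (S.orb T k) = z ^ ((q : ℤ) ^ k) := by
      intro k
      induction k with
      | zero => rw [pow_zero, zpow_one]; rfl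
      | succ k ih =>
        rw [show S.orb T (k + 1) = wperm T S.w (S.orb T k) from rfl, hstep _ (horblt k), ih, ← zpow_natCast,
          ← zpow_mul, pow_succ]
    have hchrd : ∀ r < D.nroots, chr T D (extend' a) r = z ^ S.expd T d q r := by
      intro r hr
      simp only [TorData.expd, sumBelow_eq, hrk]
      rw [← zpow_sum' hz0]
      calc chr T D (extend' a) r
          = ∏ i ∈ Finset.range D.rank, ∏ k ∈ Finset.range D.rank,
              (extend' a i ^ T.cartan i (S.orb T k)) ^ S.cd T d r k := by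
            refine Finset.prod_congr rfl fun i hi => ?_
            rw [hS.cart r hr i (Finset.mem_range.1 hi), ← zpow_sum' (extend'_ne a i)]
            exact Finset.prod_congr rfl fun k _ => by rw [← zpow_mul, mul_comm]
        _ = _ := by
            rw [Finset.prod_comm]
            refine Finset.prod_congr rfl fun k _ => ?_
            rw [Finset.prod_zpow, ← chr, horb, ← zpow_mul, mul_comm]
    obtain ⟨m, hm⟩ := Nat.exists_eq_succ_of_ne_zero hS.rank_pos.ne'
    have e3 : z ^ S.expd T d q (wperm T S.w (S.orb T m)) = z ^ ((q : ℤ) * S.expd T d q (S.orb T m)) := by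
      rw [← hchrd _ (wperm_lt C hS.isWord (horblt m)), hstep _ (horblt m), hchrd _ (horblt m),
        ← zpow_natCast, ← zpow_mul, mul_comm]
    have hcm : S.cd T d (S.orb T m) m = 1 := by
      have : ∀ k, k ≤ m → ∀ l < D.rank, S.cd T d (S.orb T k) l = if l = k then 1 else 0 := by
        intro k
        induction k with
        | zero => intro _ l hl; exact hS.coef_r0 l hl
        | succ k ih =>
          intro hk l hl
          rw [show S.orb T (k + 1) = wperm T S.w (S.orb T k) from rfl, hS.step _ (horblt k) l hl,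
            ih (by omega) (D.rank - 1) (by omega), if_neg (show D.rank - 1 ≠ k by omega), zero_mul, sub_zero]
          rcases l with _ | l
          · simp
          · simp only [Nat.succ_ne_zero, if_false, Nat.add_sub_cancel, Nat.add_right_cancel_iff]
            exact ih (by omega) l (by omega)
      rw [this m le_rfl m (by omega), if_pos rfl]
    rw [hstep0 _ (horblt m), show D.rank - 1 = m by omega, hcm, one_mul, zpow_sub₀ hz0,
      div_eq_iff (zpow_ne_zero _ hz0), left_eq_mul₀ (zpow_ne_zero _ hz0), ← hN, zpow_natCast] at e3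
    haveI : NeZero N := ⟨hN0⟩
    obtain ⟨i, -, hi⟩ := hζ.eq_pow_of_pow_eq_one e3
    have hui : φ u = y ^ i := by
      have hdi : torusHom D T L a = h ^ i := by
        rw [hh, ← map_pow]
        refine torusHom_congr fun r hr => ?_
        rw [hchrd r hr, chr_pow', hc r hr, ← hi, ← zpow_natCast, ← zpow_natCast, ← zpow_mul, ← zpow_mul, mul_comm]
      rw [hy, conj_pow, ← hdi, ha]; group
    obtain ⟨b, rfl⟩ : j ∣ i := by
      rcases hd.eq_one_or_self_of_dvd j (Nat.gcd_dvd_left d N) with h1 | h1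
      · rw [h1]; exact one_dvd _
      · by_contra hni
        rw [h1, hd.dvd_iff_not_coprime, not_not] at hni
        refine hnot h1 ?_
        have e4 : y = (y ^ (d : ℤ)) ^ d.gcdA i * (y ^ (i : ℤ)) ^ d.gcdB i := by
          rw [← zpow_mul, ← zpow_mul, ← zpow_add, ← Nat.gcd_eq_gcd_ab, hni, Nat.cast_one, zpow_one]
        rw [e4, zpow_natCast, zpow_natCast]
        exact mul_mem (zpow_mem hyd _) (zpow_mem (hui ▸ huF) _)
    refine Subgroup.mem_zpowers_iff.2 ⟨(b : ℤ), hφinj ?_⟩
    rw [zpow_natCast, map_pow, ht, hui, pow_mul]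
  · refine Subgroup.mem_centralizer_iff.2 fun x' hx' => ?_
    obtain ⟨a, rfl⟩ := Subgroup.mem_zpowers_iff.1 hx
    obtain ⟨b, rfl⟩ := Subgroup.mem_zpowers_iff.1 hx'
    exact (Commute.refl t).zpow_zpow b a

end Cfsg.Lib.Chev
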