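import Cfsg.Agent.Lib.Chev.TorusDenLang
import Cfsg.Agent.Lib.Chev.FullAll

/-! A regular torus of the group of type E6, with its preimage in the group of type E8. -/

set_option autoImplicit false
set_option maxRecDepth 100000

namespace Cfsg.Lib.Chev

open Cfsg.Lie

/-- The torus data. -/
def torE6 : TorData := ⟨[2, 3, 5, 0, 4, 1], [1, 1, 0, -1, 0, 1], [[-1, -2, -2, -1, 2, 1], [-3, -3, -3, 0, 0, 0], [-2, -4, -4, 1, 4, 2], [-3, -6, -6, 0, 3, 3], [-1, -5, -5, -1, 2, 1], [-2, -4, -1, 1, 1, -1]], 10⟩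

theorem chkTorDen_E6 : chkTorDen tblE6 tblE8 torE6 ((3 : ℕ) : ℤ) 2 = true := by decide +kernel

theorem subCart_E6 : allBelow (fun r => allBelow (fun j => decide (tblE8.cartan j (subE6E8.getD r 0) =
    tblE6.cartan j r)) tblE6.rank) tblE6.nroots = true := by decide +kernel

theorem subData_E6 : SubData chevE6 chevE8 tblE6 tblE8 subE6E8 where
  sub := chkSub_E6
  cart r hr j hj := by
    have h := allBelow_iff.1 subCart_E6 r (by rw [fullCertE6.comm.cert.spec.shape.nroots_eq]; exact hr)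
    exact decide_eq_true_eq.mp (allBelow_iff.1 h j (by rw [fullCertE6.comm.cert.spec.shape.rank_eq]; exact hj))
  nbr := hasNbr_of_chk fullCertE6.comm.cert nbrChk_E6
  inv := ⟨_, invCartE8⟩

theorem chkLargeDen_E6 : chkLargeDen tblE6 torE6 ((3 : ℕ) : ℤ) [112420, 75555, 108323, 107748, 75547, 112931, 112356, 80155, 145124, 112923, 112348, 108259, 76058, 75483, 108251, 112859, 112419, 111844, 79643, 144612, 112411, 111836, 149220, 117019, 116444, 149212, 107747, 75546, 74971, 107739, 112355, 80154, 79579, 145123, 112922, 144548, 80146, 111772, 79571, 145115, 144540, 112339, 116955, 149723, 149148, 116947, 75482, 108250, 107675, 75474, 112858, 112283, 80082, 145051, 112850, 112275, 111835, 116443, 149211, 148636, 116435, 112346, 111771, 79570, 144539, 112338, 111763, 149147, 116946, 116371, 149139, 112274] = true := by decide +kernel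

theorem chkPairDen_E6_2 : chkPairDen tblE6 torE6 ((3 : ℕ) : ℤ) ((91 : ℕ) : ℤ) ((2 : ℕ) : ℤ) [7, 49, 81, 70, 47, 14, 3, 71, 35, 12, 1, 77, 54, 43, 75, 8, 6, 86, 63, 27, 4, 84, 51, 28, 17, 49, 69, 46, 35, 67, 2, 70, 59, 34, 11, 23, 68, 80, 57, 32, 21, 89, 24, 56, 45, 22, 42, 74, 63, 40, 7, 87, 64, 28, 5, 85, 83, 16, 48, 37, 14, 90, 79, 56, 20, 88, 77, 44, 21, 10, 42, 84] = true := by decide +kernel

theorem chkSmallDen_E6_3 : chkSmallDen tblE6 torE6 ((3 : ℕ) : ℤ) ((949 : ℕ) : ℤ) ((3 : ℕ) : ℤ) [13, 637, 880, 845, 634, 39, 4, 742, 247, 36, 1, 871, 660, 625, 868, 27, 12, 926, 715, 220, 9, 923, 328, 117, 82, 325, 844, 633, 598, 841, 3, 741, 706, 246, 35, 211, 738, 914, 703, 243, 208, 946, 108, 351, 316, 105, 624, 867, 832, 621, 26, 940, 729, 234, 23, 937, 922, 81, 324, 289, 78, 948, 913, 702, 207, 945, 910, 315, 104, 69, 312, 936] = true := by decide +kernel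

theorem chkSmallDen_E6_4 : chkSmallDen tblE6 torE6 ((3 : ℕ) : ℤ) ((1687 : ℕ) : ℤ) ((4 : ℕ) : ℤ) [21, 427, 1451, 1372, 423, 84, 5, 743, 1029, 80, 1, 1435, 486, 407, 1431, 64, 20, 1628, 679, 965, 16, 1624, 1285, 336, 257, 1281, 1371, 422, 343, 1367, 4, 742, 663, 1028, 79, 949, 738, 1608, 659, 1024, 945, 1683, 320, 1344, 1265, 316, 406, 1430, 1351, 402, 63, 1671, 722, 1008, 59, 1667, 1623, 256, 1280, 1201, 252, 1686, 1607, 658, 944, 1682, 1603, 1264, 315, 236, 1260, 1666] = true := by decide +kernel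

theorem chkSmallDen_E6_7 : chkSmallDen tblE6 torE6 ((3 : ℕ) : ℤ) ((44707 : ℕ) : ℤ) ((7 : ℕ) : ℤ) [57, 25555, 42362, 41971, 25548, 399, 8, 28292, 16815, 392, 1, 42313, 25890, 25499, 42306, 343, 56, 44372, 27949, 16472, 49, 44365, 19216, 2793, 2402, 19209, 41970, 25547, 25156, 41963, 7, 28291, 27900, 16814, 391, 16423, 28284, 44316, 27893, 16807, 16416, 44700, 2744, 19551, 19160, 2737, 25498, 42305, 41914, 25491, 342, 44658, 28235, 16758, 335, 44651, 44364, 2401, 19208, 18817, 2394, 44706, 44315, 27892, 16415, 44699, 44308, 19159, 2736, 2345, 19152, 44650] = true := by decide +kernel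

theorem chkSmallDen_E6_13 : chkSmallDen tblE6 torE6 ((3 : ℕ) : ℤ) ((1731973 : ℕ) : ℤ) ((13 : ℕ) : ℤ) [183, 1332301, 1703594, 1701229, 1332288, 2379, 14, 1363046, 371307, 2366, 1, 1703425, 1334484, 1332119, 1703412, 2197, 182, 1729790, 1360849, 369110, 169, 1729777, 399868, 30927, 28562, 399855, 1701228, 1332287, 1329922, 1701215, 13, 1363045, 1360680, 371306, 2365, 368941, 1363032, 1729608, 1360667, 371293, 368928, 1731960, 30758, 402051, 399686, 30745, 1332118, 1703411, 1701046, 1332105, 2196, 1731804, 1362863, 371124, 2183, 1731791, 1729776, 28561, 399854, 397489, 28548, 1731972, 1729607, 1360666, 368927, 1731959, 1729594, 399685, 30744, 28379, 399672, 1731790] = true := by decide +kernel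

theorem invCartDen_E6 : phiMat chevE6 [[4, 3, 5, 6, 4, 2], [3, 6, 6, 9, 6, 3], [5, 6, 10, 12, 8, 4], [6, 9, 12, 18, 12, 6], [4, 6, 8, 12, 10, 5], [2, 3, 4, 6, 5, 4]] * cartanMat chevE6 tblE6 = Matrix.diagonal fun _ => ((3 : ℕ) : ℤ) := by decide +kernel

end Cfsg.Lib.Chev
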