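import Cfsg.Agent.Lib.Chev.TorusLang

/-!
Twisted tori given by a table of coordinates: exponents, separation, and torus elements.
-/

set_option autoImplicit false
set_option linter.unusedSectionVars false

namespace Cfsg.Lib.Chev

open Cfsg.Lie

/-- A table of coordinates of the roots in the basis of an orbit of an operation on the roots. -/
structure TwTor where
  /-- The word. -/
  w : List ℕ
  /-- The coefficients below the leading one of the characteristic polynomial. -/
  tg : List ℤ
  /-- The coordinates. -/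
  rows : List (List ℤ)
  /-- The root starting the orbit. -/
  r0 : ℕ

/-- The coordinate of a root. -/
noncomputable def TwTor.pc (S : TwTor) (r k : ℕ) : ℤ := nth 0 (nth [] S.rows r) k

/-- The order of the torus. -/
noncomputable def TwTor.ord (S : TwTor) (l : ℕ) (q : ℤ) : ℤ := q ^ l + sumBelow (fun k => nth 0 S.tg k * q ^ k) l

/-- The exponent of a root. -/
noncomputable def TwTor.expo (S : TwTor) (l : ℕ) (q : ℤ) (r : ℕ) : ℤ := sumBelow (fun k => S.pc r k * q ^ k) l

/-- The operation on the roots: a word after a permutation. -/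
noncomputable def TwTor.act (S : TwTor) (T : Tbl) (π : ℕ → ℕ) (r : ℕ) : ℕ := wperm T S.w (π r)

/-- The orbit of the base root. -/
noncomputable def TwTor.orb (S : TwTor) (T : Tbl) (π : ℕ → ℕ) (k : ℕ) : ℕ := Nat.rec S.r0 (fun _ r => S.act T π r) k

/-- The checks on the table. -/
noncomputable def chkTwTor (T : Tbl) (π : ℕ → ℕ) (S : TwTor) : Bool :=
  (Nat.blt 0 T.rank && (Nat.blt S.r0 T.nroots &&
    allBelow (fun k => decide (S.pc S.r0 k = if k = 0 then 1 else 0)) T.rank)) &&
  (allBelow (fun i => Nat.blt (nth 0 S.w i) T.rank) S.w.length &&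
  allBelow (fun r => Nat.blt (π r) T.nroots && (allBelow (fun k => decide (S.pc (S.act T π r) k =
      (if k = 0 then 0 else S.pc r (k - 1)) - S.pc r (T.rank - 1) * nth 0 S.tg k)) T.rank &&
    allBelow (fun j => decide (T.cartan j r = sumBelow (fun k => S.pc r k * T.cartan j (S.orb T π k)) T.rank))
      T.rank)) T.nroots)

/-- The residues of the exponents. -/
noncomputable def TwTor.res (S : TwTor) (l : ℕ) (q : ℤ) (r : ℕ) : ℕ := ((S.expo l q r) % S.ord l q).toNat

/-- The exponents are nonzero and separate the roots. -/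
noncomputable def chkTwSmall (T : Tbl) (S : TwTor) (q : ℤ) (V : List ℕ) : Bool :=
  decide (0 < S.ord T.rank q) && (chkCode (S.res T.rank q) T.nroots V && allIdx (fun _ x => !Nat.beq x 0) V 0)

/-- The exponents are nonzero and separate the fundamental systems. -/
noncomputable def chkTwPair (T : Tbl) (S : TwTor) (q : ℤ) (V : List ℕ) : Bool :=
  (decide (0 < S.ord T.rank q) &&
    (Nat.beq V.length T.nroots && allIdx (fun k x => Nat.beq (S.res T.rank q k) x && !Nat.beq x 0) V 0)) &&
    allTup T (fun r => nth 0 V r) T.rank []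

/-- A code of the coordinates. -/
noncomputable def TwTor.code (S : TwTor) (l r : ℕ) : ℕ := (sumBelow (fun k => (S.pc r k + 3) * 8 ^ k) l).toNat

/-- The coordinates are small and separate the roots. -/
noncomputable def chkTwLarge (T : Tbl) (S : TwTor) (V : List ℕ) : Bool :=
  chkCode (S.code T.rank) T.nroots V && allBelow (fun r => allBelow (fun k => decide ((S.pc r k).natAbs ≤ 2)) T.rank &&
    decide (sumBelow (fun k => ((S.pc r k).natAbs : ℤ)) T.rank ≠ 0)) T.nroots

/-- The table is consistent. -/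
structure TwTorOK (D : ChevalleyDatum) (T : Tbl) (π : ℕ → ℕ) (S : TwTor) : Prop where
  rank_pos : 0 < D.rank
  r0_lt : S.r0 < D.nroots
  pc_r0 : ∀ k < D.rank, S.pc S.r0 k = if k = 0 then 1 else 0
  isWord : IsWord D S.w
  perm_lt : ∀ r < D.nroots, π r < D.nroots
  step : ∀ r < D.nroots, ∀ k < D.rank, S.pc (S.act T π r) k =
    (if k = 0 then 0 else S.pc r (k - 1)) - S.pc r (D.rank - 1) * nth 0 S.tg k
  cart : ∀ r < D.nroots, ∀ j < D.rank,
    T.cartan j r = ∑ k ∈ Finset.range D.rank, S.pc r k * T.cartan j (S.orb T π k)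

/-- The exponents separate as much as needed. -/
structure TwTorSep (D : ChevalleyDatum) (T : Tbl) (S : TwTor) (q : ℕ) : Prop where
  ord_pos : 0 < S.ord D.rank q
  ne_zero : ∀ r < D.nroots, ¬ S.ord D.rank q ∣ S.expo D.rank q r
  sep : ∀ v, IsWord D v →
    (∀ k < D.rank, S.ord D.rank q ∣ S.expo D.rank q (wperm T v (T.simp' k)) - S.expo D.rank q (T.simp' k)) →
    ∀ k < D.rank, wperm T v (T.simp' k) = T.simp' k

variable {D : ChevalleyDatum} {T : Tbl} (C : Cert D T) {π : ℕ → ℕ} {S : TwTor}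
include C

theorem twTorOK_of_chk (h : chkTwTor T π S = true) : TwTorOK D T π S := by
  simp only [chkTwTor, Bool.and_eq_true, allBelow_iff, decide_eq_true_eq, Nat.blt_eq, sumBelow_eq,
    C.spec.shape.rank_eq, C.spec.shape.nroots_eq] at h
  obtain ⟨⟨h1, h2, h3⟩, h4, h5⟩ := h
  refine ⟨h1, h2, h3, fun i hi => ?_, fun r hr => (h5 r hr).1, fun r hr => (h5 r hr).2.1, fun r hr => (h5 r hr).2.2⟩
  obtain ⟨k, hk, rfl⟩ := List.getElem_of_mem hi
  have := h4 k hk
  rwa [nth_eq, List.getD_eq_getElem _ _ hk] at this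

omit C in
theorem TwTor.res_eq {l : ℕ} {q : ℤ} {a b : ℕ} (h : S.ord l q ∣ S.expo l q a - S.expo l q b) :
    S.res l q a = S.res l q b := by
  rw [TwTor.res, TwTor.res, Int.emod_eq_emod_iff_emod_sub_eq_zero.2 (Int.emod_eq_zero_of_dvd h)]

omit C in
theorem TwTor.res_eq_zero {l : ℕ} {q : ℤ} {a : ℕ} (h : S.ord l q ∣ S.expo l q a) : S.res l q a = 0 := by
  rw [TwTor.res, Int.emod_eq_zero_of_dvd h]; rfl

theorem twTorSep_of_small {q : ℕ} {V : List ℕ} (h : chkTwSmall T S q V = true) : TwTorSep D T S q := by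
  simp only [chkTwSmall, Bool.and_eq_true, decide_eq_true_eq, C.spec.shape.nroots_eq, C.spec.shape.rank_eq] at h
  obtain ⟨h1, h2, h3⟩ := h
  exact ⟨h1, fun r hr hd => chkCode_ne h2 h3 hr (TwTor.res_eq_zero hd), fun v hv hd k hk =>
    chkCode_inj h2 (wperm_lt C hv (C.spec.simp_lt k hk)) (C.spec.simp_lt k hk) (TwTor.res_eq (hd k hk))⟩

theorem twTorSep_of_pair {q : ℕ} {V : List ℕ} (h : chkTwPair T S q V = true) : TwTorSep D T S q := by
  simp only [chkTwPair, Bool.and_eq_true, decide_eq_true_eq, allIdx_iff, Nat.beq_eq, C.spec.shape.nroots_eq,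
    C.spec.shape.rank_eq, Bool.not_eq_true'] at h
  obtain ⟨⟨h1, h2, h3⟩, h4⟩ := h
  have hV : ∀ r < D.nroots, nth 0 V r = S.res D.rank q r ∧ S.res D.rank q r ≠ 0 := by
    intro r hr
    have hr' : r < V.length := h2 ▸ hr
    have := h3 r hr'
    rw [zero_add] at this
    rw [nth_eq, List.getD_eq_getElem _ _ hr', this.1]
    exact ⟨rfl, fun e => by rw [e] at this; simp at this⟩
  refine ⟨h1, fun r hr hd => (hV r hr).2 (TwTor.res_eq_zero hd), fun v hv hd => ?_⟩
  let im := fun k => wperm T v (T.simp' k)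
  suffices key : ∀ m k, k + m = D.rank → allTup T (fun r => nth 0 V r) m ((List.range k).map im) = true →
      ∀ i < D.rank, im i = T.simp' i from key D.rank 0 (by omega) h4
  intro m
  induction m with
  | zero =>
    intro k hk ht i hi
    rw [add_zero] at hk
    subst hk
    have e := eqNats_iff _ _ ht
    rw [C.spec.shape.rank_eq] at e
    exact List.map_inj_left.1 e i (List.mem_range.2 hi)
  | succ m ih =>
    intro k hk ht
    have hkr : k < D.rank := by omega
    change allBelow _ T.nroots = true at ht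
    rw [allBelow_iff] at ht
    have hs := ht (im k) (by rw [C.spec.shape.nroots_eq]; exact wperm_lt C hv (C.spec.simp_lt k hkr))
    rw [Bool.or_eq_true] at hs
    refine ih (k + 1) (by omega) ?_
    rw [List.range_succ, List.map_append, List.map_singleton]
    refine hs.resolve_left fun hbad => ?_
    simp only [List.length_map, List.length_range, Bool.not_eq_true', ← Bool.not_eq_true, Bool.and_eq_true,
      Nat.beq_eq, allBelow_iff, decide_eq_true_eq] at hbad
    refine hbad ⟨?_, fun i hi => ?_⟩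
    · rw [(hV _ (wperm_lt C hv (C.spec.simp_lt k hkr))).1, (hV _ (C.spec.simp_lt k hkr)).1]
      exact TwTor.res_eq (hd k hkr)
    · rw [nth_eq, List.getD_eq_getElem _ _ (by simpa using hi), List.getElem_map, List.getElem_range]
      show rootPair T (wperm T v (T.simp' i)) (wperm T v (T.simp' k)) = _
      rw [rootPair_wperm C hv (C.spec.simp_lt i (hi.trans hkr)) (C.spec.simp_lt k hkr),
        rootPair_simple C (hi.trans hkr)]

theorem twTorSep_of_large {q : ℕ} (hq : 5 ≤ q) {V : List ℕ} (h : chkTwLarge T S V = true)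
    (hN : 4 * ∑ k ∈ Finset.range D.rank, (q : ℤ) ^ k < S.ord D.rank q) : TwTorSep D T S q := by
  simp only [chkTwLarge, Bool.and_eq_true, allBelow_iff, decide_eq_true_eq, sumBelow_eq, C.spec.shape.nroots_eq,
    C.spec.shape.rank_eq] at h
  obtain ⟨h1, h2⟩ := h
  have hqz : (0 : ℤ) < q := by omega
  have hsum : 0 ≤ ∑ k ∈ Finset.range D.rank, (q : ℤ) ^ k := Finset.sum_nonneg fun k _ => pow_nonneg hqz.le k
  have key : ∀ d : ℕ → ℤ, (∀ k < D.rank, |d k| ≤ 4) → S.ord D.rank q ∣ ∑ k ∈ Finset.range D.rank, d k * (q : ℤ) ^ k →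
      ∀ k < D.rank, d k = 0 := by
    intro d hd hdvd
    refine digits_eq_zero hqz D.rank d (fun k hk => (hd k hk).trans_lt (by omega))
      (Int.eq_zero_of_abs_lt_dvd hdvd (lt_of_le_of_lt ((Finset.abs_sum_le_sum_abs _ _).trans ?_) hN))
    rw [Finset.mul_sum]
    refine Finset.sum_le_sum fun k hk => ?_
    rw [abs_mul, abs_of_nonneg (pow_nonneg hqz.le k)]
    exact mul_le_mul_of_nonneg_right (hd k (Finset.mem_range.1 hk)) (pow_nonneg hqz.le k)
  have hb : ∀ r < D.nroots, ∀ k < D.rank, |S.pc r k| ≤ 2 := fun r hr k hk => by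
    have := (h2 r hr).1 k hk
    rw [Int.abs_eq_natAbs]
    exact_mod_cast this
  refine ⟨by omega, fun r hr hd => (h2 r hr).2 ?_, fun v hv hd m hm => ?_⟩
  · refine Finset.sum_eq_zero fun k hk => ?_
    rw [key (S.pc r) (fun k hk => (hb r hr k hk).trans (by norm_num))
      (by simpa only [TwTor.expo, sumBelow_eq] using hd) k (Finset.mem_range.1 hk)]
    rfl
  · have ha := wperm_lt C hv (C.spec.simp_lt m hm)
    have hs := C.spec.simp_lt m hm
    refine chkCode_inj h1 ha hs ?_
    have hd' := hd m hm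
    simp only [TwTor.expo, sumBelow_eq, ← Finset.sum_sub_distrib, ← sub_mul] at hd'
    have := key _ (fun k hk => (abs_sub _ _).trans ((add_le_add (hb _ ha k hk) (hb _ hs k hk)).trans (by norm_num))) hd'
    simp only [TwTor.code, sumBelow_eq]
    exact congrArg Int.toNat (Finset.sum_congr rfl fun k hk => by rw [sub_eq_zero.1 (this k (Finset.mem_range.1 hk))])

theorem twExpo_step (hS : TwTorOK D T π S) (q : ℤ) {r : ℕ} (hr : r < D.nroots) :
    S.expo D.rank q (S.act T π r) = q * S.expo D.rank q r - S.pc r (D.rank - 1) * S.ord D.rank q := by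
  simp only [TwTor.expo, TwTor.ord, sumBelow_eq]
  rw [Finset.sum_congr rfl fun k hk => by rw [hS.step r hr k (Finset.mem_range.1 hk)]]
  obtain ⟨m, hm⟩ := Nat.exists_eq_succ_of_ne_zero hS.rank_pos.ne'
  simp only [hm, Nat.succ_eq_add_one, sub_mul, Finset.sum_sub_distrib]
  rw [Finset.sum_range_succ' (fun k => (if k = 0 then 0 else S.pc r (k - 1)) * q ^ k),
    Finset.sum_range_succ (fun k => S.pc r k * q ^ k)]
  simp only [Nat.add_eq_zero_iff, one_ne_zero, and_false, if_false, Nat.add_sub_cancel, if_true, zero_mul, add_zero]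
  simp only [mul_add, Finset.mul_sum, mul_assoc]
  rw [Finset.sum_congr rfl (fun k _ => show S.pc r k * q ^ (k + 1) = q * (S.pc r k * q ^ k) by ring)]
  ring

theorem twAct_lt (hS : TwTorOK D T π S) {r : ℕ} (hr : r < D.nroots) : S.act T π r < D.nroots :=
  wperm_lt C hS.isWord (hS.perm_lt r hr)

theorem twOrb_lt (hS : TwTorOK D T π S) : ∀ k, S.orb T π k < D.nroots
  | 0 => hS.r0_lt
  | k + 1 => twAct_lt C hS (twOrb_lt hS k)

theorem pc_orb (hS : TwTorOK D T π S) : ∀ k < D.rank, ∀ l < D.rank, S.pc (S.orb T π k) l = if l = k then 1 else 0 := by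
  intro k
  induction k with
  | zero => intro _ l hl; exact hS.pc_r0 l hl
  | succ k ih =>
    intro hk l hl
    rw [show S.orb T π (k + 1) = S.act T π (S.orb T π k) from rfl, hS.step _ (twOrb_lt C hS k) l hl,
      ih (by omega) (D.rank - 1) (by omega), if_neg (show D.rank - 1 ≠ k by omega), zero_mul, sub_zero]
    rcases l with _ | l
    · simp
    · simp only [Nat.succ_ne_zero, if_false, Nat.add_sub_cancel, Nat.add_right_cancel_iff]
      exact ih (by omega) l (by omega)

section Elements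

variable {L : Type*} [Field L]

/-- The Cartan integers on the orbit basis. -/
noncomputable def orbMat (_C : Cert D T) (π : ℕ → ℕ) (S : TwTor) : Matrix (Fin D.rank) (Fin D.rank) ℤ :=
  Matrix.of fun k j => T.cartan j (S.orb T π k)

theorem chr_eq_prod (hS : TwTorOK D T π S) (c : Fin D.rank → Lˣ) {r : ℕ} (hr : r < D.nroots) :
    chr T D (extend' c) r = ∏ k ∈ Finset.range D.rank, chr T D (extend' c) (S.orb T π k) ^ S.pc r k := by
  calc chr T D (extend' c) r
      = ∏ j ∈ Finset.range D.rank, ∏ k ∈ Finset.range D.rank,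
          (extend' c j ^ T.cartan j (S.orb T π k)) ^ S.pc r k := by
        refine Finset.prod_congr rfl fun j hj => ?_
        rw [hS.cart r hr j (Finset.mem_range.1 hj), ← zpow_sum' (extend'_ne c j)]
        exact Finset.prod_congr rfl fun k _ => by rw [← zpow_mul, mul_comm]
    _ = _ := by
        rw [Finset.prod_comm]
        exact Finset.prod_congr rfl fun k _ => by rw [Finset.prod_zpow, ← chr]

/-- A torus element with prescribed exponents. -/
theorem exists_twTor_element [IsAlgClosed L] (hS : TwTorOK D T π S) {e : ℕ} (he : 0 < e)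
    {M : Matrix (Fin D.rank) (Fin D.rank) ℤ} (hM : orbMat C π S * M = Matrix.diagonal fun _ => ((e : ℕ) : ℤ))
    {ζ : L} (hζ : ζ ≠ 0) (q : ℕ) :
    ∃ c : Fin D.rank → Lˣ, ∀ r < D.nroots, chr T D (extend' c) r = ζ ^ S.expo D.rank q r := by
  obtain ⟨ξ, hξ⟩ := IsAlgClosed.exists_pow_nat_eq ζ he
  have hξ0 : ξ ≠ 0 := fun h => hζ (by rw [← hξ, h, zero_pow he.ne'])
  let d : Fin D.rank → Lˣ := fun k => Units.mk0 ξ hξ0 ^ ((q : ℤ) ^ (k : ℕ))
  let c := powHom M d
  have hc : ∀ k : Fin D.rank, chr T D (extend' c) (S.orb T π k) = ζ ^ ((q : ℤ) ^ (k : ℕ)) := by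
    intro k
    have h1 : chr T D (extend' c) (S.orb T π k) = ((powHom (orbMat C π S) c k : Lˣ) : L) := by
      show _ = ((∏ j, c j ^ orbMat C π S k j : Lˣ) : L)
      rw [Units.coe_prod, chr, ← Fin.prod_univ_eq_prod_range (fun j => extend' c j ^ T.cartan j (S.orb T π k)) D.rank]
      exact Finset.prod_congr rfl fun j _ => by simp [extend', orbMat, Units.val_zpow_eq_zpow_val]
    rw [h1, show powHom (orbMat C π S) c = powHom (orbMat C π S * M) d by rw [powHom_mul]; rfl, hM,
      powHom_diagonal (fun _ => e)]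
    simp only [d, Units.val_pow_eq_pow_val, Units.val_zpow_eq_zpow_val, Units.val_mk0]
    rw [← hξ, ← zpow_natCast, ← zpow_natCast ξ e, ← zpow_mul, ← zpow_mul, mul_comm]
  refine ⟨c, fun r hr => ?_⟩
  rw [chr_eq_prod C hS c hr, TwTor.expo, sumBelow_eq, ← zpow_sum' hζ]
  refine Finset.prod_congr rfl fun k hk => ?_
  rw [hc ⟨k, Finset.mem_range.1 hk⟩, ← zpow_mul, mul_comm]

/-- The twisted-fixed torus parameters are powers of the given one. -/
theorem twTor_fixed_pow (hS : TwTorOK D T π S) {q N : ℕ} [NeZero N] (hN : (N : ℤ) = S.ord D.rank q) {ζ : L}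
    (hζ : IsPrimitiveRoot ζ N) {c d : Fin D.rank → Lˣ}
    (hc : ∀ r < D.nroots, chr T D (extend' c) r = ζ ^ S.expo D.rank q r)
    (hd : ∀ r < D.nroots, chr T D (extend' d) (S.act T π r) = chr T D (extend' d) r ^ q) :
    ∃ i : ℕ, torusHom D T L d = torusHom D T L c ^ i := by
  set z := chr T D (extend' d) S.r0 with hz
  have hz0 : z ≠ 0 := chr_ne_zero' C d _
  have horb : ∀ k : ℕ, chr T D (extend' d) (S.orb T π k) = z ^ ((q : ℤ) ^ k) := by
    intro k
    induction k with
    | zero => rw [pow_zero, zpow_one]; rfl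
    | succ k ih =>
      rw [show S.orb T π (k + 1) = S.act T π (S.orb T π k) from rfl, hd _ (twOrb_lt C hS k), ih, ← zpow_natCast,
        ← zpow_mul, pow_succ]
  have hchrd : ∀ r < D.nroots, chr T D (extend' d) r = z ^ S.expo D.rank q r := by
    intro r hr
    rw [chr_eq_prod C hS d hr, TwTor.expo, sumBelow_eq, ← zpow_sum' hz0]
    exact Finset.prod_congr rfl fun k _ => by rw [horb, ← zpow_mul, mul_comm]
  obtain ⟨m, hm⟩ := Nat.exists_eq_succ_of_ne_zero hS.rank_pos.ne'
  have hom := twOrb_lt C hS m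
  have e3 : z ^ S.expo D.rank q (S.act T π (S.orb T π m)) = z ^ ((q : ℤ) * S.expo D.rank q (S.orb T π m)) := by
    rw [← hchrd _ (twAct_lt C hS hom), hd _ hom, hchrd _ hom, ← zpow_natCast, ← zpow_mul, mul_comm]
  rw [twExpo_step C hS q hom, show D.rank - 1 = m by omega,
    show S.pc (S.orb T π m) m = 1 by rw [pc_orb C hS m (by omega) m (by omega), if_pos rfl], one_mul, zpow_sub₀ hz0,
    div_eq_iff (zpow_ne_zero _ hz0), left_eq_mul₀ (zpow_ne_zero _ hz0), ← hN, zpow_natCast] at e3
  obtain ⟨i, -, hi⟩ := hζ.eq_pow_of_pow_eq_one e3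
  refine ⟨i, ?_⟩
  rw [← map_pow]
  refine torusHom_congr fun r hr => ?_
  rw [hchrd r hr, chr_pow', hc r hr, ← hi, ← zpow_natCast, ← zpow_natCast, ← zpow_mul, ← zpow_mul, mul_comm]

end Elements

end Cfsg.Lib.Chev
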