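import Cfsg.Agent.Lib.Chev.TorusD4
import Cfsg.Agent.Lib.Chev.LangChev

/-!
The twisted Lang map of triality and the regular torus of ³D₄(q).
-/

set_option autoImplicit false
set_option linter.unusedSectionVars false
set_option maxRecDepth 10000

namespace Cfsg.Lib.Chev

open Cfsg.Lie

section General

variable {D : ChevalleyDatum} {T : Tbl} {F : Type*} [Field F]

/-- A signed permutation of the basis is a conjugation. -/
theorem SymOK.exists_conj {S : Sym} (h : SymOK D T S) :
    ∃ P : GL D.Idx F, ∀ g : GL D.Idx F, h.glHom g = P * g * P⁻¹ := by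
  classical
  let A : Matrix D.Idx D.Idx F := Matrix.of fun a b => if b = h.idxEquiv.symm a then symSign D S F b else 0
  have h1 : A * A.transpose = 1 := by
    ext a b
    simp only [A, Matrix.mul_apply, Matrix.transpose_apply, Matrix.of_apply, ite_mul, zero_mul,
      Finset.sum_ite_eq', Finset.mem_univ, if_true, Matrix.one_apply, h.idxEquiv.symm.injective.eq_iff]
    split_ifs with hab
    · exact h.sign_sq _
    · rw [mul_zero]
  have h2 : A.transpose * A = 1 := mul_eq_one_comm.1 h1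
  refine ⟨⟨A, A.transpose, h1, h2⟩, fun g => Units.ext (Matrix.ext fun a b => ?_)⟩
  show symSign D S F _ * (g : Matrix D.Idx D.Idx F) _ _ * symSign D S F _ =
    (A * (g : Matrix D.Idx D.Idx F) * A.transpose) a b
  simp [A, Matrix.mul_apply, ite_mul, mul_ite]

theorem twSigma_map' {S : Sym} (h : SymOK D T S) {E : Type*} [Field E] (φ : F →+* E) (f : F →+* F) (f' : E →+* E)
    (hc : ∀ t, φ (f t) = f' (φ t)) (x : GL D.Idx F) :
    Matrix.GeneralLinearGroup.map φ (twSigma h f x) = twSigma h f' (Matrix.GeneralLinearGroup.map φ x) := by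
  refine Units.ext (Matrix.ext fun a b => ?_)
  show φ (symSign D S F _ * f ((x : Matrix D.Idx D.Idx F) _ _) * symSign D S F _) =
    symSign D S E _ * f' (φ ((x : Matrix D.Idx D.Idx F) _ _)) * symSign D S E _
  have hs : ∀ i, φ (symSign D S F i) = symSign D S E i := fun i => by
    rcases i with i | i <;> simp [symSign]
  rw [map_mul, map_mul, hc, hs, hs]

variable (C : Cert D T)
include C

theorem chr_eq_of_torusHom {c c' : Fin D.rank → Fˣ} (e : torusHom D T F c = torusHom D T F c') {r : ℕ}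
    (hr : r < D.nroots) : chr T D (extend' c) r = chr T D (extend' c') r := by
  have h2 := (torusHom_conj_xg C c hr 1).symm.trans (e ▸ torusHom_conj_xg C c' hr 1)
  rw [mul_one, mul_one] at h2
  exact xg_injective C hr h2

theorem twPar_chr {S : Sym} (h : SymOK D T S) (f : F →+* F) (c : Fin D.rank → Fˣ) {r : ℕ} (hr : r < D.nroots) :
    chr T D (extend' (twPar h f c)) (S.root r) = f (chr T D (extend' c) r) := by
  have hr' := h.root_lt r hr
  have e1 : twSigma h f (torusHom D T F c * xg C r 1) = twSigma h f (xg C r (chr T D (extend' c) r * 1) * torusHom D T F c) :=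
    congrArg _ (mul_inv_eq_iff_eq_mul.1 (torusHom_conj_xg C c hr 1))
  rw [twSigma_mul, twSigma_mul, twSigma_torus C h f, twSigma_xg C h f hr, twSigma_xg C h f hr, map_one, mul_one,
    mul_one, mul_inv_eq_iff_eq_mul.1 (torusHom_conj_xg C _ hr' _)] at e1
  have h2 := xg_injective C hr' (mul_right_cancel e1)
  exact mul_left_cancel₀ (left_ne_zero_of_mul ((h.eps_sq (F := F) hr).trans_ne one_ne_zero))
    (by rw [← h2]; ring)

theorem map_borel' {E : Type*} [Field E] (f : F →+* E) {g : GL D.Idx F} (hg : g ∈ D.borelSubgroup F) :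
    Matrix.GeneralLinearGroup.map f g ∈ D.borelSubgroup E := by
  obtain ⟨u, hu, h, hh, rfl⟩ := (mem_borel C).1 hg
  rw [map_mul]
  refine mul_mem (Subgroup.mem_sup_left ?_) (Subgroup.mem_sup_right ?_)
  · suffices e : D.posUnipotent F ≤ (D.posUnipotent E).comap (Matrix.GeneralLinearGroup.map (n := D.Idx) f) from e hu
    refine (Subgroup.closure_le _).2 ?_
    rintro x ⟨r, t, hr, e⟩
    show Matrix.GeneralLinearGroup.map f x ∈ D.posUnipotent E
    rw [eq_xg C e, map_xg]
    exact Subgroup.subset_closure ⟨r, _, hr, rfl⟩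
  · rw [← torusHom_range C] at hh ⊢
    obtain ⟨c, rfl⟩ := hh
    exact ⟨_, (map_torusHom C f c).symm⟩

theorem map_posUnipotent' {E : Type*} [Field E] (f : F →+* E) {g : GL D.Idx F} (hg : g ∈ D.posUnipotent F) :
    Matrix.GeneralLinearGroup.map f g ∈ D.posUnipotent E := by
  suffices e : D.posUnipotent F ≤ (D.posUnipotent E).comap (Matrix.GeneralLinearGroup.map (n := D.Idx) f) from e hg
  refine (Subgroup.closure_le _).2 ?_
  rintro x ⟨r, t, hr, e⟩
  show Matrix.GeneralLinearGroup.map f x ∈ D.posUnipotent E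
  rw [eq_xg C e, map_xg]
  exact Subgroup.subset_closure ⟨r, _, hr, rfl⟩

/-- An element of the group over a subfield lying in the larger torus lies in the smaller torus. -/
theorem diag_descend (K : FullCert D T) {E : Type*} [Field E] (f : F →+* E) {y : GL D.Idx F} (hy : y ∈ D.group F)
    (hd : Matrix.GeneralLinearGroup.map f y ∈ D.diagonalSubgroup E) : y ∈ D.diagonalSubgroup F := by
  obtain ⟨w, hw, b, hb, c, hc, rfl⟩ := bruhat_normal C K hy
  have hcB : c ∈ D.borelSubgroup F := signPart_le_borel C K w true hc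
  have hnd := cells_disjoint C K (map_borel' C f hb) (Subgroup.mem_sup_right hd : _ ∈ D.borelSubgroup E)
    (wnu_mem C hw) (one_mem _) (map_borel' C f hcB) (one_mem _)
    (show Matrix.GeneralLinearGroup.map f b * wnu C E w * Matrix.GeneralLinearGroup.map f c =
      Matrix.GeneralLinearGroup.map f (b * wnu C F w * c) * 1 * 1 by simp [map_mul, map_wnu])
  rw [mul_one] at hnd
  have hnil : (wnu C E ([] : List ℕ))⁻¹ * wnu C E w ∈ D.diagonalSubgroup E := by
    rw [show wnu C E ([] : List ℕ) = 1 from List.prod_nil, inv_one, one_mul]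
    simpa using inv_mem hnd
  have hperm := fun k (hk : k < D.rank) =>
    perm_of_same C (F := E) (fun i hi => absurd hi List.not_mem_nil) hw hnil (C.spec.simp_lt k hk)
  have hw' := same_of_perm C K (F := F) (fun i hi => absurd hi List.not_mem_nil) hw hperm
  rw [show wnu C F ([] : List ℕ) = 1 from List.prod_nil, inv_one, one_mul] at hw'
  obtain ⟨u, hu, h, hh, e⟩ := (mem_borel C).1
    (mul_mem (mul_mem hb (Subgroup.mem_sup_right hw' : _ ∈ D.borelSubgroup F)) hcB)
  rw [e, map_mul] at hd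
  have hmh : Matrix.GeneralLinearGroup.map f h ∈ D.diagonalSubgroup E := by
    rw [← torusHom_range C] at hh ⊢
    obtain ⟨c', rfl⟩ := hh
    exact ⟨_, (map_torusHom C f c').symm⟩
  obtain ⟨hu1, -⟩ := borel_parts C (map_posUnipotent' C f hu) (one_mem _) hmh hd
    (one_mul (Matrix.GeneralLinearGroup.map f u * Matrix.GeneralLinearGroup.map f h)).symm
  obtain rfl : u = 1 := map_gl_injective f (by rw [hu1, map_one])
  rw [e, one_mul]
  exact hh

end General

/-- The elements fixed by the `q`-th power map in an extension of the field with `q` elements. -/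
theorem pow_card_fixed {F L : Type*} [Field F] [Fintype F] [Field L] [Algebra F L] (t : L) :
    t ^ Fintype.card F = t ↔ t ∈ (algebraMap F L).range := by
  classical
  refine ⟨fun ht => ?_, ?_⟩
  · let P : Polynomial L := Polynomial.X ^ Fintype.card F - Polynomial.X
    have hP : P ≠ 0 := FiniteField.X_pow_card_sub_X_ne_zero L Fintype.one_lt_card
    have hsub : Finset.univ.image (algebraMap F L) ⊆ P.roots.toFinset := fun x hx => by
      obtain ⟨y, -, rfl⟩ := Finset.mem_image.1 hx
      rw [Multiset.mem_toFinset, Polynomial.mem_roots hP]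
      simp [P, ← map_pow, FiniteField.pow_card]
    have heq := Finset.eq_of_subset_of_card_le hsub (by
      rw [Finset.card_image_of_injective _ (algebraMap F L).injective, Finset.card_univ]
      exact (Multiset.toFinset_card_le _).trans ((Polynomial.card_roots' P).trans
        (FiniteField.X_pow_card_sub_X_natDegree_eq L Fintype.one_lt_card).le))
    have htm : t ∈ P.roots.toFinset := by
      rw [Multiset.mem_toFinset, Polynomial.mem_roots hP]; simp [P, ht]
    rw [← heq] at htm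
    obtain ⟨y, -, e⟩ := Finset.mem_image.1 htm
    exact ⟨y, e⟩
  · rintro ⟨y, rfl⟩
    rw [← map_pow, FiniteField.pow_card]

variable {K : Type*} [Field K] [Fintype K] {q : ℕ}

theorem twistedD4_eq_fixed (hK : Fintype.card K = q ^ 3) (hq : IsPrimePow q) {f : K →+* K} (hf : ∀ t, f t = t ^ q)
    (hit : ∀ (j : ℕ) (t : K), f^[j] t = t ^ (q ^ j)) (hk : ∀ t, f^[3] t = t) :
    Cfsg.Lie.twistedD4 K q = (twSimplyD4.twOK certD4C symOKD4_tri f fullCertD4 twCombD4).fixed certD4C := by
  have hq2 : 2 ≤ q := hq.two_le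
  rw [twSimplyD4.fixed_eq_closure certD4C symOKD4_tri f fullCertD4 twCombD4 twLinkedD4 (fun c => hZD4 hk c),
    Cfsg.Lie.twistedD4, ChevalleyDatum.genSubgroup]
  congr 1
  have b0 : twD4.base 0 = [18, 13, 12] := rfl
  have b1 : twD4.base 1 = [14] := rfl
  have n0 : ([18, 13, 12] : List ℕ).map tblD4.neg = [5, 10, 11] := by decide +kernel
  have n1 : ([14] : List ℕ).map tblD4.neg = [9] := by decide +kernel
  have v1 : ∀ t : K, f^[(twD4.orb 1).length] t = t ↔ t ^ q = t := fun t => by
    rw [show (twD4.orb 1).length = 1 from rfl, hit, pow_one]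
  have v0 : ∀ t : K, f^[(twD4.orb 0).length] t = t := fun t => hk t
  have hcoe : ∀ (r : ℕ) (t : K), ((orbEl certD4C f [r] t : GL chevD4.Idx K) : Matrix chevD4.Idx chevD4.Idx K) =
      chevD4.wordMat K [(r, t)] := fun r t => by simp [orbEl, ChevalleyDatum.wordMat, coe_xg]
  have hcoe3 : ∀ (r s u : ℕ) (t : K), ((orbEl certD4C f [r, s, u] t : GL chevD4.Idx K) :
      Matrix chevD4.Idx chevD4.Idx K) = chevD4.wordMat K [(r, t), (s, t ^ q), (u, t ^ (q ^ 2))] := fun r s u t => by
    simp [orbEl, ChevalleyDatum.wordMat, coe_xg, hf, ← pow_mul, ← sq, mul_assoc]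
  ext g
  constructor
  · rintro ⟨w, hw, hg⟩
    rcases hw with ⟨t, ht, r, hr, rfl⟩ | ⟨t, rs, hr, rfl⟩
    · simp only [List.mem_cons, List.not_mem_nil, or_false] at hr
      rcases hr with rfl | rfl
      · exact ⟨1, by decide, t, (v1 t).2 ht, Or.inl (Units.ext (by rw [hg, b1, hcoe]; rfl))⟩
      · exact ⟨1, by decide, t, (v1 t).2 ht, Or.inr (Units.ext (by rw [hg, b1, n1, hcoe]; rfl))⟩
    · simp only [List.mem_cons, List.not_mem_nil, or_false] at hr
      rcases hr with rfl | rfl
      · exact ⟨0, by decide, t, v0 t, Or.inl (Units.ext (by rw [hg, b0, hcoe3]; rfl))⟩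
      · exact ⟨0, by decide, t, v0 t, Or.inr (Units.ext (by rw [hg, b0, n0, hcoe3]; rfl))⟩
  · rintro ⟨J, hJ, t, ht, hg⟩
    have : J = 0 ∨ J = 1 := by
      have : J < 2 := hJ
      omega
    rcases this with rfl | rfl
    · rcases hg with rfl | rfl
      · exact ⟨_, Or.inr ⟨t, (d4p1, d4p3, d4p4), by simp, rfl⟩, by rw [b0, hcoe3]; rfl⟩
      · exact ⟨_, Or.inr ⟨t, (d4m1, d4m3, d4m4), by simp, rfl⟩, by rw [b0, n0, hcoe3]; rfl⟩
    · rcases hg with rfl | rfl
      · exact ⟨_, Or.inl ⟨t, (v1 t).1 ht, d4p2, by simp, rfl⟩, by rw [b1, hcoe]; rfl⟩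
      · exact ⟨_, Or.inl ⟨t, (v1 t).1 ht, d4m2, by simp, rfl⟩, by rw [b1, n1, hcoe]; rfl⟩

theorem chkCubeD4 : allBelow (fun r => Nat.beq (symD4_3.root (symD4_3.root (symD4_3.root r))) r &&
    decide (symD4_3.eps (symD4_3.root (symD4_3.root r)) * (symD4_3.eps (symD4_3.root r) * symD4_3.eps r) = 1))
    24 = true := by
  decide +kernel

variable {L : Type*} [Field L]

theorem twSigma_cube (fL s3 : L →+* L) (h3 : ∀ t, s3 t = fL (fL (fL t))) {x : GL chevD4.Idx L}
    (hx : x ∈ chevD4.group L) :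
    twSigma symOKD4_tri fL (twSigma symOKD4_tri fL (twSigma symOKD4_tri fL x)) =
      Matrix.GeneralLinearGroup.map s3 x := by
  let G := fun g => twSigma symOKD4_tri fL (twSigma symOKD4_tri fL (twSigma symOKD4_tri fL g))
  have hG : ∀ a b, G (a * b) = G a * G b := fun a b => by simp only [G, twSigma_mul]
  induction hx using Subgroup.closure_induction with
  | mem g hg =>
    obtain ⟨r, t, e⟩ := hg
    rw [eq_xg certD4C (r := r.1) (t := t) (e.trans (by rw [ChevalleyDatum.x, dif_pos r.2]))]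
    have h := allBelow_iff.1 chkCubeD4 r.1 r.2
    simp only [Bool.and_eq_true, Nat.beq_eq, decide_eq_true_eq] at h
    have h1 := symOKD4_tri.root_lt r.1 r.2
    have h2 := symOKD4_tri.root_lt _ h1
    rw [twSigma_xg certD4C symOKD4_tri fL r.2, twSigma_xg certD4C symOKD4_tri fL h1,
      twSigma_xg certD4C symOKD4_tri fL h2, map_xg, h.1, h3]
    congr 1
    simp only [map_mul, map_intCast, ← mul_assoc, ← Int.cast_mul]
    rw [mul_assoc (symD4_3.eps _), h.2, Int.cast_one, one_mul]
  | one => rw [twSigma_one, twSigma_one, twSigma_one, map_one]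
  | mul a b _ _ ha hb => exact (hG a b).trans (by rw [map_mul, ← ha, ← hb])
  | inv a _ ha =>
    refine eq_inv_of_mul_eq_one_left (b := Matrix.GeneralLinearGroup.map s3 a) ?_ |>.trans (map_inv _ a).symm
    rw [← ha]
    show G a⁻¹ * G a = 1
    rw [← hG, inv_mul_cancel]
    simp only [G, twSigma_one]

theorem kerD4_fixed_eq_one (fL : L →+* L) {z : Fin chevD4.rank → Lˣ} (hzk : z ∈ (torusHom chevD4 tblD4 L).ker)
    (hzf : twPar symOKD4_tri fL z = z) : z = 1 := by
  have hsq := fun i => kerD4_sq hzk i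
  have hfix : ∀ j : Fin chevD4.rank, fL ((z j : Lˣ) : L) = ((z j : Lˣ) : L) := by
    intro j
    rcases sq_eq_one_iff.1 (show ((z j : Lˣ) : L) ^ 2 = 1 by rw [← Units.val_pow_eq_pow_val, hsq j, Units.val_one])
      with e | e <;> rw [e] <;> simp
  have hmove : ∀ i : Fin chevD4.rank, z i = z ⟨symD4_3.pI.getD i 0, symOKD4_tri.node_lt' i i.2⟩ := by
    intro i
    conv_lhs => rw [← hzf]
    exact Units.ext (hfix _)
  rw [torusHom_ker certD4C, MonoidHom.mem_ker] at hzk
  let w : Fin 4 → Lˣ := z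
  have h0 : w 0 = w 3 := hmove (0 : Fin 4)
  have h2 : w 2 = w 0 := hmove (2 : Fin 4)
  have e00 : tblD4.cartan 0 (tblD4.simp' 0) = 2 := by decide +kernel
  have e10 : tblD4.cartan 1 (tblD4.simp' 0) = -1 := by decide +kernel
  have e20 : tblD4.cartan 2 (tblD4.simp' 0) = 0 := by decide +kernel
  have e30 : tblD4.cartan 3 (tblD4.simp' 0) = 0 := by decide +kernel
  have e01 : tblD4.cartan 0 (tblD4.simp' 1) = -1 := by decide +kernel
  have e11 : tblD4.cartan 1 (tblD4.simp' 1) = 2 := by decide +kernel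
  have e21 : tblD4.cartan 2 (tblD4.simp' 1) = -1 := by decide +kernel
  have e31 : tblD4.cartan 3 (tblD4.simp' 1) = -1 := by decide +kernel
  have r0 : ∏ j : Fin 4, w j ^ tblD4.cartan j (tblD4.simp' 0) = 1 := congrFun hzk (0 : Fin 4)
  have r1 : ∏ j : Fin 4, w j ^ tblD4.cartan j (tblD4.simp' 1) = 1 := congrFun hzk (1 : Fin 4)
  simp only [Fin.prod_univ_four, Fin.val_zero, Fin.val_one, Fin.val_two, show ((3 : Fin 4) : ℕ) = 3 from rfl,
    e00, e10, e20, e30, e01, e11, e21, e31, zpow_zero, mul_one, zpow_neg, zpow_one] at r0 r1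
  rw [show (w 0 : Lˣ) ^ (2 : ℤ) = 1 from (zpow_natCast _ 2).trans (hsq (0 : Fin 4)), one_mul, inv_eq_one] at r0
  have w1 : w 1 = 1 := r0
  rw [w1, ← h0, h2, one_zpow, mul_one] at r1
  have w0 : w 0 = 1 := by
    have h3 : w 0 * (w 0 * w 0) = 1 := by
      apply inv_injective
      simpa [mul_assoc] using r1
    rwa [← sq, hsq (0 : Fin 4), mul_one] at h3
  have w3 : w 3 = 1 := h0 ▸ w0
  have w2 : w 2 = 1 := h2.trans w0
  funext i
  show w i = 1
  revert i
  intro (i : Fin 4)
  fin_cases i <;> assumption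

set_option maxHeartbeats 800000 in
/-- The fixed points over the algebraic closure come from the finite field. -/
theorem triality_descent [Algebra K L] (fL : L →+* L) (hK : Fintype.card K = q ^ 3) (hfL : ∀ t, fL t = t ^ q)
    {x : GL chevD4.Idx L} (hx : x ∈ chevD4.group L) (hfix : twSigma symOKD4_tri fL x = x) :
    ∃ x₀ ∈ chevD4.group K, Matrix.GeneralLinearGroup.map (algebraMap K L) x₀ = x := by
  set s3 : L →+* L := fL.comp (fL.comp fL) with hs3
  set ι := algebraMap K L with hιdef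
  have hι : ∀ t, s3 t = t ↔ t ∈ ι.range := fun t => by
    rw [← pow_card_fixed (F := K) (L := L) t, hK]
    simp only [hs3, RingHom.comp_apply, hfL, ← pow_mul, pow_succ, pow_zero, one_mul]
  have hx3 : Matrix.GeneralLinearGroup.map s3 x = x := by
    rw [← twSigma_cube fL s3 (fun _ => rfl) hx, hfix, hfix, hfix]
  obtain ⟨u, hu, v, hv, d, hd, hd3, rfl⟩ := fixed_decomp certD4C s3 fullCertD4 hx hx3
  rw [← torusHom_range certD4C] at hd
  obtain ⟨c, rfl⟩ := hd
  let s3c : (Fin chevD4.rank → Lˣ) →* (Fin chevD4.rank → Lˣ) :=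
    { toFun := fun c i => Units.map s3.toMonoidHom (c i)
      map_one' := funext fun i => by simp
      map_mul' := fun a b => funext fun i => by simp }
  have hT3 : torusHom chevD4 tblD4 L (s3c c) = torusHom chevD4 tblD4 L c := (map_torusHom certD4C s3 c).symm.trans hd3
  have hchr : ∀ r < chevD4.nroots, s3 (chr tblD4 chevD4 (extend' c) r) = chr tblD4 chevD4 (extend' c) r := by
    intro r hr
    refine Eq.trans ?_ (chr_eq_of_torusHom certD4C hT3 hr)
    simp only [chr, map_prod, map_zpow₀]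
    refine Finset.prod_congr rfl fun j hj => ?_
    simp [extend', s3c, Finset.mem_range.1 hj]
  have hσF : ∀ g ∈ fixedRoots certD4C s3, twSigma symOKD4_tri fL g ∈ fixedRoots certD4C s3 := by
    intro g hg
    induction hg using Subgroup.closure_induction with
    | mem y hy =>
      obtain ⟨r, t, ht, rfl⟩ := hy
      by_cases hr : r < chevD4.nroots
      · rw [twSigma_xg certD4C symOKD4_tri fL hr]
        refine xg_mem_fixedRoots certD4C s3 ?_
        rw [map_mul, map_intCast]
        congr 1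
        exact congrArg fL ht
      · rw [xg_out certD4C hr, twSigma_one]
        exact one_mem _
    | one => rw [twSigma_one]; exact one_mem _
    | mul a b _ _ ha hb => rw [twSigma_mul]; exact mul_mem ha hb
    | inv a _ ha =>
      rw [show twSigma symOKD4_tri fL a⁻¹ = (twSigma symOKD4_tri fL a)⁻¹ from
        eq_inv_of_mul_eq_one_left (by rw [← twSigma_mul, inv_mul_cancel, twSigma_one])]
      exact inv_mem ha
  set d := torusHom chevD4 tblD4 L c with hddef
  have hnorm : ∀ g ∈ fixedRoots certD4C s3, d * g * d⁻¹ ∈ fixedRoots certD4C s3 := by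
    intro g hg
    refine conj_mem_closure ?_ hg
    rintro y ⟨r, t, ht, rfl⟩
    by_cases hr : r < chevD4.nroots
    · rw [hddef, torusHom_conj_xg certD4C c hr]
      exact xg_mem_fixedRoots certD4C s3 (by rw [map_mul, hchr r hr, ht])
    · rw [xg_out certD4C hr, mul_one, mul_inv_cancel]
      exact one_mem _
  rw [twSigma_mul, twSigma_mul] at hfix
  have hy : twSigma symOKD4_tri fL d * d⁻¹ ∈ fixedRoots certD4C s3 := by
    have e : twSigma symOKD4_tri fL d * d⁻¹ = (twSigma symOKD4_tri fL u)⁻¹ * u *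
        (d * (v * (twSigma symOKD4_tri fL v)⁻¹) * d⁻¹) := by
      calc twSigma symOKD4_tri fL d * d⁻¹ = (twSigma symOKD4_tri fL u)⁻¹ *
            (twSigma symOKD4_tri fL u * twSigma symOKD4_tri fL d * twSigma symOKD4_tri fL v) *
            (twSigma symOKD4_tri fL v)⁻¹ * d⁻¹ := by group
        _ = _ := by rw [hfix]; group
    rw [e]
    exact mul_mem (mul_mem (inv_mem (hσF u hu)) hu) (hnorm _ (mul_mem hv (inv_mem (hσF v hv))))
  rw [hddef, twSigma_torus certD4C symOKD4_tri fL, ← map_inv, ← map_mul, fixedRoots_eq_map certD4C s3 ι hι,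
    Subgroup.mem_map] at hy
  obtain ⟨y, hyG, hye⟩ := hy
  have hyd := diag_descend certD4C fullCertD4 ι hyG (by rw [hye, ← torusHom_range certD4C]; exact ⟨_, rfl⟩)
  rw [← torusHom_range certD4C] at hyd
  obtain ⟨c₀, rfl⟩ := hyd
  rw [map_torusHom certD4C] at hye
  set c₁ : Fin chevD4.rank → Lˣ := fun i => Units.map ι.toMonoidHom (c₀ i) with hc₁
  set z := (twPar symOKD4_tri fL c * c⁻¹) * c₁⁻¹ with hzdef
  have hz : z ∈ (torusHom chevD4 tblD4 L).ker := by
    rw [MonoidHom.mem_ker, hzdef, map_mul, ← hye, map_inv, mul_inv_cancel]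
  have hs1 : s3c c₁ = c₁ := funext fun i => Units.ext ((hι _).2 ⟨_, rfl⟩)
  have hsz : s3c z = z := funext fun i => Units.ext (by
    show s3 ((z i : Lˣ) : L) = _
    rcases sq_eq_one_iff.1 (show ((z i : Lˣ) : L) ^ 2 = 1 by
      rw [← Units.val_pow_eq_pow_val, kerD4_sq hz i, Units.val_one]) with e | e <;> rw [e] <;> simp)
  have hrel : twPar symOKD4_tri fL c = z * c₁ * c := by rw [hzdef]; group
  have hcomm : twPar symOKD4_tri fL (s3c c) = s3c (twPar symOKD4_tri fL c) :=
    funext fun i => Units.ext rfl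
  have hβ : twPar symOKD4_tri fL (s3c c * c⁻¹) = s3c c * c⁻¹ := by
    rw [twPar_mul, twPar_inv, hcomm, hrel, map_mul, map_mul, hsz, hs1]
    simp only [← div_eq_mul_inv, mul_div_mul_left_eq_div]
  have hβk : s3c c * c⁻¹ ∈ (torusHom chevD4 tblD4 L).ker := by
    rw [MonoidHom.mem_ker, map_mul, hT3, map_inv, mul_inv_cancel]
  have hc : s3c c = c := mul_inv_eq_one.1 (kerD4_fixed_eq_one fL hβk hβ)
  have hrat : ∀ i, ((c i : Lˣ) : L) ∈ ι.range := fun i => (hι _).1 (congrArg Units.val (congrFun hc i))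
  choose a ha using hrat
  have ha0 : ∀ i, a i ≠ 0 := fun i e => (c i).ne_zero (by rw [← ha i, e, map_zero])
  have hdF : d ∈ fixedRoots certD4C s3 := by
    rw [fixedRoots_eq_map certD4C s3 ι hι, Subgroup.mem_map]
    refine ⟨torusHom chevD4 tblD4 K fun i => Units.mk0 (a i) (ha0 i),
      monomial_le_group certD4C (diag_le_monomial certD4C ?_), ?_⟩
    · rw [← torusHom_range certD4C]; exact ⟨_, rfl⟩
    · rw [map_torusHom certD4C, hddef]
      exact congrArg _ (funext fun i => Units.ext (ha i))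
  have := mul_mem (mul_mem hu hdF) hv
  rw [fixedRoots_eq_map certD4C s3 ι hι, Subgroup.mem_map] at this
  exact this

set_option maxHeartbeats 800000 in
/-- The cyclic self-centralising subgroup of order `q⁴ + q³ - q - 1`. -/
theorem twistedD4_cyclic_self_centralizing (hq : IsPrimePow q) (hK : Fintype.card K = q ^ 3)
    (hS : TwTorOK chevD4 tblD4 symD4_3.root torD4) (hsep : TwTorSep chevD4 tblD4 torD4 q) :
    ∃ H : Subgroup ↥(Cfsg.Lie.twistedD4 K q), IsCyclic ↥H ∧ (Nat.card ↥H : ℤ) = torD4.ord chevD4.rank q ∧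
      Subgroup.centralizer (H : Set ↥(Cfsg.Lie.twistedD4 K q)) = H := by
  classical
  obtain ⟨f, hf, hit, hk⟩ := exists_frobQ (K := K) (k := 3) hq (by norm_num) (by rw [Nat.card_eq_fintype_card]; exact hK)
  have hGeq := twistedD4_eq_fixed hK hq hf hit hk
  have hmemG : ∀ x : GL chevD4.Idx K, x ∈ Cfsg.Lie.twistedD4 K q ↔
      x ∈ chevD4.group K ∧ twSigma symOKD4_tri f x = x := fun x => by rw [hGeq]; rfl
  obtain ⟨r, m, hr, hm, hqr⟩ := (isPrimePow_nat_iff q).1 hq
  obtain ⟨p, hp⟩ := CharP.exists K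
  obtain ⟨k, hprime, hc⟩ := FiniteField.card K p
  haveI := Fact.mk hprime
  have hpr : r = p := by
    have h1 : r ∣ p ^ (k : ℕ) := by rw [← hc, hK, ← hqr, ← pow_mul]; exact dvd_pow_self r (by omega)
    exact (Nat.prime_dvd_prime_iff_eq hr hprime).1 (hr.dvd_of_dvd_pow h1)
  subst hpr
  let L := AlgebraicClosure K
  haveI : CharP L r := charP_of_injective_algebraMap (algebraMap K L).injective r
  set fL := iterateFrobenius L r m with hfLdef
  have hfL : ∀ t : L, fL t = t ^ q := fun t => by rw [hfLdef, iterateFrobenius_def, hqr]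
  set ι := algebraMap K L with hιdef
  have hιf : ∀ t, ι (f t) = fL (ι t) := fun t => by rw [hf, hfL, map_pow]
  have hq2 : 2 ≤ q := hq.two_le
  obtain ⟨N, hN⟩ : ∃ N : ℕ, (N : ℤ) = torD4.ord chevD4.rank q :=
    ⟨(torD4.ord chevD4.rank q).toNat, Int.toNat_of_nonneg hsep.ord_pos.le⟩
  have hordq : torD4.ord chevD4.rank q = (q : ℤ) ^ 4 + q ^ 3 - q - 1 := by
    rw [TwTor.ord, sumBelow_eq, show chevD4.rank = 4 from rfl]
    simp [Finset.sum_range_succ, torD4, nth_eq]
    ring
  have hNL : (N : L) ≠ 0 := by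
    intro h0
    rw [CharP.cast_eq_zero_iff L r] at h0
    have hd : (r : ℤ) ∣ (q : ℤ) ^ 4 + q ^ 3 - q - 1 := hordq ▸ hN ▸ Int.natCast_dvd_natCast.2 h0
    have hpq : (r : ℤ) ∣ (q : ℤ) := Int.natCast_dvd_natCast.2 (hqr ▸ dvd_pow_self r (by omega))
    have h1 : (r : ℤ) ∣ (1 : ℤ) := by
      have h2 : (r : ℤ) ∣ (q : ℤ) * ((q : ℤ) ^ 3 + q ^ 2 - 1) - ((q : ℤ) ^ 4 + q ^ 3 - q - 1) :=
        dvd_sub (hpq.mul_right _) hd
      ring_nf at h2
      exact h2
    exact hprime.one_lt.ne' (by exact_mod_cast Int.eq_one_of_dvd_one (by omega) h1)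
  haveI : NeZero (N : L) := ⟨hNL⟩
  obtain ⟨ζ, hζ⟩ := HasEnoughRootsOfUnity.exists_primitiveRoot L N
  have hN0 : N ≠ 0 := fun e => hNL (by rw [e]; exact Nat.cast_zero)
  haveI : NeZero N := ⟨hN0⟩
  have hζ0 : ζ ≠ 0 := hζ.ne_zero hN0
  have hζeq : ∀ a b : ℤ, ζ ^ a = ζ ^ b ↔ torD4.ord chevD4.rank q ∣ a - b := fun a b => by
    rw [← hN, ← hζ.zpow_eq_one_iff_dvd, zpow_sub₀ hζ0, div_eq_one_iff_eq (zpow_ne_zero _ hζ0)]
  obtain ⟨c, hcc⟩ := exists_twTor_element certD4C hS (e := 2) two_pos torInvD4_mul hζ0 q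
  have hreg : ∀ s < chevD4.nroots, chr tblD4 chevD4 (extend' c) s ≠ 1 := fun s hs e => by
    rw [hcc s hs, ← zpow_zero ζ, hζeq, sub_zero] at e
    exact hsep.ne_zero s hs e
  have hsep' : ∀ v, IsWord chevD4 v → (∀ j < chevD4.rank,
      chr tblD4 chevD4 (extend' c) (wperm tblD4 v (tblD4.simp' j)) = chr tblD4 chevD4 (extend' c) (tblD4.simp' j)) →
      ∀ j < chevD4.rank, wperm tblD4 v (tblD4.simp' j) = tblD4.simp' j := fun v hv h =>
    hsep.sep v hv fun j hj => by
      have := h j hj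
      rwa [hcc _ (wperm_lt certD4C hv (certD4C.spec.simp_lt j hj)), hcc _ (certD4C.spec.simp_lt j hj), hζeq] at this
  set n := wnu certD4C L torD4.w with hn
  set h := torusHom chevD4 tblD4 L c with hh
  have hconjchr : ∀ (d e : Fin chevD4.rank → Lˣ),
      n * twSigma symOKD4_tri fL (torusHom chevD4 tblD4 L d) * n⁻¹ = torusHom chevD4 tblD4 L e →
      ∀ s < chevD4.nroots, chr tblD4 chevD4 (extend' e) (torD4.act tblD4 symD4_3.root s) =
        chr tblD4 chevD4 (extend' d) s ^ q := by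
    intro d e he s hs
    obtain ⟨e', he', hchr⟩ := torus_word_conj certD4C hS.isWord (twPar symOKD4_tri fL d)
    rw [twSigma_torus certD4C symOKD4_tri fL, he'] at he
    have hs' := symOKD4_tri.root_lt s hs
    rw [TwTor.act, ← chr_eq_of_torusHom certD4C he (wperm_lt certD4C hS.isWord hs'), hchr _ hs',
      twPar_chr certD4C symOKD4_tri fL d hs, hfL]
  have hnh : n * twSigma symOKD4_tri fL h * n⁻¹ = h := by
    obtain ⟨e, he, -⟩ := torus_word_conj certD4C hS.isWord (twPar symOKD4_tri fL c)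
    have he' : n * twSigma symOKD4_tri fL h * n⁻¹ = torusHom chevD4 tblD4 L e := by
      rw [hh, twSigma_torus certD4C symOKD4_tri fL, hn, he]
    rw [he']
    refine torusHom_congr fun s hs => ?_
    have h1 := symOKD4_tri.root_lt' (wperm tblD4 torD4.w.reverse s)
      (wperm_lt certD4C hS.isWord.reverse hs)
    have hs0 : torD4.act tblD4 symD4_3.root (symD4_3.rI.getD (wperm tblD4 torD4.w.reverse s) 0) = s := by
      rw [TwTor.act, symOKD4_tri.root_inv' _ (wperm_lt certD4C hS.isWord.reverse hs)]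
      have := wperm_reverse certD4C hS.isWord.reverse hs
      rwa [List.reverse_reverse] at this
    rw [← hs0, hconjchr c e he' _ h1, hcc _ (twAct_lt certD4C hS h1), hcc _ h1, ← zpow_natCast, ← zpow_mul, hζeq,
      twExpo_step certD4C hS q h1]
    exact ⟨torD4.pc (symD4_3.rI.getD (wperm tblD4 torD4.w.reverse s) 0) (chevD4.rank - 1), by ring⟩
  obtain ⟨P, hP⟩ := symOKD4_tri.exists_conj (F := L)
  have hσG : ∀ x ∈ chevD4.group L, P * x * P⁻¹ ∈ chevD4.group L := fun x hx => by
    obtain ⟨α, hα⟩ := symOKD4_tri.exists_groupAut (F := L) certD4C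
    rw [← hP, ← hα ⟨x, hx⟩]
    exact (α ⟨x, hx⟩).2
  obtain ⟨g, hg, hgn⟩ := lang_chev certD4C fullCertD4 (p := r) (f := m) (hqr ▸ hq2) P hσG
    (monomial_le_group certD4C (wnu_mem certD4C hS.isWord) : n ∈ chevD4.group L)
  have hσg : twSigma symOKD4_tri fL g = g * n := by
    rw [← hgn, twSigma, hP, hfLdef]; group
  have hσinv : ∀ x, twSigma symOKD4_tri fL x⁻¹ = (twSigma symOKD4_tri fL x)⁻¹ := fun x =>
    eq_inv_of_mul_eq_one_left (by rw [← twSigma_mul, inv_mul_cancel, twSigma_one])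
  have hhG : h ∈ chevD4.group L :=
    monomial_le_group certD4C (diag_le_monomial certD4C (by rw [← torusHom_range certD4C]; exact ⟨c, rfl⟩))
  let φ : ↥(Cfsg.Lie.twistedD4 K q) →* GL chevD4.Idx L :=
    (Matrix.GeneralLinearGroup.map ι).comp (Cfsg.Lie.twistedD4 K q).subtype
  have hφinj : Function.Injective φ := (map_gl_injective _).comp Subtype.val_injective
  have hφfix : ∀ x, φ x ∈ chevD4.group L ∧ twSigma symOKD4_tri fL (φ x) = φ x := fun x => by
    obtain ⟨h1, h2⟩ := (hmemG x).1 x.2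
    refine ⟨map_group_le certD4C ι h1, ?_⟩
    show twSigma symOKD4_tri fL (Matrix.GeneralLinearGroup.map ι x) = Matrix.GeneralLinearGroup.map ι x
    rw [← twSigma_map' symOKD4_tri ι f fL hιf, h2]
  obtain ⟨t, ht⟩ : ∃ t, φ t = g * h * g⁻¹ := by
    have hfix : twSigma symOKD4_tri fL (g * h * g⁻¹) = g * h * g⁻¹ := by
      rw [twSigma_mul, twSigma_mul, hσinv, hσg]
      calc g * n * twSigma symOKD4_tri fL h * (g * n)⁻¹ = g * (n * twSigma symOKD4_tri fL h * n⁻¹) * g⁻¹ := by group
        _ = _ := by rw [hnh]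
    obtain ⟨x₀, hx₀, e⟩ := triality_descent fL hK hfL (mul_mem (mul_mem hg hhG) (inv_mem hg)) hfix
    refine ⟨⟨x₀, (hmemG x₀).2 ⟨hx₀, map_gl_injective ι ?_⟩⟩, e⟩
    rw [twSigma_map' symOKD4_tri ι f fL hιf, e, hfix]
  have hord : orderOf t = N := by
    rw [← orderOf_injective φ hφinj, ht, ← MulAut.conj_apply, MulEquiv.orderOf_eq]
    refine Nat.dvd_antisymm (orderOf_dvd_of_pow_eq_one ?_) ?_
    · rw [hh, ← map_pow, ← map_one (torusHom chevD4 tblD4 L)]
      refine torusHom_congr fun s hs => ?_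
      rw [chr_pow', hcc s hs, ← zpow_natCast, ← zpow_mul,
        show chr tblD4 chevD4 (extend' (1 : Fin chevD4.rank → Lˣ)) s = 1 by simp [chr, extend'],
        ← zpow_zero ζ, hζeq, sub_zero, ← hN]
      exact dvd_mul_left _ _
    · have e := pow_orderOf_eq_one h
      generalize orderOf h = i at e ⊢
      rw [hh, ← map_pow, ← map_one (torusHom chevD4 tblD4 L)] at e
      have e' : chr tblD4 chevD4 (extend' (c ^ i)) torD4.r0 = 1 := by
        rw [chr_eq_of_torusHom certD4C e hS.r0_lt]; simp [chr, extend']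
      have he0 : torD4.expo chevD4.rank q torD4.r0 = 1 := by
        rw [TwTor.expo, sumBelow_eq, Finset.sum_eq_single 0
          (fun j hj hj0 => by rw [hS.pc_r0 j (Finset.mem_range.1 hj), if_neg hj0, zero_mul])
          (fun h => absurd (Finset.mem_range.2 hS.rank_pos) h), hS.pc_r0 0 hS.rank_pos, if_pos rfl, pow_zero, one_mul]
      rw [chr_pow', hcc _ hS.r0_lt, he0, zpow_one] at e'
      exact hζ.dvd_of_pow_eq_one i e'
  refine ⟨Subgroup.zpowers t, inferInstance, by rw [Nat.card_zpowers, hord, hN], ?_⟩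
  refine le_antisymm (fun u hu => ?_) (fun x hx => ?_)
  · have hu' : t * u = u * t := Subgroup.mem_centralizer_iff.1 hu t (Subgroup.mem_zpowers t)
    obtain ⟨hUG, hUfix⟩ := hφfix u
    have hcomm : h * (g⁻¹ * φ u * g) = (g⁻¹ * φ u * g) * h := by
      calc h * (g⁻¹ * φ u * g) = g⁻¹ * (g * h * g⁻¹ * φ u) * g := by group
        _ = g⁻¹ * (φ u * (g * h * g⁻¹)) * g := by rw [← ht, ← map_mul, hu', map_mul]
        _ = _ := by group
    have hd := centralizer_regular certD4C fullCertD4 hreg hsep' (mul_mem (mul_mem (inv_mem hg) hUG) hg) hcomm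
    rw [← torusHom_range certD4C] at hd
    obtain ⟨d, hd⟩ := hd
    have hnd : n * twSigma symOKD4_tri fL (torusHom chevD4 tblD4 L d) * n⁻¹ = torusHom chevD4 tblD4 L d := by
      rw [hd, twSigma_mul, twSigma_mul, hσinv, hUfix, hσg]; group
    obtain ⟨i, hi⟩ := twTor_fixed_pow certD4C hS hN hζ hcc (hconjchr d d hnd)
    refine Subgroup.mem_zpowers_iff.2 ⟨(i : ℤ), hφinj ?_⟩
    rw [zpow_natCast, map_pow, ht, conj_pow, ← hi, hd]
    group
  · refine Subgroup.mem_centralizer_iff.2 fun y hy => ?_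
    obtain ⟨a, rfl⟩ := Subgroup.mem_zpowers_iff.1 hx
    obtain ⟨b, rfl⟩ := Subgroup.mem_zpowers_iff.1 hy
    exact (Commute.refl t).zpow_zpow b a

end Cfsg.Lib.Chev
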