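import Cfsg.Agent.Lib.Chev.TwF4Facts

/-!
# Fusion in the fixed torus of a twisted group, and seven-fusion in ²F₄(q)
-/

set_option autoImplicit false
set_option linter.unusedSectionVars false

namespace Cfsg.Lib.Chev

open Cfsg.Lie

section Generic

variable {D : ChevalleyDatum} {T : Tbl} {F : Type*} [Field F]
variable (C : Cert D T) (K : FullCert D T) {τ : TwData} (hc : TwComb D T τ) {σ : GL D.Idx F → GL D.Idx F}
  (h : TwOK C τ σ)
include h hc K

/-- Conjugation by an element agrees on the torus with a monomial fixed element. -/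
theorem TwOK.torus_fusion {g : GL D.Idx F} (hg : g ∈ h.fixed C) :
    ∃ n ∈ D.monomialSubgroup F ⊓ h.fixed C, ∀ x ∈ D.diagonalSubgroup F,
      g * x * g⁻¹ ∈ D.diagonalSubgroup F → g * x * g⁻¹ = n * x * n⁻¹ := by
  obtain ⟨e, he, hall⟩ := h.bruhat_fixed C K hc hg
  obtain ⟨n, hn, hd⟩ := h.exists_fixed_rep C hc he
  have hew := hc.eword_word C he
  have hnN : n ∈ D.monomialSubgroup F := by
    have := mul_mem (wnu_mem C (F := F) hew) (diag_le_monomial C hd)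
    rwa [mul_inv_cancel_left] at this
  obtain ⟨b, hb, c, hcc, rfl⟩ := hall n hn hd
  refine ⟨n, ⟨hnN, hn⟩, fun x hx hy => ?_⟩
  set y := b * n * c * x * (b * n * c)⁻¹ with hydef
  have hc1 := (signPart_iff_conj C K hew hd).1 hcc.1
  have hz : n * x * n⁻¹ ∈ D.diagonalSubgroup F := (conj_mem_diag C hnN hx).1
  obtain ⟨u, hu, d, hdd, rfl⟩ := (mem_borel C).1 hb.1
  have hneg : n * (c * (x⁻¹ * c * x)⁻¹) * n⁻¹ ∈ D.negUnipotent F := by
    have h1 : n * (x⁻¹ * c * x) * n⁻¹ ∈ D.negUnipotent F := by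
      have h2 := ((Subgroup.mem_normalizer_iff.1 (neg_conj_diag C (inv_mem hz))) _).1 hc1.2
      rwa [show (n * x * n⁻¹)⁻¹ * (n * c * n⁻¹) * ((n * x * n⁻¹)⁻¹)⁻¹ = n * (x⁻¹ * c * x) * n⁻¹ by group] at h2
    rw [show n * (c * (x⁻¹ * c * x)⁻¹) * n⁻¹ = (n * c * n⁻¹) * (n * (x⁻¹ * c * x) * n⁻¹)⁻¹ by group]
    exact mul_mem hc1.2 (inv_mem h1)
  have heq : (u * d * (n * x * n⁻¹)) * n * (x⁻¹ * c * x) = (y * (u * d)) * n * c := by
    rw [hydef]; group
  have hbor : u * d ∈ D.borelSubgroup F := mul_mem (Subgroup.mem_sup_left hu) (Subgroup.mem_sup_right hdd)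
  obtain ⟨e1, -⟩ := cell_unique C (mul_mem hbor (Subgroup.mem_sup_right hz))
    (mul_mem (Subgroup.mem_sup_right hy) hbor) hneg heq
  have hu' : y * u * y⁻¹ ∈ D.posUnipotent F := ((Subgroup.mem_normalizer_iff.1 (diag_le_normalizer C hy)) _).1 hu
  have e2 : u⁻¹ * (y * u * y⁻¹) = d * (n * x * n⁻¹) * (y * d)⁻¹ := by
    calc _ = u⁻¹ * (y * (u * d)) * (y * d)⁻¹ := by group
      _ = _ := by rw [← e1]; group
  have h3 : d * (n * x * n⁻¹) * (y * d)⁻¹ ∈ D.posUnipotent F ⊓ D.diagonalSubgroup F :=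
    Subgroup.mem_inf.2 ⟨by rw [← e2]; exact mul_mem (inv_mem hu) hu', mul_mem (mul_mem hdd hz) (inv_mem (mul_mem hy hdd))⟩
  rw [pos_inf_diag C, Subgroup.mem_bot, mul_inv_eq_one, diag_comm C hdd hz] at h3
  exact (mul_right_cancel h3).symm

end Generic

/-- The seven-cycle and an even permutation squaring it. -/
theorem exists_fusion_seven {r : ℕ} (hr : 7 ≤ r) :
    ∃ a s : ↥(alternatingGroup (Fin r)), orderOf a = 7 ∧ s * a * s⁻¹ = a ^ 2 := by
  let ι : Fin 7 ↪ Fin r := Fin.castLEEmb hr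
  let f := Equiv.Perm.viaEmbeddingHom ι
  have hf : ∀ p : Equiv.Perm (Fin 7), Equiv.Perm.sign p = 1 → f p ∈ alternatingGroup (Fin r) := fun p hp => by
    rw [Equiv.Perm.mem_alternatingGroup, Equiv.Perm.viaEmbeddingHom_apply, Equiv.Perm.viaEmbedding,
      Equiv.Perm.sign_extendDomain, hp]
  let a0 : Equiv.Perm (Fin 7) := finRotate 7
  let s0 : Equiv.Perm (Fin 7) := ⟨fun i => 2 * i, fun i => 4 * i, by decide, by decide⟩
  have h7 : orderOf a0 = 7 := by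
    haveI : Fact (Nat.Prime 7) := ⟨by norm_num⟩
    exact orderOf_eq_prime (by decide) (by decide)
  refine ⟨⟨f a0, hf _ (by decide)⟩, ⟨f s0, hf _ (by decide)⟩, ?_, ?_⟩
  · rw [← Subgroup.orderOf_coe]
    exact (orderOf_injective f (Equiv.Perm.viaEmbeddingHom_injective ι) a0).trans h7
  · refine Subtype.ext ?_
    push_cast
    rw [← map_inv, ← map_mul, ← map_mul, ← map_pow]
    exact congrArg f (by decide)

/-- Alternating sections of `²F₄(q)` have degree at most six. -/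
theorem f4_alt_section {K : Type*} [Field K] [Fintype K] [CharP K esymF4.p] {m : ℕ}
    (hK : Fintype.card K = 2 ^ (2 * m + 1)) {G0 : Subgroup (GL chevF4.Idx K)}
    (hG0 : G0 = (twOKF4 (K := K) m).fixed certF4C) {r : ℕ} (H : Subgroup ↥G0) (N : Subgroup ↥H) [N.Normal]
    (hN : Nonempty (↥H ⧸ N ≃* ↥(alternatingGroup (Fin r)))) : r ≤ 6 := by
  classical
  by_contra hr
  push Not at hr
  haveI : Fact (Nat.Prime 7) := ⟨by norm_num⟩
  obtain ⟨e⟩ := hN
  obtain ⟨a0, s0, ha0, hs0⟩ := exists_fusion_seven (Nat.succ_le_of_lt hr)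
  let π : ↥H →* ↥(alternatingGroup (Fin r)) := e.toMonoidHom.comp (QuotientGroup.mk' N)
  have hπ : Function.Surjective π := e.surjective.comp (QuotientGroup.mk'_surjective N)
  let Kp : Subgroup ↥H := (Subgroup.zpowers a0).comap π
  obtain ⟨y, hy⟩ := hπ s0
  have hKy : ∀ k : ↥H, k ∈ Kp → y * k * y⁻¹ ∈ Kp := by
    intro k hk
    obtain ⟨j, hj⟩ := Subgroup.mem_zpowers_iff.1 hk
    show π (y * k * y⁻¹) ∈ Subgroup.zpowers a0
    rw [map_mul, map_mul, map_inv, hy, ← hj, ← conj_zpow, hs0, ← zpow_natCast, ← zpow_mul]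
    exact Subgroup.zpow_mem_zpowers _ _
  let P : Sylow 7 ↥Kp := default
  let P' : Subgroup ↥H := (P : Subgroup ↥Kp).map Kp.subtype
  -- a seven-element of `P'` lying over `a0`
  obtain ⟨p0, hp0P, hp0⟩ : ∃ p ∈ P', π p = a0 := by
    let πK : ↥Kp →* ↥(Subgroup.zpowers a0) := (π.comp Kp.subtype).codRestrict _ fun k => k.2
    have hπK : Function.Surjective πK := fun z => by
      obtain ⟨k, hk⟩ := hπ (z : ↥(alternatingGroup (Fin r)))
      exact ⟨⟨k, show π k ∈ _ by rw [hk]; exact z.2⟩, Subtype.ext hk⟩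
    have htop : ((P.mapSurjective hπK : Sylow 7 ↥(Subgroup.zpowers a0)) : Subgroup ↥(Subgroup.zpowers a0)) = ⊤ := by
      refine ((P.mapSurjective hπK).3 (Q := ⊤) ?_ le_top).symm
      exact (IsPGroup.of_card (n := 1) (by rw [Nat.card_zpowers, ha0, pow_one])).to_subgroup ⊤
    have hm : (⟨a0, Subgroup.mem_zpowers a0⟩ : ↥(Subgroup.zpowers a0)) ∈
        ((P.mapSurjective hπK : Sylow 7 ↥(Subgroup.zpowers a0)) : Subgroup _) := by rw [htop]; trivial
    rw [Sylow.coe_mapSurjective] at hm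
    obtain ⟨p, hp, hpe⟩ := hm
    exact ⟨p, ⟨p, hp, rfl⟩, congrArg Subtype.val hpe⟩
  -- a normalising element
  let cy : ↥Kp ≃* ↥Kp :=
    { toFun := fun k => ⟨y * k * y⁻¹, hKy _ k.2⟩
      invFun := fun k => ⟨y⁻¹ * k * y, by
        have hk : π k ∈ Subgroup.zpowers a0 := k.2
        obtain ⟨j, hj⟩ := Subgroup.mem_zpowers_iff.1 hk
        show π (y⁻¹ * (k : ↥H) * y) ∈ Subgroup.zpowers a0
        have h7 : a0 ^ 7 = 1 := ha0 ▸ pow_orderOf_eq_one a0
        have h4 : s0⁻¹ * a0 * s0 = a0 ^ 4 := by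
          have h1 : s0 * a0 ^ 4 * s0⁻¹ = a0 := by
            rw [← conj_pow, hs0, ← pow_mul, show 2 * 4 = 7 + 1 from rfl, pow_add, h7, one_mul, pow_one]
          calc s0⁻¹ * a0 * s0 = s0⁻¹ * (s0 * a0 ^ 4 * s0⁻¹) * s0 := by rw [h1]
            _ = _ := by group
        rw [map_mul, map_mul, map_inv, hy, ← hj,
          show s0⁻¹ * a0 ^ j * s0 = (s0⁻¹ * a0 * s0) ^ j by
            conv_rhs => rw [show s0⁻¹ * a0 * s0 = s0⁻¹ * a0 * s0⁻¹⁻¹ by group, conj_zpow, inv_inv],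
          h4, ← zpow_natCast, ← zpow_mul]
        exact Subgroup.zpow_mem_zpowers _ _⟩
      left_inv := fun k => Subtype.ext (show y⁻¹ * (y * (k : ↥H) * y⁻¹) * y = k by group)
      right_inv := fun k => Subtype.ext (show y * (y⁻¹ * (k : ↥H) * y) * y⁻¹ = k by group)
      map_mul' := fun a b => Subtype.ext (show y * ((a : ↥H) * b) * y⁻¹ = y * a * y⁻¹ * (y * b * y⁻¹) by group) }
  obtain ⟨k, hk⟩ := MulAction.exists_smul_eq ↥Kp (P.mapSurjective (f := cy.toMonoidHom) cy.surjective) P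
  set y' : ↥H := (k : ↥H) * y with hy'
  have hnorm : ∀ p ∈ P', y' * p * y'⁻¹ ∈ P' := by
    rintro _ ⟨p, hp, rfl⟩
    refine ⟨k * cy p * k⁻¹, ?_, ?_⟩
    · rw [← hk, Sylow.coe_subgroup_smul, SetLike.mem_coe]
      exact ⟨cy p, ⟨p, hp, rfl⟩, rfl⟩
    · show (k : ↥H) * (y * (p : ↥H) * y⁻¹) * (k : ↥H)⁻¹ = y' * p * y'⁻¹
      rw [hy']; group
  have hact : π y' * a0 * (π y')⁻¹ = a0 ^ 2 := by
    obtain ⟨j, hj⟩ := Subgroup.mem_zpowers_iff.1 k.2
    rw [hy', map_mul, hy, ← hj, show a0 ^ j * s0 * a0 * (a0 ^ j * s0)⁻¹ = a0 ^ j * (s0 * a0 * s0⁻¹) * (a0 ^ j)⁻¹ by group,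
      hs0, ((Commute.refl a0).zpow_left j).pow_right 2 |>.eq, mul_inv_cancel_right]
  -- move `P'` into the torus
  let Tt : Subgroup ↥G0 := (chevF4.diagonalSubgroup K).subgroupOf G0
  haveI : Finite ↥G0 := inferInstance
  have hidx : ¬ 7 ∣ Tt.index := by
    have hT : Nat.card ↥Tt = (2 ^ (2 * m + 1) - 1) ^ 2 := by
      rw [← f4_card_diag hK, ← hG0, ← Nat.card_congr (Subgroup.subgroupOfEquivOfLe (H := chevF4.diagonalSubgroup K ⊓ G0)
        inf_le_right).toEquiv, Subgroup.inf_subgroupOf_right]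
    have hmul := Tt.card_mul_index
    rw [hT, show Nat.card ↥G0 = Nat.card ↥(Cfsg.Lie.twistedF4 K (2 ^ m)) by rw [hG0, twistedF4_eq hK],
      twistedF4_order hK] at hmul
    set q := 2 ^ (2 * m + 1) with hq
    have h1 : 2 ≤ q := Nat.le_self_pow (by omega) 2
    have e : q ^ 4 - 1 = (q - 1) * ((q + 1) * (q ^ 2 + 1)) := by
      have h4 : 1 ≤ q ^ 4 := Nat.one_le_pow _ _ (by omega)
      zify [h4, show 1 ≤ q by omega]; ring
    have hmul2 : (q - 1) ^ 2 * Tt.index = (q - 1) ^ 2 * (q ^ 12 * (q ^ 3 + 1) * ((q + 1) * (q ^ 2 + 1)) * (q ^ 6 + 1)) := by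
      rw [hmul, e]; ring
    rw [Nat.eq_of_mul_eq_mul_left (pow_pos (by omega) 2) hmul2]
    have hq7 : q % 7 = 1 ∨ q % 7 = 2 ∨ q % 7 = 4 := by
      rw [hq, ← Nat.div_add_mod (2 * m + 1) 3, pow_add, pow_mul, Nat.mul_mod, Nat.pow_mod]
      rcases (show (2 * m + 1) % 3 = 0 ∨ (2 * m + 1) % 3 = 1 ∨ (2 * m + 1) % 3 = 2 by omega) with h | h | h <;>
        simp [h]
    intro hd
    have h0 := Nat.mod_eq_zero_of_dvd hd
    rw [Nat.mul_mod, Nat.mul_mod (q ^ 12 * _), Nat.mul_mod (q ^ 12), Nat.mul_mod (q + 1), Nat.add_mod q 1, Nat.add_mod (q ^ 2),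
      Nat.add_mod (q ^ 3), Nat.add_mod (q ^ 6), Nat.pow_mod q 12, Nat.pow_mod q 2, Nat.pow_mod q 3, Nat.pow_mod q 6] at h0
    rcases hq7 with h | h | h <;> rw [h] at h0 <;> norm_num at h0
  let P'' : Subgroup ↥G0 := P'.map H.subtype
  have hP'' : IsPGroup 7 ↥P'' := (P.isPGroup'.map Kp.subtype).map H.subtype
  obtain ⟨t, ht⟩ : (MulAction.fixedPoints ↥P'' (↥G0 ⧸ Tt)).Nonempty :=
    hP''.nonempty_fixed_point_of_prime_not_dvd_card _ (by rwa [← Subgroup.index_eq_card])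
  induction t using QuotientGroup.induction_on with
  | H t =>
  have hin : ∀ p ∈ P', t⁻¹ * (p : ↥G0) * t ∈ Tt := by
    intro p hp
    have h1 := ht ⟨(p : ↥G0), ⟨p, hp, rfl⟩⟩
    have h2 : ((((p : ↥G0) * t : ↥G0)) : ↥G0 ⧸ Tt) = ((t : ↥G0) : ↥G0 ⧸ Tt) := h1
    have h3 := QuotientGroup.eq.1 h2.symm
    rwa [← mul_assoc] at h3
  set g : ↥G0 := t⁻¹ * (y' : ↥G0) * t with hg
  obtain ⟨n, hn, hfus⟩ := (twOKF4 (K := K) m).torus_fusion certF4C fullCertF4 twCombF4 (g := (g : GL chevF4.Idx K)) (hG0 ▸ g.2)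
  have key : ∀ (i : ℕ) (p : ↥H), p ∈ P' → y' ^ i * p * (y' ^ i)⁻¹ ∈ P' ∧
      (↑(t⁻¹ * ((y' ^ i * p * (y' ^ i)⁻¹ : ↥H) : ↥G0) * t) : GL chevF4.Idx K) =
        n ^ i * ↑(t⁻¹ * (p : ↥G0) * t) * (n ^ i)⁻¹ := by
    intro i
    induction i with
    | zero => intro p hp; simp [hp]
    | succ i ih =>
      intro p hp
      obtain ⟨h1, h2⟩ := ih p hp
      set p1 : ↥H := y' ^ i * p * (y' ^ i)⁻¹ with hp1
      have e0 : y' ^ (i + 1) * p * (y' ^ (i + 1))⁻¹ = y' * p1 * y'⁻¹ := by rw [hp1, pow_succ']; group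
      have h3 := hnorm p1 h1
      have e1 : (t⁻¹ * ((y' * p1 * y'⁻¹ : ↥H) : ↥G0) * t) = g * (t⁻¹ * (p1 : ↥G0) * t) * g⁻¹ := by
        rw [hg]; push_cast; group
      refine ⟨e0 ▸ h3, ?_⟩
      have h4 : (↑(t⁻¹ * ((y' * p1 * y'⁻¹ : ↥H) : ↥G0) * t) : GL chevF4.Idx K) ∈ chevF4.diagonalSubgroup K :=
        Subgroup.mem_subgroupOf.1 (hin _ h3)
      rw [e1] at h4
      push_cast at h4
      rw [e0, e1]
      push_cast
      have h5 := Subgroup.mem_subgroupOf.1 (hin _ h1)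
      push_cast at h5
      rw [hfus _ h5 h4]
      have h2' := h2
      push_cast at h2'
      rw [h2', pow_succ']
      group
  have hn16 : n ^ 16 ∈ chevF4.diagonalSubgroup K := by
    obtain ⟨φ, -, hker⟩ := f4_monomial_hom hK (K := K) (m := m)
    have h1 : (⟨n, hn⟩ : ↥(chevF4.monomialSubgroup K ⊓ (twOKF4 (K := K) m).fixed certF4C)) ^ 16 ∈ φ.ker := by
      rw [MonoidHom.mem_ker, map_pow]
      exact orderOf_dvd_iff_pow_eq_one.1 ((orderOf_dvd_natCard _).trans (by rw [DihedralGroup.nat_card]))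
    rw [hker, Subgroup.mem_subgroupOf] at h1
    exact h1.1
  obtain ⟨h16, e16⟩ := key 16 p0 hp0P
  rw [diag_comm certF4C hn16 (Subgroup.mem_subgroupOf.1 (hin _ hp0P)), mul_inv_cancel_right] at e16
  have e17 : y' ^ 16 * p0 * (y' ^ 16)⁻¹ = p0 := by
    have h5 := mul_right_cancel (mul_left_cancel (a := t⁻¹) (by rw [← mul_assoc, ← mul_assoc]; exact Subtype.ext e16 : t⁻¹ * (((y' ^ 16 * p0 * (y' ^ 16)⁻¹ : ↥H) : ↥G0) * t) = t⁻¹ * ((p0 : ↥G0) * t)))
    exact Subtype.ext h5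
  have hpow : ∀ i : ℕ, π y' ^ i * a0 * (π y' ^ i)⁻¹ = a0 ^ 2 ^ i := by
    intro i
    induction i with
    | zero => simp
    | succ i ih =>
      rw [pow_succ', show π y' * π y' ^ i * a0 * (π y' * π y' ^ i)⁻¹ = π y' * (π y' ^ i * a0 * (π y' ^ i)⁻¹) * (π y')⁻¹ by
        group, ih, ← conj_pow, hact, ← pow_mul, ← pow_succ']
  have hfin := congrArg π e17
  rw [map_mul, map_mul, map_inv, map_pow, hp0, hpow] at hfin
  have : a0 ^ (2 ^ 16 - 1) = 1 := by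
    apply mul_right_cancel (b := a0)
    rw [← pow_succ, show 2 ^ 16 - 1 + 1 = 2 ^ 16 by norm_num, one_mul, hfin]
  have h7 := orderOf_dvd_of_pow_eq_one this
  rw [ha0] at h7
  norm_num at h7

end Cfsg.Lib.Chev
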