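import Cfsg.Agent.Lib.Linear.MinDegree.Proj

/-!
# The degree of a faithful representation of a group with the root data of ³D₄(q)

The centre `Z` of the radical of the Heisenberg parabolic, its long root partner `D` and the short
root group `C` between them generate an abelian group `E`. The characters of `E` that are
non-trivial on `Z` form orbits of the radical, those trivial on `Z` and non-trivial on `D` orbits of
the short root group, and a reflection identifies `D` with `Z`; this gives `q ^ 5 - q ^ 3`. The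
remaining `q - 1` comes from a vector fixed by `Z` and `D` that the opposite long root group moves.
-/

set_option autoImplicit false
set_option linter.unusedSectionVars false

namespace Cfsg.Lib.Chev.TriDeg

open Cfsg.Lib.Linear.MinDegree

section Chars

variable {A B : Type*} [AddCommGroup A] [AddCommGroup B]

/-- A character on a product. -/
noncomputable def mk (α : AddChar A ℂ) (β : AddChar B ℂ) : AddChar (A × B) ℂ where
  toFun x := α x.1 * β x.2
  map_zero_eq_one' := by simp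
  map_add_eq_mul' x y := by simp only [Prod.fst_add, Prod.snd_add, AddChar.map_add_eq_mul]; ring

@[simp] theorem mk_apply (α : AddChar A ℂ) (β : AddChar B ℂ) (x : A × B) : mk α β x = α x.1 * β x.2 := rfl

theorem mk_inj {α α' : AddChar A ℂ} {β β' : AddChar B ℂ} (e : mk α β = mk α' β') : α = α' ∧ β = β' := by
  refine ⟨DFunLike.ext _ _ fun u => ?_, DFunLike.ext _ _ fun v => ?_⟩
  · simpa using DFunLike.congr_fun e (u, 0)
  · simpa using DFunLike.congr_fun e ((0 : A), v)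

theorem mk_bijective [Fintype A] [Fintype B] :
    Function.Bijective fun p : AddChar A ℂ × AddChar B ℂ => mk p.1 p.2 :=
  (Fintype.bijective_iff_injective_and_card _).2
    ⟨fun _ _ e => Prod.ext (mk_inj e).1 (mk_inj e).2, by simp [AddChar.card_eq]⟩

theorem sum_chars [Fintype A] [Fintype B] {M : Type*} [AddCommMonoid M] (g : AddChar (A × B) ℂ → M) :
    ∑ χ, g χ = ∑ β : AddChar B ℂ, ∑ α : AddChar A ℂ, g (mk α β) := by
  rw [Finset.sum_comm, ← Fintype.sum_prod_type', mk_bijective.sum_comp g]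

/-- A pairing with trivial radical carries one group onto the characters of another of the same order. -/
theorem pairing_surjective [Fintype A] [Fintype B] {C : Type*} [AddCommGroup C] (pr : A →+ B →+ C)
    (hcard : Fintype.card A = Fintype.card B) (hpr : ∀ v, v ≠ 0 → ∀ c, ∃ t, pr t v = c)
    {χ : AddChar C ℂ} (hχ : χ ≠ 1) (γ : AddChar A ℂ) : ∃ v, ∀ t, χ (pr t v) = γ t := by
  classical
  obtain ⟨Φ, hΦ⟩ : ∃ Φ : B → AddChar A ℂ, ∀ v t, Φ v t = χ (pr t v) :=
    ⟨fun v =>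
      { toFun := fun t => χ (pr t v)
        map_zero_eq_one' := by simp
        map_add_eq_mul' := fun s t => by simp [AddChar.map_add_eq_mul] }, fun v t => rfl⟩
  have hinj : Function.Injective Φ := fun v v' e => by
    by_contra hne
    refine hχ (DFunLike.ext _ _ fun c => ?_)
    obtain ⟨t, ht⟩ := hpr (v - v') (sub_ne_zero.2 hne) c
    have h1 : χ (pr t v) = χ (pr t v') := by rw [← hΦ, ← hΦ, e]
    rw [← ht, map_sub, AddChar.map_sub_eq_div, h1, div_self ((AddChar.val_isUnit χ _).ne_zero), AddChar.one_apply]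
  obtain ⟨v, hv⟩ := ((Fintype.bijective_iff_injective_and_card Φ).2
    ⟨hinj, by rw [AddChar.card_eq, hcard]⟩).2 γ
  exact ⟨v, fun t => by rw [← hv, hΦ]⟩

theorem shift_surjective {F : Type*} [Field F] [Fintype F] {χ : AddChar F ℂ} (hχ : χ ≠ 1) (γ : AddChar F ℂ) :
    ∃ a, ∀ t, χ (a * t) = γ t := by
  obtain ⟨v, hv⟩ := pairing_surjective (AddMonoidHom.mul : F →+ F →+ F) rfl
    (fun v hv c => ⟨c / v, by simp [div_mul_cancel₀ c hv]⟩) hχ γ
  exact ⟨v, fun t => by rw [← hv t, mul_comm]; rfl⟩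

end Chars

section Ops

variable {V : Type*} [AddCommGroup V] [Module ℂ V] [FiniteDimensional ℂ V]

theorem eq_zero_of_trace_zero {P : Module.End ℂ V} (hP : IsIdempotentElem P) (h : LinearMap.trace ℂ V P = 0) :
    P = 0 := by
  rw [((LinearMap.isProj_range_iff_isIdempotentElem P).2 hP).trace, Nat.cast_eq_zero] at h
  exact LinearMap.range_eq_bot.1 (Submodule.finrank_eq_zero.1 h)

variable {W : Type*} [AddCommGroup W] [Fintype W] (R : Multiplicative W →* Module.End ℂ V)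

theorem proj_mul_eigen {θ : AddChar W ℂ} {Q : Module.End ℂ V}
    (h : ∀ b, R (Multiplicative.ofAdd b) * Q = θ b • Q) : proj R θ * Q = Q := by
  simp only [proj, smul_mul_assoc, Finset.sum_mul, h, smul_smul, ← AddChar.map_add_eq_mul, neg_add_cancel,
    AddChar.map_zero_eq_one, one_smul, Finset.sum_const, Finset.card_univ, ← Nat.cast_smul_eq_nsmul ℂ,
    inv_mul_cancel₀ (cardW_ne_zero (W := W))]

/-- Summing the projections over the characters of a factor gives the projection of the other one. -/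
theorem sum_marginal {U : Type*} [AddCommGroup U] [Fintype U] (R3 : Multiplicative (U × W) →* Module.End ℂ V)
    (hR : ∀ b, R (Multiplicative.ofAdd b) = R3 (Multiplicative.ofAdd ((0 : U), b))) (θ : AddChar W ℂ) :
    ∑ γ : AddChar U ℂ, proj R3 (mk γ θ) = proj R θ := by
  classical
  have key : ∀ γ θ', proj R θ * proj R3 (mk γ θ') = if θ' = θ then proj R3 (mk γ θ') else 0 := by
    intro γ θ'
    simp only [proj.eq_def R θ, smul_mul_assoc, Finset.sum_mul, hR, R_mul_proj, smul_smul, mk_apply,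
      AddChar.map_zero_eq_one, one_mul, ← Finset.sum_smul]
    have : ∀ b, θ (-b) * θ' b = (θ⁻¹ * θ') b := fun b => by rw [AddChar.mul_apply, AddChar.inv_apply]
    simp only [this]
    have h2 : ∑ b, (θ⁻¹ * θ') b = if θ' = θ then (Fintype.card W : ℂ) else 0 := by
      split_ifs with h
      · simp [h]
      · exact AddChar.sum_eq_zero_iff_ne_zero.2 fun e => h (inv_mul_eq_one.1 e).symm
    rw [h2]
    split_ifs with h
    · rw [inv_mul_cancel₀ cardW_ne_zero, one_smul]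
    · rw [mul_zero, zero_smul]
  calc ∑ γ : AddChar U ℂ, proj R3 (mk γ θ) = ∑ γ : AddChar U ℂ, ∑ θ', proj R θ * proj R3 (mk γ θ') :=
        Finset.sum_congr rfl fun γ _ => by simp only [key, Finset.sum_ite_eq', Finset.mem_univ, if_true]
    _ = proj R θ * ∑ θ', ∑ γ : AddChar U ℂ, proj R3 (mk γ θ') := by
        rw [Finset.sum_comm]; simp only [Finset.mul_sum]
    _ = proj R θ := by rw [← sum_chars fun χ => proj R3 χ, sum_proj, mul_one]

end Ops

/-- The part of the root data of ³D₄(q) that the bound needs: `E = C × D × Z`, the abelian group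
`A` opposite to `C × D` in the radical, the short root elements, two reflections and the torus. -/
structure Data (G : Type*) [Group G] (F L : Type*) [Field F] [Fintype F] [Field L] [Fintype L] where
  hcard : Fintype.card L = Fintype.card F ^ 3
  pr : L →+ L →+ F
  pr_surj : ∀ v, v ≠ 0 → ∀ c, ∃ t, pr t v = c
  eE : Multiplicative (L × (F × F)) →* G
  eE_ne : eE (.ofAdd (0, (0, 1))) ≠ 1
  eA : Multiplicative (F × L) →* G
  S : L → G
  convS : ∀ u t d z, S u * eE (.ofAdd (t, (d, z))) * (S u)⁻¹ = eE (.ofAdd (t, (d + pr t u, z)))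
  convA : ∀ a v t d z, eA (.ofAdd (a, v)) * eE (.ofAdd (t, (d, z))) * (eA (.ofAdd (a, v)))⁻¹ =
    eE (.ofAdd (t, (d, z + (a * d + pr t v))))
  n1 : G
  conv1 : ∀ d z, n1 * eE (.ofAdd (0, (d, z))) * n1⁻¹ = eE (.ofAdd (0, (-z, d)))
  n2 : G
  conv2D : ∀ d, n2 * eE (.ofAdd (0, (d, 0))) * n2⁻¹ = eA (.ofAdd (d, 0))
  conv2A : ∀ a, n2 * eA (.ofAdd (a, 0)) * n2⁻¹ = eE (.ofAdd (0, (-a, 0)))
  conv2Z : ∀ z, n2 * eE (.ofAdd (0, (0, z))) * n2⁻¹ = eE (.ofAdd (0, (0, z)))
  tor1 : ∀ w : Fˣ, ∃ g, ∀ d z, g * eE (.ofAdd (0, (d, z))) * g⁻¹ =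
    eE (.ofAdd (0, (((w⁻¹ : Fˣ) : F) * d, (w : F) * z)))
  tor2 : ∀ u : Fˣ, ∃ (g : G) (κ κ' : Fˣ), (∀ d z, g * eE (.ofAdd (0, (d, z))) * g⁻¹ =
    eE (.ofAdd (0, ((κ : F) * d, (κ' : F) * z)))) ∧
    ∀ a, g * eA (.ofAdd (a, 0)) * g⁻¹ = eA (.ofAdd ((u : F) * a, 0))
  Nf : Lˣ → Fˣ
  tor3 : ∀ e : Lˣ, ∃ (g : G) (μ : Lˣ), (∀ t d z, g * eE (.ofAdd (t, (d, z))) * g⁻¹ =
    eE (.ofAdd ((μ : L) * t, (d, (Nf e : F) * z)))) ∧
    ∀ a v, g * eA (.ofAdd (a, v)) * g⁻¹ = eA (.ofAdd ((Nf e : F) * a, (e : L) * (e : L) * v))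
  nfull : 2 < Fintype.card F → ∃ e, Nf e ≠ 1
  two : Fintype.card F = 2 → ∃ g b c z, g * eA (.ofAdd (1, 0)) * g⁻¹ = eA (.ofAdd (1, b)) * eE (.ofAdd (c, (1, z))) ∧
    ∀ d z, g * eE (.ofAdd (0, (d, z))) * g⁻¹ = eE (.ofAdd (0, (d, z)))

variable {G : Type*} [Group G] {F L : Type*} [Field F] [Fintype F] [Field L] [Fintype L] (D : Data G F L)
variable {V : Type*} [AddCommGroup V] [Module ℂ V] [FiniteDimensional ℂ V]

include D in
set_option maxHeartbeats 1000000 in
/-- The bound. -/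
theorem degree_bound (σ : G →* Module.End ℂ V) (hσ : Function.Injective σ) :
    Fintype.card F ^ 5 + Fintype.card F ≤ Module.finrank ℂ V + Fintype.card F ^ 3 + 1 := by
  classical
  obtain ⟨R3, hR3⟩ : ∃ R : Multiplicative (L × (F × F)) →* Module.End ℂ V, R = σ.comp D.eE := ⟨_, rfl⟩
  obtain ⟨R2, hR2⟩ : ∃ R : Multiplicative (F × F) →* Module.End ℂ V,
      ∀ b, R (.ofAdd b) = σ (D.eE (.ofAdd (0, b))) :=
    ⟨(σ.comp D.eE).comp (AddMonoidHom.toMultiplicative (AddMonoidHom.inr L (F × F))), fun b => rfl⟩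
  obtain ⟨RA, hRA⟩ : ∃ R : Multiplicative (F × L) →* Module.End ℂ V, R = σ.comp D.eA := ⟨_, rfl⟩
  obtain ⟨RF, hRF⟩ : ∃ R : Multiplicative F →* Module.End ℂ V, ∀ a, R (.ofAdd a) = σ (D.eA (.ofAdd (a, 0))) :=
    ⟨(σ.comp D.eA).comp (AddMonoidHom.toMultiplicative (AddMonoidHom.inl F L)), fun b => rfl⟩
  have r3 : ∀ x, R3 (.ofAdd x) = σ (D.eE (.ofAdd x)) := fun x => by rw [hR3]; rfl
  have rA : ∀ x, RA (.ofAdd x) = σ (D.eA (.ofAdd x)) := fun x => by rw [hRA]; rfl
  have hi : ∀ g : G, σ g⁻¹ * σ g = 1 := fun g => by rw [← map_mul, inv_mul_cancel, map_one]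
  obtain ⟨n3, hn3⟩ : ∃ n : AddChar (L × (F × F)) ℂ → ℕ, ∀ χ, LinearMap.trace ℂ V (proj R3 χ) = n χ :=
    ⟨fun χ => (exists_nat_trace (show IsIdempotentElem (proj R3 χ) from proj_mul_self R3 χ)).choose,
      fun χ => (exists_nat_trace (show IsIdempotentElem (proj R3 χ) from proj_mul_self R3 χ)).choose_spec⟩
  obtain ⟨n2, hn2⟩ : ∃ n : AddChar (F × F) ℂ → ℕ, ∀ χ, LinearMap.trace ℂ V (proj R2 χ) = n χ :=
    ⟨fun χ => (exists_nat_trace (show IsIdempotentElem (proj R2 χ) from proj_mul_self R2 χ)).choose,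
      fun χ => (exists_nat_trace (show IsIdempotentElem (proj R2 χ) from proj_mul_self R2 χ)).choose_spec⟩
  have htconj : ∀ (g : G) (P P' : Module.End ℂ V), σ g * P * σ g⁻¹ = P' →
      LinearMap.trace ℂ V P = LinearMap.trace ℂ V P' := fun g P P' e => by
    rw [← e, LinearMap.trace_mul_comm, ← mul_assoc, hi, one_mul]
  have c3 : ∀ (g : G) (τ : L × (F × F) ≃ L × (F × F)),
      (∀ x, g * D.eE (.ofAdd x) * g⁻¹ = D.eE (.ofAdd (τ x))) → ∀ θ θ', (∀ x, θ' (-τ x) = θ (-x)) →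
      σ g * proj R3 θ * σ g⁻¹ = proj R3 θ' :=
    fun g τ hg θ θ' hθ => conj_proj R3 τ (fun x => by rw [r3, r3, ← map_mul, ← map_mul, hg]) θ θ' hθ
  have c2 : ∀ (g : G) (τ : F × F ≃ F × F),
      (∀ x, g * D.eE (.ofAdd (0, x)) * g⁻¹ = D.eE (.ofAdd (0, τ x))) → ∀ θ θ', (∀ x, θ' (-τ x) = θ (-x)) →
      σ g * proj R2 θ * σ g⁻¹ = proj R2 θ' :=
    fun g τ hg θ θ' hθ => conj_proj R2 τ (fun x => by rw [hR2, hR2, ← map_mul, ← map_mul, hg]) θ θ' hθ
  have hmarg : ∀ θ, n2 θ = ∑ γ : AddChar L ℂ, n3 (mk γ θ) := fun θ => by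
    have h := congrArg (LinearMap.trace ℂ V) (sum_marginal R2 R3 (fun b => by rw [hR2, r3]) θ)
    rw [map_sum, hn2] at h
    simp only [hn3] at h
    exact_mod_cast h.symm
  -- the radical on the characters that are non-trivial on the centre
  have hA : ∀ γ δ lam, lam ≠ 1 → n3 (mk γ (mk δ lam)) = n3 (mk 1 (mk 1 lam)) := by
    intro γ δ lam hl
    obtain ⟨v, hv⟩ := pairing_surjective D.pr rfl D.pr_surj hl γ
    obtain ⟨a, ha⟩ := shift_surjective hl δ
    let τ : L × (F × F) ≃ L × (F × F) :=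
      { toFun := fun x => (x.1, (x.2.1, x.2.2 + (a * x.2.1 + D.pr x.1 v)))
        invFun := fun x => (x.1, (x.2.1, x.2.2 - (a * x.2.1 + D.pr x.1 v)))
        left_inv := fun x => by simp
        right_inv := fun x => by simp }
    have h := htconj _ _ _ (c3 (D.eA (.ofAdd (a, v))) τ (fun x => D.convA a v x.1 x.2.1 x.2.2)
      (mk γ (mk δ lam)) (mk 1 (mk 1 lam)) fun x => by
        show mk 1 (mk 1 lam) (-x.1, (-x.2.1, -(x.2.2 + (a * x.2.1 + D.pr x.1 v)))) =
          mk γ (mk δ lam) (-x.1, (-x.2.1, -x.2.2))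
        simp only [mk_apply, AddChar.one_apply, one_mul, ← hv, ← ha]
        rw [← AddChar.map_add_eq_mul, ← AddChar.map_add_eq_mul]
        congr 1
        rw [map_neg, AddMonoidHom.neg_apply, mul_neg]
        abel)
    rw [hn3, hn3, Nat.cast_inj] at h
    exact h
  -- the short root elements on those trivial on the centre
  have hS : ∀ γ δ, δ ≠ 1 → n3 (mk γ (mk δ 1)) = n3 (mk 1 (mk δ 1)) := by
    intro γ δ hd
    obtain ⟨u, hu⟩ := pairing_surjective D.pr rfl D.pr_surj hd γ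
    let τ : L × (F × F) ≃ L × (F × F) :=
      { toFun := fun x => (x.1, (x.2.1 + D.pr x.1 u, x.2.2))
        invFun := fun x => (x.1, (x.2.1 - D.pr x.1 u, x.2.2))
        left_inv := fun x => by simp
        right_inv := fun x => by simp }
    have h := htconj _ _ _ (c3 (D.S u) τ (fun x => D.convS u x.1 x.2.1 x.2.2)
      (mk γ (mk δ 1)) (mk 1 (mk δ 1)) fun x => by
        show mk 1 (mk δ 1) (-x.1, (-(x.2.1 + D.pr x.1 u), -x.2.2)) = mk γ (mk δ 1) (-x.1, (-x.2.1, -x.2.2))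
        simp only [mk_apply, AddChar.one_apply, one_mul, mul_one, ← hu]
        rw [← AddChar.map_add_eq_mul]
        congr 1
        rw [map_neg, AddMonoidHom.neg_apply]
        abel)
    rw [hn3, hn3, Nat.cast_inj] at h
    exact h
  obtain ⟨lam₁, hl₁⟩ : ∃ β : AddChar F ℂ, β ≠ 1 :=
    haveI : Nontrivial (AddChar F ℂ) := Fintype.one_lt_card_iff_nontrivial.1 (by
      rw [AddChar.card_eq]; exact Fintype.one_lt_card)
    exists_ne 1
  obtain ⟨r, hr⟩ : ∃ r, r = n3 (mk 1 (mk lam₁ 1)) := ⟨_, rfl⟩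
  obtain ⟨q, hq⟩ : ∃ q, q = Fintype.card F := ⟨_, rfl⟩
  have hcL : Fintype.card (AddChar L ℂ) = q ^ 3 := by rw [AddChar.card_eq, D.hcard, hq]
  have hcF : Fintype.card (AddChar F ℂ) = q := by rw [AddChar.card_eq, hq]
  have hT1 : ∀ lam, lam ≠ 1 → n2 (mk 1 lam) = n2 (mk 1 lam₁) := by
    intro lam hl
    obtain ⟨w, hw⟩ := shift_surjective hl₁ lam
    have hw0 : w ≠ 0 := fun e => hl (DFunLike.ext _ _ fun x => by rw [← hw, e, zero_mul]; simp)
    obtain ⟨g, hg⟩ := D.tor1 (Units.mk0 w hw0)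
    have h := htconj _ _ _ (c2 g ((Equiv.mulLeft₀ _ (Units.mk0 w hw0)⁻¹.ne_zero).prodCongr (Equiv.mulLeft₀ w hw0))
      (fun x => hg x.1 x.2) (mk 1 lam) (mk 1 lam₁) fun x => by
        simp [← hw])
    rw [hn2, hn2, Nat.cast_inj] at h
    exact h
  have hn1 : ∀ δ, n2 (mk δ 1) = n2 (mk 1 δ) := fun δ => by
    let τ : F × F ≃ F × F :=
      { toFun := fun x => (-x.2, x.1)
        invFun := fun x => (x.2, -x.1)
        left_inv := fun x => by simp
        right_inv := fun x => by simp }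
    have h := htconj _ _ _ (c2 D.n1 τ (fun x => D.conv1 x.1 x.2) (mk δ 1) (mk 1 δ) fun x => by simp [τ])
    rw [hn2, hn2, Nat.cast_inj] at h
    exact h
  have hD : ∀ δ, δ ≠ 1 → n2 (mk δ 1) = q ^ 3 * r := by
    intro δ hd
    rw [hn1, hT1 δ hd, ← hn1, hmarg, Finset.sum_congr rfl fun γ _ => hS γ lam₁ hl₁]
    simp [hcL, hr]
  have hZ : ∀ δ lam, lam ≠ 1 → n2 (mk δ lam) = q ^ 3 * r := by
    intro δ lam hl
    rw [hmarg, Finset.sum_congr rfl fun γ _ => hA γ δ lam hl, ← hD lam hl, hn1, hmarg (mk 1 lam),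
      Finset.sum_congr rfl fun γ _ => hA γ 1 lam hl]
  have hdim : Module.finrank ℂ V = (q ^ 2 - 1) * (q ^ 3 * r) + n2 (mk 1 1) := by
    have h := congrArg (LinearMap.trace ℂ V) (sum_proj R2)
    rw [map_sum, LinearMap.trace_one, sum_chars] at h
    simp only [hn2] at h
    norm_cast at h
    have h1 : ∑ δ, n2 (mk δ 1) = n2 (mk 1 1) + (q - 1) * (q ^ 3 * r) := by
      rw [← Finset.add_sum_erase _ _ (Finset.mem_univ (1 : AddChar F ℂ)),
        Finset.sum_congr rfl fun δ hδ => hD δ (Finset.ne_of_mem_erase hδ)]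
      simp [Finset.card_erase_of_mem, hcF]
    rw [← h, ← Finset.add_sum_erase _ _ (Finset.mem_univ (1 : AddChar F ℂ)), h1,
      Finset.sum_congr rfl fun lam hl => Finset.sum_congr rfl fun δ _ => hZ δ lam (Finset.ne_of_mem_erase hl)]
    simp only [Finset.sum_const, Finset.card_erase_of_mem (Finset.mem_univ _), Finset.card_univ, hcF, smul_eq_mul]
    have h2 : 1 ≤ q := hq ▸ Fintype.card_pos
    rw [show q ^ 2 - 1 = (q - 1) * q + (q - 1) by
      obtain ⟨j, rfl⟩ : ∃ j, q = j + 1 := ⟨q - 1, by omega⟩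
      have : (j + 1) ^ 2 = j * (j + 1) + j + 1 := by ring
      simp only [Nat.add_sub_cancel]
      omega]
    ring
  have hrpos : r ≠ 0 := fun hr0 => by
    have h1 : R2 (.ofAdd ((0 : F), (1 : F))) = 1 := by
      rw [← mul_one (R2 _), ← sum_proj R2, Finset.mul_sum]
      refine Finset.sum_congr rfl fun χ _ => ?_
      rw [R_mul_proj]
      obtain ⟨⟨α, β⟩, rfl⟩ := mk_bijective.2 χ
      rcases eq_or_ne β 1 with rfl | hβ
      · simp
      · have h0 : proj R2 (mk α β) = 0 := eq_zero_of_trace_zero (show IsIdempotentElem _ from proj_mul_self R2 _)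
          (by rw [hn2, hZ α β hβ, hr0, mul_zero, Nat.cast_zero])
        rw [h0, smul_zero]
    rw [hR2, ← map_one σ] at h1
    exact D.eE_ne (hσ h1)
  have hq2 : 2 ≤ q := hq ▸ Fintype.one_lt_card
  have hpow : q ^ 5 = q ^ 2 * q ^ 3 := by ring
  have hq3 : q ^ 3 ≤ q ^ 5 := Nat.pow_le_pow_right (by omega) (by omega)
  rw [← hq]
  rcases Nat.lt_or_ge 1 r with hr2 | hr1
  · have h1 : (q ^ 2 - 1) * (q ^ 3 * 2) ≤ (q ^ 2 - 1) * (q ^ 3 * r) :=
      Nat.mul_le_mul_left _ (Nat.mul_le_mul_left _ hr2)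
    have h2 : (q ^ 2 - 1) * (q ^ 3 * 2) + q ^ 3 * 2 = 2 * q ^ 5 := by
      rw [← Nat.succ_mul, Nat.succ_eq_add_one, Nat.sub_add_cancel (Nat.one_le_pow _ _ (by omega)), hpow]; ring
    have h4 : q + q ^ 3 ≤ q ^ 5 := by
      have : q ≤ q ^ 3 := Nat.le_self_pow (by omega) q
      have : 2 * q ^ 3 ≤ q ^ 5 := by rw [hpow]; exact Nat.mul_le_mul_right _ (hq2.trans (Nat.le_self_pow (by omega) q))
      omega
    omega
  obtain rfl : r = 1 := by omega
  -- a one-dimensional eigenspace of `E`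
  obtain ⟨e, he⟩ : ∃ e, e = proj R3 (mk (1 : AddChar L ℂ) (mk lam₁ (1 : AddChar F ℂ))) := ⟨_, rfl⟩
  have hee : e * e = e := by rw [he]; exact proj_mul_self R3 _
  have hcommA : ∀ x, RA (.ofAdd x) * e = e * RA (.ofAdd x) := by
    rintro ⟨a, v⟩
    let τ : L × (F × F) ≃ L × (F × F) :=
      { toFun := fun x => (x.1, (x.2.1, x.2.2 + (a * x.2.1 + D.pr x.1 v)))
        invFun := fun x => (x.1, (x.2.1, x.2.2 - (a * x.2.1 + D.pr x.1 v)))
        left_inv := fun x => by simp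
        right_inv := fun x => by simp }
    rw [rA, he]
    exact commute_proj R3 (hi _) τ (fun x => by
      rw [r3, r3, ← map_mul, ← map_mul, D.convA a v x.1 x.2.1 x.2.2]; rfl) _ fun x => by simp [τ]
  obtain ⟨pA, hpA⟩ : ∃ p : AddChar (F × L) ℂ → Module.End ℂ V, p = fun θ => proj RA θ := ⟨_, rfl⟩
  have hcomm : ∀ θ, pA θ * e = e * pA θ := fun θ => by
    simp only [hpA, proj, smul_mul_assoc, mul_smul_comm, Finset.sum_mul, Finset.mul_sum, hcommA]
  have hidem : ∀ θ, IsIdempotentElem (pA θ * e) := fun θ => by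
    show pA θ * e * (pA θ * e) = pA θ * e
    rw [mul_assoc, ← mul_assoc e, ← hcomm, mul_assoc (pA θ) e, hee, ← mul_assoc,
      show pA θ * pA θ = pA θ by rw [hpA]; exact proj_mul_self RA θ]
  obtain ⟨mA, hmA⟩ : ∃ n : AddChar (F × L) ℂ → ℕ, ∀ θ, LinearMap.trace ℂ V (pA θ * e) = n θ :=
    ⟨fun θ => (exists_nat_trace (hidem θ)).choose, fun θ => (exists_nat_trace (hidem θ)).choose_spec⟩
  have hmsum : ∑ θ, mA θ = 1 := by
    have h := congrArg (fun P => LinearMap.trace ℂ V (P * e)) (sum_proj RA)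
    simp only [Finset.sum_mul, map_sum, one_mul] at h
    rw [hpA] at hmA
    simp only [hmA] at h
    rw [he, hn3, ← hr] at h
    exact_mod_cast h
  obtain ⟨θ₀, -, hθ₀⟩ := Finset.exists_ne_zero_of_sum_ne_zero (s := Finset.univ) (f := mA)
    (by rw [hmsum]; exact one_ne_zero)
  obtain ⟨⟨α₀, β₀⟩, rfl⟩ := mk_bijective.2 θ₀
  simp only at hθ₀
  have huniq : ∀ θ, mA θ ≠ 0 → θ = mk α₀ β₀ := fun θ hθ => by
    by_contra hne
    have h2 : mA θ + mA (mk α₀ β₀) ≤ ∑ χ, mA χ := by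
      rw [← Finset.sum_pair hne]
      exact Finset.sum_le_sum_of_subset (Finset.subset_univ _)
    rw [hmsum] at h2
    omega
  -- the torus fixes that character
  have hinv : ∀ e' : Lˣ, (∀ a, α₀ ((D.Nf e' : F) * a) = α₀ a) ∧ ∀ v, β₀ ((e' : L) * (e' : L) * v) = β₀ v := by
    intro e'
    obtain ⟨g, μ, hgE, hgA⟩ := D.tor3 e'
    let τA : F × L ≃ F × L := (Equiv.mulLeft₀ _ (D.Nf e').ne_zero).prodCongr
      (Equiv.mulLeft₀ _ (mul_ne_zero e'.ne_zero e'.ne_zero))
    obtain ⟨θ', hθ'⟩ : ∃ θ' : AddChar (F × L) ℂ, ∀ x, θ' (τA x) = mk α₀ β₀ x := by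
      refine ⟨mk (α₀.mulShift ((D.Nf e')⁻¹ : Fˣ)) (β₀.mulShift ((e' * e')⁻¹ : Lˣ)), fun x => ?_⟩
      simp only [mk_apply, AddChar.mulShift_apply]
      show α₀ (((D.Nf e')⁻¹ : Fˣ) * ((D.Nf e' : F) * x.1)) * β₀ (((e' * e')⁻¹ : Lˣ) * ((e' : L) * (e' : L) * x.2)) = _
      rw [Units.inv_mul_cancel_left, ← Units.val_mul, Units.inv_mul_cancel_left]
    have hA' : σ g * pA (mk α₀ β₀) * σ g⁻¹ = pA θ' := by
      rw [hpA]
      exact conj_proj RA τA (fun x => by rw [rA, rA, ← map_mul, ← map_mul, hgA x.1 x.2]; rfl) _ _ fun x => by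
        rw [show -τA x = τA (-x) by ext <;> simp [τA], hθ']
    have hE' : σ g * e * σ g⁻¹ = e := by
      rw [he]
      exact c3 g ((Equiv.mulLeft₀ _ μ.ne_zero).prodCongr ((Equiv.refl F).prodCongr (Equiv.mulLeft₀ _ (D.Nf e').ne_zero)))
        (fun x => hgE x.1 x.2.1 x.2.2) _ _ fun x => by simp
    have h := htconj g (pA (mk α₀ β₀) * e) (pA θ' * e) (by
      calc σ g * (pA (mk α₀ β₀) * e) * σ g⁻¹ = σ g * pA (mk α₀ β₀) * (σ g⁻¹ * σ g) * (e * σ g⁻¹) := by
            rw [hi]; noncomm_ring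
        _ = σ g * pA (mk α₀ β₀) * σ g⁻¹ * (σ g * e * σ g⁻¹) := by noncomm_ring
        _ = _ := by rw [hA', hE'])
    rw [hmA, hmA, Nat.cast_inj] at h
    have hθ := huniq θ' (h ▸ hθ₀)
    refine ⟨fun a => ?_, fun v => ?_⟩
    · have := hθ' (a, 0)
      rw [hθ] at this
      simpa [τA] using this
    · have := hθ' (0, v)
      rw [hθ] at this
      simpa [τA] using this
  have hβ : β₀ = 1 := by
    obtain ⟨e', he'⟩ : ∃ e' : Lˣ, (e' : L) * (e' : L) ≠ 1 := by
      by_contra! hall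
      have hsub : (Finset.univ : Finset L) ⊆ {0, 1, -1} := fun x _ => by
        rcases eq_or_ne x 0 with rfl | hx
        · simp
        · rcases mul_self_eq_one_iff.1 (hall (Units.mk0 x hx)) with h | h <;> simp at h <;> simp [h]
      have h1 := (Finset.card_le_card hsub).trans Finset.card_le_three
      rw [Finset.card_univ, D.hcard, ← hq] at h1
      have : 2 ^ 3 ≤ q ^ 3 := Nat.pow_le_pow_left hq2 3
      omega
    refine DFunLike.ext _ _ fun x => ?_
    have hne : (e' : L) * (e' : L) - 1 ≠ 0 := sub_ne_zero.2 he'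
    have h := (hinv e').2 (x / ((e' : L) * (e' : L) - 1))
    rw [show (e' : L) * (e' : L) * (x / ((e' : L) * (e' : L) - 1)) = x + x / ((e' : L) * (e' : L) - 1) by
      linear_combination div_mul_cancel₀ x hne, AddChar.map_add_eq_mul] at h
    rw [AddChar.one_apply]
    exact (mul_eq_right₀ ((AddChar.val_isUnit β₀ _).ne_zero)).1 h
  subst hβ
  obtain ⟨Q₀, hQ₀⟩ : ∃ Q, Q = pA (mk α₀ 1) * e := ⟨_, rfl⟩
  have hQ₀ne : Q₀ ≠ 0 := fun h0 => hθ₀ (by
    have h := hmA (mk α₀ 1)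
    rw [← hQ₀, h0, map_zero] at h
    exact_mod_cast h.symm)
  have hQA : ∀ x, RA (.ofAdd x) * Q₀ = mk α₀ 1 x • Q₀ := fun x => by
    rw [hQ₀, ← mul_assoc, hpA, R_mul_proj, smul_mul_assoc]
  have hQE : ∀ x, R3 (.ofAdd x) * Q₀ = mk (1 : AddChar L ℂ) (mk lam₁ (1 : AddChar F ℂ)) x • Q₀ := fun x => by
    rw [hQ₀, hcomm, ← mul_assoc, he, R_mul_proj, smul_mul_assoc]
  -- make the opposite long root group act trivially
  obtain ⟨Q, hQne, hQa, hQe⟩ : ∃ Q : Module.End ℂ V, Q ≠ 0 ∧ (∀ a, RF (.ofAdd a) * Q = Q) ∧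
      ∀ d z, R2 (.ofAdd (d, z)) * Q = lam₁ d • Q := by
    by_cases hα : α₀ = 1
    · refine ⟨Q₀, hQ₀ne, fun a => ?_, fun d z => ?_⟩
      · rw [hRF, ← rA, hQA]; simp [hα]
      · rw [hR2, ← r3, hQE]; simp
    have hq' : q = 2 := by
      by_contra hne
      obtain ⟨e', he'⟩ := D.nfull (by omega)
      refine hα (DFunLike.ext _ _ fun x => ?_)
      have hne' : (D.Nf e' : F) - 1 ≠ 0 := sub_ne_zero.2 fun h => he' (Units.ext h)
      have h := (hinv e').1 (x / ((D.Nf e' : F) - 1))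
      rw [show (D.Nf e' : F) * (x / ((D.Nf e' : F) - 1)) = x + x / ((D.Nf e' : F) - 1) by
        linear_combination div_mul_cancel₀ x hne',
        AddChar.map_add_eq_mul] at h
      rw [AddChar.one_apply]
      exact (mul_eq_right₀ ((AddChar.val_isUnit α₀ _).ne_zero)).1 h
    have hall : ∀ a : F, a = 0 ∨ a = 1 := fun a => by
      by_contra! h
      have h3 : ({0, 1, a} : Finset F).card = 3 := Finset.card_eq_three.2
        ⟨0, 1, a, zero_ne_one, Ne.symm h.1, Ne.symm h.2, rfl⟩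
      have := ({0, 1, a} : Finset F).card_le_univ
      omega
    have hsign : ∀ χ : AddChar F ℂ, χ ≠ 1 → χ 1 = -1 := fun χ hχ => by
      have h2 : χ 1 * χ 1 = 1 := by
        rw [← AddChar.map_add_eq_mul]
        rcases hall (1 + 1) with h | h
        · rw [h, AddChar.map_zero_eq_one]
        · exact absurd (add_eq_left.1 h) one_ne_zero
      refine (mul_self_eq_one_iff.1 h2).resolve_left fun h => hχ (DFunLike.ext _ _ fun a => ?_)
      rcases hall a with rfl | rfl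
      · simp
      · simpa using h
    obtain ⟨g, b, c, z₀, hg, hgE⟩ := D.two (hq ▸ hq')
    refine ⟨σ g⁻¹ * Q₀, fun h => hQ₀ne ?_, fun a => ?_, fun d z => ?_⟩
    · have := congrArg (σ g * ·) h
      simpa [← mul_assoc, ← map_mul] using this
    · rcases hall a with rfl | rfl
      · rw [ofAdd_zero, map_one, one_mul]
      rw [hRF, ← mul_assoc, ← map_mul, show D.eA (.ofAdd (1, 0)) * g⁻¹ =
        g⁻¹ * (D.eA (.ofAdd (1, b)) * D.eE (.ofAdd (c, (1, z₀)))) by rw [← hg]; group,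
        map_mul, map_mul, mul_assoc, mul_assoc, ← rA, ← r3, hQE, mul_smul_comm, hQA, smul_smul]
      simp [hsign α₀ hα, hsign lam₁ hl₁]
    · rw [hR2, ← mul_assoc, ← map_mul, show D.eE (.ofAdd (0, (d, z))) * g⁻¹ =
        g⁻¹ * D.eE (.ofAdd (0, (d, z))) by
          conv_rhs => arg 2; rw [← hgE d z]
          group,
        map_mul, mul_assoc, ← r3, hQE, mul_smul_comm]
      simp
  -- move it by the other reflection
  obtain ⟨Q', hQ'⟩ : ∃ Q', Q' = σ D.n2 * Q := ⟨_, rfl⟩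
  have hQ'ne : Q' ≠ 0 := fun h => hQne (by
    have := congrArg (σ D.n2⁻¹ * ·) (hQ'.symm.trans h)
    simpa [← mul_assoc, hi] using this)
  obtain ⟨p0, hp0⟩ : ∃ p, p = proj R2 (mk (1 : AddChar F ℂ) (1 : AddChar F ℂ)) := ⟨_, rfl⟩
  have hQ'a : ∀ a, RF (.ofAdd a) * Q' = lam₁ a • Q' := fun a => by
    have h := hQe a 0
    rw [hR2] at h
    rw [hRF, hQ', ← mul_assoc, ← map_mul, show D.eA (.ofAdd (a, 0)) * D.n2 = D.n2 * D.eE (.ofAdd (0, (a, 0))) by
      rw [← D.conv2D]; group, map_mul, mul_assoc, h, mul_smul_comm]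
  have hQ'e : ∀ x, R2 (.ofAdd x) * Q' = (mk (1 : AddChar F ℂ) (1 : AddChar F ℂ)) x • Q' := by
    rintro ⟨d, z⟩
    have hd : σ (D.eA (.ofAdd (-d, 0))) * Q = Q := by rw [← hRF]; exact hQa _
    have hz : σ (D.eE (.ofAdd (0, (0, z)))) * Q = Q := by rw [← hR2, hQe]; simp
    rw [hR2, show ((0 : L), (d, z)) = (0, (d, 0)) + (0, (0, z)) by simp, ofAdd_add, map_mul, hQ', ← mul_assoc,
      ← map_mul, show D.eE (.ofAdd (0, (d, 0))) * D.eE (.ofAdd (0, (0, z))) * D.n2 =
        D.n2 * (D.eA (.ofAdd (-d, 0)) * D.eE (.ofAdd (0, (0, z)))) by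
        conv_lhs => rw [← D.conv2Z z, show d = - -d by rw [neg_neg], ← D.conv2A]
        group,
      map_mul, map_mul, mul_assoc, mul_assoc, hz, hd]
    simp
  obtain ⟨m, hm⟩ : ∃ m : AddChar F ℂ → ℕ, ∀ α, LinearMap.trace ℂ V (proj RF α * p0) = m α ∧
      IsIdempotentElem (proj RF α * p0) := by
    have hc : ∀ α, proj RF α * p0 = p0 * proj RF α := fun α => by
      have h : ∀ a, RF (.ofAdd a) * p0 = p0 * RF (.ofAdd a) := fun a => by
        let τ : F × F ≃ F × F :=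
          { toFun := fun x => (x.1, x.2 + a * x.1)
            invFun := fun x => (x.1, x.2 - a * x.1)
            left_inv := fun x => by simp
            right_inv := fun x => by simp }
        rw [hRF, hp0]
        exact commute_proj R2 (hi _) τ (fun x => by
          rw [hR2, hR2, ← map_mul, ← map_mul, D.convA a 0 0 x.1 x.2, map_zero, add_zero]; rfl) _ fun x => by simp
      simp only [proj.eq_def RF, smul_mul_assoc, mul_smul_comm, Finset.sum_mul, Finset.mul_sum, h]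
    have hid : ∀ α, IsIdempotentElem (proj RF α * p0) := fun α => by
      show proj RF α * p0 * (proj RF α * p0) = proj RF α * p0
      rw [mul_assoc, ← mul_assoc p0, ← hc, mul_assoc (proj RF α) p0,
        show p0 * p0 = p0 by rw [hp0]; exact proj_mul_self R2 _, ← mul_assoc, proj_mul_self RF α]
    exact ⟨fun α => (exists_nat_trace (hid α)).choose, fun α => ⟨(exists_nat_trace (hid α)).choose_spec, hid α⟩⟩
  have hm0 : ∑ α, m α = n2 (mk 1 1) := by
    have h := congrArg (fun P => LinearMap.trace ℂ V (P * p0)) (sum_proj RF)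
    simp only [Finset.sum_mul, map_sum, one_mul, fun α => (hm α).1] at h
    rw [hp0, hn2] at h
    exact_mod_cast h
  have hml : m lam₁ ≠ 0 := fun h0 => hQ'ne (by
    have h1 := eq_zero_of_trace_zero (hm lam₁).2 (by rw [(hm lam₁).1, h0, Nat.cast_zero])
    have h2 : p0 * Q' = Q' := by rw [hp0]; exact proj_mul_eigen R2 hQ'e
    have h3 := proj_mul_eigen RF hQ'a
    rw [← h2, ← mul_assoc, h1, zero_mul] at h3
    rw [← h2, ← h3])
  have hmall : ∀ α, α ≠ 1 → 1 ≤ m α := by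
    intro α hα
    obtain ⟨u, hu⟩ := shift_surjective hl₁ α
    have hu0 : u ≠ 0 := fun e => hα (DFunLike.ext _ _ fun x => by rw [← hu, e, zero_mul]; simp)
    obtain ⟨g, κ, κ', hgE, hgA⟩ := D.tor2 (Units.mk0 u hu0)
    have hA' : σ g * proj RF α * σ g⁻¹ = proj RF lam₁ :=
      conj_proj RF (Equiv.mulLeft₀ u hu0) (fun a => by rw [hRF, hRF, ← map_mul, ← map_mul, hgA]; rfl) _ _ fun a => by
        simp [← hu]
    have hE' : σ g * p0 * σ g⁻¹ = p0 := by
      rw [hp0]
      exact c2 g ((Equiv.mulLeft₀ _ κ.ne_zero).prodCongr (Equiv.mulLeft₀ _ κ'.ne_zero)) (fun x => hgE x.1 x.2) _ _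
        fun x => by simp
    have h := htconj g (proj RF α * p0) (proj RF lam₁ * p0) (by
      calc σ g * (proj RF α * p0) * σ g⁻¹ = σ g * proj RF α * (σ g⁻¹ * σ g) * (p0 * σ g⁻¹) := by
            rw [hi]; noncomm_ring
        _ = σ g * proj RF α * σ g⁻¹ * (σ g * p0 * σ g⁻¹) := by noncomm_ring
        _ = _ := by rw [hA', hE'])
    rw [(hm α).1, (hm lam₁).1, Nat.cast_inj] at h
    omega
  have hlow : q - 1 ≤ n2 (mk 1 1) := by
    rw [← hm0]
    refine le_trans ?_ (Finset.sum_le_sum_of_subset (Finset.subset_univ (Finset.univ.erase 1)))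
    refine le_trans ?_ (Finset.card_nsmul_le_sum _ _ 1 fun α hα => hmall α (Finset.ne_of_mem_erase hα))
    simp [Finset.card_erase_of_mem, hcF]
  rw [hdim, mul_one]
  have h5 : (q ^ 2 - 1) * q ^ 3 + q ^ 3 = q ^ 5 := by
    rw [← Nat.succ_mul, Nat.succ_eq_add_one, Nat.sub_add_cancel (Nat.one_le_pow _ _ (by omega)), hpow]
  omega

end Cfsg.Lib.Chev.TriDeg
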