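import Cfsg.Agent.Lib.Chev.TwD4
import Cfsg.Agent.Lib.Chev.SpecialTwist
import Cfsg.Agent.Lib.Chev.TorusLang
import Cfsg.Agent.Lib.Chev.TriDegreeData

/-! The root data of ³D₄(q) in the shape used for the degree of its representations. -/

set_option autoImplicit false
set_option maxRecDepth 100000
set_option linter.unusedSectionVars false

namespace Cfsg.Lib.Chev.TriDeg

open Cfsg.Lie

/-- Conjugation of a product of three by a product of three, with pairwise corrections. -/
theorem conj_three {G : Type*} [Group G] {g₁ g₂ g₃ a₁ a₂ a₃ d₁ d₂ d₃ : G}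
    (h₁ : g₁ * a₁ * g₁⁻¹ = a₁ * d₁) (h₂ : g₂ * a₂ * g₂⁻¹ = a₂ * d₂) (h₃ : g₃ * a₃ * g₃⁻¹ = a₃ * d₃)
    (c12 : Commute g₁ a₂) (c13 : Commute g₁ a₃) (c21 : Commute g₂ a₁) (c23 : Commute g₂ a₃)
    (c31 : Commute g₃ a₁) (c32 : Commute g₃ a₂)
    (e12 : Commute g₁ d₂) (e13 : Commute g₁ d₃) (e23 : Commute g₂ d₃)
    (f12 : Commute d₁ a₂) (f13 : Commute d₁ a₃) (f23 : Commute d₂ a₃) :
    g₁ * g₂ * g₃ * (a₁ * a₂ * a₃) * (g₁ * g₂ * g₃)⁻¹ = a₁ * a₂ * a₃ * (d₁ * d₂ * d₃) := by
  have k : ∀ {g a : G}, Commute g a → g * a * g⁻¹ = a := fun h => by rw [h.eq, mul_inv_cancel_right]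
  have s : ∀ g x y : G, g * (x * y) * g⁻¹ = g * x * g⁻¹ * (g * y * g⁻¹) := fun g x y => conj_mul.symm
  calc g₁ * g₂ * g₃ * (a₁ * a₂ * a₃) * (g₁ * g₂ * g₃)⁻¹
      = g₁ * (g₂ * (g₃ * (a₁ * a₂ * a₃) * g₃⁻¹) * g₂⁻¹) * g₁⁻¹ := by group
    _ = g₁ * (g₂ * (a₁ * a₂ * (a₃ * d₃)) * g₂⁻¹) * g₁⁻¹ := by rw [s g₃, s g₃, k c31, k c32, h₃]
    _ = g₁ * (a₁ * (a₂ * d₂) * (a₃ * d₃)) * g₁⁻¹ := by rw [s g₂, s g₂, s g₂, k c21, h₂, k c23, k e23]
    _ = a₁ * d₁ * (a₂ * d₂) * (a₃ * d₃) := by rw [s g₁, s g₁, s g₁, s g₁, h₁, k c12, k e12, k c13, k e13]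
    _ = a₁ * (d₁ * a₂) * (d₂ * a₃) * d₃ := by group
    _ = a₁ * a₂ * (d₁ * a₃) * d₂ * d₃ := by rw [f12.eq, f23.eq]; group
    _ = _ := by rw [f13.eq]; group

variable {K : Type*} [Field K]

theorem td_comm {r s : ℕ} (h : r < 24 ∧ s < 24 ∧ s ≠ r ∧ s ≠ tblD4.neg r ∧ tTerms tblD4 r s = [])
    (t u : K) : Commute (xg certD4C r t) (xg certD4C s u) :=
  xg_commute certD4C fullCertD4.comm h.1 h.2.1 h.2.2.1 h.2.2.2.1 h.2.2.2.2 t u

/-- One out of order pair of root elements. -/
theorem td_pair {r s k : ℕ} {c : ℤ}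
    (h : r < 24 ∧ s < 24 ∧ s ≠ r ∧ s ≠ tblD4.neg r ∧ tTerms tblD4 r s = [(k, c, 1, 1)] ∧
      k < 24 ∧ k ≠ s ∧ k ≠ tblD4.neg s ∧ tTerms tblD4 s k = [])
    (t u : K) : xg certD4C s u * xg certD4C r t * (xg certD4C s u)⁻¹ =
      xg certD4C r t * xg certD4C k (-((c : K) * t * u)) := by
  obtain ⟨hr, hs, h1, h2, he, hk, h3, h4, he'⟩ := h
  have h := comm_formula fullCertD4.comm (F := K) hr hs h1 h2 t u
  rw [ChevalleyDatum.commWord, commTerms_eq certD4C hr hs, he] at h
  have e : xg certD4C s u * xg certD4C r t = xg certD4C r t * xg certD4C s u * xg certD4C k (-((c : K) * t * u)) := by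
    refine Units.ext ?_
    simp only [Units.val_mul, coe_xg]
    rw [h]
    simp [ChevalleyDatum.wordMat]
  rw [e, mul_inv_eq_iff_eq_mul, mul_assoc, (td_comm (K := K) ⟨hs, hk, h3, h4, he'⟩ u _).eq]
  group

variable (f : K →+* K)

/-- The short root element of `C`. -/
noncomputable def gC (t : K) : GL chevD4.Idx K :=
  xg certD4C 20 t * xg certD4C 21 (f t) * xg certD4C 17 (-f (f t))

/-- The short root element opposite to `C` in the radical. -/
noncomputable def gB (v : K) : GL chevD4.Idx K :=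
  xg certD4C 16 (-f v) * xg certD4C 15 (-f (f v)) * xg certD4C 19 v

/-- The short simple root element. -/
noncomputable def gS (u : K) : GL chevD4.Idx K :=
  xg certD4C 13 (f u) * xg certD4C 12 (f (f u)) * xg certD4C 18 u

/-- The sum of the conjugates. -/
def trF : K →+ K where
  toFun x := x + f x + f (f x)
  map_zero' := by simp
  map_add' x y := by simp only [map_add]; ring

variable (hk : ∀ t, f^[3] t = t)
include hk

theorem f3 (t : K) : f (f (f t)) = t := hk t

theorem trF_fixed (x : K) : f (trF f x) = trF f x := by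
  show f (x + f x + f (f x)) = x + f x + f (f x)
  rw [map_add, map_add, f3 f hk]; ring

omit hk in
theorem gS_conj (u t : K) :
    gS f u * gC f t * (gS f u)⁻¹ = gC f t * xg certD4C 22 (t * f u + f t * f (f u) + f (f t) * u) := by
  rw [gS, gC, conj_three (td_pair (r := 20) (s := 13) (k := 22) (c := -1) (by decide +kernel) t (f u)) (td_pair (r := 21) (s := 12) (k := 22) (c := -1) (by decide +kernel) (f t) (f (f u)))
    (td_pair (r := 17) (s := 18) (k := 22) (c := 1) (by decide +kernel) (-f (f t)) u)]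
  rotate_left
  iterate 12 exact td_comm (by decide +kernel) _ _
  simp only [xg_add]
  congr 2
  push_cast
  ring

omit hk in
theorem gB_conj (v t : K) :
    gB f v * gC f t * (gB f v)⁻¹ = gC f t * xg certD4C 23 (t * f v + f t * f (f v) + f (f t) * v) := by
  rw [gB, gC, conj_three (td_pair (r := 20) (s := 16) (k := 23) (c := 1) (by decide +kernel) t (-f v)) (td_pair (r := 21) (s := 15) (k := 23) (c := 1) (by decide +kernel) (f t) (-f (f v)))
    (td_pair (r := 17) (s := 19) (k := 23) (c := 1) (by decide +kernel) (-f (f t)) v)]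
  rotate_left
  iterate 12 exact td_comm (by decide +kernel) _ _
  simp only [xg_add]
  congr 2
  push_cast
  ring

theorem tr_eq (t u : K) : t * f u + f t * f (f u) + f (f t) * u = trF f (t * f u) := by
  show _ = t * f u + f (t * f u) + f (f (t * f u))
  simp only [map_mul, f3 f hk]

omit hk in
theorem xg_fixed {r : ℕ} {t : K} (hr : r < 24 ∧ symD4_3.root r = r ∧ symD4_3.eps r = 1) (ht : f t = t) :
    twSigma symOKD4_tri f (xg certD4C r t) = xg certD4C r t := by
  rw [twSigma_xg certD4C symOKD4_tri f hr.1, hr.2.1, hr.2.2, Int.cast_one, one_mul, ht]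

theorem gC_fixed (t : K) : twSigma symOKD4_tri f (gC f t) = gC f t := by
  rw [gC, twSigma_mul, twSigma_mul, twSigma_xg certD4C symOKD4_tri f (by decide), twSigma_xg certD4C symOKD4_tri f (by decide),
    twSigma_xg certD4C symOKD4_tri f (by decide),
    show symD4_3.root 20 = 21 by decide +kernel, show symD4_3.root 21 = 17 by decide +kernel,
    show symD4_3.root 17 = 20 by decide +kernel, show symD4_3.eps 20 = 1 by decide +kernel,
    show symD4_3.eps 21 = -1 by decide +kernel, show symD4_3.eps 17 = -1 by decide +kernel]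
  simp only [Int.cast_one, Int.cast_neg, one_mul, neg_mul, map_neg, f3 f hk, neg_neg]
  rw [((td_comm (K := K) (r := 21) (s := 20) (by decide +kernel) (f t) t).mul_left (td_comm (r := 17) (s := 20) (by decide +kernel) (-f (f t)) t)).eq]
  all_goals group

theorem gB_fixed (v : K) : twSigma symOKD4_tri f (gB f v) = gB f v := by
  rw [gB, twSigma_mul, twSigma_mul, twSigma_xg certD4C symOKD4_tri f (by decide), twSigma_xg certD4C symOKD4_tri f (by decide),
    twSigma_xg certD4C symOKD4_tri f (by decide),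
    show symD4_3.root 16 = 15 by decide +kernel, show symD4_3.root 15 = 19 by decide +kernel,
    show symD4_3.root 19 = 16 by decide +kernel, show symD4_3.eps 16 = 1 by decide +kernel,
    show symD4_3.eps 15 = -1 by decide +kernel, show symD4_3.eps 19 = -1 by decide +kernel]
  simp only [Int.cast_one, Int.cast_neg, one_mul, neg_mul, map_neg, f3 f hk, neg_neg]
  rw [((td_comm (K := K) (r := 15) (s := 16) (by decide +kernel) (-f (f v)) (-f v)).mul_left (td_comm (r := 19) (s := 16) (by decide +kernel) v (-f v))).eq]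
  all_goals group

theorem gS_fixed (u : K) : twSigma symOKD4_tri f (gS f u) = gS f u := by
  rw [gS, twSigma_mul, twSigma_mul, twSigma_xg certD4C symOKD4_tri f (by decide), twSigma_xg certD4C symOKD4_tri f (by decide),
    twSigma_xg certD4C symOKD4_tri f (by decide),
    show symD4_3.root 13 = 12 by decide +kernel, show symD4_3.root 12 = 18 by decide +kernel,
    show symD4_3.root 18 = 13 by decide +kernel, show symD4_3.eps 13 = 1 by decide +kernel,
    show symD4_3.eps 12 = 1 by decide +kernel, show symD4_3.eps 18 = 1 by decide +kernel]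
  simp only [Int.cast_one, one_mul, f3 f hk]
  rw [((td_comm (K := K) (r := 12) (s := 13) (by decide +kernel) (f (f u)) (f u)).mul_left (td_comm (r := 18) (s := 13) (by decide +kernel) u (f u))).eq]
  all_goals group

/-- The parameters of a torus element. -/
def par (e w : Kˣ) : Fin chevD4.rank → Kˣ := fun i =>
  if (i : ℕ) = 0 then e else if (i : ℕ) = 1 then w else if (i : ℕ) = 2 then Units.map f.toMonoidHom e
  else Units.map f.toMonoidHom (Units.map f.toMonoidHom e)

omit hk in
theorem par_fixed (hk : ∀ t, f^[3] t = t) (e : Kˣ) {w : Kˣ} (hw : f w = w) :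
    twPar symOKD4_tri f (par f e w) = par f e w := by
  funext i
  refine Units.ext ?_
  show f ((par f e w ⟨symD4_3.pI.getD (i : ℕ) 0, _⟩ : Kˣ) : K) = _
  obtain ⟨i, hi⟩ := i
  have hi4 : i < 4 := hi
  interval_cases i <;> simp [par, show symD4_3.pI = [3, 1, 0, 2] from rfl, hw, f3 f hk]

omit hk in
/-- A torus element on a root element. -/
theorem par_conj (e w : Kˣ) {r : ℕ} (hr : r < 24) (n₀ n₁ n₂ n₃ : ℤ)
    (h : [tblD4.cartan 0 r, tblD4.cartan 1 r, tblD4.cartan 2 r, tblD4.cartan 3 r] = [n₀, n₁, n₂, n₃]) (t : K) :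
    torusHom chevD4 tblD4 K (par f e w) * xg certD4C r t * (torusHom chevD4 tblD4 K (par f e w))⁻¹ =
      xg certD4C r ((e : K) ^ n₀ * (w : K) ^ n₁ * f e ^ n₂ * f (f e) ^ n₃ * t) := by
  simp only [List.cons.injEq, and_true] at h
  rw [torusHom_conj_xg certD4C _ hr]
  congr 2
  simp [chr, show chevD4.rank = 4 from rfl, Finset.prod_range_succ, h, extend', par]

omit hk in
theorem exists_trF_ne {q : ℕ} (hq : 2 ≤ q) (hf : ∀ t, f t = t ^ q) [Fintype K] (hK : Fintype.card K = q ^ 3) :
    ∃ x, trF f x ≠ 0 := by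
  by_contra! h
  obtain ⟨P, hP⟩ : ∃ P : Polynomial K, P = Polynomial.X + Polynomial.X ^ q + Polynomial.X ^ (q * q) := ⟨_, rfl⟩
  have hd : P.natDegree ≤ q * q := by
    rw [hP]
    refine (Polynomial.natDegree_add_le _ _).trans (max_le ((Polynomial.natDegree_add_le _ _).trans (max_le ?_ ?_)) ?_)
    · rw [Polynomial.natDegree_X]; nlinarith
    · rw [Polynomial.natDegree_X_pow]; nlinarith
    · rw [Polynomial.natDegree_X_pow]
  have hP0 : P = 0 := by
    refine Polynomial.eq_zero_of_natDegree_lt_card_of_eval_eq_zero P (f := (id : K → K)) Function.injective_id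
      (fun x => ?_) ?_
    · have h1 : x + f x + f (f x) = 0 := h x
      rw [hf, hf, ← pow_mul] at h1
      simpa [hP] using h1
    · have : q * q < q ^ 3 := by nlinarith
      omega
  have h1 := congrArg (fun Q : Polynomial K => Q.coeff 1) hP0
  have h2 : 1 < q * q := by nlinarith
  simp [hP, Polynomial.coeff_X_pow, show 1 ≠ q by omega, h2.ne] at h1

omit hk in
set_option maxHeartbeats 1000000 in
/-- The data. -/
theorem exists_data [Fintype K] {q : ℕ} (hq : IsPrimePow q) (hK : Fintype.card K = q ^ 3)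
    (hf : ∀ t, f t = t ^ q) (hk : ∀ t, f^[3] t = t) :
    ∃ (F0 : Subfield K) (_ : Fintype F0), Fintype.card F0 = q ∧
      Nonempty (Data ↥((twSimplyD4.twOK certD4C symOKD4_tri f fullCertD4 twCombD4).fixed certD4C) ↥F0 K) := by
  classical
  let F0 : Subfield K := RingHom.eqLocusField f (RingHom.id K)
  have hF : ∀ x : ↥F0, f (x : K) = x := fun x => x.2
  haveI : Fintype ↥F0 := Fintype.ofFinite _
  have hcard : Fintype.card ↥F0 = q := by
    have h := card_fixed_field (j := 1) hq.two_le (show Nat.card K = q ^ 3 by rw [Nat.card_eq_fintype_card, hK]) (one_dvd 3)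
    rw [← Nat.card_eq_fintype_card, ← (pow_one q), ← h]
    exact Nat.card_congr (Equiv.subtypeEquivRight fun x => by
      show f x = x ↔ _; rw [hf, pow_one])
  refine ⟨F0, inferInstance, hcard, ?_⟩
  obtain ⟨G, hG⟩ : ∃ G, G = (twSimplyD4.twOK certD4C symOKD4_tri f fullCertD4 twCombD4).fixed certD4C := ⟨_, rfl⟩
  rw [← hG]
  have mem : ∀ g, g ∈ chevD4.group K → twSigma symOKD4_tri f g = g → g ∈ G := fun g h1 h2 => hG ▸ ⟨h1, h2⟩
  have hx : ∀ r t, xg certD4C r t ∈ chevD4.group K := fun r t => xg_mem_group certD4C r t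
  have mx : ∀ r, r < 24 ∧ symD4_3.root r = r ∧ symD4_3.eps r = 1 → ∀ x : ↥F0, xg certD4C r (x : K) ∈ G :=
    fun r hr x => mem _ (hx _ _) (xg_fixed f hr (hF x))
  have mC : ∀ t, gC f t ∈ G := fun t => mem _ (mul_mem (mul_mem (hx _ _) (hx _ _)) (hx _ _)) (gC_fixed f hk t)
  have mB : ∀ t, gB f t ∈ G := fun t => mem _ (mul_mem (mul_mem (hx _ _) (hx _ _)) (hx _ _)) (gB_fixed f hk t)
  have mS : ∀ t, gS f t ∈ G := fun t => mem _ (mul_mem (mul_mem (hx _ _) (hx _ _)) (hx _ _)) (gS_fixed f hk t)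
  have m22 := mx 22 (by decide +kernel)
  have m23 := mx 23 (by decide +kernel)
  have m14 := mx 14 (by decide +kernel)
  have addC : ∀ s t, gC f (s + t) = gC f s * gC f t := fun s t => by
    simp only [gC, map_add, neg_add, ← xg_add]
    have c1 : ∀ a b : K, Commute (xg certD4C 21 a) (xg certD4C 20 b) := td_comm (by decide +kernel)
    have c2 : ∀ a b : K, Commute (xg certD4C 17 a) (xg certD4C 20 b) := td_comm (by decide +kernel)
    have c3 : ∀ a b : K, Commute (xg certD4C 17 a) (xg certD4C 21 b) := td_comm (by decide +kernel)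
    calc _ = xg certD4C 20 s * (xg certD4C 20 t * xg certD4C 21 (f s)) * (xg certD4C 21 (f t) * xg certD4C 17 (-f (f s))) *
          xg certD4C 17 (-f (f t)) := by group
      _ = xg certD4C 20 s * xg certD4C 21 (f s) * (xg certD4C 20 t * xg certD4C 17 (-f (f s))) *
          xg certD4C 21 (f t) * xg certD4C 17 (-f (f t)) := by rw [← (c1 _ _).eq, ← (c3 _ _).eq]; group
      _ = _ := by rw [← (c2 _ _).eq]; group
  have addB : ∀ s t, gB f (s + t) = gB f s * gB f t := fun s t => by
    simp only [gB, map_add, neg_add, ← xg_add]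
    have c1 : ∀ a b : K, Commute (xg certD4C 15 a) (xg certD4C 16 b) := td_comm (by decide +kernel)
    have c2 : ∀ a b : K, Commute (xg certD4C 19 a) (xg certD4C 16 b) := td_comm (by decide +kernel)
    have c3 : ∀ a b : K, Commute (xg certD4C 19 a) (xg certD4C 15 b) := td_comm (by decide +kernel)
    calc _ = xg certD4C 16 (-f s) * (xg certD4C 16 (-f t) * xg certD4C 15 (-f (f s))) * (xg certD4C 15 (-f (f t)) * xg certD4C 19 s) *
          xg certD4C 19 t := by group
      _ = xg certD4C 16 (-f s) * xg certD4C 15 (-f (f s)) * (xg certD4C 16 (-f t) * xg certD4C 19 s) *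
          xg certD4C 15 (-f (f t)) * xg certD4C 19 t := by rw [← (c1 _ _).eq, ← (c3 _ _).eq]; group
      _ = _ := by rw [← (c2 _ _).eq]; group
  have C0 : gC f (0 : K) = 1 := by simp [gC, xg_zero]
  have B0 : gB f (0 : K) = 1 := by simp [gB, xg_zero]
  have k3 : ∀ (r a b c : ℕ) (A B C' X : K),
      (r < 24 ∧ a < 24 ∧ a ≠ r ∧ a ≠ tblD4.neg r ∧ tTerms tblD4 r a = []) →
      (r < 24 ∧ b < 24 ∧ b ≠ r ∧ b ≠ tblD4.neg r ∧ tTerms tblD4 r b = []) →
      (r < 24 ∧ c < 24 ∧ c ≠ r ∧ c ≠ tblD4.neg r ∧ tTerms tblD4 r c = []) →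
      Commute (xg certD4C r X) (xg certD4C a A * xg certD4C b B * xg certD4C c C') :=
    fun r a b c A B C' X h1 h2 h3 => ((td_comm h1 X A).mul_right (td_comm h2 X B)).mul_right (td_comm h3 X C')
  have c22C : ∀ d t, Commute (xg certD4C 22 d) (gC f t) := fun d t => k3 _ _ _ _ _ _ _ _ (by decide +kernel) (by decide +kernel) (by decide +kernel)
  have c23C : ∀ d t, Commute (xg certD4C 23 d) (gC f t) := fun d t => k3 _ _ _ _ _ _ _ _ (by decide +kernel) (by decide +kernel) (by decide +kernel)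
  have c14C : ∀ d t, Commute (xg certD4C 14 d) (gC f t) := fun d t => k3 _ _ _ _ _ _ _ _ (by decide +kernel) (by decide +kernel) (by decide +kernel)
  have c14B : ∀ d t, Commute (xg certD4C 14 d) (gB f t) := fun d t => k3 _ _ _ _ _ _ _ _ (by decide +kernel) (by decide +kernel) (by decide +kernel)
  have c22B : ∀ d t, Commute (xg certD4C 22 d) (gB f t) := fun d t => k3 _ _ _ _ _ _ _ _ (by decide +kernel) (by decide +kernel) (by decide +kernel)
  have c23B : ∀ d t, Commute (xg certD4C 23 d) (gB f t) := fun d t => k3 _ _ _ _ _ _ _ _ (by decide +kernel) (by decide +kernel) (by decide +kernel)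
  have c22S : ∀ d t, Commute (xg certD4C 22 d) (gS f t) := fun d t => k3 _ _ _ _ _ _ _ _ (by decide +kernel) (by decide +kernel) (by decide +kernel)
  have c23S : ∀ d t, Commute (xg certD4C 23 d) (gS f t) := fun d t => k3 _ _ _ _ _ _ _ _ (by decide +kernel) (by decide +kernel) (by decide +kernel)
  have c2223 : ∀ d z : K, Commute (xg certD4C 22 d) (xg certD4C 23 z) := td_comm (by decide +kernel)
  obtain ⟨eE, heE⟩ : ∃ e : Multiplicative (K × (↥F0 × ↥F0)) →* ↥G, ∀ t d z, (e (.ofAdd (t, (d, z))) : GL chevD4.Idx K) =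
      gC f t * xg certD4C 22 (d : K) * xg certD4C 23 (z : K) := by
    refine ⟨{ toFun := fun x => ⟨gC f x.toAdd.1 * xg certD4C 22 (x.toAdd.2.1 : K) * xg certD4C 23 (x.toAdd.2.2 : K),
                mul_mem (mul_mem (mC _) (m22 _)) (m23 _)⟩
              map_one' := Subtype.ext (by simp [C0, xg_zero])
              map_mul' := fun x y => Subtype.ext ?_ }, fun t d z => rfl⟩
    obtain ⟨t, d, z⟩ := x
    obtain ⟨t', d', z'⟩ := y
    show gC f (t + t') * xg certD4C 22 ((d : K) + d') * xg certD4C 23 ((z : K) + z') =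
      gC f t * xg certD4C 22 (d : K) * xg certD4C 23 (z : K) * (gC f t' * xg certD4C 22 (d' : K) * xg certD4C 23 (z' : K))
    rw [addC, ← xg_add, ← xg_add]
    calc _ = gC f t * (gC f t' * xg certD4C 22 (d : K)) * (xg certD4C 22 (d' : K) * xg certD4C 23 (z : K)) * xg certD4C 23 (z' : K) := by group
      _ = gC f t * xg certD4C 22 (d : K) * (gC f t' * xg certD4C 23 (z : K)) * xg certD4C 22 (d' : K) * xg certD4C 23 (z' : K) := by
          rw [← (c22C _ _).eq, (c2223 _ _).eq]; group
      _ = _ := by rw [← (c23C _ _).eq]; group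
  obtain ⟨eA, heA⟩ : ∃ e : Multiplicative (↥F0 × K) →* ↥G, ∀ a v, (e (.ofAdd (a, v)) : GL chevD4.Idx K) =
      xg certD4C 14 (a : K) * gB f v := by
    refine ⟨{ toFun := fun x => ⟨xg certD4C 14 (x.toAdd.1 : K) * gB f x.toAdd.2, mul_mem (m14 _) (mB _)⟩
              map_one' := Subtype.ext (by simp [B0, xg_zero])
              map_mul' := fun x y => Subtype.ext ?_ }, fun a v => rfl⟩
    obtain ⟨a, v⟩ := x
    obtain ⟨a', v'⟩ := y
    show xg certD4C 14 ((a : K) + a') * gB f (v + v') = xg certD4C 14 (a : K) * gB f v * (xg certD4C 14 (a' : K) * gB f v')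
    rw [addB, ← xg_add]
    calc _ = xg certD4C 14 (a : K) * (xg certD4C 14 (a' : K) * gB f v) * gB f v' := by group
      _ = _ := by rw [(c14B _ _).eq]; group
  have fix_f : ∀ x, trF f x ∈ F0 := fun x => trF_fixed f hk x
  obtain ⟨pr, hpr⟩ : ∃ pr : K →+ K →+ ↥F0, ∀ t v, (pr t v : K) = t * f v + f t * f (f v) + f (f t) * v := by
    refine ⟨AddMonoidHom.mk' (fun t => AddMonoidHom.mk' (fun v => ⟨trF f (t * f v), fix_f _⟩)
      fun v w => Subtype.ext (by simp [map_add, mul_add])) (fun s t => AddMonoidHom.ext fun v => Subtype.ext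
        (by simp [add_mul, map_add])), fun t v => ?_⟩
    exact (tr_eq f hk t v).symm
  obtain ⟨x₀, hx₀⟩ := exists_trF_ne f hq.two_le hf hK
  have tmem : ∀ (e : Kˣ) (w : (↥F0)ˣ),
      torusHom chevD4 tblD4 K (par f e (Units.map F0.subtype.toMonoidHom w)) ∈ G := fun e w =>
    mem _ (diag_le_group certD4C ((torusHom_range certD4C (F := K)) ▸ ⟨_, rfl⟩))
      (by rw [twSigma_torus certD4C symOKD4_tri f, par_fixed f hk e (hF w.1)])
  have hne : ∀ e : Kˣ, f (e : K) ≠ 0 := fun e h => e.ne_zero (f.injective (h.trans (map_zero f).symm))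
  have hne2 : ∀ e : Kˣ, f (f (e : K)) ≠ 0 := fun e h => hne e (f.injective (h.trans (map_zero f).symm))
  have tw22 : ∀ (e w : Kˣ) (t : K), torusHom chevD4 tblD4 K (par f e w) * xg certD4C 22 t * (torusHom chevD4 tblD4 K (par f e w))⁻¹ =
      xg certD4C 22 ((e : K) * f e * f (f e) / w * t) := fun e w t => by
    rw [par_conj f e w (by decide) 1 (-1) 1 1 (by decide +kernel)]; congr 2; simp; ring
  have tw23 : ∀ (e w : Kˣ) (t : K), torusHom chevD4 tblD4 K (par f e w) * xg certD4C 23 t * (torusHom chevD4 tblD4 K (par f e w))⁻¹ =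
      xg certD4C 23 ((w : K) * t) := fun e w t => by
    rw [par_conj f e w (by decide) 0 1 0 0 (by decide +kernel)]; congr 2; simp
  have tw14 : ∀ (e w : Kˣ) (t : K), torusHom chevD4 tblD4 K (par f e w) * xg certD4C 14 t * (torusHom chevD4 tblD4 K (par f e w))⁻¹ =
      xg certD4C 14 ((w : K) * w / ((e : K) * f e * f (f e)) * t) := fun e w t => by
    rw [par_conj f e w (by decide) (-1) 2 (-1) (-1) (by decide +kernel)]; congr 2
    simp [zpow_two]; field_simp
  let Nf : Kˣ → (↥F0)ˣ := fun e => Units.mk0 ⟨(e : K) * f e * f (f e), by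
      show f ((e : K) * f e * f (f e)) = _
      rw [map_mul, map_mul, f3 f hk]; simp only [RingHom.id_apply]; ring⟩
    (fun h => mul_ne_zero (mul_ne_zero e.ne_zero (hne e)) (hne2 e) (congrArg Subtype.val h))
  have hNf : ∀ e : Kˣ, ((Nf e : ↥F0) : K) = (e : K) * f e * f (f e) := fun e => rfl
  obtain ⟨-, hfix⟩ := twSimplyD4.exists_nGen certD4C symOKD4_tri f fullCertD4 twCombD4 (J := 0) (by decide)
    (v := 1) (by rw [show (twD4.orb 0).length = 3 from rfl]; exact hk 1)
  rw [show twD4.base 0 = [18, 13, 12] from rfl,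
    show nGen certD4C f [18, 13, 12] (1 : K) = nu certD4C 0 * (nu certD4C 2 * nu certD4C 3) by
      simp [nGen, nu, show tblD4.simp' 0 = 18 by decide +kernel, show tblD4.simp' 2 = 13 by decide +kernel,
        show tblD4.simp' 3 = 12 by decide +kernel]] at hfix
  have hnu : ∀ i < 4, nu certD4C (F := K) i ∈ chevD4.group K := fun i hi => ng_mem_group certD4C _ _
  have mn2 : nu certD4C 0 * (nu certD4C 2 * nu certD4C 3) ∈ G :=
    mem _ (mul_mem (hnu 0 (by decide)) (mul_mem (hnu 2 (by decide)) (hnu 3 (by decide)))) hfix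
  have mn1 : nu certD4C (F := K) 1 ∈ G :=
    mem _ (hnu 1 (by decide)) (by rw [twSigma_nu certD4C symOKD4_tri f (by decide), show symD4_3.node 1 = 1 by decide +kernel])
  have cn2 : ∀ {r r3 r2 r0 : ℕ} {e : ℤ}, r < 24 ∧ r3 < 24 ∧ r2 < 24 ∧ tblD4.refl' 3 r = r3 ∧ tblD4.refl' 2 r3 = r2 ∧
      tblD4.refl' 0 r2 = r0 ∧ tblD4.eta' 3 r * tblD4.eta' 2 r3 * tblD4.eta' 0 r2 = e → ∀ t : K,
      nu certD4C 0 * (nu certD4C 2 * nu certD4C 3) * xg certD4C r t * (nu certD4C 0 * (nu certD4C 2 * nu certD4C 3))⁻¹ =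
        xg certD4C r0 ((e : K) * t) := by
    rintro r r3 r2 r0 e ⟨hr, hr3, hr2, e3, e2, e0, ee⟩ t
    calc _ = nu certD4C 0 * (nu certD4C 2 * (nu certD4C 3 * xg certD4C r t * (nu certD4C 3)⁻¹) * (nu certD4C 2)⁻¹) *
          (nu certD4C 0)⁻¹ := by group
      _ = _ := by
        rw [nu_conj_xg certD4C (show 3 < chevD4.rank by decide) hr, e3,
          nu_conj_xg certD4C (show 2 < chevD4.rank by decide) hr3, e2,
          nu_conj_xg certD4C (show 0 < chevD4.rank by decide) hr2, e0, ← ee]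
        congr 1; push_cast; ring
  have cj : ∀ g x y : GL chevD4.Idx K, g * (x * y) * g⁻¹ = g * x * g⁻¹ * (g * y * g⁻¹) := fun g x y => conj_mul.symm
  have fixc : ∀ {g a : GL chevD4.Idx K}, Commute a g → g * a * g⁻¹ = a := fun h => by
    rw [← h.eq, mul_inv_cancel_right]
  refine ⟨{
    hcard := by rw [hK, hcard]
    pr := pr
    pr_surj := fun v hv c => ?_
    eE := eE
    eE_ne := ?_
    eA := eA
    S := fun u => ⟨gS f u, mS u⟩
    convS := fun u t d z => Subtype.ext ?_
    convA := fun a v t d z => Subtype.ext ?_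
    n1 := ⟨nu certD4C 1, mn1⟩
    conv1 := fun d z => Subtype.ext ?_
    n2 := ⟨_, mn2⟩
    conv2D := fun d => Subtype.ext ?_
    conv2A := fun a => Subtype.ext ?_
    conv2Z := fun z => Subtype.ext ?_
    tor1 := fun w => ⟨⟨_, tmem 1 w⟩, fun d z => Subtype.ext ?_⟩
    tor2 := fun u => ⟨⟨_, tmem (Units.map F0.subtype.toMonoidHom u) (u * u)⟩, u, u * u, fun d z => Subtype.ext ?_,
      fun a => Subtype.ext ?_⟩
    Nf := Nf
    tor3 := fun e => ⟨⟨_, tmem e (Nf e)⟩,
      e * Units.map f.toMonoidHom (Units.map f.toMonoidHom e) / Units.map f.toMonoidHom e,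
      fun t d z => Subtype.ext ?_, fun a v => Subtype.ext ?_⟩
    nfull := fun h2 => ?_
    two := fun h2 => ?_ }⟩
  · -- the pairing is onto
    obtain ⟨w, hw⟩ : ∃ w : ↥F0, (w : K) = trF f x₀ := ⟨⟨_, fix_f x₀⟩, rfl⟩
    have hfv : f v ≠ 0 := fun h => hv (f.injective (h.trans (map_zero f).symm))
    refine ⟨(c : K) / (w : K) * x₀ / f v, Subtype.ext ?_⟩
    rw [hpr, tr_eq f hk, div_mul_cancel₀ _ hfv]
    show (c : K) / (w : K) * x₀ + f ((c : K) / (w : K) * x₀) + f (f ((c : K) / (w : K) * x₀)) = _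
    simp only [map_mul, map_div₀, hF]
    rw [← mul_add, ← mul_add, show x₀ + f x₀ + f (f x₀) = (w : K) from hw.symm,
      div_mul_cancel₀ _ (by rw [hw]; exact hx₀)]
  · intro h
    have h1 := congrArg Subtype.val h
    rw [heE, C0] at h1
    simp only [ZeroMemClass.coe_zero, xg_zero, one_mul, OneMemClass.coe_one] at h1
    exact one_ne_zero (xg_eq_one certD4C (by decide) h1)
  · simp only [Subgroup.coe_mul, Subgroup.coe_inv, heE]
    rw [cj, cj, gS_conj, fixc (c22S _ _), fixc (c23S _ _), Subfield.coe_add, hpr,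
      mul_assoc (gC f t) _ (xg certD4C 22 (d : K)), xg_add, add_comm (d : K)]
  · simp only [Subgroup.coe_mul, Subgroup.coe_inv, heE, heA]
    have h14 : ∀ x : K, xg certD4C 14 (a : K) * xg certD4C 22 x * (xg certD4C 14 (a : K))⁻¹ =
        xg certD4C 22 x * xg certD4C 23 (x * a) := fun x => by
      rw [td_pair (K := K) (r := 22) (s := 14) (k := 23) (c := -1) (by decide +kernel) x a]
      push_cast; congr 2; ring
    have hb : gB f v * (gC f t * xg certD4C 22 (d : K) * xg certD4C 23 (z : K)) * (gB f v)⁻¹ =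
        gC f t * xg certD4C 22 (d : K) * xg certD4C 23 ((z : K) + (pr t v : K)) := by
      rw [cj, cj, gB_conj, fixc (c22B _ _), fixc (c23B _ _), hpr,
        mul_assoc (gC f t) _ (xg certD4C 22 (d : K)), ← (c2223 _ _).eq]
      simp only [mul_assoc, xg_add]
      rw [add_comm (z : K)]
    calc _ = xg certD4C 14 (a : K) * (gB f v * (gC f t * xg certD4C 22 (d : K) * xg certD4C 23 (z : K)) * (gB f v)⁻¹) *
          (xg certD4C 14 (a : K))⁻¹ := by group
      _ = _ := by
        rw [hb, cj, cj, fixc (c14C _ _).symm, h14,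
          fixc (td_comm (K := K) (r := 23) (s := 14) (by decide +kernel) _ _),
          Subfield.coe_add, Subfield.coe_add, Subfield.coe_mul]
        rw [mul_assoc (gC f t), mul_assoc (xg certD4C 22 (d : K)), xg_add]
        rw [← mul_assoc]
        congr 2
        ring
  · simp only [Subgroup.coe_mul, Subgroup.coe_inv, heE, C0, one_mul, NegMemClass.coe_neg]
    rw [cj, nu_conj_xg certD4C (by decide) (by decide), nu_conj_xg certD4C (by decide) (by decide),
      show tblD4.refl' 1 22 = 23 by decide +kernel, show tblD4.refl' 1 23 = 22 by decide +kernel,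
      show tblD4.eta' 1 22 = 1 by decide +kernel, show tblD4.eta' 1 23 = -1 by decide +kernel, ← (c2223 _ _).eq]
    simp
  · simp only [Subgroup.coe_mul, Subgroup.coe_inv, heE, heA, C0, B0, one_mul, mul_one, ZeroMemClass.coe_zero, xg_zero]
    rw [cn2 (r := 22) (r3 := 21) (r2 := 19) (r0 := 14) (e := 1) (by decide +kernel)]
    simp
  · simp only [Subgroup.coe_mul, Subgroup.coe_inv, heE, heA, C0, B0, one_mul, mul_one, ZeroMemClass.coe_zero, xg_zero,
      NegMemClass.coe_neg]
    rw [cn2 (r := 14) (r3 := 15) (r2 := 17) (r0 := 22) (e := -1) (by decide +kernel)]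
    simp
  · simp only [Subgroup.coe_mul, Subgroup.coe_inv, heE, C0, one_mul, ZeroMemClass.coe_zero, xg_zero]
    rw [cn2 (r := 23) (r3 := 23) (r2 := 23) (r0 := 23) (e := 1) (by decide +kernel)]
    simp
  · simp only [Subgroup.coe_mul, Subgroup.coe_inv, heE, C0, one_mul]
    rw [cj, tw22, tw23]
    simp
  · simp only [Subgroup.coe_mul, Subgroup.coe_inv, heE, C0, one_mul]
    rw [cj, tw22, tw23]
    simp [hF]
  · simp only [Subgroup.coe_mul, Subgroup.coe_inv, heA, B0, mul_one]
    rw [tw14]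
    congr 1
    simp [hF]
    field_simp
    simp
  · simp only [Subgroup.coe_mul, Subgroup.coe_inv, heE]
    rw [cj, cj, tw22, tw23, gC, cj, cj, par_conj f _ _ (by decide) 1 0 (-1) 1 (by decide +kernel),
      par_conj f _ _ (by decide) 1 0 1 (-1) (by decide +kernel), par_conj f _ _ (by decide) (-1) 0 1 1 (by decide +kernel)]
    simp only [gC, hNf, Units.coe_map, RingHom.toMonoidHom_eq_coe, MonoidHom.coe_coe, Units.val_div_eq_div_val,
      Units.val_mul, Subfield.coe_subtype, Subfield.coe_mul, map_mul, map_div₀, f3 f hk, zpow_one, zpow_zero, zpow_neg]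
    congr 4 <;> field_simp
  · simp only [Subgroup.coe_mul, Subgroup.coe_inv, heA]
    rw [cj, tw14, gB, cj, cj, par_conj f _ _ (by decide) (-1) 1 1 (-1) (by decide +kernel),
      par_conj f _ _ (by decide) (-1) 1 (-1) 1 (by decide +kernel), par_conj f _ _ (by decide) 1 1 (-1) (-1) (by decide +kernel)]
    simp only [gB, hNf, Units.coe_map, RingHom.toMonoidHom_eq_coe, MonoidHom.coe_coe, Units.val_mul,
      Subfield.coe_subtype, Subfield.coe_mul, map_mul, f3 f hk, zpow_one, zpow_zero, zpow_neg]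
    congr 4 <;> field_simp
  · rw [hcard] at h2
    by_contra! h
    have h1 : ∀ e : Kˣ, e ^ (q * q + q + 1) = 1 := fun e => Units.ext (by
      have := congrArg (fun u : (↥F0)ˣ => ((u : ↥F0) : K)) (h e)
      simp only [hNf, Units.val_one, OneMemClass.coe_one] at this
      rw [Units.val_pow_eq_pow_val, Units.val_one, ← this, hf, hf, ← pow_mul, pow_add, pow_add, pow_one]
      ring)
    obtain ⟨g, hg⟩ := IsCyclic.exists_generator (α := Kˣ)
    have h3 := Nat.le_of_dvd (by positivity) (orderOf_dvd_of_pow_eq_one (h1 g))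
    rw [orderOf_eq_card_of_forall_mem_zpowers hg, Nat.card_units, Nat.card_eq_fintype_card, hK] at h3
    have h4 : 3 * (q * q) ≤ q ^ 3 := by rw [pow_succ, sq, mul_comm 3]; exact Nat.mul_le_mul_left _ h2
    have h5 : 3 * q ≤ q * q := Nat.mul_le_mul_right _ h2
    omega
  · rw [hcard] at h2
    subst h2
    haveI : CharP K 2 := @charP_of_card_eq_prime_pow K _ _ _ 2 3 ⟨Nat.prime_two⟩ hK
    refine ⟨⟨gS f 1, mS 1⟩, 1, 1, 1, Subtype.ext ?_, fun d z => Subtype.ext ?_⟩
    · simp only [Subgroup.coe_mul, Subgroup.coe_inv, heE, heA, B0, mul_one, OneMemClass.coe_one, gS, gB, gC, map_one,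
        map_zero, neg_zero, xg_zero, CharTwo.neg_eq, mul_one]
      rw [mul_inv_eq_iff_eq_mul]
      refine Units.ext ?_
      have hl : ∀ (l : List ℕ), (∀ r ∈ l, r < 24) → ∀ L ∈ l.map (fun r => Ltr.x r [⟨1, 0, 0⟩]), Ltr.ok chevD4 L := by
        intro l hl L hL
        obtain ⟨r, hr, rfl⟩ := List.mem_map.1 hL
        exact hl r hr
      have e := wmat_eq_of_sameWordMod (1 : K) 1 (p := 2) certD4C.spec.shape one_ne_zero one_ne_zero
        (hl [13, 12, 18, 14] (by decide)) (hl [14, 16, 15, 19, 20, 21, 17, 22, 23, 13, 12, 18] (by decide))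
        (show sameWordMod 2 tblD4 _ _ = true by decide +kernel)
      simp [wmat, Ltr.mat, pval, Mono.val] at e
      simp [coe_xg, mul_assoc, e]
    · simp only [Subgroup.coe_mul, Subgroup.coe_inv, heE, C0, one_mul]
      rw [cj, fixc (c22S _ _), fixc (c23S _ _)]

end Cfsg.Lib.Chev.TriDeg
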