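import Cfsg.Agent.Lib.Chev.TrialityInvol

/-! ³D₄(q) for even q has exactly two classes of involutions. -/

set_option autoImplicit false
set_option maxRecDepth 100000
set_option linter.unusedSectionVars false

namespace Cfsg.Lib.Chev

open Cfsg.Lie

variable {K : Type*} [Field K] [CharP K 2]

theorem td_pos_form {g : GL chevD4.Idx K} (hg : g ∈ chevD4.posUnipotent K) :
    ∃ x0 x1 x2 x3 x4 x5 x6 x7 x8 x9 x10 x11 : K, g = tdVal [(0, x0), (1, x1), (2, x2), (3, x3), (4, x4), (5, x5),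
      (6, x6), (7, x7), (8, x8), (9, x9), (10, x10), (11, x11)] := by
  obtain ⟨w, hw, rfl⟩ := td_pos_surj hg
  have hlen := tdNf_length w
  rw [← tdNf_prod hw]
  revert hlen
  generalize tdNf w = l
  intro hlen
  rcases l with _ | ⟨x0, _ | ⟨x1, _ | ⟨x2, _ | ⟨x3, _ | ⟨x4, _ | ⟨x5, _ | ⟨x6, _ | ⟨x7, _ | ⟨x8, _ | ⟨x9, _ | ⟨x10, _ | ⟨x11, l⟩⟩⟩⟩⟩⟩⟩⟩⟩⟩⟩⟩ <;>
    simp at hlen
  subst hlen
  exact ⟨x0, x1, x2, x3, x4, x5, x6, x7, x8, x9, x10, x11, by simp [tdProd, tdVal]⟩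

theorem td_top_comm : ∀ w : List (ℕ × K), (∀ x ∈ w, x.1 < 12) → ∀ t : K,
    xg certD4C 23 t * tdVal w = tdVal w * xg certD4C 23 t := by
  intro w
  induction w with
  | nil => intro _ t; simp [tdVal]
  | cons x w ih =>
    intro hw t
    obtain ⟨i, a⟩ := x
    have hi : i < 12 := hw (i, a) (List.mem_cons_self ..)
    have hx : xg certD4C 23 t * xg certD4C (tdRt i) a = xg certD4C (tdRt i) a * xg certD4C 23 t := by
      by_cases h : i = 11
      · subst h
        rw [show tdRt 11 = 23 from rfl, xg_add, xg_add, add_comm]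
      · have hn : ∀ i < 12, tdS 11 i = none := by decide
        have e := td_swap (K := K) (by norm_num : 11 < 12) hi (Ne.symm h) t a
        rw [hn i hi] at e
        simpa [show tdRt 11 = 23 from rfl] using e
    rw [show tdVal ((i, a) :: w) = xg certD4C (tdRt i) a * tdVal w by simp [tdVal], ← mul_assoc, hx, mul_assoc,
      ih (fun y hy => hw y (List.mem_cons_of_mem _ hy)) t, mul_assoc]

variable (f : K →+* K)

theorem tdE_long : tdE f 0 0 0 0 0 1 = xg certD4C 23 (1 : K) := by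
  simp [tdE, tdEW, tdVal, tdRt, tdOrd, xg_zero]

set_option maxHeartbeats 4000000 in
/-- The two representatives are not conjugate. -/
theorem td_not_conj {g : GL chevD4.Idx K} (hg : g ∈ chevD4.group K) :
    g * tdE f 0 0 0 0 0 1 ≠ tdE f 0 0 1 0 0 0 * g := by
  intro e
  rw [tdE_long] at e
  obtain ⟨u, hu, n, hn, v, hv, rfl⟩ := bruhat certD4C fullCertD4 hg
  obtain ⟨w, hw, d, hd, rfl⟩ := (mem_monomial certD4C).1 hn
  obtain ⟨w0, hw0, rfl⟩ := td_pos_surj hv
  obtain ⟨c, hc, hct⟩ := wnu_conj_xg certD4C (F := K) hw (show 23 < chevD4.nroots by decide)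
  obtain ⟨χ, hχ⟩ := diag_conj_xg certD4C hd
  obtain ⟨hχ0, hχt⟩ := hχ 23 (show 23 < chevD4.nroots by decide)
  set s : K := c * (χ 23 * 1) with hs
  have hs0 : s ≠ 0 := mul_ne_zero (left_ne_zero_of_mul (by rw [hc]; exact one_ne_zero)) (by simpa using hχ0)
  have hr := wperm_lt certD4C hw (show 23 < chevD4.nroots by decide)
  set r := wperm tblD4 w 23
  have key : u * xg certD4C r s * u⁻¹ = tdE f 0 0 1 0 0 0 := by
    rw [hs, ← hct, ← hχt]
    have e2 : u * (wnu certD4C K w * d) * xg certD4C 23 1 = tdE f 0 0 1 0 0 0 * (u * (wnu certD4C K w * d)) :=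
      mul_right_cancel (b := tdVal w0) (by rw [mul_assoc, td_top_comm w0 hw0, ← mul_assoc, e]; simp only [mul_assoc])
    calc u * (wnu certD4C K w * (d * xg certD4C 23 1 * d⁻¹) * (wnu certD4C K w)⁻¹) * u⁻¹
        = u * (wnu certD4C K w * d) * xg certD4C 23 1 * (u * (wnu certD4C K w * d))⁻¹ := by group
      _ = _ := by rw [e2, mul_inv_cancel_right]
  have hP : tdE f 0 0 1 0 0 0 ∈ chevD4.posUnipotent K := tdVal_pos (tdEW_lt f _ _ _ _ _ _)
  by_cases hneg : 2 * r < chevD4.nroots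
  · have h1 : xg certD4C r s ∈ chevD4.posUnipotent K := by
      rw [show xg certD4C r s = u⁻¹ * tdE f 0 0 1 0 0 0 * u by rw [← key]; group]
      exact mul_mem (mul_mem (inv_mem hu) hP) hu
    exact hs0 (xg_eq_one certD4C hr ((Subgroup.eq_bot_iff_forall _).1 (borel_inf_neg certD4C) _ ⟨Subgroup.mem_sup_left h1, xg_mem_neg certD4C hr hneg s⟩))
  obtain ⟨i, hi, e'⟩ : ∃ i < 12, tdRt i = r := by
    have hs : ∀ r < 24, ¬ 2 * r < 24 → ∃ i < 12, tdRt i = r := by decide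
    exact hs r hr hneg
  obtain ⟨x0, x1, x2, x3, x4, x5, x6, x7, x8, x9, x10, x11, rfl⟩ := td_pos_form hu
  set v : List (ℕ × K) := [(0, x0), (1, x1), (2, x2), (3, x3), (4, x4), (5, x5), (6, x6), (7, x7), (8, x8), (9, x9),
    (10, x10), (11, x11)] with hv'
  have hv12 : ∀ x ∈ v, x.1 < 12 := by
    intro x hx
    simp only [hv', List.mem_cons, List.not_mem_nil, or_false] at hx
    rcases hx with rfl | rfl | rfl | rfl | rfl | rfl | rfl | rfl | rfl | rfl | rfl | rfl <;> simp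
  have h : tdNf (v ++ [(i, s)]) = tdNf (tdEW f 0 0 1 0 0 0 ++ v) := by
    refine tdNf_unique (fun x hx => ?_) (fun x hx => ?_) ?_
    · exact (List.mem_append.1 hx).elim (hv12 x) fun hx => by simp at hx; subst hx; exact hi
    · exact (List.mem_append.1 hx).elim (tdEW_lt f _ _ _ _ _ _ x) (hv12 x)
    · rw [tdVal_append, tdVal_append, show tdVal [(i, s)] = xg certD4C r s by simp [tdVal, e']]
      exact mul_inv_eq_iff_eq_mul.1 key
  interval_cases i <;> simp [hv', tdEW, tdNf, tdIns, tdS, hs0] at h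

variable [Fintype K]

set_option maxHeartbeats 4000000 in
/-- Exactly two classes of involutions in ³D₄(q), q even. -/
theorem td_two_classes {q : ℕ} (hK : Fintype.card K = q ^ 3) :
    (ConjClasses.mk '' {g : ↥(Cfsg.Lie.twistedD4 K q) | orderOf g = 2}).ncard = 2 := by
  haveI : Fact (Nat.Prime 2) := ⟨Nat.prime_two⟩
  obtain ⟨n, -, hn⟩ := FiniteField.card K 2
  obtain ⟨a, -, rfl⟩ : ∃ a ≤ (n : ℕ), q = 2 ^ a :=
    (Nat.dvd_prime_pow Nat.prime_two).1 (hn ▸ hK ▸ dvd_pow_self q (by norm_num))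
  have ha : a ≠ 0 := by
    rintro rfl
    have := Fintype.one_lt_card (α := K)
    simp [hK] at this
  have hq : IsPrimePow (2 ^ a) := (Nat.prime_two.prime.isPrimePow).pow ha
  obtain ⟨f, hf, hit, hk⟩ := exists_frobQ (K := K) hq (by norm_num : (3 : ℕ) ≠ 0) (by rw [Nat.card_eq_fintype_card]; exact hK)
  have hG : Cfsg.Lie.twistedD4 K (2 ^ a) = tdG f := twistedD4_eq_fixed hK hq hf hit hk
  set h := twSimplyD4.twOK certD4C symOKD4_tri f fullCertD4 twCombD4 with hh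
  have hle : chevD4.posUnipotent K ⊓ tdG f ≤ Cfsg.Lie.twistedD4 K (2 ^ a) := hG ▸ inf_le_right
  have hpos : Nat.card ↥((chevD4.posUnipotent K ⊓ tdG f).subgroupOf (Cfsg.Lie.twistedD4 K (2 ^ a))) =
      (2 ^ a) ^ 12 := by
    rw [Nat.card_congr (Subgroup.subgroupOfEquivOfLe hle).toEquiv,
      h.card_pos_fixed certD4C fullCertD4 twCombD4
        (fun J hJ => twSimplyD4.card_weight certD4C symOKD4_tri f fullCertD4 twCombD4 hq.two_le
          (by rw [Nat.card_eq_fintype_card]; exact hK) hit hJ) one_pos twD4_wt]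
    norm_num [show chevD4.nroots = 24 from rfl]
  have hord := twistedD4_order hq hK
  have hodd : ¬ 2 ∣ ((2 ^ a) ^ 2 - 1) * (((2 ^ a) ^ 6 - 1) * ((2 ^ a) ^ 8 + (2 ^ a) ^ 4 + 1)) := by
    have he : ∀ k ≠ 0, 2 ∣ (2 ^ a) ^ k := fun k hk' => dvd_pow (dvd_pow_self 2 ha) hk'
    have h1 : ∀ k ≠ 0, ¬ 2 ∣ (2 ^ a) ^ k - 1 := fun k hk' => by
      have := he k hk'
      have : 1 ≤ (2 ^ a) ^ k := Nat.one_le_pow _ _ (by positivity)
      omega
    simp only [Nat.prime_two.dvd_mul, not_or]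
    refine ⟨h1 2 (by norm_num), h1 6 (by norm_num), ?_⟩
    have := he 8 (by norm_num)
    have := he 4 (by norm_num)
    omega
  let U : Sylow 2 ↥(Cfsg.Lie.twistedD4 K (2 ^ a)) := Sylow.ofCard _ (by
    rw [hpos, hord, mul_assoc, mul_assoc, Nat.factorization_mul (by positivity) (fun h0 => hodd (by rw [h0]; exact dvd_zero 2)),
      Finsupp.add_apply, Nat.factorization_eq_zero_of_not_dvd hodd, add_zero, ← pow_mul,
      Nat.prime_two.factorization_pow, Finsupp.single_eq_same])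
  have hZ : tdE f 0 0 0 0 0 1 ∈ Cfsg.Lie.twistedD4 K (2 ^ a) :=
    hG.symm ▸ tdE_mem f hk (map_zero f) (map_zero f) (map_one f)
  have hP : tdE f 0 0 1 0 0 0 ∈ Cfsg.Lie.twistedD4 K (2 ^ a) :=
    hG.symm ▸ tdE_mem f hk (map_zero f) (map_zero f) (map_zero f)
  have hZ2 : orderOf (⟨_, hZ⟩ : ↥(Cfsg.Lie.twistedD4 K (2 ^ a))) = 2 := by
    rw [← Subgroup.orderOf_coe]
    show orderOf (tdE f 0 0 0 0 0 1) = 2
    refine orderOf_eq_prime ?_ ?_
    · rw [sq, tdE_long, xg_add, CharTwo.add_self_eq_zero, xg_zero]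
    · rw [tdE_long]; exact fun e => one_ne_zero (xg_eq_one certD4C (show 23 < chevD4.nroots by decide) e)
  have hP2 : orderOf (⟨_, hP⟩ : ↥(Cfsg.Lie.twistedD4 K (2 ^ a))) = 2 := by
    rw [← Subgroup.orderOf_coe]
    show orderOf (tdE f 0 0 1 0 0 0) = 2
    refine orderOf_eq_prime ?_ ?_
    · rw [sq]
      rw [tdE, ← tdVal_append, ← tdNf_prod (fun x hx => (List.mem_append.1 hx).elim (tdEW_lt f _ _ _ _ _ _ x)
        (tdEW_lt f _ _ _ _ _ _ x)), show (1 : GL chevD4.Idx K) = tdVal ([] : List (ℕ × K)) by simp [tdVal],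
        ← tdNf_prod (w := ([] : List (ℕ × K))) (by simp)]
      congr 1
      simp [tdEW, tdNf, tdIns, tdS, CharTwo.add_self_eq_zero]
    · intro e
      have := tdNf_unique (tdEW_lt f 0 0 1 0 0 0) (v := ([] : List (ℕ × K))) (by simp)
        (by rw [show tdVal (tdEW f 0 0 1 0 0 0) = tdE f 0 0 1 0 0 0 from rfl, e]; simp [tdVal])
      simp [tdEW, tdNf, tdIns, tdS] at this
  set Z : ↥(Cfsg.Lie.twistedD4 K (2 ^ a)) := ⟨_, hZ⟩
  set P : ↥(Cfsg.Lie.twistedD4 K (2 ^ a)) := ⟨_, hP⟩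
  have hne : ConjClasses.mk Z ≠ ConjClasses.mk P := by
    intro e
    obtain ⟨g, hg⟩ := isConj_iff.1 (ConjClasses.mk_eq_mk_iff_isConj.1 e)
    rw [mul_inv_eq_iff_eq_mul] at hg
    exact td_not_conj f (hG ▸ g.2 : (g : GL chevD4.Idx K) ∈ tdG f).1 (congrArg Subtype.val hg)
  have himg : ConjClasses.mk '' {g : ↥(Cfsg.Lie.twistedD4 K (2 ^ a)) | orderOf g = 2} =
      {ConjClasses.mk Z, ConjClasses.mk P} := by
    refine Set.Subset.antisymm ?_ ?_
    swap
    · rintro c (rfl | rfl)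
      · exact ⟨Z, hZ2, rfl⟩
      · exact ⟨P, hP2, rfl⟩
    rintro c ⟨g, hg, rfl⟩
    obtain ⟨S, hS⟩ := (IsPGroup.of_card (n := 1) (by rw [Nat.card_zpowers, hg, pow_one]) :
      IsPGroup 2 ↥(Subgroup.zpowers g)).exists_le_sylow
    obtain ⟨x, hx⟩ := MulAction.exists_smul_eq ↥(Cfsg.Lie.twistedD4 K (2 ^ a)) S U
    have hgx : x * g * x⁻¹ ∈ (U : Subgroup _) := by
      rw [← hx, Sylow.coe_subgroup_smul, Subgroup.mem_pointwise_smul_iff_inv_smul_mem]
      simpa [mul_assoc] using hS (Subgroup.mem_zpowers g)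
    obtain ⟨hu, huG⟩ : ((x * g * x⁻¹ : ↥(Cfsg.Lie.twistedD4 K (2 ^ a))) : GL chevD4.Idx K) ∈
        chevD4.posUnipotent K ⊓ tdG f := hgx
    have hord' : orderOf (x * g * x⁻¹) = 2 := by
      exact ((SemiconjBy.conj_mk x g).orderOf_eq).symm.trans hg
    have hsq : (x * g * x⁻¹) * (x * g * x⁻¹) = 1 := by
      have e := pow_orderOf_eq_one (x * g * x⁻¹)
      rwa [hord', sq] at e
    have hgood := td_classify f hk huG hu (congrArg Subtype.val hsq) fun e => by
      rw [show x * g * x⁻¹ = 1 from Subtype.ext e, orderOf_one] at hord'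
      exact absurd hord' (by norm_num)
    have hc : ∀ (w : ↥(Cfsg.Lie.twistedD4 K (2 ^ a))),
        TdCj f ((x * g * x⁻¹ : ↥(Cfsg.Lie.twistedD4 K (2 ^ a))) : GL chevD4.Idx K) w →
          ConjClasses.mk g = ConjClasses.mk w := by
      rintro w ⟨y, hy, ey⟩
      refine ConjClasses.mk_eq_mk_iff_isConj.2 (IsConj.trans (isConj_iff.2 ⟨x, rfl⟩) ?_)
      exact isConj_iff.2 ⟨⟨y, hG.symm ▸ hy⟩, mul_inv_eq_iff_eq_mul.2 (Subtype.ext ey)⟩
    rcases hgood with hl | hl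
    · exact Or.inl (hc Z hl)
    · exact Or.inr (hc P hl)
  rw [himg, Set.ncard_pair hne]

end Cfsg.Lib.Chev
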