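import Cfsg.Agent.Lib.Chev.TwD4

/-! Collection in the positive unipotent group of type D4 in characteristic two, by height. -/

set_option autoImplicit false
set_option maxRecDepth 100000

namespace Cfsg.Lib.Chev

open Cfsg.Lie

/-- The positive roots of type D4 ordered by height, orbit by orbit. -/
def tdOrd : List ℕ := [18, 13, 12, 14, 19, 16, 15, 20, 21, 17, 22, 23]

/-- The root in a position. -/
def tdRt (i : ℕ) : ℕ := tdOrd.getD i 0

/-- The position of the sum of the roots in two positions. -/
def tdS : ℕ → ℕ → Option ℕ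
  | 0, 3 => some 4
  | 3, 0 => some 4
  | 1, 3 => some 5
  | 3, 1 => some 5
  | 2, 3 => some 6
  | 3, 2 => some 6
  | 0, 5 => some 8
  | 5, 0 => some 8
  | 0, 6 => some 7
  | 6, 0 => some 7
  | 1, 4 => some 8
  | 4, 1 => some 8
  | 1, 6 => some 9
  | 6, 1 => some 9
  | 2, 4 => some 7
  | 4, 2 => some 7
  | 2, 5 => some 9
  | 5, 2 => some 9
  | 0, 9 => some 10
  | 9, 0 => some 10
  | 1, 7 => some 10
  | 7, 1 => some 10
  | 2, 8 => some 10
  | 8, 2 => some 10
  | 3, 10 => some 11
  | 10, 3 => some 11
  | 4, 9 => some 11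
  | 9, 4 => some 11
  | 5, 7 => some 11
  | 7, 5 => some 11
  | 6, 8 => some 11
  | 8, 6 => some 11
  | _, _ => none

/-- The table of sums is the table of the datum. -/
noncomputable def chkTdS : Bool :=
  allBelow (fun i => allBelow (fun j => Nat.beq i j || (!Nat.beq (tdRt j) (tblD4.neg (tdRt i)) &&
    ((tTerms tblD4 (tdRt i) (tdRt j)).map (fun c => (c.1, c.2.1.natAbs, c.2.2.1, c.2.2.2)) ==
        (match tdS i j with | some k => [(tdRt k, 1, 1, 1)] | none => []) &&
      (match tdS i j with | some k => Nat.blt i k && (Nat.blt j k && Nat.blt k 12) | none => true)))) 12) 12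

theorem chkTdS_ok : chkTdS = true := by decide +kernel

variable {K : Type*} [Field K] [CharP K 2]

theorem td_cast_int (z : ℤ) (hz : z.natAbs = 1) : (z : K) = 1 := by
  rcases Int.natAbs_eq_iff.1 hz with h | h <;> subst h <;> simp [CharTwo.neg_eq]

theorem td_lt {i : ℕ} (hi : i < 12) : tdRt i < chevD4.nroots := by
  have h : ∀ i < 12, tdRt i < 24 := by decide
  exact h i hi

/-- Two root elements out of order. -/
theorem td_swap {i j : ℕ} (hi : i < 12) (hj : j < 12) (hne : i ≠ j) (a b : K) :
    xg certD4C (tdRt i) a * xg certD4C (tdRt j) b = xg certD4C (tdRt j) b * xg certD4C (tdRt i) a *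
      (match tdS i j with | some k => xg certD4C (tdRt k) (b * a) | none => 1) := by
  have hc := chkTdS_ok
  simp only [chkTdS, allBelow_iff, Bool.or_eq_true, Bool.and_eq_true, Nat.beq_eq, Bool.not_eq_true',
    beq_iff_eq] at hc
  obtain ⟨hn, he, -⟩ := (hc j hj i hi).resolve_left (Ne.symm hne)
  have hn' : tdRt i ≠ tblD4.neg (tdRt j) := fun e => by
    rw [e] at hn
    have h1 : Nat.beq (tblD4.neg (tdRt j)) (tblD4.neg (tdRt j)) = true := Nat.beq_eq ▸ rfl
    rw [h1] at hn
    exact Bool.noConfusion hn
  have h := comm_formula fullCertD4.comm (F := K) (td_lt hj) (td_lt hi) (fun e => by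
      have : ∀ a < 12, ∀ b < 12, tdRt a = tdRt b → a = b := by decide
      exact hne (this i hi j hj e)) hn' b a
  rw [ChevalleyDatum.commWord, commTerms_eq certD4C (td_lt hj) (td_lt hi)] at h
  refine Units.ext ?_
  have hsym : tdS j i = tdS i j := by
    have : ∀ a < 12, ∀ b < 12, tdS a b = tdS b a := by decide
    exact this j hj i hi
  rw [hsym] at he
  cases hk : tdS i j with
  | none =>
    rw [hk] at he
    simp only [List.map_eq_nil_iff] at he
    rw [he] at h
    simpa [ChevalleyDatum.wordMat, coe_xg] using h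
  | some k =>
    rw [hk] at he
    obtain ⟨c, hl, hc1⟩ : ∃ c, tTerms tblD4 (tdRt j) (tdRt i) = [c] ∧
        (c.1, c.2.1.natAbs, c.2.2.1, c.2.2.2) = (tdRt k, 1, 1, 1) := by
      obtain ⟨c, l', hl, hc', hnil⟩ := List.map_eq_cons_iff.1 he
      exact ⟨c, by rw [hl, List.map_eq_nil_iff.1 hnil], hc'⟩
    obtain ⟨c1, c2, c3, c4⟩ := c
    simp only [Prod.mk.injEq] at hc1
    obtain ⟨rfl, hz, rfl, rfl⟩ := hc1
    rw [hl] at h
    simpa [ChevalleyDatum.wordMat, coe_xg, td_cast_int c2 hz, CharTwo.neg_eq] using h

/-- Insert a root element from the left into an ordered product starting at position `j`. -/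
def tdIns : ℕ → ℕ → K → ℕ → List K → List K
  | 0, _, _, _, l => l
  | _, _, _, _, [] => []
  | n + 1, i, a, j, b :: l =>
    if i = j then (a + b) :: l
    else b :: tdIns n i a (j + 1) (match tdS i j with
      | some k => tdIns n k (b * a) (j + 1) l
      | none => l)

/-- The ordered product of a list of parameters starting at a position. -/
noncomputable def tdProd : ℕ → List K → GL chevD4.Idx K
  | _, [] => 1
  | j, b :: l => xg certD4C (tdRt j) b * tdProd (j + 1) l

omit [CharP K 2] in
theorem tdIns_length : ∀ (n i : ℕ) (a : K) (j : ℕ) (l : List K), (tdIns n i a j l).length = l.length := by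
  intro n
  induction n with
  | zero => intros; rfl
  | succ n ih =>
    intro i a j l
    cases l with
    | nil => rfl
    | cons b l =>
      rw [tdIns]
      split_ifs
      · rfl
      · rw [List.length_cons, List.length_cons, ih]
        cases tdS i j with
        | none => rfl
        | some k => simp only; rw [ih]

theorem tdIns_prod : ∀ (n i : ℕ) (a : K) (j : ℕ) (l : List K), l.length ≤ n → j + l.length = 12 → j ≤ i → i < 12 →
    tdProd j (tdIns n i a j l) = xg certD4C (tdRt i) a * tdProd j l := by
  intro n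
  induction n with
  | zero => intro i a j l h1 h2 h3 h4; omega
  | succ n ih =>
    intro i a j l h1 h2 h3 h4
    cases l with
    | nil => simp at h2; omega
    | cons b l =>
      simp only [List.length_cons] at h1 h2
      rw [tdIns]
      split_ifs with hij
      · subst hij
        rw [tdProd, tdProd, ← mul_assoc, xg_add]
      · rw [tdProd, tdProd]
        have hs := td_swap (K := K) h4 (show j < 12 by omega) hij a b
        cases hk : tdS i j with
        | none =>
          rw [hk] at hs
          simp only [mul_one] at hs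
          rw [ih i a (j + 1) l (by omega) (by omega) (by omega) h4, ← mul_assoc, ← hs, mul_assoc]
        | some k =>
          rw [hk] at hs
          have hb : ∀ a < 12, ∀ b < 12, ∀ k, tdS a b = some k → b < k ∧ k < 12 := by
            intro a ha b hb k hk'
            have hc := chkTdS_ok
            simp only [chkTdS, allBelow_iff, Bool.or_eq_true, Bool.and_eq_true, Nat.beq_eq] at hc
            have hne : a ≠ b := by
              rintro rfl
              have : ∀ a < 12, tdS a a = none := by decide
              rw [this a ha] at hk'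
              exact absurd hk' (by simp)
            obtain ⟨-, -, h5⟩ := (hc a ha b hb).resolve_left hne
            rw [hk'] at h5
            simp only [Bool.and_eq_true] at h5
            exact ⟨Nat.blt_eq ▸ h5.2.1, Nat.blt_eq ▸ h5.2.2⟩
          obtain ⟨hjk, hk12⟩ := hb i h4 j (by omega) k hk
          simp only
          rw [ih i a (j + 1) _ (by rw [tdIns_length]; omega) (by rw [tdIns_length]; omega) (by omega) h4,
            ih k (b * a) (j + 1) l (by omega) (by omega) (by omega) hk12, ← mul_assoc (xg certD4C (tdRt j) b),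
            ← mul_assoc (xg certD4C (tdRt i) a), hs]
          simp only [mul_assoc]

/-- Normal form of a word of root elements given by positions. -/
def tdNf : List (ℕ × K) → List K
  | [] => [0, 0, 0, 0, 0, 0, 0, 0, 0, 0, 0, 0]
  | (i, a) :: w => tdIns 12 i a 0 (tdNf w)

/-- The value of a word. -/
noncomputable def tdVal (w : List (ℕ × K)) : GL chevD4.Idx K :=
  (w.map fun p => xg certD4C (tdRt p.1) p.2).prod

omit [CharP K 2] in
theorem tdVal_append (v w : List (ℕ × K)) : tdVal (v ++ w) = tdVal v * tdVal w := by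
  simp [tdVal]

omit [CharP K 2] in
theorem tdNf_length (w : List (ℕ × K)) : (tdNf w).length = 12 := by
  induction w with
  | nil => rfl
  | cons p w ih => obtain ⟨i, a⟩ := p; rw [tdNf, tdIns_length, ih]

theorem tdNf_prod {w : List (ℕ × K)} (hw : ∀ p ∈ w, p.1 < 12) : tdProd 0 (tdNf w) = tdVal w := by
  induction w with
  | nil => simp [tdNf, tdProd, tdVal, xg_zero]
  | cons p w ih =>
    obtain ⟨i, a⟩ := p
    rw [tdNf, tdIns_prod 12 i a 0 _ (by rw [tdNf_length]) (by rw [tdNf_length]) (Nat.zero_le _)
      (hw (i, a) (List.mem_cons_self ..)), ih fun q hq => hw q (List.mem_cons_of_mem _ hq)]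
    simp [tdVal]

omit [CharP K 2] in
theorem tdProd_lprod : ∀ (l : List K) (j : ℕ), j + l.length = 12 → ∀ t : ℕ → K,
    (∀ m < l.length, t (tdRt (j + m)) = l.getD m 0) →
      tdProd j l = lprod certD4C ((List.range' j l.length).map tdRt) t := by
  intro l
  induction l with
  | nil => intro j _ t _; rfl
  | cons b l ih =>
    intro j hj t ht
    simp only [List.length_cons] at hj ht
    rw [tdProd, List.length_cons, List.range'_succ, List.map_cons, lprod_cons,
      ih (j + 1) (by omega) t fun m hm => by
        have := ht (m + 1) (by omega)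
        rwa [List.getD_cons_succ, show j + (m + 1) = j + 1 + m by omega] at this]
    have := ht 0 (by omega)
    rw [List.getD_cons_zero, add_zero] at this
    rw [this]

/-- The parameters are determined by the product. -/
theorem tdProd_inj {v w : List K} (hv : v.length = 12) (hw : w.length = 12) (h : tdProd 0 v = tdProd 0 w) :
    v = w := by
  have hinj : ∀ i < 12, ∀ j < 12, tdRt i = tdRt j → i = j := by decide
  let t : List K → ℕ → K := fun l r => l.getD (tdOrd.idxOf r) 0
  have hidx : ∀ m < 12, tdOrd.idxOf (tdRt m) = m := by decide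
  have e : ∀ l : List K, l.length = 12 → tdProd 0 l = lprod certD4C tdOrd (t l) := by
    intro l hl
    rw [tdProd_lprod l 0 (by omega) (t l) fun m hm => by
      rw [zero_add]; show l.getD (tdOrd.idxOf (tdRt m)) 0 = _; rw [hidx m (by omega)], hl]
    rfl
  rw [e v hv, e w hw] at h
  have := lprod_inj certD4C fullCertD4.comm (by decide)
    (by
      have hall : ∀ r ∈ tdOrd, 12 ≤ r ∧ r < 24 := by decide
      exact hall) h
  refine List.ext_getElem (by omega) fun m hm hm' => ?_
  have hmem : ∀ m < 12, tdRt m ∈ tdOrd := by decide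
  have h2 := this (tdRt m) (hmem m (by omega))
  simp only [t, hidx m (by omega)] at h2
  rwa [List.getD_eq_getElem _ _ hm, List.getD_eq_getElem _ _ hm'] at h2

theorem tdNf_unique {w : List (ℕ × K)} (hw : ∀ p ∈ w, p.1 < 12) {v : List (ℕ × K)} (hv : ∀ p ∈ v, p.1 < 12)
    (h : tdVal w = tdVal v) : tdNf w = tdNf v :=
  tdProd_inj (tdNf_length w) (tdNf_length v) (by rw [tdNf_prod hw, tdNf_prod hv, h])

/-- An element in normal form. -/
def tdWord (x : List K) : List (ℕ × K) := (List.range 12).map fun i => (i, x.getD i 0)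

omit [CharP K 2] in
theorem tdWord_lt (x : List K) : ∀ p ∈ tdWord x, p.1 < 12 := by
  intro p hp
  obtain ⟨i, hi, rfl⟩ := List.mem_map.1 hp
  exact List.mem_range.1 hi

/-- Every positive element has a normal form. -/
theorem td_pos_surj {g : GL chevD4.Idx K} (hg : g ∈ chevD4.posUnipotent K) :
    ∃ w : List (ℕ × K), (∀ p ∈ w, p.1 < 12) ∧ tdVal w = g := by
  rw [posUnipotent_eq certD4C, upper] at hg
  induction hg using Subgroup.closure_induction'' with
  | mem a ha =>
    obtain ⟨r, t, h1, h2, rfl⟩ := ha
    have hs : ∀ r < 24, 12 ≤ r → ∃ i < 12, tdRt i = r := by decide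
    obtain ⟨i, hi, rfl⟩ := hs r h2 h1
    exact ⟨[(i, t)], fun p hp => by simp at hp; subst hp; exact hi, by simp [tdVal]⟩
  | inv_mem a ha =>
    obtain ⟨r, t, h1, h2, rfl⟩ := ha
    have hs : ∀ r < 24, 12 ≤ r → ∃ i < 12, tdRt i = r := by decide
    obtain ⟨i, hi, rfl⟩ := hs r h2 h1
    exact ⟨[(i, -t)], fun p hp => by simp at hp; subst hp; exact hi, by simp [tdVal, xg_inv]⟩
  | one => exact ⟨[], by simp, rfl⟩
  | mul a b _ _ iha ihb =>
    obtain ⟨v, hv, rfl⟩ := iha
    obtain ⟨w, hw, rfl⟩ := ihb
    exact ⟨v ++ w, fun p hp => (List.mem_append.1 hp).elim (hv p) (hw p), tdVal_append v w⟩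

end Cfsg.Lib.Chev
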