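import Cfsg.Agent.Lib.Chev.TrialityCollect
import Cfsg.Agent.Lib.Chev.TrialityLang

/-! The two classes of involutions of ³D₄(q) for even q. -/

set_option autoImplicit false
set_option maxRecDepth 100000
set_option linter.unusedSectionVars false

namespace Cfsg.Lib.Chev

open Cfsg.Lie

variable {K : Type*} [Field K] [CharP K 2] (f : K →+* K)

/-- The fixed group of the triality twist. -/
noncomputable abbrev tdG : Subgroup (GL chevD4.Idx K) :=
  (twSimplyD4.twOK certD4C symOKD4_tri f fullCertD4 twCombD4).fixed certD4C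

/-- The word of a fixed positive element. -/
def tdEW (a b p q c z : K) : List (ℕ × K) :=
  [(0, a), (1, f a), (2, f (f a)), (3, b), (4, p), (5, f p), (6, f (f p)), (7, q), (8, f q), (9, f (f q)),
    (10, c), (11, z)]

/-- A fixed positive element. -/
noncomputable def tdE (a b p q c z : K) : GL chevD4.Idx K := tdVal (tdEW f a b p q c z)

theorem tdEW_lt (a b p q c z : K) : ∀ x ∈ tdEW f a b p q c z, x.1 < 12 := by
  intro x hx
  simp only [tdEW, List.mem_cons, List.not_mem_nil, or_false] at hx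
  rcases hx with rfl | rfl | rfl | rfl | rfl | rfl | rfl | rfl | rfl | rfl | rfl | rfl <;> simp

theorem tdNf_EW (a b p q c z : K) :
    tdNf (tdEW f a b p q c z) = [a, f a, f (f a), b, p, f p, f (f p), q, f q, f (f q), c, z] := by
  simp [tdEW, tdNf, tdIns, tdS]

/-- The permutation of the positions by triality. -/
def tdPi (i : ℕ) : ℕ := [1, 2, 0, 3, 5, 6, 4, 8, 9, 7, 10, 11].getD i 0

theorem td_sigma : ∀ w : List (ℕ × K), (∀ x ∈ w, x.1 < 12) →
    twSigma symOKD4_tri f (tdVal w) = tdVal (w.map fun x => (tdPi x.1, f x.2)) := by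
  intro w
  induction w with
  | nil => intro _; simp [tdVal, twSigma_one symOKD4_tri f]
  | cons x w ih =>
    intro hw
    obtain ⟨i, t⟩ := x
    have hi : i < 12 := hw (i, t) (List.mem_cons_self ..)
    have hroot : ∀ i < 12, symD4_3.root (tdRt i) = tdRt (tdPi i) := by decide
    have heps : ∀ i < 12, (symD4_3.eps (tdRt i)).natAbs = 1 := by decide
    rw [show tdVal ((i, t) :: w) = xg certD4C (tdRt i) t * tdVal w by simp [tdVal],
      twSigma_mul, twSigma_xg certD4C symOKD4_tri f (td_lt hi), td_cast_int _ (heps i hi), one_mul, hroot i hi,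
      ih fun y hy => hw y (List.mem_cons_of_mem _ hy)]
    simp [tdVal]

theorem tdVal_group (w : List (ℕ × K)) : tdVal w ∈ chevD4.group K :=
  list_prod_mem fun g hg => by
    obtain ⟨x, -, rfl⟩ := List.mem_map.1 hg
    exact xg_mem_group certD4C _ _

theorem tdVal_pos {w : List (ℕ × K)} (hw : ∀ x ∈ w, x.1 < 12) : tdVal w ∈ chevD4.posUnipotent K :=
  list_prod_mem fun g hg => by
    obtain ⟨x, hx, rfl⟩ := List.mem_map.1 hg
    have h : ∀ i < 12, tdRt i < 24 ∧ 24 ≤ 2 * tdRt i := by decide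
    exact xg_mem_pos certD4C (h _ (hw x hx)).1 (h _ (hw x hx)).2 _

variable (hk : ∀ t, f^[3] t = t)
include hk

theorem td_f3 (t : K) : f (f (f t)) = t := hk t

theorem tdE_mem {a b p q c z : K} (hb : f b = b) (hc : f c = c) (hz : f z = z) :
    tdE f a b p q c z ∈ tdG f := by
  refine ⟨tdVal_group _, ?_⟩
  rw [tdE, td_sigma f _ (tdEW_lt f a b p q c z)]
  have hw : ∀ x ∈ (tdEW f a b p q c z).map (fun x => (tdPi x.1, f x.2)), x.1 < 12 := by
    intro x hx
    obtain ⟨y, hy, rfl⟩ := List.mem_map.1 hx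
    have h : ∀ i < 12, tdPi i < 12 := by decide
    exact h _ (tdEW_lt f a b p q c z y hy)
  rw [← tdNf_prod hw, ← tdNf_prod (tdEW_lt f a b p q c z)]
  congr 1
  rw [tdNf_EW]
  simp [tdEW, tdPi, tdNf, tdIns, tdS, hb, hc, hz, td_f3 f hk]

set_option maxHeartbeats 2000000 in
/-- The shape of a fixed positive element. -/
theorem td_shape {g : GL chevD4.Idx K} (hg : g ∈ tdG f) (hp : g ∈ chevD4.posUnipotent K) :
    ∃ a b p q c z, f b = b ∧ f c = c ∧ f z = z ∧ g = tdE f a b p q c z := by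
  obtain ⟨w, hw, rfl⟩ := td_pos_surj hp
  have hlen := tdNf_length w
  obtain ⟨x0, x1, x2, x3, x4, x5, x6, x7, x8, x9, x10, x11, e⟩ : ∃ x0 x1 x2 x3 x4 x5 x6 x7 x8 x9 x10 x11,
      tdNf w = [x0, x1, x2, x3, x4, x5, x6, x7, x8, x9, x10, x11] := by
    rcases h : tdNf w with _ | ⟨x0, _ | ⟨x1, _ | ⟨x2, _ | ⟨x3, _ | ⟨x4, _ | ⟨x5, _ | ⟨x6, _ | ⟨x7, _ | ⟨x8, _ | ⟨x9, _ | ⟨x10, _ | ⟨x11, l⟩⟩⟩⟩⟩⟩⟩⟩⟩⟩⟩⟩ <;>
      rw [h] at hlen <;> simp at hlen
    subst hlen
    exact ⟨x0, x1, x2, x3, x4, x5, x6, x7, x8, x9, x10, x11, rfl⟩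
  set v : List (ℕ × K) := [(0, x0), (1, x1), (2, x2), (3, x3), (4, x4), (5, x5), (6, x6), (7, x7), (8, x8), (9, x9),
    (10, x10), (11, x11)] with hv
  have hv12 : ∀ x ∈ v, x.1 < 12 := by
    intro x hx
    simp only [hv, List.mem_cons, List.not_mem_nil, or_false] at hx
    rcases hx with rfl | rfl | rfl | rfl | rfl | rfl | rfl | rfl | rfl | rfl | rfl | rfl <;> simp
  have hnv : tdNf v = tdNf w := by rw [e]; simp [hv, tdNf, tdIns, tdS]
  have hval : tdVal w = tdVal v := by rw [← tdNf_prod hw, ← tdNf_prod hv12, hnv]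
  have hfix : twSigma symOKD4_tri f (tdVal v) = tdVal v := hval ▸ hg.2
  rw [td_sigma f v hv12] at hfix
  have h := tdNf_unique (w := v.map fun x => (tdPi x.1, f x.2)) (fun x hx => by
    obtain ⟨y, hy, rfl⟩ := List.mem_map.1 hx
    have h : ∀ i < 12, tdPi i < 12 := by decide
    exact h _ (hv12 y hy)) hv12 hfix
  simp [hv, tdPi, tdNf, tdIns, tdS] at h
  obtain ⟨-, h1, h2, h3, -, h5, h6, -, h8, h9, h10, h11⟩ := h
  refine ⟨x0, x3, x4, x7, x10, x11, h3, h10, h11, ?_⟩
  rw [hval, tdE, hv, tdEW, ← h2, ← h1, ← h6, ← h5, ← h9, ← h8]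

/-- Conjugacy in the fixed group. -/
def TdCj (u v : GL chevD4.Idx K) : Prop := ∃ g ∈ tdG f, g * u = v * g

omit hk in
theorem TdCj.trans {u v w : GL chevD4.Idx K} (h : TdCj f u v) (h' : TdCj f v w) : TdCj f u w := by
  obtain ⟨g, hg, e⟩ := h
  obtain ⟨g', hg', e'⟩ := h'
  exact ⟨g' * g, mul_mem hg' hg, by rw [mul_assoc, e, ← mul_assoc, e', mul_assoc]⟩

omit hk in
theorem TdCj.symm {u v : GL chevD4.Idx K} (h : TdCj f u v) : TdCj f v u := by
  obtain ⟨g, hg, e⟩ := h
  exact ⟨g⁻¹, inv_mem hg, by rw [inv_mul_eq_iff_eq_mul, ← mul_assoc, e, mul_inv_cancel_right]⟩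

omit hk in
theorem TdCj.sq {u v : GL chevD4.Idx K} (h : TdCj f u v) (hu : u * u = 1) : v * v = 1 := by
  obtain ⟨g, -, e⟩ := h
  have hv : v = g * u * g⁻¹ := by rw [e, mul_inv_cancel_right]
  rw [hv, show g * u * g⁻¹ * (g * u * g⁻¹) = g * (u * u) * g⁻¹ by group, hu, mul_one, mul_inv_cancel]

/-- A move by a positive element. -/
theorem td_step {a b p q c z a0 b0 p0 q0 c0 z0 : K} (hb : f b = b) (hc : f c = c) (hz : f z = z)
    (hb0 : f b0 = b0) (hc0 : f c0 = c0) (hz0 : f z0 = z0) :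
    ∃ a' b' p' q' c' z', f b' = b' ∧ f c' = c' ∧ f z' = z' ∧
      TdCj f (tdE f a b p q c z) (tdE f a' b' p' q' c' z') ∧
      tdNf (tdEW f a0 b0 p0 q0 c0 z0 ++ tdEW f a b p q c z) =
        tdNf (tdEW f a' b' p' q' c' z' ++ tdEW f a0 b0 p0 q0 c0 z0) := by
  have hg := tdE_mem f hk (a := a0) (p := p0) (q := q0) hb0 hc0 hz0
  have hu := tdE_mem f hk (a := a) (p := p) (q := q) hb hc hz
  have hgp := tdVal_pos (tdEW_lt f a0 b0 p0 q0 c0 z0)
  have hup := tdVal_pos (tdEW_lt f a b p q c z)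
  obtain ⟨a', b', p', q', c', z', h1, h2, h3, e⟩ := td_shape f hk (mul_mem (mul_mem hg hu) (inv_mem hg))
    (mul_mem (mul_mem hgp hup) (inv_mem hgp))
  have e' : tdE f a0 b0 p0 q0 c0 z0 * tdE f a b p q c z = tdE f a' b' p' q' c' z' * tdE f a0 b0 p0 q0 c0 z0 := by
    rw [← e, inv_mul_cancel_right]
  refine ⟨a', b', p', q', c', z', h1, h2, h3, ⟨_, hg, e'⟩, ?_⟩
  refine tdNf_unique (fun x hx => ?_) (fun x hx => ?_) (by rw [tdVal_append, tdVal_append]; exact e')
  · exact (List.mem_append.1 hx).elim (tdEW_lt f _ _ _ _ _ _ x) (tdEW_lt f _ _ _ _ _ _ x)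
  · exact (List.mem_append.1 hx).elim (tdEW_lt f _ _ _ _ _ _ x) (tdEW_lt f _ _ _ _ _ _ x)

/-- A move by a monomial element. -/
theorem td_move {a b p q c z : K} (hb : f b = b) (hc : f c = c) (hz : f z = z) {n : GL chevD4.Idx K}
    (hn : n ∈ tdG f) {w : List (ℕ × K)} (hw : ∀ x ∈ w, x.1 < 12)
    (e : n * tdE f a b p q c z * n⁻¹ = tdVal w) :
    ∃ a' b' p' q' c' z', f b' = b' ∧ f c' = c' ∧ f z' = z' ∧
      TdCj f (tdE f a b p q c z) (tdE f a' b' p' q' c' z') ∧
      [a', f a', f (f a'), b', p', f p', f (f p'), q', f q', f (f q'), c', z'] = tdNf w := by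
  have hu := tdE_mem f hk (a := a) (p := p) (q := q) hb hc hz
  obtain ⟨a', b', p', q', c', z', h1, h2, h3, e'⟩ := td_shape f hk (mul_mem (mul_mem hn hu) (inv_mem hn))
    (e ▸ tdVal_pos hw)
  refine ⟨a', b', p', q', c', z', h1, h2, h3, ⟨n, hn, by rw [← e', inv_mul_cancel_right]⟩, ?_⟩
  rw [← tdNf_EW f]
  exact tdNf_unique (tdEW_lt f _ _ _ _ _ _) hw (e'.symm.trans e)

omit hk in
theorem td_conj_val (n : GL chevD4.Idx K) (g : ℕ → ℕ) (s : ℕ → K) : ∀ w : List (ℕ × K),
    (∀ x ∈ w, x.2 = 0 ∨ n * xg certD4C (tdRt x.1) x.2 * n⁻¹ = xg certD4C (tdRt (g x.1)) (s x.1 * x.2)) →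
    n * tdVal w * n⁻¹ = tdVal ((w.map fun x => (g x.1, s x.1 * x.2))) := by
  intro w
  induction w with
  | nil => intro _; simp [tdVal]
  | cons x w ih =>
    intro hw
    have h1 : n * xg certD4C (tdRt x.1) x.2 * n⁻¹ = xg certD4C (tdRt (g x.1)) (s x.1 * x.2) := by
      rcases hw x (List.mem_cons_self ..) with h | h
      · simp [h, xg_zero]
      · exact h
    rw [show tdVal (x :: w) = xg certD4C (tdRt x.1) x.2 * tdVal w by simp [tdVal],
      show tdVal ((x :: w).map fun x => (g x.1, s x.1 * x.2)) = xg certD4C (tdRt (g x.1)) (s x.1 * x.2) *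
        tdVal (w.map fun x => (g x.1, s x.1 * x.2)) by simp [tdVal],
      ← h1, ← ih fun y hy => hw y (List.mem_cons_of_mem _ hy)]
    group

omit hk in
theorem td_nu_conj {i : ℕ} (hi : i < 4) {r : ℕ} (hr : r < 24) (t : K) :
    nu certD4C i * xg certD4C r t * (nu certD4C i)⁻¹ = xg certD4C (tblD4.refl' i r) t := by
  have h : ∀ i < 4, ∀ r < 24, (tblD4.eta' i r).natAbs = 1 := by decide +kernel
  rw [nu_conj_xg certD4C hi hr, td_cast_int _ (h i hi r hr), one_mul]

/-- The images of the positions under the two reflections. -/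
def tdNb (i : ℕ) : ℕ := [4, 5, 6, 3, 0, 1, 2, 7, 8, 9, 11, 10].getD i 0

/-- The images of the positions under the other reflection. -/
def tdNa (i : ℕ) : ℕ := [0, 1, 2, 10, 9, 7, 8, 5, 6, 4, 3, 11].getD i 0

theorem td_move_b {a p q c z : K} (hc : f c = c) (hz : f z = z) :
    ∃ a' b' p' q' c' z', f b' = b' ∧ f c' = c' ∧ f z' = z' ∧
      TdCj f (tdE f a 0 p q c z) (tdE f a' b' p' q' c' z') ∧
      [a', f a', f (f a'), b', p', f p', f (f p'), q', f q', f (f q'), c', z'] =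
        tdNf ((tdEW f a 0 p q c z).map fun x => (tdNb x.1, 1 * x.2)) := by
  have hn : nu certD4C 1 ∈ tdG f := by
    refine ⟨?_, ?_⟩
    · exact ng_mem_group certD4C _ _
    · rw [twSigma_nu certD4C symOKD4_tri f (by decide : 1 < chevD4.rank)]; rfl
  refine td_move f hk (map_zero f) hc hz hn (fun x hx => ?_) (td_conj_val _ tdNb (fun _ => 1) _ fun x hx => ?_)
  · obtain ⟨y, hy, rfl⟩ := List.mem_map.1 hx
    have h : ∀ i < 12, tdNb i < 12 := by decide
    exact h _ (tdEW_lt f _ _ _ _ _ _ y hy)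
  · have h : ∀ i < 12, i ≠ 3 → tblD4.refl' 1 (tdRt i) = tdRt (tdNb i) := by decide +kernel
    by_cases h3 : x.1 = 3
    · left
      simp only [tdEW, List.mem_cons, List.not_mem_nil, or_false] at hx
      rcases hx with rfl | rfl | rfl | rfl | rfl | rfl | rfl | rfl | rfl | rfl | rfl | rfl <;> simp_all
    · right
      rw [td_nu_conj (by norm_num) (td_lt (tdEW_lt f _ _ _ _ _ _ x hx)), h _ (tdEW_lt f _ _ _ _ _ _ x hx) h3, one_mul]

theorem td_move_a {b p q c z : K} (hb : f b = b) (hc : f c = c) (hz : f z = z) :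
    ∃ a' b' p' q' c' z', f b' = b' ∧ f c' = c' ∧ f z' = z' ∧
      TdCj f (tdE f 0 b p q c z) (tdE f a' b' p' q' c' z') ∧
      [a', f a', f (f a'), b', p', f p', f (f p'), q', f q', f (f q'), c', z'] =
        tdNf ((tdEW f 0 b p q c z).map fun x => (tdNa x.1, 1 * x.2)) := by
  obtain ⟨e, hfix⟩ := twSimplyD4.exists_nGen certD4C symOKD4_tri f fullCertD4 twCombD4 (J := 0) (by decide)
    (v := 1) (by rw [show (twD4.orb 0).length = 3 from rfl]; exact hk 1)
  have hbase : twD4.base 0 = [18, 13, 12] := rfl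
  rw [hbase] at hfix
  have hnG : nGen certD4C f [18, 13, 12] 1 ∈ chevD4.group K := by
    simp only [nGen, mul_one]
    exact mul_mem (ng_mem_group certD4C _ _) (mul_mem (ng_mem_group certD4C _ _) (ng_mem_group certD4C _ _))
  refine td_move f hk hb hc hz (n := nGen certD4C f [18, 13, 12] 1) ⟨hnG, hfix⟩ (fun x hx => ?_)
    (td_conj_val _ tdNa (fun _ => 1) _ fun x hx => ?_)
  · obtain ⟨y, hy, rfl⟩ := List.mem_map.1 hx
    have h : ∀ i < 12, tdNa i < 12 := by decide
    exact h _ (tdEW_lt f _ _ _ _ _ _ y hy)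
  · have h : ∀ i < 12, 3 ≤ i → tblD4.refl' 0 (tblD4.refl' 2 (tblD4.refl' 3 (tdRt i))) = tdRt (tdNa i) ∧
        tblD4.refl' 3 (tdRt i) < 24 ∧ tblD4.refl' 2 (tblD4.refl' 3 (tdRt i)) < 24 := by decide +kernel
    by_cases h3 : x.1 < 3
    · left
      simp only [tdEW, List.mem_cons, List.not_mem_nil, or_false] at hx
      rcases hx with rfl | rfl | rfl | rfl | rfl | rfl | rfl | rfl | rfl | rfl | rfl | rfl <;> simp_all
    · right
      obtain ⟨h0, h1, h2⟩ := h _ (tdEW_lt f _ _ _ _ _ _ x hx) (by omega)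
      have s0 : tblD4.simp' 0 = 18 := by decide +kernel
      have s2 : tblD4.simp' 2 = 13 := by decide +kernel
      have s3 : tblD4.simp' 3 = 12 := by decide +kernel
      have en : nGen certD4C f [18, 13, 12] (1 : K) = nu certD4C 0 * (nu certD4C 2 * nu certD4C 3) := by
        simp [nGen, nu, s0, s2, s3]
      rw [en, show nu certD4C 0 * (nu certD4C 2 * nu certD4C 3) * xg certD4C (tdRt x.1) x.2 *
          (nu certD4C 0 * (nu certD4C 2 * nu certD4C 3))⁻¹ = nu certD4C 0 * (nu certD4C 2 *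
            (nu certD4C 3 * xg certD4C (tdRt x.1) x.2 * (nu certD4C 3)⁻¹) * (nu certD4C 2)⁻¹) * (nu certD4C 0)⁻¹ by
        group, td_nu_conj (by norm_num) (td_lt (tdEW_lt f _ _ _ _ _ _ x hx)), td_nu_conj (by norm_num) h1,
        td_nu_conj (by norm_num) h2, h0, one_mul]

/-- Scaling of the highest root. -/
theorem td_scale_long {w : K} (hw : f w = w) (hw0 : w ≠ 0) :
    TdCj f (tdE f 0 0 0 0 0 1) (tdE f 0 0 0 0 0 w) := by
  let u : Kˣ := Units.mk0 w hw0
  let c : Fin chevD4.rank → Kˣ := fun i => if (i : ℕ) = 1 then u else 1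
  have hfix : twPar symOKD4_tri f c = c := by
    funext i
    have hp : ∀ i < 4, (symD4_3.pI.getD i 0 = 1 ↔ i = 1) := by decide
    show Units.map f.toMonoidHom (if symD4_3.pI.getD (i : ℕ) 0 = 1 then u else 1) = if (i : ℕ) = 1 then u else 1
    by_cases h : (i : ℕ) = 1
    · rw [if_pos h, if_pos ((hp i i.2).2 h)]; exact Units.ext hw
    · rw [if_neg h, if_neg (fun e => h ((hp i i.2).1 e)), map_one]
  refine ⟨torusHom chevD4 tblD4 K c, ⟨?_, by rw [twSigma_torus certD4C symOKD4_tri f, hfix]⟩, ?_⟩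
  · exact diag_le_group certD4C ((torusHom_range certD4C (F := K)) ▸ ⟨c, rfl⟩)
  have hv : ∀ w : K, tdE f 0 0 0 0 0 w = xg certD4C 23 w := fun w => by
    simp [tdE, tdEW, tdVal, tdRt, tdOrd, xg_zero]
  rw [hv, hv, ← mul_inv_eq_iff_eq_mul, torusHom_conj_xg certD4C c (by decide : 23 < chevD4.nroots)]
  congr 1
  have h0 : tblD4.cartan 0 23 = 0 := by decide +kernel
  have h1 : tblD4.cartan 1 23 = 1 := by decide +kernel
  have h2 : tblD4.cartan 2 23 = 0 := by decide +kernel
  have h3 : tblD4.cartan 3 23 = 0 := by decide +kernel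
  simp [chr, show chevD4.rank = 4 from rfl, Finset.prod_range_succ, h0, h1, h2, h3, extend', c, u]

/-- Scaling of a short root element. -/
theorem td_scale_short {e : K} (he : e ≠ 0) :
    TdCj f (tdE f 0 0 1 0 0 0) (tdE f 0 0 (e * e) 0 0 0) := by
  let u : Kˣ := Units.mk0 e he
  let F' : Kˣ →* Kˣ := Units.map f.toMonoidHom
  let c : Fin chevD4.rank → Kˣ := fun i =>
    if (i : ℕ) = 0 then u else if (i : ℕ) = 1 then u * F' u * F' (F' u) else if (i : ℕ) = 2 then F' u else F' (F' u)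
  have h3 := td_f3 f hk e
  have hfix : twPar symOKD4_tri f c = c := by
    funext i
    have hp : ∀ i < 4, symD4_3.pI.getD i 0 = [3, 1, 0, 2].getD i 0 := by decide
    refine Units.ext ?_
    show f ((c ⟨symD4_3.pI.getD (i : ℕ) 0, _⟩ : Kˣ) : K) = _
    obtain ⟨i, hi⟩ := i
    have hi4 : i < 4 := hi
    interval_cases i <;> simp [c, show symD4_3.pI = [3, 1, 0, 2] from rfl, u, F', h3] <;> ring
  refine ⟨torusHom chevD4 tblD4 K c, ⟨?_, by rw [twSigma_torus certD4C symOKD4_tri f, hfix]⟩, ?_⟩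
  · exact diag_le_group certD4C ((torusHom_range certD4C (F := K)) ▸ ⟨c, rfl⟩)
  have hv : ∀ w : K, tdE f 0 0 w 0 0 0 = xg certD4C 19 w * (xg certD4C 16 (f w) * xg certD4C 15 (f (f w))) := fun w => by
    simp [tdE, tdEW, tdVal, tdRt, tdOrd, xg_zero]
  rw [hv, hv, ← mul_inv_eq_iff_eq_mul]
  have hconj : ∀ r < 24, ∀ t : K, torusHom chevD4 tblD4 K c * xg certD4C r t * (torusHom chevD4 tblD4 K c)⁻¹ =
      xg certD4C r (chr tblD4 chevD4 (extend' c) r * t) := fun r hr t => torusHom_conj_xg certD4C c hr t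
  rw [show ∀ a b d g : GL chevD4.Idx K, g * (a * (b * d)) * g⁻¹ = g * a * g⁻¹ * (g * b * g⁻¹ * (g * d * g⁻¹)) from
    fun a b d g => by group, hconj 19 (by norm_num), hconj 16 (by norm_num), hconj 15 (by norm_num)]
  have hc19 : (List.range 4).map (fun j => tblD4.cartan j 19) = [1, 1, -1, -1] := by decide +kernel
  have hc16 : (List.range 4).map (fun j => tblD4.cartan j 16) = [-1, 1, 1, -1] := by decide +kernel
  have hc15 : (List.range 4).map (fun j => tblD4.cartan j 15) = [-1, 1, -1, 1] := by decide +kernel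
  simp [List.range_succ] at hc19 hc16 hc15
  have hne : f e ≠ 0 := fun h => he (f.injective (h.trans (map_zero f).symm))
  have hne2 : f (f e) ≠ 0 := fun h => hne (f.injective (h.trans (map_zero f).symm))
  congr 1
  · congr 1
    simp [chr, show chevD4.rank = 4 from rfl, Finset.prod_range_succ, hc19, extend', c, u, F']
    field_simp
  congr 1 <;> congr 1
  · simp [chr, show chevD4.rank = 4 from rfl, Finset.prod_range_succ, hc16, extend', c, u, F']
    field_simp
  · simp [chr, show chevD4.rank = 4 from rfl, Finset.prod_range_succ, hc15, extend', c, u, F']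
    field_simp
    simp

variable [Finite K]

attribute [local irreducible] tdE

/-- An element conjugate to one of the representatives. -/
def TdGood (u : GL chevD4.Idx K) : Prop := TdCj f u (tdE f 0 0 0 0 0 1) ∨ TdCj f u (tdE f 0 0 1 0 0 0)

omit hk in
theorem TdGood.of_cj {u v : GL chevD4.Idx K} (h : TdCj f u v) (h' : TdGood f v) : TdGood f u :=
  h'.imp (h.trans f) (h.trans f)

theorem td_good_long {z : K} (hz : f z = z) (hz0 : z ≠ 0) : TdGood f (tdE f 0 0 0 0 0 z) :=
  Or.inl (td_scale_long f hk hz hz0).symm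

theorem td_good_p {p z : K} (hp : p ≠ 0) (hz : f z = z) : TdGood f (tdE f 0 0 p 0 0 z) := by
  have hfp : f p ≠ 0 := fun h => hp (f.injective (h.trans (map_zero f).symm))
  obtain ⟨a', b', p', q', c', z', -, -, -, hcj, e⟩ := td_step f hk (a := 0) (p := p) (q := 0) (a0 := 0) (p0 := 0)
    (q0 := z / f p) (map_zero f) (map_zero f) hz (map_zero f) (map_zero f) (map_zero f)
  simp [tdEW, tdNf, tdIns, tdS, td_f3 f hk] at e
  refine TdGood.of_cj f hcj ?_
  obtain ⟨rfl, rfl, rfl, rfl, rfl, rfl⟩ : a' = 0 ∧ b' = 0 ∧ p' = p ∧ q' = 0 ∧ c' = 0 ∧ z' = 0 := by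
    grind
  haveI : Fact (Nat.Prime 2) := ⟨Nat.prime_two⟩
  haveI : ExpChar K 2 := ExpChar.prime Nat.prime_two
  obtain ⟨e, he⟩ := (Finite.injective_iff_surjective.1 (RingHom.injective (frobenius K 2))) p'
  obtain rfl : p' = e * e := by rw [← he, frobenius_def, sq]
  exact Or.inr (td_scale_short f hk (fun h => hp (by rw [h, mul_zero]))).symm

omit [Finite K] in
set_option maxHeartbeats 2000000 in
/-- The equations of an involution. -/
theorem td_inv_eq {a b p q c z : K} (h : tdE f a b p q c z * tdE f a b p q c z = 1) :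
    (a = 0 ∨ b = 0) ∧ (b = 0 → f (f a) * p + a * f (f p) = 0) ∧
      (a = 0 → b * c + (f p * q + f (f p) * f q + p * f (f q)) = 0) := by
  have e := tdNf_unique (v := ([] : List (ℕ × K))) (w := tdEW f a b p q c z ++ tdEW f a b p q c z)
    (fun x hx => (List.mem_append.1 hx).elim (tdEW_lt f _ _ _ _ _ _ x) (tdEW_lt f _ _ _ _ _ _ x)) (by simp)
    (by rw [tdVal_append, show tdVal (tdEW f a b p q c z) = tdE f a b p q c z by rw [tdE], h]; simp [tdVal])
  simp [tdEW, tdNf, tdIns, tdS, td_f3 f hk, CharTwo.add_self_eq_zero] at e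
  obtain ⟨h0, h1, -, -, -, h2⟩ := e
  refine ⟨h0, fun hb => ?_, fun ha => ?_⟩
  · subst hb; simpa using h1
  · subst ha; simp at h2; linear_combination h2

omit hk [Finite K] in
theorem tdE_zero : tdE f 0 0 0 0 0 0 = 1 := by
  simp [tdE, tdEW, tdVal, xg_zero]

set_option maxHeartbeats 2000000 in
/-- The last short case. -/
theorem td_good_pc {p c : K} (hc : f c = c) (hc0 : c ≠ 0) : TdGood f (tdE f 0 0 p 0 c 0) := by
  by_cases hp : p = 0
  · subst hp
    obtain ⟨a', b', p', q', c', z', -, -, hz', hcj, e⟩ := td_move_b f hk (a := 0) (p := 0) (q := 0) hc (map_zero f)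
    simp [tdEW, tdNf, tdIns, tdS, tdNb] at e
    obtain ⟨e0, e3, e4, e7, e10, e11⟩ := e
    rw [e0, e3, e4, e7, e10, e11] at hcj
    exact TdGood.of_cj f hcj (td_good_long f hk hc hc0)
  have hfp : f p ≠ 0 := fun h => hp (f.injective (h.trans (map_zero f).symm))
  have hffp : f (f p) ≠ 0 := fun h => hfp (f.injective (h.trans (map_zero f).symm))
  set N : K := p * f p * f (f p) with hN
  have hN0 : N ≠ 0 := mul_ne_zero (mul_ne_zero hp hfp) hffp
  have hfN : f N = N := by simp [hN, td_f3 f hk]; ring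
  haveI : Fact (Nat.Prime 2) := ⟨Nat.prime_two⟩
  haveI : ExpChar K 2 := ExpChar.prime Nat.prime_two
  obtain ⟨m, hm⟩ := (Finite.injective_iff_surjective.1 (RingHom.injective (frobenius K 2))) (c / N)
  rw [frobenius_def] at hm
  have hfm : f m = m := by
    refine RingHom.injective (frobenius K 2) ?_
    rw [frobenius_def, frobenius_def, ← map_pow, hm, map_div₀, hc, hfN]
  obtain ⟨a', b', p', q', c', z', hb', hc', hz', hcj, e⟩ := td_step f hk (a := 0) (b := 0) (p := p) (q := 0)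
    (a0 := m * p) (b0 := 0) (p0 := 0) (q0 := 0) (c0 := 0) (z0 := 0) (map_zero f) hc (map_zero f) (map_zero f)
    (map_zero f) (map_zero f)
  simp [tdEW, tdNf, tdIns, tdS, hfm] at e
  obtain ⟨rfl, rfl, e4, -, -, e7, -, -, e10, e11⟩ := e
  simp at e4 e7 e10
  subst e4
  obtain rfl : q' = 0 := by linear_combination -e7 - (m * (f (f p) * p)) * (CharP.cast_eq_zero K 2)
  obtain rfl : c' = 0 := by
    have h2 : (2 : K) = 0 := CharP.cast_eq_zero K 2
    have hm' : m ^ 2 * N = c := by rw [hm]; field_simp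
    rw [hN] at hm'
    simp only [map_zero, mul_zero, add_zero, zero_add] at e10
    linear_combination -e10 - hm' - (m ^ 2 * (p * f p * f (f p))) * h2
  exact TdGood.of_cj f hcj (td_good_p f hk hp hz')

set_option maxHeartbeats 2000000 in
theorem td_good_b {b p q c z : K} (hb : f b = b) (hc : f c = c) (hz : f z = z) (hb0 : b ≠ 0)
    (hs : tdE f 0 b p q c z * tdE f 0 b p q c z = 1) : TdGood f (tdE f 0 b p q c z) := by
  obtain ⟨a', b', p', q', c', z', -, hc', hz', hcj, e⟩ := td_step f hk (a := 0) (b := b) (p := p) (q := q)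
    (a0 := p / b) (b0 := 0) (p0 := 0) (q0 := 0) (c0 := 0) (z0 := 0) hb hc hz (map_zero f) (map_zero f)
    (map_zero f)
  simp [tdEW, tdNf, tdIns, tdS] at e
  obtain ⟨rfl, rfl, e4, -⟩ := e
  obtain rfl : p' = 0 := by
    rw [div_mul_cancel₀ p hb0] at e4
    linear_combination -e4
  obtain rfl : c' = 0 := by
    have h := (td_inv_eq f hk (hcj.sq f hs)).2.2 rfl
    simpa [hb0] using h
  refine TdGood.of_cj f hcj ?_
  have hfb : f (z' / b) = z' / b := by rw [map_div₀, hz', hb]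
  obtain ⟨a1, b1, p1, q1, c1, z1, -, -, -, hcj1, e⟩ := td_step f hk (a := 0) (b := b) (p := 0) (q := q') (c := 0)
    (a0 := 0) (b0 := 0) (p0 := 0) (q0 := 0) (c0 := z' / b) (z0 := 0) hb (map_zero f) hz' (map_zero f) hfb
    (map_zero f)
  simp [tdEW, tdNf, tdIns, tdS, div_mul_cancel₀ z' hb0, mul_div_cancel₀ z' hb0, CharTwo.add_self_eq_zero] at e
  obtain ⟨e0, -, -, e3, e4, -, -, e7, -, -, e10, e11⟩ := e
  rw [← e0, ← e3, ← e4, ← e7, e10, ← e11] at hcj1
  refine TdGood.of_cj f hcj1 ?_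
  obtain ⟨a2, b2, p2, q2, c2, z2, -, -, -, hcj2, e⟩ := td_move_a f hk (p := 0) (q := q') hb (map_zero f) (map_zero f)
  simp [tdEW, tdNf, tdIns, tdS, tdNa] at e
  obtain ⟨e0, e3, e4, -, -, e7, e10, e11⟩ := e
  rw [e0, e3, e4, e7, e10, e11] at hcj2
  exact TdGood.of_cj f hcj2 (td_good_pc f hk hb hb0)

set_option maxHeartbeats 2000000 in
theorem td_good_c {p q c z : K} (hc : f c = c) (hz : f z = z) (hc0 : c ≠ 0)
    (hs : tdE f 0 0 p q c z * tdE f 0 0 p q c z = 1) : TdGood f (tdE f 0 0 p q c z) := by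
  obtain ⟨a', b', p', q', c', z', hb', hc', hz', hcj, e⟩ := td_move_a f hk (b := 0) (p := p) (q := q) (map_zero f) hc hz
  simp [tdEW, tdNf, tdIns, tdS, tdNa] at e
  obtain ⟨e0, e3, -⟩ := e
  rw [e0] at hcj
  exact TdGood.of_cj f hcj (td_good_b f hk hb' hc' hz' (by rw [e3]; exact hc0) (hcj.sq f hs))

set_option maxHeartbeats 2000000 in
theorem td_good_short {p q c z : K} (hc : f c = c) (hz : f z = z) (hp : p ≠ 0)
    (hs : tdE f 0 0 p q c z * tdE f 0 0 p q c z = 1) : TdGood f (tdE f 0 0 p q c z) := by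
  by_cases hc0 : c = 0
  swap
  · exact td_good_c f hk hc hz hc0 hs
  subst hc0
  have hfp : f p ≠ 0 := fun h => hp (f.injective (h.trans (map_zero f).symm))
  have hffp : f (f p) ≠ 0 := fun h => hfp (f.injective (h.trans (map_zero f).symm))
  have h2 : (2 : K) = 0 := CharP.cast_eq_zero K 2
  have htr := (td_inv_eq f hk hs).2.2 rfl
  set r : K := q / (p * f (f p)) with hr
  have hq : q = r * (p * f (f p)) := by rw [hr]; field_simp
  have hfr : f (f r) + f r = r := by
    have h : (r + f r + f (f r)) * (p * f p * f (f p)) = 0 := by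
      rw [hq] at htr
      simp [td_f3 f hk] at htr
      linear_combination htr
    have h3 := (mul_eq_zero.1 h).resolve_right (mul_ne_zero (mul_ne_zero hp hfp) hffp)
    linear_combination h3 - r * h2
  obtain ⟨a', b', p', q', c', z', hb', hc', hz', hcj, e⟩ := td_step f hk (a := 0) (b := 0) (p := p) (q := q)
    (c := 0) (z := z) (a0 := p * (r + f r)) (b0 := 0) (p0 := 0) (q0 := 0) (c0 := 0) (z0 := 0) (map_zero f)
    (map_zero f) hz (map_zero f) (map_zero f) (map_zero f)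
  simp [tdEW, tdNf, tdIns, tdS, td_f3 f hk] at e
  obtain ⟨rfl, rfl, e4, -, -, e7, -⟩ := e
  simp at e4 e7
  subst e4
  obtain rfl : q' = 0 := by
    rw [hq] at e7
    linear_combination -e7 - (p * f (f p)) * hfr - (p * f (f p) * r) * h2
  refine TdGood.of_cj f hcj ?_
  by_cases h : c' = 0
  · subst h; exact td_good_p f hk hp hz'
  · exact td_good_c f hk hc' hz' h (hcj.sq f hs)

set_option maxHeartbeats 2000000 in
theorem td_good_ab {p q c z : K} (hc : f c = c) (hz : f z = z)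
    (hs : tdE f 0 0 p q c z * tdE f 0 0 p q c z = 1) (h1 : tdE f 0 0 p q c z ≠ 1) :
    TdGood f (tdE f 0 0 p q c z) := by
  by_cases hp : p = 0
  swap
  · exact td_good_short f hk hc hz hp hs
  by_cases hc0 : c = 0
  swap
  · exact td_good_c f hk hc hz hc0 hs
  subst hp hc0
  by_cases hq : q = 0
  · subst hq
    refine td_good_long f hk hz fun h => h1 ?_
    rw [h, tdE_zero]
  have hffq : f (f q) ≠ 0 := fun h => hq (f.injective (f.injective (h.trans (by simp))))
  obtain ⟨a', b', p', q', c', z', -, hc', hz', hcj, e⟩ := td_move_a f hk (b := 0) (p := 0) (q := q) (map_zero f)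
    (map_zero f) hz
  simp [tdEW, tdNf, tdIns, tdS, tdNa] at e
  obtain ⟨e0, e3, e4, -⟩ := e
  rw [e0, e3, e4] at hcj
  exact TdGood.of_cj f hcj (td_good_short f hk hc' hz' hffq (hcj.sq f hs))

set_option maxHeartbeats 2000000 in
/-- Every fixed involution of the positive group is conjugate to one of the representatives. -/
theorem td_classify {u : GL chevD4.Idx K} (hu : u ∈ tdG f) (hp : u ∈ chevD4.posUnipotent K)
    (hs : u * u = 1) (h1 : u ≠ 1) : TdGood f u := by
  obtain ⟨a, b, p, q, c, z, hb, hc, hz, rfl⟩ := td_shape f hk hu hp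
  obtain ⟨hab, hpa, -⟩ := td_inv_eq f hk hs
  by_cases ha : a = 0
  · subst ha
    by_cases hb0 : b = 0
    · subst hb0; exact td_good_ab f hk hc hz hs h1
    · exact td_good_b f hk hb hc hz hb0 hs
  obtain rfl : b = 0 := hab.resolve_left ha
  have h2 : (2 : K) = 0 := CharP.cast_eq_zero K 2
  have hfa : f a ≠ 0 := fun h => ha (f.injective (h.trans (map_zero f).symm))
  have hffa : f (f a) ≠ 0 := fun h => hfa (f.injective (h.trans (map_zero f).symm))
  have hl2 : f (f (p / a)) = p / a := by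
    simp only [map_div₀]
    rw [div_eq_div_iff hffa ha]
    linear_combination hpa rfl - (f (f a) * p) * h2
  have hl : f (p / a) = p / a := (congrArg f hl2).symm.trans (hk (p / a))
  obtain ⟨a', b', p', q', c', z', hb', hc', hz', hcj, e⟩ := td_step f hk (a := a) (b := 0) (p := p) (q := q)
    (a0 := 0) (b0 := p / a) (p0 := 0) (q0 := 0) (c0 := 0) (z0 := 0) (map_zero f) hc hz hl (map_zero f) (map_zero f)
  simp [tdEW, tdNf, tdIns, tdS, mul_div_cancel₀ p ha, div_mul_cancel₀ p ha, CharTwo.add_self_eq_zero] at e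
  obtain ⟨e0, -, -, e3, e4, -⟩ := e
  rw [← e0, e3, ← e4] at hcj
  refine TdGood.of_cj f hcj ?_
  obtain ⟨a1, b1, p1, q1, c1, z1, -, hc1, hz1, hcj1, e⟩ := td_move_b f hk (a := a) (p := 0) (q := q') hc' hz'
  simp [tdEW, tdNf, tdIns, tdS, tdNb] at e
  obtain ⟨e0, e3, e4, -⟩ := e
  rw [e0, e3, e4] at hcj1
  exact TdGood.of_cj f hcj1 (td_good_short f hk hc1 hz1 ha (hcj1.sq f (hcj.sq f hs)))

end Cfsg.Lib.Chev
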