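import Cfsg.Agent.Lib.Chev.TwTools
import Cfsg.Agent.Lib.Chev.AutNorm
import Cfsg.Agent.Lib.Chev.Descent

/-!
The orbit subgroups of a twisted group with orbits of orthogonal roots: rank one identities.
-/

set_option autoImplicit false
set_option linter.unusedSectionVars false

namespace Cfsg.Lib.Chev

open Cfsg.Lie

/-- The data of a twisted group with orbits of orthogonal roots. -/
structure TwCtx (D : ChevalleyDatum) (T : Tbl) (F : Type*) [Field F] where
  sym : Sym
  tw : TwData
  deg : ℕ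
  frob : F →+* F
  q : ℕ
  cert : Cert D T
  full : FullCert D T
  symOK : SymOK D T sym
  comb : TwComb D T tw
  linked : TwLinked D T tw
  simply : TwSimplyOK D T sym tw deg
  hq : IsPrimePow q
  card : Nat.card F = q ^ deg
  deg_pos : 0 < deg
  iter : ∀ (j : ℕ) (t : F), frob^[j] t = t ^ (q ^ j)
  torus : ∀ c : Fin D.rank → Fˣ, (twPar symOK frob c)⁻¹ * c ∈ (torusHom D T F).ker →
    ∃ z ∈ (torusHom D T F).ker, twPar symOK frob (c * z) = c * z

namespace TwCtx

variable {D : ChevalleyDatum} {T : Tbl} {F : Type*} [Field F] (X : TwCtx D T F)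

/-- The twisting map. -/
noncomputable abbrev sig : GL D.Idx F → GL D.Idx F := twSigma X.symOK X.frob

theorem ok : TwOK X.cert X.tw X.sig := X.simply.twOK X.cert X.symOK X.frob X.full X.comb

/-- The twisted group. -/
noncomputable abbrev grp : Subgroup (GL D.Idx F) := X.ok.fixed X.cert

/-- Number of roots in an orbit. -/
noncomputable def len (J : ℕ) : ℕ := (X.tw.orb J).length

theorem deg_per (t : F) : X.frob^[X.deg] t = t := by
  haveI : Finite F := Nat.finite_of_card_ne_zero (by rw [X.card]; exact pow_ne_zero _ X.hq.ne_zero)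
  haveI := Fintype.ofFinite F
  rw [X.iter, ← X.card, Nat.card_eq_fintype_card]
  exact FiniteField.pow_card t

theorem finite (X : TwCtx D T F) : Finite F := Nat.finite_of_card_ne_zero (by rw [X.card]; exact pow_ne_zero _ X.hq.ne_zero)

/-- The parameters of an orbit subgroup. -/
noncomputable def sub (J : ℕ) : Subfield F := RingHom.eqLocusField (X.frob ^ X.len J) (RingHom.id F)

theorem mem_sub {J : ℕ} {v : F} : v ∈ X.sub J ↔ X.frob^[X.len J] v = v := by
  show (X.frob ^ X.len J) v = RingHom.id F v ↔ _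
  rw [RingHom.coe_pow, RingHom.id_apply]

theorem card_sub (J : Fin X.tw.norb) : Nat.card ↥(X.sub J) = X.q ^ X.len J := by
  haveI := X.finite
  have e : Nat.card ↥(X.sub J) = Nat.card {v : F // v ^ (X.q ^ X.len J) = v} :=
    Nat.card_congr (Equiv.subtypeEquivRight fun v => by rw [X.mem_sub, X.iter])
  rw [e]
  refine card_fixed_field X.hq.two_le X.card ?_
  rcases X.simply.orb_len J J.2 with h | h <;> rw [len, h]
  exact one_dvd _

theorem orbEl_zero {C : Cert D T} {f : F →+* F} : ∀ l : List ℕ, orbEl C f l (0 : F) = 1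
  | [] => rfl
  | r :: l => by rw [orbEl, map_zero, orbEl_zero l, xg_zero, mul_one]

theorem orbEl_mem_group {C : Cert D T} {f : F →+* F} : ∀ (l : List ℕ) (v : F), orbEl C f l v ∈ D.group F
  | [], _ => one_mem _
  | r :: l, v => mul_mem (xg_mem_group C r v) (orbEl_mem_group l _)

/-- The element of an orbit subgroup. -/
noncomputable abbrev el (J : ℕ) (v : F) : GL D.Idx F := orbEl X.cert X.frob (X.tw.base J) v

/-- The element of an opposite orbit subgroup. -/
noncomputable abbrev eln (J : ℕ) (v : F) : GL D.Idx F := orbEl X.cert X.frob ((X.tw.base J).map T.neg) v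

/-- The reflection element. -/
noncomputable abbrev nn (J : ℕ) (v : F) : GL D.Idx F := nGen X.cert X.frob (X.tw.base J) v

section

variable (J : Fin X.tw.norb)

theorem el_mem {v : F} (hv : v ∈ X.sub J) : X.el J v ∈ X.grp :=
  X.simply.gen_le_fixed X.cert X.symOK X.frob X.full X.comb ⟨J, J.2, v, X.mem_sub.1 hv, Or.inl rfl⟩

theorem eln_mem {v : F} (hv : v ∈ X.sub J) : X.eln J v ∈ X.grp :=
  X.simply.gen_le_fixed X.cert X.symOK X.frob X.full X.comb ⟨J, J.2, v, X.mem_sub.1 hv, Or.inr rfl⟩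

theorem base_data : (∀ s ∈ X.tw.base J, s < D.nroots ∧ D.nroots ≤ 2 * s) ∧
    (X.tw.base J).Pairwise (fun a b => ∀ t u : F, Commute (xg X.cert a t) (xg X.cert b u) ∧
      Commute (xg X.cert a t) (xg X.cert (T.neg b) u) ∧ Commute (xg X.cert (T.neg a) t) (xg X.cert b u) ∧
        Commute (xg X.cert (T.neg a) t) (xg X.cert (T.neg b) u)) := by
  obtain ⟨r, l, -, hb, -, hpos, -, -, hp⟩ := X.simply.orbit_data X.cert X.symOK (F := F) X.full X.comb J.2
  rw [hb]
  refine ⟨fun s hs => ?_, hp⟩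
  obtain ⟨h1, h2, -⟩ := hpos s hs
  have := nroots_even X.cert
  exact ⟨h2, by omega⟩

theorem el_add (v w : F) : X.el J v * X.el J w = X.el J (v + w) :=
  orbEl_add X.cert X.frob ((X.base_data J).2.imp fun h t u => (h t u).1) v w

theorem eln_add (v w : F) : X.eln J v * X.eln J w = X.eln J (v + w) :=
  orbEl_add X.cert X.frob (List.pairwise_map.2 ((X.base_data J).2.imp fun h t u => (h t u).2.2.2)) v w

theorem el_inv (v : F) : (X.el J v)⁻¹ = X.el J (-v) :=
  inv_eq_of_mul_eq_one_right (by rw [X.el_add, add_neg_cancel]; exact orbEl_zero _)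

theorem eln_inv (v : F) : (X.eln J v)⁻¹ = X.eln J (-v) :=
  inv_eq_of_mul_eq_one_right (by rw [X.eln_add, add_neg_cancel]; exact orbEl_zero _)

theorem el_pos (v : F) : X.el J v ∈ D.posUnipotent F := by
  have key : ∀ (l : List ℕ), (∀ s ∈ l, s < D.nroots ∧ D.nroots ≤ 2 * s) → ∀ w : F,
      orbEl X.cert X.frob l w ∈ D.posUnipotent F := by
    intro l
    induction l with
    | nil => exact fun _ w => one_mem _
    | cons r l ih =>
      intro hl w
      exact mul_mem (xg_mem_pos X.cert (hl r (List.mem_cons_self ..)).1 (hl r (List.mem_cons_self ..)).2 w)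
        (ih (fun s hs => hl s (List.mem_cons_of_mem _ hs)) _)
  exact key _ (X.base_data J).1 v

theorem eln_neg (v : F) : X.eln J v ∈ D.negUnipotent F := by
  have key : ∀ (l : List ℕ), (∀ s ∈ l, s < D.nroots ∧ D.nroots ≤ 2 * s) → ∀ w : F,
      orbEl X.cert X.frob (l.map T.neg) w ∈ D.negUnipotent F := by
    intro l
    induction l with
    | nil => exact fun _ w => one_mem _
    | cons r l ih =>
      intro hl w
      obtain ⟨h1, h2⟩ := hl r (List.mem_cons_self ..)
      refine mul_mem (xg_mem_neg X.cert (X.cert.spec.neg_lt _ h1) ?_ w)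
        (ih (fun s hs => hl s (List.mem_cons_of_mem _ hs)) _)
      rw [X.cert.neg_eq h1]; have := nroots_even X.cert; omega
  exact key _ (X.base_data J).1 v

theorem el_injective {v w : F} (h : X.el J v = X.el J w) : v = w := by
  obtain ⟨r, l, -, hb, -, hpos, hnd, -, -⟩ := X.simply.orbit_data X.cert X.symOK (F := F) X.full X.comb J.2
  rw [el, el, hb] at h
  obtain ⟨t, ht, ht'⟩ := orbEl_mem_pset X.cert X.frob (r :: l) v hnd
  obtain ⟨u, hu, hu'⟩ := orbEl_mem_pset X.cert X.frob (r :: l) w hnd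
  rw [ht, hu] at h
  have := lprod_inj X.cert X.full.comm hnd (fun s hs => ⟨(hpos s hs).1, (hpos s hs).2.1⟩) h r (List.mem_cons_self ..)
  rwa [ht' r rfl, hu' r rfl] at this

/-- The orbit subgroup as the fixed part of a product set. -/
theorem fixPart_el {g : GL D.Idx F} :
    g ∈ twFixPart X.cert X.sig (X.tw.base J) ↔ ∃ v ∈ X.sub J, g = X.el J v := by
  rw [X.simply.fixPart_eq X.cert X.symOK X.frob X.full X.comb J.2]
  exact ⟨fun ⟨v, hv, e⟩ => ⟨v, X.mem_sub.2 hv, e⟩, fun ⟨v, hv, e⟩ => ⟨v, X.mem_sub.1 hv, e⟩⟩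

theorem sub_inv {v : F} (hv : v ∈ X.sub J) : -v⁻¹ ∈ X.sub J := neg_mem (inv_mem hv)

theorem nn_eq (v : F) : X.nn J v = X.el J v * X.eln J (-v⁻¹) * X.el J v :=
  nGen_eq X.cert X.frob (X.tw.base J) v (fun r hr => ((X.base_data J).1 r hr).1) (X.base_data J).2

theorem nn_mem {v : F} (hv : v ∈ X.sub J) : X.nn J v ∈ X.grp := by
  rw [X.nn_eq]; exact mul_mem (mul_mem (X.el_mem J hv) (X.eln_mem J (X.sub_inv J hv))) (X.el_mem J hv)

theorem nn_neg (v : F) : X.nn J v * X.nn J (-v) = 1 := by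
  rw [X.nn_eq, X.nn_eq, inv_neg, neg_neg, ← X.el_inv]
  have h : X.eln J (-v⁻¹) * X.eln J v⁻¹ = 1 := by rw [X.eln_add, neg_add_cancel]; exact orbEl_zero _
  calc X.el J v * X.eln J (-v⁻¹) * X.el J v * ((X.el J v)⁻¹ * X.eln J v⁻¹ * (X.el J v)⁻¹)
      = X.el J v * (X.eln J (-v⁻¹) * X.eln J v⁻¹) * (X.el J v)⁻¹ := by group
    _ = 1 := by rw [h]; group

theorem nn_one : X.nn J 1 = wnu X.cert F (X.tw.lw J) := by
  have e : ∀ l : List ℕ, nGen X.cert X.frob (l.map T.simp') (1 : F) = wnu X.cert F l := by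
    intro l
    induction l with
    | nil => simp [nGen, wnu]
    | cons a l ih => rw [List.map_cons, nGen, map_one, ih, wnu_cons]; rfl
  rw [nn, X.simply.base_eq J J.2, e, X.simply.lw_eq J J.2]

theorem nn_conj {v : F} (hv : v ≠ 0) (u : F) : X.nn J v * X.el J u * (X.nn J v)⁻¹ = X.eln J (-u / v ^ 2) := by
  have C := X.cert
  have key : ∀ (l : List ℕ), (∀ r ∈ l, r < D.nroots) →
      (l.Pairwise fun r s => ∀ t u : F, Commute (xg X.cert r t) (xg X.cert s u) ∧
        Commute (xg X.cert r t) (xg X.cert (T.neg s) u) ∧ Commute (xg X.cert (T.neg r) t) (xg X.cert s u) ∧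
        Commute (xg X.cert (T.neg r) t) (xg X.cert (T.neg s) u)) → ∀ v : F, v ≠ 0 → ∀ u,
      nGen X.cert X.frob l v * orbEl X.cert X.frob l u * (nGen X.cert X.frob l v)⁻¹ =
        orbEl X.cert X.frob (l.map T.neg) (-u / v ^ 2) := by
    intro l
    induction l with
    | nil => intro _ _ v _ u; simp [nGen, orbEl]
    | cons r l ih =>
      intro hl hp v hv u
      obtain ⟨h1, h2⟩ := List.pairwise_cons.1 hp
      have hr := hl r (List.mem_cons_self ..)
      have hn : D.neg r = T.neg r := X.cert.spec.shape.neg_eq _ hr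
      have hlt : ∀ s ∈ l, s < D.nroots := fun s hs => hl s (List.mem_cons_of_mem _ hs)
      have c1 : ∀ w, Commute (xg X.cert r u) (nGen X.cert X.frob l w) := fun w => by
        rw [nGen_eq X.cert X.frob l w hlt h2]
        refine ((orbEl_commute X.cert l _ fun s hs z => (h1 s hs u z).1).mul_right
          (orbEl_commute X.cert _ _ fun s hs z => ?_)).mul_right (orbEl_commute X.cert l _ fun s hs z => (h1 s hs u z).1)
        obtain ⟨s', hs', rfl⟩ := List.mem_map.1 hs
        exact (h1 s' hs' u z).2.1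
      have c2 : Commute (ng X.cert r v) (orbEl X.cert X.frob (l.map T.neg) (X.frob (-u / v ^ 2))) := by
        rw [ng, hn]
        refine ((orbEl_commute X.cert _ _ fun s hs z => ?_).mul_left (orbEl_commute X.cert _ _ fun s hs z => ?_)).mul_left
          (orbEl_commute X.cert _ _ fun s hs z => ?_)
        all_goals obtain ⟨s', hs', rfl⟩ := List.mem_map.1 hs
        exacts [(h1 s' hs' _ z).2.1, (h1 s' hs' _ z).2.2.2, (h1 s' hs' _ z).2.1]
      have e := ih hlt h2 (X.frob v) ((map_ne_zero X.frob).2 hv) (X.frob u)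
      rw [← map_pow, ← map_neg, ← map_div₀] at e
      simp only [nGen, orbEl, List.map_cons]
      set N := nGen X.cert X.frob l (X.frob v)
      calc ng X.cert r v * N * (xg X.cert r u * orbEl X.cert X.frob l (X.frob u)) * (ng X.cert r v * N)⁻¹
          = ng X.cert r v * (N * xg X.cert r u) * orbEl X.cert X.frob l (X.frob u) * N⁻¹ * (ng X.cert r v)⁻¹ := by group
        _ = ng X.cert r v * xg X.cert r u * (N * orbEl X.cert X.frob l (X.frob u) * N⁻¹) * (ng X.cert r v)⁻¹ := by
            rw [← (c1 (X.frob v)).eq]; group; rfl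
        _ = (ng X.cert r v * xg X.cert r u * (ng X.cert r v)⁻¹) *
              (ng X.cert r v * orbEl X.cert X.frob (l.map T.neg) (X.frob (-u / v ^ 2)) * (ng X.cert r v)⁻¹) := by
            rw [e]; group
        _ = _ := by rw [ng_conj_xg X.cert hr hv, c2.eq, mul_inv_cancel_right]
  exact key _ (fun r hr => ((X.base_data J).1 r hr).1) (X.base_data J).2 v hv u

theorem eln_injective {v w : F} (h : X.eln J v = X.eln J w) : v = w := by
  have h1 : ∀ z : F, X.eln J z = X.nn J 1 * X.el J (-z) * (X.nn J 1)⁻¹ := fun z => by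
    rw [X.nn_conj J one_ne_zero]; simp
  rw [h1, h1, mul_left_inj, mul_right_inj] at h
  simpa using X.el_injective J h

/-- The parameters of a torus element of an orbit. -/
noncomputable def par (v : Fˣ) : Fin D.rank → Fˣ := fun i =>
  if (i : ℕ) ∈ X.tw.orb J then (Units.map X.frob.toMonoidHom)^[(X.tw.orb J).idxOf (i : ℕ)] v else 1

theorem iter_units (v : Fˣ) : ∀ m : ℕ,
    (((Units.map X.frob.toMonoidHom)^[m] v : Fˣ) : F) = X.frob^[m] (v : F)
  | 0 => rfl
  | m + 1 => by rw [Function.iterate_succ_apply', Function.iterate_succ_apply', ← iter_units v m]; rfl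

/-- The torus element of an orbit. -/
noncomputable def tor (v : Fˣ) : GL D.Idx F := torusHom D T F (X.par J v)

theorem tor_eq (v : Fˣ) : X.tor J v = X.nn J v * X.nn J (-1) := by
  classical
  have hlt := X.comb.orb_lt J J.2
  rw [nn, nn, nGen_mul_neg X.cert X.frob _ _ (fun r hr => ((X.base_data J).1 r hr).1) (X.base_data J).2,
    X.simply.base_eq J J.2, List.zipIdx_map, List.map_map]
  refine Units.ext ?_
  have e : ((X.tw.orb J).zipIdx.map ((fun p : ℕ × ℕ => hg X.cert p.1 (X.frob^[p.2] (v : F))) ∘ Prod.map T.simp' id)) =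
      (X.tw.orb J).map fun i => hg X.cert (T.simp' i) (extend' (F := F) (X.par J v) i) := by
    refine zipIdx_map_eq (fun i m => hg X.cert (T.simp' i) (X.frob^[m] (v : F)))
      (fun i => hg X.cert (T.simp' i) (extend' (F := F) (X.par J v) i)) _ fun m hm => ?_
    rw [extend', dif_pos (hlt _ (List.getElem_mem hm)), par, if_pos (List.getElem_mem hm),
      (X.simply.orb_nodup J J.2).idxOf_getElem, iter_units]
  rw [e, coe_hg_list X.cert _ (fun i _ => extend'_ne _ i) _ (X.simply.orb_nodup J J.2) hlt, tor, coe_torusHom]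
  congr 1
  funext i
  by_cases hi : i ∈ X.tw.orb J
  · rw [if_pos hi]
  · rw [if_neg hi, extend']
    split
    · rw [par, if_neg hi, Units.val_one]
    · rfl

theorem tor_diag (v : Fˣ) : X.tor J v ∈ D.diagonalSubgroup F := by
  rw [← torusHom_range X.cert]; exact ⟨_, rfl⟩

theorem tor_mem {v : Fˣ} (hv : (v : F) ∈ X.sub J) : X.tor J v ∈ X.grp := by
  rw [X.tor_eq]; exact mul_mem (X.nn_mem J hv) (X.nn_mem J (neg_mem (one_mem _)))

theorem nn_tor (v : Fˣ) : X.nn J v = X.tor J v * X.nn J 1 := by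
  rw [X.tor_eq, mul_assoc, show X.nn J (-1) * X.nn J 1 = 1 by
    have := X.nn_neg J (-1); rwa [neg_neg] at this, mul_one]

theorem tor_conj_el (v : Fˣ) (u : F) : X.tor J v * X.el J u * (X.tor J v)⁻¹ = X.el J ((v : F) ^ 2 * u) := by
  have ho : (X.tw.orb J).Pairwise fun a b => T.cartan a (T.simp' b) = 0 ∧ T.cartan b (T.simp' a) = 0 :=
    List.Nodup.pairwise_of_forall_ne (X.simply.orb_nodup J J.2) fun a ha b hb hab =>
      ⟨(X.simply.orb_comm J J.2 a ha b hb hab).1, (X.simply.orb_comm J J.2 b hb a ha (Ne.symm hab)).1⟩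
  have key := hList_conj X.cert X.frob (X.comb.orb_lt J J.2) ho (v : F) v.ne_zero u
  rw [X.tor_eq, nn, nn, nGen_mul_neg X.cert X.frob _ _ (fun r hr => ((X.base_data J).1 r hr).1) (X.base_data J).2]
  rw [el, X.simply.base_eq J J.2, List.zipIdx_map, List.map_map]
  simp only [el, X.simply.base_eq J J.2]
  exact key

theorem eln_formula {z : F} (hz : z ≠ 0) :
    X.eln J z = X.el J z⁻¹ * X.nn J (-z⁻¹) * X.el J z⁻¹ := by
  rw [X.nn_eq, ← X.el_inv, inv_neg, inv_inv, neg_neg]; group

end

variable [Finite F]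

/-- Conjugation of an orbit subgroup by a torus element of the twisted group. -/
theorem diag_conj_el (L : Fin X.tw.norb) {d : GL D.Idx F} (hd : d ∈ X.grp) {χ : ℕ → F}
    (hχ : ∀ r ∈ X.tw.base L, ∀ t, d * xg X.cert r t * d⁻¹ = xg X.cert r (χ r * t)) {u : F} (hu : u ∈ X.sub L) :
    d * X.el L u * d⁻¹ = X.el L (χ (T.simp' (X.tw.head L)) * u) := by
  obtain ⟨r, l, hr, hb, -, hpos, hnd, -, -⟩ := X.simply.orbit_data X.cert X.symOK (F := F) X.full X.comb L.2
  obtain ⟨t, ht, ht'⟩ := orbEl_mem_pset X.cert X.frob (r :: l) u hnd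
  rw [hb] at hχ
  have key : ∀ m : List ℕ, (∀ s ∈ m, s ∈ r :: l) →
      d * lprod X.cert m t * d⁻¹ = lprod X.cert m fun s => χ s * t s := by
    intro m
    induction m with
    | nil => simp [lprod]
    | cons a m ih =>
      intro hm
      rw [lprod_cons, lprod_cons, ← ih (fun s hs => hm s (List.mem_cons_of_mem _ hs)),
        ← hχ a (hm a (List.mem_cons_self ..))]
      group
  have he : X.el L u = lprod X.cert (r :: l) t := by rw [el, hb, ht]
  have e := key _ fun s hs => hs
  have hmem : d * X.el L u * d⁻¹ ∈ twFixPart X.cert X.sig (X.tw.base L) := by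
    refine ⟨?_, (mul_mem (mul_mem hd (X.el_mem L hu)) (inv_mem hd) : _ ∈ X.grp).2⟩
    rw [he, e, hb]; exact ⟨_, rfl⟩
  obtain ⟨w, -, hw⟩ := (X.fixPart_el L).1 hmem
  rw [hw]
  congr 1
  obtain ⟨t', h2, h2'⟩ := orbEl_mem_pset X.cert X.frob (r :: l) w hnd
  have e2 : lprod X.cert (r :: l) t' = lprod X.cert (r :: l) fun s => χ s * t s := by
    rw [← h2, ← e, ← he, hw, el, hb]
  have := lprod_inj X.cert X.full.comm hnd (fun s hs => ⟨(hpos s hs).1, (hpos s hs).2.1⟩) e2 r (List.mem_cons_self ..)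
  rwa [h2' r rfl, ht' r rfl, hr] at this

omit [Finite F] in
/-- Conjugating the opposite orbit subgroup into itself needs a trivial parameter. -/
theorem eq_zero_of_conj (J : Fin X.tw.norb) {c s s' : F} (hs : s ≠ 0)
    (h : X.el J c * X.eln J s * (X.el J c)⁻¹ = X.eln J s') : c = 0 := by
  classical
  rw [mul_inv_eq_iff_eq_mul] at h
  have hs' : s' ≠ 0 := by
    rintro rfl
    rw [show X.eln J (0 : F) = 1 from orbEl_zero _, one_mul, mul_eq_left] at h
    exact hs (X.eln_injective J (h.trans (orbEl_zero _).symm))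
  rw [X.eln_formula J hs, X.eln_formula J hs'] at h
  set a := s⁻¹
  set a' := s'⁻¹
  have ha : a ≠ 0 := inv_ne_zero hs
  have ha' : a' ≠ 0 := inv_ne_zero hs'
  let H : F → GL D.Idx F := fun y => if hy : y = 0 then 1 else X.tor J (Units.mk0 (-y) (neg_ne_zero.2 hy))
  have hH : ∀ y : F, y ≠ 0 → X.nn J (-y) = H y * X.nn J 1 ∧ H y ∈ D.diagonalSubgroup F ∧
      ∀ u, H y * X.el J u * (H y)⁻¹ = X.el J ((-y) ^ 2 * u) := fun y hy => by
    simp only [H, dif_neg hy]
    exact ⟨by have := X.nn_tor J (Units.mk0 (-y) (neg_ne_zero.2 hy)); simpa using this, X.tor_diag J _,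
      fun u => by simpa using X.tor_conj_el J (Units.mk0 (-y) (neg_ne_zero.2 hy)) u⟩
  rw [(hH a ha).1, (hH a' ha').1] at h
  have e : X.el J (c + a) * H a * X.nn J 1 * X.el J a = X.el J a' * H a' * X.nn J 1 * X.el J (a' + c) := by
    rw [← X.el_add, ← X.el_add]
    simpa [mul_assoc] using h
  have hB : ∀ (x : F) {y : F}, y ≠ 0 → X.el J x * H y ∈ D.borelSubgroup F := fun x y hy =>
    mul_mem (Subgroup.mem_sup_left (X.el_pos J x)) (Subgroup.mem_sup_right (hH y hy).2.1)
  obtain ⟨e1, e2⟩ := cell_unique X.cert (hB (c + a) ha) (hB a' ha') (by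
    rw [X.el_inv, X.el_add, X.nn_conj J one_ne_zero]
    exact X.eln_neg J _) e
  have e3 : a = a' + c := X.el_injective J e2
  have e4 : X.el J (-a' + (c + a)) = H a' * (H a)⁻¹ := by
    rw [← X.el_add, ← X.el_inv, eq_mul_inv_iff_mul_eq, mul_assoc, e1, inv_mul_cancel_left]
  have e5 := (Subgroup.eq_bot_iff_forall _).1 (pos_inf_diag X.cert) _
    ⟨X.el_pos J _, e4 ▸ mul_mem (hH a' ha').2.1 (inv_mem (hH a ha).2.1)⟩
  have e6 : -a' + (c + a) = 0 := X.el_injective J (e5.trans (orbEl_zero _).symm)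
  rw [e5, eq_comm, mul_inv_eq_one] at e4
  have e7 : (-a') ^ 2 * (1 : F) = (-a) ^ 2 * 1 := X.el_injective J (by
    rw [← (hH a' ha').2.2, ← (hH a ha).2.2, e4])
  have h2 : (2 : F) * c = 0 := by linear_combination e6 - e3
  have : c ^ 2 = 0 := by
    rw [e3] at e7
    linear_combination -e7 - a' * h2
  exact pow_eq_zero_iff two_ne_zero |>.1 this

end TwCtx

end Cfsg.Lib.Chev
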