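import Cfsg.Agent.Lib.Chev.TwAutPerm
import Cfsg.Agent.Lib.Chev.AutDecomp

/-!
Rigidity for a twisted group with orbits of orthogonal roots: field automorphisms with scalars on each orbit subgroup,
no graph automorphisms, one field automorphism for all orbits.
-/

set_option autoImplicit false
set_option linter.unusedSectionVars false

namespace Cfsg.Lib.Chev

open Cfsg.Lie

/-- Whether the reflections of two orbits commute. -/
noncomputable def lwComm (T : Tbl) (τ : TwData) (J L : ℕ) : Bool :=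
  allBelow (fun r => Nat.beq (wperm T (τ.lw J) (wperm T (τ.lw L) r)) (wperm T (τ.lw L) (wperm T (τ.lw J) r))) T.nroots

/-- No permutation of the orbits keeps lengths and commutation. -/
def NoGraph (T : Tbl) (τ : TwData) : Prop :=
  ∀ π : Equiv.Perm (Fin τ.norb), (∀ J : Fin τ.norb, (τ.orb (π J)).length = (τ.orb J).length) →
    (∀ J L : Fin τ.norb, lwComm T τ J L = true → lwComm T τ (π J) (π L) = true) → π = 1

/-- Each orbit is joined to the previous one by a simple bond at its head. -/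
noncomputable def chkTwChain (T : Tbl) (τ : TwData) (k : ℕ) : Bool :=
  Nat.beq (τ.orb 0).length k && allBelow (fun J => Nat.beq J 0 ||
    ((Nat.beq (τ.orb J).length 1 || Nat.beq (τ.orb J).length (τ.orb (J - 1)).length) &&
      (decide (T.cartan (τ.head J) (T.simp' (τ.head (J - 1))) = -1) &&
        (τ.orb J).all fun i => Nat.beq i (τ.head J) || decide (T.cartan i (T.simp' (τ.head (J - 1))) = 0)))) τ.norb

namespace TwCtx

variable {D : ChevalleyDatum} {T : Tbl} {F : Type*} [Field F] (X : TwCtx D T F) [Finite F]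

/-- The action on the orbit subgroups and their opposites. -/
structure OrbAct (θ : MulAut ↥X.grp) (π : Fin X.tw.norb → Fin X.tw.norb) (φ ψ : Fin X.tw.norb → F → F) : Prop where
  pos : ∀ (J : Fin X.tw.norb) (t : ↥(X.sub J)), (θ (X.pe J t) : GL D.Idx F) = X.el (π J) (φ J t)
  neg : ∀ (J : Fin X.tw.norb) (t : ↥(X.sub J)), (θ (X.pen J t) : GL D.Idx F) = X.eln (π J) (ψ J t)

theorem grp_eq : X.grp = Subgroup.closure (twOrbGen X.cert X.frob X.tw) :=
  X.simply.fixed_eq_closure X.cert X.symOK X.frob X.full X.comb X.linked X.torus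

theorem grp_le {H : Subgroup (GL D.Idx F)} (h1 : ∀ (J : Fin X.tw.norb), ∀ t ∈ X.sub J, X.el J t ∈ H)
    (h2 : ∀ (J : Fin X.tw.norb), ∀ t ∈ X.sub J, X.eln J t ∈ H) : X.grp ≤ H := by
  rw [X.grp_eq, Subgroup.closure_le]
  rintro g ⟨J, hJ, v, hv, rfl | rfl⟩
  · exact h1 ⟨J, hJ⟩ v (X.mem_sub.2 hv)
  · exact h2 ⟨J, hJ⟩ v (X.mem_sub.2 hv)

theorem OrbAct.unique {θ θ' : MulAut ↥X.grp} {π : Fin X.tw.norb → Fin X.tw.norb} {φ ψ : Fin X.tw.norb → F → F}
    (h : X.OrbAct θ π φ ψ) (h' : X.OrbAct θ' π φ ψ) : θ = θ' := by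
  refine MulEquiv.ext fun x => ?_
  let H := (θ.toMonoidHom.eqLocus θ'.toMonoidHom).map X.grp.subtype
  have hle : X.grp ≤ H := X.grp_le
    (fun J t ht => ⟨X.pe J ⟨t, ht⟩, Subtype.ext ((h.pos J ⟨t, ht⟩).trans (h'.pos J ⟨t, ht⟩).symm), rfl⟩)
    (fun J t ht => ⟨X.pen J ⟨t, ht⟩, Subtype.ext ((h.neg J ⟨t, ht⟩).trans (h'.neg J ⟨t, ht⟩).symm), rfl⟩)
  obtain ⟨y, hy, e⟩ := hle x.2
  rw [show x = y from Subtype.ext e.symm]
  exact hy

theorem OrbAct.comp {θ θ' : MulAut ↥X.grp} {π π' : Fin X.tw.norb → Fin X.tw.norb} {φ ψ φ' ψ' : Fin X.tw.norb → F → F}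
    (h : X.OrbAct θ π φ ψ) (h' : X.OrbAct θ' π' φ' ψ') (hm : ∀ (J : Fin X.tw.norb) (t : F), t ∈ X.sub J →
      φ' J t ∈ X.sub (π' J) ∧ ψ' J t ∈ X.sub (π' J)) :
    X.OrbAct (θ * θ') (π ∘ π') (fun J t => φ (π' J) (φ' J t)) (fun J t => ψ (π' J) (ψ' J t)) where
  pos J t := by
    rw [MulAut.mul_apply, show θ' (X.pe J t) = X.pe (π' J) ⟨φ' J t, (hm J t t.2).1⟩ from Subtype.ext (h'.pos J t), h.pos]
    rfl
  neg J t := by
    rw [MulAut.mul_apply, show θ' (X.pen J t) = X.pen (π' J) ⟨ψ' J t, (hm J t t.2).2⟩ from Subtype.ext (h'.neg J t), h.neg]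
    rfl

theorem iterate_mul (m : ℕ) (a b : F) : X.frob^[m] (a * b) = X.frob^[m] a * X.frob^[m] b := by
  simp [X.iter, mul_pow]

/-- An automorphism of the Chevalley group compatible with the twist gives one of the twisted group. -/
theorem exists_restrict {δ : MulAut ↥(D.group F)} {φ ψ : Fin D.rank → F → F} (h : RootAct X.cert δ id φ ψ)
    (Φ Ψ : Fin X.tw.norb → F → F) (hmem : ∀ (J : Fin X.tw.norb), ∀ t ∈ X.sub J, Φ J t ∈ X.sub J ∧ Ψ J t ∈ X.sub J)
    (hcomp : ∀ (J : Fin X.tw.norb) (m : ℕ) (hm : m < (X.tw.orb J).length) (t : F), t ∈ X.sub J →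
      φ ⟨(X.tw.orb J)[m], X.comb.orb_lt J J.2 _ (List.getElem_mem hm)⟩ (X.frob^[m] t) = X.frob^[m] (Φ J t) ∧
      ψ ⟨(X.tw.orb J)[m], X.comb.orb_lt J J.2 _ (List.getElem_mem hm)⟩ (X.frob^[m] t) = X.frob^[m] (Ψ J t)) :
    ∃ α : MulAut ↥X.grp, X.OrbAct α id Φ Ψ ∧
      (AutKeeps δ ((D.posUnipotent F).subgroupOf (D.group F)) → AutKeeps α X.posT) ∧
      (AutKeeps δ ((D.negUnipotent F).subgroupOf (D.group F)) → AutKeeps α X.negT) := by
  classical
  have hle : X.grp ≤ D.group F := fun g hg => hg.1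
  let α₀ : ↥X.grp →* GL D.Idx F := ((D.group F).subtype.comp δ.toMonoidHom).comp (Subgroup.inclusion hle)
  have key : ∀ (l : List ℕ) (hl : ∀ i ∈ l, i < D.rank) (t u w : F),
      (∀ m (hm : m < l.length), φ ⟨l[m], hl _ (List.getElem_mem hm)⟩ (X.frob^[m] t) = X.frob^[m] u ∧
        ψ ⟨l[m], hl _ (List.getElem_mem hm)⟩ (X.frob^[m] t) = X.frob^[m] w) →
      (δ ⟨orbEl X.cert X.frob (l.map T.simp') t, orbEl_mem_group _ _⟩ : GL D.Idx F) = orbEl X.cert X.frob (l.map T.simp') u ∧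
      (δ ⟨orbEl X.cert X.frob (l.map fun i => T.neg (T.simp' i)) t, orbEl_mem_group _ _⟩ : GL D.Idx F) =
        orbEl X.cert X.frob (l.map fun i => T.neg (T.simp' i)) w := by
    intro l
    induction l with
    | nil =>
      intro hl t u w _
      simp only [List.map_nil, orbEl]
      exact ⟨congrArg Subtype.val (map_one δ), congrArg Subtype.val (map_one δ)⟩
    | cons i l ih =>
      intro hl t u w hcl
      have h0 := hcl 0 (Nat.zero_lt_succ _)
      simp only [List.getElem_cons_zero, Function.iterate_zero, id_eq] at h0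
      obtain ⟨ih1, ih2⟩ := ih (fun x hx => hl x (List.mem_cons_of_mem _ hx)) (X.frob t) (X.frob u) (X.frob w)
        fun m hm => by
          have := hcl (m + 1) (Nat.succ_lt_succ hm)
          simp only [List.getElem_cons_succ, Function.iterate_succ_apply] at this
          exact this
      have hi := hl i (List.mem_cons_self ..)
      simp only [List.map_cons, orbEl]
      refine ⟨?_, ?_⟩
      · rw [show (⟨xg X.cert (T.simp' i) t * orbEl X.cert X.frob (l.map T.simp') (X.frob t), _⟩ : ↥(D.group F)) =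
          autEl X.cert (T.simp' i) t * ⟨orbEl X.cert X.frob (l.map T.simp') (X.frob t), orbEl_mem_group _ _⟩ from rfl,
          map_mul, h.pos ⟨i, hi⟩, Subgroup.coe_mul, ih1, h0.1]
        rfl
      · rw [show (⟨xg X.cert (T.neg (T.simp' i)) t * orbEl X.cert X.frob (l.map fun i => T.neg (T.simp' i)) (X.frob t), _⟩ :
            ↥(D.group F)) = autEl X.cert (T.neg (T.simp' i)) t *
            ⟨orbEl X.cert X.frob (l.map fun i => T.neg (T.simp' i)) (X.frob t), orbEl_mem_group _ _⟩ from rfl,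
          map_mul, h.neg ⟨i, hi⟩, Subgroup.coe_mul, ih2, h0.2]
        rfl
  have hbase : ∀ (J : Fin X.tw.norb) (t : ↥(X.sub J)),
      α₀ (X.pe J t) = X.el J (Φ J t) ∧ α₀ (X.pen J t) = X.eln J (Ψ J t) := by
    intro J t
    have hlt := X.comb.orb_lt J J.2
    obtain ⟨k1, k2⟩ := key (X.tw.orb J) hlt t (Φ J t) (Ψ J t) fun m hm => hcomp J m hm t t.2
    have e1 : (X.tw.base J).map T.neg = (X.tw.orb J).map fun i => T.neg (T.simp' i) := by
      rw [X.simply.base_eq J J.2, List.map_map]; rfl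
    refine ⟨?_, ?_⟩
    · show (δ ⟨X.el J t, _⟩ : GL D.Idx F) = _
      simp only [el, X.simply.base_eq J J.2]
      exact k1
    · show (δ ⟨X.eln J t, _⟩ : GL D.Idx F) = _
      simp only [eln, e1]
      exact k2
  have hin : ∀ x, α₀ x ∈ X.grp := by
    intro x
    have hx : X.grp ≤ (X.grp.comap α₀).map X.grp.subtype := X.grp_le
      (fun J t ht => ⟨X.pe J ⟨t, ht⟩, Subgroup.mem_comap.2 (by
        rw [(hbase J _).1]; exact X.el_mem J (hmem J t ht).1), rfl⟩)
      (fun J t ht => ⟨X.pen J ⟨t, ht⟩, Subgroup.mem_comap.2 (by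
        rw [(hbase J _).2]; exact X.eln_mem J (hmem J t ht).2), rfl⟩)
    obtain ⟨y, hy, e⟩ := hx x.2
    rw [show x = y from Subtype.ext e.symm]
    exact hy
  let α₁ := α₀.codRestrict X.grp hin
  have hinj : Function.Injective α₁ := fun a b e => by
    have e' : α₀ a = α₀ b := congrArg (fun z : ↥X.grp => (z : GL D.Idx F)) e
    exact Subgroup.inclusion_injective hle (δ.injective (Subtype.ext e'))
  exact ⟨MulEquiv.ofBijective α₁ ⟨hinj, Finite.injective_iff_surjective.1 hinj⟩,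
    ⟨fun J t => (hbase J t).1, fun J t => (hbase J t).2⟩, fun hk g => hk ⟨g, hle g.2⟩, fun hk g => hk ⟨g, hle g.2⟩⟩

/-- Parameters assembled from scalars on the orbits. -/
noncomputable def parAll (v : Fin X.tw.norb → Fˣ) : Fin D.rank → Fˣ := ∏ J, X.par J (v J)

theorem parAll_apply (v : Fin X.tw.norb → Fˣ) (J : Fin X.tw.norb) (m : ℕ) (hm : m < (X.tw.orb J).length) :
    ((X.parAll v ⟨(X.tw.orb J)[m], X.comb.orb_lt J J.2 _ (List.getElem_mem hm)⟩ : Fˣ) : F) = X.frob^[m] (v J : F) := by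
  rw [parAll, Finset.prod_apply, Finset.prod_eq_single J (fun L _ hne => by
    rw [par, if_neg fun h => hne (Fin.ext (X.linked.orb_disj L L.2 J J.2 _ h (List.getElem_mem hm)))])
    (fun h => absurd (Finset.mem_univ J) h), par, if_pos (List.getElem_mem hm),
    (X.simply.orb_nodup J J.2).idxOf_getElem, iter_units]

/-- Diagonal automorphisms. -/
theorem exists_diagT (hlen : D.chain.toList.length = D.nroots) (hstep : chkStep D T = true) {Φ : List (List ℤ)}
    (hΦ : chkDelta T Φ = true) (v : Fin X.tw.norb → Fˣ) (hv : ∀ J : Fin X.tw.norb, (v J : F) ∈ X.sub J) :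
    ∃ α : MulAut ↥X.grp, X.OrbAct α id (fun J t => v J * t) (fun J t => ((v J)⁻¹ : Fˣ) * t) ∧
      AutKeeps α X.posT ∧ AutKeeps α X.negT := by
  obtain ⟨χ, hχ, hv'⟩ := exists_rootCharacter X.cert hΦ (X.parAll v)
  obtain ⟨δ, -, hδ⟩ := exists_diagAut X.cert hlen hstep hχ
  have h : RootAct X.cert δ id (fun i t => (X.parAll v i : F) * t)
      (fun i t => ((X.parAll v i)⁻¹ : Fˣ) * t) := by
    refine ⟨fun i t => ?_, fun i t => ?_⟩
    · rw [hδ _ (X.cert.spec.simp_lt i i.2), hv']; rfl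
    · have hp := X.cert.spec.simp_lt i i.2
      rw [hδ _ (X.cert.spec.neg_lt _ hp), show χ (T.neg (T.simp' i)) = (χ (T.simp' i))⁻¹ by
        rw [← X.cert.spec.shape.neg_eq _ hp]; exact hχ.1 _ hp, hv']
      rfl
  have hk := autKeeps_of_rootwise X.cert (θ := δ) id (fun r hr => ⟨hr, id, id⟩) fun r hr t => ⟨_, hδ r hr t⟩
  suffices key : ∃ α : MulAut ↥X.grp, X.OrbAct α id (fun J t => v J * t) (fun J t => ((v J)⁻¹ : Fˣ) * t) ∧
      (AutKeeps δ ((D.posUnipotent F).subgroupOf (D.group F)) → AutKeeps α X.posT) ∧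
      (AutKeeps δ ((D.negUnipotent F).subgroupOf (D.group F)) → AutKeeps α X.negT) from
    key.imp fun α ⟨hα, h1, h2⟩ => ⟨hα, h1 hk.1, h2 hk.2⟩
  refine X.exists_restrict h _ _ (fun J t ht => ⟨mul_mem (hv J) ht, mul_mem (by
    rw [Units.val_inv_eq_inv_val]; exact inv_mem (hv J)) ht⟩) fun J m hm t _ => ⟨?_, ?_⟩
  · show (X.parAll v _ : F) * X.frob^[m] t = _
    rw [X.parAll_apply, iterate_mul]
  · show (((X.parAll v _)⁻¹ : Fˣ) : F) * X.frob^[m] t = _
    rw [Units.val_inv_eq_inv_val, X.parAll_apply, Units.val_inv_eq_inv_val, iterate_mul]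
    congr 1
    simp [X.iter]

/-- Field automorphisms. -/
theorem exists_fieldT (σ : F ≃+* F) :
    ∃ α : MulAut ↥X.grp, X.OrbAct α id (fun _ t => σ t) (fun _ t => σ t) ∧
      AutKeeps α X.posT ∧ AutKeeps α X.negT := by
  obtain ⟨δ, -, h, hkU, hkV⟩ := exists_fieldAut X.cert σ
  suffices key : ∃ α : MulAut ↥X.grp, X.OrbAct α id (fun _ t => σ t) (fun _ t => σ t) ∧
      (AutKeeps δ ((D.posUnipotent F).subgroupOf (D.group F)) → AutKeeps α X.posT) ∧
      (AutKeeps δ ((D.negUnipotent F).subgroupOf (D.group F)) → AutKeeps α X.negT) from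
    key.imp fun α ⟨hα, h1, h2⟩ => ⟨hα, h1 hkU, h2 hkV⟩
  refine X.exists_restrict h _ _ (fun J t ht => ?_) fun J m hm t _ => ?_
  · have : σ t ∈ X.sub J := by
      rw [X.mem_sub, X.iter, ← map_pow, ← X.iter, X.mem_sub.1 ht]
    exact ⟨this, this⟩
  · have : σ (X.frob^[m] t) = X.frob^[m] (σ t) := by simp [X.iter]
    exact ⟨this, this⟩

theorem sub_eq_of_len {J L : Fin X.tw.norb} (h : X.len J = X.len L) : X.sub J = X.sub L := by
  rw [sub, sub, h]

theorem commute_el_eln (hchk : chkCommNeg T = true) {J L : Fin X.tw.norb} (h : J ≠ L) (a b : F) :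
    Commute (X.el J a) (X.eln L b) := by
  rw [el, eln]
  refine orbEl_commute X.cert _ _ fun r hr t => (orbEl_commute X.cert _ _ fun s hs u => ?_).symm
  obtain ⟨r', hr', rfl⟩ := List.mem_map.1 hr
  rw [X.simply.base_eq L L.2] at hr'
  rw [X.simply.base_eq J J.2] at hs
  obtain ⟨i, hi, rfl⟩ := List.mem_map.1 hr'
  obtain ⟨j, hj, rfl⟩ := List.mem_map.1 hs
  exact (comm_neg_of_chk X.cert X.full.comm hchk (i := ⟨j, X.comb.orb_lt J J.2 j hj⟩)
    (l := ⟨i, X.comb.orb_lt L L.2 i hi⟩) (fun e => h (Fin.ext (X.linked.orb_disj J J.2 L L.2 j hj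
      (by rw [show j = i from congrArg Fin.val e]; exact hi)))) u t).symm

/-- Rigidity. -/
theorem exists_orbAct (h1 : 0 < X.tw.norb) (hflip : chkLongFlip T X.tw = true) (hchk : chkCommNeg T = true)
    {θ : MulAut ↥X.grp} (hU : AutKeeps θ X.posT) (hV : AutKeeps θ X.negT) :
    ∃ (π : Equiv.Perm (Fin X.tw.norb)) (c : Fin X.tw.norb → Fˣ) (σ : ∀ J : Fin X.tw.norb, ↥(X.sub J) ≃+* ↥(X.sub J))
      (φ ψ : Fin X.tw.norb → F → F), X.OrbAct θ π φ ψ ∧ (∀ J, X.len (π J) = X.len J) ∧ (∀ J : Fin X.tw.norb, (c J : F) ∈ X.sub J) ∧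
      ∀ (J : Fin X.tw.norb) (t : ↥(X.sub J)), φ J t = c J * (σ J t : F) ∧ ψ J t = ((c J)⁻¹ : Fˣ) * (σ J t : F) := by
  classical
  obtain ⟨π, π', hneg, hpos⟩ := X.exists_permT hU hV h1 hflip
  choose g hg using hneg
  choose f hf using hpos
  have hsame : ∀ J, π J = π' J := by
    intro J
    by_contra hne
    obtain ⟨L, hL⟩ := π.surjective (π' J)
    have hJL : J ≠ L := fun e => hne (e ▸ hL)
    have hc : Commute (X.pe J 1) (X.pen L 1) := Subtype.ext (X.commute_el_eln hchk hJL _ _).eq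
    have h := hc.map θ
    rw [hf, hg] at h
    have hg0 : ((g L 1 : ↥(X.sub (π L))) : F) ≠ 0 := fun e => by
      have : θ (X.pen L 1) = θ 1 := by rw [hg, map_one, show g L 1 = 0 from Subtype.ext e, X.pen_zero]
      exact one_ne_zero (X.pen_injective L ((θ.injective this).trans (X.pen_zero L).symm))
    have h2 : X.el (π' J) (f J 1 : F) * X.eln (π' J) (g L 1 : F) =
        X.eln (π' J) (g L 1 : F) * X.el (π' J) (f J 1 : F) := by
      have := congrArg (fun z : ↥X.grp => (z : GL D.Idx F)) h.eq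
      have eL : X.eln (π L) (g L 1 : F) = X.eln (π' J) (g L 1 : F) :=
        congrArg (fun M : Fin X.tw.norb => X.eln M (g L 1 : F)) hL
      rw [← eL]
      exact this
    have h3 := X.eq_zero_of_conj (π' J) hg0 (s' := (g L 1 : F)) (by rw [h2, mul_inv_cancel_right])
    have : θ (X.pe J 1) = θ 1 := by rw [hf, map_one, show f J 1 = 0 from Subtype.ext h3, X.pe_zero]
    exact one_ne_zero (X.pe_injective J ((θ.injective this).trans (X.pe_zero J).symm))
  obtain rfl : π = π' := Equiv.ext hsame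
  have hfinj : ∀ J, Function.Injective (f J) := fun J a b e =>
    X.pe_injective J (θ.injective (by rw [hf, hf, e]))
  have hlen : ∀ J, X.len (π J) = X.len J := by
    have hle : ∀ J : Fin X.tw.norb, X.q ^ X.len J ≤ X.q ^ X.len (π J) := fun J => by
      rw [← X.card_sub J, ← X.card_sub (π J)]
      haveI : Finite ↥(X.sub (π J)) := Subtype.finite
      exact Nat.card_le_card_of_injective _ (hfinj J)
    intro J
    have := (Finset.sum_eq_sum_iff_of_le (s := Finset.univ) fun L _ => hle L).1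
      (Equiv.sum_comp π fun L : Fin X.tw.norb => X.q ^ X.len L).symm J (Finset.mem_univ J)
    exact (Nat.pow_right_injective X.hq.two_le this).symm
  have hsub : ∀ J, X.sub (π J) = X.sub J := fun J => X.sub_eq_of_len (hlen J)
  let fF : ∀ J : Fin X.tw.norb, ↥(X.sub J) → ↥(X.sub J) := fun J t => ⟨(f J t : F), hsub J ▸ (f J t).2⟩
  let gF : ∀ J : Fin X.tw.norb, ↥(X.sub J) → ↥(X.sub J) := fun J t => ⟨(g J t : F), hsub J ▸ (g J t).2⟩
  have hfadd : ∀ J a b, fF J (a + b) = fF J a + fF J b := fun J a b => Subtype.ext (by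
    show (f J (a + b) : F) = ((f J a + f J b : ↥(X.sub (π J))) : F)
    congr 1
    exact X.pe_injective _ (by rw [← hf, ← X.pe_add, map_mul, hf, hf, X.pe_add]))
  have hgadd : ∀ J a b, gF J (a + b) = gF J a + gF J b := fun J a b => Subtype.ext (by
    show (g J (a + b) : F) = ((g J a + g J b : ↥(X.sub (π J))) : F)
    congr 1
    exact X.pen_injective _ (by rw [← hg, ← X.pen_add, map_mul, hg, hg, X.pen_add]))
  have hFinj : ∀ J, Function.Injective (fF J) := fun J a b e =>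
    hfinj J (Subtype.ext (congrArg (fun z : ↥(X.sub J) => (z : F)) e :))
  have hrig : ∀ J t, t ≠ 0 → gF J (-t⁻¹) = -(fF J t)⁻¹ := by
    intro J t ht
    refine Subtype.ext ?_
    show (g J (-t⁻¹) : F) = -((f J t : F))⁻¹
    have htF : (t : F) ≠ 0 := fun e => ht (Subtype.ext e)
    set a : F := (f J t : F) with ha
    set b : F := (g J (-t⁻¹) : F) with hbdef
    have hb : b ≠ 0 := fun e => by
      have : θ (X.pen J (-t⁻¹)) = θ 1 := by rw [hg, map_one, show g J (-t⁻¹) = 0 from Subtype.ext e, X.pen_zero]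
      exact neg_ne_zero.2 (inv_ne_zero ht) (X.pen_injective J ((θ.injective this).trans (X.pen_zero J).symm))
    have hf1 : (f J 1 : F) ≠ 0 := fun e => by
      have : θ (X.pe J 1) = θ 1 := by rw [hf, map_one, show f J 1 = 0 from Subtype.ext e, X.pe_zero]
      exact one_ne_zero (X.pe_injective J ((θ.injective this).trans (X.pe_zero J).symm))
    let s : ↥(X.sub J) := -1 / t ^ 2
    have e0 : X.pe J t * X.pen J (-t⁻¹) * X.pe J t * X.pe J 1 * (X.pe J t * X.pen J (-t⁻¹) * X.pe J t)⁻¹ = X.pen J s :=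
      Subtype.ext (by
        show X.el J (t : F) * X.eln J (-(t : F)⁻¹) * X.el J t * X.el J 1 *
          (X.el J (t : F) * X.eln J (-(t : F)⁻¹) * X.el J t)⁻¹ = X.eln J (-1 / (t : F) ^ 2)
        rw [← X.nn_eq, X.nn_conj J htF])
    have e1 := congrArg θ e0
    simp only [map_mul, map_inv, hf, hg] at e1
    have e2 : X.el (π J) a * X.eln (π J) b * X.el (π J) a * X.el (π J) (f J 1 : F) *
        (X.el (π J) a * X.eln (π J) b * X.el (π J) a)⁻¹ = X.eln (π J) (g J s : F) := congrArg Subtype.val e1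
    set L := π J
    set z := a + b⁻¹
    have hm : X.el L a * X.eln L b * X.el L a = X.el L z * X.nn L (-b⁻¹) * X.el L z := by
      rw [X.eln_formula L hb, show X.el L z = X.el L a * X.el L b⁻¹ from (X.el_add L _ _).symm]
      have hcm : X.el L b⁻¹ * X.el L a = X.el L a * X.el L b⁻¹ := by rw [X.el_add, X.el_add, add_comm]
      simp only [mul_assoc]
      rw [hcm]
    rw [hm] at e2
    have hcomm : X.el L z * X.el L (f J 1 : F) = X.el L (f J 1 : F) * X.el L z := by
      rw [X.el_add, X.el_add, add_comm]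
    have e3 : X.el L z * X.eln L (-(f J 1 : F) / (-b⁻¹) ^ 2) * (X.el L z)⁻¹ = X.eln L (g J s : F) := by
      rw [← X.nn_conj L (neg_ne_zero.2 (inv_ne_zero hb)), ← e2]
      calc _ = X.el L z * X.nn L (-b⁻¹) * (X.el L (f J 1 : F) * X.el L z) *
            (X.el L z)⁻¹ * (X.nn L (-b⁻¹))⁻¹ * (X.el L z)⁻¹ := by group
        _ = _ := by rw [← hcomm]; group; rfl
    have hz : z = 0 := X.eq_zero_of_conj L
      (div_ne_zero (neg_ne_zero.2 hf1) (pow_ne_zero 2 (neg_ne_zero.2 (inv_ne_zero hb)))) e3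
    have hab : a = -b⁻¹ := eq_neg_of_add_eq_zero_left hz
    rw [hab, inv_neg, inv_inv, neg_neg]
  haveI : ∀ J : Fin X.tw.norb, Finite ↥(X.sub J) := fun J => Subtype.finite
  choose c σ hc h1 h2 using fun J => exists_ringEquiv_of_hua X.cert X.full (hfadd J) (hgadd J) (hFinj J) (hrig J)
  have hc' : ∀ J, (c J : F) ≠ 0 := fun J e => hc J (Subtype.ext e)
  refine ⟨π, fun J => Units.mk0 (c J : F) (hc' J), σ,
    fun J t => if h : t ∈ X.sub J then (f J ⟨t, h⟩ : F) else 0,
    fun J t => if h : t ∈ X.sub J then (g J ⟨t, h⟩ : F) else 0, ⟨fun J t => ?_, fun J t => ?_⟩, hlen,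
    fun J => (c J).2, fun J t => ⟨?_, ?_⟩⟩
  · rw [hf]; simp only [dif_pos t.2]; rfl
  · rw [hg]; simp only [dif_pos t.2]; rfl
  · simp only [dif_pos t.2]
    exact congrArg (fun z : ↥(X.sub J) => (z : F)) (h1 J t)
  · simp only [dif_pos t.2]
    rw [Units.val_inv_eq_inv_val, Units.val_mk0]
    exact congrArg (fun z : ↥(X.sub J) => (z : F)) (h2 J t)

/-- The reflections under the action. -/
theorem OrbAct.map_nn {θ : MulAut ↥X.grp} {π : Fin X.tw.norb → Fin X.tw.norb} {φ ψ : Fin X.tw.norb → F → F}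
    (h : X.OrbAct θ π φ ψ) (J : Fin X.tw.norb) (v : ↥(X.sub J)) (w : F) (hw1 : φ J v = w) (hw2 : ψ J (-(v : F)⁻¹) = -w⁻¹) :
    (θ ⟨X.nn J v, X.nn_mem J v.2⟩ : GL D.Idx F) = X.nn (π J) w := by
  have e : (⟨X.nn J v, X.nn_mem J v.2⟩ : ↥X.grp) = X.pe J v * X.pen J (-v⁻¹) * X.pe J v :=
    Subtype.ext (X.nn_eq J (v : F))
  rw [e, map_mul, map_mul, Subgroup.coe_mul, Subgroup.coe_mul, h.pos, h.neg, hw1, X.nn_eq]
  congr 3

/-- There are no graph automorphisms. -/
theorem perm_eq_one (hno : NoGraph T X.tw) {θ : MulAut ↥X.grp} (hU : AutKeeps θ X.posT) (hV : AutKeeps θ X.negT)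
    {π : Equiv.Perm (Fin X.tw.norb)} (hlen : ∀ J, X.len (π J) = X.len J) {φ ψ : Fin X.tw.norb → F → F}
    (h : X.OrbAct θ π φ ψ) {c : Fin X.tw.norb → Fˣ}
    (hc : ∀ J : Fin X.tw.norb, φ J 1 = c J ∧ ψ J (-1) = -((c J : F))⁻¹) : π = 1 := by
  refine hno π (fun J => hlen J) fun J L hcom => ?_
  simp only [lwComm, allBelow_iff, Nat.beq_eq, X.cert.spec.shape.nroots_eq] at hcom ⊢
  have hwJ := X.comb.lw_word J J.2
  have hwL := X.comb.lw_word L L.2
  have hd : (X.nn J 1 * X.nn L 1) * (X.nn L 1 * X.nn J 1)⁻¹ ∈ D.diagonalSubgroup F := by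
    have h1 := same_of_perm X.cert X.full (F := F) (hwJ.append hwL) (hwL.append hwJ) fun i hi => by
      rw [wperm_append, wperm_append]; exact hcom _ (X.cert.spec.simp_lt i hi)
    have h2 := (conj_mem_diag X.cert (wnu_mem X.cert (hwJ.append hwL)) (inv_mem h1)).1
    rw [wnu_append, wnu_append, ← X.nn_one, ← X.nn_one] at h2
    simpa [mul_assoc] using h2
  let d : ↥X.grp := X.refT J * X.refT L * (X.refT L * X.refT J)⁻¹
  have hdn : d ∈ Subgroup.normalizer (X.posT : Set ↥X.grp) ∧ d ∈ Subgroup.normalizer (X.negT : Set ↥X.grp) :=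
    ⟨Subgroup.mem_normalizer_iff.2 fun y => Subgroup.mem_normalizer_iff.1 (diag_le_normalizer X.cert hd) (y : GL D.Idx F),
      Subgroup.mem_normalizer_iff.2 fun y => Subgroup.mem_normalizer_iff.1 (neg_conj_diag X.cert hd) (y : GL D.Idx F)⟩
  have hθd := X.mem_diag_of_normalizes ((hU.normalizer d).2 hdn.1) ((hV.normalizer d).2 hdn.2)
  have hn : ∀ K : Fin X.tw.norb, (θ (X.refT K) : GL D.Idx F) = X.tor (π K) (c K) * X.nn (π K) 1 := fun K => by
    rw [← X.nn_tor]
    refine h.map_nn X K 1 (c K) (hc K).1 ?_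
    show ψ K (-(1 : F)⁻¹) = _
    rw [inv_one]; exact (hc K).2
  have e1 : (θ d : GL D.Idx F) = (X.tor (π J) (c J) * X.nn (π J) 1) * (X.tor (π L) (c L) * X.nn (π L) 1) *
      ((X.tor (π L) (c L) * X.nn (π L) 1) * (X.tor (π J) (c J) * X.nn (π J) 1))⁻¹ := by
    simp only [d, map_mul, map_inv, Subgroup.coe_mul, Subgroup.coe_inv, hn]
  set a := X.tor (π J) (c J)
  set b := X.tor (π L) (c L)
  set n := X.nn (π J) 1
  set m := X.nn (π L) 1
  have hn' := X.refT_mono (π J)
  have hm' := X.refT_mono (π L)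
  have t1 : a * (n * b * n⁻¹) ∈ D.diagonalSubgroup F :=
    mul_mem (X.tor_diag _ _) (conj_mem_diag X.cert hn' (X.tor_diag _ _)).1
  have t2 : b * (m * a * m⁻¹) ∈ D.diagonalSubgroup F :=
    mul_mem (X.tor_diag _ _) (conj_mem_diag X.cert hm' (X.tor_diag _ _)).1
  have h3 : (n * m) * (m * n)⁻¹ ∈ D.diagonalSubgroup F := by
    have := mul_mem (mul_mem (inv_mem t1) hθd) t2
    rw [e1] at this
    simpa [mul_assoc] using this
  have h4 := (conj_mem_diag X.cert (mul_mem hn' hm') h3).2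
  have h5 : (wnu X.cert F (X.tw.lw (π L) ++ X.tw.lw (π J)))⁻¹ * wnu X.cert F (X.tw.lw (π J) ++ X.tw.lw (π L)) ∈
      D.diagonalSubgroup F := by
    rw [wnu_append, wnu_append, ← X.nn_one, ← X.nn_one]
    rw [show (n * m)⁻¹ * ((n * m) * (m * n)⁻¹) * (n * m) = (m * n)⁻¹ * (n * m) by group] at h4
    exact h4
  intro r hr
  have := perm_of_same X.cert ((X.comb.lw_word _ (π L).2).append (X.comb.lw_word _ (π J).2))
    ((X.comb.lw_word _ (π J).2).append (X.comb.lw_word _ (π L).2)) h5 hr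
  rw [wperm_append, wperm_append] at this
  exact this.symm

/-- A common field automorphism. -/
theorem common_sigma (hchain : chkTwChain T X.tw X.deg = true) (h1 : 0 < X.tw.norb) {θ : MulAut ↥X.grp}
    {φ ψ : Fin X.tw.norb → F → F} (h : X.OrbAct θ id φ ψ) {σ : ∀ J : Fin X.tw.norb, ↥(X.sub J) ≃+* ↥(X.sub J)}
    (hσ : ∀ (J : Fin X.tw.norb) (t : ↥(X.sub J)), φ J t = (σ J t : F) ∧ ψ J t = (σ J t : F)) :
    ∃ s : F ≃+* F, ∀ (J : Fin X.tw.norb) (t : ↥(X.sub J)), (σ J t : F) = s t := by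
  classical
  simp only [chkTwChain, Bool.and_eq_true, Bool.or_eq_true, Nat.beq_eq, allBelow_iff, List.all_eq_true,
    decide_eq_true_eq] at hchain
  obtain ⟨h0, hstep⟩ := hchain
  let J0 : Fin X.tw.norb := ⟨0, h1⟩
  have htop : ∀ t : F, t ∈ X.sub J0 := fun t => by
    rw [X.mem_sub, show X.len J0 = X.deg from h0]; exact X.deg_per t
  let s : F ≃+* F :=
    { toFun := fun t => (σ J0 ⟨t, htop t⟩ : F)
      invFun := fun t => ((σ J0).symm ⟨t, htop t⟩ : F)
      left_inv := fun t => by simp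
      right_inv := fun t => by simp
      map_mul' := fun a b => by
        rw [show (⟨a * b, htop _⟩ : ↥(X.sub J0)) = ⟨a, htop a⟩ * ⟨b, htop b⟩ from rfl, map_mul]; rfl
      map_add' := fun a b => by
        rw [show (⟨a + b, htop _⟩ : ↥(X.sub J0)) = ⟨a, htop a⟩ + ⟨b, htop b⟩ from rfl, map_add]; rfl }
  refine ⟨s, ?_⟩
  suffices key : ∀ (n : ℕ) (hn : n < X.tw.norb) (t : ↥(X.sub n)), (σ ⟨n, hn⟩ t : F) = s t from
    fun J t => key J J.2 t
  intro n
  induction n with
  | zero => intro hn t; rfl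
  | succ n ih =>
    intro hn t
    have hn' : n < X.tw.norb := Nat.lt_of_succ_lt hn
    obtain ⟨hlen, hcart, hoth⟩ := (hstep (n + 1) hn).resolve_left (Nat.succ_ne_zero n)
    rw [Nat.add_sub_cancel] at hlen hcart hoth
    have hle : ∀ u : F, u ∈ X.sub (n + 1) → u ∈ X.sub n := fun u hu => by
      rw [X.mem_sub] at hu ⊢
      rcases hlen with e | e
      · rw [len, e, Function.iterate_one] at hu
        exact Function.iterate_fixed hu _
      · rw [len, e] at hu; exact hu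
    rw [← ih hn' ⟨t, hle _ t.2⟩]
    rcases eq_or_ne t 0 with rfl | ht
    · rw [map_zero, show (⟨((0 : ↥(X.sub (n + 1))) : F), hle _ (zero_mem _)⟩ : ↥(X.sub n)) = 0 from rfl, map_zero]; rfl
    let J : Fin X.tw.norb := ⟨n + 1, hn⟩
    let L : Fin X.tw.norb := ⟨n, hn'⟩
    have hv0 : (t : F) ≠ 0 := fun e => ht (Subtype.ext e)
    have hnn : ∀ v : ↥(X.sub (n + 1)), (θ ⟨X.nn J v, X.nn_mem J v.2⟩ : GL D.Idx F) = X.nn J (σ J v : F) := fun v => by
      refine h.map_nn X J v _ (hσ J v).1 ?_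
      have h2 := (hσ J (-v⁻¹)).2
      rw [map_neg, map_inv₀] at h2
      exact h2
    -- the torus element of the orbit and its effect on the previous one
    have hconj : ∀ (v : Fˣ), (v : F) ∈ X.sub J → ∀ u ∈ X.sub L,
        X.tor J v * X.el L u * (X.tor J v)⁻¹ = X.el L ((v : F)⁻¹ * u) := by
      intro v hv u hu
      have hχ : ∀ r < D.nroots, ∀ w : F, X.tor J v * xg X.cert r w * (X.tor J v)⁻¹ =
          xg X.cert r (chr T D (extend' (X.par J v)) r * w) := fun r hr w => by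
        rw [mul_inv_eq_iff_eq_mul]
        refine Units.ext ?_
        rw [Units.val_mul, Units.val_mul, tor, coe_torusHom, coe_xg, coe_xg,
          scal_mul_x X.cert.spec (extend' (X.par J v)) (fun j _ => extend'_ne _ j) hr]
      rw [X.diag_conj_el L (X.tor_mem J hv) (χ := chr T D (extend' (X.par J v)))
        (fun r hr w => hχ r (X.comb.base_lt L L.2 r hr) w) hu]
      congr 1
      congr 1
      have hhead := X.comb.orb_lt J J.2 _ (X.comb.head_mem (τ := X.tw) J.2)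
      rw [chr, Finset.prod_eq_single (X.tw.head J)]
      · have hh := X.comb.head_mem (τ := X.tw) J.2
        rw [extend', dif_pos hhead, par, if_pos hh,
          show (X.tw.orb J).idxOf (X.tw.head J) = 0 by rw [orb_eq_cons X.comb J.2]; exact List.idxOf_cons_self ..]
        show ((v : Fˣ) : F) ^ T.cartan (X.tw.head (n + 1)) (T.simp' (X.tw.head n)) = _
        rw [hcart, _root_.zpow_neg_one]
      · intro i hi hne
        by_cases hio : i ∈ X.tw.orb J
        · rw [show T.cartan i (T.simp' (X.tw.head L)) = 0 from (hoth i hio).resolve_left hne, zpow_zero]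
        · rw [extend', dif_pos (Finset.mem_range.1 hi), par, if_neg hio, Units.val_one, one_zpow]
      · exact fun h => absurd (Finset.mem_range.2 hhead) h
    let v : Fˣ := Units.mk0 (t : F) hv0
    have hσ0 : (σ J t : F) ≠ 0 := fun e => ht ((σ J).map_eq_zero_iff.1 (Subtype.ext e))
    have htor : (θ ⟨X.tor J v, X.tor_mem J t.2⟩ : GL D.Idx F) = X.tor J (Units.mk0 _ hσ0) := by
      have e : (⟨X.tor J v, X.tor_mem J t.2⟩ : ↥X.grp) =
          ⟨X.nn J t, X.nn_mem J t.2⟩ * ⟨X.nn J ((-1 : ↥(X.sub (n + 1))) : F), X.nn_mem J (-1 : ↥(X.sub (n + 1))).2⟩ :=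
        Subtype.ext (X.tor_eq J v)
      rw [e, map_mul, Subgroup.coe_mul, hnn, hnn, X.tor_eq, map_neg, map_one]
      rfl
    have e0 : (⟨X.tor J v, X.tor_mem J t.2⟩ : ↥X.grp) * X.pe L 1 * (⟨X.tor J v, X.tor_mem J t.2⟩ : ↥X.grp)⁻¹ =
        X.pe L ⟨(t : F)⁻¹, inv_mem (hle _ t.2)⟩ := Subtype.ext (by
      show X.tor J v * X.el L 1 * (X.tor J v)⁻¹ = X.el L (t : F)⁻¹
      rw [hconj v t.2 1 (one_mem _), mul_one]; rfl)
    have e1 := congrArg (fun z => (θ z : GL D.Idx F)) e0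
    simp only [map_mul, map_inv, Subgroup.coe_mul, Subgroup.coe_inv, htor, h.pos, (hσ L _).1, id_eq, map_one] at e1
    rw [show ((1 : ↥(X.sub L)) : F) = 1 from rfl, hconj _ (σ J t).2 1 (one_mem _), mul_one] at e1
    have e2 := X.el_injective L e1
    rw [(hσ L ⟨(t : F)⁻¹, inv_mem (hle _ t.2)⟩).1,
      show (⟨(t : F)⁻¹, inv_mem (hle _ t.2)⟩ : ↥(X.sub L)) = (⟨(t : F), hle _ t.2⟩ : ↥(X.sub L))⁻¹ from rfl,
      map_inv₀] at e2
    exact inv_injective e2

end TwCtx

end Cfsg.Lib.Chev
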