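import Cfsg.Prelude.Def_KGroupFacts
import Cfsg.Agent.Lib.Chev.TwAutRigid
import Cfsg.Agent.Lib.Chev.AutOut

/-!
The order of the outer automorphism group of a twisted group with orbits of orthogonal roots.
-/

set_option autoImplicit false
set_option linter.unusedSectionVars false

namespace Cfsg.Lib.Chev

open Cfsg.Lie

namespace TwCtx

variable {D : ChevalleyDatum} {T : Tbl} {F : Type*} [Field F] (X : TwCtx D T F) [Finite F]

/-- The finite checks. -/
structure AutChecks : Prop where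
  norb_pos : 0 < X.tw.norb
  flip : chkLongFlip T X.tw = true
  commNeg : chkCommNeg T = true
  noGraph : NoGraph T X.tw
  chain : chkTwChain T X.tw X.deg = true
  len : D.chain.toList.length = D.nroots
  step : chkStep D T = true
  delta : ∃ Φ : List (List ℤ), chkDelta T Φ = true

/-- The units of a subfield. -/
def uSub (J : ℕ) : Subgroup Fˣ where
  carrier := {u | (u : F) ∈ X.sub J}
  one_mem' := one_mem (X.sub J)
  mul_mem' {a b} ha hb := mul_mem (show (a : F) ∈ X.sub J from ha) hb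
  inv_mem' {a} ha := by
    show ((a⁻¹ : Fˣ) : F) ∈ X.sub J
    rw [Units.val_inv_eq_inv_val]; exact inv_mem (show (a : F) ∈ X.sub J from ha)

/-- Scalars on the orbits. -/
abbrev Scal : Type _ := ∀ J : Fin X.tw.norb, ↥(X.uSub J)

theorem OrbAct.congr' {θ : MulAut ↥X.grp} {π : Fin X.tw.norb → Fin X.tw.norb} {φ ψ φ' ψ' : Fin X.tw.norb → F → F}
    (h : X.OrbAct θ π φ ψ) (he : ∀ (J : Fin X.tw.norb), ∀ t ∈ X.sub J, φ J t = φ' J t ∧ ψ J t = ψ' J t) :
    X.OrbAct θ π φ' ψ' where
  pos J t := by rw [h.pos, (he J t t.2).1]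
  neg J t := by rw [h.neg, (he J t t.2).2]

theorem OrbAct.eval {θ : MulAut ↥X.grp} {φ ψ φ' ψ' : Fin X.tw.norb → F → F}
    (h : X.OrbAct θ id φ ψ) (h' : X.OrbAct θ id φ' ψ') (J : Fin X.tw.norb) {t : F} (ht : t ∈ X.sub J) :
    φ J t = φ' J t :=
  X.el_injective J ((h.pos J ⟨t, ht⟩).symm.trans (h'.pos J ⟨t, ht⟩))

variable (A : X.AutChecks)
include A

/-- The diagonal automorphism of scalars. -/
noncomputable def diagT (v : X.Scal) : MulAut ↥X.grp :=
  (X.exists_diagT A.len A.step A.delta.choose_spec (fun J => (v J : Fˣ)) fun J => (v J).2).choose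

theorem diagT_spec (v : X.Scal) :
    X.OrbAct (X.diagT A v) id (fun J t => ((v J : Fˣ) : F) * t) (fun J t => (((v J : Fˣ))⁻¹ : Fˣ) * t) ∧
      AutKeeps (X.diagT A v) X.posT ∧ AutKeeps (X.diagT A v) X.negT :=
  (X.exists_diagT A.len A.step A.delta.choose_spec (fun J => (v J : Fˣ)) fun J => (v J).2).choose_spec

theorem diagT_mul (v w : X.Scal) : X.diagT A (v * w) = X.diagT A v * X.diagT A w := by
  refine OrbAct.unique X (X.diagT_spec A _).1 ((OrbAct.comp X (X.diagT_spec A v).1 (X.diagT_spec A w).1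
    fun J t ht => ⟨mul_mem (w J).2 ht, mul_mem ((X.uSub J).inv_mem (w J).2) ht⟩).congr' X fun J t _ => ⟨?_, ?_⟩)
  · simp [mul_assoc]
  · simp [mul_comm, mul_left_comm, mul_assoc]

omit A in
/-- The field automorphism. -/
noncomputable def fieldT (σ : F ≃+* F) : MulAut ↥X.grp := (X.exists_fieldT σ).choose

omit A in
theorem fieldT_spec (σ : F ≃+* F) :
    X.OrbAct (X.fieldT σ) id (fun _ t => σ t) (fun _ t => σ t) ∧
      AutKeeps (X.fieldT σ) X.posT ∧ AutKeeps (X.fieldT σ) X.negT :=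
  (X.exists_fieldT σ).choose_spec

omit A in
theorem sigma_mem (σ : F ≃+* F) {J : ℕ} {t : F} (ht : t ∈ X.sub J) : σ t ∈ X.sub J := by
  rw [X.mem_sub, X.iter, ← map_pow, ← X.iter, X.mem_sub.1 ht]

/-- A diagonal times a field automorphism. -/
theorem df_act (v : X.Scal) (σ : F ≃+* F) : X.OrbAct (X.diagT A v * X.fieldT σ) id
    (fun J t => ((v J : Fˣ) : F) * σ t) (fun J t => (((v J : Fˣ))⁻¹ : Fˣ) * σ t) :=
  OrbAct.comp X (X.diagT_spec A v).1 (X.fieldT_spec σ).1 fun _ t ht => ⟨X.sigma_mem σ ht, X.sigma_mem σ ht⟩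

omit A in
theorem orbEl_one_lprod : ∀ l : List ℕ, orbEl X.cert X.frob l (1 : F) = lprod X.cert l fun _ => 1
  | [] => rfl
  | r :: l => by rw [orbEl, map_one, orbEl_one_lprod l, lprod_cons]

omit A in
theorem par_conj {c : Fin D.rank → Fˣ} (hc : c ∈ twFixPar X.symOK X.frob X.cert) :
    torusHom D T F c ∈ X.grp ∧ ∀ r < D.nroots, ∀ w : F, torusHom D T F c * xg X.cert r w * (torusHom D T F c)⁻¹ =
      xg X.cert r (chr T D (extend' c) r * w) := by
  refine ⟨((X.simply.diag_fixed X.cert X.symOK X.frob X.full X.comb X.torus).2 ⟨c, hc, rfl⟩).2, fun r hr w => ?_⟩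
  rw [mul_inv_eq_iff_eq_mul]
  refine Units.ext ?_
  rw [Units.val_mul, Units.val_mul, coe_torusHom, coe_xg, coe_xg,
    scal_mul_x X.cert.spec (extend' c) (fun j _ => extend'_ne c j) hr]

omit A in
theorem chr_head_mem {c : Fin D.rank → Fˣ} (hc : c ∈ twFixPar X.symOK X.frob X.cert) (J : Fin X.tw.norb) :
    chr T D (extend' c) (T.simp' (X.tw.head J)) ∈ X.sub J := by
  obtain ⟨hG, hconj⟩ := X.par_conj hc
  have h := X.diag_conj_el J hG (χ := chr T D (extend' c)) (fun r hr w => hconj r (X.comb.base_lt J J.2 r hr) w)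
    (one_mem (X.sub J))
  rw [mul_one] at h
  obtain ⟨r, l, -, hb, -, -, hnd, -, -⟩ := X.simply.orbit_data X.cert X.symOK (F := F) X.full X.comb J.2
  have hmem : X.el J (chr T D (extend' c) (T.simp' (X.tw.head J))) ∈ twFixPart X.cert X.sig (X.tw.base J) := by
    refine ⟨?_, ?_⟩
    · obtain ⟨t, ht, -⟩ := orbEl_mem_pset X.cert X.frob (r :: l) (chr T D (extend' c) (T.simp' (X.tw.head J))) hnd
      exact ⟨t, by rw [el, hb, ht]⟩
    · rw [← h]; exact (mul_mem (mul_mem hG (X.el_mem J (one_mem _))) (inv_mem hG) : _ ∈ X.grp).2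
  obtain ⟨w, hw, e⟩ := (X.fixPart_el J).1 hmem
  rw [X.el_injective J e]; exact hw

omit A in
theorem chr_units (c : Fin D.rank → Fˣ) (k : Fin D.rank) :
    chr T D (extend' c) (T.simp' k) = ((powHom (cartanMat D T) c k : Fˣ) : F) := by
  show _ = ((∏ j, c j ^ cartanMat D T k j : Fˣ) : F)
  rw [Units.coe_prod, chr, ← Fin.prod_univ_eq_prod_range (fun j => extend' c j ^ T.cartan j (T.simp' k)) D.rank]
  exact Finset.prod_congr rfl fun j _ => by simp [extend', cartanMat, Units.val_zpow_eq_zpow_val]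

omit A in
/-- The scalars of an element of the fixed torus. -/
noncomputable def torScal : ↥(twFixPar X.symOK X.frob X.cert) →* X.Scal where
  toFun c J := ⟨powHom (cartanMat D T) c.1 ⟨X.tw.head J, X.comb.orb_lt J J.2 _ (X.comb.head_mem J.2)⟩, by
    show ((powHom (cartanMat D T) c.1 _ : Fˣ) : F) ∈ X.sub J
    rw [← chr_units]; exact X.chr_head_mem c.2 J⟩
  map_one' := funext fun J => Subtype.ext (by simp)
  map_mul' a b := funext fun J => Subtype.ext (by simp)

omit A in
theorem conj_keeps {d : GL D.Idx F} (hd : d ∈ D.diagonalSubgroup F) (hG : d ∈ X.grp) :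
    AutKeeps (MulAut.conj (⟨d, hG⟩ : ↥X.grp)) X.posT ∧ AutKeeps (MulAut.conj (⟨d, hG⟩ : ↥X.grp)) X.negT :=
  ⟨fun g => (Subgroup.mem_normalizer_iff.1 (diag_le_normalizer X.cert hd) (g : GL D.Idx F)).symm,
    fun g => (Subgroup.mem_normalizer_iff.1 (neg_conj_diag X.cert hd) (g : GL D.Idx F)).symm⟩

/-- Conjugation by the fixed torus is diagonal. -/
theorem conj_tor (c : ↥(twFixPar X.symOK X.frob X.cert)) :
    MulAut.conj (⟨torusHom D T F c.1, (X.par_conj c.2).1⟩ : ↥X.grp) = X.diagT A (X.torScal c) := by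
  obtain ⟨hG, hconj⟩ := X.par_conj c.2
  have hhead : ∀ J : Fin X.tw.norb, chr T D (extend' c.1) (T.simp' (X.tw.head J)) = ((X.torScal c J : Fˣ) : F) :=
    fun J => chr_units c.1 ⟨_, X.comb.orb_lt J J.2 _ (X.comb.head_mem J.2)⟩
  refine OrbAct.unique X ⟨fun J t => ?_, fun J t => ?_⟩ (X.diagT_spec A _).1
  · show torusHom D T F c.1 * X.el J t * (torusHom D T F c.1)⁻¹ = X.el J _
    rw [X.diag_conj_el J hG (χ := chr T D (extend' c.1)) (fun r hr w => hconj r (X.comb.base_lt J J.2 r hr) w) t.2, hhead]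
  · show torusHom D T F c.1 * X.eln J t * (torusHom D T F c.1)⁻¹ = X.eln J _
    have e1 : X.eln J (t : F) = X.nn J 1 * X.el J (-(t : F)) * (X.nn J 1)⁻¹ := by
      rw [X.nn_conj J one_ne_zero]; simp
    set d := torusHom D T F c.1
    have hd : d ∈ D.diagonalSubgroup F := by rw [← torusHom_range X.cert]; exact ⟨_, rfl⟩
    have hd' := conj_mem_diag X.cert (X.refT_mono J) hd
    obtain ⟨χ, hχ⟩ := diag_conj_xg X.cert hd'.2
    have hG' : (X.nn J 1)⁻¹ * d * X.nn J 1 ∈ X.grp :=
      mul_mem (mul_mem (inv_mem (X.nn_mem J (one_mem _))) hG) (X.nn_mem J (one_mem _))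
    have hmem : ∀ u : F, u ∈ X.sub J → ∃ z, d * X.eln J u * d⁻¹ = X.eln J z ∧
        z = χ (T.simp' (X.tw.head J)) * u := fun u hu => by
      refine ⟨_, ?_, rfl⟩
      have e2 := X.diag_conj_el J hG' (χ := χ) (fun r hr w => (hχ r (X.comb.base_lt J J.2 r hr)).2 w) (neg_mem hu)
      have e3 : X.eln J u = X.nn J 1 * X.el J (-u) * (X.nn J 1)⁻¹ := by rw [X.nn_conj J one_ne_zero]; simp
      rw [e3, show d * (X.nn J 1 * X.el J (-u) * (X.nn J 1)⁻¹) * d⁻¹ = X.nn J 1 * ((X.nn J 1)⁻¹ * d * X.nn J 1 *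
        X.el J (-u) * ((X.nn J 1)⁻¹ * d * X.nn J 1)⁻¹) * (X.nn J 1)⁻¹ by group, e2, X.nn_conj J one_ne_zero]
      simp
    obtain ⟨z, hz, hzv⟩ := hmem t t.2
    rw [hz]
    -- read off the scalar at the head
    obtain ⟨r, l, hr, hb, -, hpos, hnd, -, -⟩ := X.simply.orbit_data X.cert X.symOK (F := F) X.full X.comb J.2
    have hrb : r ∈ X.tw.base J := by rw [hb]; exact List.mem_cons_self ..
    have hrn := X.comb.base_lt J J.2 r hrb
    obtain ⟨χ', hχ'⟩ := diag_conj_xg X.cert hd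
    congr 1
    rw [hzv]
    congr 1
    -- both sides are the character at the negative head
    have h1 : d * xg X.cert (T.neg r) 1 * d⁻¹ = xg X.cert (T.neg r) (((X.torScal c J : Fˣ) : F))⁻¹ := by
      rw [hconj _ (X.cert.spec.neg_lt _ hrn), chr_neg X.cert.spec _ hrn, hr, hhead, mul_one]
    rw [Units.val_inv_eq_inv_val]
    obtain ⟨z', hz', hzv'⟩ := hmem 1 (one_mem _)
    rw [hzv', mul_one] at hz'
    have h2 : ∀ (m : List ℕ), (∀ s ∈ m, s < D.nroots) → d * lprod X.cert m (fun _ => 1) * d⁻¹ =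
        lprod X.cert m fun s => χ' s := by
      intro m
      induction m with
      | nil => intro _; simp [lprod]
      | cons a m ih =>
        intro hm
        rw [lprod_cons, lprod_cons, ← ih (fun s hs => hm s (List.mem_cons_of_mem _ hs))]
        have := (hχ' a (hm a (List.mem_cons_self ..))).2 1
        rw [mul_one] at this
        rw [← this]; group
    have hlt : ∀ s ∈ (r :: l).map T.neg, s < D.nroots := fun s hs => by
      obtain ⟨a, ha, rfl⟩ := List.mem_map.1 hs
      exact X.cert.spec.neg_lt _ (hpos a ha).2.1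
    have hχr : χ' (T.neg r) = (((X.torScal c J : Fˣ) : F))⁻¹ := by
      have h := (hχ' _ (X.cert.spec.neg_lt _ hrn)).2 1
      rw [mul_one, h1] at h
      exact (xg_injective X.cert (X.cert.spec.neg_lt _ hrn) h).symm
    rw [← hχr]
    -- conjugate back into the positive roots
    have h3 := h2 _ hlt
    rw [← orbEl_one_lprod, ← hb] at h3
    rw [hz'] at h3
    obtain ⟨t', ht', ht''⟩ := orbEl_mem_pset X.cert X.frob ((r :: l).map T.neg) (χ (T.simp' (X.tw.head J)))
      (List.Nodup.map_on (fun a ha b hb' e => by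
        rw [← X.cert.spec.neg_neg a (hpos a ha).2.1, e, X.cert.spec.neg_neg b (hpos b hb').2.1]) hnd)
    rw [eln, hb, ht'] at h3
    obtain ⟨w0, hw0⟩ := wnu_conj_xg X.cert (F := F) (X.comb.lw_word J J.2) (X.cert.spec.neg_lt _ hrn)
    obtain ⟨k, hk0, hk⟩ := mono_conj_lprod X.cert (F := F) (X.comb.lw_word J J.2)
      (n := X.nn J 1) (by rw [X.nn_one, inv_mul_cancel]; exact one_mem _)
    have h4 := congrArg (fun g => X.nn J 1 * g * (X.nn J 1)⁻¹) h3
    simp only [hk _ _ hlt] at h4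
    rw [List.map_map, List.map_map] at h4
    have hflip : ((r :: l).map fun a => wperm T (X.tw.lw J) (T.neg a)) = r :: l := by
      have h5 := X.simply.base_flip J J.2
      rw [hb] at h5
      calc ((r :: l).map fun a => wperm T (X.tw.lw J) (T.neg a))
          = ((r :: l).map (wperm T (X.tw.lw J))).map T.neg := by
            rw [List.map_map]
            exact List.map_congr_left fun a ha => wperm_neg X.cert (X.comb.lw_word J J.2) (hpos a ha).2.1
        _ = r :: l := by
            rw [h5, List.map_map]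
            conv_rhs => rw [← List.map_id (r :: l)]
            exact List.map_congr_left fun a ha => X.cert.spec.neg_neg a (hpos a ha).2.1
    have hinv : ∀ a ∈ r :: l, T.neg (wperm T (X.tw.lw J) a) = wperm T (X.tw.lw J) (T.neg a) := fun a ha =>
      (wperm_neg X.cert (X.comb.lw_word J J.2) (hpos a ha).2.1).symm
    let back : ℕ → ℕ := fun s => wperm T (X.tw.lw J) s
    have hback : ∀ a ∈ r :: l, back (wperm T (X.tw.lw J) (T.neg a)) = T.neg a := fun a ha =>
      X.comb.lw_sq J J.2 _ (X.cert.spec.neg_lt _ (hpos a ha).2.1)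
    have hL : ∀ g : ℕ → F, ((r :: l).map ((fun s => xg X.cert (wperm T (X.tw.lw J) s) (k s * g s)) ∘ T.neg)).prod =
        lprod X.cert (r :: l) fun s => k (back s) * g (back s) := fun g => by
      rw [lprod]
      conv_rhs => rw [← hflip, List.map_map]
      congr 1
      exact List.map_congr_left fun a ha => by
        simp only [Function.comp_apply, hback a ha]
    rw [hL, hL] at h4
    have h6 := lprod_inj X.cert X.full.comm hnd (fun s hs => ⟨(hpos s hs).1, (hpos s hs).2.1⟩) h4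
      (wperm T (X.tw.lw J) (T.neg r)) (by rw [← hflip]; exact List.mem_cons_self ..)
    rw [hback r (List.mem_cons_self ..), ht'' _ rfl] at h6
    exact mul_left_cancel₀ (hk0 _ (X.cert.spec.neg_lt _ hrn)) h6

/-- The kernel of the scalars. -/
theorem torScal_eq_one {c : ↥(twFixPar X.symOK X.frob X.cert)} :
    X.torScal c = 1 ↔ (c : Fin D.rank → Fˣ) ∈ (torusHom D T F).ker := by
  rw [torusHom_ker X.cert, MonoidHom.mem_ker]
  refine ⟨fun h => funext fun i => ?_, fun h => funext fun J => Subtype.ext (congrFun h _)⟩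
  obtain ⟨J, hJ, hiJ⟩ := X.comb.orb_cover i i.2
  obtain ⟨hG, hconj⟩ := X.par_conj c.2
  obtain ⟨r, l, hr, hb, -, hpos, hnd, -, -⟩ := X.simply.orbit_data X.cert X.symOK (F := F) X.full X.comb hJ
  have h1 := X.diag_conj_el ⟨J, hJ⟩ hG (χ := chr T D (extend' c.1))
    (fun r hr w => hconj r (X.comb.base_lt J hJ r hr) w) (one_mem _)
  have hχ1 : chr T D (extend' c.1) (T.simp' (X.tw.head J)) = 1 := by
    have := congrArg (fun v : X.Scal => ((v ⟨J, hJ⟩ : Fˣ) : F)) h
    refine (chr_units c.1 ⟨_, X.comb.orb_lt J hJ _ (X.comb.head_mem hJ)⟩).trans ?_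
    exact this
  rw [hχ1, mul_one, el, orbEl_one_lprod] at h1
  have key : ∀ m : List ℕ, (∀ s ∈ m, s < D.nroots) → torusHom D T F c.1 * lprod X.cert m (fun _ => 1) *
      (torusHom D T F c.1)⁻¹ = lprod X.cert m (chr T D (extend' c.1)) := by
    intro m
    induction m with
    | nil => intro _; simp [lprod]
    | cons a m ih =>
      intro hm
      rw [lprod_cons, lprod_cons, ← ih (fun s hs => hm s (List.mem_cons_of_mem _ hs))]
      have := hconj a (hm a (List.mem_cons_self ..)) 1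
      rw [mul_one] at this
      rw [← this]; group
  rw [key _ (X.comb.base_lt J hJ), hb] at h1
  have := lprod_inj X.cert X.full.comm hnd (fun s hs => ⟨(hpos s hs).1, (hpos s hs).2.1⟩) h1 (T.simp' (i : ℕ))
    (by rw [← hb, X.simply.base_eq J hJ]; exact List.mem_map_of_mem hiJ)
  rw [chr_units] at this
  exact Units.ext this

theorem card_par_scal : Nat.card ↥(twFixPar X.symOK X.frob X.cert) = Nat.card X.Scal := by
  rw [X.simply.card_par X.cert X.symOK X.frob X.full X.comb X.linked, Nat.card_pi]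
  exact Finset.prod_congr rfl fun J _ => Nat.card_congr (Equiv.subtypeEquivRight fun u => X.mem_sub.symm)

/-- Every outer automorphism comes from a diagonal times a field automorphism. -/
theorem out_decompT (o : Cfsg.Out ↥X.grp) :
    ∃ (v : X.Scal) (σ : F ≃+* F), o = QuotientGroup.mk (X.diagT A v * X.fieldT σ) := by
  obtain ⟨θ, rfl⟩ := QuotientGroup.mk_surjective o
  obtain ⟨x, hU, hV⟩ := X.exists_inner_normaliseT θ
  obtain ⟨π, c, τ, φ, ψ, hact, hlen, hcm, hφ⟩ := X.exists_orbAct A.norb_pos A.flip A.commNeg hU hV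
  have hπ : π = 1 := X.perm_eq_one A.noGraph hU hV hlen hact (c := c) fun J => ⟨by
    have := (hφ J 1).1; simpa using this, by
    have := (hφ J (-1)).2; simpa using this⟩
  subst hπ
  let v : X.Scal := fun J => ⟨c J, hcm J⟩
  let θ₁ := MulAut.conj x * θ
  have h2 : X.OrbAct (X.diagT A v⁻¹ * θ₁) id (fun J t => (c J : F)⁻¹ * φ J t) (fun J t => (c J : F) * ψ J t) := by
    refine ⟨fun J t => ?_, fun J t => ?_⟩
    · have hm : φ J t ∈ X.sub J := by rw [(hφ J t).1]; exact mul_mem (hcm J) (τ J t).2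
      rw [MulAut.mul_apply, show θ₁ (X.pe J t) = X.pe J ⟨φ J t, hm⟩ from Subtype.ext (hact.pos J t),
        (X.diagT_spec A v⁻¹).1.pos]
      simp [v, Units.val_inv_eq_inv_val]
    · have hm : ψ J t ∈ X.sub J := by
        rw [(hφ J t).2, Units.val_inv_eq_inv_val]; exact mul_mem (inv_mem (hcm J)) (τ J t).2
      rw [MulAut.mul_apply, show θ₁ (X.pen J t) = X.pen J ⟨ψ J t, hm⟩ from Subtype.ext (hact.neg J t),
        (X.diagT_spec A v⁻¹).1.neg]
      simp [v]
  obtain ⟨s, hs⟩ := X.common_sigma A.chain A.norb_pos h2 (σ := τ) fun J t =>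
    ⟨by rw [(hφ J t).1, ← mul_assoc, inv_mul_cancel₀ (c J).ne_zero, one_mul],
      by rw [(hφ J t).2, ← mul_assoc, Units.mul_inv, one_mul]⟩
  refine ⟨v, s, ?_⟩
  have e : θ₁ = X.diagT A v * X.fieldT s := OrbAct.unique X
    (hact.congr' X (φ' := fun J t => ((v J : Fˣ) : F) * s t) (ψ' := fun J t => (((v J : Fˣ))⁻¹ : Fˣ) * s t)
      fun J t ht => ⟨by rw [(hφ J ⟨t, ht⟩).1, hs], by rw [(hφ J ⟨t, ht⟩).2, hs]⟩) (X.df_act A v s)
  rw [← e]
  show QuotientGroup.mk θ = QuotientGroup.mk (MulAut.conj x * θ)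
  rw [QuotientGroup.mk_mul, (QuotientGroup.eq_one_iff (N := Cfsg.Inn ↥X.grp) (MulAut.conj x)).2 ⟨x, rfl⟩, one_mul]

/-- The order of the outer automorphism group. -/
theorem card_outT : Nat.card (Cfsg.Out ↥X.grp) =
    Nat.card ↥((torusHom D T F).ker ⊓ twFixPar X.symOK X.frob X.cert) * Nat.card (F ≃+* F) := by
  classical
  let R := X.torScal.range
  let Φ : (X.Scal ⧸ R) × (F ≃+* F) → Cfsg.Out ↥X.grp := fun p =>
    QuotientGroup.mk (X.diagT A p.1.out * X.fieldT p.2)
  have hinj : Function.Injective Φ := by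
    rintro ⟨a, σ⟩ ⟨b, σ'⟩ h
    have h' : (X.diagT A b.out * X.fieldT σ') * (X.diagT A a.out * X.fieldT σ)⁻¹ ∈ Cfsg.Inn ↥X.grp := by
      rw [← QuotientGroup.eq_one_iff, QuotientGroup.mk_mul, QuotientGroup.mk_inv, mul_inv_eq_one]
      exact h.symm
    obtain ⟨x, hx⟩ := h'
    have hx' : X.diagT A b.out * X.fieldT σ' = MulAut.conj x * (X.diagT A a.out * X.fieldT σ) := by
      rw [hx, inv_mul_cancel_right]
    have hkU : ∀ v τ, AutKeeps (X.diagT A v * X.fieldT τ) X.posT := fun v τ =>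
      fun g => ((X.diagT_spec A v).2.1 (X.fieldT τ g)).trans ((X.fieldT_spec τ).2.1 g)
    have hkV : ∀ v τ, AutKeeps (X.diagT A v * X.fieldT τ) X.negT := fun v τ =>
      fun g => ((X.diagT_spec A v).2.2 (X.fieldT τ g)).trans ((X.fieldT_spec τ).2.2 g)
    have hxd : (x : GL D.Idx F) ∈ D.diagonalSubgroup F := by
      refine X.mem_diag_of_normalizes (Subgroup.mem_normalizer_iff.2 fun y => ?_) (Subgroup.mem_normalizer_iff.2 fun y => ?_)
      · obtain ⟨y', rfl⟩ := (X.diagT A a.out * X.fieldT σ).surjective y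
        rw [hkU a.out σ y', ← hkU b.out σ' y', hx']
        rfl
      · obtain ⟨y', rfl⟩ := (X.diagT A a.out * X.fieldT σ).surjective y
        rw [hkV a.out σ y', ← hkV b.out σ' y', hx']
        rfl
    obtain ⟨c, hc, ec⟩ := (X.simply.diag_fixed X.cert X.symOK X.frob X.full X.comb X.torus).1
      (show (x : GL D.Idx F) ∈ D.diagonalSubgroup F ⊓ X.grp from ⟨hxd, x.2⟩)
    have hconj : MulAut.conj x = X.diagT A (X.torScal ⟨c, hc⟩) := by
      rw [← X.conj_tor A ⟨c, hc⟩]; exact congrArg _ (Subtype.ext ec.symm)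
    rw [hconj, ← mul_assoc, ← X.diagT_mul] at hx'
    have hev := fun (J : Fin X.tw.norb) (t : F) (ht : t ∈ X.sub J) => OrbAct.eval X
      (X.df_act A b.out σ') (by rw [hx']; exact X.df_act A (X.torScal ⟨c, hc⟩ * a.out) σ) J ht
    have hb : b.out = X.torScal ⟨c, hc⟩ * a.out := funext fun J => Subtype.ext (Units.ext (by
      have := hev J 1 (one_mem _)
      simpa using this))
    have hσ : σ' = σ := RingEquiv.ext fun t => by
      have hch := A.chain
      simp only [chkTwChain, Bool.and_eq_true, Nat.beq_eq] at hch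
      have ht : t ∈ X.sub (⟨0, A.norb_pos⟩ : Fin X.tw.norb).1 := by
        rw [X.mem_sub, show X.len 0 = X.deg from hch.1]; exact X.deg_per t
      have := hev ⟨0, A.norb_pos⟩ t ht
      rw [hb] at this
      exact mul_left_cancel₀ (Units.ne_zero _) this
    subst hσ
    refine Prod.ext ?_ rfl
    show a = b
    rw [← a.out_eq', ← b.out_eq', QuotientGroup.eq, hb, mul_comm (X.torScal _), inv_mul_cancel_left]
    exact ⟨_, rfl⟩
  have hsurj : Function.Surjective Φ := fun o => by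
    obtain ⟨v, σ, rfl⟩ := X.out_decompT A o
    obtain ⟨c, hc⟩ : v⁻¹ * (QuotientGroup.mk v : X.Scal ⧸ R).out ∈ R := QuotientGroup.eq.1 (Quotient.out_eq' _).symm
    refine ⟨(QuotientGroup.mk v, σ), ?_⟩
    show QuotientGroup.mk (X.diagT A _ * X.fieldT σ) = _
    rw [show (QuotientGroup.mk v : X.Scal ⧸ R).out = X.torScal c * v by rw [hc, mul_comm, mul_inv_cancel_left],
      X.diagT_mul, ← X.conj_tor A c, mul_assoc, QuotientGroup.mk_mul,
      (QuotientGroup.eq_one_iff (N := Cfsg.Inn ↥X.grp) _).2 ⟨_, rfl⟩, one_mul]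
  rw [← Nat.card_congr (Equiv.ofBijective Φ ⟨hinj, hsurj⟩), Nat.card_prod]
  congr 1
  have h1 := Subgroup.card_eq_card_quotient_mul_card_subgroup R
  have h2 := Subgroup.card_eq_card_quotient_mul_card_subgroup X.torScal.ker
  rw [Nat.card_congr (QuotientGroup.quotientKerEquivRange _).toEquiv] at h2
  have hker : Nat.card ↥X.torScal.ker = Nat.card ↥((torusHom D T F).ker ⊓ twFixPar X.symOK X.frob X.cert) :=
    Nat.card_eq_of_bijective (fun z => ⟨z.1.1, (X.torScal_eq_one A).1 (MonoidHom.mem_ker.1 z.2), z.1.2⟩)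
      ⟨fun a b h => Subtype.ext (Subtype.ext (congrArg (fun z : ↥((torusHom D T F).ker ⊓
        twFixPar X.symOK X.frob X.cert) => (z : Fin D.rank → Fˣ)) h)),
        fun z => ⟨⟨⟨z.1, z.2.2⟩, MonoidHom.mem_ker.2 ((X.torScal_eq_one A).2 z.2.1)⟩, rfl⟩⟩
  have hR : 0 < Nat.card ↥R := Nat.card_pos
  rw [X.card_par_scal A, h1] at h2
  rw [← hker]
  exact Nat.eq_of_mul_eq_mul_right hR (h2.trans (mul_comm _ _))

end TwCtx

end Cfsg.Lib.Chev
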