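import Cfsg.Agent.Lib.Chev.TwAutNorm

/-!
An automorphism of a twisted group fixing both maximal unipotent subgroups permutes the orbit subgroups and their
opposites.
-/

set_option autoImplicit false
set_option linter.unusedSectionVars false

namespace Cfsg.Lib.Chev

open Cfsg.Lie

theorem mem_parabolic_single {G : Type*} [Group G] {P : Cfsg.BNPair G} {s : G} (hs : s ∈ P.S) {g : G}
    (hg : g ∈ P.parabolic {s}) : g ∈ P.B ∨ g ∈ Cfsg.Lib.Linear.BN.cell P s := by
  open Cfsg.Lib.Linear.BN in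
  obtain ⟨n, hn, hgn⟩ := parabolic_cells (J := {s}) (Set.singleton_subset_iff.2 hs) hg
  rw [← Subgroup.zpowers_eq_closure, Subgroup.mem_zpowers_iff] at hn
  obtain ⟨k, rfl⟩ := hn
  have h2 := Cfsg.Lib.Linear.BN.sq_mem_T hs
  rcases Int.even_or_odd' k with ⟨j, rfl | rfl⟩
  · left
    obtain ⟨b, hb, c, hc, rfl⟩ := Cfsg.Lib.Linear.BN.mem_cell.1 hgn
    refine mul_mem (mul_mem hb ?_) hc
    rw [zpow_mul, zpow_two]; exact zpow_mem (Subgroup.mem_inf.1 h2).1 j
  · right
    have hsame : Cfsg.Lib.Linear.BN.Same P s (s ^ (2 * j + 1)) := by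
      unfold Cfsg.Lib.Linear.BN.Same
      rw [add_comm, zpow_add, zpow_one, inv_mul_cancel_left, zpow_mul, zpow_two]
      exact zpow_mem h2 j
    rwa [← hsame.cell_eq] at hgn

namespace TwCtx

variable {D : ChevalleyDatum} {T : Tbl} {F : Type*} [Field F] (X : TwCtx D T F) [Finite F]

/-- The representative of the reflection of an orbit. -/
noncomputable def refT (J : Fin X.tw.norb) : ↥X.grp := ⟨X.nn J 1, X.nn_mem J (one_mem _)⟩

/-- The orbit subgroup in the group. -/
noncomputable def pe (J : Fin X.tw.norb) (v : ↥(X.sub J)) : ↥X.grp := ⟨X.el J v, X.el_mem J v.2⟩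

/-- The opposite orbit subgroup in the group. -/
noncomputable def pen (J : Fin X.tw.norb) (v : ↥(X.sub J)) : ↥X.grp := ⟨X.eln J v, X.eln_mem J v.2⟩

theorem pe_add (J : Fin X.tw.norb) (v w : ↥(X.sub J)) : X.pe J v * X.pe J w = X.pe J (v + w) :=
  Subtype.ext (X.el_add J v w)

theorem pen_add (J : Fin X.tw.norb) (v w : ↥(X.sub J)) : X.pen J v * X.pen J w = X.pen J (v + w) :=
  Subtype.ext (X.eln_add J v w)

theorem pe_zero (J : Fin X.tw.norb) : X.pe J 0 = 1 := Subtype.ext (orbEl_zero _)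

theorem pen_zero (J : Fin X.tw.norb) : X.pen J 0 = 1 := Subtype.ext (orbEl_zero _)

theorem pe_injective (J : Fin X.tw.norb) : Function.Injective (X.pe J) := fun v w h =>
  Subtype.ext (X.el_injective J (congrArg Subtype.val h))

theorem pen_injective (J : Fin X.tw.norb) : Function.Injective (X.pen J) := fun v w h =>
  Subtype.ext (X.eln_injective J (congrArg Subtype.val h))

theorem pe_posT (J : Fin X.tw.norb) (v : ↥(X.sub J)) : X.pe J v ∈ X.posT := X.el_pos J v

theorem pen_negT (J : Fin X.tw.norb) (v : ↥(X.sub J)) : X.pen J v ∈ X.negT := X.eln_neg J v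

theorem refT_mono (J : Fin X.tw.norb) : X.nn J 1 ∈ D.monomialSubgroup F := by
  rw [X.nn_one]; exact wnu_mem X.cert (X.comb.lw_word J J.2)

theorem refT_cell_eq {J L : Fin X.tw.norb} {b c b' c' : GL D.Idx F} (hb : b ∈ D.borelSubgroup F)
    (hb' : b' ∈ D.borelSubgroup F) (hc : c ∈ D.borelSubgroup F) (hc' : c' ∈ D.borelSubgroup F)
    (h : b * X.nn J 1 * c = b' * X.nn L 1 * c') : J = L := by
  have hd := cells_disjoint X.cert X.full hb hb' (X.refT_mono J) (X.refT_mono L) hc hc' h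
  have hs : ∀ s < D.nroots, wperm T (X.tw.lw J) s = wperm T (X.tw.lw L) s := fun s hs => by
    refine perm_of_same (F := F) X.cert (X.comb.lw_word J J.2) (X.comb.lw_word L L.2) ?_ hs
    rwa [← X.nn_one, ← X.nn_one]
  have hh' := X.comb.head_mem (τ := X.tw) J.2
  have hi := X.comb.orb_lt J J.2 _ hh'
  have hp := X.cert.spec.simp_lt _ hi
  have hb2 := (X.comb.base_sub J J.2 _ hp).2 ⟨X.full.simple_pos hi, inRootSub_simple X.cert hi hh'⟩
  have h2 := (X.comb.base_neg J J.2 _ hp).1 hb2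
  rw [hs _ hp] at h2
  have h3 := (X.comb.base_sub L L.2 _ hp).1 ((X.comb.base_neg L L.2 _ hp).2 h2)
  have h4 := h3.2
  rw [inRootSub_iff X.cert] at h4
  refine Fin.ext (X.linked.orb_disj J J.2 L L.2 _ hh' ?_)
  by_contra hno
  have := h4.2 _ hi hno
  rw [X.cert.spec.cor_simple _ hi _ hi, if_pos rfl] at this
  exact one_ne_zero this

theorem refT_not_borel (J : Fin X.tw.norb) : X.refT J ∉ X.borT := fun h => by
  rw [Subgroup.mem_subgroupOf] at h
  have hd : X.nn J 1 ∈ D.diagonalSubgroup F := by rw [← borel_inf_monomial X.cert]; exact ⟨h, X.refT_mono J⟩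
  have hs : ∀ s < D.nroots, wperm T (X.tw.lw J) s = wperm T [] s := fun s hs => by
    refine perm_of_same (F := F) X.cert (X.comb.lw_word J J.2) (fun i hi => absurd hi List.not_mem_nil) ?_ hs
    rw [X.nn_one] at hd
    simpa [wnu] using inv_mem hd
  have hh' := X.comb.head_mem (τ := X.tw) J.2
  have hi := X.comb.orb_lt J J.2 _ hh'
  have hp := X.cert.spec.simp_lt _ hi
  have hb2 := (X.comb.base_sub J J.2 _ hp).2 ⟨X.full.simple_pos hi, inRootSub_simple X.cert hi hh'⟩
  have h2 := (X.comb.base_neg J J.2 _ hp).1 hb2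
  rw [hs _ hp] at h2
  have : wperm T [] (T.simp' (X.tw.head J)) = T.simp' (X.tw.head J) := rfl
  omega

/-- An element of `V` in a double coset of a reflection is in the opposite orbit subgroup. -/
theorem eq_eln_of_cell (J : Fin X.tw.norb) {v b c : GL D.Idx F} (hv : v ∈ D.negUnipotent F)
    (hb : b ∈ D.borelSubgroup F) (hc : c ∈ twFixPart X.cert X.sig (X.tw.base J)) (h : v = b * X.nn J 1 * c) :
    ∃ z : ↥(X.sub J), v = X.eln J z := by
  classical
  obtain ⟨a, ha, rfl⟩ := (X.fixPart_el J).1 hc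
  by_cases ha0 : a = 0
  · exfalso
    rw [ha0, show X.el J (0 : F) = 1 from orbEl_zero _, mul_one] at h
    obtain ⟨W, hW⟩ := X.exists_longRep
    obtain ⟨-, -, e, he, hdW, -⟩ := hW 1
    have hWN := X.mono_of_rep he hdW
    let w : GL D.Idx F := W
    have hu : w⁻¹ * v * w ∈ D.posUnipotent F := by
      rw [← (hW _).1, show w * (w⁻¹ * v * w) * w⁻¹ = v by group]
      exact hv
    have hcell : (1 : GL D.Idx F) * w * (w⁻¹ * v * w) = b * (X.nn J 1 * w) * 1 := by rw [h]; group
    have hd := cells_disjoint X.cert X.full (one_mem _) hb hWN (mul_mem (X.refT_mono J) hWN)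
      (Subgroup.mem_sup_left hu) (one_mem _) hcell
    have hnd : X.nn J 1 ∈ D.diagonalSubgroup F := by
      have := (conj_mem_diag X.cert hWN hd).1
      simpa [mul_assoc, w] using this
    exact X.refT_not_borel J (show X.nn J 1 ∈ D.borelSubgroup F from Subgroup.mem_sup_right hnd)
  · let z : F := a⁻¹
    have hz : z ≠ 0 := inv_ne_zero ha0
    refine ⟨⟨z, inv_mem ha⟩, ?_⟩
    have e2 : X.eln J z = X.el J a * X.tor J (Units.mk0 (-a) (neg_ne_zero.2 ha0)) * X.nn J 1 * X.el J a := by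
      rw [X.eln_formula J hz, show z⁻¹ = a from inv_inv a, show X.nn J (-a) = X.nn J ((Units.mk0 (-a) (neg_ne_zero.2 ha0) : Fˣ) : F) from rfl,
        X.nn_tor, ← mul_assoc]
    have hbB : X.el J a * X.tor J (Units.mk0 (-a) (neg_ne_zero.2 ha0)) ∈ D.borelSubgroup F :=
      mul_mem (Subgroup.mem_sup_left (X.el_pos J a)) (Subgroup.mem_sup_right (X.tor_diag J _))
    have h1 : v * (X.eln J z)⁻¹ = b * (X.el J a * X.tor J (Units.mk0 (-a) (neg_ne_zero.2 ha0)))⁻¹ := by
      rw [h, e2]; group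
    have h2 := (Subgroup.eq_bot_iff_forall _).1 (borel_inf_neg X.cert) _
      ⟨show v * (X.eln J z)⁻¹ ∈ D.borelSubgroup F by rw [h1]; exact mul_mem hb (inv_mem hbB),
        Subgroup.mul_mem _ hv (Subgroup.inv_mem _ (X.eln_neg J z))⟩
    exact mul_inv_eq_one.1 h2

/-- The opposite orbit subgroups are permuted. -/
theorem exists_permT_neg {θ : MulAut ↥X.grp} (hU : AutKeeps θ X.posT) (hV : AutKeeps θ X.negT) (h1 : 0 < X.tw.norb) :
    ∃ π : Equiv.Perm (Fin X.tw.norb),
      (∀ J, ∃ b ∈ X.borT, ∃ c ∈ X.borT, θ (X.refT J) = b * X.refT (π J) * c) ∧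
      ∀ (J : Fin X.tw.norb) (v : ↥(X.sub J)), ∃ z, θ (X.pen J v) = X.pen (π J) z := by
  classical
  obtain ⟨P, n, hB, -, hS, -, hn, -⟩ := X.ok.exists_bnPair' X.cert X.full X.comb X.linked h1 fun J hJ =>
    ⟨X.el J 1, (X.fixPart_el ⟨J, hJ⟩).2 ⟨1, one_mem _, rfl⟩, fun h => one_ne_zero
      (X.el_injective ⟨J, hJ⟩ (h.trans (orbEl_zero _).symm))⟩
  have hBeq : P.B = X.borT := by
    rw [hB]; ext g; simp only [Subgroup.mem_subgroupOf, Subgroup.mem_inf]
    exact ⟨fun h => h.1, fun h => ⟨h, g.2⟩⟩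
  have hθB : AutKeeps θ X.borT := by
    have := hU.normalizer
    rwa [X.normalizer_posT] at this
  have hdiff : ∀ J : Fin X.tw.norb, ∃ d ∈ X.borT, X.refT J = n J * d := fun J => by
    refine ⟨(n J)⁻¹ * X.refT J, ?_, by group⟩
    rw [Subgroup.mem_subgroupOf]
    refine Subgroup.mem_sup_right ?_
    have := inv_mem (hn J)
    show ((n J : GL D.Idx F))⁻¹ * X.nn J 1 ∈ _
    rw [X.nn_one]
    simpa [mul_assoc] using this
  have hmap : ∀ J, ∃ L, ∃ b ∈ X.borT, ∃ c ∈ X.borT, θ (X.refT J) = b * X.refT L * c := by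
    intro J
    let M : Subgroup ↥X.grp := (P.parabolic {n J}).comap θ.symm.toMonoidHom
    have hJS : n J ∈ P.S := hS ▸ ⟨J, rfl⟩
    have hBM : P.B ≤ M := fun g hg => by
      refine Cfsg.Lib.Linear.BN.B_le_parabolic _ ?_
      rw [hBeq] at hg ⊢
      show θ.symm g ∈ X.borT
      rw [← hθB, θ.apply_symm_apply]; exact hg
    obtain ⟨L, hL⟩ : ∃ L, n L ∈ M := by
      by_contra hno
      push Not at hno
      have hle : M ≤ P.B := by
        rw [Cfsg.Lib.Linear.BN.eq_parabolic hBM]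
        refine sup_le le_rfl ((Subgroup.closure_le _).2 ?_)
        rintro s ⟨hsS, hsM⟩
        rw [hS] at hsS
        obtain ⟨L, rfl⟩ := hsS
        exact absurd hsM (hno L)
      have hmem : θ (n J) ∈ M := by
        show θ.symm (θ (n J)) ∈ P.parabolic {n J}
        rw [θ.symm_apply_apply]; exact Cfsg.Lib.Linear.BN.subset_parabolic _ rfl
      have h2 := hle hmem
      rw [hBeq, hθB, ← hBeq] at h2
      exact Cfsg.Lib.Linear.BN.not_mem_B hJS h2
    rcases mem_parabolic_single hJS hL with hb | hcell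
    · exfalso
      rw [hBeq] at hb
      have := (hθB _).2 hb
      rw [show θ (θ.symm.toMonoidHom (n L)) = n L from θ.apply_symm_apply _, ← hBeq] at this
      exact Cfsg.Lib.Linear.BN.not_mem_B (hS ▸ ⟨L, rfl⟩) this
    · obtain ⟨b, hb, c, hc, e⟩ := Cfsg.Lib.Linear.BN.mem_cell.1 hcell
      rw [hBeq] at hb hc
      have e2 : n L = θ b * θ (n J) * θ c := by
        rw [← map_mul, ← map_mul, ← e]; exact (θ.apply_symm_apply _).symm
      obtain ⟨d, hd, ed⟩ := hdiff J
      obtain ⟨d', hd', ed'⟩ := hdiff L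
      refine ⟨L, (θ b)⁻¹, inv_mem ((hθB _).2 hb), d'⁻¹ * (θ c)⁻¹ * θ d,
        mul_mem (mul_mem (inv_mem hd') (inv_mem ((hθB _).2 hc))) ((hθB _).2 hd), ?_⟩
      rw [ed', e2, ed, map_mul]; group
  choose π hπ using hmap
  have hinj : Function.Injective π := fun J J' e => by
    obtain ⟨b, hb, c, hc, e1⟩ := hπ J
    obtain ⟨b', hb', c', hc', e2⟩ := hπ J'
    rw [← e] at e2
    have h2 : X.refT J = θ.symm (b * b'⁻¹) * X.refT J' * θ.symm (c'⁻¹ * c) := by
      apply θ.injective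
      rw [map_mul, map_mul, θ.apply_symm_apply, θ.apply_symm_apply, e1, e2]; group
    have hb2 : ∀ x ∈ X.borT, θ.symm x ∈ X.borT := fun x hx => by
      rw [← hθB, θ.apply_symm_apply]; exact hx
    have h3 := congrArg (fun z : ↥X.grp => (z : GL D.Idx F)) h2
    refine X.refT_cell_eq (b := 1) (c := 1) (one_mem _) (hb2 _ (mul_mem hb (inv_mem hb'))) (one_mem _)
      (hb2 _ (mul_mem (inv_mem hc') hc)) ?_
    rw [one_mul, mul_one]; exact h3
  refine ⟨Equiv.ofBijective π (Finite.injective_iff_bijective.1 hinj), hπ, fun J v => ?_⟩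
  show ∃ z, θ (X.pen J v) = X.pen (π J) z
  by_cases hv : (v : F) = 0
  · refine ⟨0, ?_⟩
    rw [show v = 0 from Subtype.ext hv, X.pen_zero, X.pen_zero, map_one]
  -- the element is in the double coset of the reflection
  obtain ⟨b, hb, c, hc, e⟩ := hπ J
  set a : F := (v : F)⁻¹
  have ha : a ∈ X.sub J := inv_mem v.2
  have ha' : -a ≠ 0 := neg_ne_zero.2 (inv_ne_zero hv)
  let t : ↥X.grp := ⟨X.tor J (Units.mk0 (-a) ha'), X.tor_mem J (neg_mem ha)⟩
  have ev : X.pen J v = X.pe J ⟨a, ha⟩ * t * X.refT J * X.pe J ⟨a, ha⟩ := Subtype.ext (by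
    show X.eln J (v : F) = X.el J a * X.tor J _ * X.nn J 1 * X.el J a
    rw [X.eln_formula J hv, show X.nn J (-a) = X.nn J ((Units.mk0 (-a) ha' : Fˣ) : F) from rfl, X.nn_tor, ← mul_assoc])
  have hA : θ (X.pe J ⟨a, ha⟩) ∈ X.borT := (hθB _).2 (Subgroup.mem_sup_left (X.el_pos J a))
  have hT : θ t ∈ X.borT := (hθB _).2 (Subgroup.mem_sup_right (X.tor_diag J _))
  have hkey : θ (X.pen J v) = (θ (X.pe J ⟨a, ha⟩) * θ t * b) * X.refT (π J) * (c * θ (X.pe J ⟨a, ha⟩)) := by
    rw [ev, map_mul, map_mul, map_mul, e]; group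
  -- normalise the right factor into the orbit subgroup
  set g := θ (X.pen J v)
  have hgV : g ∈ X.negT := (hV _).2 (X.pen_negT J v)
  obtain ⟨e', he', hall⟩ := X.ok.bruhat_fixed X.cert X.full X.comb g.2
  obtain ⟨m, hm, hmd⟩ := X.ok.exists_fixed_rep X.cert X.comb he'
  obtain ⟨b2, hb2, c2, hc2, eg⟩ := hall m hm hmd
  have hnJ : X.nn (π J) 1 ∈ X.grp := X.nn_mem (π J) (one_mem _)
  have hkey' := congrArg (fun z : ↥X.grp => (z : GL D.Idx F)) hkey
  have hbb : ((θ (X.pe J ⟨a, ha⟩) * θ t * b : ↥X.grp) : GL D.Idx F) ∈ D.borelSubgroup F :=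
    mul_mem (mul_mem hA hT) hb
  have hcc : ((c * θ (X.pe J ⟨a, ha⟩) : ↥X.grp) : GL D.Idx F) ∈ D.borelSubgroup F := mul_mem hc hA
  have hw := X.comb.eword_word X.cert he'
  have hd := cells_disjoint X.cert X.full hb2.1 hbb (X.mono_of_rep he' hmd) (X.refT_mono (π J))
    (signPart_le_borel X.cert X.full _ true hc2.1) hcc (eg.symm.trans hkey')
  -- so the representative of the reflection may be used in the normal form
  have hd1 : (wnu X.cert F (X.tw.eword e'))⁻¹ * X.nn (π J) 1 ∈ D.diagonalSubgroup F := by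
    have := mul_mem hmd hd
    rwa [mul_assoc, mul_inv_cancel_left] at this
  obtain ⟨b3, hb3, c3, hc3, eg3⟩ := hall _ hnJ hd1
  refine X.eq_eln_of_cell (π J) (c := c3) hgV hb3.1 ⟨?_, hc3.2.2⟩ eg3 |>.imp fun z hz => Subtype.ext hz
  rw [X.ok.base_mem_signPart X.cert X.full X.comb (π J).2, signPart_iff_conj X.cert X.full (X.comb.lw_word _ (π J).2)
    (n := X.nn (π J) 1) (by rw [X.nn_one, inv_mul_cancel]; exact one_mem _)]
  exact (signPart_iff_conj X.cert X.full hw hd1).1 hc3.1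

/-- The orbit subgroups are carried to each other by the long element. -/
noncomputable def chkLongFlip (T : Tbl) (τ : TwData) : Bool :=
  allBelow (fun e => (!allBelow (fun s => !Nat.ble T.nroots (2 * s) || Nat.blt (2 * wperm T (τ.eword e) s) T.nroots) T.nroots)
    || allBelow (fun J => (τ.base J).all fun r => ((τ.base J).map T.neg).any (Nat.beq (wperm T (τ.eword e) r))) τ.norb)
    τ.elts.length

theorem long_flip (hflip : chkLongFlip T X.tw = true) {W : ↥X.grp} {e : ℕ} (he : e < X.tw.elts.length)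
    (hd : (wnu X.cert F (X.tw.eword e))⁻¹ * (W : GL D.Idx F) ∈ D.diagonalSubgroup F)
    (hl : ∀ s < D.nroots, D.nroots ≤ 2 * s → 2 * wperm T (X.tw.eword e) s < D.nroots) (J : Fin X.tw.norb)
    (v : ↥(X.sub J)) : ∃ z, W * X.pen J z * W⁻¹ = X.pe J v := by
  classical
  have hw := X.comb.eword_word X.cert he
  have hlt := X.comb.base_lt J J.2
  simp only [chkLongFlip, allBelow_iff, Bool.or_eq_true, Bool.not_eq_true', List.all_eq_true, List.any_eq_true,
    Nat.beq_eq, X.cert.spec.shape.nroots_eq] at hflip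
  have hmem : ∀ r ∈ X.tw.base J, wperm T (X.tw.eword e) r ∈ (X.tw.base J).map T.neg := fun r hr => by
    rcases hflip e he with h | h
    · exfalso
      rw [← Bool.not_eq_true] at h
      apply h
      rw [allBelow_iff]
      intro s hs
      simp only [Bool.or_eq_true, Bool.not_eq_true', Nat.blt_eq]
      by_cases hp : D.nroots ≤ 2 * s
      · exact Or.inr (hl s hs hp)
      · exact Or.inl (by rw [← Bool.not_eq_true, Nat.ble_eq]; exact hp)
    · obtain ⟨y, hy, e'⟩ := h J J.2 r hr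
      exact e' ▸ hy
  -- conjugation is injective from the orbit subgroup into the opposite one
  have key : ∀ u : ↥(X.sub J), ∃ z : ↥(X.sub J), (W : GL D.Idx F) * X.el J u * (W : GL D.Idx F)⁻¹ = X.eln J z := by
    intro u
    have hfix : X.el J u ∈ twFixPart X.cert X.sig (X.tw.base J) := (X.fixPart_el J).2 ⟨u, u.2, rfl⟩
    have h1 := (mono_conj_pset X.cert hw hd hlt).1 hfix.1
    have hG : (W : GL D.Idx F) * X.el J u * (W : GL D.Idx F)⁻¹ ∈ X.grp :=
      mul_mem (mul_mem W.2 (X.el_mem J u.2)) (inv_mem W.2)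
    -- pull back by the reflection of the orbit
    have h2 : (X.nn J 1)⁻¹ * ((W : GL D.Idx F) * X.el J u * (W : GL D.Idx F)⁻¹) * X.nn J 1 ∈
        twFixPart X.cert X.sig (X.tw.base J) := by
      refine ⟨?_, (mul_mem (mul_mem (inv_mem (X.nn_mem J (one_mem _))) hG) (X.nn_mem J (one_mem _)) : _ ∈ X.grp).2⟩
      rw [X.ok.base_mem_signPart X.cert X.full X.comb J.2, signPart_iff_conj X.cert X.full (X.comb.lw_word J J.2)
        (n := X.nn J 1) (by rw [X.nn_one, inv_mul_cancel]; exact one_mem _)]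
      refine ⟨?_, ?_⟩
      · obtain ⟨t, ht⟩ := h1
        rw [ht]
        have hconj : ∀ r ∈ X.tw.base J, ∀ x : F, (X.nn J 1)⁻¹ * xg X.cert (wperm T (X.tw.eword e) r) x * X.nn J 1 ∈
            D.posUnipotent F := fun r hr x => by
          obtain ⟨r', hr', e'⟩ := List.mem_map.1 (hmem r hr)
          have hs : X.cert.spec = X.cert.spec := rfl
          have hr'n := hlt r' hr'
          have hb := (X.comb.base_neg J J.2 r' hr'n).1 hr'
          obtain ⟨c, -, hct⟩ := wnu_conj_xg X.cert (F := F) (X.comb.lw_word J J.2)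
            (wperm_lt X.cert (X.comb.lw_word J J.2) (X.cert.spec.neg_lt _ hr'n))
          have hsq : wperm T (X.tw.lw J) (wperm T (X.tw.lw J) (T.neg r')) = T.neg r' :=
            X.comb.lw_sq J J.2 _ (X.cert.spec.neg_lt _ hr'n)
          rw [hsq] at hct
          rw [← e', X.nn_one]
          have h3 : ∀ x : F, ∃ y, (wnu X.cert F (X.tw.lw J))⁻¹ * xg X.cert (T.neg r') x * wnu X.cert F (X.tw.lw J) =
              xg X.cert (wperm T (X.tw.lw J) (T.neg r')) y := fun x => by
            obtain ⟨c', hc', hct'⟩ := wnu_conj_xg X.cert (F := F) (X.comb.lw_word J J.2)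
              (wperm_lt X.cert (X.comb.lw_word J J.2) (X.cert.spec.neg_lt _ hr'n))
            rw [hsq] at hct'
            refine ⟨c' * x, ?_⟩
            have h4 := hct' (c' * x)
            rw [← mul_assoc, hc', one_mul] at h4
            rw [← h4]; group
          obtain ⟨y, hy⟩ := h3 x
          rw [hy]
          refine xg_mem_pos X.cert (wperm_lt X.cert (X.comb.lw_word J J.2) (X.cert.spec.neg_lt _ hr'n)) ?_ y
          rw [wperm_neg X.cert (X.comb.lw_word J J.2) hr'n,
            X.cert.neg_eq (wperm_lt X.cert (X.comb.lw_word J J.2) hr'n)]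
          have := nroots_even X.cert
          omega
        have : ∀ l : List ℕ, (∀ s ∈ l, s ∈ (X.tw.base J).map (wperm T (X.tw.eword e))) →
            (X.nn J 1)⁻¹ * lprod X.cert l t * X.nn J 1 ∈ D.posUnipotent F := by
          intro l
          induction l with
          | nil => intro _; simp [lprod]
          | cons s l ih =>
            intro hs'
            obtain ⟨r, hr, rfl⟩ := List.mem_map.1 (hs' s (List.mem_cons_self ..))
            rw [lprod_cons]
            have := mul_mem (hconj r hr (t (wperm T (X.tw.eword e) r)))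
              (ih fun s hs'' => hs' s (List.mem_cons_of_mem _ hs''))
            simpa [mul_assoc] using this
        exact this _ fun s hs => hs
      · rw [show X.nn J 1 * ((X.nn J 1)⁻¹ * ((W : GL D.Idx F) * X.el J u * (W : GL D.Idx F)⁻¹) * X.nn J 1) *
            (X.nn J 1)⁻¹ = (W : GL D.Idx F) * X.el J u * (W : GL D.Idx F)⁻¹ by group]
        have hy := allNeg_conj X.cert X.full hw hl (x := ((wnu X.cert F (X.tw.eword e))⁻¹ * (W : GL D.Idx F)) *
          X.el J u * ((wnu X.cert F (X.tw.eword e))⁻¹ * (W : GL D.Idx F))⁻¹)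
        have := hy.1 ((Subgroup.mem_normalizer_iff.1 (diag_le_normalizer X.cert hd) _).1 (X.el_pos J u))
        simpa [mul_assoc] using this
    obtain ⟨a, ha, ea⟩ := (X.fixPart_el J).1 h2
    refine ⟨⟨-a, neg_mem ha⟩, ?_⟩
    show _ = X.eln J (-a)
    rw [show -a = -a / (1 : F) ^ 2 by simp, ← X.nn_conj J one_ne_zero, ← ea]
    group
  choose φ hφ using key
  have hinj : Function.Injective φ := fun a a' e' => by
    have := (hφ a).trans ((congrArg (fun z : ↥(X.sub J) => X.eln J z) e').trans (hφ a').symm)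
    rw [mul_left_inj, mul_right_inj] at this
    exact Subtype.ext (X.el_injective J this)
  haveI : Finite ↥(X.sub J) := Subtype.finite
  obtain ⟨w, hW2⟩ : ∃ w : ↥X.grp, ∀ u : ↥(X.sub J), ∃ z, w * X.pe J u * w⁻¹ = X.pen J z :=
    ⟨W, fun u => ⟨φ u, Subtype.ext (hφ u)⟩⟩
  -- the square of the long element is in the torus
  have hWW : (W : GL D.Idx F) * W ∈ D.diagonalSubgroup F := by
    have hs : SamePerm D T (X.tw.eword e ++ X.tw.eword e) [] := by
      refine samePerm_nil_of_negSet X.cert X.full (hw.append hw) (Finset.eq_empty_iff_forall_notMem.2 fun r hr => ?_)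
      obtain ⟨h1, h2, h3⟩ := mem_negSet.1 hr
      rw [wperm_append] at h3
      have hy := wperm_lt X.cert hw h1
      have hn := X.cert.spec.neg_lt _ hy
      have h4 := hl r h1 h2
      have hev := nroots_even X.cert
      have h5 := hl _ hn (by rw [X.cert.neg_eq hy]; omega)
      rw [wperm_neg X.cert hw hy, X.cert.neg_eq (wperm_lt X.cert hw hy)] at h5
      omega
    have h2 := same_of_perm X.cert X.full (F := F) (show IsWord D [] from fun i hi => absurd hi List.not_mem_nil)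
      (hw.append hw) fun i hi => (hs _ (X.cert.spec.simp_lt i hi)).symm
    have hww : wnu X.cert F (X.tw.eword e) * wnu X.cert F (X.tw.eword e) ∈ D.diagonalSubgroup F := by
      simpa [wnu] using h2
    have := mul_mem (mul_mem hww (conj_mem_diag X.cert (wnu_mem X.cert hw) hd).2) hd
    simpa [mul_assoc] using this
  -- so the long element also carries the opposite orbit subgroup into the orbit subgroup
  obtain ⟨χ, hχ⟩ := diag_conj_xg X.cert (inv_mem hWW)
  have hgrp : ((W : GL D.Idx F) * W)⁻¹ ∈ X.grp := inv_mem (mul_mem W.2 W.2)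
  have hv := X.diag_conj_el J hgrp (χ := χ) (fun r hr t => (hχ r (hlt r hr)).2 t) v.2
  have hmem' : ((W : GL D.Idx F) * W)⁻¹ * X.el J v * (((W : GL D.Idx F) * W)⁻¹)⁻¹ ∈
      twFixPart X.cert X.sig (X.tw.base J) := by
    refine ⟨?_, (mul_mem (mul_mem hgrp (X.el_mem J v.2)) (inv_mem hgrp) : _ ∈ X.grp).2⟩
    obtain ⟨r, l, -, hb, -, -, hnd, -, -⟩ := X.simply.orbit_data X.cert X.symOK (F := F) X.full X.comb J.2
    obtain ⟨t, ht, -⟩ := orbEl_mem_pset X.cert X.frob (r :: l) ((χ (T.simp' (X.tw.head J))) * v) hnd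
    rw [hv, hb]; exact ⟨t, by rw [el, hb, ht]⟩
  obtain ⟨a, ha, ea⟩ := (X.fixPart_el J).1 hmem'
  refine ⟨φ ⟨a, ha⟩, Subtype.ext ?_⟩
  show (W : GL D.Idx F) * X.eln J (φ ⟨a, ha⟩) * (W : GL D.Idx F)⁻¹ = X.el J v
  rw [← hφ]
  show (W : GL D.Idx F) * ((W : GL D.Idx F) * X.el J a * (W : GL D.Idx F)⁻¹) * (W : GL D.Idx F)⁻¹ = X.el J v
  rw [← ea]; group

/-- The orbit subgroups and their opposites are permuted in the same way. -/
theorem exists_permT {θ : MulAut ↥X.grp} (hU : AutKeeps θ X.posT) (hV : AutKeeps θ X.negT) (h1 : 0 < X.tw.norb)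
    (hflip : chkLongFlip T X.tw = true) : ∃ π π' : Equiv.Perm (Fin X.tw.norb),
      (∀ (J : Fin X.tw.norb) (v : ↥(X.sub J)), ∃ z, θ (X.pen J v) = X.pen (π J) z) ∧
      ∀ (J : Fin X.tw.norb) (v : ↥(X.sub J)), ∃ z, θ (X.pe J v) = X.pe (π' J) z := by
  classical
  obtain ⟨π, -, hneg⟩ := X.exists_permT_neg hU hV h1
  obtain ⟨W, hW⟩ := X.exists_longRep
  obtain ⟨-, -, e, he, hd, hl⟩ := hW 1
  let ψ : MulAut ↥X.grp := (MulAut.conj W)⁻¹ * θ * MulAut.conj W
  have hψ : ∀ g, ψ g = W⁻¹ * θ (W * g * W⁻¹) * W := fun g => by simp [ψ, MulAut.conj_inv_apply]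
  have hflip' : ∀ g : ↥X.grp, (W * g * W⁻¹ ∈ X.negT ↔ g ∈ X.posT) ∧ (W * g * W⁻¹ ∈ X.posT ↔ g ∈ X.negT) :=
    fun g => ⟨(hW _).1, (hW _).2.1⟩
  have hkeep : AutKeeps ψ X.posT ∧ AutKeeps ψ X.negT := by
    constructor <;> intro g
    · rw [← (hflip' _).1, hψ, show W * (W⁻¹ * θ (W * g * W⁻¹) * W) * W⁻¹ = θ (W * g * W⁻¹) by group, hV, (hflip' _).1]
    · rw [← (hflip' _).2, hψ, show W * (W⁻¹ * θ (W * g * W⁻¹) * W) * W⁻¹ = θ (W * g * W⁻¹) by group, hU, (hflip' _).2]
  obtain ⟨π', -, hπ'⟩ := X.exists_permT_neg hkeep.1 hkeep.2 h1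
  refine ⟨π, π', hneg, fun J v => ?_⟩
  obtain ⟨z, hz⟩ := X.long_flip hflip he hd hl J v
  obtain ⟨z', hz'⟩ := hπ' J z
  have hfl : ∃ y : ↥(X.sub (π' J)), W * X.pen (π' J) z' * W⁻¹ = X.pe (π' J) y := by
    have key : ∀ y, ∃ x, W * X.pen (π' J) x * W⁻¹ = X.pe (π' J) y := fun y => X.long_flip hflip he hd hl (π' J) y
    choose ξ hξ using key
    haveI : Finite ↥(X.sub (π' J)) := Subtype.finite
    obtain ⟨y, hy⟩ := (Finite.injective_iff_surjective.1 (show Function.Injective ξ from fun a b e' =>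
      X.pe_injective _ ((hξ a).symm.trans (by rw [e']; exact hξ b)))) z'
    exact ⟨y, by rw [← hy]; exact hξ y⟩
  obtain ⟨y, hy⟩ := hfl
  exact ⟨y, by rw [← hy, ← hz', hψ, hz]; group⟩

end TwCtx

end Cfsg.Lib.Chev
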