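import Cfsg.Agent.Lib.Chev.SpecialF4
import Cfsg.Agent.Lib.Chev.SpecialTwist
import Cfsg.Agent.Lib.Chev.TwGroup

/-! The twisted root system of ²F4. -/

set_option autoImplicit false
set_option maxRecDepth 100000

namespace Cfsg.Lib.Chev

open Cfsg.Lie

/-- Elements of the fixed Weyl group. -/
def twEltsF4 : List TwElt :=
  [
    ⟨0, 0, [], [33, 27, 25, 24], [1, 2], 0⟩,
    ⟨0, 0, [0], [14, 34, 26, 23], [0, 3], 2⟩,
    ⟨0, 1, [1], [37, 20, 22, 32], [4, 0], 4⟩,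
    ⟨1, 1, [1, 0], [10, 35, 31, 15], [5, 1], 6⟩,
    ⟨2, 0, [0, 1], [38, 13, 21, 43], [2, 6], 6⟩,
    ⟨3, 0, [0, 1, 0], [9, 29, 41, 4], [3, 7], 8⟩,
    ⟨4, 1, [1, 0, 1], [39, 12, 16, 45], [8, 4], 10⟩,
    ⟨5, 1, [1, 0, 1, 0], [8, 29, 41, 2], [9, 5], 12⟩,
    ⟨6, 0, [0, 1, 0, 1], [39, 18, 6, 45], [6, 10], 12⟩,
    ⟨7, 0, [0, 1, 0, 1, 0], [8, 35, 31, 2], [7, 11], 14⟩,
    ⟨8, 1, [1, 0, 1, 0, 1], [38, 18, 6, 43], [12, 8], 16⟩,
    ⟨9, 1, [1, 0, 1, 0, 1, 0], [9, 34, 26, 4], [13, 9], 18⟩,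
    ⟨10, 0, [0, 1, 0, 1, 0, 1], [37, 12, 16, 32], [10, 14], 18⟩,
    ⟨11, 0, [0, 1, 0, 1, 0, 1, 0], [10, 27, 25, 15], [11, 15], 20⟩,
    ⟨12, 1, [1, 0, 1, 0, 1, 0, 1], [33, 13, 21, 24], [15, 12], 22⟩,
    ⟨13, 1, [1, 0, 1, 0, 1, 0, 1, 0], [14, 20, 22, 23], [14, 13], 24⟩]

/-- The twisted root system. -/
noncomputable def twF4 : TwData :=
  { root := esymF4.root tblF4
    node := esymF4.pos
    orbs := [[0, 3], [1, 2]]
    lws := [[0, 3], [1, 2, 1, 2]]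
    bases := [[33, 24], [27, 25, 28, 30]]
    elts := twEltsF4
    classes := [(0, 0), (1, 0), (1, 1), (0, 2), (1, 3), (0, 4), (1, 5), (0, 6)] }

theorem chkTwBaseF4 : chkTwBase tblF4 twF4 = true := by decide +kernel

theorem chkTwClassesF4 : chkTwClasses tblF4 twF4 = true := by decide +kernel

theorem chkTwLinkedF4 : chkTwLinked tblF4 twF4 = true := by decide +kernel

theorem chkTwEltsF4 : chkTwElts tblF4 twF4 = true := by decide +kernel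

theorem chkTwSpecialF4 : chkTwSpecial tblF4 esymF4 twF4 = true := by decide +kernel

end Cfsg.Lib.Chev
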