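import Cfsg.Agent.Lib.Chev.SpecialG2
import Cfsg.Agent.Lib.Chev.SpecialTwist
import Cfsg.Agent.Lib.Chev.TwGroup

/-! The twisted root system of ²G2. -/

set_option autoImplicit false
set_option maxRecDepth 100000

namespace Cfsg.Lib.Chev

open Cfsg.Lie

/-- Elements of the fixed Weyl group. -/
def twEltsG2 : List TwElt :=
  [
    ⟨0, 0, [], [7, 6], [1], 0⟩,
    ⟨0, 0, [0], [4, 5], [0], 6⟩]

/-- The twisted root system. -/
noncomputable def twG2 : TwData :=
  { root := esymG2.root tblG2
    node := esymG2.pos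
    orbs := [[0, 1]]
    lws := [[0, 1, 0, 1, 0, 1]]
    bases := [[7, 6, 8, 9, 10, 11]]
    elts := twEltsG2
    classes := [(0, 0)] }

theorem chkTwBaseG2 : chkTwBase tblG2 twG2 = true := by decide +kernel

theorem chkTwClassesG2 : chkTwClasses tblG2 twG2 = true := by decide +kernel

theorem chkTwLinkedG2 : chkTwLinked tblG2 twG2 = true := by decide +kernel

theorem chkTwEltsG2 : chkTwElts tblG2 twG2 = true := by decide +kernel

theorem chkTwSpecialG2 : chkTwSpecial tblG2 esymG2 twG2 = true := by decide +kernel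

end Cfsg.Lib.Chev
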