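import Cfsg.Prelude.Def_LieTwisted
import Cfsg.Agent.Lib.Chev.TwDataF4
import Cfsg.Agent.Lib.Chev.TwTools
import Cfsg.Agent.Lib.Chev.TwBNTools

/-! The groups ²F₄(q) as fixed groups. -/

set_option autoImplicit false
set_option linter.unusedSectionVars false
set_option maxRecDepth 100000

namespace Cfsg.Lib.Chev

open Cfsg.Lie
open scoped commutatorElement

theorem certF4C : Cert chevF4 tblF4 := fullCertF4.comm.cert
theorem twCombF4 : TwComb chevF4 tblF4 twF4 := twComb_of_chk certF4C chkTwBaseF4 chkTwEltsF4 chkTwClassesF4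
theorem twLinkedF4 : TwLinked chevF4 tblF4 twF4 := twLinked_of_chk certF4C chkTwLinkedF4
theorem twSpecialF4 : TwSpecialOK chevF4 tblF4 esymF4 twF4 := twSpecial_of_chk certF4C chkTwSpecialF4

/-- The inverse of the Cartan matrix. -/
def invCartanF4 : Matrix (Fin chevF4.rank) (Fin chevF4.rank) ℤ :=
  (!![2, 3, 2, 1; 3, 6, 4, 2; 4, 8, 6, 3; 2, 4, 3, 2] : Matrix (Fin 4) (Fin 4) ℤ)

theorem invCartanF4_mul : invCartanF4 * cartanMat chevF4 tblF4 = 1 := by decide +kernel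

variable {K : Type*} [Field K]

instance fact_prime_esymF4 : Fact (Nat.Prime esymF4.p) := ⟨Nat.prime_two⟩

variable [CharP K esymF4.p]

/-- The twisting map of ²F₄. -/
noncomputable abbrev twF4σ (m : ℕ) : GL chevF4.Idx K → GL chevF4.Idx K := twE eSymOKF4 certF4C fullCertF4 m

theorem twOKF4 (m : ℕ) : TwOK certF4C twF4 (twF4σ (K := K) m) :=
  twSpecialF4.twOK eSymOKF4 certF4C fullCertF4 twCombF4 m

theorem f4_two_eq_zero : (2 : K) = 0 := by
  have := CharP.cast_eq_zero K esymF4.p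
  exact_mod_cast this

theorem f4_neg_eq (x : K) : -x = x := by linear_combination (-x) * f4_two_eq_zero (K := K)

theorem f4_odd_cast {M : ℤ} (h : M % 2 = 1) : (M : K) = 1 := by
  rw [← Int.mul_ediv_add_emod M 2, h]
  push_cast
  rw [f4_two_eq_zero, zero_mul, zero_add]

theorem f4_add_pow (a b : K) (j : ℕ) : (a + b) ^ 2 ^ j = a ^ 2 ^ j + b ^ 2 ^ j :=
  map_add (iterateFrobenius K esymF4.p j) a b

/-- The element given by two values on an orthogonal pair. -/
noncomputable def f4Pair (a b : ℕ) (A B : K) : GL chevF4.Idx K := xg certF4C a A * xg certF4C b B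

/-- The element given by four values on a class of type B₂. -/
noncomputable def f4Quad (a b c d : ℕ) (A B C' D' : K) : GL chevF4.Idx K :=
  xg certF4C a A * xg certF4C b B * xg certF4C c C' * xg certF4C d D'

/-- The requirements on an orthogonal pair. -/
noncomputable def chkF4Pair (a b : ℕ) : Bool :=
  Nat.blt a 48 && (Nat.blt b 48 && (Nat.beq (esymF4.root tblF4 a) b && (Nat.beq (esymF4.root tblF4 b) a &&
  ([esymF4.lam tblF4 a, esymF4.lam tblF4 b] == [2, 1] && chkCommMod 2 tblF4 a b))))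

/-- The requirements on a class of type B₂. -/
noncomputable def chkF4Quad (a b c d : ℕ) (M₁ M₂ : ℤ) : Bool :=
  Nat.blt a 48 && (Nat.blt b 48 && (Nat.blt c 48 && (Nat.blt d 48 &&
  (Nat.beq (esymF4.root tblF4 a) b && (Nat.beq (esymF4.root tblF4 b) a &&
  (Nat.beq (esymF4.root tblF4 c) d && (Nat.beq (esymF4.root tblF4 d) c &&
  ([esymF4.lam tblF4 a, esymF4.lam tblF4 b, esymF4.lam tblF4 c, esymF4.lam tblF4 d] == [2, 1, 2, 1] &&
  (decide (tTerms tblF4 a b = [(c, M₁, 1, 1), (d, M₂, 2, 1)]) && (decide (M₁ % 2 = 1) && (decide (M₂ % 2 = 1) &&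
  (!Nat.beq b a && (!Nat.beq b (tblF4.neg a) && chkCommMod 2 tblF4 c d)))))))))))))

theorem f4Pair_twist {a b : ℕ} (hchk : chkF4Pair a b = true) (m : ℕ) (A B : K) :
    twF4σ m (f4Pair a b A B) = f4Pair a b (B ^ 2 ^ m) (A ^ (2 ^ m * 2)) := by
  simp only [chkF4Pair, Bool.and_eq_true, Nat.blt_eq, Nat.beq_eq, beq_iff_eq, List.cons.injEq, and_true] at hchk
  obtain ⟨ha, hb, ra, rb, ⟨la, lb⟩, hcm⟩ := hchk
  have hex : ∀ r, esymF4.ex tblF4 m r = 2 ^ m * esymF4.lam tblF4 r := fun r => rfl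
  haveI : CharP K 2 := inferInstanceAs (CharP K esymF4.p)
  unfold f4Pair
  simp only [twF4σ]
  rw [twE_mul eSymOKF4 certF4C fullCertF4 m (xg_mem_group _ _ _) (xg_mem_group _ _ _),
    twE_xg eSymOKF4 certF4C fullCertF4 (F := K) m ha, twE_xg eSymOKF4 certF4C fullCertF4 (F := K) m hb, ra, rb,
    hex, hex, la, lb, mul_one]
  exact (xg_commute_mod certF4C fullCertF4.comm hcm _ _).eq.symm

theorem f4Quad_twist {a b c d : ℕ} {M₁ M₂ : ℤ} (hchk : chkF4Quad a b c d M₁ M₂ = true) (m : ℕ) (A B C' D' : K) :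
    twF4σ m (f4Quad a b c d A B C' D') = f4Quad a b c d (B ^ 2 ^ m) (A ^ (2 ^ m * 2))
      (D' ^ 2 ^ m + B ^ 2 ^ m * A ^ (2 ^ m * 2)) (C' ^ (2 ^ m * 2) + (B ^ 2 ^ m) ^ 2 * A ^ (2 ^ m * 2)) := by
  simp only [chkF4Quad, Bool.and_eq_true, Nat.blt_eq, Nat.beq_eq, beq_iff_eq, List.cons.injEq, and_true,
    decide_eq_true_eq, Bool.not_eq_true'] at hchk
  obtain ⟨ha, hb, hc, hd, ra, rb, rc, rd, ⟨la, lb, lc, ld⟩, hT, o1, o2, n1, n2, hcd⟩ := hchk
  have hex : ∀ r, esymF4.ex tblF4 m r = 2 ^ m * esymF4.lam tblF4 r := fun r => rfl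
  haveI : CharP K 2 := inferInstanceAs (CharP K esymF4.p)
  have hmem : ∀ r (t : K), xg certF4C r t ∈ chevF4.group K := fun r t => xg_mem_group certF4C r t
  have hform := comm_formula fullCertF4.comm (F := K) (r := a) (s := b) ha hb
    (fun e => by rw [e, Nat.beq_refl] at n1; exact Bool.noConfusion n1)
    (fun e => by rw [e, Nat.beq_refl] at n2; exact Bool.noConfusion n2)
  have hswap : ∀ u v : K, xg certF4C b u * xg certF4C a v = xg certF4C a v * xg certF4C b u *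
      (xg certF4C c (v * u) * xg certF4C d (v ^ 2 * u)) := by
    intro u v
    refine Units.ext ?_
    have := hform v u
    rw [ChevalleyDatum.commWord, commTerms_eq certF4C ha hb, hT] at this
    simp only [Units.val_mul, coe_xg]
    rw [this]
    simp [ChevalleyDatum.wordMat, f4_odd_cast (K := K) o1, f4_odd_cast (K := K) o2, CharTwo.neg_eq, mul_assoc]
  have hC := fun t u => (xg_commute_mod certF4C fullCertF4.comm (F := K) hcd t u).eq
  unfold f4Quad
  simp only [twF4σ]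
  rw [twE_mul eSymOKF4 certF4C fullCertF4 m (mul_mem (mul_mem (hmem _ _) (hmem _ _)) (hmem _ _)) (hmem _ _),
    twE_mul eSymOKF4 certF4C fullCertF4 m (mul_mem (hmem _ _) (hmem _ _)) (hmem _ _),
    twE_mul eSymOKF4 certF4C fullCertF4 m (hmem _ _) (hmem _ _),
    twE_xg eSymOKF4 certF4C fullCertF4 (F := K) m ha, twE_xg eSymOKF4 certF4C fullCertF4 (F := K) m hb,
    twE_xg eSymOKF4 certF4C fullCertF4 (F := K) m hc, twE_xg eSymOKF4 certF4C fullCertF4 (F := K) m hd,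
    ra, rb, rc, rd, hex, hex, hex, hex, la, lb, lc, ld, mul_one]
  set p := A ^ (2 ^ m * 2)
  set q := B ^ 2 ^ m
  set r := C' ^ (2 ^ m * 2)
  set s := D' ^ 2 ^ m
  calc xg certF4C b p * xg certF4C a q * xg certF4C d r * xg certF4C c s
      = xg certF4C a q * xg certF4C b p * xg certF4C c (q * p) *
          (xg certF4C d (q ^ 2 * p) * xg certF4C d r) * xg certF4C c s := by rw [hswap p q]; group
    _ = xg certF4C a q * xg certF4C b p * (xg certF4C c (q * p) *
          (xg certF4C d (q ^ 2 * p + r) * xg certF4C c s)) := by rw [xg_add]; group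
    _ = _ := by
      rw [← hC, ← mul_assoc (xg certF4C c (q * p)), xg_add, add_comm (q * p), add_comm (q ^ 2 * p)]; group

/-- The fixed elements of an orthogonal pair. -/
noncomputable def f4P (m a b : ℕ) (t : K) : GL chevF4.Idx K := f4Pair a b (t ^ 2 ^ m) t

/-- The fixed elements of a class of type B₂. -/
noncomputable def f4Q (m a b c d : ℕ) (t u : K) : GL chevF4.Idx K :=
  f4Quad a b c d (t ^ 2 ^ m) t (t ^ (2 ^ m + 1) + u) (u ^ (2 * 2 ^ m))

theorem coe_f4P (m a b : ℕ) (t : K) :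
    ((f4P m a b t : GL chevF4.Idx K) : Matrix chevF4.Idx chevF4.Idx K) = chevF4.wordMat K (f4PairWord (2 ^ m) a b t) := by
  simp [f4P, f4Pair, f4PairWord, ChevalleyDatum.wordMat, coe_xg]

theorem coe_f4Q (m a b c d : ℕ) (t u : K) :
    ((f4Q m a b c d t u : GL chevF4.Idx K) : Matrix chevF4.Idx chevF4.Idx K) =
      chevF4.wordMat K (b2ClassWord (2 ^ m) a b c d t u) := by
  simp [f4Q, f4Quad, b2ClassWord, ChevalleyDatum.wordMat, coe_xg, mul_assoc]

theorem f4P_mem (m a b : ℕ) (t : K) : f4P m a b t ∈ chevF4.group K :=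
  mul_mem (xg_mem_group _ _ _) (xg_mem_group _ _ _)

theorem f4Q_mem (m a b c d : ℕ) (t u : K) : f4Q m a b c d t u ∈ chevF4.group K :=
  mul_mem (mul_mem (mul_mem (xg_mem_group _ _ _) (xg_mem_group _ _ _)) (xg_mem_group _ _ _)) (xg_mem_group _ _ _)

theorem f4Pair_lprod (A B : K) :
    f4Pair 33 24 A B = lprod certF4C [33, 24] (fun r => if r = 33 then A else B) := by
  simp [f4Pair, lprod]

theorem f4Quad_lprod (A B C' D' : K) : f4Quad 27 25 28 30 A B C' D' =
    lprod certF4C [27, 25, 28, 30] (fun r => if r = 27 then A else if r = 25 then B else if r = 28 then C' else D') := by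
  simp [f4Quad, lprod, mul_assoc]

theorem f4Pair_inj {A B A₂ B₂ : K} (e : f4Pair 33 24 A B = f4Pair 33 24 A₂ B₂) : A = A₂ ∧ B = B₂ := by
  rw [f4Pair_lprod, f4Pair_lprod] at e
  have h := lprod_inj certF4C fullCertF4.comm (by decide) (by decide) e
  exact ⟨by simpa using h 33 (by simp), by simpa using h 24 (by simp)⟩

theorem f4Quad_inj {A B C' D' A₂ B₂ C₂ D₂ : K} (e : f4Quad 27 25 28 30 A B C' D' = f4Quad 27 25 28 30 A₂ B₂ C₂ D₂) :
    A = A₂ ∧ B = B₂ ∧ C' = C₂ ∧ D' = D₂ := by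
  rw [f4Quad_lprod, f4Quad_lprod] at e
  have h := lprod_inj certF4C fullCertF4.comm (by decide) (by decide) e
  exact ⟨by simpa using h 27 (by simp), by simpa using h 25 (by simp), by simpa using h 28 (by simp),
    by simpa using h 30 (by simp)⟩

theorem chkF4PairPos : chkF4Pair 33 24 = true := by decide +kernel
theorem chkF4PairNeg : chkF4Pair 14 23 = true := by decide +kernel
theorem chkF4QuadPos : chkF4Quad 27 25 28 30 (-1) (-1) = true := by decide +kernel
theorem chkF4QuadNeg : chkF4Quad 20 22 19 17 1 (-1) = true := by decide +kernel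

theorem f4_id0 : sameWordMod 2 tblF4 ([33, 24, 14, 23, 33, 24].map fun r => Ltr.x r [⟨1, 0, 0⟩])
    ([0, 3].map fun i => Ltr.n i ⟨1, 0, 0⟩) = true := by decide +kernel

theorem f4_id1 : sameWordMod 2 tblF4 ([19, 17].map fun r => Ltr.x r [⟨1, 0, 0⟩])
    (([27, 25, 30].map fun r => Ltr.x r [⟨1, 0, 0⟩]) ++ ([1, 2, 1, 2].map fun i => Ltr.n i ⟨1, 0, 0⟩) ++
      ([27, 25, 28].map fun r => Ltr.x r [⟨1, 0, 0⟩])) = true := by decide +kernel

/-- The weights of the two orbits. -/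
def f4Wt (J : ℕ) : ℕ := if J = 0 then 1 else 2

theorem f4_wt : ∀ J < twF4.norb, 2 * f4Wt J = (twF4.base J).length := by decide +kernel

theorem f4_lens : chkCounts (twF4.elts.map fun E => E.len / 2)
    (polyMul (polyMul [0, 1] [0, 2]) (polyMul [0, 3] [0, 6])) 13 = true := by decide +kernel

theorem f4_word_ok {ls : List ℕ} (h : ∀ r ∈ ls, r < chevF4.nroots) :
    ∀ L ∈ ls.map fun r => Ltr.x r [⟨1, 0, 0⟩], L.ok chevF4 := by
  intro L hL
  obtain ⟨r, hr, rfl⟩ := List.mem_map.1 hL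
  exact h r hr

theorem f4_nword_ok {w : List ℕ} (h : ∀ i ∈ w, i < chevF4.rank) :
    ∀ L ∈ w.map fun i => Ltr.n i ⟨1, 0, 0⟩, L.ok chevF4 := by
  intro L hL
  obtain ⟨i, hi, rfl⟩ := List.mem_map.1 hL
  exact ⟨h i hi, Or.inl rfl⟩

variable [Fintype K] {m : ℕ} (hK : Fintype.card K = 2 ^ (2 * m + 1))
include hK

theorem f4_theta (t : K) : (t ^ 2 ^ m) ^ (2 ^ m * 2) = t := by
  rw [← pow_mul, show 2 ^ m * (2 ^ m * 2) = Fintype.card K by rw [hK, pow_succ, two_mul, pow_add]; ring,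
    FiniteField.pow_card]

theorem f4_theta' (t : K) : (t ^ (2 * 2 ^ m)) ^ 2 ^ m = t := by
  rw [← pow_mul, show 2 * 2 ^ m * 2 ^ m = 2 ^ m * (2 ^ m * 2) by ring, pow_mul, f4_theta hK]

theorem f4P_fixed {a b : ℕ} (hchk : chkF4Pair a b = true) (t : K) :
    f4P m a b t ∈ (twOKF4 (K := K) m).fixed certF4C := by
  refine ((twOKF4 m).mem_fixed certF4C).2 ⟨f4P_mem m a b t, ?_⟩
  rw [f4P, f4Pair_twist hchk, f4_theta hK]

theorem f4Q_fixed {a b c d : ℕ} {M₁ M₂ : ℤ} (hchk : chkF4Quad a b c d M₁ M₂ = true) (t u : K) :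
    f4Q m a b c d t u ∈ (twOKF4 (K := K) m).fixed certF4C := by
  refine ((twOKF4 m).mem_fixed certF4C).2 ⟨f4Q_mem m a b c d t u, ?_⟩
  have hadd : (t ^ (2 ^ m + 1) + u) ^ (2 ^ m * 2) = (t ^ (2 ^ m + 1)) ^ (2 ^ m * 2) + u ^ (2 ^ m * 2) := by
    rw [← pow_succ]; exact f4_add_pow _ _ _
  rw [f4Q, f4Quad_twist hchk, f4_theta hK, f4_theta' hK, hadd,
    show (t ^ (2 ^ m + 1)) ^ (2 ^ m * 2) = t * t ^ (2 ^ m * 2) by rw [pow_succ, mul_pow, f4_theta hK],
    show (t ^ 2 ^ m) ^ 2 = t ^ (2 ^ m * 2) from (pow_mul _ _ _).symm]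
  congr 1
  · rw [pow_succ]; ring
  · rw [mul_comm 2 (2 ^ m)]
    linear_combination (t * t ^ (2 ^ m * 2)) * f4_two_eq_zero (K := K)

theorem f4_fixPart0 : twFixPart certF4C (twF4σ (K := K) m) (twF4.base 0) = {g | ∃ t, g = f4P m 33 24 t} := by
  ext g
  rw [show twF4.base 0 = [33, 24] from rfl]
  constructor
  · rintro ⟨⟨s, rfl⟩, hfix⟩
    have es : lprod certF4C [33, 24] s = f4Pair 33 24 (s 33) (s 24) := by simp [f4Pair, lprod]
    rw [es, f4Pair_twist chkF4PairPos] at hfix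
    exact ⟨s 24, by rw [es, f4P, (f4Pair_inj hfix).1]⟩
  · rintro ⟨t, rfl⟩
    exact ⟨⟨_, f4Pair_lprod _ _⟩, (f4P_fixed hK chkF4PairPos t).2⟩

theorem f4_fixPart1 :
    twFixPart certF4C (twF4σ (K := K) m) (twF4.base 1) = {g | ∃ t u, g = f4Q m 27 25 28 30 t u} := by
  ext g
  rw [show twF4.base 1 = [27, 25, 28, 30] from rfl]
  constructor
  · rintro ⟨⟨s, rfl⟩, hfix⟩
    have es : lprod certF4C [27, 25, 28, 30] s = f4Quad 27 25 28 30 (s 27) (s 25) (s 28) (s 30) := by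
      simp [f4Quad, lprod, mul_assoc]
    rw [es, f4Quad_twist chkF4QuadPos] at hfix
    obtain ⟨h1, h2, h3, -⟩ := f4Quad_inj hfix
    refine ⟨s 25, s 30 ^ 2 ^ m, ?_⟩
    rw [es, f4Q]
    rw [h2] at h3
    congr 1
    · exact h1.symm
    · rw [← h3, pow_succ]; ring
    · rw [← pow_mul, show 2 ^ m * (2 * 2 ^ m) = 2 ^ m * (2 ^ m * 2) by ring, pow_mul, f4_theta hK]
  · rintro ⟨t, u, rfl⟩
    exact ⟨⟨_, f4Quad_lprod _ _ _ _⟩, (f4Q_fixed hK chkF4QuadPos t u).2⟩

theorem f4_card_fixPart {J : ℕ} (hJ : J < twF4.norb) :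
    Nat.card ↥(twFixPart certF4C (twF4σ (K := K) m) (twF4.base J)) = (2 ^ (2 * m + 1)) ^ f4Wt J := by
  have : J = 0 ∨ J = 1 := by
    have : J < 2 := hJ
    omega
  rcases this with rfl | rfl
  · rw [f4_fixPart0 hK]
    refine (Nat.card_eq_of_bijective (fun t : K => (⟨f4P m 33 24 t, t, rfl⟩ : ↥{g : GL chevF4.Idx K | ∃ t, g = f4P m 33 24 t}))
      ⟨fun a b e => (f4Pair_inj (congrArg Subtype.val e)).2, ?_⟩).symm.trans ?_
    · rintro ⟨g, t, rfl⟩
      exact ⟨t, rfl⟩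
    · simp [f4Wt, Nat.card_eq_fintype_card, hK]
  · rw [f4_fixPart1 hK]
    refine (Nat.card_eq_of_bijective (fun p : K × K => (⟨f4Q m 27 25 28 30 p.1 p.2, p.1, p.2, rfl⟩ :
      ↥{g : GL chevF4.Idx K | ∃ t u, g = f4Q m 27 25 28 30 t u})) ⟨?_, ?_⟩).symm.trans ?_
    · rintro ⟨t, u⟩ ⟨t', u'⟩ e
      obtain ⟨-, h2, h3, -⟩ := f4Quad_inj (congrArg Subtype.val e)
      obtain rfl : t = t' := h2
      exact Prod.ext rfl (add_left_cancel h3)
    · rintro ⟨g, t, u, rfl⟩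
      exact ⟨(t, u), rfl⟩
    · simp [f4Wt, Nat.card_eq_fintype_card, hK, sq]

theorem f4_hne : ∀ J < twF4.norb, ∃ g ∈ twFixPart certF4C (twF4σ (K := K) m) (twF4.base J), g ≠ 1 := fun J hJ =>
  exists_ne_of_card (f4_card_fixPart hK hJ)
    ((show 2 ≤ 2 ^ (2 * m + 1) from Nat.le_self_pow (by omega) 2).trans
      (Nat.le_self_pow (by unfold f4Wt; split_ifs <;> omega) _))

/-! ### The torus -/

/-- The torus parameters of a fixed element. -/
def f4Par (m : ℕ) (v s : Kˣ) : Fin chevF4.rank → Kˣ := fun i => (![v ^ 2 ^ m, s ^ 2 ^ m, s, v] : Fin 4 → Kˣ) i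

omit hK in
theorem f4Par_mul (v s v' s' : Kˣ) : f4Par m (v * v') (s * s') = f4Par m v s * f4Par m v' s' := by
  funext (i : Fin 4)
  fin_cases i
  · exact mul_pow v v' _
  · exact mul_pow s s' _
  · rfl
  · rfl

theorem f4_mem_diag {g : GL chevF4.Idx K} :
    g ∈ chevF4.diagonalSubgroup K ⊓ (twOKF4 (K := K) m).fixed certF4C ↔
      ∃ v s, g = torusHom chevF4 tblF4 K (f4Par m v s) := by
  have hex : ∀ i < 4, esymF4.ex tblF4 m (tblF4.simp' (esymF4.pos i)) = 2 ^ m * ([1, 1, 2, 2].getD i 0) := by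
    intro i hi
    have : esymF4.lam tblF4 (tblF4.simp' (esymF4.pos i)) = [1, 1, 2, 2].getD i 0 := by revert i hi; decide +kernel
    rw [ESym.ex, this]; rfl
  have key : ∀ c : Fin chevF4.rank → Kˣ, ePar eSymOKF4 m c = c ↔ ∃ v s, c = f4Par m v s := by
    intro c
    constructor
    · intro h
      refine ⟨c (3 : Fin 4), c (2 : Fin 4), funext fun (i : Fin 4) => ?_⟩
      fin_cases i
      · have e0 : c (3 : Fin 4) ^ esymF4.ex tblF4 m (tblF4.simp' (esymF4.pos 0)) = c (0 : Fin 4) := congrFun h (0 : Fin 4)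
        rw [hex 0 (by norm_num)] at e0
        simpa [f4Par] using e0.symm
      · have e1 : c (2 : Fin 4) ^ esymF4.ex tblF4 m (tblF4.simp' (esymF4.pos 1)) = c (1 : Fin 4) := congrFun h (1 : Fin 4)
        rw [hex 1 (by norm_num)] at e1
        simpa [f4Par] using e1.symm
      · rfl
      · rfl
    · rintro ⟨v, s, rfl⟩
      funext (i : Fin 4)
      fin_cases i
      · show (f4Par m v s) _ ^ esymF4.ex tblF4 m (tblF4.simp' (esymF4.pos 0)) = _
        rw [hex 0 (by norm_num)]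
        simp [f4Par]; rfl
      · show (f4Par m v s) _ ^ esymF4.ex tblF4 m (tblF4.simp' (esymF4.pos 1)) = _
        rw [hex 1 (by norm_num)]
        simp [f4Par]; rfl
      · show (f4Par m v s) _ ^ esymF4.ex tblF4 m (tblF4.simp' (esymF4.pos 2)) = _
        rw [hex 2 (by norm_num)]
        show (s ^ 2 ^ m) ^ (2 ^ m * 2) = s
        exact Units.ext (by rw [Units.val_pow_eq_pow_val, Units.val_pow_eq_pow_val]; exact f4_theta hK _)
      · show (f4Par m v s) _ ^ esymF4.ex tblF4 m (tblF4.simp' (esymF4.pos 3)) = _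
        rw [hex 3 (by norm_num)]
        show (v ^ 2 ^ m) ^ (2 ^ m * 2) = v
        exact Units.ext (by rw [Units.val_pow_eq_pow_val, Units.val_pow_eq_pow_val]; exact f4_theta hK _)
  rw [twSpecialF4.mem_diag_fixed eSymOKF4 certF4C fullCertF4 twCombF4 m (torusHom_injective certF4C invCartanF4_mul)]
  constructor
  · rintro ⟨c, hc, rfl⟩
    obtain ⟨v, s, rfl⟩ := (key c).1 hc
    exact ⟨v, s, rfl⟩
  · rintro ⟨v, s, rfl⟩
    exact ⟨_, (key _).2 ⟨v, s, rfl⟩, rfl⟩

theorem f4_card_diag :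
    Nat.card ↥(chevF4.diagonalSubgroup K ⊓ (twOKF4 (K := K) m).fixed certF4C) = (2 ^ (2 * m + 1) - 1) ^ 2 := by
  rw [← hK, ← Nat.card_eq_fintype_card (α := K), ← Nat.card_units, sq, ← Nat.card_prod]
  refine (Nat.card_eq_of_bijective (fun p : Kˣ × Kˣ =>
    (⟨_, (f4_mem_diag hK).2 ⟨p.1, p.2, rfl⟩⟩ : ↥(chevF4.diagonalSubgroup K ⊓ (twOKF4 (K := K) m).fixed certF4C)))
      ⟨?_, ?_⟩).symm
  · intro a b e
    have h := torusHom_injective certF4C invCartanF4_mul (congrArg Subtype.val e)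
    exact Prod.ext (congrFun h (3 : Fin 4)) (congrFun h (2 : Fin 4))
  · rintro ⟨g, hg⟩
    obtain ⟨v, s, rfl⟩ := (f4_mem_diag hK).1 hg
    exact ⟨(v, s), rfl⟩

omit hK in
/-- Both halves of the torus of a short and a long root. -/
theorem f4_pair_torus (v : Kˣ) :
    hg certF4C 24 (v : K) * hg certF4C 33 ((v : K) ^ 2 ^ m) = torusHom chevF4 tblF4 K (f4Par m v 1) := by
  have c24 : ∀ i : ℕ, i < 4 → tblF4.coroot 24 i = [0, 0, 0, 1].getD i 0 := by decide +kernel
  have c33 : ∀ i : ℕ, i < 4 → tblF4.coroot 33 i = [1, 0, 0, 0].getD i 0 := by decide +kernel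
  rw [hg_eq_torus certF4C (show 24 < chevF4.nroots by decide) v.ne_zero,
    hg_eq_torus certF4C (show 33 < chevF4.nroots by decide) (pow_ne_zero _ v.ne_zero), ← map_mul]
  congr 1
  funext i
  refine Units.ext ?_
  obtain ⟨i, hi⟩ := i
  have h4 : i < 4 := hi
  show (v : K) ^ tblF4.coroot 24 i * ((v : K) ^ 2 ^ m) ^ tblF4.coroot 33 i = _
  rw [c24 i h4, c33 i h4]
  interval_cases i <;> simp [f4Par] <;> rfl

theorem f4_pair_torus' (v : Kˣ) :
    hg certF4C 32 (v : K) * hg certF4C 37 ((v : K) ^ 2 ^ m) =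
      torusHom chevF4 tblF4 K (f4Par m v (v ^ (2 * 2 ^ m + 2))) := by
  have c32 : ∀ i : ℕ, i < 4 → tblF4.coroot 32 i = [0, 1, 2, 1].getD i 0 := by decide +kernel
  have c37 : ∀ i : ℕ, i < 4 → tblF4.coroot 37 i = [1, 2, 2, 0].getD i 0 := by decide +kernel
  rw [hg_eq_torus certF4C (show 32 < chevF4.nroots by decide) v.ne_zero,
    hg_eq_torus certF4C (show 37 < chevF4.nroots by decide) (pow_ne_zero _ v.ne_zero), ← map_mul]
  congr 1
  funext i
  refine Units.ext ?_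
  obtain ⟨i, hi⟩ := i
  have h4 : i < 4 := hi
  show (v : K) ^ tblF4.coroot 32 i * ((v : K) ^ 2 ^ m) ^ tblF4.coroot 37 i = _
  rw [c32 i h4, c37 i h4]
  interval_cases i
  · simp [f4Par]; rfl
  · simp only [f4Par, List.getD_cons_succ, List.getD_cons_zero, zpow_one, zpow_ofNat]
    show (v : K) ^ 1 * ((v : K) ^ 2 ^ m) ^ 2 = (((v ^ (2 * 2 ^ m + 2)) ^ 2 ^ m : Kˣ) : K)
    rw [pow_one, Units.val_pow_eq_pow_val, Units.val_pow_eq_pow_val, ← pow_mul _ (2 * 2 ^ m + 2),
      show (2 * 2 ^ m + 2) * 2 ^ m = 2 ^ m * (2 ^ m * 2) + 2 ^ m * 2 by ring, pow_add,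
      pow_mul _ (2 ^ m) (2 ^ m * 2), f4_theta hK, pow_mul]
  · simp only [f4Par, List.getD_cons_succ, List.getD_cons_zero, zpow_ofNat]
    show (v : K) ^ 2 * ((v : K) ^ 2 ^ m) ^ 2 = (((v ^ (2 * 2 ^ m + 2)) : Kˣ) : K)
    rw [Units.val_pow_eq_pow_val, ← pow_mul, ← pow_add]
    ring_nf
  · simp [f4Par]; rfl

theorem f4_pow_bijective : Function.Bijective (powMonoidHom (2 * 2 ^ m + 2) : Kˣ →* Kˣ) := by
  refine Finite.injective_iff_bijective.1 ((injective_iff_map_eq_one _).2 fun v hv => ?_)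
  have h0 : ((v : K)) ^ (2 * 2 ^ m + 2) = 1 := by
    have := congrArg (fun w : Kˣ => (w : K)) hv
    simpa using this
  have h1 : (v : K) ^ (2 ^ m + 1) = 1 := by
    have : ((v : K) ^ (2 ^ m + 1) - 1) ^ 2 = 0 := by
      rw [show (2 * 2 ^ m + 2) = (2 ^ m + 1) * 2 by ring, pow_mul] at h0
      linear_combination h0 - ((v : K) ^ (2 ^ m + 1) - 1) * f4_two_eq_zero (K := K)
    exact sub_eq_zero.1 (pow_eq_zero_iff two_ne_zero |>.1 this)
  have h2 : (v : K) * (v : K) ^ (2 ^ m * 2) = 1 := by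
    have := congrArg (· ^ (2 ^ m * 2)) h1
    simp only [pow_succ, mul_pow, one_pow] at this
    rwa [f4_theta hK] at this
  have h3 : (v : K) ^ 2 * (v : K) ^ (2 ^ m * 2) = 1 := by
    rw [pow_mul (v : K) (2 ^ m) 2, ← mul_pow, ← pow_succ', h1, one_pow]
  have h4 : (v : K) = 1 := by
    have e : (v : K) * ((v : K) * (v : K) ^ (2 ^ m * 2)) = 1 := by rw [← mul_assoc, ← sq, h3]
    rwa [h2, mul_one] at e
  exact Units.ext h4

/-- The fixed group is generated by the given elements. -/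
theorem f4_fixed_le {W : Subgroup (GL chevF4.Idx K)}
    (hP : ∀ t, f4P m 33 24 t ∈ W) (hP' : ∀ t, f4P m 14 23 t ∈ W)
    (hQ : ∀ t u, f4Q m 27 25 28 30 t u ∈ W) (hQ' : ∀ t u, f4Q m 20 22 19 17 t u ∈ W) :
    (twOKF4 (K := K) m).fixed certF4C ≤ W := by
  haveI : CharP K 2 := inferInstanceAs (CharP K esymF4.p)
  set G := (twOKF4 (K := K) m).fixed certF4C
  have h11 : (1 : K) + 1 = 0 := by linear_combination f4_two_eq_zero (K := K)
  have gmap : ∀ ls : List ℕ, ((ls.map fun r => Ltr.x r [⟨1, 0, 0⟩]).map (Ltr.gl certF4C (F := K))).prod =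
      (ls.map fun r => xg certF4C r (1 : K)).prod := by
    intro ls
    induction ls with
    | nil => rfl
    | cons r ls ih =>
      rw [List.map_cons, List.map_cons, List.prod_cons, ih, List.map_cons, List.prod_cons]
      simp [Ltr.gl, pval, Mono.val]
  have e0 := gl_eq_of_sameWordMod (F := K) (p := 2) (w₁ := [33, 24, 14, 23, 33, 24].map fun r => Ltr.x r [⟨1, 0, 0⟩]) (w₂ := [0, 3].map fun i => Ltr.n i ⟨1, 0, 0⟩) certF4C (f4_word_ok (by decide)) (f4_nword_ok (by decide)) f4_id0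
  rw [gmap, gl_wnu] at e0
  have e1 := gl_eq_of_sameWordMod (F := K) (p := 2) certF4C (f4_word_ok (by decide))
    (fun L hL => by
      rcases List.mem_append.1 hL with hL | hL
      · rcases List.mem_append.1 hL with hL | hL
        · exact f4_word_ok (by decide) L hL
        · exact f4_nword_ok (by decide) L hL
      · exact f4_word_ok (by decide) L hL) f4_id1
  rw [List.map_append, List.map_append, List.prod_append, List.prod_append, gmap, gmap, gmap, gl_wnu] at e1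
  have p1 : xg certF4C 33 (1 : K) * xg certF4C 24 1 = f4P m 33 24 1 := by simp [f4P, f4Pair]
  have p2 : xg certF4C 14 (1 : K) * xg certF4C 23 1 = f4P m 14 23 1 := by simp [f4P, f4Pair]
  have q1 : xg certF4C 19 (1 : K) * xg certF4C 17 1 = f4Q m 20 22 19 17 0 1 := by
    simp [f4Q, f4Quad, xg_zero, zero_pow]
  have q2 : xg certF4C 27 (1 : K) * (xg certF4C 25 1 * xg certF4C 30 1) = f4Q m 27 25 28 30 1 1 := by
    simp [f4Q, f4Quad, h11, xg_zero, mul_assoc]
  have q3 : xg certF4C 27 (1 : K) * (xg certF4C 25 1 * xg certF4C 28 1) = f4Q m 27 25 28 30 1 0 := by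
    simp [f4Q, f4Quad, xg_zero, mul_assoc]
  simp only [List.map_cons, List.map_nil, List.prod_cons, List.prod_nil, mul_one] at e0 e1
  rw [q1, q2, q3] at e1
  set n0 := wnu certF4C K [0, 3] with hn0
  set n1 := wnu certF4C K [1, 2, 1, 2] with hn1
  have hrep : ∀ J < twF4.norb, ∃ x ∈ W ⊓ G, (wnu certF4C K (twF4.lw J))⁻¹ * x ∈ chevF4.diagonalSubgroup K := by
    intro J hJ
    have : J = 0 ∨ J = 1 := by
      have : J < 2 := hJ
      omega
    rcases this with rfl | rfl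
    · have he : n0 = f4P m 33 24 1 * f4P m 14 23 1 * f4P m 33 24 1 := by
        rw [← e0, ← p1, ← p2]; group
      refine ⟨n0, ⟨?_, ?_⟩, by rw [show twF4.lw 0 = [0, 3] from rfl, ← hn0, inv_mul_cancel]; exact one_mem _⟩ <;>
        rw [he]
      exacts [W.mul_mem (W.mul_mem (hP 1) (hP' 1)) (hP 1), Subgroup.mul_mem _ (Subgroup.mul_mem _
        (f4P_fixed hK chkF4PairPos 1) (f4P_fixed hK chkF4PairNeg 1)) (f4P_fixed hK chkF4PairPos 1)]
    · have he : n1 = (f4Q m 27 25 28 30 1 1)⁻¹ * f4Q m 20 22 19 17 0 1 * (f4Q m 27 25 28 30 1 0)⁻¹ := by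
        rw [e1]; group
      refine ⟨n1, ⟨?_, ?_⟩, by rw [show twF4.lw 1 = [1, 2, 1, 2] from rfl, ← hn1, inv_mul_cancel]; exact one_mem _⟩ <;>
        rw [he]
      exacts [W.mul_mem (W.mul_mem (W.inv_mem (hQ 1 1)) (hQ' 0 1)) (W.inv_mem (hQ 1 0)), Subgroup.mul_mem _
        (Subgroup.mul_mem _ (Subgroup.inv_mem _ (f4Q_fixed hK chkF4QuadPos 1 1)) (f4Q_fixed hK chkF4QuadNeg 0 1))
        (Subgroup.inv_mem _ (f4Q_fixed hK chkF4QuadPos 1 0))]
  have hbase : ∀ J < twF4.norb, twFixPart certF4C (twF4σ (K := K) m) (twF4.base J) ⊆ W := by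
    intro J hJ g hg
    have : J = 0 ∨ J = 1 := by
      have : J < 2 := hJ
      omega
    rcases this with rfl | rfl
    · rw [f4_fixPart0 hK] at hg
      obtain ⟨t, rfl⟩ := hg
      exact hP t
    · rw [f4_fixPart1 hK] at hg
      obtain ⟨t, u, rfl⟩ := hg
      exact hQ t u
  refine (twOKF4 (K := K) m).fixed_le_of_base certF4C fullCertF4 twCombF4 hrep hbase ?_
  have hpos := (twOKF4 (K := K) m).pos_fixed_le certF4C fullCertF4 twCombF4 hrep hbase
  have hneg := (twOKF4 (K := K) m).neg_fixed_le certF4C fullCertF4 twCombF4 hrep hbase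
  have hnegG : chevF4.negUnipotent K ≤ chevF4.group K := by
    refine (Subgroup.closure_le _).2 ?_
    rintro x ⟨r, t, hr, e⟩
    rw [eq_xg certF4C e]; exact xg_mem_group certF4C r t
  have hpair : ∀ r, r = 24 ∨ r = 32 → ∀ v : K,
      hg certF4C r v * hg certF4C (esymF4.root tblF4 r) (v ^ 2 ^ m) ∈ W := by
    intro r hr v
    refine pairTorus_mem eSymOKF4 certF4C fullCertF4 m (r := r) ?_ ?_ ?_ ?_ ?_
      (fun g hg e => hpos ⟨hg, pos_le_group certF4C hg, e⟩) (fun g hg e => hneg ⟨hg, hnegG hg, e⟩) v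
    · rcases hr with rfl | rfl <;> decide
    · rcases hr with rfl | rfl <;> decide
    · rcases hr with rfl | rfl <;>
        · rw [ESym.ex]
          simp only [show esymF4.lam tblF4 24 = 1 by decide +kernel, show esymF4.lam tblF4 32 = 1 by decide +kernel, mul_one]
    · rcases hr with rfl | rfl <;> decide +kernel
    · intro t
      have : esymF4.lam tblF4 (esymF4.root tblF4 r) = 2 := by rcases hr with rfl | rfl <;> decide +kernel
      rw [ESym.ex, this]
      exact f4_theta hK t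
  intro g hg
  obtain ⟨v, s, rfl⟩ := (f4_mem_diag hK).1 hg
  obtain ⟨w, hw⟩ := (f4_pow_bijective hK).2 s
  have hw' : w ^ (2 * 2 ^ m + 2) = s := hw
  have a1 := hpair 32 (Or.inr rfl) (w : K)
  rw [show esymF4.root tblF4 32 = 37 by decide +kernel, f4_pair_torus' hK, hw'] at a1
  have a2 := hpair 24 (Or.inl rfl) ((v / w : Kˣ) : K)
  rw [show esymF4.root tblF4 24 = 33 by decide +kernel, f4_pair_torus] at a2
  have := W.mul_mem a1 a2
  rwa [← map_mul, ← f4Par_mul, mul_div_cancel, mul_one] at this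

/-- The defined group is the group of fixed points. -/
theorem twistedF4_eq : Cfsg.Lie.twistedF4 K (2 ^ m) = (twOKF4 (K := K) m).fixed certF4C := by
  refine le_antisymm ((Subgroup.closure_le _).2 ?_) (f4_fixed_le hK (fun t => ?_) (fun t => ?_) (fun t u => ?_) fun t u => ?_)
  · rintro g ⟨w, hw, hg⟩
    rcases hw with ⟨t, rfl | rfl⟩ | ⟨t, u, rfl | rfl⟩
    · rw [show g = f4P m 33 24 t from Units.ext (hg.trans (coe_f4P m 33 24 t).symm)]
      exact f4P_fixed hK chkF4PairPos t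
    · rw [show g = f4P m 14 23 t from Units.ext (hg.trans (coe_f4P m 14 23 t).symm)]
      exact f4P_fixed hK chkF4PairNeg t
    · rw [show g = f4Q m 27 25 28 30 t u from Units.ext (hg.trans (coe_f4Q m 27 25 28 30 t u).symm)]
      exact f4Q_fixed hK chkF4QuadPos t u
    · rw [show g = f4Q m 20 22 19 17 t u from Units.ext (hg.trans (coe_f4Q m 20 22 19 17 t u).symm)]
      exact f4Q_fixed hK chkF4QuadNeg t u
  · exact Subgroup.subset_closure ⟨_, Or.inl ⟨t, Or.inl rfl⟩, coe_f4P m 33 24 t⟩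
  · exact Subgroup.subset_closure ⟨_, Or.inl ⟨t, Or.inr rfl⟩, coe_f4P m 14 23 t⟩
  · exact Subgroup.subset_closure ⟨_, Or.inr ⟨t, u, Or.inl rfl⟩, coe_f4Q m 27 25 28 30 t u⟩
  · exact Subgroup.subset_closure ⟨_, Or.inr ⟨t, u, Or.inr rfl⟩, coe_f4Q m 20 22 19 17 t u⟩

theorem f4_witness : TwWitness certF4C twF4 (twF4σ (K := K) m) := by
  intro i hi
  have : i = 0 ∨ i = 1 ∨ i = 2 ∨ i = 3 := by
    have : i < 4 := hi
    omega
  rcases this with rfl | rfl | rfl | rfl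
  case inl | inr.inr.inr =>
    refine ⟨0, by decide, fun r => if r = 33 then (1 : K) ^ 2 ^ m else 1, by decide +kernel, ?_, ?_⟩
    · simp
    · rw [f4_fixPart0 hK, show twF4.base 0 = [33, 24] from rfl, ← f4Pair_lprod]
      exact ⟨1, rfl⟩
  all_goals
    refine ⟨1, by decide, fun r => if r = 27 then (1 : K) ^ 2 ^ m else if r = 25 then 1 else if r = 28 then
      (1 : K) ^ (2 ^ m + 1) + 0 else 0 ^ (2 * 2 ^ m), by decide +kernel, ?_, ?_⟩
    · simp [show tblF4.simp' 1 = 27 by decide +kernel, show tblF4.simp' 2 = 25 by decide +kernel]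
    · rw [f4_fixPart1 hK, show twF4.base 1 = [27, 25, 28, 30] from rfl, ← f4Quad_lprod]
      exact ⟨1, 0, rfl⟩

/-- The order of ²F₄(q). -/
theorem twistedF4_order : Nat.card ↥(Cfsg.Lie.twistedF4 K (2 ^ m)) =
    (2 ^ (2 * m + 1)) ^ 12 * (2 ^ (2 * m + 1) - 1) * ((2 ^ (2 * m + 1)) ^ 3 + 1) * ((2 ^ (2 * m + 1)) ^ 4 - 1) *
      ((2 ^ (2 * m + 1)) ^ 6 + 1) := by
  rw [twistedF4_eq hK, (twOKF4 (K := K) m).card_fixed certF4C fullCertF4 twCombF4 (d := 2)
    (fun J hJ => f4_card_fixPart hK hJ) two_pos f4_wt, f4_card_diag hK]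
  set q := 2 ^ (2 * m + 1) with hq
  rw [show twF4.elts.map (fun E => q ^ (E.len / 2)) = (twF4.elts.map fun E => E.len / 2).map (q ^ ·) by
      rw [List.map_map]; rfl,
    ((perm_of_chkCounts f4_lens).map _).sum_eq, sum_polyMul, sum_polyMul, sum_polyMul,
    show chevF4.nroots / 2 / 2 = 12 from rfl]
  have h1 : 1 ≤ q := Nat.one_le_two_pow
  have h4 : 1 ≤ q ^ 4 := Nat.one_le_pow _ _ h1
  simp only [List.map_cons, List.map_nil, List.sum_cons, List.sum_nil, pow_zero, pow_one, add_zero]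
  zify [h1, h4]
  ring

end Cfsg.Lib.Chev
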