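import Cfsg.Agent.Lib.Chev.TwF4DShape

/-!
The involutions of the positive fixed part of ²F₄(q) are conjugate to one of two root elements.
-/

set_option autoImplicit false
set_option maxRecDepth 100000
set_option maxHeartbeats 4000000
set_option linter.unusedSimpArgs false
set_option linter.unusedSectionVars false

namespace Cfsg.Lib.Chev

open Cfsg.Lie

variable {K : Type*} [Field K] [CharP K esymF4.p] [CharP K 2] [Fintype K]
variable {m : ℕ} (hK : Fintype.card K = 2 ^ (2 * m + 1))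
include hK

theorem f4_weyl {J : ℕ} (hJ : J < twF4.norb) (p : FParam K) (l : List ℕ) (v : ℕ → K)
    (he : p.el m = lprod certF4C l v)
    (hl : ∀ r ∈ l, r < chevF4.nroots ∧ 24 ≤ wperm tblF4 (twF4.lw J) r ∧ wperm tblF4 (twF4.lw J) r < 48) :
    ∃ p' : FParam K, FCj m p p' ∧ ∃ val : ℕ → K,
      fNf 24 (l.map fun r => (wperm tblF4 (twF4.lw J) r - 24, val r)) = fNf 24 (p'.word (fTh K m)) := by
  obtain ⟨n, hn, hs, hd⟩ := (twOKF4 (K := K) m).rep J hJ
  have hnG : n ∈ (twOKF4 (K := K) m).fixed certF4C := ⟨hn, hs⟩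
  obtain ⟨c, -, hc⟩ := mono_conj_lprod certF4C (twCombF4.lw_word J hJ) hd
  set w := l.map fun r => (wperm tblF4 (twF4.lw J) r - 24, c r * v r) with hw
  have hlt : ∀ x ∈ w, x.1 < 24 := by
    intro x hx
    obtain ⟨r, hr, rfl⟩ := List.mem_map.1 hx
    have := (hl r hr).2
    show wperm tblF4 (twF4.lw J) r - 24 < 24
    omega
  have hx : n * p.el m * n⁻¹ = fVal w := by
    rw [he, hc l v fun r hr => (hl r hr).1, fVal, hw, List.map_map]
    congr 1
    refine List.map_congr_left fun r hr => ?_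
    have := (hl r hr).2
    show _ = xg certF4C (24 + (wperm tblF4 (twF4.lw J) r - 24)) (c r * v r)
    rw [Nat.add_sub_cancel' this.1]
  obtain ⟨p', hp'⟩ := fU_surj hK (x := n * p.el m * n⁻¹)
    ⟨by rw [hx]; exact fVal_pos hlt, Subgroup.mul_mem _ (Subgroup.mul_mem _ hnG (p.el_mem hK).2) (Subgroup.inv_mem _ hnG)⟩
  exact ⟨p', ⟨n, hnG, by rw [hp', inv_mul_cancel_right]⟩, fun r => c r * v r,
    fNf_eq le_rfl hlt (p'.word_lt _) (by rw [← hx, ← hp']; rfl)⟩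

theorem f4_weyl_A {a C k G h : K} : ∃ c₁ C₁ d₁ e₁ E₁ k₁ g₁ G₁ h₁ : K,
    FCj m (⟨a, 0, 0, 0, C, 0, 0, 0, k, 0, G, h⟩ : FParam K) ⟨0, 0, 0, c₁, C₁, d₁, e₁, E₁, k₁, g₁, G₁, h₁⟩ := by
  let v : ℕ → K := fun r => match r with
    | 33 => fTh K m a | 24 => a | 36 => C | 42 => fTh K m C ^ 2 | 38 => fTh K m k | 43 => k | 44 => G | 47 => fTh K m G ^ 2 | 39 => fTh K m h | 45 => h | _ => 0
  have hm : ([33, 24, 36, 42, 38, 43, 44, 47, 39, 45] : List ℕ).map (wperm tblF4 (twF4.lw 1)) = [37, 32, 40, 46, 39, 45, 44, 47, 38, 43] := by decide +kernel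
  obtain ⟨⟨a1, b1, B1, c1, C1, d1, e1, E1, k1, g1, G1, h1⟩, hj, val, hv⟩ := f4_weyl hK (show 1 < twF4.norb by decide)
    (⟨a, 0, 0, 0, C, 0, 0, 0, k, 0, G, h⟩ : FParam K) [33, 24, 36, 42, 38, 43, 44, 47, 39, 45] v
    (by simp [FParam.el, fVal, FParam.word, lprod, v, xg_zero]) (by decide +kernel)
  simp only [List.map_cons, List.map_nil, List.cons.injEq, and_true] at hm
  simp [fNf, fIns, FParam.word, List.replicate, fS, fS0, fS1, fS2, fS3, fS4, fS5, fS6, fS7, fS8, fS9, fS10, fS11, fS12, fS13, fS14, fS15, fS16, fS17, fS18, fS19, fS21, fS22, CharTwo.add_self_eq_zero, hm] at hv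
  obtain ⟨rfl, rfl, rfl, -, hB, hg, -, he, hd, -, -, -, hC, -, -, -, hE, -, -, hk, hG, hh, -⟩ := hv
  simp at hB
  obtain rfl : B1 = 0 := by first | exact hB | exact hB.symm
  exact ⟨_, _, _, _, _, _, _, _, _, hj⟩

theorem f4_weyl_B {B E G h : K} : ∃ c₁ C₁ d₁ e₁ E₁ k₁ g₁ G₁ h₁ : K,
    FCj m (⟨0, 0, B, 0, 0, 0, 0, E, 0, 0, G, h⟩ : FParam K) ⟨0, 0, 0, c₁, C₁, d₁, e₁, E₁, k₁, g₁, G₁, h₁⟩ := by
  let v : ℕ → K := fun r => match r with
    | 28 => B | 30 => fTh K m B ^ 2 | 40 => E | 46 => fTh K m E ^ 2 | 44 => G | 47 => fTh K m G ^ 2 | 39 => fTh K m h | 45 => h | _ => 0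
  have hm : ([28, 30, 40, 46, 44, 47, 39, 45] : List ℕ).map (wperm tblF4 (twF4.lw 0)) = [36, 42, 44, 47, 40, 46, 39, 45] := by decide +kernel
  obtain ⟨⟨a1, b1, B1, c1, C1, d1, e1, E1, k1, g1, G1, h1⟩, hj, val, hv⟩ := f4_weyl hK (show 0 < twF4.norb by decide)
    (⟨0, 0, B, 0, 0, 0, 0, E, 0, 0, G, h⟩ : FParam K) [28, 30, 40, 46, 44, 47, 39, 45] v
    (by simp [FParam.el, fVal, FParam.word, lprod, v, xg_zero]) (by decide +kernel)
  simp only [List.map_cons, List.map_nil, List.cons.injEq, and_true] at hm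
  simp [fNf, fIns, FParam.word, List.replicate, fS, fS0, fS1, fS2, fS3, fS4, fS5, fS6, fS7, fS8, fS9, fS10, fS11, fS12, fS13, fS14, fS15, fS16, fS17, fS18, fS19, fS21, fS22, CharTwo.add_self_eq_zero, hm] at hv
  obtain ⟨rfl, rfl, rfl, -, hB, hg, -, he, hd, -, -, -, hC, -, -, -, hE, -, -, hk, hG, hh, -⟩ := hv
  simp at hB
  obtain rfl : B1 = 0 := by first | exact hB | exact hB.symm
  exact ⟨_, _, _, _, _, _, _, _, _, hj⟩

theorem f4_weyl_C {C G h : K} : ∃ e₁ E₁ k₁ g₁ G₁ h₁ : K,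
    FCj m (⟨0, 0, 0, 0, C, 0, 0, 0, 0, 0, G, h⟩ : FParam K) ⟨0, 0, 0, 0, 0, 0, e₁, E₁, k₁, g₁, G₁, h₁⟩ := by
  let v : ℕ → K := fun r => match r with
    | 36 => C | 42 => fTh K m C ^ 2 | 44 => G | 47 => fTh K m G ^ 2 | 39 => fTh K m h | 45 => h | _ => 0
  have hm : ([36, 42, 44, 47, 39, 45] : List ℕ).map (wperm tblF4 (twF4.lw 1)) = [40, 46, 44, 47, 38, 43] := by decide +kernel
  obtain ⟨⟨a1, b1, B1, c1, C1, d1, e1, E1, k1, g1, G1, h1⟩, hj, val, hv⟩ := f4_weyl hK (show 1 < twF4.norb by decide)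
    (⟨0, 0, 0, 0, C, 0, 0, 0, 0, 0, G, h⟩ : FParam K) [36, 42, 44, 47, 39, 45] v
    (by simp [FParam.el, fVal, FParam.word, lprod, v, xg_zero]) (by decide +kernel)
  simp only [List.map_cons, List.map_nil, List.cons.injEq, and_true] at hm
  simp [fNf, fIns, FParam.word, List.replicate, fS, fS0, fS1, fS2, fS3, fS4, fS5, fS6, fS7, fS8, fS9, fS10, fS11, fS12, fS13, fS14, fS15, fS16, fS17, fS18, fS19, fS21, fS22, CharTwo.add_self_eq_zero, hm] at hv
  obtain ⟨rfl, rfl, rfl, -, hB, hg, -, he, hd, -, -, -, hC, -, -, -, hE, -, -, hk, hG, hh, -⟩ := hv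
  simp at hB
  obtain rfl : B1 = 0 := by first | exact hB | exact hB.symm
  try simp at he hd hC
  obtain rfl : d1 = 0 := by first | exact hd | exact hd.symm
  obtain rfl : e1 = 0 := by first | exact he | exact he.symm
  try simp at hC
  obtain rfl : C1 = 0 := by first | exact hC | exact hC.symm
  exact ⟨_, _, _, _, _, _, hj⟩

theorem f4_weyl_d {d E G h : K} : ∃ e₁ E₁ k₁ g₁ G₁ h₁ : K,
    FCj m (⟨0, 0, 0, 0, 0, d, 0, E, 0, 0, G, h⟩ : FParam K) ⟨0, 0, 0, 0, 0, 0, e₁, E₁, k₁, g₁, G₁, h₁⟩ := by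
  let v : ℕ → K := fun r => match r with
    | 37 => fTh K m d | 32 => d | 40 => E | 46 => fTh K m E ^ 2 | 44 => G | 47 => fTh K m G ^ 2 | 39 => fTh K m h | 45 => h | _ => 0
  have hm : ([37, 32, 40, 46, 44, 47, 39, 45] : List ℕ).map (wperm tblF4 (twF4.lw 0)) = [38, 43, 44, 47, 40, 46, 39, 45] := by decide +kernel
  obtain ⟨⟨a1, b1, B1, c1, C1, d1, e1, E1, k1, g1, G1, h1⟩, hj, val, hv⟩ := f4_weyl hK (show 0 < twF4.norb by decide)
    (⟨0, 0, 0, 0, 0, d, 0, E, 0, 0, G, h⟩ : FParam K) [37, 32, 40, 46, 44, 47, 39, 45] v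
    (by simp [FParam.el, fVal, FParam.word, lprod, v, xg_zero]) (by decide +kernel)
  simp only [List.map_cons, List.map_nil, List.cons.injEq, and_true] at hm
  simp [fNf, fIns, FParam.word, List.replicate, fS, fS0, fS1, fS2, fS3, fS4, fS5, fS6, fS7, fS8, fS9, fS10, fS11, fS12, fS13, fS14, fS15, fS16, fS17, fS18, fS19, fS21, fS22, CharTwo.add_self_eq_zero, hm] at hv
  obtain ⟨rfl, rfl, rfl, -, hB, hg, -, he, hd, -, -, -, hC, -, -, -, hE, -, -, hk, hG, hh, -⟩ := hv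
  simp at hB
  obtain rfl : B1 = 0 := by first | exact hB | exact hB.symm
  try simp at he hd hC
  obtain rfl : d1 = 0 := by first | exact hd | exact hd.symm
  obtain rfl : e1 = 0 := by first | exact he | exact he.symm
  try simp at hC
  obtain rfl : C1 = 0 := by first | exact hC | exact hC.symm
  exact ⟨_, _, _, _, _, _, hj⟩

theorem f4_weyl_k {k : K} : ∃ h₁ : K,
    FCj m (⟨0, 0, 0, 0, 0, 0, 0, 0, k, 0, 0, 0⟩ : FParam K) ⟨0, 0, 0, 0, 0, 0, 0, 0, 0, 0, 0, h₁⟩ := by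
  let v : ℕ → K := fun r => match r with
    | 38 => fTh K m k | 43 => k | _ => 0
  have hm : ([38, 43] : List ℕ).map (wperm tblF4 (twF4.lw 1)) = [39, 45] := by decide +kernel
  obtain ⟨⟨a1, b1, B1, c1, C1, d1, e1, E1, k1, g1, G1, h1⟩, hj, val, hv⟩ := f4_weyl hK (show 1 < twF4.norb by decide)
    (⟨0, 0, 0, 0, 0, 0, 0, 0, k, 0, 0, 0⟩ : FParam K) [38, 43] v
    (by simp [FParam.el, fVal, FParam.word, lprod, v, xg_zero]) (by decide +kernel)
  simp only [List.map_cons, List.map_nil, List.cons.injEq, and_true] at hm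
  simp [fNf, fIns, FParam.word, List.replicate, fS, fS0, fS1, fS2, fS3, fS4, fS5, fS6, fS7, fS8, fS9, fS10, fS11, fS12, fS13, fS14, fS15, fS16, fS17, fS18, fS19, fS21, fS22, CharTwo.add_self_eq_zero, hm] at hv
  obtain ⟨rfl, rfl, rfl, -, hB, hg, -, he, hd, -, -, -, hC, -, -, -, hE, -, -, hk, hG, hh, -⟩ := hv
  simp at hB
  obtain rfl : B1 = 0 := by first | exact hB | exact hB.symm
  try simp at he hd hC
  obtain rfl : d1 = 0 := by first | exact hd | exact hd.symm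
  obtain rfl : e1 = 0 := by first | exact he | exact he.symm
  try simp at hC hg
  obtain rfl : C1 = 0 := by first | exact hC | exact hC.symm
  obtain rfl : g1 = 0 := by first | exact (map_eq_zero _).1 hg.symm | exact hg | exact hg.symm
  try simp at hk
  obtain rfl : k1 = 0 := by first | exact hk | exact hk.symm
  try simp at hE
  obtain rfl : E1 = 0 := by first | exact hE | exact hE.symm
  try simp at hG
  obtain rfl : G1 = 0 := by first | exact hG | exact hG.symm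
  exact ⟨_, hj⟩

theorem f4_weyl_E {E : K} : ∃ G₁ : K,
    FCj m (⟨0, 0, 0, 0, 0, 0, 0, E, 0, 0, 0, 0⟩ : FParam K) ⟨0, 0, 0, 0, 0, 0, 0, 0, 0, 0, G₁, 0⟩ := by
  let v : ℕ → K := fun r => match r with
    | 40 => E | 46 => fTh K m E ^ 2 | _ => 0
  have hm : ([40, 46] : List ℕ).map (wperm tblF4 (twF4.lw 0)) = [44, 47] := by decide +kernel
  obtain ⟨⟨a1, b1, B1, c1, C1, d1, e1, E1, k1, g1, G1, h1⟩, hj, val, hv⟩ := f4_weyl hK (show 0 < twF4.norb by decide)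
    (⟨0, 0, 0, 0, 0, 0, 0, E, 0, 0, 0, 0⟩ : FParam K) [40, 46] v
    (by simp [FParam.el, fVal, FParam.word, lprod, v, xg_zero]) (by decide +kernel)
  simp only [List.map_cons, List.map_nil, List.cons.injEq, and_true] at hm
  simp [fNf, fIns, FParam.word, List.replicate, fS, fS0, fS1, fS2, fS3, fS4, fS5, fS6, fS7, fS8, fS9, fS10, fS11, fS12, fS13, fS14, fS15, fS16, fS17, fS18, fS19, fS21, fS22, CharTwo.add_self_eq_zero, hm] at hv
  obtain ⟨rfl, rfl, rfl, -, hB, hg, -, he, hd, -, -, -, hC, -, -, -, hE, -, -, hk, hG, hh, -⟩ := hv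
  simp at hB
  obtain rfl : B1 = 0 := by first | exact hB | exact hB.symm
  try simp at he hd hC
  obtain rfl : d1 = 0 := by first | exact hd | exact hd.symm
  obtain rfl : e1 = 0 := by first | exact he | exact he.symm
  try simp at hC hg
  obtain rfl : C1 = 0 := by first | exact hC | exact hC.symm
  obtain rfl : g1 = 0 := by first | exact (map_eq_zero _).1 hg.symm | exact hg | exact hg.symm
  try simp at hk
  obtain rfl : k1 = 0 := by first | exact hk | exact hk.symm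
  try simp at hE
  obtain rfl : E1 = 0 := by first | exact hE | exact hE.symm
  try simp at hh
  obtain rfl : h1 = 0 := by first | exact hh | exact hh.symm
  exact ⟨_, hj⟩

omit hK in
theorem FCj.refl (p : FParam K) : FCj m p p := ⟨1, one_mem _, by simp⟩

/-- A root element of the first class. -/
def fpG (x : K) : FParam K := ⟨0, 0, 0, 0, 0, 0, 0, 0, 0, 0, x, 0⟩

/-- A root element of the second class. -/
def fpH (x : K) : FParam K := ⟨0, 0, 0, 0, 0, 0, 0, 0, 0, 0, 0, x⟩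

theorem f4_red_last (E k G h : K) : ∃ x : K, FCj m (⟨0, 0, 0, 0, 0, 0, 0, E, k, 0, G, h⟩ : FParam K) (fpG x) ∨
    FCj m (⟨0, 0, 0, 0, 0, 0, 0, E, k, 0, G, h⟩ : FParam K) (fpH x) := by
  by_cases hk : k = 0
  · subst hk
    by_cases hh : h = 0
    · subst hh
      by_cases hE : E = 0
      · subst hE
        exact ⟨G, Or.inl (FCj.refl _)⟩
      · obtain ⟨G', h'⟩ := f4_weyl_E hK (E := E)
        exact ⟨G', Or.inl ((f4_D_E hK hE).trans h')⟩
    · obtain ⟨G', h'⟩ := f4_D_h1 hK hh (e' := E) (g' := G)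
      exact ⟨h, Or.inr (h'.trans (f4_D_h2 hK hh))⟩
  · obtain ⟨E', G', h1⟩ := f4_D_k1 hK hk (e' := E) (g' := G) (h := h)
    obtain ⟨G'', h2⟩ := f4_D_k2 hK hk (e' := E') (g' := G')
    obtain ⟨x, h3⟩ := f4_weyl_k hK (k := k)
    exact ⟨x, Or.inr (((h1.trans h2).trans (f4_D_k3 hK hk)).trans h3)⟩

theorem f4_red_D {c C d e E k g G h : K} (hI : FInv m (⟨0, 0, 0, c, C, d, e, E, k, g, G, h⟩ : FParam K)) :
    ∃ x : K, FCj m (⟨0, 0, 0, c, C, d, e, E, k, g, G, h⟩ : FParam K) (fpG x) ∨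
      FCj m (⟨0, 0, 0, c, C, d, e, E, k, g, G, h⟩ : FParam K) (fpH x) := by
  obtain ⟨rfl, rfl, rfl, hCd⟩ := f4_case_c hK hI
  have fin : ∀ {e1 E1 k1 g1 G1 h1 : K}, FCj m (⟨0, 0, 0, 0, C, d, 0, E, k, 0, G, h⟩ : FParam K)
      (⟨0, 0, 0, 0, 0, 0, e1, E1, k1, g1, G1, h1⟩ : FParam K) →
      ∃ x : K, FCj m (⟨0, 0, 0, 0, C, d, 0, E, k, 0, G, h⟩ : FParam K) (fpG x) ∨
        FCj m (⟨0, 0, 0, 0, C, d, 0, E, k, 0, G, h⟩ : FParam K) (fpH x) := by
    intro e1 E1 k1 g1 G1 h1 hj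
    obtain ⟨-, rfl, rfl, -⟩ := f4_case_c hK (hj.inv hI)
    obtain ⟨x, hx⟩ := f4_red_last hK E1 k1 G1 h1
    exact ⟨x, hx.imp hj.trans hj.trans⟩
  by_cases hC : C = 0
  · subst hC
    by_cases hd : d = 0
    · subst hd
      exact f4_red_last hK E k G h
    · obtain ⟨E1, G1, h1, hj⟩ := f4_D_d hK hd (e' := E) (k := k) (g' := G) (h := h)
      obtain ⟨_, _, _, _, _, _, hj'⟩ := f4_weyl_d hK (d := d) (E := E1) (G := G1) (h := h1)
      exact fin (hj.trans hj')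
  · obtain rfl : d = 0 := hCd.resolve_left hC
    obtain ⟨E1, G1, h1, hj⟩ := f4_D_C hK hC (e' := E) (k := k) (g' := G) (h := h)
    obtain ⟨G2, h2, hj2⟩ := f4_D_C2 hK hC (e' := E1) (g' := G1) (h := h1)
    obtain ⟨_, _, _, _, _, _, hj'⟩ := f4_weyl_C hK (C := C) (G := G2) (h := h2)
    exact fin ((hj.trans hj2).trans hj')

theorem f4_red {p : FParam K} (hI : FInv m p) : ∃ x : K, FCj m p (fpG x) ∨ FCj m p (fpH x) := by
  obtain ⟨a, b, B, c, C, d, e, E, k, g, G, h⟩ := p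
  obtain ⟨rfl, haB⟩ := f4_inv_low hK hI
  by_cases ha : a = 0
  · subst ha
    by_cases hB : B = 0
    · subst hB
      exact f4_red_D hK hI
    · obtain ⟨E1, G1, h1, hj⟩ := f4_case_b hK hB hI
      obtain ⟨_, _, _, _, _, _, _, _, _, hj'⟩ := f4_weyl_B hK (B := B) (E := E1) (G := G1) (h := h1)
      obtain ⟨x, hx⟩ := f4_red_D hK (hj'.inv (hj.inv hI))
      exact ⟨x, hx.imp (hj.trans hj').trans (hj.trans hj').trans⟩
  · obtain rfl : B = 0 := (mul_eq_zero.1 haB).resolve_left ha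
    obtain ⟨C1, k1, G1, h1, hj⟩ := f4_case_a hK ha hI
    obtain ⟨_, _, _, _, _, _, _, _, _, hj'⟩ := f4_weyl_A hK (a := a) (C := C1) (k := k1) (G := G1) (h := h1)
    obtain ⟨x, hx⟩ := f4_red_D hK (hj'.inv (hj.inv hI))
    exact ⟨x, hx.imp (hj.trans hj').trans (hj.trans hj').trans⟩

end Cfsg.Lib.Chev
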