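import Cfsg.Agent.Lib.Chev.PairCentral
import Cfsg.Agent.Lib.Chev.TwF4Facts

/-!
Truncated collection in the positive unipotent group of type F4 in characteristic two, by the index of the roots.
-/

set_option autoImplicit false
set_option maxRecDepth 100000
set_option linter.unusedSectionVars false

namespace Cfsg.Lib.Chev

open Cfsg.Lie

/-- The odd commutator terms of the position 0. -/
def fS0 : ℕ → List (ℕ × ℕ × ℕ)
  | 1 => [(2, 1, 1)]
  | 4 => [(5, 1, 1), (8, 2, 1)]
  | 6 => [(7, 1, 1)]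
  | 11 => [(12, 1, 1), (19, 2, 1)]
  | 13 => [(14, 1, 1), (21, 2, 1)]
  | 17 => [(18, 1, 1)]
  | 22 => [(23, 1, 1)]
  | _ => []

/-- The odd commutator terms of the position 1. -/
def fS1 : ℕ → List (ℕ × ℕ × ℕ)
  | 0 => [(2, 1, 1)]
  | 3 => [(4, 1, 1), (6, 2, 1)]
  | 7 => [(8, 1, 1)]
  | 10 => [(11, 1, 1), (17, 2, 1)]
  | 14 => [(15, 1, 1), (23, 2, 1)]
  | 18 => [(19, 1, 1)]
  | 21 => [(22, 1, 1)]
  | _ => []

/-- The odd commutator terms of the position 2. -/
def fS2 : ℕ → List (ℕ × ℕ × ℕ)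
  | 3 => [(5, 1, 1), (7, 2, 1)]
  | 6 => [(8, 1, 1)]
  | 10 => [(12, 1, 1), (18, 2, 1)]
  | 13 => [(15, 1, 1), (22, 2, 1)]
  | 17 => [(19, 1, 1)]
  | 21 => [(23, 1, 1)]
  | _ => []

/-- The odd commutator terms of the position 3. -/
def fS3 : ℕ → List (ℕ × ℕ × ℕ)
  | 1 => [(4, 1, 1), (6, 1, 2)]
  | 2 => [(5, 1, 1), (7, 1, 2)]
  | 9 => [(10, 1, 1)]
  | 11 => [(13, 1, 1)]
  | 12 => [(14, 1, 1)]
  | 15 => [(16, 1, 1)]
  | 19 => [(20, 1, 1), (21, 1, 2)]
  | _ => []

/-- The odd commutator terms of the position 4. -/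
def fS4 : ℕ → List (ℕ × ℕ × ℕ)
  | 0 => [(5, 1, 1), (8, 1, 2)]
  | 9 => [(11, 1, 1)]
  | 10 => [(13, 1, 1)]
  | 12 => [(15, 1, 1)]
  | 14 => [(16, 1, 1)]
  | 18 => [(20, 1, 1), (22, 1, 2)]
  | _ => []

/-- The odd commutator terms of the position 5. -/
def fS5 : ℕ → List (ℕ × ℕ × ℕ)
  | 9 => [(12, 1, 1)]
  | 10 => [(14, 1, 1)]
  | 11 => [(15, 1, 1)]
  | 13 => [(16, 1, 1)]
  | 17 => [(20, 1, 1), (23, 1, 2)]
  | _ => []

/-- The odd commutator terms of the position 6. -/
def fS6 : ℕ → List (ℕ × ℕ × ℕ)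
  | 0 => [(7, 1, 1)]
  | 2 => [(8, 1, 1)]
  | 9 => [(13, 1, 1), (17, 2, 1)]
  | 12 => [(16, 1, 1), (23, 2, 1)]
  | 18 => [(21, 1, 1)]
  | 19 => [(22, 1, 1)]
  | _ => []

/-- The odd commutator terms of the position 7. -/
def fS7 : ℕ → List (ℕ × ℕ × ℕ)
  | 1 => [(8, 1, 1)]
  | 9 => [(14, 1, 1), (18, 2, 1)]
  | 11 => [(16, 1, 1), (22, 2, 1)]
  | 17 => [(21, 1, 1)]
  | 19 => [(23, 1, 1)]
  | _ => []

/-- The odd commutator terms of the position 8. -/
def fS8 : ℕ → List (ℕ × ℕ × ℕ)
  | 9 => [(15, 1, 1), (19, 2, 1)]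
  | 10 => [(16, 1, 1), (21, 2, 1)]
  | 17 => [(22, 1, 1)]
  | 18 => [(23, 1, 1)]
  | _ => []

/-- The odd commutator terms of the position 9. -/
def fS9 : ℕ → List (ℕ × ℕ × ℕ)
  | 3 => [(10, 1, 1)]
  | 4 => [(11, 1, 1)]
  | 5 => [(12, 1, 1)]
  | 6 => [(13, 1, 1), (17, 1, 2)]
  | 7 => [(14, 1, 1), (18, 1, 2)]
  | 8 => [(15, 1, 1), (19, 1, 2)]
  | 16 => [(20, 1, 1)]
  | _ => []

/-- The odd commutator terms of the position 10. -/
def fS10 : ℕ → List (ℕ × ℕ × ℕ)
  | 1 => [(11, 1, 1), (17, 1, 2)]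
  | 2 => [(12, 1, 1), (18, 1, 2)]
  | 4 => [(13, 1, 1)]
  | 5 => [(14, 1, 1)]
  | 8 => [(16, 1, 1), (21, 1, 2)]
  | 15 => [(20, 1, 1)]
  | _ => []

/-- The odd commutator terms of the position 11. -/
def fS11 : ℕ → List (ℕ × ℕ × ℕ)
  | 0 => [(12, 1, 1), (19, 1, 2)]
  | 3 => [(13, 1, 1)]
  | 5 => [(15, 1, 1)]
  | 7 => [(16, 1, 1), (22, 1, 2)]
  | 14 => [(20, 1, 1)]
  | _ => []

/-- The odd commutator terms of the position 12. -/
def fS12 : ℕ → List (ℕ × ℕ × ℕ)
  | 3 => [(14, 1, 1)]
  | 4 => [(15, 1, 1)]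
  | 6 => [(16, 1, 1), (23, 1, 2)]
  | 13 => [(20, 1, 1)]
  | _ => []

/-- The odd commutator terms of the position 13. -/
def fS13 : ℕ → List (ℕ × ℕ × ℕ)
  | 0 => [(14, 1, 1), (21, 1, 2)]
  | 2 => [(15, 1, 1), (22, 1, 2)]
  | 5 => [(16, 1, 1)]
  | 12 => [(20, 1, 1)]
  | _ => []

/-- The odd commutator terms of the position 14. -/
def fS14 : ℕ → List (ℕ × ℕ × ℕ)
  | 1 => [(15, 1, 1), (23, 1, 2)]
  | 4 => [(16, 1, 1)]
  | 11 => [(20, 1, 1)]
  | _ => []

/-- The odd commutator terms of the position 15. -/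
def fS15 : ℕ → List (ℕ × ℕ × ℕ)
  | 3 => [(16, 1, 1)]
  | 10 => [(20, 1, 1)]
  | _ => []

/-- The odd commutator terms of the position 16. -/
def fS16 : ℕ → List (ℕ × ℕ × ℕ)
  | 9 => [(20, 1, 1)]
  | _ => []

/-- The odd commutator terms of the position 17. -/
def fS17 : ℕ → List (ℕ × ℕ × ℕ)
  | 0 => [(18, 1, 1)]
  | 2 => [(19, 1, 1)]
  | 5 => [(20, 1, 1), (23, 2, 1)]
  | 7 => [(21, 1, 1)]
  | 8 => [(22, 1, 1)]
  | _ => []

/-- The odd commutator terms of the position 18. -/
def fS18 : ℕ → List (ℕ × ℕ × ℕ)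
  | 1 => [(19, 1, 1)]
  | 4 => [(20, 1, 1), (22, 2, 1)]
  | 6 => [(21, 1, 1)]
  | 8 => [(23, 1, 1)]
  | _ => []

/-- The odd commutator terms of the position 19. -/
def fS19 : ℕ → List (ℕ × ℕ × ℕ)
  | 3 => [(20, 1, 1), (21, 2, 1)]
  | 6 => [(22, 1, 1)]
  | 7 => [(23, 1, 1)]
  | _ => []

/-- The odd commutator terms of the position 21. -/
def fS21 : ℕ → List (ℕ × ℕ × ℕ)
  | 1 => [(22, 1, 1)]
  | 2 => [(23, 1, 1)]
  | _ => []

/-- The odd commutator terms of the position 22. -/
def fS22 : ℕ → List (ℕ × ℕ × ℕ)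
  | 0 => [(23, 1, 1)]
  | _ => []

/-- The odd commutator terms of two positive roots, by positions. -/
def fS : ℕ → ℕ → List (ℕ × ℕ × ℕ)
  | 0, j => fS0 j
  | 1, j => fS1 j
  | 2, j => fS2 j
  | 3, j => fS3 j
  | 4, j => fS4 j
  | 5, j => fS5 j
  | 6, j => fS6 j
  | 7, j => fS7 j
  | 8, j => fS8 j
  | 9, j => fS9 j
  | 10, j => fS10 j
  | 11, j => fS11 j
  | 12, j => fS12 j
  | 13, j => fS13 j
  | 14, j => fS14 j
  | 15, j => fS15 j
  | 16, j => fS16 j
  | 17, j => fS17 j
  | 18, j => fS18 j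
  | 19, j => fS19 j
  | 21, j => fS21 j
  | 22, j => fS22 j
  | _, _ => []

/-- The table of the terms is the table of the datum. -/
noncomputable def chkFS : Bool :=
  allBelow (fun i => allBelow (fun j => Nat.beq i j || (!Nat.beq (24 + i) (tblF4.neg (24 + j)) &&
    ((oddTerms tblF4 (24 + j) (24 + i) == (fS i j).map fun c => (24 + c.1, c.2)) &&
      (fS i j).all fun c => Nat.blt i c.1 && (Nat.blt j c.1 && Nat.blt c.1 24)))) 24) 24

theorem chkFS_ok : chkFS = true := by decide +kernel

variable {K : Type*} [Field K]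

/-- Insert a root element from the left into an ordered product starting at position `j`. -/
def fIns : ℕ → ℕ → K → ℕ → List K → List K
  | 0, _, _, _, l => l
  | _, _, _, _, [] => []
  | n + 1, i, a, j, b :: l =>
    if i = j then (a + b) :: l
    else b :: fIns n i a (j + 1)
      ((fS i j).foldr (fun c l => fIns n c.1 (b ^ c.2.1 * a ^ c.2.2) (j + 1) l) l)

/-- The ordered product of a list of parameters starting at a position. -/
noncomputable def fProd : ℕ → List K → GL chevF4.Idx K
  | _, [] => 1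
  | j, b :: l => xg certF4C (24 + j) b * fProd (j + 1) l

/-- The value of a word. -/
noncomputable def fVal (w : List (ℕ × K)) : GL chevF4.Idx K :=
  (w.map fun p => xg certF4C (24 + p.1) p.2).prod

/-- The first `N` parameters of the normal form of a word. -/
def fNf (N : ℕ) : List (ℕ × K) → List K
  | [] => List.replicate N 0
  | (i, a) :: w => fIns 24 i a 0 (fNf N w)

theorem fVal_append (v w : List (ℕ × K)) : fVal (v ++ w) = fVal v * fVal w := by
  simp [fVal]

theorem fIns_length : ∀ (n i : ℕ) (a : K) (j : ℕ) (l : List K), (fIns n i a j l).length = l.length := by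
  intro n
  induction n with
  | zero => intros; rfl
  | succ n ih =>
    intro i a j l
    cases l with
    | nil => rfl
    | cons b l =>
      have hf : ∀ cs : List (ℕ × ℕ × ℕ),
          (cs.foldr (fun c l => fIns n c.1 (b ^ c.2.1 * a ^ c.2.2) (j + 1) l) l).length = l.length := by
        intro cs
        induction cs with
        | nil => rfl
        | cons c cs ihc => rw [List.foldr_cons, ih, ihc]
      rw [fIns]
      split_ifs
      · rfl
      · rw [List.length_cons, List.length_cons, ih, hf]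

theorem fIns_take : ∀ (n i : ℕ) (a : K) (j N : ℕ) (l : List K),
    fIns n i a j (l.take N) = (fIns n i a j l).take N := by
  intro n
  induction n with
  | zero => intros; rfl
  | succ n ih =>
    intro i a j N l
    cases l with
    | nil => simp [fIns]
    | cons b l =>
      cases N with
      | zero => simp [fIns]
      | succ N =>
        have hf : ∀ cs : List (ℕ × ℕ × ℕ),
            cs.foldr (fun c l => fIns n c.1 (b ^ c.2.1 * a ^ c.2.2) (j + 1) l) (l.take N) =
              (cs.foldr (fun c l => fIns n c.1 (b ^ c.2.1 * a ^ c.2.2) (j + 1) l) l).take N := by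
          intro cs
          induction cs with
          | nil => rfl
          | cons c cs ihc => rw [List.foldr_cons, List.foldr_cons, ihc, ih]
        rw [List.take_succ_cons, fIns, fIns]
        split_ifs
        · rfl
        · rw [List.take_succ_cons, hf, ih]

theorem fNf_take {N : ℕ} (hN : N ≤ 24) (w : List (ℕ × K)) : fNf N w = (fNf 24 w).take N := by
  induction w with
  | nil => simp only [fNf]; rw [List.take_replicate, min_eq_left hN]
  | cons p w ih => obtain ⟨i, a⟩ := p; rw [fNf, fNf, ih, fIns_take]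

theorem fNf_length (N : ℕ) (w : List (ℕ × K)) : (fNf N w).length = N := by
  induction w with
  | nil => simp [fNf]
  | cons p w ih => obtain ⟨i, a⟩ := p; rw [fNf, fIns_length, ih]

section

variable [CharP K 2]

theorem fIns_prod : ∀ (n i : ℕ) (a : K) (j : ℕ) (l : List K), l.length ≤ n → j + l.length = 24 → j ≤ i → i < 24 →
    fProd j (fIns n i a j l) = xg certF4C (24 + i) a * fProd j l := by
  intro n
  induction n with
  | zero => intro i a j l h1 h2 h3 h4; omega
  | succ n ih =>
    intro i a j l h1 h2 h3 h4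
    cases l with
    | nil => simp at h2; omega
    | cons b l =>
      simp only [List.length_cons] at h1 h2
      rw [fIns]
      split_ifs with hij
      · subst hij
        rw [fProd, fProd, ← mul_assoc, xg_add]
      · have hc := chkFS_ok
        simp only [chkFS, allBelow_iff, Bool.or_eq_true, Bool.and_eq_true, Nat.beq_eq, Bool.not_eq_true',
          beq_iff_eq, List.all_eq_true, Nat.blt_eq] at hc
        obtain ⟨hn, hodd, hterm⟩ := (hc i h4 j (by omega)).resolve_left hij
        have hs := xg_swap certF4C fullCertF4 (F := K) (r := 24 + j) (s := 24 + i)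
          (show 24 + j < 48 by omega) (show 24 + i < 48 by omega) (by omega) (Nat.ne_of_beq_eq_false hn) b a
        rw [hodd, List.map_map] at hs
        have hlen : ∀ cs : List (ℕ × ℕ × ℕ),
            (cs.foldr (fun c l => fIns n c.1 (b ^ c.2.1 * a ^ c.2.2) (j + 1) l) l).length = l.length := by
          intro cs
          induction cs with
          | nil => rfl
          | cons c cs ihc => rw [List.foldr_cons, fIns_length, ihc]
        have hfold : ∀ cs : List (ℕ × ℕ × ℕ), (∀ c ∈ cs, i < c.1 ∧ j < c.1 ∧ c.1 < 24) →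
            fProd (j + 1) (cs.foldr (fun c l => fIns n c.1 (b ^ c.2.1 * a ^ c.2.2) (j + 1) l) l) =
              (cs.map fun c => xg certF4C (24 + c.1) (b ^ c.2.1 * a ^ c.2.2)).prod * fProd (j + 1) l := by
          intro cs
          induction cs with
          | nil => intro _; simp
          | cons c cs ihc =>
            intro h
            have hcc := h c (List.mem_cons_self ..)
            rw [List.foldr_cons, ih c.1 _ (j + 1) _ (by rw [hlen]; omega) (by rw [hlen]; omega) (by omega) hcc.2.2,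
              ihc fun x hx => h x (List.mem_cons_of_mem _ hx), List.map_cons, List.prod_cons, mul_assoc]
        rw [fProd, fProd, ih i a (j + 1) _ (by rw [hlen]; omega) (by rw [hlen]; omega) (by omega) h4,
          hfold _ hterm, ← mul_assoc (xg certF4C (24 + i) a) (xg certF4C (24 + j) b), hs]
        simp only [mul_assoc, Function.comp_def]

theorem fNf_prod {w : List (ℕ × K)} (hw : ∀ p ∈ w, p.1 < 24) : fProd 0 (fNf 24 w) = fVal w := by
  induction w with
  | nil => simp [fNf, fProd, fVal, List.replicate, xg_zero]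
  | cons p w ih =>
    obtain ⟨i, a⟩ := p
    rw [fNf, fIns_prod 24 i a 0 _ (by rw [fNf_length]) (by rw [fNf_length]) (Nat.zero_le _)
      (hw (i, a) (List.mem_cons_self ..)), ih fun q hq => hw q (List.mem_cons_of_mem _ hq)]
    simp [fVal]

theorem fProd_inj : ∀ (v w : List K) (j : ℕ), j + v.length = 24 → w.length = v.length →
    fProd j v = fProd j w → v = w := by
  intro v
  induction v with
  | nil => intro w j _ hw _; exact (List.length_eq_zero_iff.1 hw).symm
  | cons b v ih =>
    intro w j hj hw e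
    obtain ⟨c, w, rfl⟩ : ∃ c w', w = c :: w' := by
      cases w with
      | nil => simp at hw
      | cons c w => exact ⟨c, w, rfl⟩
    simp only [List.length_cons] at hj hw
    rw [fProd, fProd] at e
    have hmem : ∀ (l : List K) (i : ℕ), j + 1 ≤ i → i + l.length = 24 →
        fProd i l ∈ upper certF4C K (24 + j + 1) := by
      intro l
      induction l with
      | nil => intro i _ _; exact one_mem _
      | cons x l ihl =>
        intro i h1 h2
        simp only [List.length_cons] at h2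
        exact mul_mem (xg_mem_upper _ (by omega) _) (ihl (i + 1) (by omega) (by omega))
    obtain ⟨e1, e2⟩ := upper_unique certF4C (show chevF4.nroots ≤ 2 * (24 + j) by show 48 ≤ _; omega)
      (show 24 + j < chevF4.nroots by show _ < 48; omega) (hmem v (j + 1) le_rfl (by omega))
      (hmem w (j + 1) le_rfl (by omega)) e
    rw [e1, ih w (j + 1) (by omega) (by omega) e2]

/-- Equal elements have equal normal forms. -/
theorem fNf_eq {N : ℕ} (hN : N ≤ 24) {v w : List (ℕ × K)} (hv : ∀ p ∈ v, p.1 < 24) (hw : ∀ p ∈ w, p.1 < 24)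
    (h : fVal v = fVal w) : fNf N v = fNf N w := by
  rw [fNf_take hN, fNf_take hN w, fProd_inj (fNf 24 v) (fNf 24 w) 0 (by rw [fNf_length]) (by rw [fNf_length, fNf_length])
    (by rw [fNf_prod hv, fNf_prod hw, h])]

end

/-- The roots of a word are positive. -/
theorem fVal_pos {w : List (ℕ × K)} (hw : ∀ p ∈ w, p.1 < 24) : fVal w ∈ chevF4.posUnipotent K :=
  list_prod_mem fun x hx => by
    obtain ⟨p, hp, rfl⟩ := List.mem_map.1 hx
    exact xg_mem_pos certF4C (show 24 + p.1 < 48 by have := hw p hp; omega) (show 48 ≤ 2 * (24 + p.1) by omega) _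

end Cfsg.Lib.Chev
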