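import Cfsg.Agent.Lib.Chev.TwF4Reduce

/-!
Reduction of the involutions of ²F₄(q) with trivial low parameters to root elements.
-/

set_option autoImplicit false
set_option maxRecDepth 100000
set_option maxHeartbeats 16000000
set_option linter.unusedSimpArgs false

namespace Cfsg.Lib.Chev
open Cfsg.Lie
variable {K : Type*} [Field K] [CharP K esymF4.p] [CharP K 2] [Fintype K]
variable {m : ℕ} (hK : Fintype.card K = 2 ^ (2 * m + 1))
include hK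

theorem f4_D_C {c' e' k g' h : K} (h0 : c' ≠ 0) : ∃ E₁ G₁ h₁ : K, FCj m (⟨0, 0, 0, 0, c', 0, 0, e', k, 0, g', h ⟩ : FParam K) ⟨0, 0, 0, 0, c', 0, 0, E₁, 0, 0, G₁, h₁⟩ := by
  obtain ⟨⟨a1, b1, B1, c1, C1, d1, e1, E1, k1, g1, G1, h1⟩, hj, hN⟩ :=
    f4_conj_pos hK ⟨0, k / fTh K m c' ^ 2, 0, 0, 0, 0, 0, 0, 0, 0, 0, 0⟩ ⟨0, 0, 0, 0, c', 0, 0, e', k, 0, g', h⟩
  have hsq := fTh_sq hK (k / fTh K m c' ^ 2)
  have hsq2 : fTh K m (fTh K m (k / fTh K m c' ^ 2) ^ 2) = k / fTh K m c' ^ 2 := by rw [map_pow, hsq]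
  have h7 := hN 9 (by norm_num)
  simp [fNf, fIns, FParam.word, List.replicate, fS, fS0, fS1, fS2, fS3, fS4, fS5, fS6, fS7, fS8, fS9, fS10, fS11, fS12, fS13, fS14, fS15, fS16, fS17, fS18, fS19, fS21, fS22, CharTwo.add_self_eq_zero, -map_div₀, -map_pow] at h7
  obtain ⟨rfl, rfl, h7⟩ := h7
  try simp [-map_div₀, -map_pow] at h7
  obtain ⟨rfl, h7⟩ := h7
  try simp [-map_div₀, -map_pow] at h7
  obtain ⟨hB, hg, -, he, hd⟩ := h7
  obtain rfl : B1 = 0 := by first | exact hB | exact hB.symm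
  obtain rfl : e1 = 0 := by
    try simp [-map_div₀, -map_pow] at he
    first | exact he | exact he.symm
  obtain rfl : g1 = 0 := by
    try simp [-map_div₀, -map_pow] at hg
    exact (map_eq_zero _).1 hg.symm
  try simp [-map_div₀, -map_pow] at hd
  subst hd
  have hh := hN 24 le_rfl
  simp [fNf, fIns, FParam.word, List.replicate, fS, fS0, fS1, fS2, fS3, fS4, fS5, fS6, fS7, fS8, fS9, fS10, fS11, fS12, fS13, fS14, fS15, fS16, fS17, fS18, fS19, fS21, fS22, CharTwo.add_self_eq_zero, -map_div₀, -map_pow, hsq, hsq2] at hh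
  have two : (2 : K) = 0 := CharTwo.two_eq_zero
  obtain ⟨rfl, -, -, -, -, hk, -⟩ := hh
  rw [div_mul_cancel₀ k (pow_ne_zero _ fun h => h0 ((map_eq_zero _).1 h))] at hk
  obtain rfl : k1 = 0 := by linear_combination -hk
  exact ⟨_, _, _, hj⟩

theorem f4_D_C2 {c' e' g' h : K} (h0 : c' ≠ 0) : ∃ G₁ h₁ : K, FCj m (⟨0, 0, 0, 0, c', 0, 0, e', 0, 0, g', h ⟩ : FParam K) ⟨0, 0, 0, 0, c', 0, 0, 0, 0, 0, G₁, h₁⟩ := by
  obtain ⟨⟨a1, b1, B1, c1, C1, d1, e1, E1, k1, g1, G1, h1⟩, hj, hN⟩ :=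
    f4_conj_pos hK ⟨0, 0, fTh K m (e' / c'), 0, 0, 0, 0, 0, 0, 0, 0, 0⟩ ⟨0, 0, 0, 0, c', 0, 0, e', 0, 0, g', h⟩
  have hsq := fTh_sq hK (e' / c')
  have hsq2 : fTh K m (fTh K m (e' / c') ^ 2) = e' / c' := by rw [map_pow, hsq]
  have h7 := hN 9 (by norm_num)
  simp [fNf, fIns, FParam.word, List.replicate, fS, fS0, fS1, fS2, fS3, fS4, fS5, fS6, fS7, fS8, fS9, fS10, fS11, fS12, fS13, fS14, fS15, fS16, fS17, fS18, fS19, fS21, fS22, CharTwo.add_self_eq_zero, -map_div₀, -map_pow] at h7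
  obtain ⟨rfl, rfl, h7⟩ := h7
  try simp [-map_div₀, -map_pow] at h7
  obtain ⟨rfl, h7⟩ := h7
  try simp [-map_div₀, -map_pow] at h7
  obtain ⟨hB, hg, -, he, hd⟩ := h7
  obtain rfl : B1 = 0 := by first | exact hB | exact hB.symm
  obtain rfl : e1 = 0 := by
    try simp [-map_div₀, -map_pow] at he
    first | exact he | exact he.symm
  obtain rfl : g1 = 0 := by
    try simp [-map_div₀, -map_pow] at hg
    exact (map_eq_zero _).1 hg.symm
  try simp [-map_div₀, -map_pow] at hd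
  subst hd
  have hh := hN 24 le_rfl
  simp [fNf, fIns, FParam.word, List.replicate, fS, fS0, fS1, fS2, fS3, fS4, fS5, fS6, fS7, fS8, fS9, fS10, fS11, fS12, fS13, fS14, fS15, fS16, fS17, fS18, fS19, fS21, fS22, CharTwo.add_self_eq_zero, -map_div₀, -map_pow, hsq, hsq2] at hh
  have two : (2 : K) = 0 := CharTwo.two_eq_zero
  obtain ⟨rfl, -, -, he, -, rfl, -⟩ := hh
  rw [div_mul_cancel₀ e' h0] at he
  simp [-map_div₀] at he
  obtain rfl : E1 = 0 := by first | exact he | exact he.symm | linear_combination -he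
  exact ⟨_, _, hj⟩

theorem f4_D_d {d e' k g' h : K} (h0 : d ≠ 0) : ∃ E₁ G₁ h₁ : K, FCj m (⟨0, 0, 0, 0, 0, d, 0, e', k, 0, g', h ⟩ : FParam K) ⟨0, 0, 0, 0, 0, d, 0, E₁, 0, 0, G₁, h₁⟩ := by
  obtain ⟨⟨a1, b1, B1, c1, C1, d1, e1, E1, k1, g1, G1, h1⟩, hj, hN⟩ :=
    f4_conj_pos hK ⟨fTh K m (k / d), 0, 0, 0, 0, 0, 0, 0, 0, 0, 0, 0⟩ ⟨0, 0, 0, 0, 0, d, 0, e', k, 0, g', h⟩
  have hsq := fTh_sq hK (k / d)
  have hsq2 : fTh K m (fTh K m (k / d) ^ 2) = k / d := by rw [map_pow, hsq]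
  have h7 := hN 9 (by norm_num)
  simp [fNf, fIns, FParam.word, List.replicate, fS, fS0, fS1, fS2, fS3, fS4, fS5, fS6, fS7, fS8, fS9, fS10, fS11, fS12, fS13, fS14, fS15, fS16, fS17, fS18, fS19, fS21, fS22, CharTwo.add_self_eq_zero, -map_div₀, -map_pow] at h7
  obtain ⟨rfl, rfl, h7⟩ := h7
  try simp [-map_div₀, -map_pow] at h7
  obtain ⟨rfl, h7⟩ := h7
  try simp [-map_div₀, -map_pow] at h7
  obtain ⟨hB, hg, -, he, hd⟩ := h7
  obtain rfl : B1 = 0 := by first | exact hB | exact hB.symm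
  obtain rfl : e1 = 0 := by
    try simp [-map_div₀, -map_pow] at he
    first | exact he | exact he.symm
  obtain rfl : g1 = 0 := by
    try simp [-map_div₀, -map_pow] at hg
    exact (map_eq_zero _).1 hg.symm
  try simp [-map_div₀, -map_pow] at hd
  subst hd
  have hh := hN 24 le_rfl
  simp [fNf, fIns, FParam.word, List.replicate, fS, fS0, fS1, fS2, fS3, fS4, fS5, fS6, fS7, fS8, fS9, fS10, fS11, fS12, fS13, fS14, fS15, fS16, fS17, fS18, fS19, fS21, fS22, CharTwo.add_self_eq_zero, -map_div₀, -map_pow, hsq, hsq2] at hh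
  have two : (2 : K) = 0 := CharTwo.two_eq_zero
  obtain ⟨rfl, -, -, -, -, hk, -⟩ := hh
  rw [mul_div_cancel₀ k h0] at hk
  obtain rfl : k1 = 0 := by linear_combination -hk + k * two
  exact ⟨_, _, _, hj⟩

theorem f4_D_k1 {e' k g' h : K} (h0 : k ≠ 0) : ∃ E₁ G₁ : K, FCj m (⟨0, 0, 0, 0, 0, 0, 0, e', k, 0, g', h ⟩ : FParam K) ⟨0, 0, 0, 0, 0, 0, 0, E₁, k, 0, G₁, 0⟩ := by
  obtain ⟨⟨a1, b1, B1, c1, C1, d1, e1, E1, k1, g1, G1, h1⟩, hj, hN⟩ :=
    f4_conj_pos hK ⟨0, fTh K m (h / k), 0, 0, 0, 0, 0, 0, 0, 0, 0, 0⟩ ⟨0, 0, 0, 0, 0, 0, 0, e', k, 0, g', h⟩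
  have hsq := fTh_sq hK (h / k)
  have hsq2 : fTh K m (fTh K m (h / k) ^ 2) = h / k := by rw [map_pow, hsq]
  have h7 := hN 9 (by norm_num)
  simp [fNf, fIns, FParam.word, List.replicate, fS, fS0, fS1, fS2, fS3, fS4, fS5, fS6, fS7, fS8, fS9, fS10, fS11, fS12, fS13, fS14, fS15, fS16, fS17, fS18, fS19, fS21, fS22, CharTwo.add_self_eq_zero, -map_div₀, -map_pow] at h7
  obtain ⟨rfl, rfl, h7⟩ := h7
  try simp [-map_div₀, -map_pow] at h7
  obtain ⟨rfl, h7⟩ := h7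
  try simp [-map_div₀, -map_pow] at h7
  obtain ⟨hB, hg, -, he, hd⟩ := h7
  obtain rfl : B1 = 0 := by first | exact hB | exact hB.symm
  obtain rfl : e1 = 0 := by
    try simp [-map_div₀, -map_pow] at he
    first | exact he | exact he.symm
  obtain rfl : g1 = 0 := by
    try simp [-map_div₀, -map_pow] at hg
    exact (map_eq_zero _).1 hg.symm
  try simp [-map_div₀, -map_pow] at hd
  subst hd
  have hh := hN 24 le_rfl
  simp [fNf, fIns, FParam.word, List.replicate, fS, fS0, fS1, fS2, fS3, fS4, fS5, fS6, fS7, fS8, fS9, fS10, fS11, fS12, fS13, fS14, fS15, fS16, fS17, fS18, fS19, fS21, fS22, CharTwo.add_self_eq_zero, -map_div₀, -map_pow, hsq, hsq2] at hh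
  have two : (2 : K) = 0 := CharTwo.two_eq_zero
  obtain ⟨rfl, -, -, -, -, hk, -, hh, -⟩ := hh
  simp [-map_div₀] at hk hh
  subst hk
  rw [div_mul_cancel₀ h h0] at hh
  obtain rfl : h1 = 0 := by linear_combination -hh
  exact ⟨_, _, hj⟩

theorem f4_D_k2 {e' k g' : K} (h0 : k ≠ 0) : ∃ G₁ : K, FCj m (⟨0, 0, 0, 0, 0, 0, 0, e', k, 0, g', 0 ⟩ : FParam K) ⟨0, 0, 0, 0, 0, 0, 0, 0, k, 0, G₁, 0⟩ := by
  obtain ⟨⟨a1, b1, B1, c1, C1, d1, e1, E1, k1, g1, G1, h1⟩, hj, hN⟩ :=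
    f4_conj_pos hK ⟨0, 0, e' / fTh K m k, 0, 0, 0, 0, 0, 0, 0, 0, 0⟩ ⟨0, 0, 0, 0, 0, 0, 0, e', k, 0, g', 0⟩
  have hsq := fTh_sq hK (e' / fTh K m k)
  have hsq2 : fTh K m (fTh K m (e' / fTh K m k) ^ 2) = e' / fTh K m k := by rw [map_pow, hsq]
  have h7 := hN 9 (by norm_num)
  simp [fNf, fIns, FParam.word, List.replicate, fS, fS0, fS1, fS2, fS3, fS4, fS5, fS6, fS7, fS8, fS9, fS10, fS11, fS12, fS13, fS14, fS15, fS16, fS17, fS18, fS19, fS21, fS22, CharTwo.add_self_eq_zero, -map_div₀, -map_pow] at h7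
  obtain ⟨rfl, rfl, h7⟩ := h7
  try simp [-map_div₀, -map_pow] at h7
  obtain ⟨rfl, h7⟩ := h7
  try simp [-map_div₀, -map_pow] at h7
  obtain ⟨hB, hg, -, he, hd⟩ := h7
  obtain rfl : B1 = 0 := by first | exact hB | exact hB.symm
  obtain rfl : e1 = 0 := by
    try simp [-map_div₀, -map_pow] at he
    first | exact he | exact he.symm
  obtain rfl : g1 = 0 := by
    try simp [-map_div₀, -map_pow] at hg
    exact (map_eq_zero _).1 hg.symm
  try simp [-map_div₀, -map_pow] at hd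
  subst hd
  have hh := hN 24 le_rfl
  simp [fNf, fIns, FParam.word, List.replicate, fS, fS0, fS1, fS2, fS3, fS4, fS5, fS6, fS7, fS8, fS9, fS10, fS11, fS12, fS13, fS14, fS15, fS16, fS17, fS18, fS19, fS21, fS22, CharTwo.add_self_eq_zero, -map_div₀, -map_pow, hsq, hsq2] at hh
  have two : (2 : K) = 0 := CharTwo.two_eq_zero
  obtain ⟨rfl, -, -, he, -, rfl, -, hh, -⟩ := hh
  rw [div_mul_cancel₀ e' fun h => h0 ((map_eq_zero _).1 h)] at he
  simp [-map_div₀] at he hh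
  obtain rfl : E1 = 0 := by first | exact he | exact he.symm | linear_combination -he
  obtain rfl : h1 = 0 := by first | exact hh | exact hh.symm
  exact ⟨_, hj⟩

theorem f4_D_k3 {k g' : K} (h0 : k ≠ 0) : FCj m (⟨0, 0, 0, 0, 0, 0, 0, 0, k, 0, g', 0 ⟩ : FParam K) ⟨0, 0, 0, 0, 0, 0, 0, 0, k, 0, 0, 0⟩ := by
  obtain ⟨⟨a1, b1, B1, c1, C1, d1, e1, E1, k1, g1, G1, h1⟩, hj, hN⟩ :=
    f4_conj_pos hK ⟨0, 0, 0, 0, 0, 0, fTh K m (g' / fTh K m k) ^ 2, 0, 0, 0, 0, 0⟩ ⟨0, 0, 0, 0, 0, 0, 0, 0, k, 0, g', 0⟩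
  have hsq := fTh_sq hK (g' / fTh K m k)
  have hsq2 : fTh K m (fTh K m (g' / fTh K m k) ^ 2) = g' / fTh K m k := by rw [map_pow, hsq]
  have h7 := hN 9 (by norm_num)
  simp [fNf, fIns, FParam.word, List.replicate, fS, fS0, fS1, fS2, fS3, fS4, fS5, fS6, fS7, fS8, fS9, fS10, fS11, fS12, fS13, fS14, fS15, fS16, fS17, fS18, fS19, fS21, fS22, CharTwo.add_self_eq_zero, -map_div₀, -map_pow] at h7
  obtain ⟨rfl, rfl, h7⟩ := h7
  try simp [-map_div₀, -map_pow] at h7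
  obtain ⟨rfl, h7⟩ := h7
  try simp [-map_div₀, -map_pow] at h7
  obtain ⟨hB, hg, -, he, hd⟩ := h7
  obtain rfl : B1 = 0 := by first | exact hB | exact hB.symm
  obtain rfl : e1 = 0 := by
    try simp [-map_div₀, -map_pow] at he
    first | exact he | exact he.symm
  obtain rfl : g1 = 0 := by
    try simp [-map_div₀, -map_pow] at hg
    exact (map_eq_zero _).1 hg.symm
  try simp [-map_div₀, -map_pow] at hd
  subst hd
  have hh := hN 24 le_rfl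
  simp [fNf, fIns, FParam.word, List.replicate, fS, fS0, fS1, fS2, fS3, fS4, fS5, fS6, fS7, fS8, fS9, fS10, fS11, fS12, fS13, fS14, fS15, fS16, fS17, fS18, fS19, fS21, fS22, CharTwo.add_self_eq_zero, -map_div₀, -map_pow, hsq, hsq2] at hh
  have two : (2 : K) = 0 := CharTwo.two_eq_zero
  obtain ⟨rfl, -, -, rfl, -, rfl, hG, rfl, -⟩ := hh
  rw [div_mul_cancel₀ g' fun h => h0 ((map_eq_zero _).1 h)] at hG
  obtain rfl : G1 = 0 := by linear_combination -hG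
  exact hj

theorem f4_D_h1 {e' g' h : K} (h0 : h ≠ 0) : ∃ G₁ : K, FCj m (⟨0, 0, 0, 0, 0, 0, 0, e', 0, 0, g', h ⟩ : FParam K) ⟨0, 0, 0, 0, 0, 0, 0, 0, 0, 0, G₁, h⟩ := by
  obtain ⟨⟨a1, b1, B1, c1, C1, d1, e1, E1, k1, g1, G1, h1⟩, hj, hN⟩ :=
    f4_conj_pos hK ⟨0, fTh K m (e' / fTh K m h) ^ 2, 0, 0, 0, 0, 0, 0, 0, 0, 0, 0⟩ ⟨0, 0, 0, 0, 0, 0, 0, e', 0, 0, g', h⟩
  have hsq := fTh_sq hK (e' / fTh K m h)
  have hsq2 : fTh K m (fTh K m (e' / fTh K m h) ^ 2) = e' / fTh K m h := by rw [map_pow, hsq]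
  have h7 := hN 9 (by norm_num)
  simp [fNf, fIns, FParam.word, List.replicate, fS, fS0, fS1, fS2, fS3, fS4, fS5, fS6, fS7, fS8, fS9, fS10, fS11, fS12, fS13, fS14, fS15, fS16, fS17, fS18, fS19, fS21, fS22, CharTwo.add_self_eq_zero, -map_div₀, -map_pow] at h7
  obtain ⟨rfl, rfl, h7⟩ := h7
  try simp [-map_div₀, -map_pow] at h7
  obtain ⟨rfl, h7⟩ := h7
  try simp [-map_div₀, -map_pow] at h7
  obtain ⟨hB, hg, -, he, hd⟩ := h7
  obtain rfl : B1 = 0 := by first | exact hB | exact hB.symm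
  obtain rfl : e1 = 0 := by
    try simp [-map_div₀, -map_pow] at he
    first | exact he | exact he.symm
  obtain rfl : g1 = 0 := by
    try simp [-map_div₀, -map_pow] at hg
    exact (map_eq_zero _).1 hg.symm
  try simp [-map_div₀, -map_pow] at hd
  subst hd
  have hh := hN 24 le_rfl
  simp [fNf, fIns, FParam.word, List.replicate, fS, fS0, fS1, fS2, fS3, fS4, fS5, fS6, fS7, fS8, fS9, fS10, fS11, fS12, fS13, fS14, fS15, fS16, fS17, fS18, fS19, fS21, fS22, CharTwo.add_self_eq_zero, -map_div₀, -map_pow, hsq, hsq2] at hh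
  have two : (2 : K) = 0 := CharTwo.two_eq_zero
  obtain ⟨rfl, -, -, he, -, hk, -, hh, -⟩ := hh
  simp [-map_div₀] at hk
  obtain rfl : k1 = 0 := by first | exact hk | exact hk.symm
  simp [-map_div₀, -map_pow] at he hh
  subst hh
  rw [div_mul_cancel₀ e' fun h => h0 ((map_eq_zero _).1 h)] at he
  obtain rfl : E1 = 0 := by linear_combination -he
  exact ⟨_, hj⟩

theorem f4_D_h2 {g' h : K} (h0 : h ≠ 0) : FCj m (⟨0, 0, 0, 0, 0, 0, 0, 0, 0, 0, g', h ⟩ : FParam K) ⟨0, 0, 0, 0, 0, 0, 0, 0, 0, 0, 0, h⟩ := by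
  obtain ⟨⟨a1, b1, B1, c1, C1, d1, e1, E1, k1, g1, G1, h1⟩, hj, hN⟩ :=
    f4_conj_pos hK ⟨0, 0, 0, fTh K m (g' / fTh K m h) ^ 2, 0, 0, 0, 0, 0, 0, 0, 0⟩ ⟨0, 0, 0, 0, 0, 0, 0, 0, 0, 0, g', h⟩
  have hsq := fTh_sq hK (g' / fTh K m h)
  have hsq2 : fTh K m (fTh K m (g' / fTh K m h) ^ 2) = g' / fTh K m h := by rw [map_pow, hsq]
  have h7 := hN 9 (by norm_num)
  simp [fNf, fIns, FParam.word, List.replicate, fS, fS0, fS1, fS2, fS3, fS4, fS5, fS6, fS7, fS8, fS9, fS10, fS11, fS12, fS13, fS14, fS15, fS16, fS17, fS18, fS19, fS21, fS22, CharTwo.add_self_eq_zero, -map_div₀, -map_pow] at h7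
  obtain ⟨rfl, rfl, h7⟩ := h7
  try simp [-map_div₀, -map_pow] at h7
  obtain ⟨rfl, h7⟩ := h7
  try simp [-map_div₀, -map_pow] at h7
  obtain ⟨hB, hg, -, he, hd⟩ := h7
  obtain rfl : B1 = 0 := by first | exact hB | exact hB.symm
  obtain rfl : e1 = 0 := by
    try simp [-map_div₀, -map_pow] at he
    first | exact he | exact he.symm
  obtain rfl : g1 = 0 := by
    try simp [-map_div₀, -map_pow] at hg
    exact (map_eq_zero _).1 hg.symm
  try simp [-map_div₀, -map_pow] at hd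
  subst hd
  have hh := hN 24 le_rfl
  simp [fNf, fIns, FParam.word, List.replicate, fS, fS0, fS1, fS2, fS3, fS4, fS5, fS6, fS7, fS8, fS9, fS10, fS11, fS12, fS13, fS14, fS15, fS16, fS17, fS18, fS19, fS21, fS22, CharTwo.add_self_eq_zero, -map_div₀, -map_pow, hsq, hsq2] at hh
  have two : (2 : K) = 0 := CharTwo.two_eq_zero
  obtain ⟨rfl, -, -, rfl, -, rfl, hG, rfl, -⟩ := hh
  rw [div_mul_cancel₀ g' fun h => h0 ((map_eq_zero _).1 h)] at hG
  obtain rfl : G1 = 0 := by linear_combination -hG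
  exact hj

theorem f4_D_E {e' g' : K} (h0 : e' ≠ 0) : FCj m (⟨0, 0, 0, 0, 0, 0, 0, e', 0, 0, g', 0 ⟩ : FParam K) ⟨0, 0, 0, 0, 0, 0, 0, e', 0, 0, 0, 0⟩ := by
  obtain ⟨⟨a1, b1, B1, c1, C1, d1, e1, E1, k1, g1, G1, h1⟩, hj, hN⟩ :=
    f4_conj_pos hK ⟨fTh K m (g' / e') ^ 2, 0, 0, 0, 0, 0, 0, 0, 0, 0, 0, 0⟩ ⟨0, 0, 0, 0, 0, 0, 0, e', 0, 0, g', 0⟩
  have hsq := fTh_sq hK (g' / e')
  have hsq2 : fTh K m (fTh K m (g' / e') ^ 2) = g' / e' := by rw [map_pow, hsq]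
  have h7 := hN 9 (by norm_num)
  simp [fNf, fIns, FParam.word, List.replicate, fS, fS0, fS1, fS2, fS3, fS4, fS5, fS6, fS7, fS8, fS9, fS10, fS11, fS12, fS13, fS14, fS15, fS16, fS17, fS18, fS19, fS21, fS22, CharTwo.add_self_eq_zero, -map_div₀, -map_pow] at h7
  obtain ⟨rfl, rfl, h7⟩ := h7
  try simp [-map_div₀, -map_pow] at h7
  obtain ⟨rfl, h7⟩ := h7
  try simp [-map_div₀, -map_pow] at h7
  obtain ⟨hB, hg, -, he, hd⟩ := h7
  obtain rfl : B1 = 0 := by first | exact hB | exact hB.symm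
  obtain rfl : e1 = 0 := by
    try simp [-map_div₀, -map_pow] at he
    first | exact he | exact he.symm
  obtain rfl : g1 = 0 := by
    try simp [-map_div₀, -map_pow] at hg
    exact (map_eq_zero _).1 hg.symm
  try simp [-map_div₀, -map_pow] at hd
  subst hd
  have hh := hN 24 le_rfl
  simp [fNf, fIns, FParam.word, List.replicate, fS, fS0, fS1, fS2, fS3, fS4, fS5, fS6, fS7, fS8, fS9, fS10, fS11, fS12, fS13, fS14, fS15, fS16, fS17, fS18, fS19, fS21, fS22, CharTwo.add_self_eq_zero, -map_div₀, -map_pow, hsq, hsq2] at hh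
  have two : (2 : K) = 0 := CharTwo.two_eq_zero
  obtain ⟨rfl, -, -, rfl, -, rfl, hG, rfl, -⟩ := hh
  rw [div_mul_cancel₀ g' h0] at hG
  obtain rfl : G1 = 0 := by linear_combination -hG
  exact hj
end Cfsg.Lib.Chev
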