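import Cfsg.Agent.Lib.Chev.TitsTwoClass

/-!
The centralisers of involutions of ²F₄(q) lie in maximal parabolic subgroups.
-/

set_option autoImplicit false
set_option maxRecDepth 100000
set_option linter.unusedSectionVars false
set_option linter.unusedSimpArgs false

namespace Cfsg.Lib.Chev

open Cfsg.Lie
open Cfsg.Lib.Linear

/-- The order of the fixed part of the Borel subgroup. -/
theorem TwOK.card_fixed_borel {D : ChevalleyDatum} {T : Tbl} {F : Type*} [Field F] [Finite F] (C : Cert D T)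
    (K : FullCert D T) {τ : TwData} (hc : TwComb D T τ) {σ : GL D.Idx F → GL D.Idx F} (h : TwOK C τ σ)
    {wt : ℕ → ℕ} {q d : ℕ} (hwt : ∀ J < τ.norb, Nat.card ↥(twFixPart C σ (τ.base J)) = q ^ wt J)
    (hd : 0 < d) (hdw : ∀ J < τ.norb, d * wt J = (τ.base J).length) :
    Nat.card ↥(D.borelSubgroup F ⊓ h.fixed C) =
      Nat.card ↥(D.diagonalSubgroup F ⊓ h.fixed C) * q ^ (D.nroots / 2 / d) := by
    rw [← h.card_pos_fixed C K hc hwt hd hdw, mul_comm, ← Nat.card_prod]
    refine (Nat.card_eq_of_bijective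
      (fun x : ↥(D.posUnipotent F ⊓ h.fixed C) × ↥(D.diagonalSubgroup F ⊓ h.fixed C) =>
        (⟨x.1.1 * x.2.1, Subgroup.mem_inf.2 ⟨mul_mem (Subgroup.mem_sup_left x.1.2.1) (Subgroup.mem_sup_right x.2.2.1),
          mul_mem x.1.2.2 x.2.2.2⟩⟩ : ↥(D.borelSubgroup F ⊓ h.fixed C))) ⟨?_, ?_⟩).symm
    · rintro ⟨⟨u, hu⟩, ⟨a, ha⟩⟩ ⟨⟨u', hu'⟩, ⟨a', ha'⟩⟩ e
      have e' : u * a = u' * a' := congrArg Subtype.val e
      have h1 : u'⁻¹ * u ∈ D.posUnipotent F ⊓ D.diagonalSubgroup F :=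
        ⟨Subgroup.mul_mem _ (Subgroup.inv_mem _ hu'.1) hu.1, by
          rw [show u'⁻¹ * u = a' * a⁻¹ by rw [eq_mul_inv_iff_mul_eq, mul_assoc, e', inv_mul_cancel_left]]
          exact Subgroup.mul_mem _ ha'.1 (Subgroup.inv_mem _ ha.1)⟩
      rw [pos_inf_diag C, Subgroup.mem_bot, inv_mul_eq_one] at h1
      subst h1
      obtain rfl := mul_left_cancel e'
      rfl
    · rintro ⟨g, hgB, hgF⟩
      obtain ⟨u, hu, a, ha, rfl⟩ := (mem_borel C).1 hgB
      have e : σ u * σ a = u * a := by rw [← h.map_mul _ (pos_le_group C hu) _ (diag_le_group C ha)]; exact hgF.2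
      have h1 : u⁻¹ * σ u ∈ D.posUnipotent F ⊓ D.diagonalSubgroup F :=
        ⟨Subgroup.mul_mem _ (Subgroup.inv_mem _ hu) (h.map_pos C hc hu), by
          rw [show u⁻¹ * σ u = a * (σ a)⁻¹ by rw [eq_mul_inv_iff_mul_eq, mul_assoc, e, inv_mul_cancel_left]]
          exact Subgroup.mul_mem _ ha (Subgroup.inv_mem _ (h.map_diag a ha))⟩
      rw [pos_inf_diag C, Subgroup.mem_bot, inv_mul_eq_one] at h1
      have ea : σ a = a := by rw [← h1] at e; exact mul_left_cancel e
      exact ⟨(⟨u, hu, pos_le_group C hu, h1.symm⟩, ⟨a, ha, diag_le_group C ha, ea⟩), rfl⟩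

variable {F : Type*} [Field F] [CharP F 2]

set_option maxHeartbeats 4000000 in
/-- A normal form commuting with the first representative fixes its roots. -/
theorem f4_cent_w_perm {w : List ℕ} (hw : IsWord chevF4 w) {u h c : GL chevF4.Idx F}
    (hu : u ∈ chevF4.posUnipotent F) (hh : h ∈ chevF4.diagonalSubgroup F)
    (hc : c ∈ signPart certF4 fullCertF4 F w true (chevF4.nroots / 2))
    (hgc : u * h * wnu certF4 F w * c * lprod certF4 [47, 44] (f4Phi2 1 1) =
      lprod certF4 [47, 44] (f4Phi2 1 1) * (u * h * wnu certF4 F w * c)) :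
    wperm tblF4 w 47 = 47 ∧ wperm tblF4 w 44 = 44 := by
  have hev := nroots_even (D := chevF4) certF4
  set φ : ℕ → F := f4Phi2 1 1 with hφ
  set v := lprod certF4 [47, 44] φ with hv
  have hcW : c ∈ f4Ww F :=
    f4_pos_le_Ww ((posUnipotent_eq certF4 (F := F)).symm ▸ signPart_le_upper certF4 fullCertF4 w true _ hc)
  have huW : u ∈ f4Ww F := f4_pos_le_Ww hu
  set n := wnu certF4 F w with hn
  have key : h * (n * v * n⁻¹) * h⁻¹ = v := by
    have hcc := (f4Ww_commute hcW).eq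
    have huu := (f4Ww_commute huW).eq
    calc h * (n * v * n⁻¹) * h⁻¹ = u⁻¹ * (u * h * n * (v * c)) * (c⁻¹ * n⁻¹ * h⁻¹) := by group
      _ = u⁻¹ * (u * h * n * c * v) * (c⁻¹ * n⁻¹ * h⁻¹) := by rw [← hcc]; simp [mul_assoc, hv, hφ]
      _ = u⁻¹ * (v * u) := by rw [hgc]; group
      _ = v := by rw [← huu, inv_mul_cancel_left]
  have hl : ∀ r ∈ [47, 44], chevF4.nroots / 2 ≤ r ∧ r < chevF4.nroots := by decide
  have hln : ∀ r ∈ [47, 44], r < chevF4.nroots := fun r hr => (hl r hr).2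
  have hcm : ∀ a ∈ [47, 44], ∀ b ∈ [47, 44], f4c a b = true := by decide +kernel
  have hpos : n * v * n⁻¹ ∈ chevF4.posUnipotent F :=
    (Subgroup.mem_normalizer_iff.1 (diag_le_normalizer certF4 hh) (n * v * n⁻¹)).2
      (key.symm ▸ lprod_mem_pos certF4 (fun r hr => (hl r hr).1) φ)
  have hφ1 : ∀ r, φ r = 1 := fun r => by simp [hφ, f4Phi2]
  have himg : ∀ r ∈ [47, 44], chevF4.nroots ≤ 2 * wperm tblF4 w r := fun r hr =>
    supp_pos certF4 fullCertF4 (by decide) hl hcm hw hpos hr (by rw [hφ1]; exact one_ne_zero)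
  have hnd : ([47, 44].map (wperm tblF4 w)).Nodup := (by decide : [47, 44].Nodup).map_on fun x hx y hy e =>
    wperm_inj certF4 hw (hln x hx) (hln y hy) e
  obtain ⟨t', ht', e'⟩ := monomial_conj_lprod certF4 fullCertF4 hw hh hln hnd φ
  obtain ⟨hA, -⟩ := lprod_inj2 certF4 fullCertF4 hnd (by decide) (fun x hx => by
    obtain ⟨r, hr, rfl⟩ := List.mem_map.1 hx
    exact ⟨by have := himg r hr; omega, wperm_lt certF4 hw (hln r hr)⟩) hl hcm (e'.symm.trans key)
  have hin : ∀ r ∈ [47, 44], wperm tblF4 w r ∈ [47, 44] := by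
    intro r hr
    have := hA _ (List.mem_map.2 ⟨r, hr, rfl⟩)
    by_contra hno
    rw [if_neg hno, ht' r hr, hφ1] at this
    exact one_ne_zero this
  have n47 := f4_noswap_apply (a := 47) (b := 44) (by norm_num) (by norm_num) f4_noswap.2 hw
  have e47 : wperm tblF4 w 47 = 47 := by
    have := hin 47 (by simp); simp at this; tauto
  have e44 : wperm tblF4 w 44 = 44 := by
    have := hin 44 (by simp); simp at this
    refine this.resolve_left fun e => ?_
    have := wperm_inj certF4 hw (show 44 < 48 by norm_num) (show 47 < 48 by norm_num) (e.trans e47.symm)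
    omega
  exact ⟨e47, e44⟩

set_option maxHeartbeats 4000000 in
/-- A normal form commuting with the second representative fixes its roots. -/
theorem f4_cent_v_perm {w : List ℕ} (hw : IsWord chevF4 w) {u h c : GL chevF4.Idx F}
    (hu : u ∈ chevF4.posUnipotent F) (hh : h ∈ chevF4.diagonalSubgroup F)
    (hc : c ∈ signPart certF4 fullCertF4 F w true (chevF4.nroots / 2))
    (hgc : u * h * wnu certF4 F w * c * f4V 0 0 0 0 = f4V 0 0 0 0 * (u * h * wnu certF4 F w * c)) :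
    wperm tblF4 w 39 = 39 ∧ wperm tblF4 w 45 = 45 := by
  have hev := nroots_even (D := chevF4) certF4
  obtain ⟨a, b, c', d, ec, hcond⟩ := f4V_orbit hw hc 0 0 0 0
  obtain ⟨ha, hb', hc', hd⟩ := hcond rfl (Or.inl rfl) (Or.inl rfl) (Or.inl rfl) (Or.inl rfl)
  obtain ⟨a', b', c'', d', eu, -⟩ := f4V_orbit (F := F) (w := []) (fun _ h => absurd h List.not_mem_nil)
    (neg := false) (c := u⁻¹) (by
      have hu' := inv_mem hu
      rw [posUnipotent_eq certF4] at hu'
      obtain ⟨p, hp, q, hq, e⟩ := upper_split certF4 fullCertF4 [] (chevF4.nroots / 2) (k := chevF4.nroots / 2)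
        (by omega) (by omega) hu'
      have hq1 : q = 1 := by
        have hbot : signPart certF4 fullCertF4 F [] true (chevF4.nroots / 2) ≤ ⊥ :=
          (Subgroup.closure_le _).2 fun x ⟨r, t, h1, h2, h3, _⟩ => by
            have := of_decide_eq_true h3
            simp [wperm] at this
            omega
        exact Subgroup.mem_bot.1 (hbot hq)
      rw [e, hq1, mul_one]; exact hp) 0 0 0 0
  set n := wnu certF4 F w with hn
  have key : h * (n * f4V a b c' d * n⁻¹) * h⁻¹ = f4V a' b' c'' d' := by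
    have e1 : u * h * n * (f4V a b c' d * c) = f4V 0 0 0 0 * (u * h * n * c) := by
      rw [← ec]; simpa [mul_assoc] using hgc
    calc h * (n * f4V a b c' d * n⁻¹) * h⁻¹
        = u⁻¹ * (u * h * n * (f4V a b c' d * c)) * (c⁻¹ * n⁻¹ * h⁻¹) := by group
      _ = u⁻¹ * f4V 0 0 0 0 * u := by rw [e1]; group
      _ = _ := by rw [eu, inv_mul_cancel_right]
  have hVU : ∀ φ : ℕ → F, lprod certF4 f4L6 φ ∈ chevF4.posUnipotent F := fun φ =>
    lprod_mem_pos certF4 (fun r hr => (f4L6_pos r hr).1) φ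
  have hpos : n * f4V a b c' d * n⁻¹ ∈ chevF4.posUnipotent F := by
    have := (Subgroup.mem_normalizer_iff.1 (diag_le_normalizer certF4 hh) (n * f4V a b c' d * n⁻¹)).2
      (key ▸ hVU _)
    exact this
  classical
  set φ := f4Phi a b c' d with hφ
  set l0 := f4L6.filter fun r => decide (φ r ≠ 0) with hl0
  have hl0m : ∀ r ∈ l0, r ∈ f4L6 ∧ φ r ≠ 0 := fun r hr => by simpa [hl0] using hr
  have himg : ∀ r ∈ l0, chevF4.nroots ≤ 2 * wperm tblF4 w r := fun r hr =>
    supp_pos certF4 fullCertF4 f4L6_nodup f4L6_pos f4L6_comm hw hpos (hl0m r hr).1 (hl0m r hr).2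
  have hl0n : ∀ r ∈ l0, r < chevF4.nroots := fun r hr => (f4L6_pos r (hl0m r hr).1).2
  have hnd : (l0.map (wperm tblF4 w)).Nodup := (f4L6_nodup.filter _).map_on fun x hx y hy e =>
    wperm_inj certF4 hw (hl0n x hx) (hl0n y hy) e
  obtain ⟨t', ht', e'⟩ := monomial_conj_lprod certF4 fullCertF4 hw hh hl0n hnd φ
  rw [← lprod_drop certF4 fullCertF4 f4L6 φ (fun r => decide (φ r ≠ 0)) (fun r _ h => by simpa using h)] at e'
  have e2 : lprod certF4 (l0.map (wperm tblF4 w)) t' = lprod certF4 f4L6 (f4Phi a' b' c'' d') := e'.symm.trans key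
  obtain ⟨hA, hB⟩ := lprod_inj2 certF4 fullCertF4 hnd f4L6_nodup (fun x hx => by
    obtain ⟨r, hr, rfl⟩ := List.mem_map.1 hx
    exact ⟨by have := himg r hr; omega, wperm_lt certF4 hw (hl0n r hr)⟩) f4L6_pos f4L6_comm e2
  have hin : ∀ r ∈ f4L6, φ r ≠ 0 → wperm tblF4 w r ∈ f4L6 := by
    intro r hr hne
    have hr0 : r ∈ l0 := by simp [hl0, hr, hne]
    have := hA _ (List.mem_map.2 ⟨r, hr0, rfl⟩)
    by_contra hno
    rw [if_neg hno, ht' r hr0] at this
    exact hne this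
  have h39 := hin 39 (by simp [f4L6]) (by simp [hφ, f4Phi])
  have h45 := hin 45 (by simp [f4L6]) (by simp [hφ, f4Phi])
  obtain ⟨s1, s2, s3, s4⟩ := f4_stuck
  have kill : ∀ (x : F) (r s : ℕ), (x = 0 ∨ wperm tblF4 w s < 24) → φ r = x → r ∈ f4L6 → s < 48 →
      f4Stuck r s = true → x = 0 := by
    intro x r s hx e hr hs hst
    by_contra hne
    exact f4_stuck_apply (f4L6_pos r hr).2 hs hst hw h39 h45 (hin r hr (e ▸ hne)) (hx.resolve_left hne)
  obtain rfl : a = 0 := kill a 40 27 ha (by simp [hφ, f4Phi]) (by simp [f4L6]) (by norm_num) s1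
  obtain rfl : b = 0 := kill b 44 34 hb' (by simp [hφ, f4Phi]) (by simp [f4L6]) (by norm_num) s2
  obtain rfl : c' = 0 := kill c' 46 25 hc' (by simp [hφ, f4Phi]) (by simp [f4L6]) (by norm_num) s3
  obtain rfl : d = 0 := kill d 47 26 hd (by simp [hφ, f4Phi]) (by simp [f4L6]) (by norm_num) s4
  have hl02 : ∀ r ∈ l0, r = 39 ∨ r = 45 := by
    intro r hr
    obtain ⟨h1, h2⟩ := hl0m r hr
    simp only [f4L6, List.mem_cons, List.not_mem_nil, or_false] at h1
    rcases h1 with rfl | rfl | rfl | rfl | rfl | rfl <;> simp [hφ, f4Phi] at h2 ⊢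
  have hfix : wperm tblF4 w 39 = 39 ∧ wperm tblF4 w 45 = 45 := by
    have hmem : ∀ θ, θ ∈ f4L6 → f4Phi a' b' c'' d' θ ≠ 0 → θ = wperm tblF4 w 39 ∨ θ = wperm tblF4 w 45 := by
      intro θ hθ hne
      by_contra hno
      refine hne (hB θ hθ fun hm => hno ?_)
      obtain ⟨r, hr, e⟩ := List.mem_map.1 hm
      rcases hl02 r hr with rfl | rfl <;> simp [← e]
    have m39 := hmem 39 (by simp [f4L6]) (by simp [f4Phi])
    have m45 := hmem 45 (by simp [f4L6]) (by simp [f4Phi])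
    have n39 := f4_noswap_apply (a := 39) (b := 45) (by norm_num) (by norm_num) f4_noswap.1 hw
    have e1 : wperm tblF4 w 39 = 39 := by
      rcases m45 with h | h
      · exact absurd h.symm n39
      · rcases m39 with h' | h'
        · exact h'.symm
        · omega
    refine ⟨e1, ?_⟩
    rcases m45 with h | h <;> omega
  exact hfix

variable {K : Type*} [Field K] [CharP K esymF4.p] [CharP K 2] [Fintype K]

theorem f4_fix_elts : (∀ e < twF4.elts.length, wperm tblF4 (twF4.eword e) 47 = 47 →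
      wperm tblF4 (twF4.eword e) 44 = 44 → e = 0 ∨ e = 2) ∧
    (∀ e < twF4.elts.length, wperm tblF4 (twF4.eword e) 39 = 39 →
      wperm tblF4 (twF4.eword e) 45 = 45 → e = 0 ∨ e = 1) ∧
    twF4.eword 0 = [] ∧ (∀ J < 2, twF4.eword (J + 1) = twF4.lw J) ∧
    ∀ J < 2, (twF4.elt (J + 1)).len / 2 = J + 1 := by
  decide +kernel

variable {m : ℕ} (hK : Fintype.card K = 2 ^ (2 * m + 1))
include hK

/-- An element commuting with a representative has its cell in the corresponding maximal parabolic subgroup. -/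
theorem f4_cent_cell {g : GL chevF4.Idx K} (hg : g ∈ (twOKF4 (K := K) m).fixed certF4C) :
    ∃ e < twF4.elts.length, (g * lprod certF4 [47, 44] (f4Phi2 1 1) = lprod certF4 [47, 44] (f4Phi2 1 1) * g → e = 0 ∨ e = 2) ∧
      (g * f4V 0 0 0 0 = f4V 0 0 0 0 * g → e = 0 ∨ e = 1) ∧
      ∀ n ∈ (twOKF4 (K := K) m).fixed certF4C, (wnu certF4C K (twF4.eword e))⁻¹ * n ∈ chevF4.diagonalSubgroup K →
        ∃ b ∈ chevF4.borelSubgroup K ⊓ (twOKF4 (K := K) m).fixed certF4C,
          ∃ c ∈ signPart certF4C fullCertF4 K (twF4.eword e) true (chevF4.nroots / 2) ⊓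
            (twOKF4 (K := K) m).fixed certF4C, g = b * n * c := by
  obtain ⟨e, he, hall⟩ := (twOKF4 (K := K) m).bruhat_fixed certF4C fullCertF4 twCombF4 hg
  have hw := twCombF4.eword_word certF4C he
  obtain ⟨n, hn, hd⟩ := (twOKF4 (K := K) m).exists_fixed_rep certF4C twCombF4 he
  obtain ⟨b, hb, c, hc, rfl⟩ := hall n hn hd
  obtain ⟨u, hu, h, hh, rfl⟩ := (mem_borel certF4C).1 hb.1
  set W := wnu certF4C K (twF4.eword e) with hW
  have hh' : h * (W * (W⁻¹ * n) * W⁻¹) ∈ chevF4.diagonalSubgroup K :=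
    mul_mem hh (conj_mem_diag certF4C (wnu_mem certF4C hw) hd).1
  have eq : u * h * n * c = u * (h * (W * (W⁻¹ * n) * W⁻¹)) * W * c := by group
  obtain ⟨fW, fV, -⟩ := f4_fix_elts
  refine ⟨e, he, fun hgc => ?_, fun hgc => ?_, hall⟩
  · rw [eq] at hgc
    obtain ⟨h1, h2⟩ := f4_cent_w_perm hw hu hh' hc.1 hgc
    exact fW e he h1 h2
  · rw [eq] at hgc
    obtain ⟨h1, h2⟩ := f4_cent_v_perm hw hu hh' hc.1 hgc
    exact fV e he h1 h2

/-- A maximal parabolic subgroup of ²F₄(q), with its order. -/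
theorem f4_parabolic_card {J : ℕ} (hJ : J < 2) :
    ∃ M : Subgroup ↥((twOKF4 (K := K) m).fixed certF4C),
      Nat.card ↥M = (2 ^ (2 * m + 1) - 1) ^ 2 * (2 ^ (2 * m + 1)) ^ 12 * (1 + (2 ^ (2 * m + 1)) ^ (J + 1)) ∧
      ∀ g : ↥((twOKF4 (K := K) m).fixed certF4C), ∀ e < twF4.elts.length, (e = 0 ∨ e = J + 1) →
        (∀ n ∈ (twOKF4 (K := K) m).fixed certF4C, (wnu certF4C K (twF4.eword e))⁻¹ * n ∈ chevF4.diagonalSubgroup K →
          ∃ b ∈ chevF4.borelSubgroup K ⊓ (twOKF4 (K := K) m).fixed certF4C,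
            ∃ c ∈ signPart certF4C fullCertF4 K (twF4.eword e) true (chevF4.nroots / 2) ⊓
              (twOKF4 (K := K) m).fixed certF4C, (g : GL chevF4.Idx K) = b * n * c) → g ∈ M := by
  classical
  obtain ⟨P, n, hB, hN, hS, -, hn, -⟩ := (twOKF4 (K := K) m).exists_bnPair' certF4C fullCertF4 twCombF4 twLinkedF4
    (by decide) (f4_hne hK)
  obtain ⟨-, -, e0, elw, elen⟩ := f4_fix_elts
  have hnorb : J < twF4.norb := hJ
  set s := n ⟨J, hnorb⟩ with hs
  have hsS : s ∈ P.S := hS ▸ Set.mem_range_self _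
  have hd : (wnu certF4C K (twF4.eword (J + 1)))⁻¹ * (s : GL chevF4.Idx K) ∈ chevF4.diagonalSubgroup K := by
    rw [elw J hJ]; exact hn ⟨J, hnorb⟩
  have he1 : J + 1 < twF4.elts.length := by
    show J + 1 < 16
    omega
  have he0 : 0 < twF4.elts.length := by decide
  have hd0 : (wnu certF4C K (twF4.eword 0))⁻¹ * (1 : GL chevF4.Idx K) ∈ chevF4.diagonalSubgroup K := by
    rw [e0]; simp [wnu]
  have hbor : ∀ {x : ↥((twOKF4 (K := K) m).fixed certF4C)}, x ∈ P.B ↔
      (x : GL chevF4.Idx K) ∈ chevF4.borelSubgroup K := fun {x} => by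
    rw [hB, Subgroup.mem_subgroupOf, Subgroup.mem_inf]
    exact ⟨fun h => h.1, fun h => ⟨h, x.2⟩⟩
  set M := P.parabolic {s} with hM
  have hsM : s ∈ M := BN.subset_parabolic _ rfl
  have hBM : P.B ≤ M := BN.B_le_parabolic _
  have hcB : ∀ {e : ℕ} {c : GL chevF4.Idx K}, c ∈ signPart certF4C fullCertF4 K (twF4.eword e) true (chevF4.nroots / 2) →
      c ∈ chevF4.borelSubgroup K := fun h => signPart_le_borel certF4C fullCertF4 _ true h
  refine ⟨M, ?_, ?_⟩
  · let C := signPart certF4C fullCertF4 K (twF4.eword (J + 1)) true (chevF4.nroots / 2) ⊓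
      (twOKF4 (K := K) m).fixed certF4C
    let B := chevF4.borelSubgroup K ⊓ (twOKF4 (K := K) m).fixed certF4C
    let f : ↥B ⊕ ↥B × ↥C → ↥M := fun x => match x with
      | Sum.inl b => ⟨⟨b.1, b.2.2⟩, hBM (hbor.2 b.2.1)⟩
      | Sum.inr (b, c) => ⟨⟨b.1, b.2.2⟩ * s * ⟨c.1, c.2.2⟩,
          mul_mem (mul_mem (hBM (hbor.2 b.2.1)) hsM) (hBM (hbor.2 (hcB c.2.1)))⟩
    have hf : Function.Bijective f := by
      constructor
      · rintro (⟨b, hb⟩ | ⟨⟨b, hb⟩, ⟨c, hc⟩⟩) (⟨b', hb'⟩ | ⟨⟨b', hb'⟩, ⟨c', hc'⟩⟩) e <;>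
          have e' := congrArg (fun x : ↥M => ((x : ↥((twOKF4 (K := K) m).fixed certF4C)) : GL chevF4.Idx K)) e
        · change b = b' at e'
          subst e'; rfl
        · change b = b' * s * c' at e'
          have : b * 1 * 1 = b' * (s : GL chevF4.Idx K) * c' := by rw [mul_one, mul_one]; exact e'
          exact absurd (TwOK.cell_inj certF4C fullCertF4 twCombF4 he0 he1 hd0 hd hb.1 hb'.1 (one_mem _) (hcB hc'.1) this) (by omega)
        · change b * s * c = b' at e'
          have : b' * 1 * 1 = b * (s : GL chevF4.Idx K) * c := by rw [mul_one, mul_one]; exact e'.symm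
          exact absurd (TwOK.cell_inj certF4C fullCertF4 twCombF4 he0 he1 hd0 hd hb'.1 hb.1 (one_mem _) (hcB hc.1) this) (by omega)
        · change b * s * c = b' * s * c' at e'
          have := ((signPart_iff_conj certF4C fullCertF4 (twCombF4.eword_word certF4C he1) hd).1
            (mul_mem hc'.1 (inv_mem hc.1))).2
          obtain ⟨rfl, rfl⟩ := cell_unique certF4C hb.1 hb'.1 this e'
          rfl
      · rintro ⟨g, hg⟩
        obtain ⟨k, hk, hgk⟩ := BN.parabolic_cells (Set.singleton_subset_iff.2 hsS) hg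
        obtain ⟨i, rfl⟩ := Subgroup.mem_closure_singleton.1 hk
        obtain ⟨e, he, hall⟩ := (twOKF4 (K := K) m).bruhat_fixed certF4C fullCertF4 twCombF4 g.2
        have hsame : BN.Same P (s ^ i) 1 ∨ BN.Same P (s ^ i) s := by
          have h2 : ∀ j : ℤ, (s * s) ^ j ∈ P.B ⊓ P.N := fun j => zpow_mem (BN.sq_mem_T hsS) j
          rcases Int.even_or_odd i with ⟨j, rfl⟩ | ⟨j, rfl⟩
          · left
            have e2 : s ^ (j + j) = (s * s) ^ j := by rw [← two_mul, zpow_mul, zpow_two]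
            show (s ^ (j + j))⁻¹ * 1 ∈ P.B ⊓ P.N
            rw [mul_one, e2]
            exact inv_mem (h2 j)
          · right
            show (s ^ (2 * j + 1))⁻¹ * s ∈ P.B ⊓ P.N
            rw [show (s ^ (2 * j + 1))⁻¹ * s = (s ^ (2 * j))⁻¹ by rw [add_comm, zpow_add, zpow_one]; group,
              zpow_mul, zpow_two]
            exact inv_mem (h2 j)
        rcases hsame with h | h <;> rw [h.cell_eq] at hgk <;> obtain ⟨b, hb, b', hb', rfl⟩ := BN.mem_cell.1 hgk
        · refine ⟨Sum.inl ⟨_, hbor.1 (mul_mem (mul_mem hb (one_mem _)) hb'), (b * 1 * b').2⟩, rfl⟩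
        · obtain ⟨n', hn', hd'⟩ := (twOKF4 (K := K) m).exists_fixed_rep certF4C twCombF4 he
          obtain ⟨b1, hb1, c1, hc1, heq⟩ := hall n' hn' hd'
          obtain rfl : J + 1 = e := TwOK.cell_inj certF4C fullCertF4 twCombF4 he1 he hd hd' (hbor.1 hb) hb1.1 (hbor.1 hb')
            (hcB hc1.1) heq
          obtain ⟨b2, hb2, c2, hc2, heq2⟩ := hall s s.2 hd
          exact ⟨Sum.inr (⟨b2, hb2⟩, ⟨c2, hc2⟩), Subtype.ext (Subtype.ext heq2.symm)⟩
    have hBcard : Nat.card ↥B = (2 ^ (2 * m + 1) - 1) ^ 2 * (2 ^ (2 * m + 1)) ^ 12 := by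
      have h1 := (twOKF4 (K := K) m).card_fixed_borel certF4C fullCertF4 twCombF4 (d := 2)
        (fun J hJ => f4_card_fixPart hK hJ) two_pos f4_wt
      rw [h1, f4_card_diag hK, show chevF4.nroots / 2 / 2 = 12 from rfl]
    have hCcard : Nat.card ↥C = (2 ^ (2 * m + 1)) ^ (J + 1) := by
      rw [(twOKF4 (K := K) m).card_cell certF4C fullCertF4 twCombF4 (d := 2) (fun J hJ => f4_card_fixPart hK hJ)
        two_pos f4_wt he1, elen J hJ]
    rw [← Nat.card_eq_of_bijective f hf, Nat.card_sum, Nat.card_prod, hBcard, hCcard]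
    ring
  · rintro g e he (rfl | rfl) hall
    · obtain ⟨b, hb, c, hc, heq⟩ := hall 1 (one_mem _) hd0
      refine hBM (hbor.2 ?_)
      rw [heq, mul_one]
      exact mul_mem hb.1 (hcB hc.1)
    · obtain ⟨b, hb, c, hc, heq⟩ := hall s s.2 hd
      rw [show g = ⟨b, hb.2⟩ * s * ⟨c, hc.2⟩ from Subtype.ext heq]
      exact mul_mem (mul_mem (hBM (hbor.2 hb.1)) hsM) (hBM (hbor.2 (hcB hc.1)))

/-- The primes of an element commuting with an involution. -/
theorem f4_commuting_primes (a b : ↥((twOKF4 (K := K) m).fixed certF4C)) (ha : orderOf a = 2) (hab : Commute a b)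
    (r : ℕ) (hr : r.Prime) (hrb : r ∣ orderOf b) :
    r ∣ 2 ^ (2 * m + 1) * ((2 ^ (2 * m + 1)) ^ 4 - 1) := by
  obtain ⟨p, hp, g, hg⟩ := f4_two_reps hK a ha
  set b' := g * b * g⁻¹ with hb'
  have hord : orderOf b' = orderOf b := MulEquiv.orderOf_eq (MulAut.conj g) b
  have hcomm : (b' : GL chevF4.Idx K) * p.el m = p.el m * b' := by
    rw [← hg, ← Subgroup.coe_mul, ← Subgroup.coe_mul]
    congr 1
    calc g * b * g⁻¹ * (g * a * g⁻¹) = g * (b * a) * g⁻¹ := by group
      _ = g * (a * b) * g⁻¹ := by rw [hab.eq]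
      _ = _ := by simp only [hb']; group
  obtain ⟨e, he, hW, hV, hall⟩ := f4_cent_cell hK b'.2
  have key : ∀ J < 2, (e = 0 ∨ e = J + 1) → r ∣ 2 ^ (2 * m + 1) * ((2 ^ (2 * m + 1)) ^ 4 - 1) := by
    intro J hJ hej
    obtain ⟨M, hM, hmem⟩ := f4_parabolic_card hK hJ
    have h1 : orderOf b' ∣ Nat.card ↥M := Subgroup.orderOf_dvd_natCard M (hmem b' e he hej hall)
    have h2 := (hord ▸ hrb).trans h1
    rw [hM] at h2
    set q := 2 ^ (2 * m + 1) with hq
    have hq1 : 1 ≤ q := Nat.one_le_two_pow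
    have h4 : q ^ 4 - 1 = (q - 1) * (q + 1) * (q ^ 2 + 1) := by
      have : 1 ≤ q ^ 4 := Nat.one_le_pow _ _ hq1
      zify [this, hq1]
      ring
    rw [h4]
    rcases hr.dvd_mul.1 h2 with h | h
    · rcases hr.dvd_mul.1 h with h | h
      · exact Dvd.dvd.mul_left (Dvd.dvd.mul_right (Dvd.dvd.mul_right (hr.dvd_of_dvd_pow h) _) _) _
      · exact Dvd.dvd.mul_right (hr.dvd_of_dvd_pow h) _
    · interval_cases J
      · exact Dvd.dvd.mul_left (Dvd.dvd.mul_right (Dvd.dvd.mul_left (by simpa [add_comm] using h) _) _) _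
      · exact Dvd.dvd.mul_left (Dvd.dvd.mul_left (by simpa [add_comm] using h) _) _
  rcases hp with rfl | hp
  · rw [fpG_el] at hcomm
    exact key 1 (by norm_num) (hW hcomm)
  · rw [Set.mem_singleton_iff] at hp
    subst hp
    rw [fpH_el] at hcomm
    exact key 0 (by norm_num) (hV hcomm)

end Cfsg.Lib.Chev
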