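import Cfsg.Agent.Lib.Chev.TwF4Collect

/-!
The twelve parameters of the positive fixed elements of ²F₄(q).
-/

set_option autoImplicit false
set_option maxRecDepth 100000
set_option linter.unusedSectionVars false

namespace Cfsg.Lib.Chev

open Cfsg.Lie

/-- The twelve parameters, class by class. -/
structure FParam (K : Type*) where
  a : K
  b : K
  b' : K
  c : K
  c' : K
  d : K
  e : K
  e' : K
  k : K
  g : K
  g' : K
  h : K

variable {K : Type*} [Field K]

/-- The word of a parameter tuple. -/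
def FParam.word (f : K →+* K) (p : FParam K) : List (ℕ × K) :=
  [(9, f p.a), (0, p.a), (3, f p.b), (1, p.b), (4, f p.b * p.b + p.b'), (6, f p.b' ^ 2),
    (10, f p.c), (2, p.c), (12, f p.c * p.c + p.c'), (18, f p.c' ^ 2), (13, f p.d), (8, p.d),
    (11, f p.e), (7, p.e), (16, f p.e * p.e + p.e'), (22, f p.e' ^ 2), (14, f p.k), (19, p.k),
    (5, f p.g), (17, p.g), (20, f p.g * p.g + p.g'), (23, f p.g' ^ 2), (15, f p.h), (21, p.h)]

theorem FParam.word_lt (f : K →+* K) (p : FParam K) : ∀ x ∈ p.word f, x.1 < 24 := by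
  intro x hx
  simp only [FParam.word, List.mem_cons, List.not_mem_nil, or_false] at hx
  rcases hx with rfl | rfl | rfl | rfl | rfl | rfl | rfl | rfl | rfl | rfl | rfl | rfl | rfl | rfl | rfl | rfl |
    rfl | rfl | rfl | rfl | rfl | rfl | rfl | rfl <;> simp

variable [CharP K 2] [Fintype K]

/-- The power map defining the twist. -/
noncomputable def fTh (K : Type*) [Field K] [CharP K 2] (m : ℕ) : K →+* K := iterateFrobenius K 2 m

/-- The element given by the parameters. -/
noncomputable def FParam.el (m : ℕ) (p : FParam K) : GL chevF4.Idx K := fVal (p.word (fTh K m))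

theorem fTh_sq {m : ℕ} (hK : Fintype.card K = 2 ^ (2 * m + 1)) (t : K) : fTh K m (fTh K m t) ^ 2 = t := by
  simp only [fTh, iterateFrobenius_def]
  rw [← pow_mul, ← pow_mul, show 2 ^ m * (2 ^ m * 2) = Fintype.card K by rw [hK, pow_succ, two_mul, pow_add]; ring,
    FiniteField.pow_card]

theorem FParam.el_eq (m : ℕ) (p : FParam K) : p.el m =
    f4P m 33 24 p.a * f4Q m 27 25 28 30 p.b p.b' * f4Q m 34 26 36 42 p.c p.c' * f4P m 37 32 p.d *
      f4Q m 35 31 40 46 p.e p.e' * f4P m 38 43 p.k * f4Q m 29 41 44 47 p.g p.g' * f4P m 39 45 p.h := by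
  simp only [FParam.el, fVal, FParam.word, List.map_cons, List.map_nil, List.prod_cons, List.prod_nil, mul_one,
    f4P, f4Q, f4Pair, f4Quad, fTh, iterateFrobenius_def, pow_succ, pow_mul, mul_assoc]
  simp [mul_comm, pow_mul, pow_two, mul_pow]

theorem chkF4Classes : chkF4Pair 37 32 = true ∧ chkF4Pair 38 43 = true ∧ chkF4Pair 39 45 = true ∧
    chkF4Quad 34 26 36 42 (-1) 1 = true ∧ chkF4Quad 35 31 40 46 1 1 = true ∧ chkF4Quad 29 41 44 47 1 1 = true := by
  decide +kernel

/-- The positive fixed elements. -/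
noncomputable def fU (K : Type*) [Field K] [CharP K esymF4.p] (m : ℕ) : Subgroup (GL chevF4.Idx K) :=
  chevF4.posUnipotent K ⊓ (twOKF4 (K := K) m).fixed certF4C

variable {m : ℕ} (hK : Fintype.card K = 2 ^ (2 * m + 1))
include hK

theorem FParam.el_mem [CharP K esymF4.p] (p : FParam K) : p.el m ∈ fU K m := by
  refine ⟨fVal_pos (p.word_lt _), ?_⟩
  obtain ⟨h1, h2, h3, h4, h5, h6⟩ := chkF4Classes
  rw [p.el_eq]
  exact mul_mem (mul_mem (mul_mem (mul_mem (mul_mem (mul_mem (mul_mem (f4P_fixed hK chkF4PairPos _)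
    (f4Q_fixed hK chkF4QuadPos _ _)) (f4Q_fixed hK h4 _ _)) (f4P_fixed hK h1 _)) (f4Q_fixed hK h5 _ _))
    (f4P_fixed hK h2 _)) (f4Q_fixed hK h6 _ _)) (f4P_fixed hK h3 _)

omit hK in
theorem FParam.el_inj {m : ℕ} {p q : FParam K} (h : p.el m = q.el m) : p = q := by
  let val : FParam K → ℕ → K := fun p r => match r with
    | 33 => fTh K m p.a
    | 24 => p.a
    | 27 => fTh K m p.b
    | 25 => p.b
    | 28 => fTh K m p.b * p.b + p.b'
    | 30 => fTh K m p.b' ^ 2
    | 34 => fTh K m p.c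
    | 26 => p.c
    | 36 => fTh K m p.c * p.c + p.c'
    | 42 => fTh K m p.c' ^ 2
    | 37 => fTh K m p.d
    | 32 => p.d
    | 35 => fTh K m p.e
    | 31 => p.e
    | 40 => fTh K m p.e * p.e + p.e'
    | 46 => fTh K m p.e' ^ 2
    | 38 => fTh K m p.k
    | 43 => p.k
    | 29 => fTh K m p.g
    | 41 => p.g
    | 44 => fTh K m p.g * p.g + p.g'
    | 47 => fTh K m p.g' ^ 2
    | 39 => fTh K m p.h
    | 45 => p.h
    | _ => 0
  let L : List ℕ := [33, 24, 27, 25, 28, 30, 34, 26, 36, 42, 37, 32, 35, 31, 40, 46, 38, 43, 29, 41, 44, 47, 39, 45]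
  have hp : ∀ p : FParam K, p.el m = lprod certF4C L (val p) := fun p => rfl
  rw [hp p, hp q] at h
  have h := lprod_inj certF4C fullCertF4.comm (by decide) (by decide) h
  have e24 : p.a = q.a := h 24 (by simp [L])
  have e25 : p.b = q.b := h 25 (by simp [L])
  have e26 : p.c = q.c := h 26 (by simp [L])
  have e31 : p.e = q.e := h 31 (by simp [L])
  have e41 : p.g = q.g := h 41 (by simp [L])
  have e28 : fTh K m p.b * p.b + p.b' = fTh K m q.b * q.b + q.b' := h 28 (by simp [L])
  have e36 : fTh K m p.c * p.c + p.c' = fTh K m q.c * q.c + q.c' := h 36 (by simp [L])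
  have e40 : fTh K m p.e * p.e + p.e' = fTh K m q.e * q.e + q.e' := h 40 (by simp [L])
  have e44 : fTh K m p.g * p.g + p.g' = fTh K m q.g * q.g + q.g' := h 44 (by simp [L])
  have e32 : p.d = q.d := h 32 (by simp [L])
  have e43 : p.k = q.k := h 43 (by simp [L])
  have e45 : p.h = q.h := h 45 (by simp [L])
  rw [e25] at e28; rw [e26] at e36; rw [e31] at e40; rw [e41] at e44
  obtain ⟨⟩ := p; obtain ⟨⟩ := q
  simp_all

theorem fU_surj [CharP K esymF4.p] {x : GL chevF4.Idx K} (hx : x ∈ fU K m) : ∃ p : FParam K, p.el m = x := by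
  classical
  let e : FParam K ≃ (Fin 12 → K) :=
    { toFun := fun p => ![p.a, p.b, p.b', p.c, p.c', p.d, p.e, p.e', p.k, p.g, p.g', p.h]
      invFun := fun v => ⟨v 0, v 1, v 2, v 3, v 4, v 5, v 6, v 7, v 8, v 9, v 10, v 11⟩
      left_inv := fun p => rfl
      right_inv := fun v => by funext i; fin_cases i <;> rfl }
  haveI : Fintype (FParam K) := Fintype.ofEquiv _ e.symm
  have hcard : Nat.card ↥(fU K m) ≤ Nat.card (FParam K) := by
    rw [fU, (twOKF4 (K := K) m).card_pos_fixed certF4C fullCertF4 twCombF4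
      (fun J hJ => f4_card_fixPart hK hJ) two_pos f4_wt, Nat.card_congr e, Nat.card_fun, Nat.card_fin,
      Nat.card_eq_fintype_card, hK]
    exact le_of_eq rfl
  obtain ⟨p, hp⟩ := (Function.Injective.bijective_of_nat_card_le
    (f := fun p : FParam K => (⟨p.el m, p.el_mem hK⟩ : ↥(fU K m)))
    (fun p q h => FParam.el_inj (congrArg Subtype.val h)) hcard).2 ⟨x, hx⟩
  exact ⟨p, congrArg Subtype.val hp⟩

end Cfsg.Lib.Chev
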