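import Cfsg.Agent.Lib.Chev.TwF4Param

/-!
Reduction of the involutions of ²F₄(q) inside the positive fixed part.
-/

set_option autoImplicit false
set_option maxRecDepth 100000
set_option maxHeartbeats 4000000
set_option linter.unusedSectionVars false
set_option linter.unusedSimpArgs false

namespace Cfsg.Lib.Chev

open Cfsg.Lie

variable {K : Type*} [Field K] [CharP K esymF4.p] [CharP K 2] [Fintype K]

/-- Conjugacy of parameters in the fixed group. -/
def FCj (m : ℕ) (p q : FParam K) : Prop :=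
  ∃ g ∈ (twOKF4 (K := K) m).fixed certF4C, g * p.el m = q.el m * g

/-- The parameters of an involution or the identity. -/
def FInv (m : ℕ) (p : FParam K) : Prop := p.el m * p.el m = 1

theorem FCj.trans {m : ℕ} {p q r : FParam K} (h1 : FCj m p q) (h2 : FCj m q r) : FCj m p r := by
  obtain ⟨g, hg, e⟩ := h1
  obtain ⟨g', hg', e'⟩ := h2
  exact ⟨g' * g, mul_mem hg' hg, by rw [mul_assoc, e, ← mul_assoc, e', mul_assoc]⟩

theorem FInv.nf {m : ℕ} {p : FParam K} (h : FInv m p) (N : ℕ) (hN : N ≤ 24) :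
    fNf N (p.word (fTh K m) ++ p.word (fTh K m)) = fNf N ([] : List (ℕ × K)) := by
  refine fNf_eq hN (fun x hx => (List.mem_append.1 hx).elim (p.word_lt _ x) (p.word_lt _ x)) (fun x hx => by simp at hx) ?_
  rw [fVal_append]
  simpa [FInv, FParam.el, fVal] using h

theorem FCj.inv {m : ℕ} {p q : FParam K} (h : FCj m p q) (hp : FInv m p) : FInv m q := by
  obtain ⟨g, -, e⟩ := h
  have : q.el m = g * p.el m * g⁻¹ := by rw [e, mul_inv_cancel_right]
  rw [FInv, this]
  calc g * p.el m * g⁻¹ * (g * p.el m * g⁻¹) = g * (p.el m * p.el m) * g⁻¹ := by group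
    _ = 1 := by rw [hp]; group

variable {m : ℕ} (hK : Fintype.card K = 2 ^ (2 * m + 1))
include hK

theorem f4_conj_pos (q p : FParam K) : ∃ p' : FParam K, FCj m p p' ∧ ∀ N ≤ 24,
    fNf N (q.word (fTh K m) ++ p.word (fTh K m)) = fNf N (p'.word (fTh K m) ++ q.word (fTh K m)) := by
  obtain ⟨p', hp'⟩ := fU_surj hK (mul_mem (mul_mem (q.el_mem hK) (p.el_mem hK)) (inv_mem (q.el_mem hK)))
  have e : q.el m * p.el m = p'.el m * q.el m := by rw [hp', inv_mul_cancel_right]
  refine ⟨p', ⟨q.el m, (q.el_mem hK).2, e⟩, fun N hN => fNf_eq hN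
    (fun x hx => (List.mem_append.1 hx).elim (q.word_lt _ x) (p.word_lt _ x))
    (fun x hx => (List.mem_append.1 hx).elim (p'.word_lt _ x) (q.word_lt _ x)) ?_⟩
  rw [fVal_append, fVal_append]
  exact e

theorem f4_inv_low {a b b' c c' d e e' k g g' h : K}
    (hI : FInv m (⟨a, b, b', c, c', d, e, e', k, g, g', h⟩ : FParam K)) : b = 0 ∧ a * b' = 0 := by
  have two : (2 : K) = 0 := CharTwo.two_eq_zero
  have h5 := hI.nf 5 (by norm_num)
  simp [fNf, fIns, FParam.word, List.replicate, fS, fS0, fS1, fS2, fS3, fS4, fS5, fS6, fS7, fS8, fS9, fS10, fS11, fS12, fS13, fS14, fS15, fS16, fS17, fS18, fS19, fS21, fS22, CharTwo.add_self_eq_zero] at h5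
  have hb : b = 0 := by
    have : fTh K m b * b = 0 := by linear_combination h5.2 - (fTh K m b * b + b') * two
    rcases mul_eq_zero.1 this with h | h
    · exact (map_eq_zero _).1 h
    · exact h
  subst hb
  have h6 := hI.nf 6 (by norm_num)
  simp [fNf, fIns, FParam.word, List.replicate, fS, fS0, fS1, fS2, fS3, fS4, fS5, fS6, fS7, fS8, fS9, fS10, fS11, fS12, fS13, fS14, fS15, fS16, fS17, fS18, fS19, fS21, fS22, CharTwo.add_self_eq_zero] at h6
  exact ⟨rfl, by first | (rcases h6 with h | h <;> simp [h]) | linear_combination h6⟩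

theorem f4_case_a {a c c' d e e' k g g' h : K} (ha : a ≠ 0)
    (hI : FInv m (⟨a, 0, 0, c, c', d, e, e', k, g, g', h⟩ : FParam K)) :
    ∃ c₁ k₁ G₁ h₁ : K, FCj m (⟨a, 0, 0, c, c', d, e, e', k, g, g', h⟩ : FParam K) ⟨a, 0, 0, 0, c₁, 0, 0, 0, k₁, 0, G₁, h₁⟩ := by
  have two : (2 : K) = 0 := CharTwo.two_eq_zero
  obtain ⟨⟨a1, b1, B1, c1, C1, d1, e1, E1, k1, g1, G1, h1⟩, hj, hN⟩ :=
    f4_conj_pos hK ⟨0, c / a, 0, 0, 0, 0, 0, 0, 0, 0, 0, 0⟩ ⟨a, 0, 0, c, c', d, e, e', k, g, g', h⟩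
  have h6 := hN 5 (by norm_num)
  simp [fNf, fIns, FParam.word, List.replicate, fS, fS0, fS1, fS2, fS3, fS4, fS5, fS6, fS7, fS8, fS9, fS10, fS11, fS12, fS13, fS14, fS15, fS16, fS17, fS18, fS19, fS21, fS22, CharTwo.add_self_eq_zero] at h6
  obtain ⟨rfl, rfl, hc, -, hB⟩ := h6
  have hc1 : c1 = 0 := by
    rw [mul_div_cancel₀ c ha] at hc
    linear_combination -hc + c * two
  have hB1 : B1 = 0 := by simp at hB; first | exact hB | linear_combination -hB
  subst hc1; subst hB1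
  obtain ⟨⟨a2, b2, B2, c2, C2, d2, e2, E2, k2, g2, G2, h2⟩, hj2, hN2⟩ :=
    f4_conj_pos hK ⟨0, 0, fTh K m (e1 / a), 0, 0, 0, 0, 0, 0, 0, 0, 0⟩ ⟨a, 0, 0, 0, C1, d1, e1, E1, k1, g1, G1, h1⟩
  have hsq := fTh_sq hK (e1 / a)
  have h8 := hN2 8 (by norm_num)
  simp [fNf, fIns, FParam.word, List.replicate, fS, fS0, fS1, fS2, fS3, fS4, fS5, fS6, fS7, fS8, fS9, fS10, fS11, fS12, fS13, fS14, fS15, fS16, fS17, fS18, fS19, fS21, fS22, CharTwo.add_self_eq_zero, -map_div₀, hsq] at h8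
  obtain ⟨rfl, rfl, rfl, -, hB, -, -, he⟩ := h8
  simp at hB he
  have hB2 : B2 = 0 := by first | exact hB | linear_combination -hB
  have he2 : e2 = 0 := by
    rw [mul_div_cancel₀ e1 ha] at he
    linear_combination -he + e1 * two
  subst hB2; subst he2
  have hI3 := hj2.inv (hj.inv hI)
  have h13 := hI3.nf 21 (by norm_num)
  simp [fNf, fIns, FParam.word, List.replicate, fS, fS0, fS1, fS2, fS3, fS4, fS5, fS6, fS7, fS8, fS9, fS10, fS11, fS12, fS13, fS14, fS15, fS16, fS17, fS18, fS19, fS21, fS22, CharTwo.add_self_eq_zero] at h13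
  obtain ⟨hg, hd, -, -, -, -, hE⟩ := h13
  have hd2 : d2 = 0 := hd.resolve_left ha
  have hg2 : g2 = 0 := by
    have : fTh K m g2 * fTh K m a = 0 := by linear_combination hg - C2 * two
    exact (map_eq_zero _).1 ((mul_eq_zero.1 this).resolve_right fun h => ha ((map_eq_zero _).1 h))
  subst hd2; subst hg2
  simp at hE
  have hE2 : E2 = 0 := by
    first
    | exact hE.resolve_left ha
    | (rcases hE with h | h
       · exact absurd ((map_eq_zero _).1 h) ha
       · exact h)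
  subst hE2
  exact ⟨C2, k2, G2, h2, hj.trans hj2⟩

theorem f4_case_b {b' c c' d e e' k g g' h : K} (hb : b' ≠ 0)
    (hI : FInv m (⟨0, 0, b', c, c', d, e, e', k, g, g', h⟩ : FParam K)) :
    ∃ E₁ G₁ h₁ : K, FCj m (⟨0, 0, b', c, c', d, e, e', k, g, g', h⟩ : FParam K) ⟨0, 0, b', 0, 0, 0, 0, E₁, 0, 0, G₁, h₁⟩ := by
  have two : (2 : K) = 0 := CharTwo.two_eq_zero
  have h13 := hI.nf 13 (by norm_num)
  simp [fNf, fIns, FParam.word, List.replicate, fS, fS0, fS1, fS2, fS3, fS4, fS5, fS6, fS7, fS8, fS9, fS10, fS11, fS12, fS13, fS14, fS15, fS16, fS17, fS18, fS19, fS21, fS22, CharTwo.add_self_eq_zero] at h13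
  obtain rfl : c = 0 := by
    have : c * fTh K m b' ^ 2 = 0 := by linear_combination h13.1 - d * two
    exact (mul_eq_zero.1 this).resolve_right (pow_ne_zero _ fun h => hb ((map_eq_zero _).1 h))
  obtain ⟨⟨a1, b1, B1, c1, C1, d1, e1, E1, k1, g1, G1, h1⟩, hj, hN⟩ :=
    f4_conj_pos hK ⟨e / fTh K m b' ^ 2, 0, 0, 0, 0, 0, 0, 0, 0, 0, 0, 0⟩ ⟨0, 0, b', 0, c', d, e, e', k, g, g', h⟩
  have h8 := hN 9 (by norm_num)
  simp [fNf, fIns, FParam.word, List.replicate, fS, fS0, fS1, fS2, fS3, fS4, fS5, fS6, fS7, fS8, fS9, fS10, fS11, fS12, fS13, fS14, fS15, fS16, fS17, fS18, fS19, fS21, fS22, CharTwo.add_self_eq_zero, -map_div₀] at h8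
  obtain ⟨rfl, rfl, hc, -, hB, -, -, he⟩ := h8
  simp at hc hB he
  have hc1 : c1 = 0 := by first | exact hc.symm | linear_combination -hc
  have hB1 : B1 = b' := by first | exact hB.symm | linear_combination -hB
  subst hc1
  subst hB1
  have hb2 : fTh K m B1 ^ 2 ≠ 0 := pow_ne_zero _ fun h => hb ((map_eq_zero _).1 h)
  have he1 : e1 = 0 := by
    have := he.1
    rw [div_mul_cancel₀ e hb2] at this
    linear_combination -this
  subst he1
  obtain ⟨⟨a2, b2, B2, c2, C2, d2, e2, E2, k2, g2, G2, h2⟩, hj2, hN2⟩ :=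
    f4_conj_pos hK ⟨0, 0, 0, d1 / fTh K m B1 ^ 2, 0, 0, 0, 0, 0, 0, 0, 0⟩ ⟨0, 0, B1, 0, C1, d1, 0, E1, k1, g1, G1, h1⟩
  have h9 := hN2 9 (by norm_num)
  simp [fNf, fIns, FParam.word, List.replicate, fS, fS0, fS1, fS2, fS3, fS4, fS5, fS6, fS7, fS8, fS9, fS10, fS11, fS12, fS13, fS14, fS15, fS16, fS17, fS18, fS19, fS21, fS22, CharTwo.add_self_eq_zero, -map_div₀] at h9
  obtain ⟨rfl, rfl, rfl, h9⟩ := h9
  simp at h9
  obtain ⟨rfl, -, -, rfl, hd⟩ := h9
  rw [div_mul_cancel₀ d1 hb2] at hd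
  obtain rfl : d2 = 0 := by linear_combination -hd
  have hI3 := hj2.inv (hj.inv hI)
  have h21 := hI3.nf 22 (by norm_num)
  simp [fNf, fIns, FParam.word, List.replicate, fS, fS0, fS1, fS2, fS3, fS4, fS5, fS6, fS7, fS8, fS9, fS10, fS11, fS12, fS13, fS14, fS15, fS16, fS17, fS18, fS19, fS21, fS22, CharTwo.add_self_eq_zero] at h21
  obtain ⟨hC, hk, hg, -⟩ := h21
  obtain rfl : C2 = 0 := hC.resolve_left hb
  obtain rfl : k2 = 0 := by
    have : B1 * fTh K m k2 = 0 := by linear_combination hk - E2 * two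
    exact (map_eq_zero _).1 ((mul_eq_zero.1 this).resolve_left hb)
  obtain rfl : g2 = 0 := by
    have : fTh K m g2 * g2 = 0 := by
      simp at hg
      first
      | simp [hg]
      | linear_combination hg
      | (rcases hg with hh | hh <;> simp [hh])
    rcases mul_eq_zero.1 this with h | h
    · exact (map_eq_zero _).1 h
    · exact h
  exact ⟨E2, G2, h2, hj.trans hj2⟩

theorem f4_case_c {c c' d e e' k g g' h : K}
    (hI : FInv m (⟨0, 0, 0, c, c', d, e, e', k, g, g', h⟩ : FParam K)) :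
    c = 0 ∧ e = 0 ∧ g = 0 ∧ (c' = 0 ∨ d = 0) := by
  have two : (2 : K) = 0 := CharTwo.two_eq_zero
  have h13 := hI.nf 13 (by norm_num)
  simp [fNf, fIns, FParam.word, List.replicate, fS, fS0, fS1, fS2, fS3, fS4, fS5, fS6, fS7, fS8, fS9, fS10, fS11, fS12, fS13, fS14, fS15, fS16, fS17, fS18, fS19, fS21, fS22, CharTwo.add_self_eq_zero] at h13
  obtain rfl : c = 0 := by
    have : fTh K m c * c = 0 := by linear_combination h13 - (fTh K m c * c + c') * two
    rcases mul_eq_zero.1 this with h | h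
    · exact (map_eq_zero _).1 h
    · exact h
  have h24 := hI.nf 24 (by norm_num)
  simp [fNf, fIns, FParam.word, List.replicate, fS, fS0, fS1, fS2, fS3, fS4, fS5, fS6, fS7, fS8, fS9, fS10, fS11, fS12, fS13, fS14, fS15, fS16, fS17, fS18, fS19, fS21, fS22, CharTwo.add_self_eq_zero] at h24
  obtain ⟨-, h40, h44, heg, h46, -⟩ := h24
  obtain ⟨rfl, rfl⟩ : e = 0 ∧ g = 0 := by
    rcases heg with rfl | rfl
    · refine ⟨rfl, ?_⟩
      by_contra hg
      simp at h46 h44
      have hd : d = 0 := by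
        first
        | exact h46.resolve_right hg
        | (have : d * g = 0 := by linear_combination h46 - fTh K m e' ^ 2 * two
           exact (mul_eq_zero.1 this).resolve_right hg)
      subst hd
      simp at h44
      exact hg h44
    · simp at h40
      refine ⟨?_, rfl⟩
      have : fTh K m e * e = 0 := by linear_combination h40 - (fTh K m e * e + e') * two
      rcases mul_eq_zero.1 this with h | h
      · exact (map_eq_zero _).1 h
      · exact h
  simp at h44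
  exact ⟨rfl, rfl, rfl, h44⟩

end Cfsg.Lib.Chev
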