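import Cfsg.Prelude.Def_LieTwisted
import Cfsg.Agent.Lib.Chev.TwDataG2
import Cfsg.Agent.Lib.Chev.TwTools
import Cfsg.Agent.Lib.Chev.TwBNTools

/-! The groups ²G₂(q) as fixed groups. -/

set_option autoImplicit false
set_option linter.unusedSectionVars false
set_option maxRecDepth 20000

namespace Cfsg.Lib.Chev

open Cfsg.Lie
open scoped commutatorElement

theorem certG2C : Cert chevG2 tblG2 := fullCertG2.comm.cert
theorem twCombG2 : TwComb chevG2 tblG2 twG2 := twComb_of_chk certG2C chkTwBaseG2 chkTwEltsG2 chkTwClassesG2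
theorem twLinkedG2 : TwLinked chevG2 tblG2 twG2 := twLinked_of_chk certG2C chkTwLinkedG2
theorem twSpecialG2 : TwSpecialOK chevG2 tblG2 esymG2 twG2 := twSpecial_of_chk certG2C chkTwSpecialG2

/-- The inverse of the Cartan matrix. -/
def invCartanG2 : Matrix (Fin chevG2.rank) (Fin chevG2.rank) ℤ := (!![2, 1; 3, 2] : Matrix (Fin 2) (Fin 2) ℤ)

theorem invCartanG2_mul : invCartanG2 * cartanMat chevG2 tblG2 = 1 := by decide +kernel

variable {K : Type*} [Field K]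

instance fact_prime_esymG2 : Fact (Nat.Prime esymG2.p) := ⟨Nat.prime_three⟩

section

variable [CharP K esymG2.p]

/-- The twisting map of ²G₂. -/
noncomputable abbrev twG2σ (m : ℕ) : GL chevG2.Idx K → GL chevG2.Idx K := twE eSymOKG2 certG2C fullCertG2 m

theorem twOKG2 (m : ℕ) : TwOK certG2C twG2 (twG2σ (K := K) m) :=
  twSpecialG2.twOK eSymOKG2 certG2C fullCertG2 twCombG2 m

/-- The element given by six values on the roots of a class, in the order of the word. -/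
noncomputable def g2Six (a b c d x y : ℕ) (A B C' D' X Y : K) : GL chevG2.Idx K :=
  xg certG2C a A * xg certG2C b B * xg certG2C c C' * xg certG2C d D' * xg certG2C x X * xg certG2C y Y

/-- The requirements on a class of type G₂. -/
noncomputable def chkG2Class (a b c d x y : ℕ) (M₁ M₂ M₃ M₄ : ℤ) : Bool :=
  Nat.blt a 12 && (Nat.blt b 12 && (Nat.blt c 12 && (Nat.blt d 12 && (Nat.blt x 12 && (Nat.blt y 12 &&
  (Nat.beq (esymG2.root tblG2 a) b && (Nat.beq (esymG2.root tblG2 b) a && (Nat.beq (esymG2.root tblG2 c) x &&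
  (Nat.beq (esymG2.root tblG2 x) c && (Nat.beq (esymG2.root tblG2 d) y && (Nat.beq (esymG2.root tblG2 y) d &&
  ([esymG2.lam tblG2 a, esymG2.lam tblG2 b, esymG2.lam tblG2 c, esymG2.lam tblG2 x, esymG2.lam tblG2 d,
    esymG2.lam tblG2 y] == [3, 1, 3, 1, 3, 1] &&
  (decide (tTerms tblG2 a b = [(c, M₁, 1, 1), (d, M₂, 2, 1), (x, M₃, 3, 1), (y, M₄, 3, 2)]) &&
  (!Nat.beq b a && (!Nat.beq b (tblG2.neg a) &&
  ([(c, d), (c, x), (c, y), (d, x), (d, y), (x, y)].all fun p => chkCommMod 3 tblG2 p.1 p.2))))))))))))))))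

/-- The twisting map on a class. -/
theorem g2Six_twist {a b c d x y : ℕ} {M₁ M₂ M₃ M₄ : ℤ} (hchk : chkG2Class a b c d x y M₁ M₂ M₃ M₄ = true) (m : ℕ)
    (A B C' D' X Y : K) :
    twG2σ m (g2Six a b c d x y A B C' D' X Y) = g2Six a b c d x y (B ^ 3 ^ m) (A ^ (3 ^ m * 3))
      (X ^ 3 ^ m - (M₁ : K) * (B ^ 3 ^ m * A ^ (3 ^ m * 3)))
      (Y ^ 3 ^ m + (M₂ : K) * ((B ^ 3 ^ m) ^ 2 * A ^ (3 ^ m * 3)))
      (C' ^ (3 ^ m * 3) - (M₃ : K) * ((B ^ 3 ^ m) ^ 3 * A ^ (3 ^ m * 3)))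
      (D' ^ (3 ^ m * 3) - (M₄ : K) * ((B ^ 3 ^ m) ^ 3 * (A ^ (3 ^ m * 3)) ^ 2)) := by
  simp only [chkG2Class, Bool.and_eq_true, Nat.blt_eq, Nat.beq_eq, beq_iff_eq, List.cons.injEq, and_true,
    decide_eq_true_eq, Bool.not_eq_true', List.all_cons, List.all_nil] at hchk
  obtain ⟨ha, hb, hc, hd, hx, hy, ra, rb, rc, rx, rd, ry, ⟨la, lb, lc, lx, ld, ly⟩, hT, n1, n2, c1, c2, c3, c4, c5, c6⟩ :=
    hchk
  have hex : ∀ r, esymG2.ex tblG2 m r = 3 ^ m * esymG2.lam tblG2 r := fun r => rfl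
  have hmem : ∀ r (t : K), xg certG2C r t ∈ chevG2.group K := fun r t => xg_mem_group certG2C r t
  have hform := comm_formula fullCertG2.comm (F := K) (r := a) (s := b) ha hb
    (fun e => by rw [e, Nat.beq_refl] at n1; exact Bool.noConfusion n1)
    (fun e => by rw [e, Nat.beq_refl] at n2; exact Bool.noConfusion n2)
  have hswap : ∀ u v : K, xg certG2C b u * xg certG2C a v = xg certG2C a v * xg certG2C b u *
      (xg certG2C c ((M₁ : K) * -v * u) * xg certG2C d ((M₂ : K) * (-v) ^ 2 * u) *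
        xg certG2C x ((M₃ : K) * (-v) ^ 3 * u) * xg certG2C y ((M₄ : K) * (-v) ^ 3 * u ^ 2)) := by
    intro u v
    refine Units.ext ?_
    have := hform v u
    rw [ChevalleyDatum.commWord, commTerms_eq certG2C ha hb, hT] at this
    simp only [Units.val_mul, coe_xg]
    rw [this]
    simp [ChevalleyDatum.wordMat, mul_assoc]
  haveI : CharP K 3 := inferInstanceAs (CharP K esymG2.p)
  have hcd := fun t u => (xg_commute_mod certG2C fullCertG2.comm (F := K) c1 t u).eq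
  have hcx := fun t u => (xg_commute_mod certG2C fullCertG2.comm (F := K) c2 t u).eq
  have hcy := fun t u => (xg_commute_mod certG2C fullCertG2.comm (F := K) c3 t u).eq
  have hdx := fun t u => (xg_commute_mod certG2C fullCertG2.comm (F := K) c4 t u).eq
  have hdy := fun t u => (xg_commute_mod certG2C fullCertG2.comm (F := K) c5 t u).eq
  have hxy := fun t u => (xg_commute_mod certG2C fullCertG2.comm (F := K) c6 t u).eq
  -- four commuting root groups
  have merge : ∀ p₁ p₂ p₃ p₄ q₁ q₂ q₃ q₄ : K,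
      xg certG2C c p₁ * xg certG2C d p₂ * xg certG2C x p₃ * xg certG2C y p₄ *
        (xg certG2C x q₃ * xg certG2C y q₄ * xg certG2C c q₁ * xg certG2C d q₂) =
      xg certG2C c (p₁ + q₁) * xg certG2C d (p₂ + q₂) * xg certG2C x (p₃ + q₃) * xg certG2C y (p₄ + q₄) := by
    intro p₁ p₂ p₃ p₄ q₁ q₂ q₃ q₄
    simp only [← xg_add]
    have k1 : Commute (xg certG2C x q₃ * xg certG2C y q₄) (xg certG2C c q₁ * xg certG2C d q₂) := by
      refine Commute.mul_left (Commute.mul_right (hcx _ _).symm (hdx _ _).symm) (Commute.mul_right (hcy _ _).symm (hdy _ _).symm)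
    have k2 : Commute (xg certG2C x p₃ * xg certG2C y p₄) (xg certG2C c q₁ * xg certG2C d q₂) := by
      refine Commute.mul_left (Commute.mul_right (hcx _ _).symm (hdx _ _).symm) (Commute.mul_right (hcy _ _).symm (hdy _ _).symm)
    calc xg certG2C c p₁ * xg certG2C d p₂ * xg certG2C x p₃ * xg certG2C y p₄ *
          (xg certG2C x q₃ * xg certG2C y q₄ * xg certG2C c q₁ * xg certG2C d q₂)
        = xg certG2C c p₁ * xg certG2C d p₂ * ((xg certG2C x p₃ * xg certG2C y p₄) *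
            ((xg certG2C x q₃ * xg certG2C y q₄) * (xg certG2C c q₁ * xg certG2C d q₂))) := by group
      _ = xg certG2C c p₁ * xg certG2C d p₂ * ((xg certG2C x p₃ * xg certG2C y p₄) *
            (xg certG2C c q₁ * xg certG2C d q₂)) * (xg certG2C x q₃ * xg certG2C y q₄) := by rw [k1.eq]; group
      _ = xg certG2C c p₁ * (xg certG2C d p₂ * xg certG2C c q₁) * xg certG2C d q₂ *
            (xg certG2C x p₃ * (xg certG2C y p₄ * xg certG2C x q₃) * xg certG2C y q₄) := by rw [k2.eq]; group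
      _ = _ := by rw [← hcd q₁ p₂, ← hxy q₃ p₄]; group
  unfold g2Six
  simp only [twG2σ]
  rw [twE_mul eSymOKG2 certG2C fullCertG2 m (mul_mem (mul_mem (mul_mem (mul_mem (hmem _ _) (hmem _ _)) (hmem _ _)) (hmem _ _)) (hmem _ _))
      (hmem _ _),
    twE_mul eSymOKG2 certG2C fullCertG2 m (mul_mem (mul_mem (mul_mem (hmem _ _) (hmem _ _)) (hmem _ _)) (hmem _ _)) (hmem _ _),
    twE_mul eSymOKG2 certG2C fullCertG2 m (mul_mem (mul_mem (hmem _ _) (hmem _ _)) (hmem _ _)) (hmem _ _),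
    twE_mul eSymOKG2 certG2C fullCertG2 m (mul_mem (hmem _ _) (hmem _ _)) (hmem _ _), twE_mul eSymOKG2 certG2C fullCertG2 m (hmem _ _) (hmem _ _),
    twE_xg eSymOKG2 certG2C fullCertG2 (F := K) m ha, twE_xg eSymOKG2 certG2C fullCertG2 (F := K) m hb, twE_xg eSymOKG2 certG2C fullCertG2 (F := K) m hc, twE_xg eSymOKG2 certG2C fullCertG2 (F := K) m hd, twE_xg eSymOKG2 certG2C fullCertG2 (F := K) m hx,
    twE_xg eSymOKG2 certG2C fullCertG2 (F := K) m hy, ra, rb, rc, rd, rx, ry, hex, hex, hex, hex, hex, hex, la, lb, lc, lx, ld, ly, mul_one]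
  set p := A ^ (3 ^ m * 3)
  set q := B ^ 3 ^ m
  rw [hswap p q, show ∀ g₁ g₂ g₃ g₄ g₅ g₆ g₇ : GL chevG2.Idx K, g₁ * g₂ * g₃ * g₄ * g₅ * g₆ * g₇ =
    g₁ * g₂ * (g₃ * (g₄ * g₅ * g₆ * g₇)) from fun _ _ _ _ _ _ _ => by group, merge]
  simp only [← mul_assoc]
  congr 4 <;> ring

/-- The generic positive fixed element. -/
noncomputable def reeU (m : ℕ) (t u v : K) : GL chevG2.Idx K :=
  g2Six 7 6 8 9 10 11 (t ^ 3 ^ m) t (t ^ (3 ^ m + 1) + u ^ 3 ^ m) (t ^ (2 * 3 ^ m + 1) + v ^ 3 ^ m) u v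

/-- The generic negative fixed element. -/
noncomputable def reeV (m : ℕ) (t u v : K) : GL chevG2.Idx K :=
  g2Six 4 5 3 2 1 0 (-(t ^ 3 ^ m)) (-t) (-(t ^ (3 ^ m + 1) + u ^ 3 ^ m)) (-(t ^ (2 * 3 ^ m + 1) + v ^ 3 ^ m)) (-u) (-v)

theorem coe_g2Six (a b c d x y : ℕ) (A B C' D' X Y : K) :
    ((g2Six a b c d x y A B C' D' X Y : GL chevG2.Idx K) : Matrix chevG2.Idx chevG2.Idx K) =
      chevG2.wordMat K [(a, A), (b, B), (c, C'), (d, D'), (x, X), (y, Y)] := by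
  simp [g2Six, ChevalleyDatum.wordMat, coe_xg, mul_assoc]

theorem coe_reeU (m : ℕ) (t u v : K) :
    ((reeU m t u v : GL chevG2.Idx K) : Matrix chevG2.Idx chevG2.Idx K) = chevG2.wordMat K (reeWordU (3 ^ m) t u v) :=
  coe_g2Six ..

theorem coe_reeV (m : ℕ) (t u v : K) :
    ((reeV m t u v : GL chevG2.Idx K) : Matrix chevG2.Idx chevG2.Idx K) = chevG2.wordMat K (reeWordV (3 ^ m) t u v) := by
  rw [reeV, coe_g2Six]
  have h : ([(g2a, 4), (g2b, 5), (g2ab, 3), (g2aab, 2), (g2aaab, 1), (g2aaabb, 0)] : List (ℕ × ℕ)).map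
      (fun p => decide (chevG2.negIdx.getD p.1 0 = p.2)) = List.replicate 6 true := by decide +kernel
  simp only [List.map_cons, List.map_nil, List.replicate, List.cons.injEq, decide_eq_true_eq, and_true] at h
  obtain ⟨h1, h2, h3, h4, h5, h6⟩ := h
  simp only [reeWordV, reeWordU, ChevalleyDatum.negWord, List.map_cons, List.map_nil, h1, h2, h3, h4, h5, h6]

theorem g2Six_mem (a b c d x y : ℕ) (A B C' D' X Y : K) : g2Six a b c d x y A B C' D' X Y ∈ chevG2.group K :=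
  mul_mem (mul_mem (mul_mem (mul_mem (mul_mem (xg_mem_group _ _ _) (xg_mem_group _ _ _)) (xg_mem_group _ _ _))
    (xg_mem_group _ _ _)) (xg_mem_group _ _ _)) (xg_mem_group _ _ _)

theorem g2Six_lprod (A B C' D' X Y : K) : g2Six 7 6 8 9 10 11 A B C' D' X Y =
    lprod certG2C [7, 6, 8, 9, 10, 11] (fun r => [0, 0, 0, 0, 0, 0, B, A, C', D', X, Y].getD r 0) := by
  simp [g2Six, lprod, mul_assoc]

theorem g2Six_inj {A B C' D' X Y A₂ B₂ C₂ D₂ X₂ Y₂ : K}
    (e : g2Six 7 6 8 9 10 11 A B C' D' X Y = g2Six 7 6 8 9 10 11 A₂ B₂ C₂ D₂ X₂ Y₂) :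
    A = A₂ ∧ B = B₂ ∧ C' = C₂ ∧ D' = D₂ ∧ X = X₂ ∧ Y = Y₂ := by
  rw [g2Six_lprod, g2Six_lprod] at e
  have h := lprod_inj certG2C fullCertG2.comm (by decide) (by decide) e
  exact ⟨by simpa using h 7 (by simp), by simpa using h 6 (by simp), by simpa using h 8 (by simp),
    by simpa using h 9 (by simp), by simpa using h 10 (by simp), by simpa using h 11 (by simp)⟩

theorem chkG2ClassPos : chkG2Class 7 6 8 9 10 11 (-1) 1 1 1 = true := by decide +kernel
theorem chkG2ClassNeg : chkG2Class 4 5 3 2 1 0 1 1 (-1) 1 = true := by decide +kernel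

variable [Fintype K] {m : ℕ} (hK : Fintype.card K = 3 ^ (2 * m + 1))
include hK

theorem g2_theta (t : K) : (t ^ 3 ^ m) ^ (3 ^ m * 3) = t := by
  rw [← pow_mul, show 3 ^ m * (3 ^ m * 3) = Fintype.card K by rw [hK, pow_succ, two_mul, pow_add]; ring,
    FiniteField.pow_card]

omit hK in
theorem g2_add_pow (a b : K) (j : ℕ) : (a + b) ^ 3 ^ j = a ^ 3 ^ j + b ^ 3 ^ j :=
  map_add (iterateFrobenius K esymG2.p j) a b

omit hK in
theorem g2_neg_pow (a : K) (j : ℕ) : (-a) ^ 3 ^ j = -a ^ 3 ^ j :=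
  map_neg (iterateFrobenius K esymG2.p j) a

theorem reeU_fixed (t u v : K) : reeU m t u v ∈ (twOKG2 (K := K) m).fixed certG2C := by
  refine ((twOKG2 m).mem_fixed certG2C).2 ⟨g2Six_mem _ _ _ _ _ _ _ _ _ _ _ _, ?_⟩
  have hθ := g2_theta hK
  have hadd : ∀ a b : K, (a + b) ^ (3 ^ m * 3) = a ^ (3 ^ m * 3) + b ^ (3 ^ m * 3) := fun a b => by
    rw [← pow_succ]; exact g2_add_pow a b (m + 1)
  rw [reeU, g2Six_twist chkG2ClassPos, hθ, hadd, hadd, hθ, hθ]
  have e1 : (t ^ (3 ^ m + 1)) ^ (3 ^ m * 3) = t * t ^ (3 ^ m * 3) := by rw [pow_succ, mul_pow, hθ]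
  have e2 : (t ^ (2 * 3 ^ m + 1)) ^ (3 ^ m * 3) = t ^ 2 * t ^ (3 ^ m * 3) := by
    rw [pow_succ, mul_pow, mul_comm 2, pow_mul t (3 ^ m) 2, ← pow_mul, mul_comm 2, pow_mul, hθ]
  have e3 : (t ^ 3 ^ m) ^ 3 = t ^ (3 ^ m * 3) := (pow_mul _ _ _).symm
  rw [e1, e2, e3]
  congr 1 <;> (push_cast; ring)

theorem reeV_fixed (t u v : K) : reeV m t u v ∈ (twOKG2 (K := K) m).fixed certG2C := by
  refine ((twOKG2 m).mem_fixed certG2C).2 ⟨g2Six_mem _ _ _ _ _ _ _ _ _ _ _ _, ?_⟩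
  have hθ := g2_theta hK
  have hadd : ∀ a b : K, (a + b) ^ (3 ^ m * 3) = a ^ (3 ^ m * 3) + b ^ (3 ^ m * 3) := fun a b => by
    rw [← pow_succ]; exact g2_add_pow a b (m + 1)
  have hneg : ∀ a : K, (-a) ^ (3 ^ m * 3) = -a ^ (3 ^ m * 3) := fun a => by
    rw [← pow_succ]; exact g2_neg_pow a (m + 1)
  rw [reeV, g2Six_twist chkG2ClassNeg]
  simp only [hneg, g2_neg_pow, hadd, hθ]
  have e1 : (t ^ (3 ^ m + 1)) ^ (3 ^ m * 3) = t * t ^ (3 ^ m * 3) := by rw [pow_succ, mul_pow, hθ]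
  have e2 : (t ^ (2 * 3 ^ m + 1)) ^ (3 ^ m * 3) = t ^ 2 * t ^ (3 ^ m * 3) := by
    rw [pow_succ, mul_pow, mul_comm 2, pow_mul t (3 ^ m) 2, ← pow_mul, mul_comm 2, pow_mul, hθ]
  have e3 : (t ^ 3 ^ m) ^ 3 = t ^ (3 ^ m * 3) := (pow_mul _ _ _).symm
  rw [e1, e2]
  congr 1 <;> (push_cast; linear_combination)

theorem g2_fixPart : twFixPart certG2C (twG2σ (K := K) m) (twG2.base 0) = {g | ∃ t u v, g = reeU m t u v} := by
  have hb : twG2.base 0 = [7, 6, 8, 9, 10, 11] := rfl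
  ext g
  rw [hb]
  constructor
  · rintro ⟨⟨s, rfl⟩, hfix⟩
    have es : lprod certG2C [7, 6, 8, 9, 10, 11] s = g2Six 7 6 8 9 10 11 (s 7) (s 6) (s 8) (s 9) (s 10) (s 11) := by
      simp [g2Six, lprod, mul_assoc]
    rw [es, g2Six_twist chkG2ClassPos] at hfix
    obtain ⟨h1, h2, h3, h4, -, -⟩ := g2Six_inj hfix
    refine ⟨s 6, s 10, s 11, ?_⟩
    rw [es, reeU]
    rw [h2] at h3 h4
    congr 1
    · exact h1.symm
    · rw [← h3]; push_cast; ring
    · rw [← h4, ← pow_mul, mul_comm _ 2]; push_cast; ring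
  · rintro ⟨t, u, v, rfl⟩
    exact ⟨⟨_, g2Six_lprod ..⟩, (reeU_fixed hK t u v).2⟩

theorem g2_card_fixPart {J : ℕ} (hJ : J < twG2.norb) :
    Nat.card ↥(twFixPart certG2C (twG2σ (K := K) m) (twG2.base J)) = (3 ^ (2 * m + 1)) ^ 3 := by
  obtain rfl : J = 0 := by
    have : J < 1 := hJ
    omega
  rw [g2_fixPart hK]
  refine (Nat.card_eq_of_bijective (fun p : K × K × K =>
    (⟨reeU m p.1 p.2.1 p.2.2, p.1, p.2.1, p.2.2, rfl⟩ : ↥{g : GL chevG2.Idx K | ∃ t u v, g = reeU m t u v}))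
    ⟨?_, ?_⟩).symm.trans ?_
  · rintro ⟨t, u, v⟩ ⟨t', u', v'⟩ e
    obtain ⟨-, h2, -, -, h5, h6⟩ := g2Six_inj (congrArg Subtype.val e)
    exact Prod.ext h2 (Prod.ext h5 h6)
  · rintro ⟨g, t, u, v, rfl⟩
    exact ⟨(t, u, v), rfl⟩
  · simp [Nat.card_prod, Nat.card_eq_fintype_card, hK]; ring

/-! ### The torus -/

/-- The torus parameters of a fixed element. -/
def g2Par (m : ℕ) (z : Kˣ) : Fin chevG2.rank → Kˣ := fun i => (![z ^ 3 ^ m, z] : Fin 2 → Kˣ) i

theorem g2_mem_diag {g : GL chevG2.Idx K} :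
    g ∈ chevG2.diagonalSubgroup K ⊓ (twOKG2 (K := K) m).fixed certG2C ↔
      ∃ z, g = torusHom chevG2 tblG2 K (g2Par m z) := by
  have h0 : esymG2.ex tblG2 m (tblG2.simp' (esymG2.pos 0)) = 3 ^ m := by
    rw [show tblG2.simp' (esymG2.pos 0) = 6 by decide +kernel, ESym.ex, show esymG2.lam tblG2 6 = 1 by decide +kernel,
      mul_one]; rfl
  have h1 : esymG2.ex tblG2 m (tblG2.simp' (esymG2.pos 1)) = 3 ^ m * 3 := by
    rw [show tblG2.simp' (esymG2.pos 1) = 7 by decide +kernel, ESym.ex, show esymG2.lam tblG2 7 = 3 by decide +kernel]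
    rfl
  have key : ∀ c : Fin chevG2.rank → Kˣ, ePar eSymOKG2 m c = c ↔ ∃ z, c = g2Par m z := by
    intro c
    constructor
    · intro h
      refine ⟨c (1 : Fin 2), funext fun (i : Fin 2) => ?_⟩
      have e0 : c ⟨esymG2.pos 0, eSymOKG2.node_lt (show (0 : ℕ) < chevG2.rank by decide)⟩ ^
          esymG2.ex tblG2 m (tblG2.simp' (esymG2.pos 0)) = c (0 : Fin 2) := congrFun h (0 : Fin 2)
      rw [h0] at e0
      fin_cases i
      · exact e0.symm
      · rfl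
    · rintro ⟨z, rfl⟩
      funext (i : Fin 2)
      fin_cases i
      · show (g2Par m z) _ ^ esymG2.ex tblG2 m (tblG2.simp' (esymG2.pos 0)) = _
        rw [h0]; rfl
      · show (g2Par m z) _ ^ esymG2.ex tblG2 m (tblG2.simp' (esymG2.pos 1)) = _
        rw [h1]
        show (z ^ 3 ^ m) ^ (3 ^ m * 3) = z
        exact Units.ext (by rw [Units.val_pow_eq_pow_val, Units.val_pow_eq_pow_val]; exact g2_theta hK _)
  rw [twSpecialG2.mem_diag_fixed eSymOKG2 certG2C fullCertG2 twCombG2 m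
    (torusHom_injective certG2C invCartanG2_mul)]
  constructor
  · rintro ⟨c, hc, rfl⟩
    obtain ⟨z, rfl⟩ := (key c).1 hc
    exact ⟨z, rfl⟩
  · rintro ⟨z, rfl⟩
    exact ⟨_, (key _).2 ⟨z, rfl⟩, rfl⟩

omit hK in
theorem g2Par_injective : Function.Injective fun z : Kˣ => torusHom chevG2 tblG2 K (g2Par m z) := fun _ _ e =>
  congrFun (torusHom_injective certG2C invCartanG2_mul e) (1 : Fin 2)

theorem g2_card_diag :
    Nat.card ↥(chevG2.diagonalSubgroup K ⊓ (twOKG2 (K := K) m).fixed certG2C) = 3 ^ (2 * m + 1) - 1 := by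
  rw [← hK, ← Nat.card_eq_fintype_card (α := K), ← Nat.card_units]
  refine (Nat.card_eq_of_bijective (fun z : Kˣ =>
    (⟨_, (g2_mem_diag hK).2 ⟨z, rfl⟩⟩ : ↥(chevG2.diagonalSubgroup K ⊓ (twOKG2 (K := K) m).fixed certG2C))) ⟨?_, ?_⟩).symm
  · exact fun a b e => g2Par_injective (congrArg Subtype.val e)
  · rintro ⟨g, hg⟩
    obtain ⟨z, rfl⟩ := (g2_mem_diag hK).1 hg
    exact ⟨z, rfl⟩

end

end Cfsg.Lib.Chev
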