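import Cfsg.Agent.Lib.Chev.TwInvCheck
import Cfsg.Agent.Lib.Chev.InvSound
import Cfsg.Agent.Lib.Chev.TwAutBase

/-!
Products ordered along the orbits of a symmetry: uniqueness, normal forms, and the action of the twisting map.
-/

set_option autoImplicit false
set_option linter.unusedSectionVars false

namespace Cfsg.Lib.Chev

open Cfsg.Lie

theorem kSub_sublist : ∀ (L : List ℕ) (y : List (ℕ × QPoly)), kSub L y = true → (y.map Prod.fst).Sublist L
  | L, [], _ => List.nil_sublist L
  | [], _ :: _, h => by simp [kSub] at h
  | x :: L, (i, a) :: y, h => by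
    rw [kSub] at h
    cases hx : Nat.beq i x
    · rw [hx, cond_false] at h
      exact (kSub_sublist L _ h).cons x
    · rw [hx, cond_true] at h
      obtain rfl : i = x := Nat.eq_of_beq_eq_true hx
      exact (kSub_sublist L y h).cons_cons i

theorem kSub_filter (P : ℕ → Bool) : ∀ L : List ℕ, L.Nodup →
    kSub L ((L.filter P).map fun x => (x, ([[x]] : QPoly))) = true
  | [], _ => rfl
  | x :: L, h => by
    obtain ⟨h1, h2⟩ := List.nodup_cons.1 h
    cases hP : P x
    · rw [List.filter_cons_of_neg (by simp [hP])]
      cases hl : (L.filter P).map fun x => (x, ([[x]] : QPoly)) with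
      | nil => rfl
      | cons p y =>
        obtain ⟨i, a⟩ := p
        have hm : (i, a) ∈ (L.filter P).map fun x => (x, ([[x]] : QPoly)) := by rw [hl]; exact List.mem_cons_self ..
        obtain ⟨z, hz, e⟩ := List.mem_map.1 hm
        have hix : i ≠ x := by
          rintro rfl
          cases e
          exact h1 (List.mem_filter.1 hz).1
        rw [kSub, beq_false_ne hix, cond_false, ← hl]
        exact kSub_filter P L h2
    · rw [List.filter_cons_of_pos hP, List.map_cons, kSub]
      simp only [beq_self_eq_true, Nat.beq_refl, cond_true]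
      exact kSub_filter P L h2

theorem kGood_spec (E : EnTbl) (N : ℕ) : ∀ (y : List (ℕ × QPoly)) (x : ℕ), (y.map Prod.fst).Nodup →
    (eGood E N y).testBit x = true → ∃ mo, eGet y x = [mo] ∧ ∀ v ∈ mo, v < E.num ∧ N.testBit v = true
  | [], x, _, h => by simp [eGood] at h
  | (i, p) :: y, x, hnd, h => by
    rw [List.map_cons, List.nodup_cons] at hnd
    have hrec : (eGood E N y).testBit x = true →
        ∃ mo, eGet ((i, p) :: y) x = [mo] ∧ ∀ v ∈ mo, v < E.num ∧ N.testBit v = true := fun h => by
      obtain ⟨mo, h1, h2⟩ := kGood_spec E N y x hnd.2 h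
      obtain ⟨q, hq, rfl⟩ := eGet_mem (l := y) (x := x) (by rw [h1]; simp)
      exact ⟨mo, by rw [eGet, beq_false_ne fun e : i = q.1 => hnd.1 (List.mem_map.2 ⟨q, hq, e.symm⟩)]; exact h1, h2⟩
    rcases p with _ | ⟨mo, _ | ⟨m₂, p⟩⟩
    · exact hrec (by simpa only [eGood] using h)
    swap
    · exact hrec (by simpa only [eGood] using h)
    simp only [eGood] at h
    cases hm : mo.all fun v => Nat.blt v E.num && N.testBit v
    · rw [hm, cond_false] at h; exact hrec h
    · rw [hm, cond_true, Nat.testBit_or, Bool.or_eq_true, Nat.testBit_two_pow] at h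
      rcases h with h | h
      · rw [decide_eq_true_eq] at h
        subst h
        refine ⟨mo, by simp [eGet], fun v hv => ?_⟩
        simpa using List.all_eq_true.1 hm v hv
      · exact hrec h

theorem qmEval_conj {F : Type*} [Field F] (f : F →+* F) (e : ℕ → F) (g : ℕ → ℕ) :
    ∀ mo : List ℕ, (∀ v ∈ mo, e (g v) = f (e v)) → qmEval e (qmMul (mo.map g) []) = f (qmEval e mo) := by
  intro mo h
  rw [qmEval_mul, show qmEval e ([] : List ℕ) = 1 by simp [qmEval], mul_one]
  induction mo with
  | nil => simp [qmEval]
  | cons x l ih =>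
    rw [List.map_cons, show qmEval e (g x :: l.map g) = e (g x) * qmEval e (l.map g) by simp [qmEval],
      show qmEval e (x :: l) = e x * qmEval e l by simp [qmEval], map_mul, h x (List.mem_cons_self ..),
      ih fun v hv => h v (List.mem_cons_of_mem _ hv)]

variable {D : ChevalleyDatum} {T : Tbl} {F : Type*} [Field F] [CharP F 2] [Finite F] (X : TwCtx D T F) {E : EnTbl}
  {W : IvTbl}

/-- The product along a list of positions. -/
noncomputable def kList (E : EnTbl) (L : List ℕ) (v : ℕ → F) : GL D.Idx F :=
  (L.map fun x => xg X.cert (E.num + x) (v x)).prod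

/-- The ordered product. -/
noncomputable def kEl (E : EnTbl) (W : IvTbl) (v : ℕ → F) : GL D.Idx F := kList X E W.ord v

theorem kList_congr {L : List ℕ} {v w : ℕ → F} (h : ∀ x ∈ L, v x = w x) : kList X E L v = kList X E L w := by
  simp only [kList]
  congr 1
  exact List.map_congr_left fun x hx => by rw [h x hx]

theorem kList_zero (L : List ℕ) : kList X E L (fun _ => (0 : F)) = 1 :=
  List.prod_eq_one fun y hy => by
    obtain ⟨x, -, rfl⟩ := List.mem_map.1 hy
    exact xg_zero X.cert _

theorem kSub_val (e : ℕ → F) : ∀ (L : List ℕ) (y : List (ℕ × QPoly)), L.Nodup → kSub L y = true →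
    qVal X.cert E e y = kList X E L fun x => qEval e (eGet y x)
  | L, [], _, _ => by
    rw [kList_congr X (w := fun _ => (0 : F)) (fun x _ => by simp [eGet, qEval]), kList_zero]
    simp [qVal]
  | [], _ :: _, _, h => by simp [kSub] at h
  | x :: L, (i, a) :: y, hnd, h => by
    obtain ⟨h1, h2⟩ := List.nodup_cons.1 hnd
    rw [kSub] at h
    rw [show kList X E (x :: L) (fun x => qEval e (eGet ((i, a) :: y) x)) =
      xg X.cert (E.num + x) (qEval e (eGet ((i, a) :: y) x)) * kList X E L fun x => qEval e (eGet ((i, a) :: y) x) by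
        simp [kList]]
    cases hx : Nat.beq i x
    · rw [hx, cond_false] at h
      rw [eGet_none (l := (i, a) :: y) (x := x) fun p hp hpx => h1
        ((kSub_sublist L _ h).subset (hpx ▸ List.mem_map_of_mem hp)), show qEval e ([] : QPoly) = 0 by simp [qEval],
        xg_zero, one_mul]
      exact kSub_val e L _ h2 h
    · rw [hx, cond_true] at h
      obtain rfl : i = x := Nat.eq_of_beq_eq_true hx
      rw [qVal_cons, kSub_val e L y h2 h]
      congr 1
      · simp [eGet]
      · exact kList_congr X fun z hz => by
          simp only [eGet]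
          rw [beq_false_ne (fun e : i = z => h1 (e ▸ hz)), cond_false]

/-- The facts expressed by the check of the orbit table. -/
structure IvOK (E : EnTbl) (W : IvTbl) : Prop where
  tbl : chkEn T E = true
  sg_lt : ∀ x < E.num, W.sg x < E.num
  sg_sg : ∀ x < E.num, W.sg (W.sg x) = x
  sg_root : ∀ x < E.num, X.sym.root (E.num + x) = E.num + W.sg x
  sum_zero : ∀ x < E.num, E.sum x (W.sg x) = 0
  mem_ord : ∀ x < E.num, x ∈ W.ord
  ord_lt : ∀ x ∈ W.ord, x < E.num
  nodup : W.ord.Nodup
  orbs : ∀ o ∈ W.orbs, (∃ x, o = [x] ∧ W.sg x = x) ∨ ∃ x y, o = [x, y] ∧ W.sg x = y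
  mask : ∀ k ≤ E.num, chkMask E (W.below k) = true

theorem ivOK_of_chk (hE : chkEn T E = true) (h : chkIv T X.sym E W = true) : IvOK X E W := by
  simp only [chkIv, Bool.and_eq_true, List.all_eq_true, List.mem_range, Nat.blt_eq, Nat.beq_eq, allBelow_iff,
    List.contains_iff_mem, decide_eq_true_eq] at h
  obtain ⟨⟨h1, h2, h3, h4⟩, h5, h6⟩ := h
  exact
    { tbl := hE
      sg_lt := fun x hx => (h1 x hx).1
      sg_sg := fun x hx => (h1 x hx).2.1
      sg_root := fun x hx => (h1 x hx).2.2.1
      sum_zero := fun x hx => (h1 x hx).2.2.2.1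
      mem_ord := fun x hx => (h1 x hx).2.2.2.2.1
      ord_lt := h2
      nodup := h3
      orbs := fun o ho => by
        have := h5 o ho
        split at this
        · exact Or.inl ⟨_, rfl, Nat.eq_of_beq_eq_true this⟩
        · exact Or.inr ⟨_, _, rfl, Nat.eq_of_beq_eq_true this⟩
        · simp at this
      mask := fun k hk => h6 k (by omega) }

variable (hW : IvOK X E W)
include hW

theorem k_two : 2 * E.num = D.nroots := en_two X.cert X.full hW.tbl

theorem sig_xg {x : ℕ} (hx : x < E.num) (t : F) :
    X.sig (xg X.cert (E.num + x) t) = xg X.cert (E.num + W.sg x) (X.frob t) := by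
  have h2 := k_two X hW
  rw [TwCtx.sig, twSigma_xg X.cert X.symOK X.frob (by omega), hW.sg_root x hx]
  congr 1
  rcases X.symOK.eps_cases (E.num + x) (by omega) with h | h <;> simp [h, CharTwo.neg_eq]

theorem xg_pair_comm {x : ℕ} (hx : x < E.num) (t u : F) :
    Commute (xg X.cert (E.num + x) t) (xg X.cert (E.num + W.sg x) u) := by
  have h2 := k_two X hW
  by_cases hne : W.sg x = x
  · rw [hne]
    show _ * _ = _ * _
    rw [xg_add, xg_add, add_comm t u]
  have hy := hW.sg_lt x hx
  obtain ⟨hneg, hcase⟩ := en_terms X.cert X.full hW.tbl hx hy (Ne.symm hne)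
  have hs := xg_swap X.cert X.full (F := F) (r := E.num + W.sg x) (s := E.num + x) (by omega) (by omega)
    (by omega) hneg u t
  rcases hcase with ⟨-, e⟩ | ⟨c, e, -⟩
  · rw [e] at hs
    show _ * _ = _ * _
    simpa using hs
  · rw [hW.sum_zero x hx] at e
    omega

theorem kBelow_testBit (k x : ℕ) : (W.below k).testBit x = decide (x ∈ W.ord.take k) := by
  rw [IvTbl.below]
  induction W.ord.take k with
  | nil => simp
  | cons y l ih => simp [Nat.testBit_or, ih, Nat.testBit_two_pow, eq_comm]

theorem ord_length_le : W.ord.length ≤ E.num := by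
  classical
  rw [← List.toFinset_card_of_nodup hW.nodup, ← Finset.card_range E.num]
  exact Finset.card_le_card fun x hx => Finset.mem_range.2 (hW.ord_lt x (List.mem_toFinset.1 hx))

/-- The coordinates of an ordered product are unique. -/
theorem kEl_inj {v w : ℕ → F} (h : kEl X E W v = kEl X E W w) : ∀ x < E.num, v x = w x := by
  have key : ∀ (n k : ℕ), k + n = W.ord.length →
      kList X E (W.ord.drop k) v = kList X E (W.ord.drop k) w → ∀ x ∈ W.ord.drop k, v x = w x := by
    intro n
    induction n with
    | zero =>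
      intro k hk _ x hx
      rw [List.drop_eq_nil_of_le (by omega)] at hx
      simp at hx
    | succ n ih =>
      intro k hk he
      have hkl : k < W.ord.length := by omega
      rw [List.drop_eq_getElem_cons hkl] at he ⊢
      set i := W.ord[k] with hi
      set A := kList X E (W.ord.drop (k + 1)) v with hA
      set B := kList X E (W.ord.drop (k + 1)) w with hB
      have hin : i < E.num := hW.ord_lt _ (List.getElem_mem hkl)
      simp only [kList, List.map_cons, List.prod_cons] at he
      replace he : xg X.cert (E.num + i) (v i) * A = xg X.cert (E.num + i) (w i) * B := he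
      have hM := hW.mask (k + 1) (by have := ord_length_le X hW; omega)
      have hsub : ∀ u : ℕ → F, kList X E (W.ord.drop (k + 1)) u ∈ eSub X.cert F E (W.below (k + 1)) := by
        intro u
        refine list_prod_mem fun y hy => ?_
        obtain ⟨x, hx, rfl⟩ := List.mem_map.1 hy
        refine xg_mem_eSub X.cert X.full hW.tbl (hW.ord_lt x (List.mem_of_mem_drop hx)) ?_ _
        rw [kBelow_testBit X hW, decide_eq_false_iff_not]
        intro hx'
        have hd := List.disjoint_take_drop hW.nodup (Nat.le_refl (k + 1))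
        exact hd hx' hx
      set d := -(w i) + v i with hd
      have hx : xg X.cert (E.num + i) d = B * A⁻¹ := by
        rw [hd, ← xg_add, ← xg_inv]
        rw [eq_mul_inv_iff_mul_eq, mul_assoc, he, inv_mul_cancel_left]
      have hmem : xg X.cert (E.num + i) d ∈ eSub X.cert F E (W.below (k + 1)) := by
        rw [hx]; exact mul_mem (hsub w) (inv_mem (hsub v))
      have e1 : eEl X.cert E (fun _ => (0 : F)) = 1 := by
        have := qVal_eEl X.cert (E := E) (fun _ => (0 : F)) (l := []) rfl
        simpa [qVal, eGet, qEval] using this.symm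
      have e2 : eEl X.cert E (fun x => qEval (fun _ => d) (eGet [(i, [[0]])] x)) = xg X.cert (E.num + i) d := by
        rw [← qVal_eEl X.cert (E := E) (fun _ => d) (l := [(i, [[0]])]) (by simp [eOrd, hin])]
        simp [qVal, qEval, qmEval]
      have hco := eEl_coord X.cert X.full hW.tbl hM (a := fun _ => (0 : F))
        (b := fun x => qEval (fun _ => d) (eGet [(i, [[0]])] x)) (by rw [e1, e2, inv_one, one_mul]; exact hmem) i hin
        (by rw [kBelow_testBit X hW, decide_eq_true_eq]; exact List.mem_take_iff_getElem.2 ⟨k, by omega, hi.symm⟩)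
      have hd0 : d = 0 := by simpa [eGet, qEval, qmEval] using hco.symm
      have hvw : v i = w i := by linear_combination hd.symm.trans hd0
      rw [hvw] at he
      intro x hx'
      rcases List.mem_cons.1 hx' with rfl | hx'
      · exact hvw
      · exact ih (k + 1) (by omega) (mul_left_cancel he) x hx'
  intro x hx
  exact key W.ord.length 0 (by omega) (by simpa [kEl] using h) x (by simpa using hW.mem_ord x hx)

theorem kEl_pos (v : ℕ → F) : kEl X E W v ∈ D.posUnipotent F := by
  have h2 := k_two X hW
  rw [posUnipotent_eq X.cert]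
  refine list_prod_mem fun y hy => ?_
  obtain ⟨x, -, rfl⟩ := List.mem_map.1 hy
  exact xg_mem_upper X.cert (by omega) _

theorem kEl_surj {g : GL D.Idx F} (hg : g ∈ D.posUnipotent F) : ∃ v, g = kEl X E W v := by
  classical
  let ext' : (Fin E.num → F) → ℕ → F := fun a x => if h : x < E.num then a ⟨x, h⟩ else 0
  let Φ : (Fin E.num → F) → ↥(D.posUnipotent F) := fun a => ⟨kEl X E W (ext' a), kEl_pos X hW _⟩
  let Ψ : (Fin E.num → F) → ↥(D.posUnipotent F) := fun a => ⟨eEl X.cert E (ext' a), eEl_pos X.cert X.full hW.tbl _⟩
  have hinj : Function.Injective Φ := fun a b e => funext fun i => by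
    have := kEl_inj X hW (congrArg Subtype.val e) i i.2
    simpa [ext', i.2] using this
  have hsurj : Function.Surjective Ψ := fun g => by
    obtain ⟨v, hv⟩ := eEl_surj X.cert X.full hW.tbl g.2
    refine ⟨fun i => v i, Subtype.ext ?_⟩
    show eEl X.cert E (ext' fun i => v i) = _
    rw [hv]
    exact eEl_congr X.cert E fun x hx => by simp [ext', hx]
  have hbij := hinj.bijective_of_nat_card_le (Nat.card_le_card_of_surjective Ψ hsurj)
  obtain ⟨a, ha⟩ := hbij.2 ⟨g, hg⟩
  exact ⟨ext' a, (congrArg Subtype.val ha).symm⟩

theorem kIns_val (e : ℕ → F) : ∀ (n i : ℕ) (a : QPoly) (l : List (ℕ × QPoly)), i < E.num →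
    (∀ p ∈ l, p.1 < E.num) →
    (∀ p ∈ kIns E W n i a l, p.1 < E.num) ∧
      qVal X.cert E e (kIns E W n i a l) = xg X.cert (E.num + i) (qEval e a) * qVal X.cert E e l := by
  intro n
  induction n with
  | zero =>
    intro i a l hi hl
    refine ⟨fun p hp => ?_, by rw [kIns, qVal_cons]⟩
    rcases List.mem_cons.1 hp with rfl | hp
    · exact hi
    · exact hl p hp
  | succ n ih =>
    intro i a l hi hl
    cases l with
    | nil =>
      refine ⟨fun p hp => ?_, by rw [kIns, qVal_cons]⟩
      simp only [kIns, List.mem_singleton] at hp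
      subst hp; exact hi
    | cons p l =>
      obtain ⟨j, b⟩ := p
      have hj : j < E.num := hl (j, b) (List.mem_cons_self ..)
      have hl' : ∀ p ∈ l, p.1 < E.num := fun p hp => hl p (List.mem_cons_of_mem _ hp)
      rw [kIns]
      cases hlt : Nat.blt (W.rk i) (W.rk j)
      case true =>
        rw [cond_true]
        refine ⟨fun p hp => ?_, by rw [qVal_cons]⟩
        rcases List.mem_cons.1 hp with rfl | hp
        · exact hi
        · exact hl p hp
      rw [cond_false]
      cases heq : Nat.beq i j
      case true =>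
        rw [cond_true]
        obtain rfl : i = j := Nat.eq_of_beq_eq_true heq
        have hv : xg X.cert (E.num + i) (qEval e a) * qVal X.cert E e ((i, b) :: l) =
            xg X.cert (E.num + i) (qEval e (qAdd a b)) * qVal X.cert E e l := by
          rw [qVal_cons, ← mul_assoc, xg_add, qEval_add]
        split
        · rename_i h0
          refine ⟨hl', ?_⟩
          rw [hv, h0]
          simp [qEval, xg_zero]
        · rename_i m p h0
          refine ⟨fun q hq => ?_, ?_⟩
          · rcases List.mem_cons.1 hq with rfl | hq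
            · exact hi
            · exact hl' q hq
          · rw [hv, qVal_cons, h0]
      rw [cond_false]
      have hne : i ≠ j := fun h => by simp [h] at heq
      obtain ⟨hneg, hcase⟩ := en_terms X.cert X.full hW.tbl hi hj hne
      have h2 := k_two X hW
      have hs := xg_swap X.cert X.full (F := F) (r := E.num + j) (s := E.num + i) (by omega) (by omega) (by omega)
        hneg (qEval e b) (qEval e a)
      set l₂ := (match E.sum i j with
        | 0 => l
        | c + 1 => (match qMul b a with
              | [] => l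
              | m :: p => kIns E W n c (m :: p) l)) with hl₂
      have key : (∀ p ∈ l₂, p.1 < E.num) ∧ ∃ z : GL D.Idx F,
          xg X.cert (E.num + i) (qEval e a) * xg X.cert (E.num + j) (qEval e b) =
            xg X.cert (E.num + j) (qEval e b) * xg X.cert (E.num + i) (qEval e a) * z ∧
          qVal X.cert E e l₂ = z * qVal X.cert E e l := by
        rw [hl₂]
        rcases hcase with ⟨hsum, hodd⟩ | ⟨c, hsum, -, -, hcn, hodd⟩
        · rw [hodd] at hs
          rw [hsum]
          exact ⟨hl', 1, by simpa using hs, by simp⟩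
        · rw [hodd] at hs
          simp only [List.map_cons, List.map_nil, List.prod_cons, List.prod_nil, mul_one, pow_one] at hs
          rw [← qEval_mul] at hs
          rw [hsum]
          dsimp only
          split
          · rename_i h0
            refine ⟨hl', _, hs, ?_⟩
            rw [h0]
            simp [qEval, xg_zero]
          · rename_i m p h0
            obtain ⟨h3, h4⟩ := ih c (m :: p) l hcn hl'
            refine ⟨h3, _, hs, ?_⟩
            rw [h0]
            exact h4
      obtain ⟨hl2, z, hz, hval⟩ := key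
      obtain ⟨h5, h6⟩ := ih i a l₂ hi hl2
      refine ⟨fun q hq => ?_, ?_⟩
      · rcases List.mem_cons.1 hq with rfl | hq
        · exact hj
        · exact h5 q hq
      · rw [hl₂] at h6 hval
        rw [qVal_cons]
        erw [h6, hval]
        rw [qVal_cons, ← mul_assoc (xg X.cert (E.num + i) _) (xg X.cert (E.num + j) _), hz]
        simp [mul_assoc]

theorem kNf_val (e : ℕ → F) : ∀ w : List (ℕ × QPoly), (∀ p ∈ w, p.1 < E.num) →
    (∀ p ∈ kNf E W w, p.1 < E.num) ∧ qVal X.cert E e (kNf E W w) = qVal X.cert E e w
  | [], _ => ⟨fun p hp => by simp [kNf] at hp, rfl⟩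
  | (i, a) :: w, hw => by
    obtain ⟨h1, h2⟩ := kNf_val e w fun q hq => hw q (List.mem_cons_of_mem _ hq)
    obtain ⟨h3, h4⟩ := kIns_val X hW e (E.num + 2) i a _ (hw (i, a) (List.mem_cons_self ..)) h1
    rw [kNf]
    exact ⟨h3, by rw [h4, h2, qVal_cons]⟩

theorem kWord_lt (S : ℕ) : ∀ p ∈ kWord W S, p.1 < E.num := fun p hp => by
  obtain ⟨x, hx, rfl⟩ := List.mem_map.1 hp
  exact hW.ord_lt x (List.mem_filter.1 hx).1

theorem qVal_kWord {S : ℕ} {e v : ℕ → F} (hS : ∀ x < E.num, S.testBit x = false → v x = 0)
    (he : ∀ x < E.num, e x = v x) : qVal X.cert E e (kWord W S) = kEl X E W v := by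
  rw [kWord, kSupp, kSub_val X e W.ord _ hW.nodup (kSub_filter _ _ hW.nodup)]
  refine kList_congr X fun x hx => ?_
  have hx' := hW.ord_lt x hx
  have h : ∀ l : List ℕ, eGet (l.map fun y => (y, ([[y]] : QPoly))) x = if x ∈ l then [[x]] else [] := by
    intro l
    induction l with
    | nil => simp [eGet]
    | cons y l ih =>
      simp only [List.map_cons, eGet, ih, List.mem_cons]
      by_cases hy : y = x
      · subst hy; simp
      · simp [hy, Ne.symm hy]
  rw [h]
  cases hb : S.testBit x
  · simp [hb, qEval, hS x hx' hb]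
  · simp [hb, hx, qEval_var, he x hx']

omit hW in
theorem sig_mul (a b : GL D.Idx F) : X.sig (a * b) = X.sig a * X.sig b := twSigma_mul X.symOK X.frob a b

theorem sig_kEl (v : ℕ → F) : X.sig (kEl X E W v) = kEl X E W fun x => X.frob (v (W.sg x)) := by
  rw [kEl, kEl, IvTbl.ord]
  have key : ∀ O : List (List ℕ), (∀ o ∈ O, o ∈ W.orbs) →
      X.sig (kList X E O.flatten v) = kList X E O.flatten fun x => X.frob (v (W.sg x)) := by
    intro O
    induction O with
    | nil => intro _; simp [kList, TwCtx.sig, twSigma_one]
    | cons o O ih =>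
      intro hO
      have hlt : ∀ z ∈ o, z < E.num := fun z hz => hW.ord_lt z (by
        rw [IvTbl.ord, List.mem_flatten]; exact ⟨o, hO o (List.mem_cons_self ..), hz⟩)
      have hrest := ih fun p hp => hO p (List.mem_cons_of_mem _ hp)
      rcases hW.orbs o (hO o (List.mem_cons_self ..)) with ⟨x, rfl, hx⟩ | ⟨x, y, rfl, hxy⟩
      · simp only [List.flatten_cons, List.cons_append, List.nil_append, kList, List.map_cons, List.prod_cons]
          at hrest ⊢
        rw [sig_mul, hrest, sig_xg X hW (hlt x (by simp)), hx]
      · have hx := hlt x (by simp)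
        have hy := hW.sg_sg x hx
        rw [hxy] at hy
        simp only [List.flatten_cons, List.cons_append, List.nil_append, kList, List.map_cons, List.prod_cons]
          at hrest ⊢
        rw [sig_mul, sig_mul, hrest, sig_xg X hW hx, sig_xg X hW (hlt y (by simp)), hxy, hy, ← mul_assoc,
          ← mul_assoc]
        congr 1
        have := xg_pair_comm X hW hx (X.frob (v y)) (X.frob (v x))
        rw [hxy] at this
        exact this.eq.symm
  exact key W.orbs fun o ho => ho

theorem kEl_fixed_iff {v : ℕ → F} :
    X.sig (kEl X E W v) = kEl X E W v ↔ ∀ x < E.num, X.frob (v (W.sg x)) = v x := by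
  rw [sig_kEl X hW]
  exact ⟨kEl_inj X hW, fun h => kList_congr X fun x hx => h x (hW.ord_lt x hx)⟩

/-- A fixed product has conjugate coordinates along orbits. -/
theorem kEl_fixed {v : ℕ → F} (h : X.sig (kEl X E W v) = kEl X E W v) :
    ∀ x < E.num, v (W.sg x) = X.frob (v x) := by
  intro x hx
  have := (kEl_fixed_iff X hW).1 h (W.sg x) (hW.sg_lt x hx)
  rw [hW.sg_sg x hx] at this
  exact this.symm

end Cfsg.Lib.Chev
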