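import Cfsg.Agent.Lib.Chev.InvCheck
import Cfsg.Agent.Lib.Chev.GraphAll

/-!
A checker of reduction trees for the involutions fixed by a twisting endomorphism of order two in the positive
unipotent group. Products are ordered along the orbits of the symmetry on positive roots.
-/

set_option autoImplicit false
set_option maxRecDepth 100000

namespace Cfsg.Lib.Chev

/-- The symmetry on positions, the rank of each position, and the orbits in increasing order. -/
structure IvTbl where
  sgN : ℕ
  rkN : ℕ
  orbs : List (List ℕ)

/-- The image of a position. -/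
def IvTbl.sg (W : IvTbl) (x : ℕ) : ℕ := slot W.sgN 8 x

/-- The rank of a position. -/
def IvTbl.rk (W : IvTbl) (x : ℕ) : ℕ := slot W.rkN 8 x

/-- The positions in increasing order. -/
def IvTbl.ord (W : IvTbl) : List ℕ := W.orbs.flatten

/-- The mask of the positions of rank below `k`. -/
def IvTbl.below (W : IvTbl) (k : ℕ) : ℕ := (W.ord.take k).foldr (fun x s => 2 ^ x ||| s) 0

/-- The orbit of a position. -/
def IvTbl.orbOf (W : IvTbl) (q : ℕ) : List ℕ := bif Nat.beq (W.sg q) q then [q] else [q, W.sg q]

/-- The positions outside the lower terms form ideals, and the orbits are those of the symmetry. -/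
noncomputable def chkIv (T : Tbl) (S : Sym) (E : EnTbl) (W : IvTbl) : Bool :=
  (List.range E.num).all (fun x => Nat.blt (W.sg x) E.num && (Nat.beq (W.sg (W.sg x)) x &&
    (Nat.beq (S.root (E.num + x)) (E.num + W.sg x) && (Nat.beq (E.sum x (W.sg x)) 0 &&
      (W.ord.contains x && Nat.beq (W.ord.getD (W.rk x) 0) x))))) &&
  (W.ord.all (fun x => Nat.blt x E.num) && (decide W.ord.Nodup && Nat.beq W.ord.length E.num)) &&
  (W.orbs.all (fun o => match o with
    | [x] => Nat.beq (W.sg x) x
    | [x, y] => Nat.beq (W.sg x) y
    | _ => false) &&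
  allBelow (fun k => chkMask E (W.below k)) (E.num + 1))

/-- Insert from the left into a product ordered by rank. -/
def kIns (E : EnTbl) (W : IvTbl) : ℕ → ℕ → QPoly → List (ℕ × QPoly) → List (ℕ × QPoly)
  | 0, i, a, l => (i, a) :: l
  | _ + 1, i, a, [] => [(i, a)]
  | n + 1, i, a, (j, b) :: l =>
    bif Nat.blt (W.rk i) (W.rk j) then (i, a) :: (j, b) :: l
    else bif Nat.beq i j then
      (match qAdd a b with
        | [] => l
        | m :: p => (j, m :: p) :: l)
    else (j, b) :: kIns E W n i a
      (match E.sum i j with
        | 0 => l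
        | c + 1 =>
            (match qMul b a with
              | [] => l
              | m :: p => kIns E W n c (m :: p) l))

/-- The normal form of a word. -/
def kNf (E : EnTbl) (W : IvTbl) : List (ℕ × QPoly) → List (ℕ × QPoly)
  | [] => []
  | (i, a) :: w => kIns E W (E.num + 2) i a (kNf E W w)

/-- The positions form a part of the list, in its order. -/
def kSub : List ℕ → List (ℕ × QPoly) → Bool
  | _, [] => true
  | [], _ :: _ => false
  | x :: L, (i, a) :: y => bif Nat.beq i x then kSub L y else kSub L ((i, a) :: y)

/-- Steps on fixed products with parameters one. -/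
inductive IvStep where
  | add (q : ℕ)
  | perm (Js : List ℕ)

/-- Steps of a reduction; the mode of `kill` tells how the parameter is chosen. -/
inductive IvOp where
  | one
  | sq (x : ℕ) (ch : List (ℕ × ℕ))
  | kill (q r j : ℕ) (mode ex : ℕ) (c : ℕ)
  | refl (J c : ℕ)
  | add (q c : ℕ)
  | split (r c₀ c₁ : ℕ)
  | norm (m : ℕ) (Z : List (List ℤ)) (st : List IvStep) (c : ℕ)
  | rep (m : ℕ) (Z : List (List ℤ)) (st : List IvStep)

/-- A node: the possible support, the certain support, and the step. -/
abbrev IvNode := ℕ × ℕ × IvOp

/-- The positions in the support, in order. -/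
def kSupp (W : IvTbl) (S : ℕ) : List ℕ := W.ord.filter (Nat.testBit S)

/-- The generic word of a support. -/
def kWord (W : IvTbl) (S : ℕ) : List (ℕ × QPoly) := (kSupp W S).map fun x => (x, [[x]])

/-- The word of the orbit of `q` with parameters `a` and `b`. -/
def kPair (W : IvTbl) (q : ℕ) (a b : QPoly) : List (ℕ × QPoly) :=
  bif Nat.beq (W.sg q) q then [(q, a)] else [(q, a), (W.sg q, b)]

/-- The word of a list of orbit numbers, the first one acting first. -/
def kWrd (O : List (List ℕ)) (Js : List ℕ) : List ℕ := Js.reverse.flatMap fun J => O.getD J []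

/-- The images of the positions under a word are positive. -/
noncomputable def kImgOk (T : Tbl) (E : EnTbl) (O : List (List ℕ)) (Js l : List ℕ) : Bool :=
  Js.all (fun J => Nat.blt J O.length) && (kWrd O Js).all (fun i => Nat.blt i T.rank) &&
    l.all (fun x => Nat.ble E.num (wperm T (kWrd O Js) (E.num + x)) &&
      Nat.blt (wperm T (kWrd O Js) (E.num + x)) T.nroots)

/-- A step on the supports of products with parameters one. -/
noncomputable def kStep (T : Tbl) (E : EnTbl) (W : IvTbl) (O : List (List ℕ)) (l : List ℕ) :
    IvStep → Option (List ℕ)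
  | .add q =>
    let y := kNf E W (kPair W q [[]] [[]] ++ eOnes l ++ kPair W q [[]] [[]])
    bif Nat.blt q E.num && (kSub W.ord y && y.all fun p => p.2 == [[]]) then some (y.map Prod.fst) else none
  | .perm Js =>
    bif kImgOk T E O Js l then
      let y := kNf E W (eOnes (l.map (eImg T E (kWrd O Js))))
      bif kSub W.ord y && y.all (fun p => p.2 == [[]]) then some (y.map Prod.fst) else none
    else none

/-- Several steps. -/
noncomputable def kSteps (T : Tbl) (E : EnTbl) (W : IvTbl) (O : List (List ℕ)) :
    List ℕ → List IvStep → Option (List ℕ)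
  | l, [] => some l
  | l, s :: st =>
    match kStep T E W O l s with
    | none => none
    | some l' => kSteps T E W O l' st

/-- The torus parameters are compatible with the symmetry. -/
noncomputable def kTorusSym (T : Tbl) (S : Sym) (W : IvTbl) (l : List ℕ) (Z : List (List ℤ)) : Bool :=
  allBelow (fun a =>
    let a' := l.idxOf (W.sg (l.getD a 0))
    Nat.blt a' l.length && allBelow (fun i =>
      decide ((Z.getD a' []).getD i 0 = (Z.getD a []).getD (S.pI.getD i 0) 0)) T.rank) l.length

/-- The earlier node covers the values `y`, the orbit of `skip` excepted. -/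
def kCovers (E : EnTbl) (W : IvTbl) (look : ℕ → Option IvNode) (k c skip N : ℕ) (y : List (ℕ × QPoly)) : Bool :=
  Nat.blt c k && kSub W.ord y &&
  (match look c with
    | none => false
    | some (S', N', _) => y.all (fun p => S'.testBit p.1 || (Nat.blt skip E.num &&
        (Nat.beq p.1 skip || Nat.beq p.1 (W.sg skip)))) && Nat.beq (N' &&& eGood E N y) N')

/-- The conjugate of a monomial, sorted. -/
def kConj (W : IvTbl) (mo : List ℕ) : List ℕ := qmMul (mo.map W.sg) []

/-- `d` is a power `2 ^ j` of the variable `t` times certain variables. -/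
def kMono (E : EnTbl) (N t j : ℕ) (d : List ℕ) : Bool :=
  Nat.beq (d.filter fun v => Nat.beq v t).length (2 ^ j) &&
    d.all fun v => Nat.beq v t || (Nat.blt v E.num && N.testBit v)

/-- The target of a kill step can be reached. -/
def kShape (E : EnTbl) (W : IvTbl) (S N q r j mode ex : ℕ) (p : QPoly) : Bool :=
  match mode, p with
  | 0, [m₁, m₂] =>
      let d := bif qmEq m₁ [r] then m₂ else m₁
      let rest := d.filter fun v => !Nat.beq v E.num
      let A := qmMul [W.sg r] rest
      let B := qmMul [r] (kConj W rest)
      (qmEq m₁ [r] || qmEq m₂ [r]) && kMono E N E.num j d &&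
        (qmEq A B || (match kNf E W (kWord W S ++ kWord W S) with
          | y => kSub W.ord y && (Nat.blt ex E.num && (match eGet y ex with
            | [n₁, n₂] => (qmEq n₁ A && qmEq n₂ B) || (qmEq n₁ B && qmEq n₂ A)
            | _ => false))))
  | 1, [m₁, m₂] =>
      let d := bif qmEq m₁ [r] then m₂ else m₁
      !Nat.beq (W.sg q) q && (qmEq m₁ [r] || qmEq m₂ [r]) && kMono E N E.num j d
  | 2, [m₁, m₂, m₃] =>
      let rs := [m₁, m₂, m₃].filter fun m => !qmEq m [r]
      !Nat.beq (W.sg q) q && Nat.beq (W.sg r) r &&
      (match rs with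
        | [a, b] =>
            let ok := fun a b : List ℕ => kMono E N E.num j a &&
              qmEq b (qmMul (a.map fun v => bif Nat.beq v E.num then E.num + 1 else W.sg v) [])
            ok a b || ok b a
        | _ => false)
  | _, _ => false

/-- One node is correct, given the earlier ones. -/
noncomputable def kNodeOk (T : Tbl) (Y : Sym) (E : EnTbl) (W : IvTbl) (O : List (List ℕ)) (R : List (List ℕ))
    (look : ℕ → Option IvNode) (k : ℕ) : IvNode → Bool
  | (S, _, .one) => Nat.beq (S &&& (2 ^ E.num - 1)) 0
  | (S, N, .sq x ch) =>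
      let y := kNf E W (kWord W S ++ kWord W S)
      Nat.blt x E.num && kSub W.ord y &&
      (match eGet y x with
        | [mo] => mo.all (fun v => Nat.blt v E.num && (N.testBit v || ch.any fun p => Nat.beq p.1 v ||
            (Nat.blt p.1 E.num && Nat.beq (W.sg p.1) v))) &&
            ch.all fun p => Nat.blt p.1 E.num && kCovers E W look k p.2 p.1 N (kWord W S)
        | _ => false)
  | (S, N, .kill q r j mode ex c) =>
      let b : QPoly := bif Nat.beq mode 0 then [[E.num]] else [[E.num + 1]]
      let y := kNf E W (kPair W q [[E.num]] b ++ kWord W S ++ kPair W q [[E.num]] b)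
      Nat.blt q E.num && Nat.blt r E.num && kShape E W S N q r j mode ex (eGet y r) &&
      kCovers E W look k c r N y
  | (S, N, .refl J c) =>
      kImgOk T E O [J] (kSupp W S) &&
      kCovers E W look k c E.num N (kNf E W ((kSupp W S).map fun x => (eImg T E (kWrd O [J]) x, [[x]])))
  | (S, N, .add q c) =>
      Nat.blt q E.num && kCovers E W look k c E.num N (kNf E W (kPair W q [[]] [[]] ++ kWord W S ++ kPair W q [[]] [[]]))
  | (S, N, .split r c₀ c₁) =>
      Nat.blt r E.num && kCovers E W look k c₀ r N (kWord W S) &&
        kCovers E W look k c₁ E.num (N ||| (2 ^ r ||| 2 ^ W.sg r)) (kWord W S)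
  | (S, N, .norm m Z st c) =>
      Nat.beq (S &&& (2 ^ E.num - 1)) N && eTorusOk T E (kSupp W N) m Z && kTorusSym T Y W (kSupp W N) Z &&
      (match kSteps T E W O (kSupp W N) st with
        | none => false
        | some l => kCovers E W look k c E.num 0 (eOnes l))
  | (S, N, .rep m Z st) =>
      Nat.beq (S &&& (2 ^ E.num - 1)) N && eTorusOk T E (kSupp W N) m Z && kTorusSym T Y W (kSupp W N) Z &&
      (match kSteps T E W O (kSupp W N) st with
        | none => false
        | some l => R.any fun r => qmEq r l)

/-- Lookup in a tree cut into parts of one hundred nodes. -/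
def kLook (P : List (List IvNode)) (c : ℕ) : Option IvNode := ((P.getD (c / 100) []))[c % 100]?

/-- The node covers every fixed element. -/
def kRootOk (E : EnTbl) (P : List (List IvNode)) (root : ℕ) : Bool :=
  match kLook P root with
  | none => false
  | some (S, N, _) => Nat.beq (S &&& (2 ^ E.num - 1)) (2 ^ E.num - 1) && Nat.beq N 0

/-- The nodes from `lo` on, `len` of them, are correct. -/
noncomputable def kTreeOk (T : Tbl) (Y : Sym) (E : EnTbl) (W : IvTbl) (O : List (List ℕ)) (R : List (List ℕ))
    (P : List (List IvNode)) (lo len : ℕ) : Bool :=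
  allBelow (fun k => match kLook P (lo + k) with
    | none => true
    | some nd => kNodeOk T Y E W O R (kLook P) (lo + k) nd) len

end Cfsg.Lib.Chev
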