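import Cfsg.Agent.Lib.Chev.TwInvTree
import Cfsg.Agent.Lib.Chev.InvTblE6
import Cfsg.Agent.Lib.Chev.GraphAll

/-!
The reduction of the involutions of the twisted group of type E6 is correct.
-/

set_option autoImplicit false
set_option maxRecDepth 100000

namespace Cfsg.Lib.Chev

theorem ivE6P_ok0 : kTreeOk tblE6 symE6_1 enE6 ivE6 ivE6O ivE6R ivE6P 0 100 = true := by decide +kernel

theorem ivE6P_ok1 : kTreeOk tblE6 symE6_1 enE6 ivE6 ivE6O ivE6R ivE6P 100 100 = true := by decide +kernel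

theorem ivE6P_ok2 : kTreeOk tblE6 symE6_1 enE6 ivE6 ivE6O ivE6R ivE6P 200 100 = true := by decide +kernel

theorem ivE6P_ok3 : kTreeOk tblE6 symE6_1 enE6 ivE6 ivE6O ivE6R ivE6P 300 100 = true := by decide +kernel

theorem ivE6P_ok4 : kTreeOk tblE6 symE6_1 enE6 ivE6 ivE6O ivE6R ivE6P 400 100 = true := by decide +kernel

theorem ivE6_ok : chkIv tblE6 symE6_1 enE6 ivE6 = true := by decide +kernel

theorem ivE6P_all : ∀ i < ivE6P.length, kTreeOk tblE6 symE6_1 enE6 ivE6 ivE6O ivE6R ivE6P (100 * i) 100 = true := by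
  intro i hi
  rw [show ivE6P.length = 5 from rfl] at hi
  interval_cases i
  · exact ivE6P_ok0
  · exact ivE6P_ok1
  · exact ivE6P_ok2
  · exact ivE6P_ok3
  · exact ivE6P_ok4

end Cfsg.Lib.Chev
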