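import Cfsg.Agent.Lib.Chev.TwInvSound
import Cfsg.Agent.Lib.Chev.TwInvTreeOk
import Cfsg.Agent.Lib.Chev.InvClassesE6
import Cfsg.Agent.Lib.Chev.TwE6

/-!
The twisted group of type E6 over the field with `q ^ 2` elements, `q` even, has three classes of involutions.
-/

set_option autoImplicit false
set_option maxRecDepth 100000

namespace Cfsg.Lib.Chev

open Cfsg.Lie

theorem ivE6_root : kRootOk enE6 ivE6P 441 = true := by
  decide +kernel

theorem ivE6R_ok : invRepsOk chevE6 tblE6 enE6 ivE6R enE6L = true := by decide +kernel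

theorem ivE6L_mem : enE6L.all (fun l => ivE6R.any fun r => decide (l.Perm (r.map fun x => enE6.num + x))) = true := by
  decide +kernel

theorem ivE6R_sym : ivE6R.all (fun r => kSub ivE6.ord (eOnes r) && r.all fun x => r.contains (ivE6.sg x)) = true := by
  decide +kernel

theorem ivE6O_lw : (List.range ivE6O.length).all (fun J => Nat.blt J twE6.norb &&
    decide (ivE6O.getD J [] = twE6.lw J)) = true := by
  decide +kernel

/-- The classes of involutions of ²E₆(q) for even q. -/
theorem twE6_involution_classes {K : Type*} [Field K] [Fintype K] [CharP K 2] {q : ℕ}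
    (hK : Fintype.card K = q ^ 2) :
    (ConjClasses.mk '' {g : ↥(Cfsg.Lie.twistedE6 K q) | orderOf g = 2}).ncard = 3 := by
  classical
  have hq : IsPrimePow q :=
    (isPrimePow_pow_iff (by norm_num : (2 : ℕ) ≠ 0)).1 (hK ▸ Fintype.isPrimePow_card_of_field)
  obtain ⟨f, h, heq, -⟩ := twistedE6_facts hq hK
  haveI : Fact (Nat.Prime 2) := ⟨Nat.prime_two⟩
  have hK' : Nat.card K = q ^ 2 := by rw [Nat.card_eq_fintype_card, hK]
  have hpow : ∀ t : K, t ^ q ^ 2 = t := fun t => hK ▸ FiniteField.pow_card t
  have hf : ∀ t : K, f t = t ^ q := by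
    intro t
    have hcoe : ((xg certE6C e6p1 t * xg certE6C e6p6 (t ^ q) : GL chevE6.Idx K) : Matrix chevE6.Idx chevE6.Idx K) =
        chevE6.wordMat K [(e6p1, t), (e6p6, t ^ q)] := by simp [ChevalleyDatum.wordMat, coe_xg]
    have hmem : xg certE6C e6p1 t * xg certE6C e6p6 (t ^ q) ∈ h.fixed certE6C := by
      rw [← heq]
      exact Subgroup.subset_closure ⟨_, Or.inr ⟨t, (e6p1, e6p6), by simp, rfl⟩, hcoe⟩
    have hfix := hmem.2
    have hn : e6p1 < chevE6.nroots ∧ e6p6 < chevE6.nroots := by decide +kernel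
    have hr : symE6_1.root e6p1 = e6p6 ∧ symE6_1.root e6p6 = e6p1 := by decide +kernel
    have hcast : ∀ r < chevE6.nroots, ((symE6_1.eps r : ℤ) : K) = 1 := fun r hr => by
      rcases symOKE6_gr.eps_cases r hr with h | h <;> simp [h, CharTwo.neg_eq]
    rw [twSigma_mul, twSigma_xg certE6C symOKE6_gr f hn.1, twSigma_xg certE6C symOKE6_gr f hn.2, hcast _ hn.1,
      hcast _ hn.2, one_mul, one_mul, hr.1, hr.2] at hfix
    have hcomm : Commute (xg certE6C e6p6 (f t)) (xg certE6C e6p1 (f (t ^ q))) :=
      xg_commute certE6C fullCertE6.comm hn.2 hn.1 (by decide +kernel) (by decide +kernel) (by decide +kernel) _ _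
    rw [hcomm.eq] at hfix
    have := lprod_inj certE6C fullCertE6.comm (l := [e6p1, e6p6]) (by decide +kernel)
      (t := fun r => if r = e6p1 then f (t ^ q) else f t) (u := fun r => if r = e6p1 then t else t ^ q)
      (fun r hr => by
        simp only [List.mem_cons, List.not_mem_nil, or_false] at hr
        rcases hr with rfl | rfl <;> decide +kernel)
      (by simpa [lprod, show e6p6 ≠ e6p1 by decide] using hfix) e6p6 (by simp)
    simpa [show e6p6 ≠ e6p1 by decide] using this
  let X : TwCtx chevE6 tblE6 K :=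
    { sym := symE6_1
      tw := twE6
      deg := 2
      frob := f
      q := q
      cert := certE6C
      full := fullCertE6
      symOK := symOKE6_gr
      comb := twCombE6
      linked := twLinkedE6
      simply := twSimplyE6
      hq := hq
      card := hK'
      deg_pos := by norm_num
      iter := fun j => by
        induction j with
        | zero => intro t; simp
        | succ j ih => intro t; rw [Function.iterate_succ_apply', ih, hf, ← pow_mul, pow_succ]
      torus := fun c => hZE6 (fun t => by simp [hf, ← pow_mul, ← sq, hpow]) c }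
  have hgrp : Cfsg.Lie.twistedE6 K q = X.grp := heq
  have hdeg : ∀ t : K, X.frob (X.frob t) = t := fun t => X.deg_per t
  have hne : ∃ t : K, X.frob t ≠ t := by
    by_contra hall
    push Not at hall
    obtain ⟨g, hg⟩ := IsCyclic.exists_generator (α := Kˣ)
    have h1 : orderOf g = q ^ 2 - 1 := by rw [orderOf_eq_card_of_forall_mem_zpowers hg, Nat.card_units, hK']
    have h2 : g ^ (q - 1) = 1 := by
      have e : g ^ q = g := Units.ext (by rw [Units.val_pow_eq_pow_val, ← hf]; exact hall _)
      refine mul_left_cancel (a := g) ?_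
      rw [mul_one, ← pow_succ', Nat.sub_add_cancel (show 1 ≤ q from hq.two_le.trans' one_le_two), e]
    have h3 := Nat.le_of_dvd (by have := hq.two_le; omega) (h1 ▸ orderOf_dvd_of_pow_eq_one h2)
    have h4 := hq.two_le
    have h5 : 2 * q ≤ q ^ 2 := by nlinarith
    omega
  rw [hgrp]
  have hW : IvOK X enE6 ivE6 := ivOK_of_chk X chkEn_E6 ivE6_ok
  have hO : OrbWords X ivE6O := fun J hJ => by
    have := List.all_eq_true.1 ivE6O_lw J (List.mem_range.2 hJ)
    simpa only [Bool.and_eq_true, Nat.blt_eq, decide_eq_true_eq] using this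
  have hinv := ivE6R_ok
  simp only [invRepsOk, Bool.and_eq_true, List.all_eq_true, List.any_eq_true, decide_eq_true_eq] at hinv
  obtain ⟨hL1, hL2⟩ := hinv
  have hrep : ∀ r ∈ ivE6R, ∀ l ∈ enE6L, l.Perm (r.map fun x => enE6.num + x) →
      (eRep certE6C K enE6 r : GL chevE6.Idx K) = lprod certE6C l fun _ => (1 : K) := fun r _ l hl hp => by
    rw [lprod_perm certE6C fullCertE6 hp (hL1 l hl).2 fun _ => (1 : K)]
    simp [eRep, lprod, Function.comp_def]
  have hmem : ∀ l ∈ enE6L, (lprod certE6C l fun _ => (1 : K)) ∈ X.grp := by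
    intro l hl
    obtain ⟨r, hr, hp⟩ := List.any_eq_true.1 (List.all_eq_true.1 ivE6L_mem l hl)
    rw [decide_eq_true_eq] at hp
    rw [← hrep r hr l hl hp]
    have hs := List.all_eq_true.1 ivE6R_sym r hr
    simp only [Bool.and_eq_true, List.all_eq_true, List.contains_iff_mem] at hs
    have hval : (eRep certE6C K enE6 r : GL chevE6.Idx K) =
        kEl X enE6 ivE6 fun x => qEval (fun _ => (0 : K)) (eGet (eOnes r) x) := by
      rw [show kEl X enE6 ivE6 (fun x => qEval (fun _ => (0 : K)) (eGet (eOnes r) x)) =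
        qVal X.cert enE6 (fun _ => (0 : K)) (eOnes r) from (kSub_val X _ ivE6.ord _ hW.nodup hs.1).symm,
        qVal_ones X.cert enE6 _ fun p hp => by obtain ⟨x, -, rfl⟩ := List.mem_map.1 hp; rfl]
      simp [eOnes, Function.comp_def]
    have hget : ∀ x, eGet (eOnes r) x = if x ∈ r then [[]] else [] := by
      intro x
      clear hval hs hp hr
      induction r with
      | nil => simp [eOnes, eGet]
      | cons y l ih =>
        simp only [eOnes, List.map_cons, eGet, List.mem_cons] at ih ⊢
        by_cases hy : y = x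
        · subst hy; simp
        · simp [hy, Ne.symm hy, ih]
    refine mem_grp X (list_prod_mem fun y hy => ?_) ?_
    · obtain ⟨x, -, rfl⟩ := List.mem_map.1 hy
      exact xg_mem_group certE6C _ _
    rw [hval]
    refine (kEl_fixed_iff X hW).2 fun x hx => ?_
    have hiff : ivE6.sg x ∈ r ↔ x ∈ r := by
      refine ⟨fun h => ?_, hs.2 x⟩
      have := hs.2 _ h
      rwa [hW.sg_sg x hx] at this
    rw [hget, hget]
    by_cases hxr : x ∈ r
    · rw [if_pos hxr, if_pos (hiff.2 hxr), qEval_one, map_one]
    · rw [if_neg hxr, if_neg (fun h => hxr (hiff.1 h))]; simp [qEval]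
  let F₀ : {l // l ∈ enE6L} → ↥X.grp := fun l => ⟨lprod certE6C l.1 fun _ => (1 : K), hmem l.1 l.2⟩
  have hord : ∀ l, orderOf (F₀ l) = 2 := fun l => by
    rw [← Subgroup.orderOf_coe]
    exact (reps_group_two certE6C fullCertE6 chkEn_E6 ivE6R_ok l.2).2
  have himg : ConjClasses.mk '' {g : ↥X.grp | orderOf g = 2} = Set.range (ConjClasses.mk ∘ F₀) := by
    ext x
    constructor
    · rintro ⟨g, hg, rfl⟩
      have hgg : (g : GL chevE6.Idx K) * g = 1 := by
        have := congrArg Subtype.val (show g * g = 1 by rw [← sq, ← (show orderOf g = 2 from hg), pow_orderOf_eq_one])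
        simpa using this
      rcases kGroup_reach X hW hdeg hne hO ivE6P_all ivE6_root g.2 hgg with h1 | ⟨c, hc, r, hr, e⟩
      · have : orderOf g = 1 := orderOf_eq_one_iff.2 (Subtype.ext h1)
        rw [show orderOf g = 2 from hg] at this
        norm_num at this
      obtain ⟨l, hl, hp⟩ := hL2 r hr
      refine ⟨⟨l, hl⟩, (ConjClasses.mk_eq_mk_iff_isConj.2 (isConj_iff.2 ⟨⟨c, hc⟩, Subtype.ext ?_⟩)).symm⟩
      exact e.trans (hrep r hr l hl hp)
    · rintro ⟨l, rfl⟩
      exact ⟨F₀ l, hord l, rfl⟩
  have hinj : Function.Injective (ConjClasses.mk ∘ F₀) := by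
    intro a b h
    obtain ⟨c, hc⟩ := isConj_iff.1 (ConjClasses.mk_eq_mk_iff_isConj.1 h)
    exact Subtype.ext (reps_separated certE6C enE6_ranks enE6_ranks_nodup a.2 b.2 (congrArg Subtype.val hc))
  rw [himg, Set.ncard_range_of_injective hinj, Nat.card_eq_fintype_card,
    Fintype.card_of_subtype enE6L.toFinset (fun x => List.mem_toFinset), List.toFinset_card_of_nodup (by decide)]
  rfl

end Cfsg.Lib.Chev
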