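import Cfsg.Agent.Lib.Chev.TwInvBase

/-!
Fixed elements used by the reduction steps: pairs of root elements, words of reflections along orbits, torus elements.
-/

set_option autoImplicit false
set_option linter.unusedSectionVars false

namespace Cfsg.Lib.Chev

open Cfsg.Lie

variable {D : ChevalleyDatum} {T : Tbl} {F : Type*} [Field F] [CharP F 2] [Finite F] (X : TwCtx D T F) {E : EnTbl}
  {W : IvTbl}

/-- The words of the orbits on fundamental roots. -/
def OrbWords (O : List (List ℕ)) : Prop := ∀ J < O.length, J < X.tw.norb ∧ O.getD J [] = X.tw.lw J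

theorem mem_grp {g : GL D.Idx F} (h1 : g ∈ D.group F) (h2 : X.sig g = g) : g ∈ X.grp := ⟨h1, h2⟩

variable (hW : IvOK X E W) (hdeg : ∀ t : F, X.frob (X.frob t) = t)
include hW hdeg

/-- Products over an orbit with suitable parameters are fixed. -/
theorem kPair_el {q : ℕ} (hq : q < E.num) (a b : QPoly) (e : ℕ → F)
    (h : if W.sg q = q then X.frob (qEval e a) = qEval e a else qEval e b = X.frob (qEval e a)) :
    qVal X.cert E e (kPair W q a b) ∈ X.grp ∧
      (qVal X.cert E e (kPair W q a b))⁻¹ = qVal X.cert E e (kPair W q a b) ∧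
      ∀ p ∈ kPair W q a b, p.1 < E.num := by
  have hs := hW.sg_lt q hq
  by_cases hqq : W.sg q = q
  · rw [if_pos hqq] at h
    simp only [kPair, hqq, Nat.beq_refl, cond_true]
    refine ⟨mem_grp X ?_ ?_, ?_, by simp [hq]⟩
    · simpa [qVal] using xg_mem_group X.cert _ _
    · simp [qVal, sig_xg X hW hq, hqq, h]
    · simp [qVal, xg_inv, CharTwo.neg_eq]
  · rw [if_neg hqq] at h
    simp only [kPair, beq_false_ne hqq, cond_false]
    refine ⟨mem_grp X ?_ ?_, ?_, by simp [hq, hs]⟩
    · simpa [qVal] using mul_mem (xg_mem_group X.cert _ _) (xg_mem_group X.cert _ _)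
    · simp only [qVal, List.map_cons, List.map_nil, List.prod_cons, List.prod_nil, mul_one]
      rw [sig_mul, sig_xg X hW hq, sig_xg X hW hs, hW.sg_sg q hq, h, hdeg]
      exact (xg_pair_comm X hW hq _ _).eq.symm
    · simp only [qVal, List.map_cons, List.map_nil, List.prod_cons, List.prod_nil, mul_one]
      rw [mul_inv_rev, xg_inv, xg_inv, CharTwo.neg_eq, CharTwo.neg_eq]
      exact (xg_pair_comm X hW hq _ _).eq.symm

theorem kPair_sandwich {q : ℕ} (hq : q < E.num) (a b : QPoly) (e : ℕ → F)
    (h : if W.sg q = q then X.frob (qEval e a) = qEval e a else qEval e b = X.frob (qEval e a))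
    {w : List (ℕ × QPoly)} (hw : ∀ p ∈ w, p.1 < E.num) :
    ∃ g ∈ X.grp, qVal X.cert E e (kNf E W (kPair W q a b ++ w ++ kPair W q a b)) =
      g * qVal X.cert E e w * g⁻¹ := by
  obtain ⟨hg, hinv, hlt⟩ := kPair_el X hW hdeg hq a b e h
  refine ⟨_, hg, ?_⟩
  rw [hinv, (kNf_val X hW e _ fun p hp => ?_).2, qVal_append, qVal_append]
  rcases List.mem_append.1 hp with hp | hp
  · rcases List.mem_append.1 hp with hp | hp
    · exact hlt p hp
    · exact hw p hp
  · exact hlt p hp

omit hW hdeg in
theorem wnu_lw_fixed {J : ℕ} (hJ : J < X.tw.norb) :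
    X.sig (wnu X.cert F (X.tw.lw J)) = wnu X.cert F (X.tw.lw J) := by
  obtain ⟨-, h2⟩ := X.simply.exists_nGen X.cert X.symOK X.frob X.full X.comb hJ (v := (1 : F))
    (iterate_map_one X.frob _)
  have e : ∀ l : List ℕ, nGen X.cert X.frob (l.map T.simp') (1 : F) = wnu X.cert F l := by
    intro l
    induction l with
    | nil => simp [nGen, wnu]
    | cons a l ih => rw [List.map_cons, nGen, map_one, ih, wnu_cons]; rfl
  rw [X.simply.base_eq J hJ, e] at h2
  rwa [X.simply.lw_eq J hJ]

omit hdeg in
theorem kImg_conj {O : List (List ℕ)} (hO : OrbWords X O) {Js l : List ℕ} (h : kImgOk T E O Js l = true) :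
    wnu X.cert F (kWrd O Js) ∈ X.grp ∧ ∀ x ∈ l, x < E.num → eImg T E (kWrd O Js) x < E.num ∧
      ∀ t : F, wnu X.cert F (kWrd O Js) * xg X.cert (E.num + x) t * (wnu X.cert F (kWrd O Js))⁻¹ =
        xg X.cert (E.num + eImg T E (kWrd O Js) x) t := by
  have h2 := k_two X hW
  simp only [kImgOk, Bool.and_eq_true, List.all_eq_true, Nat.blt_eq, Nat.ble_eq, X.cert.spec.shape.rank_eq,
    X.cert.spec.shape.nroots_eq] at h
  obtain ⟨⟨hJs, hw⟩, himg⟩ := h
  refine ⟨mem_grp X (wnu_mem_group X.cert hw) ?_, fun x hx hxn => ?_⟩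
  · have key : ∀ L : List ℕ, (∀ J ∈ L, J < O.length) →
        X.sig (wnu X.cert F (L.flatMap fun J => O.getD J [])) = wnu X.cert F (L.flatMap fun J => O.getD J []) := by
      intro L
      induction L with
      | nil => intro _; simp [wnu, TwCtx.sig, twSigma_one]
      | cons J L ih =>
        intro hL
        obtain ⟨hJ, e⟩ := hO J (hL J (List.mem_cons_self ..))
        rw [List.flatMap_cons, wnu_append, sig_mul, ih fun J hJ => hL J (List.mem_cons_of_mem _ hJ), e,
          wnu_lw_fixed X hJ]
    exact key Js.reverse fun J hJ => hJs J (List.mem_reverse.1 hJ)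
  · obtain ⟨c, hc, hct⟩ := wnu_conj_xg (F := F) X.cert hw (show E.num + x < D.nroots by omega)
    have hc1 : c = 1 := by
      have : (c - 1) ^ 2 = 0 := by linear_combination hc - (c - 1) * CharTwo.two_eq_zero (R := F)
      exact sub_eq_zero.1 (pow_eq_zero_iff two_ne_zero |>.1 this)
    obtain ⟨h3, h4⟩ := himg x hx
    refine ⟨by unfold eImg; omega, fun t => ?_⟩
    rw [hct, hc1, one_mul,
      show E.num + eImg T E (kWrd O Js) x = wperm T (kWrd O Js) (E.num + x) by unfold eImg; omega]

theorem kStep_conj {O : List (List ℕ)} (hO : OrbWords X O) {l l' : List ℕ} {s : IvStep}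
    (h : kStep T E W O l s = some l') (hl : ∀ x ∈ l, x < E.num) :
    (∀ x ∈ l', x < E.num) ∧ ∃ g ∈ X.grp, eRep X.cert F E l' = g * eRep X.cert F E l * g⁻¹ := by
  have hones : ∀ m : List ℕ, qVal X.cert E (fun _ => (0 : F)) (eOnes m) = eRep X.cert F E m := fun m => by
    rw [qVal_ones X.cert E _ (y := eOnes m) (fun p hp => by obtain ⟨x, -, rfl⟩ := List.mem_map.1 hp; rfl)]
    simp [eOnes, Function.comp_def]
  have hout : ∀ w : List (ℕ × QPoly), (∀ p ∈ w, p.1 < E.num) → (∀ p ∈ kNf E W w, p.2 = [[]]) →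
      (∀ x ∈ (kNf E W w).map Prod.fst, x < E.num) ∧
        eRep X.cert F E ((kNf E W w).map Prod.fst) = qVal X.cert E (fun _ => (0 : F)) (kNf E W w) := by
    intro w hw hall
    refine ⟨fun x hx => ?_, (qVal_ones X.cert E _ hall).symm⟩
    obtain ⟨p, hp, rfl⟩ := List.mem_map.1 hx
    exact (kNf_val X hW (fun _ => (0 : F)) w hw).1 p hp
  cases s with
  | add q =>
    simp only [kStep] at h
    cases hok : Nat.blt q E.num && (kSub W.ord (kNf E W (kPair W q [[]] [[]] ++ eOnes l ++ kPair W q [[]] [[]])) &&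
      (kNf E W (kPair W q [[]] [[]] ++ eOnes l ++ kPair W q [[]] [[]])).all fun p => p.2 == [[]])
    · rw [hok] at h; simp at h
    rw [hok, cond_true, Option.some.injEq] at h
    simp only [Bool.and_eq_true, Nat.blt_eq, List.all_eq_true, beq_iff_eq] at hok
    obtain ⟨hq, -, hall⟩ := hok
    subst h
    have hw : ∀ p ∈ eOnes l, p.1 < E.num := fun p hp => by
      obtain ⟨x, hx, rfl⟩ := List.mem_map.1 hp; exact hl x hx
    have hcond : if W.sg q = q then X.frob (qEval (fun _ => (0 : F)) [[]]) = qEval (fun _ => (0 : F)) [[]]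
        else qEval (fun _ => (0 : F)) [[]] = X.frob (qEval (fun _ => (0 : F)) [[]]) := by
      split_ifs <;> simp [qEval_one]
    obtain ⟨-, -, hlt⟩ := kPair_el X hW hdeg hq [[]] [[]] (fun _ => (0 : F)) hcond
    obtain ⟨h1, h2⟩ := hout _ (fun p hp => by
      rcases List.mem_append.1 hp with hp | hp
      · rcases List.mem_append.1 hp with hp | hp
        · exact hlt p hp
        · exact hw p hp
      · exact hlt p hp) hall
    obtain ⟨g, hg, e⟩ := kPair_sandwich X hW hdeg hq [[]] [[]] (fun _ => (0 : F)) hcond hw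
    exact ⟨h1, g, hg, by rw [h2, e, hones]⟩
  | perm Js =>
    simp only [kStep] at h
    cases hok : kImgOk T E O Js l
    · simp [hok] at h
    simp only [hok, cond_true] at h
    cases hy : kSub W.ord (kNf E W (eOnes (l.map (eImg T E (kWrd O Js))))) &&
      (kNf E W (eOnes (l.map (eImg T E (kWrd O Js))))).all fun p => p.2 == [[]]
    · rw [hy] at h; simp at h
    rw [hy, cond_true, Option.some.injEq] at h
    simp only [Bool.and_eq_true, List.all_eq_true, beq_iff_eq] at hy
    obtain ⟨hg, himg⟩ := kImg_conj X hW hO hok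
    subst h
    have hw : ∀ p ∈ eOnes (l.map (eImg T E (kWrd O Js))), p.1 < E.num := fun p hp => by
      simp only [eOnes, List.map_map, List.mem_map] at hp
      obtain ⟨x, hx, rfl⟩ := hp
      exact (himg x hx (hl x hx)).1
    obtain ⟨h1, h2⟩ := hout _ hw hy.2
    refine ⟨h1, _, hg, ?_⟩
    rw [h2, (kNf_val X hW _ _ hw).2, ← hones l,
      qVal_conj X.cert E _ (wnu X.cert F (kWrd O Js)) (eImg T E (kWrd O Js)) _ fun p hp => ?_]
    · simp [eOnes, Function.comp_def]
    · obtain ⟨x, hx, rfl⟩ := List.mem_map.1 hp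
      exact (himg x hx (hl x hx)).2

theorem kSteps_conj {O : List (List ℕ)} (hO : OrbWords X O) : ∀ {st : List IvStep} {l l' : List ℕ},
    kSteps T E W O l st = some l' → (∀ x ∈ l, x < E.num) →
    (∀ x ∈ l', x < E.num) ∧ ∃ g ∈ X.grp, eRep X.cert F E l' = g * eRep X.cert F E l * g⁻¹ := by
  intro st
  induction st with
  | nil =>
    intro l l' h hl
    simp only [kSteps, Option.some.injEq] at h
    subst h
    exact ⟨hl, 1, one_mem _, by simp⟩
  | cons s st ih =>
    intro l l' h hl
    simp only [kSteps] at h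
    split at h
    · simp at h
    rename_i l₁ h₁
    obtain ⟨hl₁, g, hg, e⟩ := kStep_conj X hW hdeg hO h₁ hl
    obtain ⟨hl', g', hg', e'⟩ := ih h hl₁
    exact ⟨hl', g' * g, mul_mem hg' hg, by rw [e', e]; group⟩

omit hdeg in
/-- A fixed torus element making the certain parameters equal to one. -/
theorem kTorus_reach {l : List ℕ} (hl : ∀ x ∈ l, x < E.num) (hnd : l.Nodup) {m : ℕ} {Z : List (List ℤ)}
    (h : eTorusOk T E l m Z = true) (hsym : kTorusSym T X.sym W l Z = true) {v : ℕ → F}
    (hv : ∀ x ∈ l, v x ≠ 0) (heq : ∀ x < E.num, v (W.sg x) = X.frob (v x)) :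
    ∃ g ∈ X.grp, g * (l.map fun x => xg X.cert (E.num + x) (v x)).prod * g⁻¹ = eRep X.cert F E l := by
  classical
  have h2 := k_two X hW
  simp only [eTorusOk, allBelow_iff, decide_eq_true_eq] at h
  simp only [kTorusSym, allBelow_iff, Bool.and_eq_true, Nat.blt_eq, decide_eq_true_eq,
    X.cert.spec.shape.rank_eq] at hsym
  have hroot : ∀ a : Fin l.length, ∃ c : Fˣ, (c : F) ^ (2 ^ m) = (v (l.getD a 0))⁻¹ := fun a => by
    have hinj : Function.Injective (iterateFrobenius F 2 m) := RingHom.injective _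
    obtain ⟨t, ht⟩ := (Finite.injective_iff_surjective.1 hinj) ((v (l.getD a 0))⁻¹)
    rw [iterateFrobenius_def] at ht
    have hx : v (l.getD a 0) ≠ 0 := hv _ (by simp [List.getD])
    refine ⟨Units.mk0 t fun h0 => ?_, ht⟩
    rw [h0, zero_pow (pow_ne_zero m two_ne_zero)] at ht
    exact inv_ne_zero hx ht.symm
  choose c hc using hroot
  set z : Fin D.rank → Fˣ := fun i => ∏ a : Fin l.length, c a ^ ((Z.getD a []).getD i 0) with hz
  have hmem : ∀ a : Fin l.length, l.getD a 0 ∈ l := fun a => by simp [List.getD]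
  let π : Fin l.length → Fin l.length := fun a => ⟨l.idxOf (W.sg (l.getD a 0)), (hsym a a.2).1⟩
  have hπ : ∀ a : Fin l.length, l.getD (π a) 0 = W.sg (l.getD a 0) := fun a => by
    have := (hsym a a.2).1
    rw [List.getD_eq_getElem _ _ this, List.getElem_idxOf]
  have hπinj : Function.Injective π := fun a b e => by
    have h1 := hπ a
    rw [e, hπ b] at h1
    have h3 := congrArg W.sg h1
    rw [hW.sg_sg _ (hl _ (hmem a)), hW.sg_sg _ (hl _ (hmem b))] at h3
    rw [List.getD_eq_getElem _ _ a.2, List.getD_eq_getElem _ _ b.2] at h3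
    exact Fin.ext ((hnd.getElem_inj_iff).1 h3).symm
  have hcπ : ∀ a : Fin l.length, Units.map X.frob.toMonoidHom (c a) = c (π a) := fun a => by
    refine Units.ext ?_
    have hinj : Function.Injective (iterateFrobenius F 2 m) := RingHom.injective _
    refine hinj ?_
    simp only [iterateFrobenius_def, Units.coe_map, RingHom.toMonoidHom_eq_coe, MonoidHom.coe_coe]
    rw [← map_pow, hc, hc, hπ, heq _ (hl _ (hmem a)), map_inv₀]
  have hfix : twPar X.symOK X.frob z = z := by
    funext i
    show Units.map X.frob.toMonoidHom (z ⟨X.sym.pI.getD i 0, X.symOK.node_lt' i i.2⟩) = z i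
    simp only [hz, map_prod, map_zpow, hcπ]
    refine Fintype.prod_equiv (Equiv.ofBijective π (Finite.injective_iff_bijective.1 hπinj)) _ _ fun a => ?_
    show _ = c (π a) ^ (Z.getD (π a) []).getD i 0
    rw [(hsym a a.2).2 i i.2]
  refine ⟨torusHom D T F z, mem_grp X (diag_le_group X.cert (torusHom_range X.cert (F := F) ▸ ⟨z, rfl⟩))
    (by rw [TwCtx.sig, twSigma_torus X.cert X.symOK, hfix]), ?_⟩
  have hchr : ∀ b : Fin l.length, chr T D (extend' z) (E.num + l.getD b 0) * v (l.getD b 0) = 1 := by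
    intro b
    have e1 : chr T D (extend' z) (E.num + l.getD b 0) =
        ∏ a : Fin l.length, ((c a ^ (∑ i : Fin D.rank, (Z.getD a []).getD i 0 * T.cartan i (E.num + l.getD b 0)) : Fˣ) : F) := by
      rw [chr, ← Fin.prod_univ_eq_prod_range (fun j => extend' z j ^ T.cartan j (E.num + l.getD b 0)),
        ← Units.coe_prod]
      have e3 : ∀ j : Fin D.rank, extend' z j ^ T.cartan j (E.num + l.getD b 0) =
          ((z j ^ T.cartan j (E.num + l.getD b 0) : Fˣ) : F) := fun j => by
        simp [extend', j.2]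
      simp only [e3]
      rw [← Units.coe_prod]
      congr 1
      simp only [hz, ← Finset.prod_zpow, ← zpow_mul]
      rw [Finset.prod_comm]
      refine Finset.prod_congr rfl fun a _ => ?_
      induction (Finset.univ : Finset (Fin D.rank)) using Finset.induction with
      | empty => simp
      | insert j s hj ih => rw [Finset.prod_insert hj, Finset.sum_insert hj, zpow_add, ih]
    have e2 : ∀ a : Fin l.length, (∑ i : Fin D.rank, (Z.getD a []).getD i 0 * T.cartan i (E.num + l.getD b 0)) =
        if a = b then ((2 ^ m : ℕ) : ℤ) else 0 := fun a => by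
      have := h a a.2 b b.2
      rw [X.cert.spec.shape.rank_eq] at this
      simp only [← Fin.ext_iff] at this
      rw [← this, Fin.sum_univ_def, ← List.map_coe_finRange_eq_range, List.map_map]
      rfl
    rw [e1, Finset.prod_eq_single b (fun a _ ha => by rw [e2, if_neg ha, zpow_zero, Units.val_one])
      (fun hb => absurd (Finset.mem_univ _) hb), e2, if_pos rfl, zpow_natCast, Units.val_pow_eq_pow_val, hc,
      inv_mul_cancel₀ (hv _ (hmem b))]
  have key : ∀ l' : List ℕ, (∀ x ∈ l', ∃ b : Fin l.length, l.getD b 0 = x) →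
      torusHom D T F z * (l'.map fun x => xg X.cert (E.num + x) (v x)).prod * (torusHom D T F z)⁻¹ =
        eRep X.cert F E l' := by
    intro l'
    induction l' with
    | nil => intro _; simp [eRep]
    | cons x l' ih =>
      intro hx
      obtain ⟨b, hb⟩ := hx x (List.mem_cons_self ..)
      have e := ih fun y hy => hx y (List.mem_cons_of_mem _ hy)
      have e' := torusHom_conj_xgP X.cert X.full (F := F) z (r := E.num + x)
        (by have := hl x (hb ▸ hmem b); omega) (v x)
      rw [← hb, hchr b, hb] at e'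
      simp only [eRep, List.map_cons, List.prod_cons] at e ⊢
      rw [← e, ← e']
      group
  exact key l fun x hx => by
    obtain ⟨b, hb, rfl⟩ := List.getElem_of_mem hx
    exact ⟨⟨b, hb⟩, by simp [List.getD, hb]⟩

end Cfsg.Lib.Chev
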