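import Cfsg.Agent.Lib.Chev.TwInvOps
import Cfsg.Agent.Lib.Chev.TwAutNorm

/-!
A checked tree shows that every involution fixed by the twisting map is conjugate, by a fixed element, to one of the
representatives.
-/

set_option autoImplicit false
set_option linter.unusedSectionVars false

namespace Cfsg.Lib.Chev

open Cfsg.Lie

variable {D : ChevalleyDatum} {T : Tbl} {F : Type*} [Field F] [CharP F 2] [Finite F] (X : TwCtx D T F) {E : EnTbl}
  {W : IvTbl}

/-- Conjugate by a fixed element to one of the representatives, or to one. -/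
def KReach (E : EnTbl) (R : List (List ℕ)) (g : GL D.Idx F) : Prop :=
  ∃ h ∈ X.grp, ∃ r ∈ [] :: R, h * g * h⁻¹ = eRep X.cert F E r

theorem KReach.conj {R : List (List ℕ)} {g h : GL D.Idx F} (hh : h ∈ X.grp)
    (H : KReach X E R (h * g * h⁻¹)) : KReach X E R g := by
  obtain ⟨k, hk, r, hr, e⟩ := H
  exact ⟨k * h, mul_mem hk hh, r, hr, by rw [← e]; group⟩

/-- What a node asserts. -/
def KNodeGood (E : EnTbl) (W : IvTbl) (R : List (List ℕ)) : IvNode → Prop
  | (S, N, _) => ∀ v : ℕ → F, (∀ x < E.num, v (W.sg x) = X.frob (v x)) →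
      (∀ x < E.num, S.testBit x = false → v x = 0) → (∀ x < E.num, N.testBit x = true → v x ≠ 0) →
      kEl X E W v * kEl X E W v = 1 → KReach X E R (kEl X E W v)

theorem trace_surj (hdeg : ∀ t : F, X.frob (X.frob t) = t) (hne : ∃ t : F, X.frob t ≠ t) {a : F}
    (ha : X.frob a = a) : ∃ z : F, z + X.frob z = a := by
  obtain ⟨x, hx⟩ := hne
  have hd : x + X.frob x ≠ 0 := fun h => hx (CharTwo.add_eq_zero.1 h).symm
  have hfd : X.frob (x + X.frob x) = x + X.frob x := by rw [map_add, hdeg, add_comm]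
  refine ⟨a / (x + X.frob x) * x, ?_⟩
  rw [map_mul, map_div₀, ha, hfd, ← mul_add, div_mul_cancel₀ _ hd]

theorem root_two (x : F) (j : ℕ) : ∃ t : F, t ^ 2 ^ j = x := by
  have hinj : Function.Injective (iterateFrobenius F 2 j) := RingHom.injective _
  obtain ⟨t, ht⟩ := (Finite.injective_iff_surjective.1 hinj) x
  exact ⟨t, by rwa [iterateFrobenius_def] at ht⟩

theorem root_two_inj {x y : F} (j : ℕ) (h : x ^ 2 ^ j = y ^ 2 ^ j) : x = y := by
  have hinj : Function.Injective (iterateFrobenius F 2 j) := RingHom.injective _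
  exact hinj (by rwa [iterateFrobenius_def, iterateFrobenius_def])

/-- The value of a monomial is the power of one variable times the rest. -/
theorem qmEval_power (e : ℕ → F) (t : ℕ) : ∀ d : List ℕ, qmEval e d =
    e t ^ (d.filter fun v => Nat.beq v t).length * qmEval e (d.filter fun v => !Nat.beq v t)
  | [] => by simp [qmEval]
  | u :: d => by
    rw [show qmEval e (u :: d) = e u * qmEval e d by simp [qmEval], qmEval_power e t d]
    by_cases hu : u = t
    · subst hu; simp [pow_succ]; ring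
    · simp [hu, beq_false_ne hu, qmEval]; ring

theorem qEval_pair (e : ℕ → F) {r : ℕ} {m₁ m₂ : List ℕ} (h : qmEq m₁ [r] = true ∨ qmEq m₂ [r] = true) :
    qEval e [m₁, m₂] = e r + qmEval e (bif qmEq m₁ [r] then m₂ else m₁) := by
  cases h' : qmEq m₁ [r]
  · rw [h'] at h
    rw [qmEq_eq (h.resolve_left Bool.false_ne_true)]
    simp [qEval, qmEval, add_comm]
  · rw [qmEq_eq h']
    simp [qEval, qmEval]

theorem kMono_eval {N t j : ℕ} {d : List ℕ} (h : kMono E N t j d = true) {v : ℕ → F}
    (hN : ∀ x < E.num, N.testBit x = true → v x ≠ 0) {e : ℕ → F} (he : ∀ x < E.num, e x = v x) :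
    (∀ u ∈ d.filter (fun u => !Nat.beq u t), u < E.num) ∧ qmEval v (d.filter fun u => !Nat.beq u t) ≠ 0 ∧
      qmEval e d = e t ^ 2 ^ j * qmEval v (d.filter fun u => !Nat.beq u t) := by
  simp only [kMono, Bool.and_eq_true, Nat.beq_eq, List.all_eq_true, Bool.or_eq_true, Nat.blt_eq] at h
  obtain ⟨hcnt, hd⟩ := h
  have hlt : ∀ u ∈ d.filter (fun u => !Nat.beq u t), u < E.num ∧ N.testBit u = true := fun u hu => by
    obtain ⟨hud, hut⟩ := List.mem_filter.1 hu
    rcases hd u hud with h | h
    · subst h; simp at hut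
    · exact h
  refine ⟨fun u hu => (hlt u hu).1, fun h0 => ?_, ?_⟩
  · obtain ⟨u, hu, hu0⟩ : ∃ u ∈ d.filter (fun u => !Nat.beq u t), v u = 0 := by
      simpa [qmEval, List.prod_eq_zero_iff] using h0
    exact hN u (hlt u hu).1 (hlt u hu).2 hu0
  · rw [qmEval_power e t d, hcnt]
    congr 1
    simp only [qmEval]
    congr 1
    exact List.map_congr_left fun u hu => he u (hlt u hu).1

variable (hW : IvOK X E W) (hdeg : ∀ t : F, X.frob (X.frob t) = t)
include hW hdeg

theorem kCovers_reach {R : List (List ℕ)} {look : ℕ → Option IvNode} {k : ℕ}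
    (hns : ∀ c < k, ∀ nd, look c = some nd → KNodeGood X E W R nd) {c skip N : ℕ} {y : List (ℕ × QPoly)}
    (h : kCovers E W look k c skip N y = true) {e : ℕ → F} (he : ∀ x < E.num, N.testBit x = true → e x ≠ 0)
    (hskip : skip < E.num → qEval e (eGet y skip) = 0) {z : GL D.Idx F} (hfix : X.sig z = z)
    (hrel : qVal X.cert E e y = z) (hsq : z * z = 1) : KReach X E R z := by
  unfold kCovers at h
  simp only [Bool.and_eq_true, Nat.blt_eq] at h
  obtain ⟨⟨hck, hsub⟩, h⟩ := h
  have hval : z = kEl X E W fun x => qEval e (eGet y x) := by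
    rw [← hrel, kSub_val X e W.ord y hW.nodup hsub]; rfl
  subst hval
  have heq := kEl_fixed X hW hfix
  cases hc : look c with
  | none => simp [hc] at h
  | some nd =>
    obtain ⟨S', N', op⟩ := nd
    simp only [hc, List.all_eq_true, Bool.or_eq_true, Nat.beq_eq, Bool.and_eq_true, Nat.blt_eq] at h
    refine hns c hck _ hc _ heq ?_ ?_ hsq
    · intro x hx hS
      by_contra hne
      obtain ⟨p, hp, rfl⟩ := eGet_mem (l := y) (x := x) fun h0 => hne (by rw [h0]; simp [qEval])
      rcases h.1 p hp with h1 | ⟨h1, h2 | h2⟩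
      · rw [hS] at h1; exact Bool.false_ne_true h1
      · exact hne (by rw [h2]; exact hskip h1)
      · exact hne (by rw [h2, heq skip h1, hskip h1, map_zero])
    · intro x hx hN
      have hg : (eGood E N y).testBit x = true := by
        have := congrArg (fun n => Nat.testBit n x) h.2
        simpa [Nat.testBit_and, hN] using this
      obtain ⟨mo, hmo, hv⟩ := kGood_spec E N y x ((kSub_sublist _ _ hsub).nodup hW.nodup) hg
      rw [hmo]
      simp only [qEval, qmEval, List.map_cons, List.map_nil, List.sum_cons, List.sum_nil, add_zero, ne_eq,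
        List.prod_eq_zero_iff, List.mem_map, not_exists, not_and]
      exact fun u hu => he u (hv u hu).1 (hv u hu).2

/-- A monomial of the square of an involution vanishes. -/
theorem sq_eval {S : ℕ} {v : ℕ → F} (hS : ∀ x < E.num, S.testBit x = false → v x = 0)
    (hsq : kEl X E W v * kEl X E W v = 1) (hsub : kSub W.ord (kNf E W (kWord W S ++ kWord W S)) = true) {x : ℕ}
    (hx : x < E.num) : qEval v (eGet (kNf E W (kWord W S ++ kWord W S)) x) = 0 := by
  have h1 := (kNf_val X hW v (kWord W S ++ kWord W S) fun p hp => (List.mem_append.1 hp).elim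
    (kWord_lt X hW S p) (kWord_lt X hW S p)).2
  rw [qVal_append, qVal_kWord X hW hS fun _ _ => rfl, hsq, kSub_val X v W.ord _ hW.nodup hsub,
    ← kList_zero X (E := E) W.ord] at h1
  exact kEl_inj X hW h1 x hx

/-- The target of a kill step can be reached. -/
theorem kShape_solve (hne : ∃ t : F, X.frob t ≠ t) {S N q r j mode ex : ℕ} {p : QPoly}
    (h : kShape E W S N q r j mode ex p = true) (hr : r < E.num) {v : ℕ → F}
    (heq : ∀ x < E.num, v (W.sg x) = X.frob (v x)) (hS : ∀ x < E.num, S.testBit x = false → v x = 0)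
    (hN : ∀ x < E.num, N.testBit x = true → v x ≠ 0) (hsq : kEl X E W v * kEl X E W v = 1) :
    ∃ e : ℕ → F, (∀ x < E.num, e x = v x) ∧ qEval e p = 0 ∧
      (if W.sg q = q then X.frob (qEval e [[E.num]]) = qEval e [[E.num]]
        else qEval e (bif Nat.beq mode 0 then [[E.num]] else [[E.num + 1]]) = X.frob (qEval e [[E.num]])) := by
  let mk : F → F → ℕ → F := fun t u x => if x < E.num then v x else if x = E.num then t else u
  have hmk : ∀ t u, ∀ x < E.num, mk t u x = v x := fun t u x hx => if_pos hx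
  have hmt : ∀ t u, mk t u E.num = t := fun t u => by simp [mk]
  have hmu : ∀ t u, mk t u (E.num + 1) = u := fun t u => by simp [mk]
  unfold kShape at h
  split at h
  · rename_i m₁ m₂
    simp only [Bool.and_eq_true, Bool.or_eq_true] at h
    obtain ⟨⟨hm, hmono⟩, hid⟩ := h
    set d := (bif qmEq m₁ [r] then m₂ else m₁) with hd
    set rest := d.filter (fun u => !Nat.beq u E.num) with hrest
    obtain ⟨hlt, hrest0, -⟩ := kMono_eval hmono hN (e := v) fun _ _ => rfl
    have hconj : qmEval v (kConj W rest) = X.frob (qmEval v rest) :=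
      qmEval_conj X.frob v W.sg rest fun u hu => heq u (hlt u hu)
    have hAB : X.frob (v r) * qmEval v rest = v r * X.frob (qmEval v rest) := by
      have hA : qmEval v (qmMul [W.sg r] rest) = X.frob (v r) * qmEval v rest := by
        rw [qmEval_mul, show qmEval v [W.sg r] = v (W.sg r) by simp [qmEval], heq r hr]
      have hB : qmEval v (qmMul [r] (kConj W rest)) = v r * X.frob (qmEval v rest) := by
        rw [qmEval_mul, show qmEval v [r] = v r by simp [qmEval], hconj]
      rw [← hA, ← hB]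
      rcases hid with hid | hid
      · rw [qmEq_eq hid]
      · simp only [Bool.and_eq_true, Nat.blt_eq] at hid
        obtain ⟨hsub, hex, hid⟩ := hid
        have h0 := sq_eval X hW hdeg hS hsq hsub hex
        split at hid
        · rename_i n₁ n₂ hn
          rw [hn] at h0
          have h0' : qmEval v n₁ + qmEval v n₂ = 0 := by simpa [qEval] using h0
          simp only [Bool.or_eq_true, Bool.and_eq_true] at hid
          rcases hid with ⟨e1, e2⟩ | ⟨e1, e2⟩
          · rw [← qmEq_eq e1, ← qmEq_eq e2]; exact CharTwo.add_eq_zero.1 h0'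
          · rw [← qmEq_eq e1, ← qmEq_eq e2]; exact (CharTwo.add_eq_zero.1 h0').symm
        · simp at hid
    obtain ⟨t, ht⟩ := root_two (v r / qmEval v rest) j
    have hft : X.frob t = t := by
      refine root_two_inj j ?_
      rw [← map_pow, ht, map_div₀, div_eq_div_iff (by simpa using hrest0) hrest0]
      exact hAB
    refine ⟨mk t t, hmk t t, ?_, ?_⟩
    · obtain ⟨-, -, hev⟩ := kMono_eval hmono hN (hmk t t)
      rw [qEval_pair _ hm, ← hd, hev, hmt, hmk t t r hr, ← hrest, ht, div_mul_cancel₀ _ hrest0,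
        CharTwo.add_self_eq_zero]
    · simp only [Nat.beq_refl, cond_true, qEval_var, hmt, hft]
      split_ifs <;> rfl
  · rename_i m₁ m₂
    simp only [Bool.and_eq_true, Bool.or_eq_true, Bool.not_eq_true'] at h
    obtain ⟨⟨hq, hm⟩, hmono⟩ := h
    set d := (bif qmEq m₁ [r] then m₂ else m₁) with hd
    set rest := d.filter (fun u => !Nat.beq u E.num) with hrest
    obtain ⟨-, hrest0, -⟩ := kMono_eval hmono hN (e := v) fun _ _ => rfl
    obtain ⟨t, ht⟩ := root_two (v r / qmEval v rest) j
    refine ⟨mk t (X.frob t), hmk _ _, ?_, ?_⟩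
    · obtain ⟨-, -, hev⟩ := kMono_eval hmono hN (hmk t (X.frob t))
      rw [qEval_pair _ hm, ← hd, hev, hmt, hmk t _ r hr, ← hrest, ht, div_mul_cancel₀ _ hrest0,
        CharTwo.add_self_eq_zero]
    · have hqq : ¬ W.sg q = q := fun e => by simp [e] at hq
      simp [hqq, qEval_var, hmt, hmu, show Nat.beq 1 0 = false from rfl]
  · rename_i m₁ m₂ m₃
    simp only [Bool.and_eq_true, Bool.not_eq_true', Nat.beq_eq] at h
    obtain ⟨⟨hq, hrr⟩, h⟩ := h
    split at h
    swap
    · simp at h
    rename_i a b hab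
    have hfr : X.frob (v r) = v r := by rw [← heq r hr, hrr]
    have hsum : ∀ e : ℕ → F, qEval e [m₁, m₂, m₃] = e r + qmEval e a + qmEval e b := by
      intro e
      have hone : qmEval e [r] = e r := by simp [qmEval]
      cases h1 : qmEq m₁ [r] <;> cases h2 : qmEq m₂ [r] <;> cases h3 : qmEq m₃ [r] <;> simp [h1, h2, h3] at hab
      · obtain ⟨rfl, rfl⟩ := hab; rw [qmEq_eq h3]; simp [qEval, hone]; ring
      · obtain ⟨rfl, rfl⟩ := hab; rw [qmEq_eq h2]; simp [qEval, hone]; ring
      · obtain ⟨rfl, rfl⟩ := hab; rw [qmEq_eq h1]; simp [qEval, hone]; ring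
    have solve : ∀ a b : List ℕ, kMono E N E.num j a = true →
        qmEq b (qmMul (a.map fun u => bif Nat.beq u E.num then E.num + 1 else W.sg u) []) = true →
        ∃ e : ℕ → F, (∀ x < E.num, e x = v x) ∧ e r + qmEval e a + qmEval e b = 0 ∧
          e (E.num + 1) = X.frob (e E.num) := by
      intro a b ha hb
      obtain ⟨-, hrest0, -⟩ := kMono_eval ha hN (e := v) fun _ _ => rfl
      obtain ⟨z, hz⟩ := trace_surj X hdeg hne hfr
      obtain ⟨t, ht⟩ := root_two (z / qmEval v (a.filter fun u => !Nat.beq u E.num)) j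
      refine ⟨mk t (X.frob t), hmk _ _, ?_, by rw [hmt, hmu]⟩
      obtain ⟨-, -, hev⟩ := kMono_eval ha hN (hmk t (X.frob t))
      have hea : qmEval (mk t (X.frob t)) a = z := by rw [hev, hmt, ht, div_mul_cancel₀ _ hrest0]
      have heb : qmEval (mk t (X.frob t)) b = X.frob z := by
        rw [qmEq_eq hb, ← hea]
        refine qmEval_conj X.frob _ _ a fun u hu => ?_
        simp only [kMono, Bool.and_eq_true, List.all_eq_true, Bool.or_eq_true, Nat.beq_eq, Nat.blt_eq] at ha
        rcases ha.2 u hu with rfl | ⟨hun, -⟩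
        · simp [hmt, hmu]
        · rw [beq_false_ne (show u ≠ E.num by omega), cond_false, hmk _ _ u hun,
            hmk _ _ _ (hW.sg_lt u hun), heq u hun]
      rw [hea, heb, hmk _ _ r hr, add_assoc, hz, CharTwo.add_self_eq_zero]
    have hqq : ¬ W.sg q = q := fun e => by simp [e] at hq
    simp only [Bool.or_eq_true, Bool.and_eq_true] at h
    rcases h with ⟨ha, hb⟩ | ⟨ha, hb⟩
    · obtain ⟨e, h1, h2, h3⟩ := solve a b ha hb
      exact ⟨e, h1, by rw [hsum]; exact h2, by simp [hqq, qEval_var, h3, show Nat.beq 2 0 = false from rfl]⟩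
    · obtain ⟨e, h1, h2, h3⟩ := solve b a ha hb
      exact ⟨e, h1, by rw [hsum]; linear_combination h2, by simp [hqq, qEval_var, h3, show Nat.beq 2 0 = false from rfl]⟩
  · simp at h

theorem kNode_sound (hne : ∃ t : F, X.frob t ≠ t) {O : List (List ℕ)} (hO : OrbWords X O) {R : List (List ℕ)}
    {look : ℕ → Option IvNode} {k : ℕ}
    (hns : ∀ c < k, ∀ nd, look c = some nd → KNodeGood X E W R nd) :
    ∀ nd : IvNode, kNodeOk T X.sym E W O R look k nd = true → KNodeGood X E W R nd := by
  rintro ⟨S, N, op⟩ hok v heq hS hN hsq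
  have hu : X.sig (kEl X E W v) = kEl X E W v := (kEl_fixed_iff X hW).2 fun x hx => by
    rw [← heq _ (hW.sg_lt x hx), hW.sg_sg x hx]
  have hconj2 : ∀ g : GL D.Idx F, g * kEl X E W v * g⁻¹ * (g * kEl X E W v * g⁻¹) = 1 := fun g => by
    rw [show g * kEl X E W v * g⁻¹ * (g * kEl X E W v * g⁻¹) = g * (kEl X E W v * kEl X E W v) * g⁻¹ by group, hsq,
      mul_one, mul_inv_cancel]
  have hfix2 : ∀ g ∈ X.grp, X.sig (g * kEl X E W v * g⁻¹) = g * kEl X E W v * g⁻¹ := fun g hg => by
    have e : X.sig g⁻¹ = g⁻¹ := (inv_mem hg : g⁻¹ ∈ X.grp).2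
    rw [sig_mul, sig_mul, hu, e, hg.2]
  have hvars : ∀ {c skip N' : ℕ}, kCovers E W look k c skip N' (kWord W S) = true →
      (∀ x < E.num, N'.testBit x = true → v x ≠ 0) → (skip < E.num → v skip = 0) →
      KReach X E R (kEl X E W v) := by
    intro c skip N' hc hN' hs
    refine kCovers_reach X hW hdeg hns hc (e := v) hN' (fun h => ?_) hu (qVal_kWord X hW hS fun _ _ => rfl) hsq
    by_contra hne'
    obtain ⟨p, hp, he⟩ := eGet_mem (l := kWord W S) (x := skip) fun h0 => hne' (by rw [h0]; simp [qEval])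
    obtain ⟨x, hx, rfl⟩ := List.mem_map.1 hp
    simp only at he
    subst he
    have hval := qVal_kWord X hW hS (e := v) fun _ _ => rfl
    unfold kCovers at hc
    simp only [Bool.and_eq_true] at hc
    rw [kSub_val X v W.ord _ hW.nodup hc.1.2] at hval
    exact hne' ((kEl_inj X hW hval x h).trans (hs h))
  have hsand : ∀ (q : ℕ) (a b : QPoly) (e : ℕ → F), (∀ x < E.num, e x = v x) → q < E.num →
      (if W.sg q = q then X.frob (qEval e a) = qEval e a else qEval e b = X.frob (qEval e a)) →
      ∃ g ∈ X.grp, qVal X.cert E e (kNf E W (kPair W q a b ++ kWord W S ++ kPair W q a b)) =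
        g * kEl X E W v * g⁻¹ := by
    intro q a b e he hq hcond
    obtain ⟨g, hg, e1⟩ := kPair_sandwich X hW hdeg hq a b e hcond (kWord_lt X hW S)
    exact ⟨g, hg, by rw [e1, qVal_kWord X hW hS he]⟩
  have htorus : ∀ {m : ℕ} {Z : List (List ℤ)}, S &&& (2 ^ E.num - 1) = N →
      eTorusOk T E (kSupp W N) m Z = true → kTorusSym T X.sym W (kSupp W N) Z = true →
      ∀ {st : List IvStep} {l : List ℕ}, kSteps T E W O (kSupp W N) st = some l →
      (∀ x ∈ l, x < E.num) ∧ ∃ g ∈ X.grp, eRep X.cert F E l = g * kEl X E W v * g⁻¹ := by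
    intro m Z hSN ht hz st l hl
    have hsupp : ∀ x ∈ kSupp W N, x < E.num := fun x hx => hW.ord_lt x (List.mem_filter.1 hx).1
    obtain ⟨g, hg, eg⟩ := kTorus_reach X hW hsupp (hW.nodup.filter _) ht hz (v := v)
      (fun x hx => hN x (hsupp x hx) (List.mem_filter.1 hx).2) heq
    obtain ⟨h1, g', hg', e'⟩ := kSteps_conj X hW hdeg hO hl hsupp
    have hval : kEl X E W v = ((kSupp W N).map fun x => xg X.cert (E.num + x) (v x)).prod := by
      rw [← qVal_kWord X hW (S := N) (e := v) (fun x hx hb => hS x hx (by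
        rw [← hSN, Nat.testBit_and, Nat.testBit_two_pow_sub_one] at hb
        simpa [hx] using hb)) fun _ _ => rfl]
      simp [qVal, kWord, Function.comp_def, qEval_var]
    refine ⟨h1, g' * g, mul_mem hg' hg, ?_⟩
    rw [e', ← eg, hval]
    group
  cases op with
  | one =>
    simp only [kNodeOk, Nat.beq_eq] at hok
    refine ⟨1, one_mem _, [], List.mem_cons_self .., ?_⟩
    simp only [eRep, List.map_nil, List.prod_nil, inv_one, one_mul, mul_one]
    rw [← kList_zero X (E := E) W.ord]
    refine kList_congr X fun x hx => hS x (hW.ord_lt x hx) ?_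
    have := congrArg (fun n => Nat.testBit n x) hok
    simpa [hW.ord_lt x hx] using this
  | sq x ch =>
    simp only [kNodeOk, Bool.and_eq_true, Nat.blt_eq] at hok
    obtain ⟨⟨hx, hsub⟩, hok⟩ := hok
    have h3 := sq_eval X hW hdeg hS hsq hsub hx
    split at hok
    case h_2 => simp at hok
    rename_i mo hmo
    simp only [Bool.and_eq_true, List.all_eq_true, Bool.or_eq_true, List.any_eq_true, Nat.blt_eq, Nat.beq_eq] at hok
    obtain ⟨hvs, hch⟩ := hok
    rw [hmo] at h3
    obtain ⟨u, hu', hu0⟩ : ∃ u ∈ mo, v u = 0 := by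
      simpa [qEval, qmEval, List.prod_eq_zero_iff] using h3
    obtain ⟨huN, hu'' | ⟨p, hp, hpu⟩⟩ := hvs u hu'
    · exact absurd hu0 (hN u huN hu'')
    refine hvars (hch p hp).2 hN fun hp1 => ?_
    rcases hpu with hpu | ⟨-, hpu⟩
    · rw [hpu]; exact hu0
    · have := heq _ hp1
      rw [hpu, hu0] at this
      exact (map_eq_zero X.frob).1 this.symm
  | kill q r j mode ex c =>
    simp only [kNodeOk, Bool.and_eq_true, Nat.blt_eq] at hok
    obtain ⟨⟨⟨hq, hr⟩, hshape⟩, hcov⟩ := hok
    obtain ⟨e, he, hzero, hcond⟩ := kShape_solve X hW hdeg hne hshape hr heq hS hN hsq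
    obtain ⟨g, hg, eg⟩ := hsand q [[E.num]] _ e he hq hcond
    exact (kCovers_reach X hW hdeg hns hcov (e := e) (fun x hx h => by rw [he x hx]; exact hN x hx h)
      (fun _ => hzero) (hfix2 g hg) eg (hconj2 g)).conj X hg
  | add q c =>
    simp only [kNodeOk, Bool.and_eq_true, Nat.blt_eq] at hok
    obtain ⟨hq, hcov⟩ := hok
    obtain ⟨g, hg, eg⟩ := hsand q [[]] [[]] v (fun _ _ => rfl) hq (by split_ifs <;> simp [qEval_one])
    exact (kCovers_reach X hW hdeg hns hcov (e := v) hN (fun h => absurd h (lt_irrefl _)) (hfix2 g hg) eg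
      (hconj2 g)).conj X hg
  | refl J c =>
    simp only [kNodeOk, Bool.and_eq_true] at hok
    obtain ⟨himg, hcov⟩ := hok
    obtain ⟨hg, hconj⟩ := kImg_conj X hW (F := F) hO himg
    have hsupp : ∀ x ∈ kSupp W S, x < E.num := fun x hx => hW.ord_lt x (List.mem_filter.1 hx).1
    set n := wnu X.cert F (kWrd O [J]) with hn
    set w := (kSupp W S).map fun x => (eImg T E (kWrd O [J]) x, ([[x]] : QPoly)) with hw
    have hwl : ∀ p ∈ w, p.1 < E.num := fun p hp => by
      obtain ⟨x, hx, rfl⟩ := List.mem_map.1 hp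
      exact (hconj x hx (hsupp x hx)).1
    have hval : qVal X.cert E v w = n * kEl X E W v * n⁻¹ := by
      rw [← qVal_kWord X hW hS (e := v) fun _ _ => rfl,
        qVal_conj X.cert E v n (eImg T E (kWrd O [J])) (kWord W S) fun p hp => ?_]
      · simp [hw, kWord, Function.comp_def]
      · obtain ⟨x, hx, rfl⟩ := List.mem_map.1 hp
        exact (hconj x hx (hsupp x hx)).2
    exact (kCovers_reach X hW hdeg hns hcov (e := v) hN (fun h => absurd h (lt_irrefl _)) (hfix2 n hg)
      (by rw [(kNf_val X hW v w hwl).2, hval]) (hconj2 n)).conj X hg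
  | split r c₀ c₁ =>
    simp only [kNodeOk, Bool.and_eq_true, Nat.blt_eq] at hok
    obtain ⟨⟨hr, h₀⟩, h₁⟩ := hok
    by_cases h : v r = 0
    · exact hvars h₀ hN fun _ => h
    · refine hvars h₁ (fun x hx hb => ?_) fun h24 => absurd h24 (lt_irrefl _)
      rw [Nat.testBit_or, Nat.testBit_or, Bool.or_eq_true, Bool.or_eq_true, Nat.testBit_two_pow,
        Nat.testBit_two_pow, decide_eq_true_eq, decide_eq_true_eq] at hb
      rcases hb with hb | rfl | rfl
      · exact hN x hx hb
      · exact h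
      · rw [heq r hr]; exact fun h0 => h ((map_eq_zero X.frob).1 h0)
  | norm m Z st c =>
    simp only [kNodeOk, Bool.and_eq_true, Nat.beq_eq] at hok
    obtain ⟨⟨⟨hSN, ht⟩, hz⟩, hst⟩ := hok
    split at hst
    · simp at hst
    rename_i l hl
    obtain ⟨-, g, hg, eg⟩ := htorus hSN ht hz hl
    refine (kCovers_reach X hW hdeg hns hst (e := v) (fun x _ hb => by simp at hb)
      (fun h => absurd h (lt_irrefl _)) (hfix2 g hg) ?_ (hconj2 g)).conj X hg
    rw [← eg, qVal_ones X.cert E v (y := eOnes l) fun p hp => by obtain ⟨x, -, rfl⟩ := List.mem_map.1 hp; rfl]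
    simp [eOnes, Function.comp_def]
  | rep m Z st =>
    simp only [kNodeOk, Bool.and_eq_true, Nat.beq_eq] at hok
    obtain ⟨⟨⟨hSN, ht⟩, hz⟩, hst⟩ := hok
    split at hst
    · simp at hst
    rename_i l hl
    obtain ⟨-, g, hg, eg⟩ := htorus hSN ht hz hl
    obtain ⟨r, hr, hrl⟩ := List.any_eq_true.1 hst
    obtain rfl := qmEq_eq hrl
    exact ⟨g, hg, r, List.mem_cons_of_mem _ hr, eg.symm⟩

/-- Every fixed involution is conjugate by a fixed element to one of the representatives. -/
theorem kGroup_reach (hne : ∃ t : F, X.frob t ≠ t) {O : List (List ℕ)} (hO : OrbWords X O) {R : List (List ℕ)}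
    {P : List (List IvNode)} (hP : ∀ i < P.length, kTreeOk T X.sym E W O R P (100 * i) 100 = true) {root : ℕ}
    (hroot : kRootOk E P root = true)
    {g : GL D.Idx F} (hg : g ∈ X.grp) (h2g : g * g = 1) :
    g = 1 ∨ ∃ h ∈ X.grp, ∃ r ∈ R, h * g * h⁻¹ = eRep X.cert F E r := by
  haveI : Fact (Nat.Prime 2) := ⟨Nat.prime_two⟩
  have hgood : ∀ k, ∀ nd, kLook P k = some nd → KNodeGood X E W R nd := by
    intro k
    induction k using Nat.strong_induction_on with
    | _ k ih =>
      intro nd hnd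
      refine kNode_sound X hW hdeg hne hO ih nd ?_
      have hlt : k / 100 < P.length := by
        by_contra hc
        simp [kLook, List.getD, List.getElem?_eq_none (not_lt.1 hc)] at hnd
      have := hP _ hlt
      simp only [kTreeOk, allBelow_iff] at this
      have h' := this (k % 100) (Nat.mod_lt _ (by norm_num))
      rw [Nat.div_add_mod] at h'
      rw [hnd] at h'
      exact h'
  obtain ⟨Q₀, hQ₀⟩ := X.exists_sylowT 2
  set x : ↥X.grp := ⟨g, hg⟩ with hx
  have hxp : IsPGroup 2 ↥(Subgroup.zpowers x) := by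
    have hd : orderOf x ∣ 2 ^ 1 := orderOf_dvd_of_pow_eq_one (Subtype.ext (by simpa [hx, sq] using h2g))
    obtain ⟨k, -, hk⟩ := (Nat.dvd_prime_pow Nat.prime_two).1 hd
    exact IsPGroup.of_card (n := k) (by rw [Nat.card_zpowers, hk])
  obtain ⟨Q, hQ⟩ := hxp.exists_le_sylow
  obtain ⟨c, hc⟩ := MulAction.exists_smul_eq ↥X.grp Q Q₀
  have hmem : c * x * c⁻¹ ∈ (Q₀ : Subgroup ↥X.grp) := by
    rw [← hc, Sylow.coe_subgroup_smul, Subgroup.mem_pointwise_smul_iff_inv_smul_mem]
    simpa [MulAut.smul_def, MulAut.conj_symm_apply, mul_assoc] using hQ (Subgroup.mem_zpowers x)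
  rw [hQ₀, Subgroup.mem_subgroupOf] at hmem
  obtain ⟨v, hv⟩ := kEl_surj X hW hmem
  have hfix : X.sig (kEl X E W v) = kEl X E W v := by
    rw [← hv]; exact (c * x * c⁻¹ : ↥X.grp).2.2
  have hsq : kEl X E W v * kEl X E W v = 1 := by
    rw [← hv]
    show (c : GL D.Idx F) * g * (c : GL D.Idx F)⁻¹ * ((c : GL D.Idx F) * g * (c : GL D.Idx F)⁻¹) = 1
    rw [show (c : GL D.Idx F) * g * (c : GL D.Idx F)⁻¹ * ((c : GL D.Idx F) * g * (c : GL D.Idx F)⁻¹) =
      (c : GL D.Idx F) * (g * g) * (c : GL D.Idx F)⁻¹ by group, h2g, mul_one, mul_inv_cancel]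
  have hreach : KReach X E R g := by
    unfold kRootOk at hroot
    cases hl : kLook P root with
    | none => rw [hl] at hroot; simp at hroot
    | some nd =>
      obtain ⟨S, N, op⟩ := nd
      rw [hl] at hroot
      simp only [Bool.and_eq_true, Nat.beq_eq] at hroot
      obtain ⟨hS, rfl⟩ := hroot
      have h1 := hgood root _ hl v (kEl_fixed X hW hfix) (fun y hy hb => by
        have := congrArg (fun n => Nat.testBit n y) hS
        simp [hb, hy] at this) (fun y _ hb => by simp at hb) hsq
      rw [← hv] at h1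
      exact KReach.conj X (h := (c : GL D.Idx F)) c.2 h1
  obtain ⟨h, hh, r, hr, e⟩ := hreach
  rcases List.mem_cons.1 hr with rfl | hr
  · exact Or.inl (conj_eq_one_iff.1 (e.trans (by simp [eRep])))
  · exact Or.inr ⟨h, hh, r, hr, e⟩

end Cfsg.Lib.Chev
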