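import Cfsg.Agent.Lib.Chev.TwoGen
import Cfsg.Agent.Lib.Chev.CommAll

/-! Two generators for the seven types: the certificates. -/

set_option autoImplicit false
set_option maxRecDepth 100000

namespace Cfsg.Lib.Chev.TwoGen

open Cfsg.Lie Cfsg.Lib.Chev

theorem big_G2_2 : chkBig tblG2 [0, 1] 0 9 11 2
    [.conjFull 8, .conjFull 4, .conjFull 2, .conjFull 3, .conjFull 7, .comm 9 7 10, .comm 9 3 5, .comm 7 2 0, .comm 3 4 1, .comm 2 8 6] = true := by decide +kernel

theorem big_G2_3 : chkBig tblG2 [0, 1] 0 9 11 3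
    [.conjFull 8, .conjPoint 11, .conjFull 4, .conjPoint 6, .conjFull 2, .conjPoint 1, .conjFull 3, .conjPoint 0, .promote 5, .promote 6] = true := by decide +kernel

theorem big_G2_0 : chkBig tblG2 [0, 1] 0 9 11 0
    [.conjFull 8, .conjFull 4, .conjFull 2, .conjFull 3, .conjFull 7, .comm 9 7 10, .comm 9 3 5, .comm 7 2 0, .comm 3 4 1, .comm 2 8 6] = true := by decide +kernel

theorem big_B2_2 : chkBig tblB2 [0, 1] 1 6 7 2
    [.conjFull 2, .conjPoint 7, .conjFull 1, .conjPoint 4, .conjPoint 0, .promote 3, .promote 4] = true := by decide +kernel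

theorem big_B2_3 : chkBig tblB2 [0, 1] 1 6 7 3
    [.conjFull 2, .conjFull 1, .conjFull 5, .comm 6 2 4, .comm 5 1 3] = true := by decide +kernel

theorem big_B2_0 : chkBig tblB2 [0, 1] 1 6 7 0
    [.conjFull 2, .conjFull 1, .conjFull 5, .comm 6 2 4, .comm 5 1 3] = true := by decide +kernel

theorem big_D4_2 : chkBig tblD4 [0, 1, 2, 3] 0 21 12 2
    [.conjFull 15, .conjPoint 12, .conjFull 13, .conjPoint 3, .conjFull 2, .conjPoint 7, .conjFull 8, .conjPoint 11, .conjFull 10, .conjPoint 20, .promote 16, .promote 7, .promote 3, .comm 3 15 5, .comm 7 21 18, .comm 7 13 9, .comm 16 10 14, .conjFull 7, .conjFull 16] = true := by decide +kernel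

theorem big_D4_3 : chkBig tblD4 [0, 1, 2, 3] 0 21 12 3
    [.conjFull 15, .conjPoint 12, .conjFull 13, .conjPoint 3, .conjFull 2, .conjPoint 7, .conjFull 8, .conjPoint 11, .conjFull 10, .conjPoint 20, .promote 16, .promote 7, .promote 3, .comm 3 15 5, .comm 7 21 18, .comm 7 13 9, .comm 16 10 14, .conjFull 7, .conjFull 16] = true := by decide +kernel

theorem big_D4_0 : chkBig tblD4 [0, 1, 2, 3] 0 21 12 0
    [.conjFull 15, .conjPoint 12, .conjFull 13, .conjPoint 3, .conjFull 2, .conjPoint 7, .conjFull 8, .conjPoint 11, .conjFull 10, .conjPoint 20, .promote 16, .promote 7, .promote 3, .comm 3 15 5, .comm 7 21 18, .comm 7 13 9, .comm 16 10 14, .conjFull 7, .conjFull 16] = true := by decide +kernel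

theorem big_F4_2 : chkBig tblF4 [0, 1, 2, 3] 0 44 47 2
    [.conjFull 40, .conjPoint 47, .conjFull 39, .conjPoint 32, .conjFull 29, .conjPoint 26, .conjFull 13, .conjPoint 6, .conjFull 10, .conjPoint 2, .conjFull 3, .conjPoint 1, .conjFull 7, .conjPoint 0, .conjFull 8, .conjPoint 15, .conjFull 18, .conjPoint 21, .conjFull 34, .conjFull 37, .promote 41, .promote 15, .promote 32, .comm 44 7 33, .comm 37 13 28, .comm 34 10 19, .comm 18 32 23, .comm 18 39 35, .comm 8 40 27, .comm 7 39 20, .comm 3 40 14, .comm 10 41 17, .comm 13 41 25, .comm 29 15 24, .conjFull 17, .conjFull 4, .conjFull 16] = true := by decide +kernel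

theorem big_F4_3 : chkBig tblF4 [0, 1, 2, 3] 0 44 47 3
    [.conjFull 40, .conjFull 39, .conjFull 29, .conjFull 13, .conjFull 10, .conjFull 3, .conjFull 7, .conjFull 8, .conjFull 18, .conjFull 34, .conjFull 37, .comm 44 7 33, .comm 37 13 28, .comm 34 10 19, .comm 18 39 35, .comm 8 29 12, .comm 8 40 27, .comm 7 39 20, .comm 3 29 6, .comm 3 40 14, .comm 13 40 32, .comm 32 19 24, .comm 32 18 23, .comm 6 35 25, .comm 6 34 22] = true := by decide +kernel

theorem big_F4_0 : chkBig tblF4 [0, 1, 2, 3] 0 44 47 0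
    [.conjFull 40, .conjFull 39, .conjFull 29, .conjFull 13, .conjFull 10, .conjFull 3, .conjFull 7, .conjFull 8, .conjFull 18, .conjFull 34, .conjFull 37, .comm 44 7 33, .comm 37 13 28, .comm 34 10 19, .comm 18 39 35, .comm 8 29 12, .comm 8 40 27, .comm 7 39 20, .comm 3 29 6, .comm 3 40 14, .comm 13 40 32, .comm 32 19 24, .comm 32 18 23, .comm 6 35 25, .comm 6 34 22] = true := by decide +kernel

theorem big_E6_2 : chkBig tblE6 [0, 1, 2, 3, 4, 5] 0 66 71 2
    [.conjFull 45, .conjPoint 71, .conjFull 14, .conjPoint 70, .conjFull 21, .conjPoint 55, .conjFull 7, .conjPoint 41, .conjFull 2, .conjPoint 10, .conjFull 17, .conjPoint 4, .conjFull 31, .conjPoint 0, .conjFull 33, .conjPoint 1, .conjFull 62, .conjPoint 16, .conjFull 68, .conjPoint 30, .conjFull 53, .promote 61, .promote 16, .promote 10, .promote 55, .comm 55 61 71, .comm 55 31 52, .comm 55 17 37, .comm 10 16 0, .comm 16 66 56, .comm 66 2 29, .comm 53 17 35, .comm 53 7 15, .comm 68 2 34, .comm 62 7 32, .conjFull 56, .conjFull 0, .conjFull 37,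 .conjFull 52, .conjFull 71, .comm 70 0 25, .comm 1 71 46] = true := by decide +kernel

theorem big_E6_3 : chkBig tblE6 [0, 1, 2, 3, 4, 5] 0 66 71 3
    [.conjFull 45, .conjPoint 71, .conjFull 14, .conjPoint 70, .conjFull 21, .conjPoint 55, .conjFull 7, .conjPoint 41, .conjFull 2, .conjPoint 10, .conjFull 17, .conjPoint 4, .conjFull 31, .conjPoint 0, .conjFull 33, .conjPoint 1, .conjFull 62, .conjPoint 16, .conjFull 68, .conjPoint 30, .conjFull 53, .promote 61, .promote 16, .promote 10, .promote 55, .comm 55 61 71, .comm 55 31 52, .comm 55 17 37, .comm 10 16 0, .comm 16 66 56, .comm 66 2 29, .comm 53 17 35, .comm 53 7 15, .comm 68 2 34, .comm 62 7 32, .conjFull 56, .conjFull 0, .conjFull 37, .conjFull 52, .conjFull 71, .comm 70 0 25, .comm 1 71 46] = true := by decide +kernel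

theorem big_E6_0 : chkBig tblE6 [0, 1, 2, 3, 4, 5] 0 66 71 0
    [.conjFull 45, .conjPoint 71, .conjFull 14, .conjPoint 70, .conjFull 21, .conjPoint 55, .conjFull 7, .conjPoint 41, .conjFull 2, .conjPoint 10, .conjFull 17, .conjPoint 4, .conjFull 31, .conjPoint 0, .conjFull 33, .conjPoint 1, .conjFull 62, .conjPoint 16, .conjFull 68, .conjPoint 30, .conjFull 53, .promote 61, .promote 16, .promote 10, .promote 55, .comm 55 61 71, .comm 55 31 52, .comm 55 17 37, .comm 10 16 0, .comm 16 66 56, .comm 66 2 29, .comm 53 17 35, .comm 53 7 15, .comm 68 2 34, .comm 62 7 32, .conjFull 56, .conjFull 0, .conjFull 37, .conjFull 52, .conjFull 71, .comm 70 0 25, .comm 1 71 46] = true := by decide +kernel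

theorem big_E7_2 : chkBig tblE7 [0, 1, 2, 3, 4, 5, 6] 0 125 122 2
    [.conjFull 124, .conjPoint 122, .conjFull 123, .conjPoint 117, .conjFull 118, .conjPoint 91, .conjFull 92, .conjPoint 71, .conjFull 72, .conjPoint 68, .conjFull 26, .conjPoint 25, .conjFull 16, .conjPoint 15, .conjFull 6, .conjPoint 5, .conjFull 0, .conjPoint 10, .conjFull 1, .conjPoint 3, .conjFull 2, .conjPoint 8, .conjFull 7, .conjPoint 34, .conjFull 33, .conjPoint 54, .conjFull 53, .conjPoint 57, .conjFull 99, .conjFull 109, .conjFull 119, .promote 100, .promote 34, .promote 25, .promote 91, .comm 91 33 61, .comm 91 7 28, .comm 25 99 59, .comm 25 53 18, .comm 34 92 64, .comm 34 118 97, .comm 100 26 66, .comm 100 72 107, .comm 125 1 93, .comm 2 124 73, .comm 1 123 52, .comm 0 124 32, .conjFull 107, .conjFull 97, .conjFull 64, .conjFull 18, .conjFull 28, .conjFull 61, .conjFull 39, .conjFull 49, .conjFull 86, .conjFull 76, .conjFull 82, .conjFull 43] = true := by decide +kernel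

theorem big_E7_3 : chkBig tblE7 [0, 1, 2, 3, 4, 5, 6] 0 125 122 3
    [.conjFull 124, .conjPoint 122, .conjFull 123, .conjPoint 117, .conjFull 118, .conjPoint 91, .conjFull 92, .conjPoint 71, .conjFull 72, .conjPoint 68, .conjFull 26, .conjPoint 25, .conjFull 16, .conjPoint 15, .conjFull 6, .conjPoint 5, .conjFull 0, .conjPoint 10, .conjFull 1, .conjPoint 3, .conjFull 2, .conjPoint 8, .conjFull 7, .conjPoint 34, .conjFull 33, .conjPoint 54, .conjFull 53, .conjPoint 57, .conjFull 99, .conjFull 109, .conjFull 119, .promote 100, .promote 34, .promote 25, .promote 91, .comm 91 33 61, .comm 91 7 28, .comm 25 99 59, .comm 25 53 18, .comm 34 92 64, .comm 34 118 97, .comm 100 26 66, .comm 100 72 107, .comm 125 1 93, .comm 2 124 73, .comm 1 123 52, .comm 0 124 32, .conjFull 107, .conjFull 97, .conjFull 64, .conjFull 18, .conjFull 28, .conjFull 61, .conjFull 39, .conjFull 49, .conjFull 86, .conjFull 76, .conjFull 82, .conjFull 43] = true := by decide +kernel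

theorem big_E7_0 : chkBig tblE7 [0, 1, 2, 3, 4, 5, 6] 0 125 122 0
    [.conjFull 124, .conjPoint 122, .conjFull 123, .conjPoint 117, .conjFull 118, .conjPoint 91, .conjFull 92, .conjPoint 71, .conjFull 72, .conjPoint 68, .conjFull 26, .conjPoint 25, .conjFull 16, .conjPoint 15, .conjFull 6, .conjPoint 5, .conjFull 0, .conjPoint 10, .conjFull 1, .conjPoint 3, .conjFull 2, .conjPoint 8, .conjFull 7, .conjPoint 34, .conjFull 33, .conjPoint 54, .conjFull 53, .conjPoint 57, .conjFull 99, .conjFull 109, .conjFull 119, .promote 100, .promote 34, .promote 25, .promote 91, .comm 91 33 61, .comm 91 7 28, .comm 25 99 59, .comm 25 53 18, .comm 34 92 64, .comm 34 118 97, .comm 100 26 66, .comm 100 72 107, .comm 125 1 93, .comm 2 124 73, .comm 1 123 52, .comm 0 124 32, .conjFull 107, .conjFull 97, .conjFull 64, .conjFull 18, .conjFull 28, .conjFull 61, .conjFull 39, .conjFull 49, .conjFull 86, .conjFull 76, .conjFull 82, .conjFull 43] = true := by decide +kernel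

theorem big_E8_2 : chkBig tblE8 [0, 1, 2, 3, 4, 5, 6, 7] 0 231 239 2
    [.conjFull 223, .conjPoint 239, .conjFull 217, .conjPoint 224, .conjFull 202, .conjPoint 218, .conjFull 160, .conjPoint 203, .conjFull 133, .conjPoint 161, .conjFull 129, .conjPoint 134, .conjFull 69, .conjPoint 70, .conjFull 54, .conjPoint 55, .conjFull 34, .conjPoint 35, .conjFull 12, .conjPoint 13, .conjFull 20, .conjPoint 5, .conjFull 6, .conjPoint 4, .conjFull 7, .conjPoint 3, .conjFull 14, .conjPoint 2, .conjFull 8, .conjPoint 1, .conjFull 16, .conjPoint 0, .conjFull 22, .conjPoint 15, .conjFull 37, .conjPoint 21, .conjFull 79, .conjPoint 36, .conjFull 106, .conjPoint 78, .conjFull 110, .conjPoint 105, .conjFull 170, .conjPoint 169, .conjFull 185, .conjPoint 184, .conjFull 205, .conjPoint 204, .conjFull 227, .conjFull 219, .conjFull 233, .conjFull 232, .conjFull 225, .promote 226, .promote 169, .promote 78, .promote 15, .promote 13, .promote 70, .promote 161, .promote 224, .comm 224 16 130, .comm 224 8 77, .comm 224 14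 98, .comm 161 79 121, .comm 70 170 126, .comm 13 227 120, .comm 15 231 162, .comm 15 225 141, .comm 15 223 109, .comm 78 160 118, .comm 169 69 113, .comm 226 12 119, .comm 231 7 104, .comm 232 8 135, .conjFull 113, .conjFull 126] = true := by decide +kernel

theorem big_E8_3 : chkBig tblE8 [0, 1, 2, 3, 4, 5, 6, 7] 0 231 239 3
    [.conjFull 223, .conjPoint 239, .conjFull 217, .conjPoint 224, .conjFull 202, .conjPoint 218, .conjFull 160, .conjPoint 203, .conjFull 133, .conjPoint 161, .conjFull 129, .conjPoint 134, .conjFull 69, .conjPoint 70, .conjFull 54, .conjPoint 55, .conjFull 34, .conjPoint 35, .conjFull 12, .conjPoint 13, .conjFull 20, .conjPoint 5, .conjFull 6, .conjPoint 4, .conjFull 7, .conjPoint 3, .conjFull 14, .conjPoint 2, .conjFull 8, .conjPoint 1, .conjFull 16, .conjPoint 0, .conjFull 22, .conjPoint 15, .conjFull 37, .conjPoint 21, .conjFull 79, .conjPoint 36, .conjFull 106, .conjPoint 78, .conjFull 110, .conjPoint 105, .conjFull 170, .conjPoint 169, .conjFull 185, .conjPoint 184, .conjFull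 205, .conjPoint 204, .conjFull 227, .conjFull 219, .conjFull 233, .conjFull 232, .conjFull 225, .promote 226, .promote 169, .promote 78, .promote 15, .promote 13, .promote 70, .promote 161, .promote 224, .comm 224 16 130, .comm 224 8 77, .comm 224 14 98, .comm 161 79 121, .comm 70 170 126, .comm 13 227 120, .comm 15 231 162, .comm 15 225 141, .comm 15 223 109, .comm 78 160 118, .comm 169 69 113, .comm 226 12 119, .comm 231 7 104, .comm 232 8 135, .conjFull 113, .conjFull 126] = true := by decide +kernel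

theorem big_E8_0 : chkBig tblE8 [0, 1, 2, 3, 4, 5, 6, 7] 0 231 239 0
    [.conjFull 223, .conjPoint 239, .conjFull 217, .conjPoint 224, .conjFull 202, .conjPoint 218, .conjFull 160, .conjPoint 203, .conjFull 133, .conjPoint 161, .conjFull 129, .conjPoint 134, .conjFull 69, .conjPoint 70, .conjFull 54, .conjPoint 55, .conjFull 34, .conjPoint 35, .conjFull 12, .conjPoint 13, .conjFull 20, .conjPoint 5, .conjFull 6, .conjPoint 4, .conjFull 7, .conjPoint 3, .conjFull 14, .conjPoint 2, .conjFull 8, .conjPoint 1, .conjFull 16, .conjPoint 0, .conjFull 22, .conjPoint 15, .conjFull 37, .conjPoint 21, .conjFull 79, .conjPoint 36, .conjFull 106, .conjPoint 78, .conjFull 110, .conjPoint 105, .conjFull 170, .conjPoint 169, .conjFull 185, .conjPoint 184, .conjFull 205, .conjPoint 204, .conjFull 227, .conjFull 219, .conjFull 233, .conjFull 232, .conjFull 225, .promote 226, .promote 169, .promote 78, .promote 15, .promote 13, .promote 70, .promote 161, .promote 224, .comm 224 16 130, .comm 224 8 77, .comm 224 14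 98, .comm 161 79 121, .comm 70 170 126, .comm 13 227 120, .comm 15 231 162, .comm 15 225 141, .comm 15 223 109, .comm 78 160 118, .comm 169 69 113, .comm 226 12 119, .comm 231 7 104, .comm 232 8 135, .conjFull 113, .conjFull 126] = true := by decide +kernel

theorem small_E6 : chkTwo tblE6 [0, 1, 2, 3, 4, 5] 69
    [.conjFull 69, .conjFull 54, .conjFull 40, .conjFull 38, .conjFull 9, .conjFull 3, .conjFull 18, .conjFull 5, .conjFull 26, .conjFull 57, .conjFull 50, .comm 64 5 33, .comm 64 18 56, .comm 64 9 39, .comm 50 18 31, .comm 50 3 11, .comm 57 40 59, .comm 26 38 28, .comm 5 69 42, .comm 18 54 36, .comm 3 54 14, .comm 3 69 37, .comm 9 69 45, .comm 45 11 15, .comm 37 31 32, .comm 37 33 35, .comm 14 56 29, .comm 36 33 34, .comm 28 50 46, .comm 59 9 25] = true := by decide +kernel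

theorem small_E7 : chkTwo tblE7 [0, 1, 2, 3, 4, 5, 6] 122
    [.conjFull 122, .conjFull 117, .conjFull 91, .conjFull 71, .conjFull 68, .conjFull 25, .conjFull 15, .conjFull 5, .conjFull 10, .conjFull 3, .conjFull 8, .conjFull 34, .conjFull 54, .conjFull 57, .conjFull 100, .conjFull 110, .conjFull 120, .comm 120 71 123, .comm 110 91 124, .comm 100 117 125, .comm 57 122 119, .comm 54 5 2, .comm 34 15 1, .comm 8 25 0, .comm 3 68 6, .comm 3 91 24, .comm 10 117 65, .comm 5 91 26, .comm 5 122 67, .comm 15 117 72, .comm 25 122 92, .comm 92 34 64, .comm 72 57 69, .comm 72 54 63, .comm 67 57 62, .comm 67 54 56, .comm 26 100 66, .comm 65 57 59, .comm 24 100 61, .comm 6 115 47, .comm 0 124 32, .comm 1 125 93, .comm 1 123 52, .comm 2 124 73, .comm 119 10 78] = true := by decide +kernel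

theorem small_E8 : chkTwo tblE8 [0, 1, 2, 3, 4, 5, 6, 7] 239
    [.conjFull 239, .conjFull 224, .conjFull 218, .conjFull 203, .conjFull 161, .conjFull 134, .conjFull 70, .conjFull 55, .conjFull 35, .conjFull 13, .conjFull 5, .conjFull 4, .conjFull 3, .conjFull 2, .conjFull 1, .conjFull 0, .conjFull 15, .conjFull 21, .conjFull 36, .conjFull 78, .conjFull 105, .conjFull 169, .conjFull 184, .conjFull 204, .conjFull 226, .conjFull 234, .conjFull 235, .conjFull 236, .conjFull 237, .comm 238 0 119, .comm 238 2 121, .comm 237 1 118, .comm 237 3 123, .comm 236 2 116, .comm 236 4 126, .comm 235 3 113, .comm 235 5 130, .comm 234 4 109, .comm 226 5 88, .comm 169 134 177, .comm 105 70 62, .comm 105 161 150, .comm 78 203 166, .comm 21 239 187, .comm 15 161 45, .comm 15 239 173, .comm 0 218 52, .comm 1 224 67, .comm 1 239 120, .comm 2 224 68, .comm 68 166 98, .comm 67 150 77, .comm 52 177 104, .comm 173 88 162, .comm 45 204 141, .comm 187 62 135] = true := by decide +kernel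

theorem small_D4 : chkTwo' tblD4 [0, 1, 2, 3] 22 16 9 13 [.conjFull 22, .conjFull 5, .conjFull 9, .conjFull 1, .conjFull 18]
    [.conjFull 13, .conjFull 2, .conjFull 8, .conjFull 10, .conjFull 21, .comm 15 9 12, .comm 21 1 11] = true := by decide +kernel

theorem small_F4 : chkTwo' tblF4 [0, 1, 2, 3] 47 37 26 39 [.conjFull 47, .conjFull 32, .conjFull 26, .conjFull 6, .conjFull 2, .conjFull 1, .conjFull 0, .conjFull 15, .conjFull 21, .conjFull 41, .conjFull 45]
    [.conjFull 39, .conjFull 29, .conjFull 13, .conjFull 10, .conjFull 3, .conjFull 7, .conjFull 8, .conjFull 18, .conjFull 34, .conjFull 37, .conjFull 44, .comm 40 8 27, .comm 40 3 14, .comm 44 7 33, .comm 37 13 28, .comm 34 29 38, .comm 18 39 35, .comm 18 32 23, .comm 8 47 22, .comm 7 39 20, .comm 10 45 24, .comm 13 41 25] = true := by decide +kernel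

variable {F : Type*} [Field F] [Fintype F]

theorem two_type {D : ChevalleyDatum} {T : Tbl} (K : CommCert D T) {w : List ℕ} {j a' g : ℕ} {l₂ l₃ l₀ : List Step}
    (c₂ : chkBig T w j a' g 2 l₂ = true) (c₃ : chkBig T w j a' g 3 l₃ = true) (c₀ : chkBig T w j a' g 0 l₀ = true)
    (hF : ∃ x : F, x ≠ 0 ∧ x ≠ 1) :
    ∃ a b : ↥(D.group F), Subgroup.closure ({a, b} : Set ↥(D.group F)) = ⊤ := by
  by_cases h2 : (2 : F) = 0
  · refine two_big K.cert K c₂ (fun h => absurd rfl h) (fun _ e => ?_) (fun _ => h2) (fun h => absurd h (by decide)) hF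
    exact one_ne_zero (show (1 : F) = 0 by linear_combination e - h2)
  by_cases h3 : (3 : F) = 0
  · exact two_big K.cert K c₃ (fun _ => h2) (fun h => absurd rfl h) (fun h => absurd h (by decide)) (fun _ => h3) hF
  · exact two_big K.cert K c₀ (fun _ => h2) (fun _ => h3) (fun h => absurd h (by decide))
      (fun h => absurd h (by decide)) hF

omit [Fintype F] in
theorem two_of_all_one (h : ¬ ∃ x : F, x ≠ 0 ∧ x ≠ 1) : (2 : F) = 0 ∧ ∀ x : F, x ≠ 0 → x = 1 := by
  push Not at h
  refine ⟨?_, h⟩
  by_contra h2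
  exact one_ne_zero (show (1 : F) = 0 by linear_combination h 2 h2)

theorem two_all {D : ChevalleyDatum} (hD : D ∈ [chevG2, chevB2, chevD4, chevF4, chevE6, chevE7, chevE8])
    (hF : D ∈ [chevB2, chevG2] → ∃ x : F, x ≠ 0 ∧ x ≠ 1) :
    ∃ a b : ↥(D.group F), Subgroup.closure ({a, b} : Set ↥(D.group F)) = ⊤ := by
  simp only [List.mem_cons, List.not_mem_nil, or_false] at hD
  by_cases h : ∃ x : F, x ≠ 0 ∧ x ≠ 1
  · rcases hD with rfl | rfl | rfl | rfl | rfl | rfl | rfl
    · exact two_type commCertG2 big_G2_2 big_G2_3 big_G2_0 h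
    · exact two_type commCertB2 big_B2_2 big_B2_3 big_B2_0 h
    · exact two_type commCertD4 big_D4_2 big_D4_3 big_D4_0 h
    · exact two_type commCertF4 big_F4_2 big_F4_3 big_F4_0 h
    · exact two_type commCertE6 big_E6_2 big_E6_3 big_E6_0 h
    · exact two_type commCertE7 big_E7_2 big_E7_3 big_E7_0 h
    · exact two_type commCertE8 big_E8_2 big_E8_3 big_E8_0 h
  obtain ⟨h2, hone⟩ := two_of_all_one h
  rcases hD with rfl | rfl | rfl | rfl | rfl | rfl | rfl
  · exact absurd (hF (by simp)) h
  · exact absurd (hF (by simp)) h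
  · exact two_small' commCertD4.cert commCertD4 small_D4 h2 hone
  · exact two_small' commCertF4.cert commCertF4 small_F4 h2 hone
  · exact two_small commCertE6.cert commCertE6 small_E6 h2 hone
  · exact two_small commCertE7.cert commCertE7 small_E7 h2 hone
  · exact two_small commCertE8.cert commCertE8 small_E8 h2 hone

end Cfsg.Lib.Chev.TwoGen
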