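import Cfsg.Prelude.Def_LieTwisted
import Cfsg.Agent.Lib.Chev.TwoGenTw
import Cfsg.Agent.Lib.Chev.TwE6
import Cfsg.Agent.Lib.Chev.TwD4

/-! Two generators of ²E₆(q) and ³D₄(q). -/

set_option autoImplicit false
set_option maxRecDepth 100000

namespace Cfsg.Lib.Chev.TwoGen

open Cfsg.Lie Cfsg.Lib.Chev

theorem chkTwGenE6 : chkTwGen tblE6 [[0, 5], [2, 4], [3], [1]] [0, 5] 2 [[0, 5], [2, 4]] [0, 5] [] [3]
    [.conjFull [(41, 1), (58, 1)], .conjPoint [(39, 1)], .conjFull [(62, -1), (52, 1)], .conjPoint [(46, 1)], .conjFull [(43, -1), (40, 1)], .conjPoint [(8, 1)], .conjFull [(49, 1), (61, -1)], .conjPoint [(27, 1)], .conjFull [(35, -1), (15, -1)], .conjPoint [(6, -1)], .conjFull [(34, -1), (29, -1)], .conjPoint [(20, -1)], .conjFull [(13, -1), (30, -1)], .conjPoint [(32, -1)], .conjFull [(19, -1), (9, 1)], .conjPoint [(25, -1)], .conjFull [(31, -1), (28, 1)], .conjPoint [(63, -1)], .conjFull [(10, 1), (22, -1)],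 .conjPoint [(44, -1)], .conjFull [(56, 1), (36, 1)], .conjPoint [(65, 1)], .promote [(51, 1)], .promote [(65, 1)], .promote [(44, -1)], .promote [(63, -1)], .promote [(20, -1)], .promote [(6, -1)], .promote [(27, 1)], .promote [(8, 1)], .flip [(6, -1)], .flip [(20, -1)], .flip [(63, -1)], .flip [(44, -1)], .rot (19, -1) [(9, 1)], .fixedComm 44 20 25 (1), .fixedComm 63 6 32 (1), .fixedComm 8 65 39 (-1), .fixedComm 27 51 46 (-1), .mixed 51 9 19 15 35 8 (1) (-1) (-1) (1) (-1), .conjFull [(15, 1), (35, 1)]] = true := by decide +kernel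

theorem chkTwGenD4 : chkTwGen tblD4 [[0, 2, 3], [1]] [0, 2, 3] 3 [[0, 2, 3], [1]] [0, 2, 3] [[1], [0, 2, 3]] [1]
    [.conjFull [(19, -1), (16, 1), (15, 1)], .conjPoint [(23, -1)], .conjFull [(5, -1), (10, -1), (11, -1)], .conjPoint [(14, 1)], .conjFull [(6, -1), (3, 1), (2, 1)], .conjPoint [(1, 1)], .conjFull [(4, 1), (7, -1), (8, -1)], .conjPoint [(0, 1)], .promote [(9, -1)], .promote [(14, 1)], .flip [(9, -1)], .flip [(5, -1), (10, -1), (11, -1)]] = true := by decide +kernel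

variable {K : Type*} [Field K] [Fintype K] {q : ℕ}

theorem cel_word {D : ChevalleyDatum} {T : Tbl} (C : Cert D T) {f : K →+* K} (hf : ∀ t, f t = t ^ q) :
    (∀ r t, ((cel C f [(r, 1)] t : GL D.Idx K) : Matrix D.Idx D.Idx K) = D.wordMat K [(r, t)]) ∧
    (∀ r s t, ((cel C f [(r, 1), (s, 1)] t : GL D.Idx K) : Matrix D.Idx D.Idx K) = D.wordMat K [(r, t), (s, t ^ q)]) ∧
    (∀ r s u t, ((cel C f [(r, 1), (s, 1), (u, 1)] t : GL D.Idx K) : Matrix D.Idx D.Idx K) =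
      D.wordMat K [(r, t), (s, t ^ q), (u, t ^ q ^ 2)]) := by
  refine ⟨fun r t => ?_, fun r s t => ?_, fun r s u t => ?_⟩ <;>
    simp [cel, ChevalleyDatum.wordMat, coe_xg, hf, ← pow_mul, sq, mul_assoc]

theorem twistedE6_two (hq : IsPrimePow q) (hK : Fintype.card K = q ^ 2) :
    ∃ a b : ↥(Cfsg.Lie.twistedE6 K q), Subgroup.closure ({a, b} : Set ↥(Cfsg.Lie.twistedE6 K q)) = ⊤ := by
  obtain ⟨f, hf, hit, hk⟩ := exists_frobQ (K := K) hq (k := 2) (by norm_num) (by rw [Nat.card_eq_fintype_card]; exact hK)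
  refine two_tw certE6C f fullCertE6.comm hq.two_le (Or.inl rfl) hf hk hK chkTwGenE6 ?_
  obtain ⟨w1, w2, -⟩ := cel_word certE6C (K := K) hf
  have p0 : posCls tblE6 [0, 5] = [(56, 1), (36, 1)] := by decide +kernel
  have p1 : posCls tblE6 [2, 4] = [(42, 1), (37, 1)] := by decide +kernel
  have p2 : posCls tblE6 [3] = [(39, 1)] := by decide +kernel
  have p3 : posCls tblE6 [1] = [(46, 1)] := by decide +kernel
  have n0 : negCls tblE6 [0, 5] = [(15, 1), (35, 1)] := by decide +kernel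
  have n1 : negCls tblE6 [2, 4] = [(29, 1), (34, 1)] := by decide +kernel
  have n2 : negCls tblE6 [3] = [(32, 1)] := by decide +kernel
  have n3 : negCls tblE6 [1] = [(25, 1)] := by decide +kernel
  rw [Cfsg.Lie.twistedE6, ChevalleyDatum.genSubgroup]
  congr 1
  ext g
  constructor
  · rintro ⟨w, hw, hg⟩
    rcases hw with ⟨t, ht, r, hr, rfl⟩ | ⟨t, rs, hr, rfl⟩
    · simp only [List.mem_cons, List.not_mem_nil, or_false] at hr
      have hfix : f^[1] t = t := by rw [Function.iterate_one, hf, ht]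
      rcases hr with rfl | rfl | rfl | rfl
      · exact ⟨[1], by simp, t, hfix, Or.inl (Units.ext (by rw [hg, p3, w1]; rfl))⟩
      · exact ⟨[1], by simp, t, hfix, Or.inr (Units.ext (by rw [hg, n3, w1]; rfl))⟩
      · exact ⟨[3], by simp, t, hfix, Or.inl (Units.ext (by rw [hg, p2, w1]; rfl))⟩
      · exact ⟨[3], by simp, t, hfix, Or.inr (Units.ext (by rw [hg, n2, w1]; rfl))⟩
    · simp only [List.mem_cons, List.not_mem_nil, or_false] at hr
      rcases hr with rfl | rfl | rfl | rfl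
      · exact ⟨[0, 5], by simp, t, hk t, Or.inl (Units.ext (by rw [hg, p0, w2]; rfl))⟩
      · exact ⟨[0, 5], by simp, t, hk t, Or.inr (Units.ext (by rw [hg, n0, w2]; rfl))⟩
      · exact ⟨[2, 4], by simp, t, hk t, Or.inl (Units.ext (by rw [hg, p1, w2]; rfl))⟩
      · exact ⟨[2, 4], by simp, t, hk t, Or.inr (Units.ext (by rw [hg, n1, w2]; rfl))⟩
  · rintro ⟨O, hO, t, ht, hg⟩
    simp only [List.mem_cons, List.not_mem_nil, or_false] at hO
    rcases hO with rfl | rfl | rfl | rfl <;> rcases hg with rfl | rfl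
    · exact ⟨_, Or.inr ⟨t, (e6p1, e6p6), by simp, rfl⟩, by rw [p0, w2]; rfl⟩
    · exact ⟨_, Or.inr ⟨t, (e6m1, e6m6), by simp, rfl⟩, by rw [n0, w2]; rfl⟩
    · exact ⟨_, Or.inr ⟨t, (e6p3, e6p5), by simp, rfl⟩, by rw [p1, w2]; rfl⟩
    · exact ⟨_, Or.inr ⟨t, (e6m3, e6m5), by simp, rfl⟩, by rw [n1, w2]; rfl⟩
    · exact ⟨_, Or.inl ⟨t, (hf t).symm.trans ht, e6p4, by simp, rfl⟩, by rw [p2, w1]; rfl⟩
    · exact ⟨_, Or.inl ⟨t, (hf t).symm.trans ht, e6m4, by simp, rfl⟩, by rw [n2, w1]; rfl⟩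
    · exact ⟨_, Or.inl ⟨t, (hf t).symm.trans ht, e6p2, by simp, rfl⟩, by rw [p3, w1]; rfl⟩
    · exact ⟨_, Or.inl ⟨t, (hf t).symm.trans ht, e6m2, by simp, rfl⟩, by rw [n3, w1]; rfl⟩

theorem twistedD4_two (hq : IsPrimePow q) (hK : Fintype.card K = q ^ 3) :
    ∃ a b : ↥(Cfsg.Lie.twistedD4 K q), Subgroup.closure ({a, b} : Set ↥(Cfsg.Lie.twistedD4 K q)) = ⊤ := by
  obtain ⟨f, hf, hit, hk⟩ := exists_frobQ (K := K) hq (k := 3) (by norm_num) (by rw [Nat.card_eq_fintype_card]; exact hK)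
  refine two_tw certD4C f fullCertD4.comm hq.two_le (Or.inr rfl) hf hk hK chkTwGenD4 ?_
  obtain ⟨w1, -, w3⟩ := cel_word certD4C (K := K) hf
  have p0 : posCls tblD4 [0, 2, 3] = [(18, 1), (13, 1), (12, 1)] := by decide +kernel
  have p1 : posCls tblD4 [1] = [(14, 1)] := by decide +kernel
  have n0 : negCls tblD4 [0, 2, 3] = [(5, 1), (10, 1), (11, 1)] := by decide +kernel
  have n1 : negCls tblD4 [1] = [(9, 1)] := by decide +kernel
  rw [Cfsg.Lie.twistedD4, ChevalleyDatum.genSubgroup]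
  congr 1
  ext g
  constructor
  · rintro ⟨w, hw, hg⟩
    rcases hw with ⟨t, ht, r, hr, rfl⟩ | ⟨t, rs, hr, rfl⟩
    · simp only [List.mem_cons, List.not_mem_nil, or_false] at hr
      have hfix : f^[1] t = t := by rw [Function.iterate_one, hf, ht]
      rcases hr with rfl | rfl
      · exact ⟨[1], by simp, t, hfix, Or.inl (Units.ext (by rw [hg, p1, w1]; rfl))⟩
      · exact ⟨[1], by simp, t, hfix, Or.inr (Units.ext (by rw [hg, n1, w1]; rfl))⟩
    · simp only [List.mem_cons, List.not_mem_nil, or_false] at hr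
      rcases hr with rfl | rfl
      · exact ⟨[0, 2, 3], by simp, t, hk t, Or.inl (Units.ext (by rw [hg, p0, w3]; rfl))⟩
      · exact ⟨[0, 2, 3], by simp, t, hk t, Or.inr (Units.ext (by rw [hg, n0, w3]; rfl))⟩
  · rintro ⟨O, hO, t, ht, hg⟩
    simp only [List.mem_cons, List.not_mem_nil, or_false] at hO
    rcases hO with rfl | rfl <;> rcases hg with rfl | rfl
    · exact ⟨_, Or.inr ⟨t, (d4p1, d4p3, d4p4), by simp, rfl⟩, by rw [p0, w3]; rfl⟩
    · exact ⟨_, Or.inr ⟨t, (d4m1, d4m3, d4m4), by simp, rfl⟩, by rw [n0, w3]; rfl⟩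
    · exact ⟨_, Or.inl ⟨t, (hf t).symm.trans ht, d4p2, by simp, rfl⟩, by rw [p1, w1]; rfl⟩
    · exact ⟨_, Or.inl ⟨t, (hf t).symm.trans ht, d4m2, by simp, rfl⟩, by rw [n1, w1]; rfl⟩

end Cfsg.Lib.Chev.TwoGen
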