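import Mathlib
import Cfsg.Agent.Lib.Chev.UnipotentCount

/-!
The double count giving the number of unipotent elements.
-/

set_option autoImplicit false
set_option linter.unusedSectionVars false

namespace Cfsg.Lib.Chev

open Cfsg Cfsg.Lie MulAction

variable {D : ChevalleyDatum} {T : Tbl} {F : Type*} [Field F]

/-- Unipotent elements. -/
def IsUnip (p : ℕ) (g : ↥(D.group F)) : Prop := ∃ k : ℕ, orderOf g = p ^ k

section

variable (C : Cert D T) (K : FullCert D T)
include C K

theorem isUnip_conj {p : ℕ} {g x : ↥(D.group F)} : IsUnip p (x * g * x⁻¹) ↔ IsUnip p g := by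
  rw [IsUnip, IsUnip, show orderOf (x * g * x⁻¹) = orderOf g from (MulAut.conj x).orderOf_eq g]

theorem card_radical_pow [Finite F] (S : Set ℕ) :
    (Nat.card ↥(D.unipotentRadical F S) : ℤ) * (Nat.card F : ℤ) ^ (posSub D S).card =
      (Nat.card F : ℤ) ^ (D.nroots / 2) := by
  exact_mod_cast card_radical_mul C K (F := F) S

theorem posSub_univ : (posSub D (↑(Finset.range D.rank) : Set ℕ)).card = D.nroots / 2 := by
  have hev := nroots_even C
  have : posSub D (↑(Finset.range D.rank) : Set ℕ) = Finset.Ico (D.nroots / 2) D.nroots := by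
    ext s
    rw [mem_posSub, Finset.mem_Ico]
    refine ⟨fun h => ⟨by omega, h.2.1⟩, fun h => ⟨by omega, h.2, fun i hi hn => ?_⟩⟩
    exact absurd (Finset.mem_coe.2 (Finset.mem_range.2 hi)) hn
  rw [this, Nat.card_Ico]
  omega

theorem pos_le_parabolic {S : Finset ℕ} :
    (D.posUnipotent F).subgroupOf (D.group F) ≤ D.parabolicIn F S :=
  fun _ hx => Subgroup.mem_sup_left (Subgroup.mem_sup_left hx)

/-- Unipotent elements of `P_S` are conjugate in `P_S` to elements of `U`. -/
theorem exists_conj_pos [Finite F] (p : ℕ) [Fact p.Prime] [CharP F p] {S : Finset ℕ} {u : ↥(D.group F)}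
    (hu : IsUnip p u) (huS : u ∈ D.parabolicIn F S) :
    ∃ x ∈ D.parabolicIn F S, x * u * x⁻¹ ∈ (D.posUnipotent F).subgroupOf (D.group F) := by
  obtain ⟨P, hP⟩ := exists_sylow C K (F := F) p
  have hle : (P : Subgroup ↥(D.group F)) ≤ D.parabolicIn F S := hP ▸ pos_le_parabolic C K
  obtain ⟨k, hk⟩ := hu
  have hz : IsPGroup p ↥(Subgroup.zpowers (⟨u, huS⟩ : ↥(D.parabolicIn F S))) :=
    IsPGroup.of_card (n := k) (by rw [Nat.card_zpowers, Subgroup.orderOf_mk, hk])
  obtain ⟨R, hR⟩ := hz.exists_le_sylow
  obtain ⟨a, ha⟩ := MulAction.exists_smul_eq ↥(D.parabolicIn F S) R (P.subtype hle)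
  refine ⟨a, a.2, ?_⟩
  have hmem : a * ⟨u, huS⟩ * a⁻¹ ∈ ((P.subtype hle : Sylow p ↥(D.parabolicIn F S)) : Subgroup ↥(D.parabolicIn F S)) := by
    rw [← ha, Sylow.coe_subgroup_smul]
    exact ⟨⟨u, huS⟩, hR (Subgroup.mem_zpowers _), rfl⟩
  rw [Sylow.coe_subtype, Subgroup.mem_subgroupOf, hP] at hmem
  exact hmem

omit K in
theorem sum_powerset_subset (S A : Finset ℕ) :
    ∑ J ∈ S.powerset, (if J ⊆ A then (-1 : ℤ) ^ J.card else 0) = if S ∩ A = ∅ then 1 else 0 := by
  rw [← Finset.sum_filter, show S.powerset.filter (fun J => J ⊆ A) = (S ∩ A).powerset by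
    ext J; simp only [Finset.mem_filter, Finset.mem_powerset, Finset.subset_inter_iff]]
  exact Finset.sum_powerset_neg_one_pow_card

/-- The count for all standard parabolic subgroups at once. -/
theorem card_unip_parabolic [Finite F] (p : ℕ) [Fact p.Prime] [CharP F p] (S : Finset ℕ)
    (hS : S ⊆ Finset.range D.rank) :
    (Nat.card {u : ↥(D.group F) // IsUnip p u ∧ u ∈ D.parabolicIn F S} : ℤ) =
      (Nat.card F : ℤ) ^ (D.nroots / 2) * (Nat.card F : ℤ) ^ (posSub D (↑S : Set ℕ)).card := by
  classical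
  induction S using Finset.strongInduction with
  | _ S ih =>
  haveI := WElt.finite C
  letI := Fintype.ofFinite (WElt D T)
  letI := Fintype.ofFinite ↥(D.group F)
  letI : ∀ J, Fintype (↥(D.group F) ⧸ D.parabolicIn F J) := fun J => Fintype.ofFinite _
  have hev := nroots_even C
  set q : ℤ := (Nat.card F : ℤ) with hq
  set N := D.nroots / 2 with hN
  obtain ⟨cell, hcell⟩ := exists_cellOf C K (F := F)
  set U' := (D.posUnipotent F).subgroupOf (D.group F) with hU'
  set R' := (D.unipotentRadical F (↑S : Set ℕ)).subgroupOf (D.group F) with hR'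
  have hRnorm : ∀ x ∈ D.parabolicIn F S, ∀ u, x * u * x⁻¹ ∈ R' ↔ u ∈ R' := fun x hx u =>
    ((Subgroup.mem_normalizer_iff.1 (parabolic_le_normalizer C K (↑S : Set ℕ) hx)) (u : GL D.Idx F)).symm
  -- the cosets meeting `P_S`, through their cells
  have hin : ∀ x, CosetIn D F S ∅ x ↔ WInS (↑S : Set ℕ) (cell x) := by
    intro x
    induction x using QuotientGroup.induction_on with
    | H g =>
      constructor
      · rintro ⟨h, hh, e⟩
        obtain ⟨a, ha, hha⟩ := exists_inW_cell C K (show (h : GL D.Idx F) ∈ D.parabolicSubgroup F _ from hh)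
        refine ⟨a, ha, bCell_disjoint C K (cell g).isWord ha.1 ?_ hha⟩
        rw [← e]; exact hcell h
      · rintro ⟨w, hw, hsame⟩
        exact ⟨g, mem_parabolic_of_cell C K hw (bCell_congr C K (cell g).isWord hw.1 hsame (hcell g)), rfl⟩
  -- counting cosets of `B` cell by cell
  have hfib : ∀ pw : WElt D T,
      (((Finset.univ : Finset (↥(D.group F) ⧸ D.parabolicIn F ∅)).filter fun x => cell x = pw).card : ℤ) =
        q ^ (negSet D T pw.word).card := by
    intro pw
    obtain ⟨e, -⟩ := exists_cell_param C K hcell pw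
    rw [← Fintype.card_subtype, ← Nat.card_eq_fintype_card, ← Nat.card_congr e,
      card_signPart C K pw.isWord.reverse N (by omega) (by omega), hN, filter_length_eq C,
      negSet_card_reverse C K pw.isWord, hq]
    push_cast
    rfl
  let Y : (J : Finset ℕ) → Finset (↥(D.group F) ⧸ D.parabolicIn F J) := fun J =>
    Finset.univ.filter fun y => CosetIn D F S J y
  let π : (J : Finset ℕ) → (↥(D.group F) ⧸ D.parabolicIn F ∅) → ↥(D.group F) ⧸ D.parabolicIn F J := fun J =>
    Subgroup.quotientMapOfLE (parabolicIn_mono C K (Finset.empty_subset J))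
  have hπin : ∀ J, J ⊆ S → ∀ x, CosetIn D F S J (π J x) ↔ CosetIn D F S ∅ x := by
    intro J hJS x
    induction x using QuotientGroup.induction_on with
    | H g =>
      constructor
      · rintro ⟨h, hh, e⟩
        refine ⟨g, ?_, rfl⟩
        have := parabolicIn_mono C K hJS (QuotientGroup.eq.1 e)
        have := mul_mem hh this
        rwa [mul_inv_cancel_left] at this
      · rintro ⟨h, hh, e⟩
        exact ⟨h, hh, by rw [← e]; rfl⟩
  have hbij := fun J (hJ : J ⊆ S) => parabolic_pi_bijective C K hcell (hJ.trans hS)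
  -- transport of a filtered count along the bijection
  have htrans : ∀ J, J ⊆ S → ∀ (P : (↥(D.group F) ⧸ D.parabolicIn F J) → Prop) [DecidablePred P]
      (Q : (↥(D.group F) ⧸ D.parabolicIn F ∅) → Prop), (∀ x, J ⊆ ascSet D T (cell x).word → (P (π J x) ↔ Q x)) →
      (Finset.univ.filter P).card = (Finset.univ.filter fun x => Q x ∧ J ⊆ ascSet D T (cell x).word).card := by
    intro J hJ P _ Q hPQ
    refine (Finset.card_bij (fun x _ => π J x) ?_ ?_ ?_).symm
    · intro x hx
      simp only [Finset.mem_filter, Finset.mem_univ, true_and] at hx ⊢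
      exact (hPQ x hx.2).2 hx.1
    · intro x hx y hy e
      simp only [Finset.mem_filter, Finset.mem_univ, true_and] at hx hy
      exact congrArg Subtype.val ((hbij J hJ).1 (a₁ := ⟨x, hx.2⟩) (a₂ := ⟨y, hy.2⟩) e)
    · intro y hy
      simp only [Finset.mem_filter, Finset.mem_univ, true_and] at hy
      obtain ⟨⟨x, hx⟩, rfl⟩ := (hbij J hJ).2 y
      exact ⟨x, by simp only [Finset.mem_filter, Finset.mem_univ, true_and]; exact ⟨(hPQ x hx).1 hy, hx⟩, rfl⟩
  let WS : Finset (WElt D T) := Finset.univ.filter fun pw => WInS (↑S : Set ℕ) pw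
  let L : WElt D T → ℤ := fun pw => q ^ (negSet D T pw.word).card
  have hY : ∀ J, J ⊆ S → ((Y J).card : ℤ) =
      ∑ pw ∈ WS.filter (fun pw => J ⊆ ascSet D T pw.word), L pw := by
    intro J hJ
    rw [htrans J hJ _ (fun x => CosetIn D F S ∅ x) fun x _ => hπin J hJ x,
      Finset.card_eq_sum_card_fiberwise (f := cell) (t := WS.filter (fun pw => J ⊆ ascSet D T pw.word))
        (fun x hx => by
          simp only [Finset.coe_filter, Finset.mem_univ, true_and, Set.mem_ofPred_eq] at hx
          simp only [WS, Finset.coe_filter, Finset.mem_filter, Finset.mem_univ, true_and, Set.mem_ofPred_eq]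
          exact ⟨(hin x).1 hx.1, hx.2⟩)]
    push_cast
    refine Finset.sum_congr rfl fun pw hpw => ?_
    simp only [WS, Finset.mem_filter, Finset.mem_univ, true_and] at hpw
    rw [Finset.filter_filter]
    refine Eq.trans ?_ (hfib pw)
    congr 2
    refine Finset.filter_congr fun x _ => ⟨fun h => h.2, fun h => ⟨⟨(hin x).2 (h ▸ hpw.1), h ▸ hpw.2⟩, h⟩⟩
  -- the identity
  have hflip : ∀ J, J ⊆ S → q ^ (posSub D (↑J : Set ℕ)).card * ((Y J).card : ℤ) =
      ∑ pw ∈ WS.filter (fun pw => J ∩ ascSet D T pw.word = ∅), L pw := by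
    intro J hJ
    obtain ⟨a, ha, hneg⟩ := exists_long_inW C K (↑J : Set ℕ)
    have haS : InW D (↑S : Set ℕ) a := ⟨ha.1, fun i hi => hJ (ha.2 i hi)⟩
    have hrneg := long_inW_reverse C K ha hneg
    rw [hY J hJ, Finset.mul_sum]
    choose sh hsh using fun (pw : WElt D T) => WElt.exists_of_word (T := T) (pw.isWord.append ha.1)
    choose sh' hsh' using fun (pw : WElt D T) => WElt.exists_of_word (T := T) (pw.isWord.append ha.1.reverse)
    have hpre : ∀ k ∈ J, ∀ (pw : WElt D T) (b : List ℕ), InW D (↑J : Set ℕ) b →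
        (∀ s, D.InRootSub (↑J : Set ℕ) s → D.nroots ≤ 2 * s → 2 * wperm T b s < D.nroots) →
        D.InRootSub (↑J : Set ℕ) (wperm T b (T.simp' k)) ∧ 2 * wperm T b (T.simp' k) < D.nroots := by
      intro k hk pw b hb hbn
      have hkr := Finset.mem_range.1 (hS (hJ hk))
      have h := inRootSub_simple C hkr (Finset.mem_coe.2 hk)
      exact ⟨inW_inRootSub C hb h, hbn _ h (K.simple_pos hkr)⟩
    refine Finset.sum_bij' (fun pw _ => sh pw) (fun pw _ => sh' pw) ?_ ?_ ?_ ?_ ?_
    · intro pw hpw
      simp only [WS, Finset.mem_filter, Finset.mem_univ, true_and] at hpw ⊢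
      obtain ⟨⟨w, hw, hsame⟩, hR⟩ := hpw
      rw [subset_ascSet (hJ.trans hS)] at hR
      refine ⟨⟨w ++ a, hw.append haS, (hsh pw).trans fun s hs => by
        rw [wperm_append, wperm_append, hsame _ (wperm_lt C ha.1 hs)]⟩, ?_⟩
      rw [ascSet_congr C K (hsh pw)]
      refine Finset.eq_empty_of_forall_notMem fun k hk => ?_
      obtain ⟨h1, h2⟩ := Finset.mem_inter.1 hk
      obtain ⟨g1, g2⟩ := hpre k h1 pw a ha hneg
      have h3 := (Finset.mem_filter.1 h2).2
      have h4 := rmin_neg C K pw.isWord hR g1 g2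
      rw [wperm_append] at h3
      omega
    · intro pw hpw
      simp only [WS, Finset.mem_filter, Finset.mem_univ, true_and] at hpw ⊢
      obtain ⟨⟨w, hw, hsame⟩, hdesc⟩ := hpw
      refine ⟨⟨w ++ a.reverse, hw.append haS.reverse, (hsh' pw).trans fun s hs => by
        rw [wperm_append, wperm_append, hsame _ (wperm_lt C ha.1.reverse hs)]⟩, ?_⟩
      rw [ascSet_congr C K (hsh' pw)]
      intro k hk
      have hkr := Finset.mem_range.1 (hS (hJ hk))
      refine Finset.mem_filter.2 ⟨Finset.mem_range.2 hkr, ?_⟩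
      obtain ⟨g1, g2⟩ := hpre k hk pw a.reverse ha.reverse hrneg
      have hsn := wperm_lt C ha.1.reverse (C.spec.simp_lt k hkr)
      rw [wperm_append]
      by_contra hn
      have h5 : ∀ i ∈ (↑J : Set ℕ), i < D.rank → 2 * wperm T pw.word (T.simp' i) < D.nroots := by
        intro i hi hir
        by_contra hni
        have : i ∈ J ∩ ascSet D T pw.word := Finset.mem_inter.2
          ⟨hi, Finset.mem_filter.2 ⟨Finset.mem_range.2 hir, le_of_not_gt hni⟩⟩
        rw [hdesc] at this
        exact Finset.notMem_empty i this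
      have h6 := long_inW_asc C K pw.isWord h5 (inRootSub_neg C g1) ((K.neg_pos_iff hsn).2 g2)
      rw [wperm_neg C pw.isWord hsn] at h6
      exact hn (by
        by_contra hn2
        have := (K.neg_pos_iff (wperm_lt C pw.isWord hsn)).2 (lt_of_not_ge hn2)
        omega)
    · intro pw _
      refine WElt.ext_word fun s hs => ?_
      rw [hsh' _ s hs, wperm_append, hsh pw _ (wperm_lt C ha.1.reverse hs), wperm_append, wperm_rev C ha.1 hs]
    · intro pw _
      refine WElt.ext_word fun s hs => ?_
      rw [hsh _ s hs, wperm_append, hsh' pw _ (wperm_lt C ha.1 hs), wperm_append, wperm_reverse C ha.1 hs]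
    · intro pw hpw
      simp only [WS, Finset.mem_filter, Finset.mem_univ, true_and] at hpw
      simp only [L]
      rw [← pow_add, negSet_congr (hsh pw),
        card_negSet_long C K pw.isWord ((subset_ascSet (hJ.trans hS)).1 hpw.2) ha hneg, add_comm]
  have hone : ∑ J ∈ S.powerset, (-1 : ℤ) ^ J.card * (q ^ (posSub D (↑J : Set ℕ)).card * ((Y J).card : ℤ)) = 1 := by
    have h1 : ∀ J ∈ S.powerset, (-1 : ℤ) ^ J.card * (q ^ (posSub D (↑J : Set ℕ)).card * ((Y J).card : ℤ)) =
        ∑ pw ∈ WS, (if J ⊆ S \ ascSet D T pw.word then (-1 : ℤ) ^ J.card else 0) * L pw := by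
      intro J hJ
      rw [Finset.mem_powerset] at hJ
      rw [hflip J hJ, Finset.sum_filter, Finset.mul_sum]
      refine Finset.sum_congr rfl fun pw _ => ?_
      have he : (J ⊆ S \ ascSet D T pw.word) ↔ J ∩ ascSet D T pw.word = ∅ := by
        rw [Finset.subset_sdiff, ← Finset.disjoint_iff_inter_eq_empty]
        exact ⟨fun h => h.2, fun h => ⟨hJ, h⟩⟩
      simp only [he]
      split_ifs <;> ring
    rw [Finset.sum_congr rfl h1, Finset.sum_comm]
    obtain ⟨p1, hp1⟩ := WElt.exists_of_word (D := D) (T := T) (v := []) (fun _ h => absurd h List.not_mem_nil)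
    have hp1S : p1 ∈ WS := by
      simp only [WS, Finset.mem_filter, Finset.mem_univ, true_and]
      exact ⟨[], inW_nil _, hp1⟩
    simp only [← Finset.sum_mul, sum_powerset_subset C]
    rw [Finset.sum_eq_single p1]
    · rw [if_pos]
      · simp only [L, one_mul]
        rw [negSet_congr hp1]
        have : negSet D T ([] : List ℕ) = ∅ := Finset.eq_empty_of_forall_notMem fun s hs => by
          obtain ⟨-, h2, h3⟩ := mem_negSet.1 hs
          change 2 * s < D.nroots at h3
          omega
        rw [this, Finset.card_empty, pow_zero]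
      · rw [ascSet_congr C K hp1]
        refine Finset.eq_empty_of_forall_notMem fun k hk => ?_
        obtain ⟨-, h2⟩ := Finset.mem_inter.1 hk
        rw [Finset.mem_sdiff] at h2
        exact h2.2 (Finset.mem_filter.2 ⟨hS h2.1, K.simple_pos (Finset.mem_range.1 (hS h2.1))⟩)
    · intro pw hpw hne
      rw [if_neg, zero_mul]
      intro hemp
      simp only [WS, Finset.mem_filter, Finset.mem_univ, true_and] at hpw
      obtain ⟨w, hw, hsame⟩ := hpw
      refine hne (WElt.ext_word ((hsame.trans (inW_nil_of_min C K hw fun k hk hkr => ?_)).trans hp1.symm))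
      by_contra hn
      have : k ∈ S ∩ (S \ ascSet D T pw.word) := by
        refine Finset.mem_inter.2 ⟨hk, Finset.mem_sdiff.2 ⟨hk, fun h => hn ?_⟩⟩
        rw [ascSet_congr C K hsame] at h
        exact (Finset.mem_filter.1 h).2
      rw [hemp] at this
      exact Finset.notMem_empty k this
    · exact fun h => absurd hp1S h
  -- the alternating sums of fixed cosets
  let fx : (J : Finset ℕ) → ↥(D.group F) → ℤ := fun J u => (((Y J).filter fun y => u • y = y).card : ℤ)
  let Φ : ↥(D.group F) → ℤ := fun u => ∑ J ∈ S.powerset, (-1 : ℤ) ^ J.card * fx J u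
  have hsmul : ∀ x ∈ D.parabolicIn F S, ∀ J (y : ↥(D.group F) ⧸ D.parabolicIn F J),
      CosetIn D F S J (x • y) ↔ CosetIn D F S J y := by
    intro x hx J y
    constructor
    · rintro ⟨g, hg, e⟩
      refine ⟨x⁻¹ * g, mul_mem (inv_mem hx) hg, ?_⟩
      rw [← smul_eq_mul, ← MulAction.Quotient.smul_coe, e, inv_smul_smul]
    · rintro ⟨g, hg, rfl⟩
      exact ⟨x * g, mul_mem hx hg, rfl⟩
  have hconj : ∀ J, ∀ x ∈ D.parabolicIn F S, ∀ u, fx J (x * u * x⁻¹) = fx J u := by
    intro J x hx u
    simp only [fx]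
    congr 1
    refine (Finset.card_bij (fun y _ => x • y) ?_ ?_ ?_).symm
    · intro y hy
      simp only [Y, Finset.mem_filter, Finset.mem_univ, true_and] at hy ⊢
      refine ⟨(hsmul x hx J y).2 hy.1, ?_⟩
      rw [mul_smul, mul_smul, inv_smul_smul, hy.2]
    · intro y _ z _ e; exact MulAction.injective x e
    · intro y hy
      simp only [Y, Finset.mem_filter, Finset.mem_univ, true_and] at hy ⊢
      refine ⟨x⁻¹ • y, ⟨(hsmul x hx J _).1 (by rw [smul_inv_smul]; exact hy.1), ?_⟩, smul_inv_smul x y⟩
      have e := hy.2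
      rw [mul_smul, mul_smul] at e
      rw [eq_inv_smul_iff]; exact e
  have hΦU : ∀ u ∈ U', Φ u = if u ∈ R' then q ^ (posSub D (↑S : Set ℕ)).card else 0 := by
    intro u hu
    have huB : (u : GL D.Idx F) ∈ D.borelSubgroup F := Subgroup.mem_sup_left hu
    have hst : ∀ x, cell (u • x) = cell x := by
      intro x
      induction x using QuotientGroup.induction_on with
      | H g =>
        refine WElt.ext_word ?_
        have h2 := bCell_mul C huB (one_mem _) (hcell g)
        rw [mul_one] at h2
        exact bCell_disjoint C K (cell _).isWord (cell g).isWord (hcell (u * g))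
          (by rw [Subgroup.coe_mul]; exact h2)
    have hfx : ∀ J ∈ S.powerset, (-1 : ℤ) ^ J.card * fx J u =
        ∑ x ∈ Finset.univ.filter (fun x : ↥(D.group F) ⧸ D.parabolicIn F ∅ => CosetIn D F S ∅ x ∧ u • x = x),
          (if J ⊆ ascSet D T (cell x).word then (-1 : ℤ) ^ J.card else 0) := by
      intro J hJ
      rw [Finset.mem_powerset] at hJ
      simp only [fx, Y, Finset.filter_filter]
      have hPQ : ∀ x, J ⊆ ascSet D T (cell x).word →
          (CosetIn D F S J (π J x) ∧ u • π J x = π J x ↔ CosetIn D F S ∅ x ∧ u • x = x) := by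
        intro x hx
        refine and_congr (hπin J hJ x) ⟨fun e => ?_, fun e => ?_⟩
        · have e' : π J (u • x) = π J x := (quotientMap_smul _ u x).trans e
          exact congrArg Subtype.val ((hbij J hJ).1 (a₁ := ⟨u • x, (hst x).symm ▸ hx⟩) (a₂ := ⟨x, hx⟩) e')
        · exact (quotientMap_smul _ u x).symm.trans (congrArg (π J) e)
      rw [htrans J hJ (fun y => CosetIn D F S J y ∧ u • y = y) (fun x => CosetIn D F S ∅ x ∧ u • x = x) hPQ,
        ← Finset.sum_filter, Finset.filter_filter, Finset.sum_const, nsmul_eq_mul, mul_comm]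
      congr!
    rw [show Φ u = _ from Finset.sum_congr rfl hfx, Finset.sum_comm,
      Finset.sum_congr rfl fun x _ => sum_powerset_subset C S (ascSet D T (cell x).word), Finset.sum_boole,
      Finset.filter_filter]
    obtain ⟨a, ha, hneg⟩ := exists_long_inW C K (↑S : Set ℕ)
    obtain ⟨pl, hpl⟩ := WElt.exists_of_word (T := T) ha.1
    have hkey : ∀ x, (CosetIn D F S ∅ x ∧ S ∩ ascSet D T (cell x).word = ∅) ↔ cell x = pl := by
      intro x
      constructor
      · rintro ⟨h1, h2⟩
        obtain ⟨w, hw, hsame⟩ := (hin x).1 h1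
        have hwd : ∀ k ∈ (↑S : Set ℕ), k < D.rank → 2 * wperm T w (T.simp' k) < D.nroots := by
          intro k hk hkr
          by_contra hn
          have : k ∈ S ∩ ascSet D T (cell x).word := by
            rw [ascSet_congr C K hsame]
            exact Finset.mem_inter.2 ⟨hk, Finset.mem_filter.2 ⟨Finset.mem_range.2 hkr, le_of_not_gt hn⟩⟩
          rw [h2] at this
          exact Finset.notMem_empty k this
        refine WElt.ext_word (hsame.trans (SamePerm.trans ?_ hpl.symm))
        have hmin : SamePerm D T (a.reverse ++ w) [] := inW_nil_of_min C K (ha.reverse.append hw) fun k hk hkr => by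
          have hs := inRootSub_simple C hkr hk
          have hw1 := inW_inRootSub C hw hs
          have hlt := hw1.1
          have hn := hwd k hk hkr
          have h3 := long_inW_reverse C K ha hneg _ (inRootSub_neg C hw1) ((K.neg_pos_iff hlt).2 hn)
          rw [wperm_neg C ha.1.reverse hlt] at h3
          rw [wperm_append]
          by_contra hn2
          have := (K.neg_pos_iff (wperm_lt C ha.1.reverse hlt)).2 (lt_of_not_ge hn2)
          omega
        intro s hs
        have h4 := congrArg (wperm T a) (hmin s hs)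
        rw [wperm_append, wperm_rev C ha.1 (wperm_lt C hw.1 hs)] at h4
        exact h4
      · intro e
        refine ⟨(hin x).2 ⟨a, ha, e ▸ hpl⟩, ?_⟩
        rw [e, ascSet_congr C K hpl]
        refine Finset.eq_empty_of_forall_notMem fun k hk => ?_
        obtain ⟨h1, h2⟩ := Finset.mem_inter.1 hk
        have hkr := Finset.mem_range.1 (hS h1)
        have := hneg _ (inRootSub_simple C hkr (Finset.mem_coe.2 h1)) (K.simple_pos hkr)
        have := (Finset.mem_filter.1 h2).2
        omega
    rw [Finset.filter_congr (q := fun x => cell x = pl ∧ u • x = x) fun x _ => by rw [← hkey x]; tauto]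
    -- the fixed cosets of the long cell
    obtain ⟨e, he⟩ := exists_cell_param C K hcell pl
    have hlong : ∀ s, D.InRootSub (↑S : Set ℕ) s → D.nroots ≤ 2 * s → 2 * wperm T pl.word.reverse s < D.nroots := by
      intro s hs hp
      rw [samePerm_reverse C pl.isWord ha.1 hpl s hs.1]
      exact long_inW_reverse C K ha hneg s hs hp
    have hnP : wnu C F pl.word.reverse ∈ D.parabolicSubgroup F (↑S : Set ℕ) :=
      mem_parabolic_of_cell C K ha.reverse (bCell_congr C K pl.isWord.reverse ha.1.reverse
        (samePerm_reverse C pl.isWord ha.1 hpl) ⟨1, one_mem _, 1, one_mem _, by group⟩)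
    have hfix : ∀ c, u • (e c).1 = (e c).1 ↔ u ∈ R' := by
      intro c
      obtain ⟨g, hg, hgx⟩ := he c
      rw [hgx, MulAction.Quotient.smul_coe, smul_eq_mul, QuotientGroup.eq, parabolicIn_empty C,
        Subgroup.mem_subgroupOf]
      simp only [Subgroup.coe_mul, InvMemClass.coe_inv, hg]
      set n := wnu C F pl.word.reverse with hn
      rw [show ((u : GL D.Idx F) * (n * (c : GL D.Idx F))⁻¹)⁻¹ * (n * (c : GL D.Idx F))⁻¹ =
        n * ((c : GL D.Idx F) * (u : GL D.Idx F)⁻¹ * (c : GL D.Idx F)⁻¹) * n⁻¹ by group]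
      have hcB : (c : GL D.Idx F) ∈ D.parabolicSubgroup F (↑S : Set ℕ) :=
        Subgroup.mem_sup_left (signPart_le_borel C K _ _ c.2)
      have hnorm := parabolic_le_normalizer C K (F := F) (↑S : Set ℕ)
      constructor
      · intro hb
        have hwU : (c : GL D.Idx F) * (u : GL D.Idx F)⁻¹ * (c : GL D.Idx F)⁻¹ ∈ upper C F (D.nroots / 2) := by
          have hcU := (posUnipotent_eq C).ge ((signPart_le_upper C K pl.word.reverse true _) c.2)
          exact (posUnipotent_eq C).le (mul_mem (mul_mem hcU (inv_mem hu)) (inv_mem hcU))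
        obtain ⟨x, hx, c', hc', e'⟩ := upper_split C K pl.word.reverse (D.nroots / 2) (k := D.nroots / 2)
          (by omega) (by omega) hwU
        rw [e'] at hb
        have h1 : n * c' * n⁻¹ ∈ D.borelSubgroup F := by
          have := mul_mem (inv_mem (Subgroup.mem_sup_left (T := D.diagonalSubgroup F)
            ((signPart_conj C K pl.isWord.reverse).2 hx))) hb
          rwa [← hn, show (n * x * n⁻¹)⁻¹ * (n * (x * c') * n⁻¹) = n * c' * n⁻¹ by group] at this
        have h2 := (Subgroup.eq_bot_iff_forall _).1 (borel_inf_neg C) _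
          ⟨h1, (signPart_conj C K pl.isWord.reverse).1 hc'⟩
        have hc1 : c' = 1 := by simpa using h2
        have hxR : x ∈ D.unipotentRadical F (↑S : Set ℕ) := by
          refine (Subgroup.closure_le _).2 ?_ hx
          rintro _ ⟨r, t, h1, h2, h3, rfl⟩
          refine xg_mem_radical C h2 (by omega) (fun hS' => ?_) t
          have := hlong r hS' (by omega)
          have := of_decide_eq_false h3
          omega
        rw [hc1, mul_one] at e'
        rw [← e'] at hxR
        exact (Subgroup.inv_mem_iff _).1 (((Subgroup.mem_normalizer_iff.1 (hnorm hcB)) _).2 hxR)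
      · intro hR
        refine Subgroup.mem_sup_left (radical_le_pos C (↑S : Set ℕ) ((Subgroup.mem_normalizer_iff.1 (hnorm hnP) _).1 ?_))
        exact (Subgroup.mem_normalizer_iff.1 (hnorm hcB) _).1 (inv_mem (show (u : GL D.Idx F) ∈ _ from hR))
    split_ifs with hR
    · rw [Finset.filter_congr (q := fun x => cell x = pl) fun x _ => ⟨fun h => h.1, fun h => ⟨h, by
          obtain ⟨c, hc⟩ := e.surjective ⟨x, h⟩
          have := (hfix c).2 hR
          rwa [hc] at this⟩⟩, hfib pl, negSet_congr hpl, long_inW_neg C K ha hneg]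
    · rw [Finset.filter_eq_empty_iff.2]
      · simp
      · intro x _ h
        obtain ⟨c, hc⟩ := e.surjective ⟨x, h.1⟩
        refine hR ((hfix c).1 ?_)
        rw [hc]; exact h.2
  -- the double count
  let Up : Finset ↥(D.group F) := Finset.univ.filter fun u => IsUnip p u ∧ u ∈ D.parabolicIn F S
  let f : Finset ℕ → ℤ := fun J => (Nat.card {u : ↥(D.group F) // IsUnip p u ∧ u ∈ D.parabolicIn F J} : ℤ)
  have hUp : ∀ u ∈ Up, Φ u = if u ∈ R' then q ^ (posSub D (↑S : Set ℕ)).card else 0 := by
    intro u hu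
    simp only [Up, Finset.mem_filter, Finset.mem_univ, true_and] at hu
    obtain ⟨x, hx, hxu⟩ := exists_conj_pos C K p hu.1 hu.2
    have := hΦU _ hxu
    simp only [Φ, hconj _ x hx u, hRnorm x hx u] at this
    exact this
  have hUR : Up.filter (fun u => u ∈ R') = Finset.univ.filter fun u => u ∈ R' := by
    ext u
    simp only [Up, Finset.mem_filter, Finset.mem_univ, true_and]
    refine ⟨fun h => h.2, fun h => ⟨⟨?_, pos_le_parabolic C K (radical_le_pos C _ h)⟩, h⟩⟩
    obtain ⟨P, hP⟩ := exists_sylow C K (F := F) p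
    have hmem : u ∈ (P : Subgroup ↥(D.group F)) := by rw [hP]; exact radical_le_pos C _ h
    obtain ⟨k, hk⟩ := IsPGroup.iff_orderOf.1 P.isPGroup' ⟨u, hmem⟩
    exact ⟨k, (Subgroup.orderOf_coe (⟨u, hmem⟩ : ↥(P : Subgroup ↥(D.group F)))).trans hk⟩
  have htot : ∑ u ∈ Up, Φ u = q ^ N := by
    rw [Finset.sum_congr rfl hUp, ← Finset.sum_filter, Finset.sum_const, nsmul_eq_mul, hUR, ← Fintype.card_subtype,
      ← Nat.card_eq_fintype_card, ← card_radical_pow C K (F := F) (↑S : Set ℕ), hq]
    congr 1
    exact congrArg Nat.cast (Nat.card_congr (Subgroup.subgroupOfEquivOfLe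
      ((radical_le_pos C _).trans (pos_le_group C))).toEquiv)
  have hsum : ∀ J ∈ S.powerset, ∑ u ∈ Up, fx J u = ((Y J).card : ℤ) * f J := by
    intro J hJ
    rw [Finset.mem_powerset] at hJ
    have hst : ∀ y ∈ Y J, (∑ u ∈ Up, if u • y = y then (1 : ℤ) else 0) = f J := by
      intro y hy
      simp only [Y, Finset.mem_filter, Finset.mem_univ, true_and] at hy
      obtain ⟨g, hg, rfl⟩ := hy
      rw [Finset.sum_boole]
      simp only [f, Up, Finset.filter_filter]
      rw [Nat.card_eq_fintype_card, Fintype.card_subtype]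
      congr 1
      refine Finset.card_bij (fun u _ => g⁻¹ * u * g) ?_ (fun u _ v _ e => mul_left_cancel (mul_right_cancel e)) ?_
      · intro u hu
        simp only [Finset.mem_filter, Finset.mem_univ, true_and] at hu ⊢
        refine ⟨?_, ?_⟩
        · have := (isUnip_conj C K (x := g⁻¹) (g := u)).2 hu.1.1
          rwa [inv_inv] at this
        · have e := hu.2
          rw [MulAction.Quotient.smul_coe, smul_eq_mul, QuotientGroup.eq] at e
          have e' := inv_mem e
          rwa [show ((u * g)⁻¹ * g)⁻¹ = g⁻¹ * u * g by group] at e'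
      · intro v hv
        simp only [Finset.mem_filter, Finset.mem_univ, true_and] at hv ⊢
        refine ⟨g * v * g⁻¹, ⟨⟨(isUnip_conj C K).2 hv.1, mul_mem (mul_mem hg (parabolicIn_mono C K hJ hv.2))
          (inv_mem hg)⟩, ?_⟩, by group⟩
        rw [MulAction.Quotient.smul_coe, smul_eq_mul, QuotientGroup.eq,
          show (g * v * g⁻¹ * g)⁻¹ * g = v⁻¹ by group]
        exact inv_mem hv.2
    calc ∑ u ∈ Up, fx J u = ∑ u ∈ Up, ∑ y ∈ Y J, if u • y = y then (1 : ℤ) else 0 :=
          Finset.sum_congr rfl fun u _ => by rw [Finset.sum_boole]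
      _ = ∑ y ∈ Y J, ∑ u ∈ Up, if u • y = y then (1 : ℤ) else 0 := Finset.sum_comm
      _ = _ := by rw [Finset.sum_congr rfl hst, Finset.sum_const, nsmul_eq_mul]
  have heq : ∑ J ∈ S.powerset, (-1 : ℤ) ^ J.card * (((Y J).card : ℤ) * f J) = q ^ N := by
    rw [← htot, Finset.sum_congr rfl fun J hJ => by rw [← hsum J hJ, Finset.mul_sum], Finset.sum_comm]
  have hdiff : ∑ J ∈ S.powerset, (-1 : ℤ) ^ J.card * (((Y J).card : ℤ) *
      (f J - q ^ N * q ^ (posSub D (↑J : Set ℕ)).card)) = 0 := by
    have h1 : ∑ J ∈ S.powerset, (-1 : ℤ) ^ J.card * (((Y J).card : ℤ) * (q ^ N * q ^ (posSub D (↑J : Set ℕ)).card)) =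
        q ^ N := by
      conv_rhs => rw [← mul_one (q ^ N), ← hone, Finset.mul_sum]
      refine Finset.sum_congr rfl fun J _ => by ring
    simp only [mul_sub, Finset.sum_sub_distrib]
    rw [heq, h1, sub_self]
  rw [Finset.sum_eq_single S] at hdiff
  · have hYS : (Y S).card = 1 := by
      rw [Finset.card_eq_one]
      refine ⟨((1 : ↥(D.group F)) : ↥(D.group F) ⧸ D.parabolicIn F S), Finset.ext fun y => ?_⟩
      simp only [Y, Finset.mem_filter, Finset.mem_univ, true_and, Finset.mem_singleton]
      refine ⟨?_, fun h => ⟨1, one_mem _, h.symm⟩⟩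
      rintro ⟨g, hg, rfl⟩
      exact QuotientGroup.eq.2 (by rw [mul_one]; exact inv_mem hg)
    rw [hYS, Nat.cast_one, one_mul] at hdiff
    exact sub_eq_zero.1 ((mul_eq_zero.1 hdiff).resolve_left (pow_ne_zero _ (by norm_num)))
  · intro J hJ hne
    rw [Finset.mem_powerset] at hJ
    have := ih J (Finset.ssubset_iff_subset_ne.2 ⟨hJ, hne⟩) (hJ.trans hS)
    simp only [f, this, sub_self, mul_zero]
  · exact fun h => absurd (Finset.mem_powerset_self S) h

theorem mem_parabolicIn_range (g : ↥(D.group F)) : g ∈ D.parabolicIn F (Finset.range D.rank) := by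
  obtain ⟨w, hw, b, hb, c, hc, e⟩ := bruhat_normal C K g.2
  exact mem_parabolic_of_cell C K (S := (↑(Finset.range D.rank) : Set ℕ))
    ⟨hw, fun i hi => Finset.mem_coe.2 (Finset.mem_range.2 (hw i hi))⟩ ⟨b, hb, c, signPart_le_borel C K _ _ hc, e⟩

theorem card_unipotent [Fintype F] (p : ℕ) [Fact p.Prime] [CharP F p] :
    Nat.card {g : ↥(D.group F) // ∃ k : ℕ, orderOf g = p ^ k} = Fintype.card F ^ (2 * (D.nroots / 2)) := by
  have h := card_unip_parabolic C K (F := F) p (Finset.range D.rank) subset_rfl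
  rw [posSub_univ C K, ← pow_add, ← two_mul] at h
  rw [← Nat.card_eq_fintype_card (α := F),
    Nat.card_congr (Equiv.subtypeEquivRight fun g => (and_iff_left (mem_parabolicIn_range C K g)).symm)]
  exact_mod_cast h

end

end Cfsg.Lib.Chev
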