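import Cfsg.Agent.Lib.Chev.WeakClosedChk
import Cfsg.Agent.Lib.Chev.FullAll

/-! The certificates for weakly closed subgroups. -/

set_option autoImplicit false
set_option maxRecDepth 4000

namespace Cfsg.Lib.Chev

def wcListG2_2 : List (ℕ × ℕ × ℕ) :=
  [(11, 6, 10), (10, 7, 8), (9, 6, 7), (8, 7, 6)]

theorem wcChkG2_2 : chkWC tblG2 2 2 wcListG2_2 [] = true := by decide +kernel

def wcListG2_3 : List (ℕ × ℕ × ℕ) :=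
  [(11, 6, 10), (9, 7, 8), (10, 6, 7), (8, 7, 6)]

theorem wcChkG2_3 : chkWC tblG2 3 2 wcListG2_3 [] = true := by decide +kernel

def wcListG2_0 : List (ℕ × ℕ × ℕ) :=
  [(11, 6, 10), (10, 7, 8), (9, 8, 7), (8, 6, 7)]

theorem wcChkG2_0 : chkWC tblG2 0 2 wcListG2_0 [] = true := by decide +kernel

def wcSepG2 : List (ℕ × ℕ × List ℤ) :=
  [(0, 1, [2, 3]), (1, 0, [1, 2])]

theorem wcSepChkG2 : chkSep tblG2 2 wcSepG2 = true := by decide +kernel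

theorem wcCertG2 : WCCert tblG2 2 :=
  ⟨⟨_, wcChkG2_2⟩, ⟨_, wcChkG2_3⟩, ⟨_, wcChkG2_0⟩, ⟨_, wcSepChkG2⟩⟩

def wcListB2_2 : List (ℕ × ℕ × ℕ) :=
  [(7, 4, 5), (6, 5, 4)]

theorem wcChkB2_2 : chkWC tblB2 2 2 wcListB2_2 [] = true := by decide +kernel

theorem wcChkB2_3 : chkWC tblB2 3 2 wcListB2_2 [] = true := by decide +kernel

theorem wcChkB2_0 : chkWC tblB2 0 2 wcListB2_2 [] = true := by decide +kernel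

def wcSepB2 : List (ℕ × ℕ × List ℤ) :=
  [(0, 1, [1, 1]), (1, 0, [1, 2])]

theorem wcSepChkB2 : chkSep tblB2 2 wcSepB2 = true := by decide +kernel

theorem wcCertB2 : WCCert tblB2 2 :=
  ⟨⟨_, wcChkB2_2⟩, ⟨_, wcChkB2_3⟩, ⟨_, wcChkB2_0⟩, ⟨_, wcSepChkB2⟩⟩

def wcListD4_2 : List (ℕ × ℕ × ℕ) :=
  [(15, 12, 14), (17, 12, 16), (20, 12, 19), (22, 12, 21), (16, 13, 14), (21, 13, 19), (19, 14, 18), (23, 14, 22)]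

theorem wcChkD4_2 : chkWC tblD4 2 2 wcListD4_2 [] = true := by decide +kernel

theorem wcChkD4_3 : chkWC tblD4 3 2 wcListD4_2 [] = true := by decide +kernel

theorem wcChkD4_0 : chkWC tblD4 0 2 wcListD4_2 [] = true := by decide +kernel

def wcSepD4 : List (ℕ × ℕ × List ℤ) :=
  [(0, 1, [0, 1, 2, 0]), (0, 2, [1, 0, 0, 0]), (0, 3, [1, 0, 0, 0]), (1, 0, [0, 0, 1, 0]), (1, 2, [1, 0, 0, 0]), (1, 3, [1, 0, 0, 0]), (2, 0, [0, 0, 1, 0]), (2, 1, [2, 1, 0, 0]), (2, 3, [0, 0, 1, 0]), (3, 0, [0, 0, 0, 1]), (3, 1, [2, 1, 0, 0]), (3, 2, [0, 0, 0, 1])]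

theorem wcSepChkD4 : chkSep tblD4 2 wcSepD4 = true := by decide +kernel

theorem wcCertD4 : WCCert tblD4 2 :=
  ⟨⟨_, wcChkD4_2⟩, ⟨_, wcChkD4_3⟩, ⟨_, wcChkD4_0⟩, ⟨_, wcSepChkD4⟩⟩

def wcListF4_2 : List (ℕ × ℕ × ℕ) :=
  [(26, 24, 25), (32, 24, 28), (31, 24, 30), (43, 24, 35), (45, 24, 37), (42, 24, 41), (47, 24, 46), (30, 25, 27), (41, 25, 34), (39, 25, 38), (46, 25, 45), (29, 26, 27), (36, 26, 34), (28, 27, 25), (34, 27, 33), (37, 27, 35), (38, 27, 36), (40, 27, 39), (44, 27, 43), (35, 28, 33)]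

theorem wcChkF4_2 : chkWC tblF4 2 2 wcListF4_2 [] = true := by decide +kernel

theorem wcChkF4_3 : chkWC tblF4 3 2 wcListF4_2 [] = true := by decide +kernel

theorem wcChkF4_0 : chkWC tblF4 0 2 wcListF4_2 [] = true := by decide +kernel

def wcSepF4 : List (ℕ × ℕ × List ℤ) :=
  [(0, 1, [0, 1, 2, 0]), (0, 2, [1, 0, 0, 0]), (0, 3, [0, 1, 0, 0]), (1, 0, [0, 0, 1, 0]), (1, 2, [1, 0, 0, 0]), (1, 3, [1, 0, 0, 0]), (2, 0, [0, 0, 0, 1]), (2, 1, [0, 0, 0, 1]), (2, 3, [0, 1, 0, 0]), (3, 0, [0, 0, 1, 0]), (3, 1, [0, 0, 0, 1]), (3, 2, [0, 1, 1, 0])]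

theorem wcSepChkF4 : chkSep tblF4 2 wcSepF4 = true := by decide +kernel

theorem wcCertF4 : WCCert tblF4 2 :=
  ⟨⟨_, wcChkF4_2⟩, ⟨_, wcChkF4_3⟩, ⟨_, wcChkF4_0⟩, ⟨_, wcSepChkF4⟩⟩

def wcListE6_2 : List (ℕ × ℕ × ℕ) :=
  [(38, 36, 37), (41, 36, 40), (45, 36, 44), (49, 36, 48), (52, 36, 51), (54, 36, 53), (60, 36, 59), (63, 36, 62), (65, 36, 64), (68, 36, 67), (40, 37, 39), (44, 37, 43), (48, 37, 47), (51, 37, 50), (55, 37, 54), (59, 37, 58), (62, 37, 61), (66, 37, 65), (69, 37, 68), (43, 39, 42), (47, 39, 46), (53, 39, 51), (58, 39, 57), (64, 39, 62), (70, 39, 69), (50, 42, 47), (57, 42, 56), (67, 42, 64), (61, 46, 58), (71, 46, 70)]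

theorem wcChkE6_2 : chkWC tblE6 2 1 wcListE6_2 [] = true := by decide +kernel

theorem wcChkE6_3 : chkWC tblE6 3 1 wcListE6_2 [] = true := by decide +kernel

theorem wcChkE6_0 : chkWC tblE6 0 1 wcListE6_2 [] = true := by decide +kernel

def wcSepE6 : List (ℕ × ℕ × List ℤ) :=
  [(0, 1, [0, 0, 1, 0, 0, 0]), (0, 2, [0, 0, 1, 2, 0, 0]), (0, 3, [0, 1, -1, 0, 0, 0]), (0, 4, [0, 0, 1, 0, 0, 0]), (0, 5, [0, 0, 1, 0, 0, 0]), (1, 0, [0, 0, 0, 1, 0, 0]), (1, 2, [1, 0, 0, -1, 0, 0]), (1, 3, [0, 0, 2, 1, 0, 0]), (1, 4, [0, 0, 0, 1, 0, -1]), (1, 5, [0, 0, 0, 1, 0, 0]), (2, 0, [0, 0, 0, 1, 0, 0]), (2, 1, [1, 0, 0, 0, 0, 0]), (2, 3, [1, 0, 0, 0, 0, 0]), (2, 4, [1, 0, 0, 0, 0, 0]), (2, 5, [1, 0, 0, 0, 0, 0]), (3, 0, [0, 1, 0, 0, 0, 0]), (3, 1, [0, 0, 1, 0, 0, 0]), (3, 2, [0, 1, 0, 0, 0, 0]), (3, 4, [0, 1, 0, 0, 0, 0]),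 (3, 5, [0, 1, 0, 0, 0, 0]), (4, 0, [0, 0, 0, 1, 0, 0]), (4, 1, [0, 0, 0, 0, 0, 1]), (4, 2, [0, 0, 0, 0, 0, 1]), (4, 3, [0, 0, 0, 0, 0, 1]), (4, 5, [0, 0, 0, 1, 0, 0]), (5, 0, [0, 0, 0, 0, 1, 0]), (5, 1, [0, 0, 0, 0, 1, 0]), (5, 2, [0, 0, 0, 0, 1, 0]), (5, 3, [0, 1, 0, 0, -1, 0]), (5, 4, [0, 0, 0, 2, 1, 0])]

theorem wcSepChkE6 : chkSep tblE6 1 wcSepE6 = true := by decide +kernel

theorem wcCertE6 : WCCert tblE6 1 :=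
  ⟨⟨_, wcChkE6_2⟩, ⟨_, wcChkE6_3⟩, ⟨_, wcChkE6_0⟩, ⟨_, wcSepChkE6⟩⟩

def wcListE7_2 : List (ℕ × ℕ × ℕ) :=
  [(65, 63, 64), (68, 63, 67), (72, 63, 71), (77, 63, 76), (82, 63, 81), (86, 63, 85), (89, 63, 88), (91, 63, 90), (98, 63, 97), (102, 63, 101), (105, 63, 104), (107, 63, 106), (111, 63, 110), (113, 63, 112), (116, 63, 115), (120, 63, 119), (67, 64, 66), (71, 64, 70), (76, 64, 75), (81, 64, 80), (85, 64, 84), (88, 64, 87), (92, 64, 91), (97, 64, 96), (101, 64, 100), (104, 64, 103), (108, 64, 107), (110, 64, 109), (114, 64, 113), (117, 64, 116), (121, 64, 120), (70, 66, 69), (75, 66, 74), (80, 66, 79), (84, 66, 83), (90, 66, 88), (96, 66, 95), (100, 66, 99), (106, 66, 104), (112, 66, 110), (118, 66, 117), (122, 66, 121), (74, 69, 73), (79, 69, 78), (87, 69, 84), (95, 69, 94), (103, 69, 100), (115,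 69, 112), (123, 69, 122), (83, 73, 79), (94, 73, 93), (109, 73, 103), (124, 73, 123), (99, 78, 95), (119, 78, 115), (125, 93, 124)]

theorem wcChkE7_2 : chkWC tblE7 2 1 wcListE7_2 [] = true := by decide +kernel

theorem wcChkE7_3 : chkWC tblE7 3 1 wcListE7_2 [] = true := by decide +kernel

theorem wcChkE7_0 : chkWC tblE7 0 1 wcListE7_2 [] = true := by decide +kernel

def wcSepE7 : List (ℕ × ℕ × List ℤ) :=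
  [(0, 1, [0, 0, 1, 0, 0, 0, 0]), (0, 2, [0, 0, 1, 2, 0, 0, 0]), (0, 3, [0, 1, -1, 0, 0, 0, 0]), (0, 4, [0, 0, 1, 0, 0, 0, 0]), (0, 5, [0, 0, 1, 0, 0, 0, 0]), (0, 6, [0, 0, 1, 0, 0, 0, 0]), (1, 0, [0, 0, 0, 1, 0, 0, 0]), (1, 2, [1, 0, 0, -1, 0, 0, 0]), (1, 3, [0, 0, 2, 1, 0, 0, 0]), (1, 4, [0, 0, 0, 1, 0, -1, 0]), (1, 5, [0, 0, 0, 1, 0, 0, 0]), (1, 6, [0, 0, 0, 1, 0, 0, 0]), (2, 0, [0, 0, 0, 1, 0, 0, 0]), (2, 1, [1, 0, 0, 0, 0, 0, 0]), (2, 3, [1, 0, 0, 0, 0, 0, 0]), (2, 4, [1, 0, 0, 0, 0, 0, 0]), (2, 5, [1, 0, 0, 0, 0, 0, 0]), (2, 6, [1, 0, 0, 0, 0, 0, 0]), (3, 0, [0, 1, 0, 0, 0, 0, 0]), (3, 1, [0, 0, 1, 0, 0, 0, 0]), (3, 2, [0, 1, 0, 0, 0, 0, 0]), (3, 4, [0, 1, 0, 0, 0, 0, 0]), (3, 5, [0, 1, 0, 0, 0, 0, 0]), (3, 6, [0, 1, 0, 0, 0, 0, 0]), (4, 0, [0, 0, 0, 1, 0, 0, 0]), (4, 1, [0, 0, 0, 0, 0, 1, 0]),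 (4, 2, [0, 0, 0, 0, 0, 1, 0]), (4, 3, [0, 0, 0, 0, 0, 1, 0]), (4, 5, [0, 0, 0, 1, 0, 0, 0]), (4, 6, [0, 0, 0, 1, 0, 0, 0]), (5, 0, [0, 0, 0, 0, 1, 0, 0]), (5, 1, [0, 0, 0, 0, 1, 0, 0]), (5, 2, [0, 0, 0, 0, 1, 0, 0]), (5, 3, [0, 0, 0, 0, 0, 0, 1]), (5, 4, [0, 0, 0, 0, 0, 0, 1]), (5, 6, [0, 0, 0, 0, 1, 0, 0]), (6, 0, [0, 0, 0, 0, 0, 1, 0]), (6, 1, [0, 0, 0, 0, 0, 1, 0]), (6, 2, [0, 0, 0, 0, 0, 1, 0]), (6, 3, [0, 0, 0, 0, 0, 1, 0]), (6, 4, [0, 0, 0, 1, 0, -1, 0]), (6, 5, [0, 0, 0, 0, 2, 1, 0])]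

theorem wcSepChkE7 : chkSep tblE7 1 wcSepE7 = true := by decide +kernel

theorem wcCertE7 : WCCert tblE7 1 :=
  ⟨⟨_, wcChkE7_2⟩, ⟨_, wcChkE7_3⟩, ⟨_, wcChkE7_0⟩, ⟨_, wcSepChkE7⟩⟩

def wcListE8_2 : List (ℕ × ℕ × ℕ) :=
  [(122, 120, 121), (125, 120, 124), (129, 120, 128), (134, 120, 133), (140, 120, 139), (146, 120, 145), (151, 120, 150), (155, 120, 154), (158, 120, 157), (160, 120, 159), (168, 120, 167), (173, 120, 172), (177, 120, 176), (180, 120, 179), (182, 120, 181), (187, 120, 186), (190, 120, 189), (192, 120, 191), (196, 120, 195), (198, 120, 197), (201, 120, 200), (206, 120, 205), (208, 120, 207), (211, 120, 210), (215, 120, 214), (220, 120, 219), (227, 120, 226), (239, 120, 238), (124, 121, 123), (128, 121, 127), (133, 121, 132), (139, 121, 138), (145, 121, 144), (150, 121, 149), (154, 121, 153),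 (157, 121, 156), (161, 121, 160), (167, 121, 166), (172, 121, 171), (176, 121, 175), (179, 121, 178), (183, 121, 182), (186, 121, 185), (189, 121, 188), (193, 121, 192), (195, 121, 194), (199, 121, 198), (202, 121, 201), (205, 121, 204), (209, 121, 208), (212, 121, 211), (216, 121, 215), (221, 121, 220), (228, 121, 227), (238, 121, 237), (127, 123, 126), (132, 123, 131), (138, 123, 137), (144, 123, 143), (149, 123, 148), (153, 123, 152), (159, 123, 157), (166, 123, 165), (171, 123, 170), (175, 123, 174), (181, 123, 179), (185, 123, 184), (191, 123, 189), (197, 123, 195), (203, 123, 202), (207, 123, 205), (213, 123, 212), (217, 123, 216), (222, 123, 221), (229, 123, 228), (237, 123, 236), (131, 126, 130), (137, 126, 136), (143, 126, 142), (148, 126, 147), (156, 126, 153), (165, 126, 164), (170, 126, 169),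 (178, 126, 175), (188, 126, 185), (200, 126, 197), (210, 126, 207), (218, 126, 217), (223, 126, 222), (230, 126, 229), (236, 126, 235), (136, 130, 135), (142, 130, 141), (152, 130, 148), (164, 130, 163), (174, 130, 170), (194, 130, 188), (214, 130, 210), (224, 130, 223), (231, 130, 230), (235, 130, 234), (147, 135, 142), (163, 135, 162), (184, 135, 174), (219, 135, 214), (232, 135, 231), (234, 135, 233), (169, 141, 164), (204, 141, 194), (225, 141, 224), (233, 141, 231), (226, 162, 219)]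

theorem wcChkE8_2 : chkWC tblE8 2 1 wcListE8_2 [] = true := by decide +kernel

theorem wcChkE8_3 : chkWC tblE8 3 1 wcListE8_2 [] = true := by decide +kernel

theorem wcChkE8_0 : chkWC tblE8 0 1 wcListE8_2 [] = true := by decide +kernel

def wcSepE8 : List (ℕ × ℕ × List ℤ) :=
  [(0, 1, [0, 0, 1, 0, 0, 0, 0, 0]), (0, 2, [0, 0, 1, 2, 0, 0, 0, 0]), (0, 3, [0, 1, -1, 0, 0, 0, 0, 0]), (0, 4, [0, 0, 1, 0, 0, 0, 0, 0]), (0, 5, [0, 0, 1, 0, 0, 0, 0, 0]), (0, 6, [0, 0, 1, 0, 0, 0, 0, 0]), (0, 7, [0, 0, 1, 0, 0, 0, 0, 0]), (1, 0, [0, 0, 0, 1, 0, 0, 0, 0]), (1, 2, [1, 0, 0, -1, 0, 0, 0, 0]), (1, 3, [0, 0, 2, 1, 0, 0, 0, 0]), (1, 4, [0, 0, 0, 1, 0, -1, 0, 0]), (1, 5, [0, 0, 0, 1, 0, 0, 0, 0]), (1, 6, [0, 0, 0, 1, 0, 0, 0, 0]), (1, 7, [0, 0, 0, 1, 0, 0, 0, 0]), (2, 0, [0, 0, 0, 1, 0, 0, 0, 0]), (2, 1, [1, 0, 0, 0,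 0, 0, 0, 0]), (2, 3, [1, 0, 0, 0, 0, 0, 0, 0]), (2, 4, [1, 0, 0, 0, 0, 0, 0, 0]), (2, 5, [1, 0, 0, 0, 0, 0, 0, 0]), (2, 6, [1, 0, 0, 0, 0, 0, 0, 0]), (2, 7, [1, 0, 0, 0, 0, 0, 0, 0]), (3, 0, [0, 1, 0, 0, 0, 0, 0, 0]), (3, 1, [0, 0, 1, 0, 0, 0, 0, 0]), (3, 2, [0, 1, 0, 0, 0, 0, 0, 0]), (3, 4, [0, 1, 0, 0, 0, 0, 0, 0]), (3, 5, [0, 1, 0, 0, 0, 0, 0, 0]), (3, 6, [0, 1, 0, 0, 0, 0, 0, 0]), (3, 7, [0, 1, 0, 0, 0, 0, 0, 0]), (4, 0, [0, 0, 0, 1, 0, 0, 0, 0]), (4, 1, [0, 0, 0, 0, 0, 1, 0, 0]), (4, 2, [0, 0, 0, 0, 0, 1, 0, 0]), (4, 3, [0, 0, 0, 0, 0, 1, 0, 0]), (4, 5, [0, 0, 0, 1, 0, 0, 0, 0]), (4, 6, [0, 0, 0, 1, 0, 0, 0, 0]), (4, 7, [0, 0, 0, 1, 0, 0, 0, 0]), (5, 0, [0, 0, 0, 0, 1, 0, 0, 0]), (5, 1, [0, 0, 0, 0, 1, 0, 0, 0]), (5, 2, [0, 0, 0, 0, 1, 0, 0, 0]), (5, 3, [0, 0, 0, 0, 0, 0, 1, 0]), (5, 4, [0, 0, 0,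 0, 0, 0, 1, 0]), (5, 6, [0, 0, 0, 0, 1, 0, 0, 0]), (5, 7, [0, 0, 0, 0, 1, 0, 0, 0]), (6, 0, [0, 0, 0, 0, 0, 1, 0, 0]), (6, 1, [0, 0, 0, 0, 0, 1, 0, 0]), (6, 2, [0, 0, 0, 0, 0, 1, 0, 0]), (6, 3, [0, 0, 0, 0, 0, 1, 0, 0]), (6, 4, [0, 0, 0, 0, 0, 0, 0, 1]), (6, 5, [0, 0, 0, 0, 0, 0, 0, 1]), (6, 7, [0, 0, 0, 0, 0, 1, 0, 0]), (7, 0, [0, 0, 0, 0, 0, 0, 1, 0]), (7, 1, [0, 0, 0, 0, 0, 0, 1, 0]), (7, 2, [0, 0, 0, 0, 0, 0, 1, 0]), (7, 3, [0, 0, 0, 0, 0, 0, 1, 0]), (7, 4, [0, 0, 0, 0, 0, 0, 1, 0]), (7, 5, [0, 0, 0, 0, 1, 0, -1, 0]), (7, 6, [0, 0, 0, 0, 0, 2, 1, 0])]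

theorem wcSepChkE8 : chkSep tblE8 1 wcSepE8 = true := by decide +kernel

theorem wcCertE8 : WCCert tblE8 1 :=
  ⟨⟨_, wcChkE8_2⟩, ⟨_, wcChkE8_3⟩, ⟨_, wcChkE8_0⟩, ⟨_, wcSepChkE8⟩⟩

end Cfsg.Lib.Chev
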